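import Mathlib
import Cfsg.Prelude.Def_CaseTheorems
import Cfsg.Agent.TwoFusion.SectionalRank

/-!
# Calculus of the sectional `p`-rank  (GH-0, S0500)

`srank p G` is the sectional `p`-rank of a finite group `G`; `srank_le_iff` relates it to the frozen
predicate `SectionalPRankLE p k G`.
-/

set_option autoImplicit false
set_option maxHeartbeats 400000

namespace Cfsg.Agent.GH.Rank

open Cfsg Subgroup Cfsg.Agent.TwoFusion.SectionalRank

variable {G H : Type*} [Group G] [Group H]

/-- Sectional ranks are monotone in the bound. -/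
theorem le_mono {p k l : ℕ} (hp : 0 < p) (h : SectionalPRankLE p k G) (hkl : k ≤ l) :
    SectionalPRankLE p l G := fun X N _ A hA h2 =>
  (h X N A hA h2).trans (Nat.pow_le_pow_right hp hkl)

/-- Passage to a group with an injective map into `G`. -/
theorem of_injective [Finite G] {p k : ℕ} (h : SectionalPRankLE p k G) (f : H →* G)
    (hf : Function.Injective f) : SectionalPRankLE p k H := by
  have : Finite H := Finite.of_injective f hf
  rw [sectionalPRankLE_iff] at h ⊢
  intro X Y hXY
  have h1 := h _ _ (hXY.map f)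
  rwa [card_map_of_injective hf, card_map_of_injective hf] at h1

theorem of_equiv [Finite G] {p k : ℕ} (h : SectionalPRankLE p k G) (e : G ≃* H) :
    SectionalPRankLE p k H := of_injective h e.symm.toMonoidHom e.symm.injective

theorem of_subgroup [Finite G] {p k : ℕ} (h : SectionalPRankLE p k G) (K : Subgroup G) :
    SectionalPRankLE p k K := of_injective h K.subtype K.subtype_injective

theorem of_le [Finite G] {p k : ℕ} {K L : Subgroup G} (hKL : K ≤ L) (h : SectionalPRankLE p k L) :
    SectionalPRankLE p k K := of_injective h (inclusion hKL) (inclusion_injective hKL)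

theorem card_comap_of_surjective [Finite G] (f : G →* H) (hf : Function.Surjective f)
    (X : Subgroup H) : Nat.card (X.comap f) = Nat.card f.ker * Nat.card X := by
  have h1 := card_eq_relIndex_mul (X.comap f) f.ker (by
    intro x hx
    rw [mem_comap, (MonoidHom.mem_ker).1 hx]
    exact X.one_mem)
  have h2 : f.ker.relIndex (X.comap f) = (⊥ : Subgroup H).relIndex X := by
    conv_lhs => rw [← MonoidHom.comap_bot f]
    rw [relIndex_comap, map_comap_eq_self_of_surjective hf]
  rw [h1, h2, relIndex_bot_left, mul_comm]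

/-- Passage to a homomorphic image. -/
theorem of_surjective [Finite G] {p k : ℕ} (h : SectionalPRankLE p k G) (f : G →* H)
    (hf : Function.Surjective f) : SectionalPRankLE p k H := by
  have : Finite H := Finite.of_surjective f hf
  rw [sectionalPRankLE_iff] at h ⊢
  intro X Y hXY
  have h1 := h _ _ (hXY.comap f)
  rw [card_comap_of_surjective f hf, card_comap_of_surjective f hf] at h1
  have h2 : Nat.card f.ker * Nat.card X ≤ Nat.card f.ker * (p ^ k * Nat.card Y) := by
    calc _ ≤ _ := h1
      _ = _ := by ring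
  exact Nat.le_of_mul_le_mul_left h2 Nat.card_pos

theorem of_quotient [Finite G] {p k : ℕ} (h : SectionalPRankLE p k G) (N : Subgroup G) [N.Normal] :
    SectionalPRankLE p k (G ⧸ N) := of_surjective h (QuotientGroup.mk' N)
      (QuotientGroup.mk'_surjective N)

theorem of_map [Finite G] {p k : ℕ} {K : Subgroup G} (h : SectionalPRankLE p k K) (f : G →* H) :
    SectionalPRankLE p k (K.map f) :=
  of_surjective h (f.subgroupMap K) (f.subgroupMap_surjective K)

/-- Subgroup of bounded index: `r(G) ≤ r(K) + b` if `|G : K| ≤ p ^ b`. -/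
theorem of_index_le [Finite G] {p a b : ℕ} {K : Subgroup G} (h : SectionalPRankLE p a K)
    (hb : K.index ≤ p ^ b) : SectionalPRankLE p (a + b) G := by
  rw [sectionalPRankLE_iff] at h ⊢
  intro X Y hXY
  have h1 : Nat.card (X.comap K.subtype) ≤ p ^ a * Nat.card (Y.comap K.subtype) :=
    h _ _ (hXY.comap K.subtype)
  have e : ∀ Z : Subgroup G, Nat.card (Z.comap K.subtype) = Nat.card (Z ⊓ K : Subgroup G) := by
    intro Z
    have h2 : (Z.comap K.subtype).map K.subtype = Z ⊓ K := by
      rw [map_comap_eq, range_subtype, inf_comm]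
    rw [← h2, card_map_of_injective K.subtype_injective]
  rw [e, e] at h1
  have h3 : Nat.card X ≤ p ^ b * Nat.card (X ⊓ K : Subgroup G) := by
    have := card_eq_relIndex_mul X (X ⊓ K) inf_le_left
    rw [inf_relIndex_left] at this
    rw [this]
    refine Nat.mul_le_mul_right _ (le_trans ?_ hb)
    have h2 : K.relIndex X ≤ K.relIndex ⊤ :=
      relIndex_le_of_le_right le_top (by
        rw [relIndex_top_right]; exact index_ne_zero_of_finite)
    rwa [relIndex_top_right] at h2
  calc Nat.card X ≤ p ^ b * Nat.card (X ⊓ K : Subgroup G) := h3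
    _ ≤ p ^ b * (p ^ a * Nat.card (Y ⊓ K : Subgroup G)) := Nat.mul_le_mul_left _ h1
    _ ≤ p ^ b * (p ^ a * Nat.card Y) :=
        Nat.mul_le_mul_left _ (Nat.mul_le_mul_left _ (card_le_of_le inf_le_left))
    _ = p ^ (a + b) * Nat.card Y := by ring

/-- Extensions: `r(G) ≤ r(N) + r(G / N)`. -/
theorem of_extension [Finite G] {p a b : ℕ} (f : G →* H) (h1 : SectionalPRankLE p a f.ker)
    (h2 : SectionalPRankLE p b f.range) : SectionalPRankLE p (a + b) G := by
  have : Finite f.range := Finite.of_surjective f.rangeRestrict f.rangeRestrict_surjective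
  rw [sectionalPRankLE_iff] at h1 ⊢
  rw [sectionalPRankLE_iff] at h2
  intro X Y hXY
  have h3 := h1 _ _ (hXY.comap f.ker.subtype)
  have h4 := h2 _ _ (hXY.map f.rangeRestrict)
  have e : ∀ Z : Subgroup G,
      Nat.card Z = Nat.card (Z.comap f.ker.subtype) * Nat.card (Z.map f.rangeRestrict) := by
    intro Z
    have e1 := card_eq_relIndex_mul Z (Z ⊓ f.ker) inf_le_left
    have e2 : (Z.comap f.ker.subtype).map f.ker.subtype = Z ⊓ f.ker := by
      rw [map_comap_eq, range_subtype, inf_comm]
    have e3 : (Z ⊓ f.ker).relIndex Z = Nat.card (Z.map f.rangeRestrict) := by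
      rw [inf_relIndex_left]
      conv_lhs => rw [← MonoidHom.ker_rangeRestrict f, ← MonoidHom.comap_bot f.rangeRestrict]
      rw [relIndex_comap, relIndex_bot_left]
    rw [e1, e3, ← e2, card_map_of_injective f.ker.subtype_injective, mul_comm]
  rw [e X, e Y]
  calc Nat.card (X.comap f.ker.subtype) * Nat.card (X.map f.rangeRestrict)
      ≤ (p ^ a * Nat.card (Y.comap f.ker.subtype)) * (p ^ b * Nat.card (Y.map f.rangeRestrict)) :=
        Nat.mul_le_mul h3 h4
    _ = _ := by ring

theorem of_normal [Finite G] {p a b : ℕ} (N : Subgroup G) [N.Normal]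
    (h1 : SectionalPRankLE p a N) (h2 : SectionalPRankLE p b (G ⧸ N)) :
    SectionalPRankLE p (a + b) G := by
  refine of_extension (QuotientGroup.mk' N) ?_ (of_subgroup h2 _)
  rw [QuotientGroup.ker_mk']
  exact h1

/-- The quotient of an elementary abelian section is a power of `p`. -/
theorem relIndex_eq_pow [Finite G] {p : ℕ} (hp : p.Prime) {X Y : Subgroup G}
    (h : ElemSection p X Y) : ∃ n : ℕ, Y.relIndex X = p ^ n := by
  have := Fact.mk hp
  have hn := h.normal
  have h3 : IsPGroup p (X ⧸ Y.subgroupOf X) := by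
    intro a
    obtain ⟨x, rfl⟩ := QuotientGroup.mk_surjective a
    refine ⟨1, ?_⟩
    rw [pow_one, ← QuotientGroup.mk_pow, QuotientGroup.eq_one_iff, mem_subgroupOf]
    exact h.pow _ x.2
  obtain ⟨n, hn'⟩ := IsPGroup.iff_card.mp h3
  exact ⟨n, by rw [← hn']; rfl⟩

/-- Groups of order prime to `p` have sectional `p`-rank `0`. -/
theorem zero_of_not_dvd [Finite G] {p : ℕ} (hp : p.Prime) (h : ¬ p ∣ Nat.card G) :
    SectionalPRankLE p 0 G := by
  rw [sectionalPRankLE_iff]
  intro X Y hXY
  obtain ⟨n, hn⟩ := relIndex_eq_pow hp hXY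
  have h1 := card_eq_relIndex_mul X Y hXY.le
  rcases Nat.eq_zero_or_pos n with rfl | hn0
  · rw [h1, hn]
  · exact absurd (((dvd_pow_self p hn0.ne').trans ⟨_, by rw [h1, hn]⟩).trans X.card_subgroup_dvd_card) h

theorem zero_iff [Finite G] {p : ℕ} (hp : p.Prime) :
    SectionalPRankLE p 0 G ↔ ¬ p ∣ Nat.card G := by
  refine ⟨fun h hd => ?_, zero_of_not_dvd hp⟩
  have := Fact.mk hp
  obtain ⟨x, hx⟩ := exists_prime_orderOf_dvd_card' p hd
  rw [sectionalPRankLE_iff] at h
  have h1 := h (zpowers x) ⊥
    { le := bot_le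
      comm := by
        rintro _ ⟨a, rfl⟩ _ ⟨b, rfl⟩
        rw [mem_bot]
        simp only
        group
      pow := by
        rintro _ ⟨a, rfl⟩
        rw [mem_bot]
        simp only
        rw [← zpow_natCast, ← zpow_mul, mul_comm, zpow_mul, zpow_natCast, ← hx, pow_orderOf_eq_one,
          one_zpow] }
  rw [Nat.card_zpowers, hx, pow_zero, card_bot] at h1
  exact absurd hp.one_lt (by omega)

/-- A normal `p'`-subgroup does not matter. -/
theorem of_quotient_of_not_dvd [Finite G] {p k : ℕ} (hp : p.Prime) (N : Subgroup G) [N.Normal]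
    (hN : ¬ p ∣ Nat.card N) (h : SectionalPRankLE p k (G ⧸ N)) : SectionalPRankLE p k G := by
  have := of_normal N (zero_of_not_dvd hp hN) h
  rwa [zero_add] at this

theorem sylow_iff [Finite G] {p k : ℕ} [Fact p.Prime] (S : Sylow p G) :
    SectionalPRankLE p k (S : Subgroup G) ↔ SectionalPRankLE p k G :=
  ⟨sectionalPRankLE_of_sylow S, fun h => of_subgroup h _⟩

/-- A subgroup of index prime to `p` has the same sectional rank. -/
theorem of_not_dvd_index [Finite G] {p k : ℕ} (hp : p.Prime) (K : Subgroup G)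
    (hK : ¬ p ∣ K.index) (h : SectionalPRankLE p k K) : SectionalPRankLE p k G := by
  have := Fact.mk hp
  obtain ⟨P⟩ : Nonempty (Sylow p K) := inferInstance
  have hP : IsPGroup p ((P : Subgroup K).map K.subtype) := P.isPGroup'.map _
  have hi : ¬ p ∣ ((P : Subgroup K).map K.subtype).index := by
    have h1 : ((P : Subgroup K).map K.subtype).index = (P : Subgroup K).index * K.index := by
      have h2 := relIndex_mul_index (map_subtype_le (P : Subgroup K))
      rw [← h2]
      congr 1
      rw [relIndex, subgroupOf, comap_map_eq_self_of_injective K.subtype_injective]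
    rw [h1, hp.dvd_mul, not_or]
    exact ⟨P.not_dvd_index, hK⟩
  let S : Sylow p G := hP.toSylow hi
  refine sectionalPRankLE_of_sylow S ?_
  exact of_le (K := (S : Subgroup G)) (L := K) (map_subtype_le (P : Subgroup K)) h

/-- The `p`-rank is bounded by the sectional rank. -/
theorem pRankLE [Finite G] {p k : ℕ} (h : SectionalPRankLE p k G) : PRankLE p k G := by
  intro A hA hp
  rw [sectionalPRankLE_iff] at h
  have h1 := h A ⊥
    { le := bot_le
      comm := by
        intro a ha b hb
        rw [mem_bot]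
        have h2 := congrArg Subtype.val (hA.is_comm.comm ⟨a, ha⟩ ⟨b, hb⟩)
        change a * b = b * a at h2
        rw [h2]
        group
      pow := by
        intro a ha
        rw [mem_bot]
        exact hp a ha }
  rwa [card_bot, mul_one] at h1

/-- An elementary abelian group of sectional rank at most `k` has order at most `p ^ k`. -/
theorem card_le [Finite G] {p k : ℕ} (h : SectionalPRankLE p k G)
    (hc : ∀ a b : G, a * b = b * a) (hp : ∀ a : G, a ^ p = 1) : Nat.card G ≤ p ^ k := by
  have := pRankLE h ⊤ ⟨⟨fun a b => Subtype.ext (hc a b)⟩⟩ (fun a _ => hp a)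
  rwa [card_top] at this

/-- The criterion used for lower bounds: homomorphisms `f : M → G` and `g : M → E` with `g` onto and
`ker f ≤ ker g` give `r(E) ≤ r(G)`. -/
theorem of_homs {M E : Type*} [Group M] [Group E] [Finite G] {p k : ℕ}
    (h : SectionalPRankLE p k G) (f : M →* G) (g : M →* E) (hg : Function.Surjective g)
    (hfg : ∀ m : M, f m = 1 → g m = 1) : SectionalPRankLE p k E := by
  have hl : f.rangeRestrict.ker ≤ g.ker := by
    intro m hm
    rw [MonoidHom.ker_rangeRestrict, MonoidHom.mem_ker] at hm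
    rw [MonoidHom.mem_ker]
    exact hfg m hm
  refine of_surjective (of_subgroup h f.range)
    (f.rangeRestrict.liftOfRightInverse
      (Function.surjInv f.rangeRestrict_surjective)
      (Function.rightInverse_surjInv f.rangeRestrict_surjective) ⟨g, hl⟩) ?_
  intro e
  obtain ⟨m, rfl⟩ := hg e
  exact ⟨f.rangeRestrict m, MonoidHom.liftOfRightInverse_comp_apply _ _ _ ⟨g, hl⟩ m⟩

/-- Lower bound through two homomorphisms onto an elementary abelian group. -/
theorem card_le_of_homs {M E : Type*} [Group M] [CommGroup E] [Finite G] {p k : ℕ}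
    (h : SectionalPRankLE p k G) (f : M →* G) (g : M →* E) (hg : Function.Surjective g)
    (hfg : ∀ m : M, f m = 1 → g m = 1) (hp : ∀ e : E, e ^ p = 1) : Nat.card E ≤ p ^ k := by
  have h1 := of_homs h f g hg hfg
  have h2 : Finite E := by
    have hr : Finite f.range := inferInstance
    refine Finite.of_surjective (fun x : f.range => g x.2.choose) ?_
    intro e
    obtain ⟨m, rfl⟩ := hg e
    refine ⟨⟨f m, m, rfl⟩, ?_⟩
    have h3 : f (MonoidHom.mem_range.1 (⟨m, rfl⟩ : f m ∈ f.range)).choose = f m :=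
      (MonoidHom.mem_range.1 (⟨m, rfl⟩ : f m ∈ f.range)).choose_spec
    have h4 := hfg (m⁻¹ * (MonoidHom.mem_range.1 (⟨m, rfl⟩ : f m ∈ f.range)).choose) (by
      rw [map_mul, map_inv, h3, inv_mul_cancel])
    rw [map_mul, map_inv, inv_mul_eq_one] at h4
    exact h4.symm
  exact card_le h1 mul_comm hp

/-! ### The sectional rank as a number -/

/-- The sectional `p`-rank. -/
noncomputable def srank (p : ℕ) (G : Type*) [Group G] : ℕ := sInf {k | SectionalPRankLE p k G}

theorem nonempty_set [Finite G] {p : ℕ} (hp : 1 < p) : {k | SectionalPRankLE p k G}.Nonempty :=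
  ⟨Nat.card G, sectionalPRankLE_of_card_le (Nat.lt_pow_self hp).le⟩

theorem srank_spec [Finite G] {p : ℕ} (hp : 1 < p) : SectionalPRankLE p (srank p G) G :=
  Nat.sInf_mem (nonempty_set hp)

theorem srank_le_iff [Finite G] {p k : ℕ} (hp : 1 < p) :
    srank p G ≤ k ↔ SectionalPRankLE p k G :=
  ⟨fun h => le_mono (by omega) (srank_spec hp) h, fun h => Nat.sInf_le h⟩

theorem srank_congr [Finite G] [Finite H] {p : ℕ} (hp : 1 < p) (e : G ≃* H) :
    srank p G = srank p H :=
  le_antisymm ((srank_le_iff hp).2 (of_equiv (srank_spec hp) e.symm))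
    ((srank_le_iff hp).2 (of_equiv (srank_spec hp) e))

theorem srank_subgroup_le [Finite G] {p : ℕ} (hp : 1 < p) (K : Subgroup G) :
    srank p K ≤ srank p G := (srank_le_iff hp).2 (of_subgroup (srank_spec hp) K)

theorem srank_quotient_le [Finite G] {p : ℕ} (hp : 1 < p) (N : Subgroup G) [N.Normal] :
    srank p (G ⧸ N) ≤ srank p G := (srank_le_iff hp).2 (of_quotient (srank_spec hp) N)

theorem srank_le_of_injective [Finite G] {p : ℕ} (hp : 1 < p) (f : H →* G)
    (hf : Function.Injective f) : srank p H ≤ srank p G := by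
  have : Finite H := Finite.of_injective f hf
  exact (srank_le_iff hp).2 (of_injective (srank_spec hp) f hf)

theorem srank_le_of_surjective [Finite G] {p : ℕ} (hp : 1 < p) (f : G →* H)
    (hf : Function.Surjective f) : srank p H ≤ srank p G := by
  have : Finite H := Finite.of_surjective f hf
  exact (srank_le_iff hp).2 (of_surjective (srank_spec hp) f hf)

theorem srank_le_add [Finite G] {p : ℕ} (hp : 1 < p) (N : Subgroup G) [N.Normal] :
    srank p G ≤ srank p N + srank p (G ⧸ N) :=
  (srank_le_iff hp).2 (of_normal N (srank_spec hp) (srank_spec hp))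

theorem srank_eq_zero_iff [Finite G] {p : ℕ} (hp : p.Prime) :
    srank p G = 0 ↔ ¬ p ∣ Nat.card G := by
  rw [← zero_iff hp, ← srank_le_iff hp.one_lt, Nat.le_zero]

theorem srank_quotient_of_not_dvd [Finite G] {p : ℕ} (hp : p.Prime) (N : Subgroup G) [N.Normal]
    (hN : ¬ p ∣ Nat.card N) : srank p (G ⧸ N) = srank p G :=
  le_antisymm (srank_quotient_le hp.one_lt N)
    ((srank_le_iff hp.one_lt).2 (of_quotient_of_not_dvd hp N hN (srank_spec hp.one_lt)))

theorem srank_of_not_dvd_index [Finite G] {p : ℕ} (hp : p.Prime) (K : Subgroup G)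
    (hK : ¬ p ∣ K.index) : srank p K = srank p G :=
  le_antisymm (srank_subgroup_le hp.one_lt K)
    ((srank_le_iff hp.one_lt).2 (of_not_dvd_index hp K hK (srank_spec hp.one_lt)))

theorem srank_sylow [Finite G] {p : ℕ} [hp : Fact p.Prime] (S : Sylow p G) :
    srank p (S : Subgroup G) = srank p G :=
  srank_of_not_dvd_index hp.out _ S.not_dvd_index

/-- There is an elementary abelian section of rank exactly `srank p G`. -/
theorem exists_section [Finite G] {p : ℕ} (hp : p.Prime) :
    ∃ X Y : Subgroup G, ElemSection p X Y ∧ Nat.card X = p ^ srank p G * Nat.card Y := by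
  rcases Nat.eq_zero_or_pos (srank p G) with h0 | h0
  · refine ⟨⊥, ⊥, ⟨le_rfl, ?_, ?_⟩, ?_⟩
    · intro a ha b hb
      rw [mem_bot] at ha hb ⊢
      subst ha hb
      simp
    · intro a ha
      rw [mem_bot] at ha ⊢
      subst ha
      simp
    · rw [h0, pow_zero, one_mul]
  · have h1 : ¬ SectionalPRankLE p (srank p G - 1) G := by
      intro h
      have := (srank_le_iff hp.one_lt).2 h
      omega
    rw [sectionalPRankLE_iff] at h1
    push Not at h1
    obtain ⟨X, Y, hXY, hlt⟩ := h1
    refine ⟨X, Y, hXY, ?_⟩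
    have h2 := (sectionalPRankLE_iff.1 (srank_spec (G := G) hp.one_lt)) X Y hXY
    obtain ⟨n, hn⟩ := relIndex_eq_pow hp hXY
    have h3 := card_eq_relIndex_mul X Y hXY.le
    rw [hn] at h3
    rw [h3] at h2 hlt ⊢
    have h4 : p ^ n ≤ p ^ srank p G := Nat.le_of_mul_le_mul_right h2 Nat.card_pos
    have h5 : p ^ (srank p G - 1) < p ^ n := Nat.lt_of_mul_lt_mul_right hlt
    have h6 := (Nat.pow_le_pow_iff_right hp.one_lt).1 h4
    have h7 := (Nat.pow_lt_pow_iff_right hp.one_lt).1 h5
    have h8 : n = srank p G := by omega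
    rw [h8]

/-- Direct products. -/
theorem srank_prod [Finite G] [Finite H] {p : ℕ} (hp : p.Prime) :
    srank p (G × H) = srank p G + srank p H := by
  apply le_antisymm
  · rw [srank_le_iff hp.one_lt]
    refine of_extension (MonoidHom.snd G H) ?_ (of_subgroup (srank_spec hp.one_lt) _)
    refine of_injective (srank_spec (G := G) hp.one_lt)
      ((MonoidHom.fst G H).comp (MonoidHom.snd G H).ker.subtype) ?_
    rintro ⟨⟨a, b⟩, hb⟩ ⟨⟨a', b'⟩, hb'⟩ h
    have h1 : b = 1 := hb
    have h2 : b' = 1 := hb'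
    have h3 : a = a' := h
    subst h1 h2 h3
    rfl
  · obtain ⟨X, Y, hXY, h1⟩ := exists_section (G := G) hp
    obtain ⟨X', Y', hXY', h1'⟩ := exists_section (G := H) hp
    have h2 := (sectionalPRankLE_iff.1 (srank_spec (G := G × H) hp.one_lt))
      (X.prod X') (Y.prod Y')
      { le := Subgroup.prod_mono hXY.le hXY'.le
        comm := fun a ha b hb => ⟨hXY.comm _ ha.1 _ hb.1, hXY'.comm _ ha.2 _ hb.2⟩
        pow := fun a ha => ⟨hXY.pow _ ha.1, hXY'.pow _ ha.2⟩ }
    have e : ∀ (A : Subgroup G) (B : Subgroup H),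
        Nat.card (A.prod B) = Nat.card A * Nat.card B := fun A B => by
      rw [Nat.card_congr (A.prodEquiv B).toEquiv, Nat.card_prod]
    rw [e, e, h1, h1'] at h2
    have h3 : p ^ (srank p G + srank p H) * (Nat.card Y * Nat.card Y') ≤
        p ^ srank p (G × H) * (Nat.card Y * Nat.card Y') := by
      calc _ = _ := by ring
        _ ≤ _ := h2
    have h4 := Nat.le_of_mul_le_mul_right h3 (Nat.mul_pos Nat.card_pos Nat.card_pos)
    exact (Nat.pow_le_pow_iff_right hp.one_lt).1 h4

/-- Two elementwise commuting subgroups `A`, `B`:  `r(A / Z) + r(B / Z) ≤ r(G)` where the normal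
subgroups `ZA`, `ZB` contain `A ∩ B`. -/
theorem srank_commuting [Finite G] {p : ℕ} (hp : p.Prime) (A B : Subgroup G)
    (hAB : ∀ a ∈ A, ∀ b ∈ B, a * b = b * a) (ZA : Subgroup A) (ZB : Subgroup B) [ZA.Normal]
    [ZB.Normal] (hA : ∀ a : A, (a : G) ∈ B → a ∈ ZA) (hB : ∀ b : B, (b : G) ∈ A → b ∈ ZB) :
    srank p (A ⧸ ZA) + srank p (B ⧸ ZB) ≤ srank p G := by
  rw [← srank_prod hp]
  refine (srank_le_iff hp.one_lt).2 ?_
  let f : A × B →* G := MonoidHom.noncommCoprod A.subtype B.subtype
    (fun a b => hAB a a.2 b b.2)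
  let g : A × B →* (A ⧸ ZA) × (B ⧸ ZB) :=
    MonoidHom.prodMap (QuotientGroup.mk' ZA) (QuotientGroup.mk' ZB)
  refine of_homs (srank_spec hp.one_lt) f g ?_ ?_
  · rintro ⟨x, y⟩
    obtain ⟨a, rfl⟩ := QuotientGroup.mk_surjective x
    obtain ⟨b, rfl⟩ := QuotientGroup.mk_surjective y
    exact ⟨(a, b), rfl⟩
  · rintro ⟨a, b⟩ h
    have h1 : (a : G) * b = 1 := h
    have h2 : (a : G) = (b : G)⁻¹ := eq_inv_of_mul_eq_one_left h1
    have h3 : (b : G) = (a : G)⁻¹ := eq_inv_of_mul_eq_one_right h1
    refine Prod.ext ?_ ?_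
    · exact (QuotientGroup.eq_one_iff a).2 (hA a (h2 ▸ B.inv_mem b.2))
    · exact (QuotientGroup.eq_one_iff b).2 (hB b (h3 ▸ A.inv_mem a.2))

/-- Two elementwise commuting subgroups meeting in a `p'`-group. -/
theorem srank_add_le_of_commute [Finite G] {p : ℕ} (hp : p.Prime) (A B : Subgroup G)
    (hAB : ∀ a ∈ A, ∀ b ∈ B, a * b = b * a) (h : ¬ p ∣ Nat.card (A ⊓ B : Subgroup G)) :
    srank p A + srank p B ≤ srank p G := by
  have hA : (B.subgroupOf A).Normal := by
    constructor
    intro b hb a
    rw [mem_subgroupOf] at hb ⊢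
    have h1 : ((a * b * a⁻¹ : A) : G) = b := by
      push_cast
      rw [hAB a a.2 b hb, mul_inv_cancel_right]
    rw [h1]
    exact hb
  have hB : (A.subgroupOf B).Normal := by
    constructor
    intro b hb a
    rw [mem_subgroupOf] at hb ⊢
    have h1 : ((a * b * a⁻¹ : B) : G) = b := by
      push_cast
      rw [← hAB b hb a a.2, mul_inv_cancel_right]
    rw [h1]
    exact hb
  have h1 := srank_commuting hp A B hAB (B.subgroupOf A) (A.subgroupOf B)
    (fun a ha => ha) (fun b hb => hb)
  have e1 : Nat.card (B.subgroupOf A) = Nat.card (A ⊓ B : Subgroup G) := by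
    have := card_map_of_injective (K := B.subgroupOf A) A.subtype_injective
    rw [← this, subgroupOf_map_subtype, inf_comm]
  have e2 : Nat.card (A.subgroupOf B) = Nat.card (A ⊓ B : Subgroup G) := by
    have := card_map_of_injective (K := A.subgroupOf B) B.subtype_injective
    rw [← this, subgroupOf_map_subtype]
  rw [srank_quotient_of_not_dvd hp _ (by rwa [e1]), srank_quotient_of_not_dvd hp _ (by rwa [e2])]
    at h1
  exact h1

end Cfsg.Agent.GH.Rank
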