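import Mathlib
import Cfsg.Agent.GH.Rank

/-!
# Groups of sectional 2-rank at least four: the criterion  (GH-0, S0500)

Two commuting faithful copies of the quaternion group of order eight give a section of order `16`.
-/

set_option autoImplicit false
set_option maxHeartbeats 400000

namespace Cfsg.Agent.GH.LowRankQ8

open Cfsg Cfsg.Agent.GH.Rank

/-- The quaternion group of order eight. -/
abbrev Q8 : Type := QuaternionGroup 2

/-! ### Homomorphisms from `Q8` -/

section Hom

variable {G : Type*} [Group G]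

theorem pow_mul_comm' {x y : G} (h4 : x ^ 4 = 1) (hxy : x * y = y * x⁻¹) (n : ℕ) :
    x ^ n * y = y * x ^ (3 * n) := by
  have hinv : x⁻¹ = x ^ 3 := by
    rw [inv_eq_iff_mul_eq_one, ← pow_succ']
    exact h4
  rw [hinv] at hxy
  induction n with
  | zero => simp
  | succ n ih =>
    rw [pow_succ, mul_assoc, hxy, ← mul_assoc, ih, mul_assoc, ← pow_add]
    congr 2

theorem pow_eq_of_mod {x : G} (h4 : x ^ 4 = 1) {m n : ℕ} (h : m % 4 = n % 4) : x ^ m = x ^ n := by
  rw [pow_eq_pow_mod m h4, pow_eq_pow_mod n h4, h]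

/-- The homomorphism of the quaternion group with given images of the two generators. -/
def qhom (x y : G) (h4 : x ^ 4 = 1) (hyy : y * y = x ^ 2) (hxy : x * y = y * x⁻¹) : Q8 →* G where
  toFun
    | .a i => x ^ i.val
    | .xa i => y * x ^ i.val
  map_one' := by
    change x ^ (0 : ZMod (2 * 2)).val = 1
    rw [ZMod.val_zero, pow_zero]
  map_mul' := by
    have e1 : ∀ i j : ZMod (2 * 2), (i + j).val % 4 = (i.val + j.val) % 4 := by decide
    have e2 : ∀ i j : ZMod (2 * 2), (j - i).val % 4 = (3 * i.val + j.val) % 4 := by decide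
    have e3 : ∀ i j : ZMod (2 * 2), (((2 : ℕ) : ZMod (2 * 2)) + j - i).val % 4 =
      (2 + (3 * i.val + j.val)) % 4 := by decide
    rintro (i | i) (j | j)
    · rw [QuaternionGroup.a_mul_a]
      change x ^ (i + j).val = x ^ i.val * x ^ j.val
      rw [← pow_add]
      exact pow_eq_of_mod h4 (e1 i j)
    · rw [QuaternionGroup.a_mul_xa]
      change y * x ^ (j - i).val = x ^ i.val * (y * x ^ j.val)
      rw [← mul_assoc, pow_mul_comm' h4 hxy, mul_assoc, ← pow_add]
      rw [pow_eq_of_mod h4 (e2 i j)]
    · rw [QuaternionGroup.xa_mul_a]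
      change y * x ^ (i + j).val = y * x ^ i.val * x ^ j.val
      rw [mul_assoc, ← pow_add]
      rw [pow_eq_of_mod h4 (e1 i j)]
    · rw [QuaternionGroup.xa_mul_xa]
      change x ^ (((2 : ℕ) : ZMod (2 * 2)) + j - i).val = y * x ^ i.val * (y * x ^ j.val)
      have h5 := pow_mul_comm' h4 hxy i.val
      calc x ^ (((2 : ℕ) : ZMod (2 * 2)) + j - i).val = y * y * (x ^ (3 * i.val) * x ^ j.val) := by
            rw [pow_eq_of_mod h4 (e3 i j), pow_add, ← hyy, pow_add]
        _ = y * (y * x ^ (3 * i.val)) * x ^ j.val := by simp only [mul_assoc]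
        _ = y * (x ^ i.val * y) * x ^ j.val := by rw [h5]
        _ = y * x ^ i.val * (y * x ^ j.val) := by simp only [mul_assoc]

theorem qhom_a {x y : G} {h4 : x ^ 4 = 1} {hyy : y * y = x ^ 2} {hxy : x * y = y * x⁻¹} (i : ZMod (2 * 2)) :
    qhom x y h4 hyy hxy (.a i) = x ^ i.val := rfl

theorem qhom_xa {x y : G} {h4 : x ^ 4 = 1} {hyy : y * y = x ^ 2} {hxy : x * y = y * x⁻¹} (i : ZMod (2 * 2)) :
    qhom x y h4 hyy hxy (.xa i) = y * x ^ i.val := rfl

/-- The central involution of `Q8`. -/
abbrev zz : Q8 := .a 2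

theorem eq_or_sq (u : Q8) : u = 1 ∨ u = zz ∨ u * u = zz := by
  revert u
  decide

theorem injective_of {f : Q8 →* G} (h : f zz ≠ 1) : Function.Injective f := by
  rw [injective_iff_map_eq_one]
  intro u hu
  rcases eq_or_sq u with h1 | h1 | h1
  · exact h1
  · exact absurd (h1 ▸ hu) h
  · exfalso
    apply h
    rw [← h1, map_mul, hu, one_mul]

/-- Commutation of two copies of `Q8` from the generators. -/
theorem qhom_commute {x y x' y' : G} {h4 : x ^ 4 = 1} {hyy : y * y = x ^ 2} {hxy : x * y = y * x⁻¹}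
    {h4' : x' ^ 4 = 1} {hyy' : y' * y' = x' ^ 2} {hxy' : x' * y' = y' * x'⁻¹}
    (h1 : Commute x x') (h2 : Commute x y') (h3 : Commute y x') (h5 : Commute y y') (u v : Q8) :
    Commute (qhom x y h4 hyy hxy u) (qhom x' y' h4' hyy' hxy' v) := by
  rcases u with i | i <;> rcases v with j | j
  · rw [qhom_a, qhom_a]
    exact h1.pow_pow _ _
  · rw [qhom_a, qhom_xa]
    exact (h2.pow_left _).mul_right (h1.pow_pow _ _)
  · rw [qhom_xa, qhom_a]
    exact (h3.pow_right _).mul_left (h1.pow_pow _ _)
  · rw [qhom_xa, qhom_xa]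
    exact (h5.mul_right (h3.pow_right _)).mul_left (((h2.pow_left _)).mul_right (h1.pow_pow _ _))

end Hom

/-! ### The elementary abelian quotient -/

/-- The elementary abelian quotient of order four of `Q8`. -/
abbrev E2 : Type := Multiplicative (ZMod 2 × ZMod 2)

/-- The reduction. -/
def redQ : Q8 →* E2 where
  toFun
    | .a i => Multiplicative.ofAdd (((i.val : ℕ) : ZMod 2), 0)
    | .xa i => Multiplicative.ofAdd (((i.val : ℕ) : ZMod 2), 1)
  map_one' := by decide
  map_mul' := by decide

theorem redQ_surjective : Function.Surjective redQ := by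
  intro e
  have h : ∀ e : E2, ∃ u : Q8, redQ u = e := by decide
  exact h e

theorem redQ_eq_one (u : Q8) (h : ∀ w : Q8, u * w = w * u) : redQ u = 1 := by
  revert u
  decide

theorem card_E2 : Nat.card (E2 × E2) = 16 := by
  rw [Nat.card_eq_fintype_card]
  rfl

theorem sq_E2 (e : E2 × E2) : e ^ 2 = 1 := by
  revert e
  decide

/-! ### The criterion -/

/-- Two commuting faithful copies of `Q8` in a group, modulo a central subgroup, give sectional
2-rank at least four. -/
theorem not_three {S G : Type*} [Group S] [Group G] [Finite G] (π : S →* G)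
    (hπ : ∀ s, π s = 1 → ∀ t : S, s * t = t * s) (f g : Q8 →* S) (hf : Function.Injective f)
    (hg : Function.Injective g) (hc : ∀ u v, Commute (f u) (g v)) : ¬ SectionalPRankLE 2 3 G := by
  intro h
  have h1 := card_le_of_homs h (π.comp (f.noncommCoprod g hc)) (redQ.prodMap redQ)
    (Function.Surjective.prodMap redQ_surjective redQ_surjective)
    (fun m hm => by
      obtain ⟨u, v⟩ := m
      have hm' : π (f u * g v) = 1 := hm
      have hz := hπ _ hm'
      refine Prod.ext ?_ ?_
      · change redQ u = 1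
        apply redQ_eq_one
        intro w
        apply hf
        have h2 := hz (f w)
        rw [map_mul, map_mul]
        have h3 := (hc w v).eq
        calc f u * f w = f u * g v * f w * (g v)⁻¹ := by
              rw [mul_assoc (f u), ← h3, ← mul_assoc, mul_inv_cancel_right]
          _ = f w * (f u * g v) * (g v)⁻¹ := by rw [h2]
          _ = f w * f u := by rw [← mul_assoc, mul_inv_cancel_right]
      · change redQ v = 1
        apply redQ_eq_one
        intro w
        apply hg
        have h2 := hz (g w)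
        rw [map_mul, map_mul]
        have h3 := (hc u w).eq
        calc g v * g w = (f u)⁻¹ * (f u * g v * g w) := by group
          _ = (f u)⁻¹ * (g w * (f u * g v)) := by rw [h2]
          _ = (f u)⁻¹ * (g w * f u) * g v := by group
          _ = (f u)⁻¹ * (f u * g w) * g v := by rw [h3]
          _ = g w * g v := by group) sq_E2
  rw [card_E2] at h1
  norm_num at h1

/-- The form for a group modulo its centre. -/
theorem not_three_center {S : Type*} [Group S] [Finite S] (f g : Q8 →* S) (hf : Function.Injective f)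
    (hg : Function.Injective g) (hc : ∀ u v, Commute (f u) (g v)) :
    ¬ SectionalPRankLE 2 3 (S ⧸ Subgroup.center S) :=
  not_three (QuotientGroup.mk' (Subgroup.center S))
    (fun s hs t => by
      have h : s ∈ Subgroup.center S := (QuotientGroup.eq_one_iff s).1 hs
      exact (Subgroup.mem_center_iff.1 h t).symm) f g hf hg hc

/-- The form for the group itself. -/
theorem not_three_self {S : Type*} [Group S] [Finite S] (f g : Q8 →* S) (hf : Function.Injective f)
    (hg : Function.Injective g) (hc : ∀ u v, Commute (f u) (g v)) : ¬ SectionalPRankLE 2 3 S :=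
  not_three (MonoidHom.id S)
    (fun s hs t => by
      have h : s = 1 := hs
      rw [h, one_mul, mul_one]) f g hf hg hc

/-! ### `Q8` in `SL(2, F)` -/

section SL

open Matrix

/-- `-1` is a sum of two squares in a prime field of odd characteristic. -/
theorem exists_qhom_zmod (p : ℕ) [Fact p.Prime] :
    ∃ f : Q8 →* SpecialLinearGroup (Fin 2) (ZMod p), f zz = -1 := by
  obtain ⟨a, b, hab⟩ := ZMod.sq_add_sq p (-1)
  let x : SpecialLinearGroup (Fin 2) (ZMod p) := ⟨!![0, -1; 1, 0], by simp [det_fin_two]⟩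
  let y : SpecialLinearGroup (Fin 2) (ZMod p) := ⟨!![a, b; b, -a], by
    rw [det_fin_two]
    simp only [of_apply, cons_val', cons_val_zero, cons_val_one, cons_val_fin_one]
    linear_combination -hab⟩
  have hx2 : x ^ 2 = -1 := by
    apply Subtype.ext
    rw [pow_two]
    change (!![0, -1; 1, 0] * !![0, -1; 1, 0] : Matrix (Fin 2) (Fin 2) (ZMod p)) = -1
    rw [mul_fin_two]
    ext i j
    fin_cases i <;> fin_cases j <;> simp
  have hy2 : y * y = -1 := by
    apply Subtype.ext
    change (!![a, b; b, -a] * !![a, b; b, -a] : Matrix (Fin 2) (Fin 2) (ZMod p)) = -1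
    rw [mul_fin_two]
    ext i j
    fin_cases i <;> fin_cases j <;> simp
    · linear_combination hab
    · ring
    · ring
    · linear_combination hab
  have h4 : x ^ 4 = 1 := by
    rw [show (4 : ℕ) = 2 + 2 from rfl, pow_add, hx2]
    simp
  have hxi : x⁻¹ = -x := by
    rw [inv_eq_iff_mul_eq_one, mul_neg, ← pow_two, hx2, neg_neg]
  have hxy : x * y = y * x⁻¹ := by
    rw [hxi]
    apply Subtype.ext
    change (!![0, -1; 1, 0] * !![a, b; b, -a] : Matrix (Fin 2) (Fin 2) (ZMod p)) =
      !![a, b; b, -a] * -!![0, -1; 1, 0]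
    rw [mul_neg, mul_fin_two, mul_fin_two]
    ext i j
    fin_cases i <;> fin_cases j <;> simp
  refine ⟨qhom x y h4 (hy2.trans hx2.symm) hxy, ?_⟩
  rw [qhom_a]
  exact hx2

theorem exists_qhom (F : Type*) [Field F] [Finite F] :
    ∃ f : Q8 →* SpecialLinearGroup (Fin 2) F, f zz = -1 ∧ ∀ (u : Q8) (i j : Fin 2) (n : ℕ),
      (∃ p : ℕ, p.Prime ∧ CharP F p ∧ ∃ k, n = p ^ k) → ((f u).1 i j) ^ n = (f u).1 i j := by
  obtain ⟨p, hp⟩ := CharP.exists F
  have hpp : p.Prime := by
    rcases CharP.char_is_prime_or_zero F p with h | h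
    · exact h
    · exfalso
      subst h
      have := CharP.charP_to_charZero F
      exact (Infinite.of_injective (Nat.cast : ℕ → F) Nat.cast_injective).not_finite inferInstance
  have := Fact.mk hpp
  obtain ⟨f, hf⟩ := exists_qhom_zmod p
  let c : ZMod p →+* F := ZMod.castHom (dvd_refl p) F
  refine ⟨(SpecialLinearGroup.map c).comp f, ?_, ?_⟩
  · rw [MonoidHom.comp_apply, hf]
    apply Subtype.ext
    ext i j
    fin_cases i <;> fin_cases j <;> simp
  · rintro u i j n ⟨p', hp', hc', k, rfl⟩
    have hpp' : p' = p := CharP.eq F hc' hp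
    subst hpp'
    change (c ((f u).1 i j)) ^ p' ^ k = c ((f u).1 i j)
    rw [← map_pow]
    congr 1
    exact ZMod.pow_card_pow _

/-- Two commuting homomorphisms from groups `SL(2, q)`, `q` odd, not killing `-1`. -/
theorem not_three_sl2 {S G F K : Type*} [Group S] [Group G] [Finite G] [Field F] [Finite F] [Field K] [Finite K]
    (π : S →* G) (hπ : ∀ s, π s = 1 → ∀ t : S, s * t = t * s)
    (φ : SpecialLinearGroup (Fin 2) F →* S) (ψ : SpecialLinearGroup (Fin 2) K →* S)
    (hφ : φ (-1) ≠ 1) (hψ : ψ (-1) ≠ 1) (hc : ∀ u v, Commute (φ u) (ψ v)) :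
    ¬ SectionalPRankLE 2 3 G := by
  obtain ⟨f, hf, -⟩ := exists_qhom F
  obtain ⟨g, hg, -⟩ := exists_qhom K
  refine not_three π hπ (φ.comp f) (ψ.comp g) (injective_of ?_) (injective_of ?_) fun u v => hc _ _
  · rw [MonoidHom.comp_apply, hf]
    exact hφ
  · rw [MonoidHom.comp_apply, hg]
    exact hψ

end SL

end Cfsg.Agent.GH.LowRankQ8
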