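import Mathlib
import Cfsg.Prelude.Def_Classical
import Cfsg.Agent.GH.RankLie
import Cfsg.Agent.GH.LowRankQ8
import Cfsg.Agent.SylowSp4.Recog
import Cfsg.Agent.ClassificationK.GTwoChev

/-!
# Groups of sectional 2-rank at least four: the classical groups and `G₂(q)`  (GH-0, S0500)

`PSL(4,q)`, `PSL(5,q)`, `PSU(4,q)`, `PSU(5,q)`, `PSp(4,q)`, `G₂(q)`, `q` odd, are not of sectional
2-rank at most three.
-/

set_option autoImplicit false
set_option maxHeartbeats 400000

namespace Cfsg.Agent.GH.LowRankLie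

open Cfsg Cfsg.Agent.GH.Rank Cfsg.Agent.GH.LowRankQ8 Cfsg.Agent.GH.RankLie

/-! ### Signed permutations -/

/-- Signed permutations. -/
abbrev B (n : ℕ) : Type := (Fin n → ℤˣ) × Equiv.Perm (Fin n)

/-- Their product. -/
def bmul {n : ℕ} (b c : B n) : B n := (fun i => b.1 i * c.1 (b.2⁻¹ i), b.2 * c.2)

/-- The matrix of a signed permutation. -/
def bmat {n : ℕ} (K : Type*) [Field K] (b : B n) : Matrix (Fin n) (Fin n) K :=
  mm (fun i => (((b.1 i : ℤˣ) : ℤ) : K)) b.2

theorem bmat_mul {n : ℕ} {K : Type*} [Field K] (b c : B n) :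
    bmat K (bmul b c) = bmat K b * bmat K c := by
  unfold bmat bmul
  rw [mm_mul]
  congr 1
  funext i
  push_cast
  rfl

theorem bmat_one {n : ℕ} {K : Type*} [Field K] : bmat K ((fun _ => 1, 1) : B n) = 1 := by
  unfold bmat
  rw [← mm_one]
  congr 1
  funext i
  simp

/-- The sign of a signed permutation. -/
def bdet {n : ℕ} (b : B n) : ℤˣ := (∏ i, b.1 i) * Equiv.Perm.sign b.2

theorem det_bmat {n : ℕ} {K : Type*} [Field K] (b : B n) : (bmat K b).det = ((bdet b : ℤˣ) : ℤ) := by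
  unfold bmat bdet
  rw [mm_det, Units.val_mul, Units.coe_prod]
  push_cast
  rfl

/-- The matrix in `SL`. -/
def bsl {n : ℕ} (K : Type*) [Field K] (b : B n) (h : bdet b = 1) : Matrix.SpecialLinearGroup (Fin n) K :=
  ⟨bmat K b, by rw [det_bmat, h]; simp⟩

theorem bsl_mem_SU {n q : ℕ} {K : Type*} [Field K] [Finite K] (hq : Odd q) (b : B n) (h : bdet b = 1) :
    bsl K b h ∈ SU n K q := by
  intro u v
  rw [slToMat_apply]
  refine mm_herm (fun i => ?_) _ u v
  obtain ⟨k, rfl⟩ := hq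
  rcases Int.units_eq_one_or (b.1 i) with h1 | h1
  · rw [h1]; simp
  · rw [h1]
    simp only [Units.val_neg, Units.val_one, Int.cast_neg, Int.cast_one]
    rw [show 2 * k + 1 + 1 = 2 * (k + 1) by ring, pow_mul]
    simp

/-- Tables for two commuting quaternion groups of signed permutations. -/
structure QT (n : ℕ) where
  x : B n
  y : B n
  x' : B n
  y' : B n
  dx : bdet x = 1
  dy : bdet y = 1
  dx' : bdet x' = 1
  dy' : bdet y' = 1
  hy : bmul y y = bmul x x
  h4 : bmul (bmul x x) (bmul x x) = (fun _ => 1, 1)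
  hxy : bmul (bmul x y) x = y
  hy' : bmul y' y' = bmul x' x'
  h4' : bmul (bmul x' x') (bmul x' x') = (fun _ => 1, 1)
  hxy' : bmul (bmul x' y') x' = y'
  c1 : bmul x x' = bmul x' x
  c2 : bmul x y' = bmul y' x
  c3 : bmul y x' = bmul x' y
  c4 : bmul y y' = bmul y' y
  i0 : Fin n
  s0 : (bmul x x).2 i0 = i0
  t0 : (bmul x x).1 i0 = -1
  s0' : (bmul x' x').2 i0 = i0
  t0' : (bmul x' x').1 i0 = -1

/-- Degree four: left and right multiplications of the quaternions. -/
def qt4 : QT 4 where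
  x := (![-1, 1, -1, 1], Equiv.swap 0 1 * Equiv.swap 2 3)
  y := (![-1, 1, 1, -1], Equiv.swap 0 2 * Equiv.swap 1 3)
  x' := (![-1, 1, 1, -1], Equiv.swap 0 1 * Equiv.swap 2 3)
  y' := (![-1, -1, 1, 1], Equiv.swap 0 2 * Equiv.swap 1 3)
  dx := by decide
  dy := by decide
  dx' := by decide
  dy' := by decide
  hy := by decide
  h4 := by decide
  hxy := by decide
  hy' := by decide
  h4' := by decide
  hxy' := by decide
  c1 := by decide
  c2 := by decide
  c3 := by decide
  c4 := by decide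
  i0 := 0
  s0 := by decide
  t0 := by decide
  s0' := by decide
  t0' := by decide

/-- Degree five. -/
def qt5 : QT 5 where
  x := (![-1, 1, -1, 1, 1], Equiv.swap 0 1 * Equiv.swap 2 3)
  y := (![-1, 1, 1, -1, 1], Equiv.swap 0 2 * Equiv.swap 1 3)
  x' := (![-1, 1, 1, -1, 1], Equiv.swap 0 1 * Equiv.swap 2 3)
  y' := (![-1, -1, 1, 1, 1], Equiv.swap 0 2 * Equiv.swap 1 3)
  dx := by decide
  dy := by decide
  dx' := by decide
  dy' := by decide
  hy := by decide
  h4 := by decide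
  hxy := by decide
  hy' := by decide
  h4' := by decide
  hxy' := by decide
  c1 := by decide
  c2 := by decide
  c3 := by decide
  c4 := by decide
  i0 := 0
  s0 := by decide
  t0 := by decide
  s0' := by decide
  t0' := by decide

section Table

variable {n : ℕ} {K : Type*} [Field K] {S : Type*} [Group S]

theorem quat_of_table (ι : S →* Matrix.SpecialLinearGroup (Fin n) K) (hι : Function.Injective ι)
    {a b : B n} {X Y : S} (hX : (ι X).1 = bmat K a) (hY : (ι Y).1 = bmat K b)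
    (hy : bmul b b = bmul a a) (h4 : bmul (bmul a a) (bmul a a) = (fun _ => 1, 1))
    (hxy : bmul (bmul a b) a = b) :
    X ^ 4 = 1 ∧ Y * Y = X ^ 2 ∧ X * Y = Y * X⁻¹ ∧ (ι (X ^ 2)).1 = bmat K (bmul a a) := by
  have e2 : (ι (X ^ 2)).1 = bmat K (bmul a a) := by
    rw [pow_two, map_mul, bmat_mul, ← hX]
    rfl
  refine ⟨?_, ?_, ?_, e2⟩
  · apply hι
    apply Subtype.ext
    rw [show X ^ 4 = X ^ 2 * X ^ 2 by rw [← pow_add], map_mul]
    change (ι (X ^ 2)).1 * (ι (X ^ 2)).1 = (ι 1).1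
    rw [e2, ← bmat_mul, h4, bmat_one, map_one]
    rfl
  · apply hι
    apply Subtype.ext
    rw [e2, map_mul]
    change (ι Y).1 * (ι Y).1 = _
    rw [hY, ← bmat_mul, hy]
  · rw [eq_mul_inv_iff_mul_eq]
    apply hι
    apply Subtype.ext
    rw [map_mul, map_mul]
    change (ι X).1 * (ι Y).1 * (ι X).1 = (ι Y).1
    rw [hX, hY, ← bmat_mul, ← bmat_mul, hxy]

theorem comm_of_table (ι : S →* Matrix.SpecialLinearGroup (Fin n) K) (hι : Function.Injective ι)
    {a b : B n} {X Y : S} (hX : (ι X).1 = bmat K a) (hY : (ι Y).1 = bmat K b)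
    (h : bmul a b = bmul b a) : Commute X Y := by
  apply hι
  apply Subtype.ext
  rw [map_mul, map_mul]
  change (ι X).1 * (ι Y).1 = (ι Y).1 * (ι X).1
  rw [hX, hY, ← bmat_mul, ← bmat_mul, h]

theorem ne_one_of_table (h2 : (2 : K) ≠ 0) (ι : S →* Matrix.SpecialLinearGroup (Fin n) K) {a : B n} {X : S}
    (hX : (ι X).1 = bmat K a) {i : Fin n} (hs : a.2 i = i) (ht : a.1 i = -1) : X ≠ 1 := by
  rintro rfl
  rw [map_one] at hX
  have h1 := congrFun (congrFun hX i) i
  unfold bmat at h1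
  rw [mm_apply, if_pos hs.symm, ht] at h1
  change (1 : Matrix (Fin n) (Fin n) K) i i = _ at h1
  rw [Matrix.one_apply_eq] at h1
  apply h2
  have h3 : (1 : K) = -1 := by simpa using h1
  linear_combination h3

/-- The two copies of `Q8`. -/
theorem exists_pair (T : QT n) (h2 : (2 : K) ≠ 0) (ι : S →* Matrix.SpecialLinearGroup (Fin n) K)
    (hι : Function.Injective ι) (hS : ∀ (b : B n) (h : bdet b = 1), ∃ s : S, ι s = bsl K b h) :
    ∃ f g : Q8 →* S, Function.Injective f ∧ Function.Injective g ∧ ∀ u v, Commute (f u) (g v) := by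
  obtain ⟨X, hX⟩ := hS T.x T.dx
  obtain ⟨Y, hY⟩ := hS T.y T.dy
  obtain ⟨X', hX'⟩ := hS T.x' T.dx'
  obtain ⟨Y', hY'⟩ := hS T.y' T.dy'
  have eX : (ι X).1 = bmat K T.x := by rw [hX]; rfl
  have eY : (ι Y).1 = bmat K T.y := by rw [hY]; rfl
  have eX' : (ι X').1 = bmat K T.x' := by rw [hX']; rfl
  have eY' : (ι Y').1 = bmat K T.y' := by rw [hY']; rfl
  obtain ⟨a1, a2, a3, a4⟩ := quat_of_table ι hι eX eY T.hy T.h4 T.hxy
  obtain ⟨b1, b2, b3, b4⟩ := quat_of_table ι hι eX' eY' T.hy' T.h4' T.hxy'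
  refine ⟨qhom X Y a1 a2 a3, qhom X' Y' b1 b2 b3, injective_of ?_, injective_of ?_, ?_⟩
  · rw [qhom_a]
    exact ne_one_of_table h2 ι a4 T.s0 T.t0
  · rw [qhom_a]
    exact ne_one_of_table h2 ι b4 T.s0' T.t0'
  · exact qhom_commute (comm_of_table ι hι eX eX' T.c1) (comm_of_table ι hι eX eY' T.c2)
      (comm_of_table ι hι eY eX' T.c3) (comm_of_table ι hι eY eY' T.c4)

end Table

/-! ### The classical groups -/

section Classical

variable {K : Type*} [Field K] [Finite K]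

omit [Finite K] in
theorem two_ne_zero_of_odd [Fintype K] (h : Odd (Fintype.card K)) : (2 : K) ≠ 0 := by
  intro h0
  have hc : CharP K 2 := CharTwo.of_one_ne_zero_of_two_eq_zero one_ne_zero h0
  have := FiniteField.even_card_of_char_two (F := K) ((ringChar.eq_iff (R := K)).2 hc)
  have h3 := Nat.odd_iff.1 h
  omega

theorem psl_not (n : ℕ) (T : QT n) (h2 : (2 : K) ≠ 0) :
    ¬ SectionalPRankLE 2 3 (Matrix.ProjectiveSpecialLinearGroup (Fin n) K) := by
  obtain ⟨f, g, hf, hg, hc⟩ := exists_pair (K := K) T h2 (MonoidHom.id _) Function.injective_id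
    (fun b h => ⟨bsl K b h, rfl⟩)
  exact not_three_center f g hf hg hc

theorem psu_not (n : ℕ) (T : QT n) {q : ℕ} (hq : Odd q) (h2 : (2 : K) ≠ 0) :
    ¬ SectionalPRankLE 2 3 (PSU n K q) := by
  obtain ⟨f, g, hf, hg, hc⟩ := exists_pair (K := K) T h2 (SU n K q).subtype Subtype.coe_injective
    (fun b h => ⟨⟨bsl K b h, bsl_mem_SU hq b h⟩, rfl⟩)
  exact not_three_center f g hf hg hc

/-- `PSL(4,q)`, `q` odd, is not of sectional 2-rank at most three. -/
theorem psl_four_not_three (h2 : (2 : K) ≠ 0) :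
    ¬ SectionalPRankLE 2 3 (Matrix.ProjectiveSpecialLinearGroup (Fin 4) K) := psl_not 4 qt4 h2

/-- `PSL(5,q)`, `q` odd. -/
theorem psl_five_not_three (h2 : (2 : K) ≠ 0) :
    ¬ SectionalPRankLE 2 3 (Matrix.ProjectiveSpecialLinearGroup (Fin 5) K) := psl_not 5 qt5 h2

/-- `PSU(4,q)`, `q` odd. -/
theorem psu_four_not_three {q : ℕ} (hq : Odd q) (h2 : (2 : K) ≠ 0) : ¬ SectionalPRankLE 2 3 (PSU 4 K q) :=
  psu_not 4 qt4 hq h2

/-- `PSU(5,q)`, `q` odd. -/
theorem psu_five_not_three {q : ℕ} (hq : Odd q) (h2 : (2 : K) ≠ 0) : ¬ SectionalPRankLE 2 3 (PSU 5 K q) :=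
  psu_not 5 qt5 hq h2

open Cfsg.Agent.SylowSp4.Recog in
/-- `PSp(4,q)`, `q` odd. -/
theorem psp_four_not_three (h2 : (2 : K) ≠ 0) : ¬ SectionalPRankLE 2 3 (PSp 2 K) := by
  let φ : Matrix.SpecialLinearGroup (Fin 2) K →* Matrix.symplecticGroup (Fin 2) K :=
    MonoidHom.mk' (fun A => emb A 1) (fun A B => by rw [emb_mul, one_mul])
  let ψ : Matrix.SpecialLinearGroup (Fin 2) K →* Matrix.symplecticGroup (Fin 2) K :=
    MonoidHom.mk' (fun A => emb 1 A) (fun A B => by rw [emb_mul, one_mul])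
  have hne : (-1 : Matrix.SpecialLinearGroup (Fin 2) K).1 ≠ 1 := by
    intro h
    have h1 := congrFun (congrFun h 0) 0
    rw [Matrix.one_apply_eq] at h1
    apply h2
    have h3 : (-1 : K) = 1 := by simpa using h1
    linear_combination -h3
  have hinj : ∀ {A B C D : Matrix.SpecialLinearGroup (Fin 2) K}, emb A B = emb C D → A.1 = C.1 ∧ B.1 = D.1 :=
    fun h => blk_inj (congrArg Subtype.val h)
  refine not_three_sl2 (QuotientGroup.mk' (Subgroup.center (Matrix.symplecticGroup (Fin 2) K)))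
    (fun s hs t => ?_) φ ψ (fun h => ?_) (fun h => ?_) (fun u v => ?_)
  · have h : s ∈ Subgroup.center _ := (QuotientGroup.eq_one_iff s).1 hs
    exact (Subgroup.mem_center_iff.1 h t).symm
  · exact hne (hinj (h.trans emb_one.symm)).1
  · exact hne (hinj (h.trans emb_one.symm)).2
  · change emb u 1 * emb 1 v = emb 1 v * emb u 1
    rw [emb_mul, emb_mul, one_mul, mul_one, one_mul, mul_one]

open Cfsg.Agent.ClassificationK.GTwoChev in
/-- `G₂(q)`, `q` odd. -/
theorem g_two_not_three (h2 : (2 : K) ≠ 0) : ¬ SectionalPRankLE 2 3 ↥(Lie.chevG2.group K) := by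
  refine not_three_sl2 (MonoidHom.id _) (fun s hs t => ?_) (ph11 K) (ph7 K) (phi_neg_one_ne h2) ?_ comm
  · have h : s = 1 := hs
    rw [h, one_mul, mul_one]
  · rw [← phi_neg_one_eq]
    exact phi_neg_one_ne h2

end Classical

end Cfsg.Agent.GH.LowRankLie
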