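import Mathlib
import Cfsg.Prelude.Def_CaseTheorems
import Cfsg.Prelude.Def_Local
import Cfsg.Prelude.Def_Involutions
import Cfsg.Prelude.Def_ClassificationK
import Cfsg.Prelude.Def_LieTwisted
import Cfsg.Prelude.Def_Sz
import Cfsg.Prelude.Def_SporadicB
import Cfsg.Prelude.Def_Spor_Mathieu
import Cfsg.Prelude.Def_Spor_J1
import Cfsg.Prelude.Def_Spor_J2
import Cfsg.Prelude.Def_Spor_J3
import Cfsg.Prelude.Def_Spor_Conway
import Cfsg.Prelude.Def_Spor_Ly
import Cfsg.Agent.Intrinsic.Basic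

/-!
# PROJECT GH (S0500): common vocabulary

* `K2`, `Low`, `K4`: lists of simple groups (isomorphism level), 2-rank at most 2, sectional 2-rank at
  most 3, sectional 2-rank at most 4.
* `Hyp G`: the minimal situation: `G` simple, not commutative, sectional 2-rank at most 4, 2-rank at
  least 3, every nonabelian simple section of a proper subgroup is in `K4`.
* `SType S`, `GType G`: the targets.
* 2-components of involution centralizers: `Comp2 x K`, `STop K`, `EvenCenter K`.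
-/

set_option autoImplicit false

open Cfsg Subgroup
open Cfsg.Agent.Intrinsic.Basic
open Cfsg.Agent.SignalizersComponents.PLayerAut (isPComponent_map_equiv)

namespace Cfsg.Agent.GH.Defs

/-! ### lists of simple groups -/

/-- `PSL₂(q)`, `q ≥ 5` odd. -/
def IsL2odd (X : Type*) [Group X] : Prop :=
  ∃ (F : Type) (_ : Field F) (_ : Fintype F), Odd (Fintype.card F) ∧ 5 ≤ Fintype.card F ∧
    Nonempty (X ≃* Matrix.ProjectiveSpecialLinearGroup (Fin 2) F)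

/-- `PSL₃(q)`, `q` odd. -/
def IsL3odd (X : Type*) [Group X] : Prop :=
  ∃ (F : Type) (_ : Field F) (_ : Fintype F), Odd (Fintype.card F) ∧
    Nonempty (X ≃* Matrix.ProjectiveSpecialLinearGroup (Fin 3) F)

/-- `PSU₃(q)`, `q` odd. -/
def IsU3odd (X : Type*) [Group X] : Prop :=
  ∃ (F : Type) (_ : Field F) (_ : Fintype F) (q : ℕ), Fintype.card F = q ^ 2 ∧ Odd q ∧
    Nonempty (X ≃* Cfsg.PSU 3 F q)

/-- `PSU₃(4)`. -/
def IsU34 (X : Type*) [Group X] : Prop :=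
  ∃ (F : Type) (_ : Field F) (_ : Fintype F), Fintype.card F = 16 ∧ Nonempty (X ≃* Cfsg.PSU 3 F 4)

/-- Alternating group of degree `n`. -/
def IsAlt (n : ℕ) (X : Type*) [Group X] : Prop := Nonempty (X ≃* alternatingGroup (Fin n))

/-- `PSL₂(q)`, `q = 8`. -/
def IsL28 (X : Type*) [Group X] : Prop :=
  ∃ (F : Type) (_ : Field F) (_ : Fintype F), Fintype.card F = 8 ∧
    Nonempty (X ≃* Matrix.ProjectiveSpecialLinearGroup (Fin 2) F)

/-- `PSL₂(q)`, `q = 16`. -/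
def IsL216 (X : Type*) [Group X] : Prop :=
  ∃ (F : Type) (_ : Field F) (_ : Fintype F), Fintype.card F = 16 ∧
    Nonempty (X ≃* Matrix.ProjectiveSpecialLinearGroup (Fin 2) F)

/-- `Sz(8)`. -/
def IsSz8 (X : Type*) [Group X] : Prop :=
  ∃ (F : Type) (_ : Field F) (_ : Fintype F), Fintype.card F = 8 ∧ Nonempty (X ≃* ↥(Lie.Sz F 4))

/-- `PSL₃(4)`. -/
def IsL34 (X : Type*) [Group X] : Prop :=
  ∃ (F : Type) (_ : Field F) (_ : Fintype F), Fintype.card F = 4 ∧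
    Nonempty (X ≃* Matrix.ProjectiveSpecialLinearGroup (Fin 3) F)

/-- `PSp₄(q)`, `q` odd. -/
def IsSp4odd (X : Type*) [Group X] : Prop :=
  ∃ (F : Type) (_ : Field F) (_ : Fintype F), Odd (Fintype.card F) ∧ Nonempty (X ≃* Cfsg.PSp 2 F)

/-- `PSL₄(q)`, `q` odd, `q ≢ 1 mod 8`. -/
def IsL4odd (X : Type*) [Group X] : Prop :=
  ∃ (F : Type) (_ : Field F) (_ : Fintype F), Odd (Fintype.card F) ∧ Fintype.card F % 8 ≠ 1 ∧
    Nonempty (X ≃* Matrix.ProjectiveSpecialLinearGroup (Fin 4) F)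

/-- `PSU₄(q)`, `q` odd, `q ≢ 7 mod 8`. -/
def IsU4odd (X : Type*) [Group X] : Prop :=
  ∃ (F : Type) (_ : Field F) (_ : Fintype F) (q : ℕ), Fintype.card F = q ^ 2 ∧ Odd q ∧ q % 8 ≠ 7 ∧
    Nonempty (X ≃* Cfsg.PSU 4 F q)

/-- `PSL₅(q)`, `q ≡ 3 mod 4`. -/
def IsL5odd (X : Type*) [Group X] : Prop :=
  ∃ (F : Type) (_ : Field F) (_ : Fintype F), Fintype.card F % 4 = 3 ∧
    Nonempty (X ≃* Matrix.ProjectiveSpecialLinearGroup (Fin 5) F)

/-- `PSU₅(q)`, `q ≡ 1 mod 4`. -/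
def IsU5odd (X : Type*) [Group X] : Prop :=
  ∃ (F : Type) (_ : Field F) (_ : Fintype F) (q : ℕ), Fintype.card F = q ^ 2 ∧ q % 4 = 1 ∧
    Nonempty (X ≃* Cfsg.PSU 5 F q)

/-- `G₂(q)`, `q` odd. -/
def IsG2odd (X : Type*) [Group X] : Prop :=
  ∃ (F : Type) (_ : Field F) (_ : Fintype F), Odd (Fintype.card F) ∧
    Nonempty (X ≃* ↥(Lie.chevG2.group F))

/-- `³D₄(q)`, `q` odd. -/
def IsD4odd (X : Type*) [Group X] : Prop :=
  ∃ (K : Type) (_ : Field K) (_ : Fintype K) (q : ℕ), Odd q ∧ Fintype.card K = q ^ 3 ∧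
    Nonempty (X ≃* ↥(Lie.twistedD4 K q))

/-- The simple groups of 2-rank at most 2 (S0482). -/
def K2 (X : Type*) [Group X] : Prop :=
  IsL2odd X ∨ IsL3odd X ∨ IsU3odd X ∨ IsU34 X ∨ IsAlt 7 X ∨ Spor.IsoM11 X

/-- The simple groups of sectional 2-rank 3 with 2-rank 3. -/
def K3 (X : Type*) [Group X] : Prop :=
  IsL28 X ∨ IsSz8 X ∨ Lie.IsoRee X ∨ Spor.IsoJ1 X

/-! ### targets: Sylow 2-subgroups -/

/-- `S` is isomorphic to a Sylow 2-subgroup of `Y`. -/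
def SylOf (S : Type*) [Group S] (Y : Type*) [Group Y] : Prop :=
  ∃ P : Sylow 2 Y, Nonempty (S ≃* ↥(P : Subgroup Y))

/-- `S` is of type `PSp₄(q)`, `q` odd (S0509). -/
def TypeSp4 (S : Type*) [Group S] : Prop :=
  ∃ (F : Type) (_ : Field F) (_ : Fintype F), Odd (Fintype.card F) ∧ SylOf S (Cfsg.PSp 2 F)

/-- `S` is of type `PSL₄(q)`, `q` odd (S0510). -/
def TypeL4 (S : Type*) [Group S] : Prop :=
  ∃ (F : Type) (_ : Field F) (_ : Fintype F), Odd (Fintype.card F) ∧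
    SylOf S (Matrix.ProjectiveSpecialLinearGroup (Fin 4) F)

/-- `S` is of type `PSL₅(q)`, `q` odd (S0511). -/
def TypeL5 (S : Type*) [Group S] : Prop :=
  ∃ (F : Type) (_ : Field F) (_ : Fintype F), Odd (Fintype.card F) ∧
    SylOf S (Matrix.ProjectiveSpecialLinearGroup (Fin 5) F)

/-- `S` is of type `G₂(q)`, `q` odd (S1742). -/
def TypeG2 (S : Type*) [Group S] : Prop :=
  ∃ (F : Type) (_ : Field F) (_ : Fintype F), Odd (Fintype.card F) ∧ SylOf S ↥(Lie.chevG2.group F)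

/-- `S` is of type `PSL₃(4)` (S1740). -/
def TypeL34 (S : Type*) [Group S] : Prop :=
  ∃ (F : Type) (_ : Field F) (_ : Fintype F), Fintype.card F = 4 ∧
    SylOf S (Matrix.ProjectiveSpecialLinearGroup (Fin 3) F)

/-- `S` is of type `Sz(8)` (S1740). -/
def TypeSz8 (S : Type*) [Group S] : Prop :=
  ∃ (F : Type) (_ : Field F) (_ : Fintype F), Fintype.card F = 8 ∧ SylOf S ↥(Lie.Sz F 4)

/-- The targets for a Sylow 2-subgroup `S`. -/
def SType (S : Type*) [Group S] : Prop :=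
  IsMulCommutative S ∨ ¬ IsFourConnected S ∨ SylOf S Spor.J2 ∨ TypeSz8 S ∨ TypeL34 S ∨
    TypeSp4 S ∨ TypeL4 S ∨ TypeL5 S ∨ TypeG2 S

/-! ### 2-components of centralizers of involutions -/

section comps

variable {G : Type*} [Group G]

/-- `x` is an involution and `K` a 2-component of `C_G(x)` (a subgroup of `G`). -/
structure Comp2 (x : G) (K : Subgroup G) : Prop where
  inv : orderOf x = 2
  comp : IsComp (centralizer ({x} : Set G)) K

/-- `K / O(K)`. -/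
abbrev Bar (K : Subgroup G) : Type _ := ↥K ⧸ oddCore ↥K

/-- The simple group `(K / O(K)) / Z(K / O(K))`. -/
abbrev STop (K : Subgroup G) : Type _ := Bar K ⧸ center (Bar K)

/-- `Z(K / O(K))` has even order. -/
def EvenCenter (K : Subgroup G) : Prop := Even (Nat.card (center (Bar K)))

/-- All 2-components of all centralizers of involutions have a centre of odd order (mod core). -/
def AllOdd (G : Type*) [Group G] : Prop := ∀ (x : G) (K : Subgroup G), Comp2 x K → ¬ EvenCenter K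

end comps

/-- Hypothesis of S1738: a 2-component `2.A_n`, `n ≥ 8`, containing the involution. -/
def HasAltCover (G : Type*) [Group G] : Prop :=
  ∃ (n : ℕ) (t : G) (K : Subgroup G), 8 ≤ n ∧ Comp2 t K ∧ t ∈ K ∧
    IsNonsplitDoubleCover (Bar K) ↥(alternatingGroup (Fin n))

/-- All Sylow 2-subgroups of `X` are of type `G₂(q)`. -/
def AllG2 (X : Type*) [Group X] : Prop := ∀ S : Sylow 2 X, TypeG2 ↥(S : Subgroup X)

/-- The simple groups of sectional 2-rank at most 4.  (`McL` and `Ly` are the simple groups with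
`HasAltCover`, S1738.) -/
def K4 (X : Type*) [Group X] : Prop :=
  K2 X ∨ K3 X ∨ IsL216 X ∨ IsL34 X ∨ (∃ n, 8 ≤ n ∧ n ≤ 11 ∧ IsAlt n X) ∨
    IsSp4odd X ∨ IsL4odd X ∨ IsU4odd X ∨ IsL5odd X ∨ IsU5odd X ∨
    (IsG2odd X ∧ AllG2 X) ∨ (IsD4odd X ∧ AllG2 X) ∨
    Spor.IsoM12 X ∨ Spor.IsoM22 X ∨ Spor.IsoM23 X ∨ Spor.IsoJ2 X ∨ Spor.IsoJ3 X ∨ HasAltCover X

/-- The targets for the group `G`. -/
def GType (G : Type*) [Group G] : Prop :=
  (∃ S : Sylow 2 G, SType ↥(S : Subgroup G)) ∨ (∃ H : Subgroup G, IsStronglyEmbedded H) ∨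
    HasAltCover G

/-! ### invariance under isomorphism -/

section congr

variable {X Y : Type*} [Group X] [Group Y]

theorem IsL2odd.congr (e : X ≃* Y) (h : IsL2odd X) : IsL2odd Y := by
  obtain ⟨F, i, j, h1, h2, ⟨f⟩⟩ := h
  exact ⟨F, i, j, h1, h2, ⟨e.symm.trans f⟩⟩

theorem IsL3odd.congr (e : X ≃* Y) (h : IsL3odd X) : IsL3odd Y := by
  obtain ⟨F, i, j, h1, ⟨f⟩⟩ := h
  exact ⟨F, i, j, h1, ⟨e.symm.trans f⟩⟩

theorem IsU3odd.congr (e : X ≃* Y) (h : IsU3odd X) : IsU3odd Y := by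
  obtain ⟨F, i, j, q, h1, h2, ⟨f⟩⟩ := h
  exact ⟨F, i, j, q, h1, h2, ⟨e.symm.trans f⟩⟩

theorem IsU34.congr (e : X ≃* Y) (h : IsU34 X) : IsU34 Y := by
  obtain ⟨F, i, j, h1, ⟨f⟩⟩ := h
  exact ⟨F, i, j, h1, ⟨e.symm.trans f⟩⟩

theorem IsAlt.congr {n : ℕ} (e : X ≃* Y) (h : IsAlt n X) : IsAlt n Y := by
  obtain ⟨f⟩ := h
  exact ⟨e.symm.trans f⟩

theorem IsL28.congr (e : X ≃* Y) (h : IsL28 X) : IsL28 Y := by
  obtain ⟨F, i, j, h1, ⟨f⟩⟩ := h
  exact ⟨F, i, j, h1, ⟨e.symm.trans f⟩⟩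

theorem IsL216.congr (e : X ≃* Y) (h : IsL216 X) : IsL216 Y := by
  obtain ⟨F, i, j, h1, ⟨f⟩⟩ := h
  exact ⟨F, i, j, h1, ⟨e.symm.trans f⟩⟩

theorem IsSz8.congr (e : X ≃* Y) (h : IsSz8 X) : IsSz8 Y := by
  obtain ⟨F, i, j, h1, ⟨f⟩⟩ := h
  exact ⟨F, i, j, h1, ⟨e.symm.trans f⟩⟩

theorem IsL34.congr (e : X ≃* Y) (h : IsL34 X) : IsL34 Y := by
  obtain ⟨F, i, j, h1, ⟨f⟩⟩ := h
  exact ⟨F, i, j, h1, ⟨e.symm.trans f⟩⟩

theorem IsSp4odd.congr (e : X ≃* Y) (h : IsSp4odd X) : IsSp4odd Y := by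
  obtain ⟨F, i, j, h1, ⟨f⟩⟩ := h
  exact ⟨F, i, j, h1, ⟨e.symm.trans f⟩⟩

theorem IsL4odd.congr (e : X ≃* Y) (h : IsL4odd X) : IsL4odd Y := by
  obtain ⟨F, i, j, h1, h2, ⟨f⟩⟩ := h
  exact ⟨F, i, j, h1, h2, ⟨e.symm.trans f⟩⟩

theorem IsU4odd.congr (e : X ≃* Y) (h : IsU4odd X) : IsU4odd Y := by
  obtain ⟨F, i, j, q, h1, h2, h3, ⟨f⟩⟩ := h
  exact ⟨F, i, j, q, h1, h2, h3, ⟨e.symm.trans f⟩⟩

theorem IsL5odd.congr (e : X ≃* Y) (h : IsL5odd X) : IsL5odd Y := by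
  obtain ⟨F, i, j, h1, ⟨f⟩⟩ := h
  exact ⟨F, i, j, h1, ⟨e.symm.trans f⟩⟩

theorem IsU5odd.congr (e : X ≃* Y) (h : IsU5odd X) : IsU5odd Y := by
  obtain ⟨F, i, j, q, h1, h2, ⟨f⟩⟩ := h
  exact ⟨F, i, j, q, h1, h2, ⟨e.symm.trans f⟩⟩

theorem IsG2odd.congr (e : X ≃* Y) (h : IsG2odd X) : IsG2odd Y := by
  obtain ⟨F, i, j, h1, ⟨f⟩⟩ := h
  exact ⟨F, i, j, h1, ⟨e.symm.trans f⟩⟩

theorem IsD4odd.congr (e : X ≃* Y) (h : IsD4odd X) : IsD4odd Y := by
  obtain ⟨F, i, j, q, h1, h2, ⟨f⟩⟩ := h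
  exact ⟨F, i, j, q, h1, h2, ⟨e.symm.trans f⟩⟩

theorem isoRee_congr (e : X ≃* Y) (h : Lie.IsoRee X) : Lie.IsoRee Y := by
  obtain ⟨F, i, j, m, h1, h2, ⟨f⟩⟩ := h
  exact ⟨F, i, j, m, h1, h2, ⟨e.symm.trans f⟩⟩

theorem K2.congr (e : X ≃* Y) (h : K2 X) : K2 Y := by
  rcases h with h | h | h | h | h | ⟨⟨f⟩⟩
  · exact Or.inl (h.congr e)
  · exact Or.inr (Or.inl (h.congr e))
  · exact Or.inr (Or.inr (Or.inl (h.congr e)))
  · exact Or.inr (Or.inr (Or.inr (Or.inl (h.congr e))))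
  · exact Or.inr (Or.inr (Or.inr (Or.inr (Or.inl (h.congr e)))))
  · exact Or.inr (Or.inr (Or.inr (Or.inr (Or.inr ⟨e.symm.trans f⟩))))

theorem K3.congr (e : X ≃* Y) (h : K3 X) : K3 Y := by
  rcases h with h | h | h | ⟨⟨f⟩⟩
  · exact Or.inl (h.congr e)
  · exact Or.inr (Or.inl (h.congr e))
  · exact Or.inr (Or.inr (Or.inl (isoRee_congr e h)))
  · exact Or.inr (Or.inr (Or.inr ⟨e.symm.trans f⟩))

theorem SylOf.congr {S T : Type*} [Group S] [Group T] (e : S ≃* T) (h : SylOf S Y) : SylOf T Y := by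
  obtain ⟨P, ⟨f⟩⟩ := h
  exact ⟨P, ⟨e.symm.trans f⟩⟩

theorem TypeSp4.congr {S T : Type*} [Group S] [Group T] (e : S ≃* T) (h : TypeSp4 S) :
    TypeSp4 T := by
  obtain ⟨F, i, j, h1, h2⟩ := h
  exact ⟨F, i, j, h1, h2.congr e⟩

theorem TypeL4.congr {S T : Type*} [Group S] [Group T] (e : S ≃* T) (h : TypeL4 S) :
    TypeL4 T := by
  obtain ⟨F, i, j, h1, h2⟩ := h
  exact ⟨F, i, j, h1, h2.congr e⟩

theorem TypeL5.congr {S T : Type*} [Group S] [Group T] (e : S ≃* T) (h : TypeL5 S) :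
    TypeL5 T := by
  obtain ⟨F, i, j, h1, h2⟩ := h
  exact ⟨F, i, j, h1, h2.congr e⟩

theorem TypeG2.congr {S T : Type*} [Group S] [Group T] (e : S ≃* T) (h : TypeG2 S) :
    TypeG2 T := by
  obtain ⟨F, i, j, h1, h2⟩ := h
  exact ⟨F, i, j, h1, h2.congr e⟩

theorem TypeL34.congr {S T : Type*} [Group S] [Group T] (e : S ≃* T) (h : TypeL34 S) :
    TypeL34 T := by
  obtain ⟨F, i, j, h1, h2⟩ := h
  exact ⟨F, i, j, h1, h2.congr e⟩

theorem TypeSz8.congr {S T : Type*} [Group S] [Group T] (e : S ≃* T) (h : TypeSz8 S) :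
    TypeSz8 T := by
  obtain ⟨F, i, j, h1, h2⟩ := h
  exact ⟨F, i, j, h1, h2.congr e⟩

theorem isSimple_congr (e : X ≃* Y) (h : IsSimpleGroup X) : IsSimpleGroup Y := by
  have : Nontrivial Y := e.symm.toEquiv.nontrivial
  exact IsSimpleGroup.isSimpleGroup_of_surjective e.toMonoidHom e.surjective

/-- Sylow 2-subgroups correspond under an isomorphism. -/
theorem sylow_congr (e : X ≃* Y) (S : Sylow 2 Y) :
    ∃ T : Sylow 2 X, Nonempty (↥(T : Subgroup X) ≃* ↥(S : Subgroup Y)) := by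
  refine ⟨S.comapOfInjective e.toMonoidHom e.injective (by
    rw [MonoidHom.range_eq_top.mpr e.surjective]; exact le_top), ⟨?_⟩⟩
  refine ((S : Subgroup Y).comap e.toMonoidHom).equivMapOfInjective e.toMonoidHom
    e.injective |>.trans (MulEquiv.subgroupCongr ?_)
  exact Subgroup.map_comap_eq_self_of_surjective e.surjective _

theorem AllG2.congr (e : X ≃* Y) (h : AllG2 X) : AllG2 Y := by
  intro S
  obtain ⟨T, ⟨f⟩⟩ := sylow_congr e S
  exact (h T).congr f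

theorem isComp_congr (e : X ≃* Y) {H K : Subgroup X} (h : IsComp H K) :
    IsComp (H.map e.toMonoidHom) (K.map e.toMonoidHom) := by
  refine ⟨Subgroup.map_mono h.1, ?_⟩
  have h1 := isPComponent_map_equiv 2 (H.equivMapOfInjective e.toMonoidHom e.injective) h.2
  have e1 : (K.map e.toMonoidHom).subgroupOf (H.map e.toMonoidHom) =
      (K.subgroupOf H).map (H.equivMapOfInjective e.toMonoidHom e.injective).toMonoidHom := by
    ext x
    constructor
    · intro hx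
      obtain ⟨y, hy, hyx⟩ := (hx : (x : Y) ∈ K.map e.toMonoidHom)
      refine ⟨⟨y, h.1 hy⟩, hy, ?_⟩
      apply Subtype.ext
      exact hyx
    · rintro ⟨y, hy, rfl⟩
      exact ⟨(y : X), hy, rfl⟩
  rw [e1]
  exact h1

theorem map_centralizer_singleton (e : X ≃* Y) (x : X) :
    (centralizer ({x} : Set X)).map e.toMonoidHom = centralizer ({e x} : Set Y) := by
  ext y
  constructor
  · rintro ⟨z, hz, rfl⟩
    rw [mem_centralizer_singleton_iff]
    have := mem_centralizer_singleton_iff.mp hz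
    change e z * e x = e x * e z
    rw [← map_mul, this, map_mul]
  · intro hy
    refine ⟨e.symm y, ?_, e.apply_symm_apply y⟩
    have := mem_centralizer_singleton_iff.mp hy
    refine mem_centralizer_singleton_iff.mpr (e.injective ?_)
    rw [map_mul, map_mul, e.apply_symm_apply]
    exact this

theorem Comp2.congr (e : X ≃* Y) {x : X} {K : Subgroup X} (h : Comp2 x K) :
    Comp2 (e x) (K.map e.toMonoidHom) := by
  refine ⟨?_, ?_⟩
  · rw [← h.inv]
    exact orderOf_injective e.toMonoidHom e.injective x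
  · rw [← map_centralizer_singleton]
    exact isComp_congr e h.comp

/-- `K / O(K)` under an isomorphism. -/
noncomputable def barEquiv (e : X ≃* Y) (K : Subgroup X) : Bar K ≃* Bar (K.map e.toMonoidHom) :=
  QuotientGroup.congr _ _ (K.equivMapOfInjective e.toMonoidHom e.injective)
    (Lib.Cores.map_equiv_pPrimeCore _ 2)

theorem HasAltCover.congr (e : X ≃* Y) (h : HasAltCover X) : HasAltCover Y := by
  obtain ⟨n, t, K, hn, hc, htK, hK⟩ := h
  exact ⟨n, e t, K.map e.toMonoidHom, hn, hc.congr e, ⟨t, htK, rfl⟩, cover_congr (barEquiv e K) hK⟩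

theorem K4.congr (e : X ≃* Y) (h : K4 X) : K4 Y := by
  rcases h with h | h | h | h | ⟨n, h1, h2, h⟩ | h | h | h | h | h | ⟨h, h'⟩ | ⟨h, h'⟩ | ⟨⟨f⟩⟩ |
    ⟨⟨f⟩⟩ | ⟨⟨f⟩⟩ | ⟨⟨f⟩⟩ | ⟨F, i, j, w, h1, h2, ⟨f⟩⟩ | h
  · exact Or.inl (h.congr e)
  · exact Or.inr (Or.inl (h.congr e))
  · exact Or.inr (Or.inr (Or.inl (h.congr e)))
  · exact Or.inr (Or.inr (Or.inr (Or.inl (h.congr e))))
  · exact Or.inr (Or.inr (Or.inr (Or.inr (Or.inl ⟨n, h1, h2, h.congr e⟩))))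
  · exact Or.inr (Or.inr (Or.inr (Or.inr (Or.inr (Or.inl (h.congr e))))))
  · exact Or.inr (Or.inr (Or.inr (Or.inr (Or.inr (Or.inr (Or.inl (h.congr e)))))))
  · exact Or.inr (Or.inr (Or.inr (Or.inr (Or.inr (Or.inr (Or.inr (Or.inl (h.congr e))))))))
  · exact Or.inr (Or.inr (Or.inr (Or.inr (Or.inr (Or.inr (Or.inr (Or.inr (Or.inl
      (h.congr e)))))))))
  · exact Or.inr (Or.inr (Or.inr (Or.inr (Or.inr (Or.inr (Or.inr (Or.inr (Or.inr (Or.inl
      (h.congr e))))))))))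
  · exact Or.inr (Or.inr (Or.inr (Or.inr (Or.inr (Or.inr (Or.inr (Or.inr (Or.inr (Or.inr (Or.inl
      ⟨h.congr e, h'.congr e⟩))))))))))
  · exact Or.inr (Or.inr (Or.inr (Or.inr (Or.inr (Or.inr (Or.inr (Or.inr (Or.inr (Or.inr (Or.inr
      (Or.inl ⟨h.congr e, h'.congr e⟩)))))))))))
  · exact Or.inr (Or.inr (Or.inr (Or.inr (Or.inr (Or.inr (Or.inr (Or.inr (Or.inr (Or.inr (Or.inr
      (Or.inr (Or.inl ⟨e.symm.trans f⟩))))))))))))
  · exact Or.inr (Or.inr (Or.inr (Or.inr (Or.inr (Or.inr (Or.inr (Or.inr (Or.inr (Or.inr (Or.inr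
      (Or.inr (Or.inr (Or.inl ⟨e.symm.trans f⟩)))))))))))))
  · exact Or.inr (Or.inr (Or.inr (Or.inr (Or.inr (Or.inr (Or.inr (Or.inr (Or.inr (Or.inr (Or.inr
      (Or.inr (Or.inr (Or.inr (Or.inl ⟨e.symm.trans f⟩))))))))))))))
  · exact Or.inr (Or.inr (Or.inr (Or.inr (Or.inr (Or.inr (Or.inr (Or.inr (Or.inr (Or.inr (Or.inr
      (Or.inr (Or.inr (Or.inr (Or.inr (Or.inl ⟨e.symm.trans f⟩)))))))))))))))
  · exact Or.inr (Or.inr (Or.inr (Or.inr (Or.inr (Or.inr (Or.inr (Or.inr (Or.inr (Or.inr (Or.inr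
      (Or.inr (Or.inr (Or.inr (Or.inr (Or.inr (Or.inl
      ⟨F, i, j, w, h1, h2, ⟨e.symm.trans f⟩⟩))))))))))))))))
  · exact Or.inr (Or.inr (Or.inr (Or.inr (Or.inr (Or.inr (Or.inr (Or.inr (Or.inr (Or.inr (Or.inr
      (Or.inr (Or.inr (Or.inr (Or.inr (Or.inr (Or.inr (h.congr e)))))))))))))))))

end congr

/-! ### the minimal situation -/

/-- The minimal situation for S0500. -/
structure Hyp (G : Type*) [Group G] : Prop where
  simple : IsSimpleGroup G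
  nonComm : ¬ IsMulCommutative G
  rank4 : SectionalPRankLE 2 4 G
  rank3 : ¬ PRankLE 2 2 G
  sec : ∀ H : Subgroup G, H ≠ ⊤ → ∀ (N : Subgroup H) [N.Normal], IsSimpleGroup (H ⧸ N) →
    ¬ IsMulCommutative (H ⧸ N) → K4 (H ⧸ N)

section hyp

variable {G : Type*} [Group G]

theorem Hyp.exists_not_comm (h : Hyp G) : ∃ a b : G, a * b ≠ b * a := by
  by_contra hcon
  push Not at hcon
  exact h.nonComm ⟨⟨hcon⟩⟩

/-- The centre of `G` is trivial. -/
theorem Hyp.center_eq_bot (h : Hyp G) : center G = ⊥ := by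
  have := h.simple
  rcases (inferInstance : (center G).Normal).eq_bot_or_eq_top with h1 | h1
  · exact h1
  · exfalso
    obtain ⟨a, b, hab⟩ := h.exists_not_comm
    exact hab (mem_center_iff.mp (h1 ▸ mem_top b : b ∈ center G) a)

/-- Centralizers of nontrivial elements are proper. -/
theorem Hyp.centralizer_ne_top (h : Hyp G) {x : G} (hx : x ≠ 1) :
    centralizer ({x} : Set G) ≠ ⊤ := by
  intro h1
  apply hx
  rw [← mem_bot, ← h.center_eq_bot, mem_center_iff]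
  intro g
  exact mem_centralizer_singleton_iff.mp (h1 ▸ mem_top g : g ∈ centralizer ({x} : Set G))

/-- A simple nonabelian image of a proper subgroup is in the list `K4`. -/
theorem Hyp.k4_of_surjective (h : Hyp G) {H : Subgroup G} (hH : H ≠ ⊤) {X : Type*} [Group X]
    (f : H →* X) (hf : Function.Surjective f) (hs : IsSimpleGroup X) (hX : ¬ IsMulCommutative X) :
    K4 X := by
  have e : H ⧸ f.ker ≃* X := QuotientGroup.quotientKerEquivOfSurjective f hf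
  refine K4.congr e (h.sec H hH f.ker (isSimple_congr e.symm hs) fun hc => hX ⟨⟨fun a b => ?_⟩⟩)
  obtain ⟨a, rfl⟩ := e.surjective a
  obtain ⟨b, rfl⟩ := e.surjective b
  rw [← map_mul, ← map_mul, hc.is_comm.comm a b]

theorem Hyp.oddCore_eq_bot [Finite G] (h : Hyp G) : oddCore G = ⊥ := by
  have := h.simple
  rcases (pPrimeCore_normal 2 G).eq_bot_or_eq_top with h1 | h1
  · exact h1
  · exfalso
    have hodd : Odd (Nat.card G) := by
      have hc : (Nat.card (oddCore G)).Coprime 2 := Lib.Cores.pPrimeCore_coprime (G := G) 2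
      have h2 : oddCore G = ⊤ := h1
      rw [h2, Subgroup.card_top] at hc
      exact Nat.coprime_two_right.1 hc
    apply h.rank3
    intro A _ hA
    have hA1 : Nat.card A = 1 := by
      have h3 : ∀ a ∈ A, a = 1 := by
        intro a ha
        have h4 : orderOf a ∣ 2 := orderOf_dvd_of_pow_eq_one (hA a ha)
        have h5 : orderOf a ∣ Nat.card G := orderOf_dvd_natCard a
        have h6 := Nat.eq_one_of_dvd_coprimes (Nat.coprime_two_right.2 hodd) h5 h4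
        exact orderOf_eq_one_iff.1 h6
      have h7 : A = ⊥ := by
        rw [eq_bot_iff]
        intro a ha
        exact mem_bot.2 (h3 a ha)
      rw [h7, Subgroup.card_bot]
    omega

theorem Hyp.even_card [Finite G] (h : Hyp G) : Even (Nat.card G) := by
  by_contra hodd
  rw [Nat.not_even_iff_odd] at hodd
  have h1 : oddCore G = ⊤ := by
    rw [eq_top_iff]
    exact le_sSup (show (⊤ : Subgroup G) ∈ _ from ⟨inferInstance, by
      rw [Subgroup.card_top]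
      exact Nat.coprime_two_right.2 hodd⟩)
  rw [h.oddCore_eq_bot] at h1
  have := h.simple
  exact bot_ne_top h1

end hyp

end Cfsg.Agent.GH.Defs
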