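import Cfsg.Agent.GH.QADefs
import Cfsg.Agent.S0215

/-!
# GH-Q (I): Glauberman's theorem in relative form

* `zstar` : an involution `u` of `G` commuting with no other conjugate is central modulo an odd normal
  subgroup.
* `zstar_rel` : the same inside a subgroup `M`.
* `fixes_of_qt` : an involution of a subgroup `K` with `QT K` fixes `K`.
* `not_isolated` : in a simple nonabelian group every involution commutes with another conjugate.
-/

set_option autoImplicit false

open Cfsg Subgroup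
open Cfsg.Agent.Intrinsic.Basic Cfsg.Agent.Intrinsic.Cen
open Cfsg.Agent.SignalizersComponents.IntrinsicBasic
open Cfsg.Agent.GH.Defs
open scoped commutatorElement

namespace Cfsg.Agent.GH.QA

section dihedral

variable {G : Type*} [Group G] {x y : G}

theorem pow_x (hx : x * x = 1) (hy : y * y = 1) (n : ℕ) : (x * y) ^ n * x = x * ((x * y) ^ n)⁻¹ := by
  have hxi : x⁻¹ = x := inv_eq_of_mul_eq_one_left hx
  have hyi : y⁻¹ = y := inv_eq_of_mul_eq_one_left hy
  have hxr : x * (x * y) * x⁻¹ = (x * y)⁻¹ := by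
    rw [mul_inv_rev, hxi, hyi, ← mul_assoc, hx, one_mul]
  have hpow : x * (x * y) ^ n * x⁻¹ = ((x * y) ^ n)⁻¹ := by rw [← conj_pow, hxr, inv_pow]
  rw [← hpow, hxi, ← mul_assoc, ← mul_assoc, hx, one_mul]

theorem pow_conj (hx : x * x = 1) (hy : y * y = 1) (n : ℕ) :
    (x * y) ^ n * x * ((x * y) ^ n)⁻¹ = x * ((x * y) ^ (2 * n))⁻¹ := by
  rw [pow_x hx hy, two_mul, pow_add, mul_inv_rev, mul_assoc]

/-- even case -/
theorem even_case [Finite G] (hx : x * x = 1) (hy : y * y = 1) (h : ¬ Odd (orderOf (x * y))) :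
    ∃ m : ℕ, (x * y) ^ m ≠ 1 ∧ (x * y) ^ m * (x * y) ^ m = 1 ∧ x * (x * y) ^ m = (x * y) ^ m * x ∧
      ∃ g : G, g * x * g⁻¹ = x * (x * y) ^ m ∨ g * y * g⁻¹ = x * (x * y) ^ m := by
  obtain ⟨m, hm⟩ := Nat.not_odd_iff_even.mp h
  have hpos : 0 < orderOf (x * y) := orderOf_pos _
  have hmpos : 0 < m := by omega
  have hc2 : (x * y) ^ m * (x * y) ^ m = 1 := by
    rw [← pow_add, ← hm]; exact pow_orderOf_eq_one _
  have hci : ((x * y) ^ m)⁻¹ = (x * y) ^ m := inv_eq_of_mul_eq_one_left hc2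
  refine ⟨m, ?_, hc2, ?_, ?_⟩
  · intro h
    have h1 := orderOf_dvd_of_pow_eq_one h
    have := Nat.le_of_dvd hmpos h1
    omega
  · rw [pow_x hx hy m, hci]
  · rcases Nat.even_or_odd m with ⟨j, hj⟩ | ⟨j, hj⟩
    · refine ⟨(x * y) ^ j, Or.inl ?_⟩
      rw [pow_conj hx hy, two_mul, ← hj, hci]
    · refine ⟨(x * y) ^ (j + 1), Or.inr ?_⟩
      have hy' : y = x * (x * y) := by rw [← mul_assoc, hx, one_mul]
      have h3 : (x * y) * ((x * y) ^ (j + 1))⁻¹ = ((x * y) ^ (j + 1))⁻¹ * (x * y) := by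
        have := (Commute.refl (x * y)).pow_right (j + 1)
        exact (this.inv_right).eq
      have hcy : (x * y) ^ (j + 1) * y * ((x * y) ^ (j + 1))⁻¹ =
          x * ((x * y) ^ (2 * (j + 1)))⁻¹ * (x * y) := by
        calc (x * y) ^ (j + 1) * y * ((x * y) ^ (j + 1))⁻¹
            = (x * y) ^ (j + 1) * (x * (x * y)) * ((x * y) ^ (j + 1))⁻¹ := by rw [← hy']
          _ = (x * y) ^ (j + 1) * x * ((x * y) * ((x * y) ^ (j + 1))⁻¹) := by simp only [mul_assoc]
          _ = (x * y) ^ (j + 1) * x * ((x * y) ^ (j + 1))⁻¹ * (x * y) := by rw [h3]; group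
          _ = _ := by rw [pow_conj hx hy]
      have h6 : ((x * y) ^ (2 * (j + 1)))⁻¹ * (x * y) = ((x * y) ^ m)⁻¹ := by
        have : (x * y) ^ (2 * (j + 1)) = (x * y) * (x * y) ^ m := by
          rw [hj, ← pow_succ']; congr 1
        rw [this, mul_inv_rev, mul_assoc, inv_mul_cancel, mul_one]
      rw [hcy, mul_assoc, h6, hci]

end dihedral

/-- Glauberman's theorem for an involution commuting with no other conjugate. -/
theorem zstar {G : Type*} [Group G] [Finite G] {u : G} (h2 : u * u = 1) (h1 : u ≠ 1)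
    (hiso : ∀ g : G, u * (g * u * g⁻¹) = (g * u * g⁻¹) * u → g * u * g⁻¹ = u) :
    ∃ N : Subgroup G, N.Normal ∧ Odd (Nat.card N) ∧ ∀ g : G, (u * g * u⁻¹ * g⁻¹) ∈ N := by
  have hp : Fact (Nat.Prime 2) := ⟨Nat.prime_two⟩
  have ho : orderOf u = 2 := orderOf_eq_prime (by rw [pow_two, h2]) h1
  have hpg : IsPGroup 2 (zpowers u) := by
    apply IsPGroup.of_card (n := 1)
    rw [Nat.card_zpowers, pow_one, ho]
  obtain ⟨P, hP⟩ := hpg.exists_le_sylow
  have huP : u ∈ (P : Subgroup G) := hP (mem_zpowers u)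
  refine Cfsg.Agent.S0215.result P u ho huP ?_
  intro g hg
  by_contra hne
  have hsq : ∀ g : G, (g * u * g⁻¹) * (g * u * g⁻¹) = 1 := by
    intro g
    calc (g * u * g⁻¹) * (g * u * g⁻¹) = g * (u * u) * g⁻¹ := by group
      _ = 1 := by rw [h2]; group
  have hmem : u * (g * u * g⁻¹) ∈ (P : Subgroup G) := mul_mem huP hg
  have hodd : ¬ Odd (orderOf (u * (g * u * g⁻¹))) := by
    intro hodd
    obtain ⟨n, hn⟩ := P.2 ⟨_, hmem⟩
    have hn' : (u * (g * u * g⁻¹)) ^ 2 ^ n = 1 := congrArg Subtype.val hn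
    have h3 : orderOf (u * (g * u * g⁻¹)) = 1 :=
      Nat.eq_one_of_dvd_coprimes (Nat.Coprime.pow_right n (Nat.coprime_two_right.2 hodd)) dvd_rfl
        (orderOf_dvd_of_pow_eq_one hn')
    rw [orderOf_eq_one_iff] at h3
    apply hne
    calc g * u * g⁻¹ = u * (u * (g * u * g⁻¹)) := by rw [← mul_assoc, h2, one_mul]
      _ = u := by rw [h3, mul_one]
  obtain ⟨m, hm1, hm2, hm3, k, hk⟩ := even_case h2 (hsq g) hodd
  set w := (u * (g * u * g⁻¹)) ^ m with hw
  obtain ⟨l, hl⟩ : ∃ l : G, l * u * l⁻¹ = u * w := by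
    rcases hk with hk | hk
    · exact ⟨k, hk⟩
    · refine ⟨k * g, ?_⟩
      rw [← hk]; group
  have h3 := hiso l (by rw [hl, mul_assoc, ← hm3])
  rw [hl] at h3
  exact hm1 (mul_eq_left.mp h3)

/-- Glauberman's theorem relative to a subgroup `M`. -/
theorem zstar_rel {G : Type*} [Group G] [Finite G] {M : Subgroup G} {u : G} (hu : u ∈ M)
    (h2 : u * u = 1) (h1 : u ≠ 1)
    (hiso : ∀ g ∈ M, u * (g * u * g⁻¹) = (g * u * g⁻¹) * u → g * u * g⁻¹ = u) :
    ∀ g ∈ M, ⁅u, g⁆ ∈ core M := by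
  have h2' : (⟨u, hu⟩ : M) * ⟨u, hu⟩ = 1 := Subtype.ext h2
  obtain ⟨N, hN, hodd, hc⟩ := zstar h2' (fun h => h1 (congrArg Subtype.val h)) (by
    rintro ⟨g, hg⟩ h
    apply Subtype.ext
    exact hiso g hg (congrArg Subtype.val h))
  have hle : N ≤ oddCore ↥M := le_sSup (show N ∈ _ from ⟨hN, Nat.coprime_two_right.2 hodd⟩)
  intro g hg
  exact ⟨_, hle (hc ⟨g, hg⟩), rfl⟩

/-- An involution of `K` commuting with no other involution of `K` fixes `K`. -/
theorem fixes_of_qt {G : Type*} [Group G] [Finite G] {K : Subgroup G} (hK : QT K) {u : G}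
    (hu : u ∈ K) (h2 : u * u = 1) (h1 : u ≠ 1) : Fixes u K := by
  refine ⟨le_normalizer hu, ?_⟩
  refine zstar_rel hu h2 h1 ?_
  intro g hg h
  refine (hK u hu _ (mul_mem (mul_mem hg hu) (inv_mem hg)) h2 ?_ h1 ?_ h).symm
  · calc (g * u * g⁻¹) * (g * u * g⁻¹) = g * (u * u) * g⁻¹ := by group
      _ = 1 := by rw [h2]; group
  · intro h3
    apply h1
    calc u = g⁻¹ * (g * u * g⁻¹) * g := by group
      _ = 1 := by rw [h3]; group

/-- In a simple nonabelian group every involution commutes with another conjugate. -/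
theorem not_isolated {G : Type*} [Group G] [Finite G] (hs : IsSimpleGroup G)
    (hnc : ¬ IsMulCommutative G) {u : G} (h2 : u * u = 1) (h1 : u ≠ 1) :
    ∃ g : G, u * (g * u * g⁻¹) = (g * u * g⁻¹) * u ∧ g * u * g⁻¹ ≠ u := by
  by_contra hcon
  push Not at hcon
  obtain ⟨N, hN, hodd, hc⟩ := zstar h2 h1 hcon
  rcases hN.eq_bot_or_eq_top with rfl | rfl
  · -- `u` is central
    have hz : u ∈ center G := by
      rw [mem_center_iff]
      intro g
      have h3 := hc g
      rw [mem_bot] at h3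
      have h4 : u * g = g * u := by
        calc u * g = (u * g * u⁻¹ * g⁻¹) * (g * u) := by group
          _ = g * u := by rw [h3, one_mul]
      exact h4.symm
    rcases (inferInstance : (center G).Normal).eq_bot_or_eq_top with h5 | h5
    · rw [h5, mem_bot] at hz
      exact h1 hz
    · apply hnc
      refine ⟨⟨fun a b => ?_⟩⟩
      exact (mem_center_iff.mp (h5 ▸ mem_top b : b ∈ center G) a)
  · rw [card_top] at hodd
    have ho : orderOf u = 2 := orderOf_eq_prime (by rw [pow_two, h2]) h1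
    have h3 : 2 ∣ Nat.card G := ho ▸ orderOf_dvd_natCard u
    exact (Nat.not_even_iff_odd.2 hodd) (even_iff_two_dvd.2 h3)

end Cfsg.Agent.GH.QA
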