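import Cfsg.Agent.GH.L2Aut

/-!
# Four-groups of `L ≅ PSL(2,F)` and automorphisms fixing them

* `Rep.exists_inv_lift` : an involution of `L` lifts to `i` with `i * i = -1`;
* `Rep.pair_conj` : two pairs `(i,j)` with `i² = j² = -1`, `i j = - j i` are conjugate under `GL(2,F)`;
* `Rep.four_conj` : `PGL` is transitive on pairs of distinct commuting involutions;
* `Rep.fix_four` : an element of `PGL` fixing two distinct commuting involutions `a, b` is conjugation
  by an element of `{1,a,b,ab}`;
* `Rep.exists_frame` : the full pointwise stabilizer of a four-group in `Aut(L)`.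
-/

set_option autoImplicit false

namespace Cfsg.Agent.GH.L2Aut

open Matrix Cfsg.Agent.Lib.SL2Mat Cfsg.Agent.Lib.AutSL2 Cfsg.Agent.Lib.AutSL2Out

section mat

variable {F : Type*} [Field F]

local notation "SL2" => Matrix.SpecialLinearGroup (Fin 2) F
local notation "M2" => Matrix (Fin 2) (Fin 2) F

omit [Field F] in
theorem mat_ext {A B : M2} (h00 : A 0 0 = B 0 0) (h01 : A 0 1 = B 0 1)
    (h10 : A 1 0 = B 1 0) (h11 : A 1 1 = B 1 1) : A = B := by
  ext i j
  fin_cases i <;> fin_cases j
  · exact h00
  · exact h01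
  · exact h10
  · exact h11

theorem mat_mul (A B : M2) (i j : Fin 2) : (A * B) i j = A i 0 * B 0 j + A i 1 * B 1 j := by
  rw [Matrix.mul_apply, Fin.sum_univ_two]

/-- `A ∈ GL₂` from a nonzero determinant -/
noncomputable def toGL' (A : M2) (h : A.det ≠ 0) : GL (Fin 2) F :=
  Matrix.GeneralLinearGroup.mkOfDetNeZero A h

theorem toGL'_val (A : M2) (h : A.det ≠ 0) : (toGL' A h).1 = A := rfl

theorem conjGL_eq_of {g : GL (Fin 2) F} {x y : SL2} (h : g.1 * x.1 = y.1 * g.1) :
    conjGL g x = y := by
  apply Subtype.ext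
  rw [conjGL_val, h, Matrix.mul_assoc, ← Units.val_mul, mul_inv_cancel, Units.val_one,
    Matrix.mul_one]

theorem of_conjGL_eq {g : GL (Fin 2) F} {x y : SL2} (h : conjGL g x = y) :
    g.1 * x.1 = y.1 * g.1 := by
  rw [← h, conjGL_val, Matrix.mul_assoc _ _ g.1, inv_val_mul_val, Matrix.mul_one]

/-- every non-scalar matrix is conjugate to its companion matrix -/
theorem exists_companion (A : M2) (hA : ∀ c : F, A ≠ c • (1 : M2)) :
    ∃ g : GL (Fin 2) F, A * g.1 = g.1 * !![0, -A.det; 1, A.trace] := by
  have key : ∀ x y : F, x * (A 1 0 * x + A 1 1 * y) - y * (A 0 0 * x + A 0 1 * y) ≠ 0 →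
      ∃ g : GL (Fin 2) F, A * g.1 = g.1 * !![0, -A.det; 1, A.trace] := by
    intro x y h
    have hd : (!![x, A 0 0 * x + A 0 1 * y; y, A 1 0 * x + A 1 1 * y] : M2).det ≠ 0 := by
      rw [Matrix.det_fin_two_of]
      intro h1
      apply h
      linear_combination h1
    refine ⟨toGL' _ hd, ?_⟩
    rw [toGL'_val, Matrix.det_fin_two, Matrix.trace_fin_two]
    apply mat_ext
    · rw [mat_mul, mat_mul]; simp
    · rw [mat_mul, mat_mul]; simp; ring
    · rw [mat_mul, mat_mul]; simp
    · rw [mat_mul, mat_mul]; simp; ring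
  by_cases h10 : A 1 0 = 0
  · by_cases h01 : A 0 1 = 0
    · apply key 1 1
      intro h
      apply hA (A 0 0)
      apply mat_ext
      · simp
      · simp [h01]
      · simp [h10]
      · simp
        rw [h10, h01] at h
        linear_combination h
    · apply key 0 1
      intro h
      apply h01
      linear_combination -h
  · apply key 1 0
    intro h
    apply h10
    linear_combination h

/-- matrices with equal trace and determinant, not scalar, are conjugate -/
theorem mat_conj {A B : M2} (hA : ∀ c : F, A ≠ c • (1 : M2)) (hB : ∀ c : F, B ≠ c • (1 : M2))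
    (ht : A.trace = B.trace) (hd : A.det = B.det) : ∃ g : GL (Fin 2) F, g.1 * A = B * g.1 := by
  obtain ⟨g, hg⟩ := exists_companion A hA
  obtain ⟨h, hh⟩ := exists_companion B hB
  refine ⟨h * g⁻¹, ?_⟩
  rw [← ht, ← hd] at hh
  have h1 : g⁻¹.1 * A = !![0, -A.det; 1, A.trace] * g⁻¹.1 := by
    have : g⁻¹.1 * (A * g.1) * g⁻¹.1 = g⁻¹.1 * (g.1 * !![0, -A.det; 1, A.trace]) * g⁻¹.1 := by
      rw [hg]
    rw [Matrix.mul_assoc, Matrix.mul_assoc A, ← Units.val_mul, mul_inv_cancel, Units.val_one,
      Matrix.mul_one, ← Matrix.mul_assoc g⁻¹.1, inv_val_mul_val, Matrix.one_mul] at this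
    exact this
  rw [Units.val_mul, Matrix.mul_assoc, h1, ← Matrix.mul_assoc, ← hh, Matrix.mul_assoc]

theorem not_scalar (h2 : (2 : F) ≠ 0) {i : M2} {j : M2} (hj : j * j = -1) (hij : i * j = -(j * i))
    (hi : i * i = -1) (c : F) : i ≠ c • (1 : M2) := by
  rintro rfl
  rw [Matrix.smul_mul, Matrix.one_mul, Matrix.mul_smul, Matrix.mul_one] at hij
  have h1 : (2 * c) • j = 0 := by
    rw [two_mul, add_smul]
    nth_rw 1 [hij]
    exact neg_add_cancel _
  have h3 : (2 * c) • (j * j) = 0 := by rw [← Matrix.smul_mul, h1, Matrix.zero_mul]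
  rw [hj] at h3
  have h4 := congrFun (congrFun h3 0) 0
  simp at h4
  rcases h4 with h4 | h4
  · exact h2 h4
  · rw [h4, zero_smul, Matrix.zero_mul] at hi
    have h5 := congrFun (congrFun hi 0) 0
    simp at h5

/-- what commutes with `X`, `X² = -1` not scalar, is `a + b X` -/
theorem exists_ab {X : M2} (hX : ∀ c : F, X ≠ c • (1 : M2)) {M : M2} (hc : X * M = M * X) :
    ∃ a b : F, M = a • (1 : M2) + b • X := by
  have e00 := congrFun (congrFun hc 0) 0
  have e01 := congrFun (congrFun hc 0) 1
  have e10 := congrFun (congrFun hc 1) 0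
  rw [mat_mul, mat_mul] at e00 e01 e10
  by_cases h10 : X 1 0 = 0
  · by_cases h01 : X 0 1 = 0
    · have hd : X 0 0 - X 1 1 ≠ 0 := by
        intro h
        apply hX (X 0 0)
        apply mat_ext <;> simp [h01, h10]
        linear_combination -h
      rw [h01] at e01
      rw [h10] at e10
      have m01 : M 0 1 = 0 := by
        have : (X 0 0 - X 1 1) * M 0 1 = 0 := by linear_combination e01
        exact (mul_eq_zero.1 this).resolve_left hd
      have m10 : M 1 0 = 0 := by
        have : (X 0 0 - X 1 1) * M 1 0 = 0 := by linear_combination -e10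
        exact (mul_eq_zero.1 this).resolve_left hd
      refine ⟨M 0 0 - (M 0 0 - M 1 1) / (X 0 0 - X 1 1) * X 0 0, (M 0 0 - M 1 1) / (X 0 0 - X 1 1), ?_⟩
      apply mat_ext
      · simp
      · simp [m01, h01]
      · simp [m10, h10]
      · simp
        field_simp
        ring
    · refine ⟨M 0 0 - M 0 1 / X 0 1 * X 0 0, M 0 1 / X 0 1, ?_⟩
      rw [h10] at e00
      have m10 : M 1 0 = 0 := by
        have : X 0 1 * M 1 0 = 0 := by linear_combination e00
        exact (mul_eq_zero.1 this).resolve_left h01
      apply mat_ext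
      · simp
      · simp [h01]
      · simp [m10, h10]
      · simp
        field_simp
        linear_combination e01
  · refine ⟨M 0 0 - M 1 0 / X 1 0 * X 0 0, M 1 0 / X 1 0, ?_⟩
    apply mat_ext
    · simp
    · simp
      field_simp
      linear_combination -e00
    · simp [h10]
    · simp
      field_simp
      linear_combination -e10

theorem inv_of_sq {i : SL2} (hi : i.1 * i.1 = -1) : i⁻¹ = -i := by
  apply inv_eq_of_mul_eq_one_right
  apply Subtype.ext
  change i.1 * (-i).1 = 1
  rw [show (-i).1 = -i.1 from rfl, Matrix.mul_neg, hi, neg_neg]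

theorem tr_zero_of_sq {i : SL2} (hi : i.1 * i.1 = -1) : i.1.trace = 0 := by
  have h1 := Cfsg.Agent.Classification.QDW.TypeHom.add_inv i
  rw [inv_of_sq hi] at h1
  have h3 := congrFun (congrFun h1 0) 0
  rw [show (-i).1 = -i.1 from rfl, add_neg_cancel] at h3
  rw [← Cfsg.Agent.Classification.QDW.TypeHom.tr_eq]
  simpa using h3.symm

/-- Two quaternion pairs are conjugate in `GL(2,F)`. -/
theorem pair_conj (h2 : (2 : F) ≠ 0) {i j i' j' : SL2} (hi : i.1 * i.1 = -1) (hj : j.1 * j.1 = -1)
    (hij : i.1 * j.1 = -(j.1 * i.1)) (hi' : i'.1 * i'.1 = -1) (hj' : j'.1 * j'.1 = -1)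
    (hij' : i'.1 * j'.1 = -(j'.1 * i'.1)) :
    ∃ g : GL (Fin 2) F, conjGL g i' = i ∧ conjGL g j' = j := by
  have hns := not_scalar h2 hj hij hi
  have hns' := not_scalar h2 hj' hij' hi'
  obtain ⟨g, hg⟩ := mat_conj hns' hns (by rw [tr_zero_of_sq hi, tr_zero_of_sq hi'])
    (by rw [i.2, i'.2])
  have hgi : conjGL g i' = i := conjGL_eq_of hg
  obtain ⟨m, hm⟩ : ∃ m, m = conjGL g j' := ⟨_, rfl⟩
  have hmm : m.1 * m.1 = -1 := by
    have : m * m = conjGL g (j' * j') := by rw [map_mul, hm]
    have h3 : j' * j' = -1 := Subtype.ext hj'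
    rw [h3] at this
    have h4 : conjGL g (-1) = -1 := by
      apply conjGL_eq_of
      change g.1 * (-1 : M2) = (-1 : M2) * g.1
      rw [Matrix.mul_neg, Matrix.neg_mul, Matrix.mul_one, Matrix.one_mul]
    rw [h4] at this
    exact congrArg Subtype.val this
  have him : i.1 * m.1 = -(m.1 * i.1) := by
    have h3 : i' * j' = -(j' * i') := Subtype.ext hij'
    have h4 : conjGL g (i' * j') = conjGL g (-(j' * i')) := by rw [h3]
    have h5 : ∀ x : SL2, conjGL g (-x) = -conjGL g x := by
      intro x
      apply conjGL_eq_of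
      change g.1 * (-x.1) = -(conjGL g x).1 * g.1
      rw [Matrix.mul_neg, Matrix.neg_mul, of_conjGL_eq (g := g) (x := x) rfl]
    rw [h5, map_mul, map_mul, hgi, ← hm] at h4
    exact congrArg Subtype.val h4
  -- `j = M m`
  have hcomm : i.1 * (j.1 * m.1) = (j.1 * m.1) * i.1 := by
    rw [← Matrix.mul_assoc, hij, Matrix.neg_mul, Matrix.mul_assoc, him, Matrix.mul_neg, neg_neg,
      Matrix.mul_assoc]
  obtain ⟨a, b, hab⟩ := exists_ab hns hcomm
  have hjm : j.1 = -(a • m.1 + b • (i.1 * m.1)) := by
    have h3 : j.1 * m.1 * m.1 = (a • (1 : M2) + b • i.1) * m.1 := by rw [hab]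
    rw [Matrix.mul_assoc, hmm, Matrix.mul_neg, Matrix.mul_one, Matrix.add_mul, Matrix.smul_mul,
      Matrix.smul_mul, Matrix.one_mul] at h3
    rw [← h3, neg_neg]
  have htr : i.1 1 1 = -i.1 0 0 := by
    have h3 := tr_zero_of_sq hi
    rw [Matrix.trace_fin_two] at h3
    linear_combination h3
  have hdi : i.1 0 0 * i.1 1 1 - i.1 0 1 * i.1 1 0 = 1 := by
    have := i.2
    rwa [Matrix.det_fin_two] at this
  have hdet : ∀ x y : F, (x • (1 : M2) + y • i.1).det = x ^ 2 + y ^ 2 := by
    intro x y
    rw [Matrix.det_fin_two]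
    simp
    rw [htr] at hdi ⊢
    linear_combination y ^ 2 * hdi
  have hab1 : a ^ 2 + b ^ 2 = 1 := by
    rw [← hdet, ← hab, Matrix.det_mul, j.2, m.2, one_mul]
  have hmi : m.1 * i.1 = -(i.1 * m.1) := by rw [him, neg_neg]
  by_cases ha : a = 1
  · have hb : b = 0 := by
      rw [ha] at hab1
      have : b ^ 2 = 0 := by linear_combination hab1
      exact pow_eq_zero_iff two_ne_zero |>.1 this
    rw [ha, hb, one_smul, zero_smul, add_zero] at hjm
    refine ⟨Matrix.SpecialLinearGroup.toGL i * g, ?_, ?_⟩
    · rw [map_mul, MulAut.mul_apply, hgi, conjGL_toGL, mul_inv_cancel_right]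
    · rw [map_mul, MulAut.mul_apply, ← hm]
      apply conjGL_eq_of
      change i.1 * m.1 = j.1 * i.1
      rw [hjm, Matrix.neg_mul, hmi, neg_neg]
  · have hc : ((1 - a) • (1 : M2) + (-b) • i.1).det ≠ 0 := by
      rw [hdet]
      intro h3
      have h4 : (2 : F) * (1 - a) = 0 := by linear_combination h3 + (-1 : F) * hab1
      rcases mul_eq_zero.1 h4 with h5 | h5
      · exact h2 h5
      · exact ha (by linear_combination -h5)
    refine ⟨toGL' _ hc * g, ?_, ?_⟩
    · rw [map_mul, MulAut.mul_apply, hgi]
      apply conjGL_eq_of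
      rw [toGL'_val, Matrix.add_mul, Matrix.mul_add, Matrix.smul_mul, Matrix.smul_mul,
        Matrix.mul_smul, Matrix.mul_smul, Matrix.one_mul, Matrix.mul_one]
    · rw [map_mul, MulAut.mul_apply, ← hm]
      apply conjGL_eq_of
      have hji : j.1 * i.1 = a • (i.1 * m.1) - b • m.1 := by
        have h3 : i.1 * m.1 * i.1 = m.1 := by
          rw [Matrix.mul_assoc, hmi, Matrix.mul_neg, ← Matrix.mul_assoc, hi, Matrix.neg_mul,
            Matrix.one_mul, neg_neg]
        rw [hjm, Matrix.neg_mul, Matrix.add_mul, Matrix.smul_mul, Matrix.smul_mul, h3, hmi]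
        module
      rw [toGL'_val, Matrix.add_mul, Matrix.mul_add, Matrix.smul_mul, Matrix.smul_mul,
        Matrix.mul_smul, Matrix.mul_smul, Matrix.one_mul, Matrix.mul_one, hji, hjm]
      rw [← sub_eq_zero]
      have h6 : (1 - a ^ 2 - b ^ 2) • m.1 = 0 := by
        rw [show (1 - a ^ 2 - b ^ 2 : F) = 0 by linear_combination (-1 : F) * hab1, zero_smul]
      rw [← h6]
      module

/-- The standard pair over the prime field, with an element of order three and a swap. -/
theorem exists_std [Finite F] (h2 : (2 : F) ≠ 0) :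
    ∃ (i j w : SL2) (d : GL (Fin 2) F), (∀ σ : F ≃+* F, fieldAut σ i = i) ∧
      (∀ σ : F ≃+* F, fieldAut σ j = j) ∧ (∀ σ : F ≃+* F, fieldAut σ w = w) ∧
      (∀ σ : F ≃+* F, Matrix.GeneralLinearGroup.map σ.toRingHom d = d) ∧
      i.1 * i.1 = -1 ∧ j.1 * j.1 = -1 ∧ i.1 * j.1 = -(j.1 * i.1) ∧
      w * i = j * w ∧ w * j = (i * j) * w ∧ w * w * w = -1 ∧
      d.1 * i.1 = j.1 * d.1 ∧ d.1 * j.1 = i.1 * d.1 ∧ d.1.det = 2 := by
  obtain ⟨p, hpc⟩ := CharP.exists F
  have : CharP F p := hpc
  have hp : Fact p.Prime := ⟨CharP.char_is_prime F p⟩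
  let _ : Algebra (ZMod p) F := ZMod.algebra F p
  obtain ⟨a, b, hab⟩ := ZMod.sq_add_sq p (-1)
  have hfix : ∀ (ρ : F ≃+* F) (r : ZMod p),
      ρ (algebraMap (ZMod p) F r) = algebraMap (ZMod p) F r := by
    intro ρ r
    obtain ⟨n, rfl⟩ := ZMod.natCast_zmod_surjective r
    rw [map_natCast, map_natCast]
  have hab' : (algebraMap (ZMod p) F a) ^ 2 + (algebraMap (ZMod p) F b) ^ 2 = -1 := by
    rw [← map_pow, ← map_pow, ← map_add, hab, map_neg, map_one]
  obtain ⟨A, hA⟩ : ∃ A, A = algebraMap (ZMod p) F a := ⟨_, rfl⟩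
  obtain ⟨B, hB⟩ : ∃ B, B = algebraMap (ZMod p) F b := ⟨_, rfl⟩
  have hfA : ∀ ρ : F ≃+* F, ρ A = A := fun ρ => by rw [hA]; exact hfix ρ a
  have hfB : ∀ ρ : F ≃+* F, ρ B = B := fun ρ => by rw [hB]; exact hfix ρ b
  rw [← hA, ← hB] at hab'
  have hdet : A * (-A) - B * B = 1 := by linear_combination -hab'
  have hdw : (1 + A + B) / 2 * ((1 - A - B) / 2) - (1 + B - A) / 2 * ((-1 + B - A) / 2) = 1 := by
    field_simp
    linear_combination (-2 : F) * hab'
  have hdd : (!![A, 1 + B; B - 1, -A] : M2).det = 2 := by
    rw [Matrix.det_fin_two_of]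
    linear_combination -hab'
  have hdd0 : (!![A, 1 + B; B - 1, -A] : M2).det ≠ 0 := by rw [hdd]; exact h2
  refine ⟨mk 0 1 (-1) 0 (by ring), mk A B B (-A) hdet,
    mk ((1 + A + B) / 2) ((1 + B - A) / 2) ((-1 + B - A) / 2) ((1 - A - B) / 2) hdw,
    toGL' _ hdd0, ?_, ?_, ?_, ?_, ?_, ?_, ?_, ?_, ?_, ?_, ?_, ?_, ?_⟩
  · intro σ
    refine ext_ent ?_ ?_ ?_ ?_ <;> simp
  · intro σ
    refine ext_ent ?_ ?_ ?_ ?_ <;> simp [hfA, hfB]
  · intro σ
    have h22 : σ 2 = 2 := map_ofNat σ 2
    refine ext_ent ?_ ?_ ?_ ?_ <;> simp [hfA, hfB, h22]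
  · intro σ
    apply Units.ext
    apply mat_ext
    · change σ A = A
      exact hfA σ
    · change σ (1 + B) = 1 + B
      rw [map_add, map_one, hfB]
    · change σ (B - 1) = B - 1
      rw [map_sub, map_one, hfB]
    · change σ (-A) = -A
      rw [map_neg, hfA]
  · change (!![0, 1; -1, 0] : M2) * !![0, 1; -1, 0] = -1
    rw [Matrix.mul_fin_two]
    ext i j
    fin_cases i <;> fin_cases j <;> simp
  · change (!![A, B; B, -A] : M2) * !![A, B; B, -A] = -1
    rw [Matrix.mul_fin_two]
    apply mat_ext
    · simp; first | done | ring1 | linear_combination hab' | linear_combination (-1 : F) * hab' | linear_combination (2 : F) * hab' | linear_combination (-2 : F) * hab'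
    · simp; first | done | ring1 | linear_combination hab' | linear_combination (-1 : F) * hab' | linear_combination (2 : F) * hab' | linear_combination (-2 : F) * hab'
    · simp; first | done | ring1 | linear_combination hab' | linear_combination (-1 : F) * hab' | linear_combination (2 : F) * hab' | linear_combination (-2 : F) * hab'
    · simp; first | done | ring1 | linear_combination hab' | linear_combination (-1 : F) * hab' | linear_combination (2 : F) * hab' | linear_combination (-2 : F) * hab'
  · change (!![0, 1; -1, 0] : M2) * !![A, B; B, -A] = -(!![A, B; B, -A] * !![0, 1; -1, 0])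
    rw [Matrix.mul_fin_two, Matrix.mul_fin_two]
    apply mat_ext <;> simp
  · apply ext_ent
    · simp only [ent_mul, mk_00, mk_01, mk_10, mk_11]
      field_simp
      first | done | ring1 | linear_combination hab' | linear_combination (-1 : F) * hab' | linear_combination (2 : F) * hab' | linear_combination (-2 : F) * hab'
    · simp only [ent_mul, mk_00, mk_01, mk_10, mk_11]
      field_simp
      first | done | ring1 | linear_combination hab' | linear_combination (-1 : F) * hab' | linear_combination (2 : F) * hab' | linear_combination (-2 : F) * hab'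
    · simp only [ent_mul, mk_00, mk_01, mk_10, mk_11]
      field_simp
      first | done | ring1 | linear_combination hab' | linear_combination (-1 : F) * hab' | linear_combination (2 : F) * hab' | linear_combination (-2 : F) * hab'
    · simp only [ent_mul, mk_00, mk_01, mk_10, mk_11]
      field_simp
      first | done | ring1 | linear_combination hab' | linear_combination (-1 : F) * hab' | linear_combination (2 : F) * hab' | linear_combination (-2 : F) * hab'
  · apply ext_ent
    · simp only [ent_mul, mk_00, mk_01, mk_10, mk_11]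
      field_simp
      first | done | ring1 | linear_combination hab' | linear_combination (-1 : F) * hab' | linear_combination (2 : F) * hab' | linear_combination (-2 : F) * hab'
    · simp only [ent_mul, mk_00, mk_01, mk_10, mk_11]
      field_simp
      first | done | ring1 | linear_combination hab' | linear_combination (-1 : F) * hab' | linear_combination (2 : F) * hab' | linear_combination (-2 : F) * hab'
    · simp only [ent_mul, mk_00, mk_01, mk_10, mk_11]
      field_simp
      first | done | ring1 | linear_combination hab' | linear_combination (-1 : F) * hab' | linear_combination (2 : F) * hab' | linear_combination (-2 : F) * hab'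
    · simp only [ent_mul, mk_00, mk_01, mk_10, mk_11]
      field_simp
      first | done | ring1 | linear_combination hab' | linear_combination (-1 : F) * hab' | linear_combination (2 : F) * hab' | linear_combination (-2 : F) * hab'
  · apply ext_ent
    · simp only [ent_mul, mk_00, mk_01, mk_10, mk_11]
      change _ = -(1 : F)
      field_simp
      linear_combination (6 + 2 * A + 2 * B) * hab'
    · simp only [ent_mul, mk_00, mk_01, mk_10, mk_11]
      change _ = -(0 : F)
      field_simp
      linear_combination (2 + 2 * B - 2 * A) * hab'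
    · simp only [ent_mul, mk_00, mk_01, mk_10, mk_11]
      change _ = -(0 : F)
      field_simp
      linear_combination (2 * B - 2 * A - 2) * hab'
    · simp only [ent_mul, mk_00, mk_01, mk_10, mk_11]
      change _ = -(1 : F)
      field_simp
      linear_combination (6 - 2 * B - 2 * A) * hab'
  · rw [toGL'_val]
    change (!![A, 1 + B; B - 1, -A] : M2) * !![0, 1; -1, 0] = !![A, B; B, -A] * !![A, 1 + B; B - 1, -A]
    rw [Matrix.mul_fin_two, Matrix.mul_fin_two]
    apply mat_ext
    · simp; first | done | ring1 | linear_combination hab' | linear_combination (-1 : F) * hab' | linear_combination (2 : F) * hab' | linear_combination (-2 : F) * hab'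
    · simp; first | done | ring1 | linear_combination hab' | linear_combination (-1 : F) * hab' | linear_combination (2 : F) * hab' | linear_combination (-2 : F) * hab'
    · simp; first | done | ring1 | linear_combination hab' | linear_combination (-1 : F) * hab' | linear_combination (2 : F) * hab' | linear_combination (-2 : F) * hab'
    · simp; first | done | ring1 | linear_combination hab' | linear_combination (-1 : F) * hab' | linear_combination (2 : F) * hab' | linear_combination (-2 : F) * hab'
  · rw [toGL'_val]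
    change (!![A, 1 + B; B - 1, -A] : M2) * !![A, B; B, -A] = !![0, 1; -1, 0] * !![A, 1 + B; B - 1, -A]
    rw [Matrix.mul_fin_two, Matrix.mul_fin_two]
    apply mat_ext
    · simp; first | done | ring1 | linear_combination hab' | linear_combination (-1 : F) * hab' | linear_combination (2 : F) * hab' | linear_combination (-2 : F) * hab'
    · simp; first | done | ring1 | linear_combination hab' | linear_combination (-1 : F) * hab' | linear_combination (2 : F) * hab' | linear_combination (-2 : F) * hab'
    · simp; first | done | ring1 | linear_combination hab' | linear_combination (-1 : F) * hab' | linear_combination (2 : F) * hab' | linear_combination (-2 : F) * hab'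
    · simp; first | done | ring1 | linear_combination hab' | linear_combination (-1 : F) * hab' | linear_combination (2 : F) * hab' | linear_combination (-2 : F) * hab'
  · rw [toGL'_val]
    exact hdd

end mat

end Cfsg.Agent.GH.L2Aut
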