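import Cfsg.Agent.GH.L2AutSyl

/-!
# Outer 2-elements of `PGL(2,F)` on a Sylow 2-subgroup of `L ≅ PSL(2,F)`

* `Rep.outer_frame` : a 2-element `ψ ∈ PGL ∖ Inn` normalizing `S` : either `ψ² = 1`, `ψ d = d⁻¹`,
  `ψ r = d r` or `ψ² = conj d`, `ψ d = d`, `ψ r = d r`;
* `Rep.dtype_frame`, `Rep.dtype_fix` : for an involution `φ ∈ PGL ∖ Inn`;
* `Rep.dtype_conj` : all involutions of `PGL ∖ Inn` are conjugate under `L`;
* `Rep.dtype_no_four` : they fix no pair of distinct commuting involutions;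
* `Rep.inv_cent` : the centralizer in `PGL` of an involution.
-/

set_option autoImplicit false

namespace Cfsg.Agent.GH.L2Aut

open scoped Pointwise
open Cfsg.Agent.Lib.SL2Mat Cfsg.Agent.Lib.AutSL2 Cfsg.Agent.Lib.AutSL2Out

section gp

variable {G : Type*} [Group G]

theorem isPGroup_zpowers {x : G} (hx : ∃ n, x ^ 2 ^ n = 1) : IsPGroup 2 (Subgroup.zpowers x) := by
  obtain ⟨n, hn⟩ := hx
  rintro ⟨y, hy⟩
  obtain ⟨k, rfl⟩ := Subgroup.mem_zpowers_iff.1 hy
  refine ⟨n, Subtype.ext ?_⟩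
  change (x ^ k) ^ 2 ^ n = 1
  rw [← zpow_natCast, ← zpow_mul, mul_comm, zpow_mul, zpow_natCast, hn, one_zpow]

theorem exists_pow_of_mem {P : Subgroup G} (hP : IsPGroup 2 P) {x : G} (hx : x ∈ P) :
    ∃ n, x ^ 2 ^ n = 1 := by
  obtain ⟨n, hn⟩ := hP ⟨x, hx⟩
  exact ⟨n, congrArg Subtype.val hn⟩

namespace Dih

variable {S : Subgroup G} {d r : G}

/-- replacing `d` by an odd power -/
theorem power [Finite G] (h : Dih S d r) (hS : IsPGroup 2 S) {k : ℤ} (hk : Odd k) : Dih S (d ^ k) r := by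
  have h1 : d ∈ Subgroup.zpowers (d ^ k) := zpowers_odd (exists_pow_of_mem hS h.d_mem) hk
  have h2 : ∀ m : ℤ, d ^ m ∈ Subgroup.zpowers (d ^ k) := fun m => zpow_mem h1 m
  exact
    { d_mem := zpow_mem h.d_mem k
      r_mem := h.r_mem
      d1 := by
        intro h3
        rw [h3, Subgroup.zpowers_one_eq_bot, Subgroup.mem_bot] at h1
        exact h.d1 h1
      r_not := by
        intro h3
        apply h.r_not
        have h4 : Subgroup.zpowers (d ^ k) ≤ Subgroup.zpowers d := by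
          rw [Subgroup.zpowers_le]; exact zpow_mem (Subgroup.mem_zpowers d) k
        exact h4 h3
      rr := h.rr
      rd := by rw [h.r_pow, zpow_neg]
      cov := by
        intro x hx
        rcases h.cov x hx with h3 | ⟨m, rfl⟩
        · obtain ⟨m, rfl⟩ := Subgroup.mem_zpowers_iff.1 h3
          exact Or.inl (h2 m)
        · obtain ⟨n, hn⟩ := Subgroup.mem_zpowers_iff.1 (h2 m)
          exact Or.inr ⟨n, by rw [hn]⟩ }

end Dih

end gp

namespace Rep

variable {F : Type*} [Field F] {L : Type*} [Group L] (R : Rep F L) [Finite F]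

local notation "SL2" => Matrix.SpecialLinearGroup (Fin 2) F
local notation "M2" => Matrix (Fin 2) (Fin 2) F

include R in
/-- the 2-group `conj S ⟨ψ⟩` -/
theorem exists_two_group (S : Sylow 2 L) {ψ : MulAut L} (h2 : ∃ n, ψ ^ 2 ^ n = 1)
    (hS : ∀ s ∈ S, ψ s ∈ S) : ∃ P : Subgroup (MulAut L), IsPGroup 2 P ∧ ψ ∈ P ∧
      (S : Subgroup L).map MulAut.conj ≤ P ∧
      (∀ x ∈ P, ∃ (s : L) (k : ℤ), s ∈ S ∧ x = MulAut.conj s * ψ ^ k) := by
  have := R.finite
  have := R.finite_aut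
  let A : Subgroup (MulAut L) := (S : Subgroup L).map MulAut.conj
  have hn : Subgroup.zpowers ψ ≤ Subgroup.normalizer (A : Set (MulAut L)) := by
    rw [Subgroup.zpowers_le, Subgroup.mem_normalizer_iff]
    have h3 : A.map (MulAut.conj ψ).toMonoidHom = A := by
      apply Subgroup.eq_of_le_of_card_ge
      · rintro _ ⟨_, ⟨s, hs, rfl⟩, rfl⟩
        refine ⟨ψ s, hS s hs, ?_⟩
        exact (conj_conj ψ s).symm
      · exact (Nat.card_congr (A.equivMapOfInjective (MulAut.conj ψ).toMonoidHom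
          (MulAut.conj ψ).injective).toEquiv).le
    intro s
    constructor
    · intro hs
      rw [← h3]
      exact ⟨s, hs, rfl⟩
    · intro hs
      have h4 : ψ * s * ψ⁻¹ ∈ A.map (MulAut.conj ψ).toMonoidHom := by rw [h3]; exact hs
      obtain ⟨t, ht, hts⟩ := h4
      have h5 : t = s := (MulAut.conj ψ).injective hts
      rw [← h5]; exact ht
  refine ⟨A ⊔ Subgroup.zpowers ψ, (map_conj_two S).to_sup_of_normal_left' (isPGroup_zpowers h2) hn,
    (le_sup_right : _ ≤ A ⊔ Subgroup.zpowers ψ) (Subgroup.mem_zpowers ψ), le_sup_left, ?_⟩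
  intro x hx
  have h3 : (x : MulAut L) ∈ (A : Set (MulAut L)) * (Subgroup.zpowers ψ : Set (MulAut L)) := by
    rw [← Subgroup.coe_mul_of_right_le_normalizer_left A _ hn]
    exact hx
  obtain ⟨_, ⟨s, hs, rfl⟩, y, hy, rfl⟩ := Set.mem_mul.1 h3
  obtain ⟨k, rfl⟩ := Subgroup.mem_zpowers_iff.1 hy
  exact ⟨s, k, hs, rfl⟩

/-- **outer 2-elements of `PGL` on `S`** -/
theorem outer_frame (S : Sylow 2 L) {ψ : MulAut L} (h1 : ψ ∈ R.PGL) (h2 : ψ ∉ Inn L)
    (h3 : ∃ n, ψ ^ 2 ^ n = 1) (hS : ∀ s ∈ S, ψ s ∈ S) :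
    ∃ d r, Dih (S : Subgroup L) d r ∧ ψ r = d * r ∧
      ((ψ * ψ = 1 ∧ ψ d = d⁻¹) ∨ (ψ * ψ = MulAut.conj d ∧ ψ d = d)) := by
  have := R.finite
  have := R.finite_aut
  obtain ⟨P, hP, hψP, hSP, hgen⟩ := R.exists_two_group S h3 hS
  have hle : P ≤ R.PGL := by
    intro x hx
    obtain ⟨s, k, -, rfl⟩ := hgen x hx
    exact mul_mem (R.conj_mem_PGL s) (zpow_mem h1 k)
  obtain ⟨c, d₀, r, hcc, hcI, hd₀, hPd⟩ := R.dih_plus S hP hle hSP (fun h => h2 (h hψP))
  have hodd : ∀ k : ℤ, c ^ k ∉ Inn L → Odd k := by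
    intro k hk
    rw [← Int.not_even_iff_odd]
    rintro ⟨n, hn⟩
    apply hk
    rw [hn, zpow_add, ← (Commute.refl c).mul_zpow, hcc, ← map_zpow]
    exact ⟨_, rfl⟩
  have hrI : MulAut.conj r ∈ Inn L := ⟨r, rfl⟩
  have hc2 : ∀ k : ℤ, c ^ k * c ^ k = MulAut.conj (d₀ ^ k) := by
    intro k
    rw [map_zpow, ← hcc, (Commute.refl c).mul_zpow]
  rcases hPd.cov ψ hψP with hcase | ⟨k, hk⟩
  · obtain ⟨k, rfl⟩ := Subgroup.mem_zpowers_iff.1 hcase
    have hk := hodd k h2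
    refine ⟨d₀ ^ k, r, hd₀.power S.2 hk, ?_, Or.inr ⟨hc2 k, ?_⟩⟩
    · apply R.conj_injective
      rw [← conj_conj, map_mul, ← hc2]
      have h4 := hPd.r_pow' (-k)
      rw [neg_neg] at h4
      rw [mul_assoc, ← zpow_neg, h4, mul_assoc]
    · apply R.conj_injective
      rw [← conj_conj, ← hc2]
      group
  · have hkI : c ^ k ∉ Inn L := by
      intro h
      apply h2
      rw [hk]
      exact mul_mem h hrI
    have hk' := hodd k hkI
    refine ⟨d₀ ^ k, r, hd₀.power S.2 hk', ?_, Or.inl ⟨?_, ?_⟩⟩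
    · apply R.conj_injective
      rw [← conj_conj, map_mul, ← hc2, hk]
      have h4 := hPd.r_pow' (-k)
      rw [neg_neg] at h4
      have h5 : (c ^ k * MulAut.conj r)⁻¹ = MulAut.conj r * c ^ (-k) := by
        rw [mul_inv_rev, hPd.rinv, zpow_neg]
      rw [h5, h4]
      have h6 : c ^ k * MulAut.conj r * MulAut.conj r = c ^ k := by
        rw [mul_assoc, hPd.rr, mul_one]
      rw [h6, mul_assoc]
    · rw [hk]; exact hPd.pow_r_sq k
    · apply R.conj_injective
      rw [← conj_conj, hk, map_inv, ← hc2, ← zpow_add]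
      have := hPd.pow_r_conj k (k + k)
      rw [this, zpow_neg]

/-- an involution `φ ∈ PGL ∖ Inn` normalizing `S` -/
theorem dtype_frame (S : Sylow 2 L) {φ : MulAut L} (h1 : φ ∈ R.PGL) (h2 : φ ∉ Inn L)
    (h3 : φ * φ = 1) (hS : ∀ s ∈ S, φ s ∈ S) :
    ∃ d r, Dih (S : Subgroup L) d r ∧ φ d = d⁻¹ ∧ φ r = d * r := by
  obtain ⟨d, r, hd, hr, h | h⟩ := R.outer_frame S h1 h2 ⟨1, by rw [pow_one, sq, h3]⟩ hS
  · exact ⟨d, r, hd, h.2, hr⟩
  · exfalso
    apply hd.d1
    apply R.conj_injective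
    rw [← h.1, h3, map_one]

/-- an involution `φ ∈ PGL ∖ Inn` normalizing `S` centralizes in `S` just a group of order two -/
theorem dtype_fix (S : Sylow 2 L) {φ : MulAut L} (h1 : φ ∈ R.PGL) (h2 : φ ∉ Inn L)
    (h3 : φ * φ = 1) (hS : ∀ s ∈ S, φ s ∈ S) :
    ∃ z ∈ S, z * z = 1 ∧ z ≠ 1 ∧ φ z = z ∧ (∀ x ∈ S, x * z = z * x) ∧
      ∀ x ∈ S, φ x = x → x = 1 ∨ x = z := by
  have := R.finite
  obtain ⟨d, r, hd, hφd, hφr⟩ := R.dtype_frame S h1 h2 h3 hS
  obtain ⟨n, hn, hzz, hz1⟩ := hd.exists_z S.2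
  have hinv : (d ^ 2 ^ n)⁻¹ = d ^ 2 ^ n := inv_eq_of_mul_eq_one_left hzz
  refine ⟨d ^ 2 ^ n, pow_mem hd.d_mem _, hzz, hz1, by rw [map_pow, hφd, inv_pow, hinv], ?_, ?_⟩
  · intro x hx
    have hcd : ∀ k : ℤ, d ^ k * d ^ 2 ^ n = d ^ 2 ^ n * d ^ k := fun k =>
      ((Commute.refl d).zpow_left k).pow_right _
    have hr : r * d ^ 2 ^ n = d ^ 2 ^ n * r := by
      have := hd.r_pow' ((2 ^ n : ℕ) : ℤ)
      rw [zpow_natCast, zpow_neg, zpow_natCast, hinv] at this
      exact this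
    rcases hd.cov x hx with h | ⟨k, rfl⟩
    · obtain ⟨k, rfl⟩ := Subgroup.mem_zpowers_iff.1 h
      exact hcd k
    · rw [mul_assoc, hr, ← mul_assoc, hcd, mul_assoc]
  · intro x hx hfix
    rcases hd.cov x hx with h | ⟨k, rfl⟩
    · obtain ⟨k, rfl⟩ := Subgroup.mem_zpowers_iff.1 h
      rw [map_zpow, hφd, inv_zpow] at hfix
      by_contra hcon
      push Not at hcon
      have hxx : d ^ k * d ^ k = 1 := by
        nth_rw 1 [← hfix]
        exact inv_mul_cancel _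
      refine four_not_cyc (c := d) (a := d ^ k) (b := d ^ 2 ^ n)
        { aa := hxx, bb := hzz, a1 := hcon.1, b1 := hz1, ne := hcon.2
          comm := ((Commute.refl d).zpow_left k).pow_right _ } (zpow_mem (Subgroup.mem_zpowers d) k)
          (pow_mem (Subgroup.mem_zpowers d) _)
    · exfalso
      rw [map_mul, map_zpow, hφd, hφr, ← mul_assoc] at hfix
      have h4 := mul_right_cancel hfix
      have h5 : d ^ (2 * k - 1) = 1 := by
        have h6 : d ^ (2 * k - 1) = (d⁻¹ ^ k * d)⁻¹ * d ^ k := by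
          rw [inv_zpow]
          have e1 : (2 * k - 1) = -1 + k + k := by ring
          rw [e1, zpow_add, zpow_add]
          group
        rw [h6, h4, inv_mul_cancel]
      have h6 := zpowers_odd (exists_pow_of_mem S.2 hd.d_mem) (k := 2 * k - 1) ⟨k - 1, by ring⟩
      rw [h5, Subgroup.zpowers_one_eq_bot, Subgroup.mem_bot] at h6
      exact hd.d1 h6

/-- they fix no four-group -/
theorem dtype_no_four {φ : MulAut L} (h1 : φ ∈ R.PGL) (h2 : φ ∉ Inn L) {a b : L} (h : Four a b)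
    (ha : φ a = a) (hb : φ b = b) : False := by
  apply h2
  rcases R.fix_four h h1 ha hb with h | h | h | h
  · exact ⟨1, by rw [h, map_one]⟩
  · exact ⟨_, h.symm⟩
  · exact ⟨_, h.symm⟩
  · exact ⟨_, h.symm⟩

/-- all involutions of `PGL ∖ Inn` are conjugate under `L` -/
theorem dtype_conj {φ φ' : MulAut L} (h1 : φ ∈ R.PGL) (h2 : φ ∉ Inn L) (h3 : φ * φ = 1)
    (h1' : φ' ∈ R.PGL) (h2' : φ' ∉ Inn L) (h3' : φ' * φ' = 1) :
    ∃ x : L, MulAut.conj x * φ * (MulAut.conj x)⁻¹ = φ' := by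
  obtain ⟨g, rfl⟩ := R.mem_PGL.1 h1
  obtain ⟨g', rfl⟩ := R.mem_PGL.1 h1'
  have hg1 : R.gl g ≠ 1 := by intro h; exact h2 (by rw [h]; exact one_mem _)
  have hg1' : R.gl g' ≠ 1 := by intro h; exact h2' (by rw [h]; exact one_mem _)
  have ht := R.tr_of_inv hg1 h3
  have ht' := R.tr_of_inv hg1' h3'
  have hns := R.not_scalar_of_ne hg1
  have hns' := R.not_scalar_of_ne hg1'
  rw [R.gl_mem_inn] at h2 h2'
  obtain ⟨e, he⟩ := isSquare_mul_of_not h2 h2'
  have hd : g.1.det ≠ 0 := (Matrix.GeneralLinearGroup.det g).ne_zero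
  have hd' : g'.1.det ≠ 0 := (Matrix.GeneralLinearGroup.det g').ne_zero
  have he0 : e ≠ 0 := by rintro rfl; rw [mul_zero] at he; exact (mul_ne_zero hd hd') he
  obtain ⟨h, hh⟩ := mat_conj (A := (e / g.1.det) • g.1) (B := g'.1)
    (by
      intro c hc
      apply hns (g.1.det / e * c)
      rw [mul_smul, ← hc, smul_smul]
      field_simp
      rw [one_smul])
    hns' (by rw [Matrix.trace_smul, ht, ht', smul_zero])
    (by
      rw [Matrix.det_smul, Fintype.card_fin]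
      field_simp
      linear_combination -he)
  have hconj : R.gl h * R.gl g * (R.gl h)⁻¹ = R.gl g' := by
    rw [mul_inv_eq_iff_eq_mul, ← map_mul, ← map_mul]
    have h4 : R.gl ((g' * h)⁻¹ * (h * g)) = 1 := by
      rw [R.gl_eq_one_iff]
      refine ⟨g.1.det / e, ?_⟩
      have h5 : h.1 * g.1 = (g.1.det / e) • (g'.1 * h.1) := by
        rw [← hh, Matrix.mul_smul, smul_smul]
        field_simp
        rw [one_smul]
      rw [Units.val_mul, Units.val_mul h g, h5, Matrix.mul_smul, ← Units.val_mul g' h,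
        ← Units.val_mul, inv_mul_cancel, Units.val_one]
    rw [map_mul, map_inv] at h4
    exact (inv_mul_eq_one.1 h4).symm
  by_cases hI : R.gl h ∈ Inn L
  · obtain ⟨x, hx⟩ := hI
    exact ⟨x, by rw [hx, hconj]⟩
  · have h5 := R.mul_mem_inn (R.gl_mem_PGL h) hI (R.gl_mem_PGL g) (by rw [R.gl_mem_inn]; exact h2)
    obtain ⟨x, hx⟩ := h5
    refine ⟨x, ?_⟩
    rw [hx, mul_inv_rev, ← hconj]
    group

/-- **the centralizer in `PGL` of an involution** -/
theorem inv_cent {φ : MulAut L} (h1 : φ ∈ R.PGL) (hne : φ ≠ 1) (h3 : φ * φ = 1) :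
    ∃ A : Subgroup (MulAut L), A ≤ R.PGL ∧ φ ∈ A ∧ (∀ x ∈ A, ∀ y ∈ A, x * y = y * x) ∧
      (∀ x ∈ A, x * x = 1 → x = 1 ∨ x = φ) ∧
      (∀ x ∈ R.PGL, x * φ = φ * x → x ∈ A ∨ (x * x = 1 ∧ ∀ y ∈ A, x * y * x⁻¹ = y⁻¹)) := by
  obtain ⟨g, rfl⟩ := R.mem_PGL.1 h1
  have hs := R.not_scalar_of_ne hne
  have htr := R.tr_of_inv hne h3
  let A : Subgroup (MulAut L) :=
    { carrier := {x | ∃ t : GL (Fin 2) F, x = R.gl t ∧ g.1 * t.1 = t.1 * g.1}
      one_mem' := ⟨1, by rw [map_one], by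
        rw [Units.val_one, Matrix.mul_one, Matrix.one_mul]⟩
      mul_mem' := by
        rintro x y ⟨t, rfl, ht⟩ ⟨s, rfl, hs⟩
        refine ⟨t * s, (map_mul _ _ _).symm, ?_⟩
        rw [Units.val_mul, ← Matrix.mul_assoc, ht, Matrix.mul_assoc, hs, Matrix.mul_assoc]
      inv_mem' := by
        rintro x ⟨t, rfl, ht⟩
        refine ⟨t⁻¹, (map_inv _ _).symm, ?_⟩
        have h1 : g * t = t * g := Units.ext ht
        have h2 : g * t⁻¹ = t⁻¹ * g := by
          rw [eq_inv_mul_iff_mul_eq, ← mul_assoc, ← h1, mul_inv_cancel_right]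
        exact congrArg Units.val h2 }
  refine ⟨A, ?_, ⟨g, rfl, rfl⟩, ?_, ?_, ?_⟩
  · rintro _ ⟨t, rfl, -⟩
    exact R.gl_mem_PGL t
  · rintro x ⟨t, rfl, ht⟩ y ⟨s, rfl, hs'⟩
    obtain ⟨a, b, hab⟩ := exists_ab hs ht
    rw [← map_mul, ← map_mul]
    congr 1
    apply Units.ext
    rw [Units.val_mul, Units.val_mul, hab, Matrix.add_mul, Matrix.mul_add, Matrix.smul_mul,
      Matrix.smul_mul, Matrix.mul_smul, Matrix.mul_smul, Matrix.one_mul, Matrix.mul_one, hs']
  · rintro x ⟨t, rfl, ht⟩ h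
    exact R.torus_inv hs htr ht h
  · intro x hx hc
    obtain ⟨t, rfl⟩ := R.mem_PGL.1 hx
    rcases R.comm_cases hc with h | h
    · exact Or.inl ⟨t, rfl, h.symm⟩
    · right
      refine ⟨R.anticomm_inv h, ?_⟩
      rintro y ⟨s, rfl, hs'⟩
      exact R.anticomm_conj hs htr h hs'

theorem conj_comm_iff {φ : MulAut L} {x : L} : MulAut.conj x * φ = φ * MulAut.conj x ↔
    MulAut.conj (φ x) = MulAut.conj x := by
  rw [← conj_conj, mul_inv_eq_iff_eq_mul]
  exact eq_comm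

/-- the fixed points in `L` of an involution `φ ∈ PGL ∖ Inn`: a group of odd order extended by
involutions inverting it -/
theorem dtype_cent {φ : MulAut L} (h1 : φ ∈ R.PGL) (h2 : φ ∉ Inn L) (h3 : φ * φ = 1) :
    ∃ B : Subgroup L, (∀ x ∈ B, φ x = x) ∧ (∀ x ∈ B, ∀ y ∈ B, x * y = y * x) ∧
      Odd (Nat.card B) ∧
      (∀ x, φ x = x → x ∈ B ∨ (x * x = 1 ∧ ∀ y ∈ B, x * y * x⁻¹ = y⁻¹)) := by
  have := R.finite
  obtain ⟨A, hA, hφA, hcomm, huniq, hcov⟩ := R.inv_cent h1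
    (fun h => h2 (by rw [h]; exact one_mem _)) h3
  have hmem : ∀ x : L, x ∈ A.comap (MulAut.conj : L →* MulAut L) ↔ MulAut.conj x ∈ A :=
    fun x => Iff.rfl
  refine ⟨A.comap (MulAut.conj : L →* MulAut L), ?_, ?_, ?_, ?_⟩
  · intro x hx
    apply R.conj_injective
    rw [← conj_comm_iff]
    exact hcomm _ hx _ hφA
  · intro x hx y hy
    apply R.conj_injective
    rw [map_mul, map_mul]
    exact hcomm _ hx _ hy
  · rw [← Nat.not_even_iff_odd, even_iff_two_dvd]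
    intro hdvd
    obtain ⟨y, hy⟩ := exists_prime_orderOf_dvd_card' 2 hdvd
    have hy1 : (y : L) ≠ 1 := by
      intro h
      have h4 : y = 1 := Subtype.ext h
      rw [h4, orderOf_one] at hy
      exact absurd hy (by norm_num)
    have hyy : (y : L) * y = 1 := by
      have h4 : y ^ 2 = 1 := by rw [← hy]; exact pow_orderOf_eq_one y
      rw [sq] at h4
      exact congrArg Subtype.val h4
    rcases huniq (MulAut.conj (y : L)) y.2 (by rw [← map_mul, hyy, map_one]) with h | h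
    · exact hy1 (R.conj_injective (by rw [h, map_one]))
    · exact h2 ⟨_, h⟩
  · intro x hx
    rcases hcov (MulAut.conj x) (R.conj_mem_PGL x) (by rw [conj_comm_iff, hx]) with h | ⟨h, h'⟩
    · exact Or.inl h
    · right
      refine ⟨R.conj_injective (by rw [map_mul, h, map_one]), fun y hy => ?_⟩
      apply R.conj_injective
      rw [map_mul, map_mul, map_inv, map_inv]
      exact h' _ hy

include R in
/-- the centralizer in `L` of an involution `t`: an abelian group with the only involution `t`,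
extended by involutions inverting it -/
theorem inner_cent {t : L} (ht : t * t = 1) (ht1 : t ≠ 1) :
    ∃ B : Subgroup L, t ∈ B ∧ (∀ x ∈ B, ∀ y ∈ B, x * y = y * x) ∧
      (∀ x ∈ B, x * x = 1 → x = 1 ∨ x = t) ∧
      (∀ x, x * t = t * x → x ∈ B ∨ (x * x = 1 ∧ ∀ y ∈ B, x * y * x⁻¹ = y⁻¹)) := by
  have := R.finite
  obtain ⟨A, hA, hφA, hcomm, huniq, hcov⟩ := R.inv_cent (R.conj_mem_PGL t)
    (fun h => ht1 (R.conj_injective (by rw [h, map_one]))) (by rw [← map_mul, ht, map_one])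
  refine ⟨A.comap (MulAut.conj : L →* MulAut L), hφA, ?_, ?_, ?_⟩
  · intro x hx y hy
    apply R.conj_injective
    rw [map_mul, map_mul]
    exact hcomm _ hx _ hy
  · intro x hx h
    rcases huniq _ hx (by rw [← map_mul, h, map_one]) with h4 | h4
    · exact Or.inl (R.conj_injective (by rw [h4, map_one]))
    · exact Or.inr (R.conj_injective h4)
  · intro x hx
    rcases hcov (MulAut.conj x) (R.conj_mem_PGL x) (by rw [← map_mul, hx, map_mul]) with h | ⟨h, h'⟩
    · exact Or.inl h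
    · right
      refine ⟨R.conj_injective (by rw [map_mul, h, map_one]), fun y hy => ?_⟩
      apply R.conj_injective
      rw [map_mul, map_mul, map_inv, map_inv]
      exact h' _ hy

end Rep

end Cfsg.Agent.GH.L2Aut
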