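import Cfsg.Agent.GH.L2AutH90
import Cfsg.Agent.GH.L2AutD

/-!
# Fixed points of field automorphisms of `L ≅ PSL(2,F)`
-/

set_option autoImplicit false

namespace Cfsg.Agent.GH.L2Aut

open Cfsg.Agent.Lib.SL2Mat Cfsg.Agent.Lib.AutSL2 Cfsg.Agent.Lib.AutSL2Out

section field

variable {F : Type*} [Field F] [Finite F]

/-- the fixed field of `σ` -/
theorem exists_fixed_field (σ : F ≃+* F) :
    ∃ K : Subfield F, (∀ a, a ∈ K ↔ σ a = a) ∧ Nat.card F = Nat.card K ^ orderOf σ := by
  classical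
  have := finite_ringEquiv (F := F)
  have : Fintype (Subgroup.zpowers σ) := Fintype.ofFinite _
  let K := FixedPoints.subfield (Subgroup.zpowers σ) F
  have hK : ∀ a, a ∈ K ↔ σ a = a := by
    intro a
    constructor
    · intro h
      exact h ⟨σ, Subgroup.mem_zpowers σ⟩
    · rintro h ⟨τ, hτ⟩
      change τ a = a
      obtain ⟨k, rfl⟩ := Subgroup.mem_zpowers_iff.1 hτ
      have h1 : σ ∈ MulAction.stabilizer (F ≃+* F) a := h
      exact (MulAction.stabilizer (F ≃+* F) a).zpow_mem h1 k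
  refine ⟨K, hK, ?_⟩
  have h1 := FixedPoints.finrank_eq_card (Subgroup.zpowers σ) F
  rw [← Nat.card_eq_fintype_card, Nat.card_zpowers] at h1
  rw [← h1]
  exact Module.natCard_eq_pow_finrank

omit [Finite F] in
theorem ringChar_ne_two (h2 : (2 : F) ≠ 0) : ringChar F ≠ 2 := by
  intro h
  apply h2
  have h4 := ringChar.Nat.cast_ringChar (R := F)
  rw [h] at h4
  exact_mod_cast h4

omit [Finite F] in
theorem two_sub (h2 : (2 : F) ≠ 0) (K : Subfield F) : (2 : K) ≠ 0 := by
  intro h3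
  apply h2
  exact congrArg Subtype.val h3

theorem odd_card (h2 : (2 : F) ≠ 0) : Odd (Nat.card F) := by
  have := Fintype.ofFinite F
  rw [Nat.card_eq_fintype_card, Nat.odd_iff]
  exact FiniteField.odd_card_of_char_ne_two (ringChar_ne_two h2)

/-- elements of `K` are squares in `F` if the degree is even -/
theorem isSquare_of_mem (h2 : (2 : F) ≠ 0) {K : Subfield F} {m : ℕ}
    (hcard : Nat.card F = Nat.card K ^ m) (hm : Even m) {c : F} (hc : c ∈ K) : IsSquare c := by
  have := Fintype.ofFinite F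
  by_cases hc0 : c = 0
  · rw [hc0]; exact IsSquare.zero
  rw [FiniteField.isSquare_iff (ringChar_ne_two h2) hc0]
  have hodd := odd_card (two_sub h2 K)
  obtain ⟨k, hk⟩ := hm
  have hcK : c ^ (Nat.card K - 1) = 1 := by
    have := Fintype.ofFinite K
    have h3 : (⟨c, hc⟩ : K) ^ (Nat.card K - 1) = 1 := by
      rw [Nat.card_eq_fintype_card]
      exact FiniteField.pow_card_sub_one_eq_one _ (fun h => hc0 (congrArg Subtype.val h))
    exact congrArg Subtype.val h3
  obtain ⟨a, ha⟩ := hodd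
  have h3 : (Nat.card K - 1) ∣ Fintype.card F / 2 := by
    rw [← Nat.card_eq_fintype_card, hcard, hk, ha]
    have h4 : (2 * a + 1) ^ (k + k) = ((2 * a + 1) ^ 2) ^ k := by rw [← two_mul, pow_mul]
    have h5 : (2 * a + 1) ^ 2 - 1 ∣ ((2 * a + 1) ^ 2) ^ k - 1 := by
      have := Nat.sub_dvd_pow_sub_pow ((2 * a + 1) ^ 2) 1 k
      rwa [one_pow] at this
    have h6 : (2 * a + 1) ^ 2 - 1 = 2 * (2 * a * (a + 1)) := by
      have : (2 * a + 1) ^ 2 = 2 * (2 * a * (a + 1)) + 1 := by ring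
      rw [this, Nat.add_sub_cancel]
    obtain ⟨n, hn⟩ := h5
    rw [h6] at hn
    rw [h4, Nat.add_sub_cancel]
    have h7 : ((2 * a + 1) ^ 2) ^ k = 2 * (2 * a * (a + 1) * n) + 1 := by
      have h8 : 0 < ((2 * a + 1) ^ 2) ^ k := by positivity
      have h9 : ((2 * a + 1) ^ 2) ^ k = (2 * (2 * a * (a + 1))) * n + 1 := by omega
      rw [h9]; ring
    rw [h7]
    have h8 : (2 * (2 * a * (a + 1) * n) + 1) / 2 = 2 * a * (a + 1) * n := by omega
    rw [h8]
    exact ⟨(a + 1) * n, by ring⟩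
  obtain ⟨n, hn⟩ := h3
  rw [hn, pow_mul, hcK, one_pow]

/-- an element negated by `σ` whose square is a nonsquare of the fixed field -/
theorem exists_delta (h2 : (2 : F) ≠ 0) {σ : F ≃+* F} (hm : Even (orderOf σ)) {K : Subfield F}
    (hK : ∀ a, a ∈ K ↔ σ a = a) (hcard : Nat.card F = Nat.card K ^ orderOf σ) :
    ∃ δ : F, σ δ = -δ ∧ δ ≠ 0 := by
  have h2K := two_sub h2 K
  obtain ⟨c, hc⟩ := FiniteField.exists_nonsquare (ringChar_ne_two h2K)
  obtain ⟨δ, hδ⟩ := isSquare_of_mem h2 hcard hm c.2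
  have h3 : (σ δ - δ) * (σ δ + δ) = 0 := by
    have h4 : σ (c : F) = c := (hK _).1 c.2
    rw [hδ, map_mul] at h4
    linear_combination h4
  have hδ0 : δ ≠ 0 := by
    rintro rfl
    apply hc
    rw [mul_zero] at hδ
    have : c = 0 := Subtype.ext hδ
    rw [this]; exact IsSquare.zero
  rcases mul_eq_zero.1 h3 with h4 | h4
  · exfalso
    apply hc
    have h5 : δ ∈ K := (hK δ).2 (by linear_combination h4)
    exact ⟨⟨δ, h5⟩, Subtype.ext hδ⟩
  · exact ⟨δ, by linear_combination h4, hδ0⟩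

end field

/-- the fixed points of an automorphism -/
def fixSub {L : Type*} [Group L] (α : MulAut L) : Subgroup L where
  carrier := {x | α x = x}
  one_mem' := map_one α
  mul_mem' := by
    intro x y (hx : α x = x) (hy : α y = y)
    change α (x * y) = x * y
    rw [map_mul, hx, hy]
  inv_mem' := by
    intro x (hx : α x = x)
    change α x⁻¹ = x⁻¹
    rw [map_inv, hx]

theorem mem_fixSub {L : Type*} [Group L] {α : MulAut L} {x : L} : x ∈ fixSub α ↔ α x = x := Iff.rfl

namespace Rep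

variable {F : Type*} [Field F] {L : Type*} [Group L] (R : Rep F L)

local notation "SL2" => Matrix.SpecialLinearGroup (Fin 2) F
local notation "M2" => Matrix (Fin 2) (Fin 2) F

/-- change of basis -/
noncomputable def twist (h : GL (Fin 2) F) : Rep F L where
  π := R.π.comp (conjGL h).toMonoidHom
  surj := R.surj.comp (conjGL h).surjective
  two := R.two
  ker := by
    intro x
    change R.π (conjGL h x) = 1 ↔ _
    rw [R.ker]
    have h1 : conjGL h x = 1 ↔ x = 1 := by
      rw [← (conjGL h).injective.eq_iff (a := x) (b := 1), map_one]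
    have h3 : conjGL h x = -1 ↔ x = -1 := by
      rw [← (conjGL h).injective.eq_iff (a := x) (b := -1), R.aut_neg_one]
    rw [h1, h3]

theorem twist_π (h : GL (Fin 2) F) (x : SL2) : (R.twist h).π x = R.π (conjGL h x) := rfl

variable [Finite F]

theorem twist_π' (h : GL (Fin 2) F) (x : SL2) : (R.twist h).π x = R.gl h (R.π x) := by
  rw [R.gl_apply]; rfl

theorem twist_gl (h g : GL (Fin 2) F) : (R.twist h).gl g = R.gl h * R.gl g * (R.gl h)⁻¹ := by
  apply (R.twist h).ext_π
  intro x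
  rw [gl_apply, R.twist_π', R.twist_π', MulAut.mul_apply, MulAut.inv_apply_self, MulAut.mul_apply,
    R.gl_apply g]

theorem twist_fa (h : GL (Fin 2) F) (σ : F ≃+* F) :
    (R.twist h).fa σ = R.gl h * R.fa σ * (R.gl h)⁻¹ := by
  apply (R.twist h).ext_π
  intro x
  rw [fa_apply, R.twist_π', R.twist_π', MulAut.mul_apply, MulAut.inv_apply_self, MulAut.mul_apply,
    R.fa_apply]

theorem twist_fld (h : GL (Fin 2) F) : (R.twist h).fld = R.fld := by
  ext1 α
  obtain ⟨g, hg⟩ := (R.twist h).exists_eq α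
  rw [R.twist_gl, R.twist_fa] at hg
  have h1 := congrArg R.fld hg
  rw [map_mul, map_mul, map_mul, map_mul, map_mul, map_inv, R.fld_gl, R.fld_gl, R.fld_fa] at h1
  simpa using h1.symm

theorem twist_PGL (h : GL (Fin 2) F) : (R.twist h).PGL = R.PGL := by
  ext α
  rw [mem_PGL_iff_fld, mem_PGL_iff_fld, R.twist_fld]

/-- an automorphism of the order of its field automorphism is a field automorphism in another
representation -/
theorem exists_rep (α : MulAut L) (hα : α ^ orderOf (R.fld α) = 1) :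
    ∃ R' : Rep F L, R'.PGL = R.PGL ∧ R'.fld = R.fld ∧ α = R'.fa (R.fld α) := by
  obtain ⟨h, hh⟩ := R.exists_field α hα
  exact ⟨R.twist h, R.twist_PGL h, R.twist_fld h, by rw [R.twist_fa]; exact hh⟩

/-- inclusion of `SL(2,K)` -/
def inc (K : Subfield F) : Matrix.SpecialLinearGroup (Fin 2) K →* SL2 :=
  Matrix.SpecialLinearGroup.map K.subtype

omit [Finite F] in
theorem inc_val (K : Subfield F) (x : Matrix.SpecialLinearGroup (Fin 2) K) (i j : Fin 2) :
    (inc K x).1 i j = (x.1 i j : F) := rfl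

omit [Finite F] in
theorem inc_injective (K : Subfield F) : Function.Injective (inc K) := by
  intro x y h
  apply Subtype.ext
  apply mat_ext
  · exact Subtype.ext (congrFun (congrFun (congrArg Subtype.val h) 0) 0)
  · exact Subtype.ext (congrFun (congrFun (congrArg Subtype.val h) 0) 1)
  · exact Subtype.ext (congrFun (congrFun (congrArg Subtype.val h) 1) 0)
  · exact Subtype.ext (congrFun (congrFun (congrArg Subtype.val h) 1) 1)

omit [Finite F] in
theorem inc_neg_one (K : Subfield F) : inc K (-1) = -1 := by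
  apply Subtype.ext
  apply mat_ext
  · change ((-(1 : Matrix (Fin 2) (Fin 2) K) 0 0 : K) : F) = -(1 : M2) 0 0
    simp
  · change ((-(1 : Matrix (Fin 2) (Fin 2) K) 0 1 : K) : F) = -(1 : M2) 0 1
    simp
  · change ((-(1 : Matrix (Fin 2) (Fin 2) K) 1 0 : K) : F) = -(1 : M2) 1 0
    simp
  · change ((-(1 : Matrix (Fin 2) (Fin 2) K) 1 1 : K) : F) = -(1 : M2) 1 1
    simp

omit [Finite F] in
theorem fieldAut_inc {K : Subfield F} {σ : F ≃+* F} (hK : ∀ a, a ∈ K ↔ σ a = a)
    (x : Matrix.SpecialLinearGroup (Fin 2) K) : fieldAut σ (inc K x) = inc K x := by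
  apply Subtype.ext
  ext i j
  exact (hK _).1 (x.1 i j).2

omit [Finite F] in
theorem exists_inc {K : Subfield F} {σ : F ≃+* F} (hK : ∀ a, a ∈ K ↔ σ a = a) {x : SL2}
    (hx : fieldAut σ x = x) : ∃ y, inc K y = x := by
  have h1 : ∀ i j, x.1 i j ∈ K := by
    intro i j
    rw [hK]
    exact congrFun (congrFun (congrArg Subtype.val hx) i) j
  refine ⟨⟨Matrix.of fun i j => ⟨x.1 i j, h1 i j⟩, ?_⟩, ?_⟩
  · apply Subtype.ext
    have h2 := x.2
    rw [Matrix.det_fin_two] at h2 ⊢
    exact h2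
  · apply Subtype.ext
    ext i j
    rfl

/-- the image of `SL(2,K)` in `L` -/
noncomputable def sub (K : Subfield F) : Subgroup L := (R.π.comp (inc K)).range

omit [Finite F] in
theorem mem_sub {K : Subfield F} {y : L} : y ∈ R.sub K ↔ ∃ x, R.π (inc K x) = y := Iff.rfl

/-- `sub K` is `PSL(2,K)` -/
noncomputable def subRep (K : Subfield F) : Rep K (R.sub K) where
  π := (R.π.comp (inc K)).rangeRestrict
  surj := (R.π.comp (inc K)).rangeRestrict_surjective
  two := two_sub R.two K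
  ker := by
    intro x
    have h1 : (R.π.comp (inc K)).rangeRestrict x = 1 ↔ R.π (inc K x) = 1 :=
      ⟨fun h => congrArg Subtype.val h, fun h => Subtype.ext h⟩
    refine h1.trans ?_
    rw [R.ker]
    have h2 : inc K x = 1 ↔ x = 1 := by
      rw [← (inc_injective K).eq_iff (a := x) (b := 1), map_one]
    have h3 : inc K x = -1 ↔ x = -1 := by
      rw [← (inc_injective K).eq_iff (a := x) (b := -1), inc_neg_one]
    rw [h2, h3]

omit [Finite F] in
theorem subRep_π (K : Subfield F) (x : Matrix.SpecialLinearGroup (Fin 2) K) :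
    (((R.subRep K).π x : R.sub K) : L) = R.π (inc K x) := rfl

/-- fixed points of `fa σ` -/
theorem mem_fix_fa {σ : F ≃+* F} {x : SL2} :
    R.π x ∈ fixSub (R.fa σ) ↔ fieldAut σ x = x ∨ fieldAut σ x = -x := by
  rw [mem_fixSub, R.fa_apply, R.π_eq_iff]

/-- an element fixed by `fa σ` outside `sub K` -/
theorem exists_outer {K : Subfield F} {σ : F ≃+* F} (hm : Even (orderOf σ))
    (hK : ∀ a, a ∈ K ↔ σ a = a) (hcard : Nat.card F = Nat.card K ^ orderOf σ) :
    ∃ w : L, w ∈ fixSub (R.fa σ) ∧ w ∉ R.sub K ∧ ∀ x ∈ fixSub (R.fa σ), x ∉ R.sub K →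
      w * x ∈ R.sub K := by
  obtain ⟨δ, hδ, hδ0⟩ := exists_delta R.two hm hK hcard
  let D : SL2 := Cfsg.Agent.Lib.SL2Mat.mk δ 0 0 δ⁻¹ (by field_simp; ring)
  have hD : fieldAut σ D = -D := by
    apply Subtype.ext
    apply mat_ext
    · change σ δ = -δ
      exact hδ
    · change σ 0 = -(0 : F)
      rw [map_zero, neg_zero]
    · change σ 0 = -(0 : F)
      rw [map_zero, neg_zero]
    · change σ δ⁻¹ = -δ⁻¹
      rw [map_inv₀, hδ, inv_neg]
  refine ⟨R.π D, R.mem_fix_fa.2 (Or.inr hD), ?_, ?_⟩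
  · rintro ⟨y, hy⟩
    have hy' : R.π (inc K y) = R.π D := hy
    have h1 : fieldAut σ D = D := by
      rcases R.π_eq_iff.1 hy' with h | h
      · rw [← h]; exact fieldAut_inc hK y
      · have h3 : D = -inc K y := by rw [h, neg_neg]
        rw [h3, R.aut_neg, fieldAut_inc hK y]
    rw [hD] at h1
    apply R.neg_one_ne_one
    rw [← neg_one_mul] at h1
    exact mul_eq_right.1 h1
  · intro x hx hxs
    obtain ⟨X, rfl⟩ := R.surj x
    rcases R.mem_fix_fa.1 hx with h | h
    · obtain ⟨y, rfl⟩ := exists_inc hK h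
      exact absurd ⟨y, rfl⟩ hxs
    · obtain ⟨y, hy⟩ := exists_inc (x := D * X) hK (by rw [map_mul, hD, h, neg_mul_neg])
      exact ⟨y, by rw [← map_mul, ← hy]; rfl⟩

/-- elements fixed by `fa σ` outside `sub K` induce on `sub K` outer automorphisms of `PGL` type -/
theorem outer_act {K : Subfield F} {σ : F ≃+* F} (hm : Even (orderOf σ))
    (hK : ∀ a, a ∈ K ↔ σ a = a) (hcard : Nat.card F = Nat.card K ^ orderOf σ) {x : L}
    (hx : x ∈ fixSub (R.fa σ)) (hxs : x ∉ R.sub K) {β : MulAut (R.sub K)}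
    (hβ : ∀ n, (β n : L) = x * n * x⁻¹) : β ∈ (R.subRep K).PGL ∧ β ∉ Inn (R.sub K) := by
  obtain ⟨δ, hδ, hδ0⟩ := exists_delta R.two hm hK hcard
  obtain ⟨X, rfl⟩ := R.surj x
  have hX : fieldAut σ X = -X := by
    rcases R.mem_fix_fa.1 hx with h | h
    · obtain ⟨y, rfl⟩ := exists_inc hK h
      exact absurd ⟨y, rfl⟩ hxs
    · exact h
  have hXij : ∀ i j, δ * X.1 i j ∈ K := by
    intro i j
    have h1 : σ (X.1 i j) = -X.1 i j := congrFun (congrFun (congrArg Subtype.val hX) i) j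
    rw [hK, map_mul, hδ, h1, neg_mul_neg]
  have hδ2 : δ * δ ∈ K := by rw [hK, map_mul, hδ, neg_mul_neg]
  let Y : Matrix (Fin 2) (Fin 2) K := Matrix.of fun i j => ⟨δ * X.1 i j, hXij i j⟩
  have hYdet : Y.det = ⟨δ * δ, hδ2⟩ := by
    apply Subtype.ext
    rw [Matrix.det_fin_two]
    change δ * X.1 0 0 * (δ * X.1 1 1) - δ * X.1 0 1 * (δ * X.1 1 0) = δ * δ
    have h2 := X.2
    rw [Matrix.det_fin_two] at h2
    linear_combination δ ^ 2 * h2
  have hYne : Y.det ≠ 0 := by
    rw [hYdet]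
    intro h
    exact mul_self_ne_zero.2 hδ0 (congrArg Subtype.val h)
  have hβ' : β = (R.subRep K).gl (toGL' Y hYne) := by
    apply (R.subRep K).ext_π
    intro y
    apply Subtype.ext
    rw [hβ, gl_apply, subRep_π, subRep_π, ← map_inv, ← map_mul, ← map_mul]
    congr 1
    rw [mul_inv_eq_iff_eq_mul]
    apply Subtype.ext
    have h1 : Y * y.1 = (conjGL (toGL' Y hYne) y).1 * Y := of_conjGL_eq (g := toGL' Y hYne) rfl
    have h2 : ∀ i j, ((Y * y.1) i j : F) = (((conjGL (toGL' Y hYne) y).1 * Y) i j : F) := by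
      intro i j; rw [h1]
    ext i j
    have h3 := h2 i j
    rw [mat_mul, mat_mul] at h3
    change δ * X.1 i 0 * (y.1 0 j : F) + δ * X.1 i 1 * (y.1 1 j : F) =
      ((conjGL (toGL' Y hYne) y).1 i 0 : F) * (δ * X.1 0 j) +
        ((conjGL (toGL' Y hYne) y).1 i 1 : F) * (δ * X.1 1 j) at h3
    change (X.1 * (inc K y).1) i j = ((inc K (conjGL (toGL' Y hYne) y)).1 * X.1) i j
    rw [mat_mul, mat_mul]
    apply mul_left_cancel₀ hδ0
    change δ * (X.1 i 0 * (y.1 0 j : F) + X.1 i 1 * (y.1 1 j : F)) =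
      δ * (((conjGL (toGL' Y hYne) y).1 i 0 : F) * X.1 0 j +
        ((conjGL (toGL' Y hYne) y).1 i 1 : F) * X.1 1 j)
    linear_combination h3
  rw [hβ']
  refine ⟨gl_mem_PGL _ _, ?_⟩
  rw [gl_mem_inn]
  rintro ⟨e, he⟩
  have he' : Y.det = e * e := he
  rw [hYdet] at he'
  have h4 : δ * δ = (e : F) * e := congrArg Subtype.val he'
  have h5 : (δ - e) * (δ + e) = 0 := by linear_combination h4
  have hδK : δ ∉ K := by
    intro h
    rw [hK, hδ] at h
    apply hδ0
    have : (2 : F) * δ = 0 := by linear_combination -h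
    exact (mul_eq_zero.1 this).resolve_left R.two
  rcases mul_eq_zero.1 h5 with h6 | h6
  · apply hδK
    rw [show δ = (e : F) by linear_combination h6]
    exact e.2
  · apply hδK
    rw [show δ = -(e : F) by linear_combination h6]
    exact neg_mem e.2

theorem sub_le_fix {K : Subfield F} {σ : F ≃+* F} (hK : ∀ a, a ∈ K ↔ σ a = a) :
    R.sub K ≤ fixSub (R.fa σ) := by
  rintro _ ⟨x, rfl⟩
  exact R.mem_fix_fa.2 (Or.inl (fieldAut_inc hK x))

end Rep

end Cfsg.Agent.GH.L2Aut
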