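import Cfsg.Agent.GH.L2AutSyl
import Cfsg.Agent.LFourA.FieldCent
import Cfsg.Agent.ClassicalGeometry.PSL2Basic

/-!
# Automorphisms of `L ≅ PSL(2,F)` of field type

`R : Rep F L`, `α : MulAut L`, `α * α = 1`, `R.fld α ≠ 1`.
* `exists_fInv` : `α = gl h * fa σ * (gl h)⁻¹`, `σ = R.fld α`, with the data `FInv`;
* `sig_iff`, `sig_of_inv` (f5) : `α = conj y * fa (fld α)`;
* `exists_fix_sylow` (f6a) : a conjugate of `α` under `L` centralizes a given Sylow 2-subgroup;
* `exists_conj_mul` (f6b) : `α` and `conj s * α` are `L`-conjugate for some `s` in a generating set of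
  involutions of a Sylow 2-subgroup centralized by `α`;
* `sig_of_comm` (f6c) : what commutes with `α` is of the form `conj y * fa τ`;
* `sq_eq_one` (f4) : a 2-element centralizing a Sylow 2-subgroup of `L` has square one.
-/

set_option autoImplicit false
set_option linter.unusedSectionVars false

namespace Cfsg.Agent.GH.L2AutField

open Matrix Cfsg.Agent.Lib.SL2Mat Cfsg.Agent.Lib.AutSL2 Cfsg.Agent.Lib.AutSL2Out
open Cfsg.Agent.GH.L2Aut Cfsg.Agent.LFourA.FieldInv

section base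

variable {F : Type*} [Field F] [Finite F] {L : Type*} [Group L]
  (R : Cfsg.Agent.GH.L2Aut.Rep F L)

local notation "SL2" => Matrix.SpecialLinearGroup (Fin 2) F
local notation "M2" => Matrix (Fin 2) (Fin 2) F

theorem det_ne (g : GL (Fin 2) F) : g.1.det ≠ 0 := gl_det_ne g

theorem det_inv' (g : GL (Fin 2) F) : g⁻¹.1.det = (g.1.det)⁻¹ := by
  have h1 : g.1.det * g⁻¹.1.det = 1 := by
    rw [← Matrix.det_mul, ← Units.val_mul, mul_inv_cancel, Units.val_one, Matrix.det_one]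
  exact eq_inv_of_mul_eq_one_right h1

theorem det_map (σ : F ≃+* F) (g : GL (Fin 2) F) :
    (Matrix.GeneralLinearGroup.map σ.toRingHom g).1.det = σ g.1.det := by
  change (g.1.map σ.toRingHom).det = _
  rw [← RingHom.mapMatrix_apply, ← RingHom.map_det]
  rfl

/-- `u / σ u` is a square -/
theorem isSquare_div (σ : F ≃+* F) {u : F} (hu : u ≠ 0) : IsSquare (u * (σ u)⁻¹) := by
  obtain ⟨a, ha⟩ := isSquare_mul_map σ u
  have h0 : σ u ≠ 0 := by
    intro h
    exact hu (σ.injective (by rw [h, map_zero]))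
  refine ⟨a * (σ u)⁻¹, ?_⟩
  field_simp
  linear_combination ha

/-- decomposition and determinant class -/
theorem sig_iff {α : MulAut L} {g : GL (Fin 2) F} (h : α = R.gl g * R.fa (R.fld α)) :
    (∃ y : L, α = MulAut.conj y * R.fa (R.fld α)) ↔ IsSquare g.1.det := by
  rw [← R.gl_mem_inn]
  constructor
  · rintro ⟨y, hy⟩
    exact ⟨y, mul_right_cancel (hy.symm.trans h)⟩
  · rintro ⟨y, hy⟩
    exact ⟨y, by rw [hy]; exact h⟩

theorem sig_of {α : MulAut L} {g : GL (Fin 2) F} {σ : F ≃+* F} (h : α = R.gl g * R.fa σ)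
    (hg : IsSquare g.1.det) : ∃ y : L, α = MulAut.conj y * R.fa (R.fld α) := by
  have h1 : R.fld α = σ := by rw [h, map_mul, R.fld_gl, R.fld_fa, one_mul]
  exact (sig_iff R (by rw [h1]; exact h)).2 hg

/-- (A) involutory automorphisms outside `PGL(2,F)` are field involutions -/
theorem exists_fInv {α : MulAut L} (hα : α * α = 1) (hf : R.fld α ≠ 1) :
    ∃ (h : GL (Fin 2) F) (K : Subfield F),
      FInv (R.π.comp (conjGL h).toMonoidHom) α (R.fld α) K ∧
      α = R.gl h * R.fa (R.fld α) * (R.gl h)⁻¹ := by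
  have hα' : ∀ z, α (α z) = z := fun z => DFunLike.congr_fun hα z
  have hno : ¬ ∃ g : GL (Fin 2) F, ∀ x, α (R.π x) = R.π (conjGL g x) := by
    rintro ⟨g, hg⟩
    apply hf
    have h1 : α = R.gl g := R.ext_π fun x => by rw [hg, R.gl_apply]
    rw [h1, R.fld_gl]
  obtain ⟨h, σ, K, H⟩ := exists_finv R.two R.surj R.ker hα' hno
  have h1 : α = R.gl h * R.fa σ * (R.gl h)⁻¹ := by
    apply R.ext_π
    intro x
    obtain ⟨y, rfl⟩ := (conjGL h).surjective x
    have h2 := H.act y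
    change α (R.π (conjGL h y)) = R.π (conjGL h (fieldAut σ y)) at h2
    rw [h2, MulAut.mul_apply, MulAut.mul_apply, ← R.gl_apply h y, MulAut.inv_apply_self, R.fa_apply,
      R.gl_apply]
  have h2 : R.fld α = σ := by
    rw [h1, map_mul, map_mul, map_inv, R.fld_gl, R.fld_fa, one_mul, inv_one, mul_one]
  refine ⟨h, K, ?_, ?_⟩
  · rw [h2]; exact H
  · rw [h2]; exact h1

/-- conjugates of `fa σ` under `GL(2,F)` -/
theorem conj_fa (h : GL (Fin 2) F) (σ : F ≃+* F) :
    R.gl h * R.fa σ * (R.gl h)⁻¹ =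
      R.gl (h * (Matrix.GeneralLinearGroup.map σ.toRingHom h)⁻¹) * R.fa σ := by
  rw [map_mul, map_inv, mul_assoc, mul_assoc]
  congr 1
  rw [← map_inv, ← map_inv, R.fa_mul_gl, map_inv]

theorem det_conj_fa (h : GL (Fin 2) F) (σ : F ≃+* F) :
    IsSquare (h * (Matrix.GeneralLinearGroup.map σ.toRingHom h)⁻¹ : GL (Fin 2) F).1.det := by
  rw [Units.val_mul, Matrix.det_mul, det_inv', det_map]
  exact isSquare_div σ (det_ne h)

/-- (f5) -/
theorem sig_of_inv {α : MulAut L} (hα : α * α = 1) :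
    α ∈ R.PGL ∨ ∃ y : L, α = MulAut.conj y * R.fa (R.fld α) := by
  by_cases hf : R.fld α = 1
  · left
    exact R.mem_PGL_iff_fld.2 hf
  right
  obtain ⟨h, K, -, h1⟩ := exists_fInv R hα hf
  rw [conj_fa] at h1
  exact (sig_iff R h1).2 (det_conj_fa h _)

/-- (f6c) -/
theorem sig_of_comm {α β : MulAut L} (hα : α * α = 1) (hf : R.fld α ≠ 1) (hc : β * α = α * β) :
    ∃ y : L, β = MulAut.conj y * R.fa (R.fld β) := by
  obtain ⟨h, K, H, h1⟩ := exists_fInv R hα hf
  obtain ⟨σ, hσ⟩ : ∃ σ, σ = R.fld α := ⟨_, rfl⟩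
  rw [← hσ] at h1 H hf
  obtain ⟨g, hg⟩ := R.exists_eq β
  obtain ⟨τ, hτ⟩ : ∃ τ, τ = R.fld β := ⟨_, rfl⟩
  rw [← hτ] at hg
  -- the conjugate of `β`
  obtain ⟨k, hk⟩ : ∃ k : GL (Fin 2) F, k = h⁻¹ * g * Matrix.GeneralLinearGroup.map τ.toRingHom h :=
    ⟨_, rfl⟩
  have hβ : (R.gl h)⁻¹ * β * R.gl h = R.gl k * R.fa τ := by
    rw [hg, hk, map_mul, map_mul, map_inv, mul_assoc, mul_assoc, R.fa_mul_gl, mul_assoc, mul_assoc]
  have hc1 : (R.gl k * R.fa τ) * R.fa σ = R.fa σ * (R.gl k * R.fa τ) := by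
    rw [← hβ]
    have h3 : R.fa σ = (R.gl h)⁻¹ * α * R.gl h := by rw [h1]; group
    rw [h3]
    calc (R.gl h)⁻¹ * β * R.gl h * ((R.gl h)⁻¹ * α * R.gl h) = (R.gl h)⁻¹ * (β * α) * R.gl h := by
          group
      _ = (R.gl h)⁻¹ * (α * β) * R.gl h := by rw [hc]
      _ = (R.gl h)⁻¹ * α * R.gl h * ((R.gl h)⁻¹ * β * R.gl h) := by group
  have hc2 : R.gl (Matrix.GeneralLinearGroup.map σ.toRingHom k) = R.gl k := by
    have h3 : R.fa τ * R.fa σ = R.fa σ * R.fa τ := by
      rw [← map_mul, ← map_mul, ringEquiv_comm]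
    rw [mul_assoc, h3, ← mul_assoc, ← mul_assoc] at hc1
    have h4 := mul_right_cancel hc1
    rw [R.fa_mul_gl] at h4
    exact (mul_right_cancel h4).symm
  have hc3 : R.gl (k⁻¹ * Matrix.GeneralLinearGroup.map σ.toRingHom k) = 1 := by
    rw [map_mul, map_inv, hc2, inv_mul_cancel]
  obtain ⟨c, hcc⟩ := R.gl_eq_one_iff.1 hc3
  have hmap : k.1.map σ = c • k.1 := by
    have h3 : (k * (k⁻¹ * Matrix.GeneralLinearGroup.map σ.toRingHom k)).1 =
        (Matrix.GeneralLinearGroup.map σ.toRingHom k).1 := by rw [mul_inv_cancel_left]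
    rw [Units.val_mul, hcc, Matrix.mul_smul, Matrix.mul_one] at h3
    exact h3.symm
  have hu0 : k.1.det ≠ 0 := det_ne k
  have hdet : σ k.1.det = c ^ 2 * k.1.det := by
    have h3 : (k.1.map σ).det = σ k.1.det := det_map σ k
    rw [← h3, hmap, Matrix.det_smul, Fintype.card_fin]
  have hcσ : c * σ c = 1 := by
    obtain ⟨i, j, hij⟩ : ∃ i j, k.1 i j ≠ 0 := by
      by_contra hcon
      push Not at hcon
      apply hu0
      rw [Matrix.det_fin_two, hcon, hcon, hcon]; ring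
    have h3 : ∀ i j, σ (k.1 i j) = c * k.1 i j := fun i j => congrFun (congrFun hmap i) j
    have h4 := congrArg σ (h3 i j)
    rw [H.inv, map_mul, h3] at h4
    have h5 : (c * σ c - 1) * k.1 i j = 0 := by linear_combination -h4
    rcases mul_eq_zero.1 h5 with h6 | h6
    · exact sub_eq_zero.1 h6
    · exact absurd h6 hij
  have hsq : IsSquare k.1.det := by
    refine Cfsg.Agent.Classification.TypeB.SigAut.isSquare_of_conj R.two H.inv hf hu0
      (l := c * k.1.det) ?_ ?_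
    · rw [hdet]; ring
    · rw [map_mul, hdet]
      linear_combination (c * k.1.det) * hcσ
  -- back to `g`
  have hg2 : IsSquare g.1.det := by
    have h3 : g = h * k * (Matrix.GeneralLinearGroup.map τ.toRingHom h)⁻¹ := by rw [hk]; group
    have h4 : g.1.det = k.1.det * (h.1.det * (τ h.1.det)⁻¹) := by
      rw [h3, Units.val_mul, Units.val_mul, Matrix.det_mul, Matrix.det_mul, det_inv', det_map]
      ring
    rw [h4]
    exact hsq.mul (isSquare_div τ (det_ne h))
  exact sig_of R hg hg2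

end base

section card

variable {L : Type*} [Group L]

/-- `x² + ν y² = c` is solvable in a finite field of odd order -/
theorem exists_sq_add {K : Type*} [Field K] [Finite K] (h2 : (2 : K) ≠ 0) {ν : K} (hν : ν ≠ 0)
    (c : K) : ∃ x y : K, x ^ 2 + ν * y ^ 2 = c := by
  have := Fintype.ofFinite K
  have hodd : Fintype.card K % 2 = 1 := by
    have h3 : ringChar K ≠ 2 := by
      intro h
      apply h2
      have h4 := ringChar.Nat.cast_ringChar (R := K)
      rw [h] at h4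
      exact_mod_cast h4
    exact FiniteField.odd_card_of_char_ne_two h3
  have h := FiniteField.exists_root_sum_quadratic (R := K) (f := Polynomial.C ν * Polynomial.X ^ 2)
    (g := Polynomial.X ^ 2 - Polynomial.C c) (Polynomial.degree_C_mul_X_pow 2 hν)
    (Polynomial.degree_X_pow_sub_C (by decide) _) hodd
  obtain ⟨a, b, hab⟩ := h
  refine ⟨b, a, ?_⟩
  simp only [Polynomial.eval_pow, Polynomial.eval_X, Polynomial.eval_sub, Polynomial.eval_C,
    Polynomial.eval_mul] at hab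
  linear_combination hab

/-- the image of `SL(2,E)` modulo `±1` -/
theorem card_range {E : Type*} [Field E] [Finite E] (h2 : (2 : E) ≠ 0)
    (f : Matrix.SpecialLinearGroup (Fin 2) E →* L) (hk : ∀ x, f x = 1 ↔ x = 1 ∨ x = -1) :
    2 * Nat.card f.range = Nat.card E * (Nat.card E ^ 2 - 1) := by
  have := Fintype.ofFinite E
  have h1 : Nat.card f.ker = 2 := by
    have h3 : (f.ker : Set (Matrix.SpecialLinearGroup (Fin 2) E)) = {1, -1} := by
      ext x
      rw [SetLike.mem_coe, MonoidHom.mem_ker, hk]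
      rfl
    have h4 : (1 : Matrix.SpecialLinearGroup (Fin 2) E) ≠ -1 := by
      intro h
      have h5 := congrArg (fun x => ent x 0 0) h
      have h6 : (1 : E) = -1 := h5
      apply h2
      linear_combination h6
    have h5 : Nat.card f.ker = (f.ker : Set (Matrix.SpecialLinearGroup (Fin 2) E)).ncard := rfl
    rw [h5, h3, Set.ncard_pair h4]
  have h3 := Subgroup.card_eq_card_quotient_mul_card_subgroup f.ker
  have h4 := Nat.card_congr (QuotientGroup.quotientKerEquivRange f).toEquiv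
  rw [h4, h1, Cfsg.Agent.ClassicalGeometry.PSL2Basic.card_SL2, ← Nat.card_eq_fintype_card] at h3
  rw [mul_comm, ← h3]

end card

section fix

variable {F : Type*} [Field F] [Finite F] {L : Type*} [Group L]
  {π : Matrix.SpecialLinearGroup (Fin 2) F →* L} {α : MulAut L} {σ : F ≃+* F} {K : Subfield F}

local notation "SL2" => Matrix.SpecialLinearGroup (Fin 2) F

theorem two_ne (h : FInv π α σ K) : (2 : K) ≠ 0 := by
  intro h0
  apply h.two
  have h1 : K.subtype 2 = K.subtype 0 := by rw [h0]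
  rwa [map_ofNat, map_zero] at h1

theorem mem_sub_of_fix (H : FInv π α σ K) {x : SL2} (hx : fieldAut σ x = x) :
    π x ∈ H.sub.range := by
  have hK : ∀ i j, x.1 i j ∈ K := fun i j =>
    (H.mem _).2 (congrArg (fun y : SL2 => ent y i j) hx)
  obtain ⟨M, hM⟩ : ∃ M : Matrix (Fin 2) (Fin 2) K, ∀ i j, ((M i j : K) : F) = x.1 i j :=
    ⟨fun i j => ⟨x.1 i j, hK i j⟩, fun i j => rfl⟩
  have hdet : M.det = 1 := by
    apply Subtype.ext
    have h1 := sl_det x
    rw [Matrix.det_fin_two, ← hM, ← hM, ← hM, ← hM] at h1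
    rw [Matrix.det_fin_two]
    push_cast
    exact h1
  refine ⟨⟨M, hdet⟩, ?_⟩
  change π (Matrix.SpecialLinearGroup.map K.subtype _) = π x
  congr 1
  apply Subtype.ext
  ext i j
  exact hM i j

theorem sub_eq_one_iff (H : FInv π α σ K) (y : Matrix.SpecialLinearGroup (Fin 2) K) :
    H.sub y = 1 ↔ y = 1 ∨ y = -1 := by
  change π (Matrix.SpecialLinearGroup.map K.subtype y) = 1 ↔ _
  rw [H.ker]
  have hinj : Function.Injective (Matrix.SpecialLinearGroup.map (n := Fin 2) K.subtype) := by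
    intro a b hab
    apply Subtype.ext
    ext i j
    exact congrArg (fun y : SL2 => ent y i j) hab
  have h1 : Matrix.SpecialLinearGroup.map (n := Fin 2) K.subtype (-1) = -1 := by
    apply Subtype.ext
    ext i j
    change ((((-1 : Matrix (Fin 2) (Fin 2) K) i j : K)) : F) = (-1 : Matrix (Fin 2) (Fin 2) F) i j
    rw [Matrix.neg_apply, Matrix.neg_apply]
    by_cases hij : i = j
    · rw [hij, Matrix.one_apply_eq, Matrix.one_apply_eq]; rfl
    · rw [Matrix.one_apply_ne hij, Matrix.one_apply_ne hij, neg_zero, neg_zero]; rfl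
  rw [← hinj.eq_iff (a := y) (b := 1), ← hinj.eq_iff (a := y) (b := -1), map_one, h1]

theorem card_rel (H : FInv π α σ K) :
    Nat.card L = Nat.card H.sub.range * (Nat.card K * (Nat.card K ^ 2 + 1)) := by
  have h1 := card_range H.two π H.ker
  have h2 := card_range (two_ne H) H.sub (sub_eq_one_iff H)
  rw [MonoidHom.range_eq_top.2 H.surj, Subgroup.card_top, H.card] at h1
  have hq : 1 ≤ Nat.card K := Nat.card_pos
  obtain ⟨m, hm⟩ : ∃ m, Nat.card K = m + 1 := ⟨Nat.card K - 1, by omega⟩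
  have h3 : Nat.card K ^ 2 - 1 = m * (m + 2) := by
    rw [hm]
    have : (m + 1) ^ 2 = m * (m + 2) + 1 := by ring
    omega
  have h4 : (Nat.card K ^ 2) ^ 2 - 1 = m * (m + 2) * (Nat.card K ^ 2 + 1) := by
    rw [hm]
    have : ((m + 1) ^ 2) ^ 2 = m * (m + 2) * ((m + 1) ^ 2 + 1) + 1 := by ring
    omega
  rw [h4] at h1
  rw [h3] at h2
  have h5 : 2 * Nat.card L = 2 * (Nat.card H.sub.range * (Nat.card K * (Nat.card K ^ 2 + 1))) := by
    rw [h1]
    calc Nat.card K ^ 2 * (m * (m + 2) * (Nat.card K ^ 2 + 1)) =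
        (Nat.card K * (m * (m + 2))) * (Nat.card K * (Nat.card K ^ 2 + 1)) := by ring
      _ = 2 * Nat.card H.sub.range * (Nat.card K * (Nat.card K ^ 2 + 1)) := by rw [h2]
      _ = _ := by ring
  omega

theorem odd_card_K (H : FInv π α σ K) : Nat.card K % 2 = 1 := by
  have := Fintype.ofFinite K
  have h3 : ringChar K ≠ 2 := by
    intro h
    apply (two_ne H)
    have h4 := ringChar.Nat.cast_ringChar (R := K)
    rw [h] at h4
    exact_mod_cast h4
  rw [Nat.card_eq_fintype_card]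
  exact FiniteField.odd_card_of_char_ne_two h3

/-- a Sylow 2-subgroup of `L` is not contained in `PSL(2,K)` -/
theorem not_le_sub (H : FInv π α σ K) (S : Sylow 2 L) : ¬ (S : Subgroup L) ≤ H.sub.range := by
  intro hle
  have hfin : Finite L := Finite.of_surjective _ H.surj
  obtain ⟨m, hm⟩ := Subgroup.card_dvd_of_le hle
  have h1 := card_rel H
  rw [hm] at h1
  have h2 := Subgroup.card_mul_index (S : Subgroup L)
  have h3 : ¬ 2 ∣ (S : Subgroup L).index := S.not_dvd_index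
  apply h3
  have h4 : Nat.card (S : Subgroup L) * (S : Subgroup L).index =
      Nat.card (S : Subgroup L) * (m * (Nat.card K * (Nat.card K ^ 2 + 1))) := by
    rw [h2, h1, mul_assoc]
  rw [Nat.eq_of_mul_eq_mul_left Nat.card_pos h4]
  apply Dvd.dvd.mul_left
  apply Dvd.dvd.mul_left
  have h5 := odd_card_K H
  have h6 : Nat.card K ^ 2 % 2 = 1 := by rw [Nat.pow_mod, h5]
  omega

theorem exists_norm_sq (H : FInv π α σ K) : ∃ a : F, a ^ 2 + σ a ^ 2 = 1 := by
  obtain ⟨δ, hδ0, hδ⟩ := H.exists_anti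
  have hν : δ ^ 2 ∈ K := (H.mem _).2 (by rw [map_pow, hδ, neg_sq])
  have hν0 : (⟨δ ^ 2, hν⟩ : K) ≠ 0 := by
    intro h
    exact hδ0 (pow_eq_zero_iff (two_ne_zero)|>.1 (congrArg Subtype.val h))
  obtain ⟨s, t, hst⟩ := exists_sq_add (two_ne H) hν0 (2⁻¹ : K)
  refine ⟨(s : F) + (t : F) * δ, ?_⟩
  have hs : σ (s : F) = s := (H.mem _).1 s.2
  have ht : σ (t : F) = t := (H.mem _).1 t.2
  rw [map_add, map_mul, hs, ht, hδ]
  have h1 : (s : F) ^ 2 + δ ^ 2 * (t : F) ^ 2 = (2 : F)⁻¹ := congrArg Subtype.val hst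
  have h2 : (2 : F) * (2 : F)⁻¹ = 1 := mul_inv_cancel₀ H.two
  linear_combination 2 * h1 + h2

/-- the crucial equation -/
theorem key (H : FInv π α σ K) {s : L} (hs : s * s = 1) (hs1 : s ≠ 1) (hα : α s = s)
    (hns : s ∉ H.sub.range) : ∃ k : L, s * α k = k := by
  obtain ⟨x, rfl⟩ := H.surj s
  have hxx : x * x = -1 := by
    rw [← map_mul, H.ker] at hs
    rcases hs with h | h
    · exfalso
      apply hs1
      rw [H.ker]
      exact Cfsg.Agent.Lib.PSL2Inv.sq_eq_one H.two h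
    · exact h
  rw [H.alpha_eq_iff] at hα
  rcases hα with hx | hx
  · exact (hns (mem_sub_of_fix H hx)).elim
  · obtain ⟨a, ha⟩ := exists_norm_sq H
    have htr := Cfsg.Agent.Lib.PSL2Inv.tr_of_sq H.two hxx
    have hdet := det_eq x
    have hσ : ∀ i j, σ (ent x i j) = -ent x i j := fun i j => by
      rw [← fieldAut_ent, hx]; rfl
    rw [htr] at hdet
    obtain ⟨k, hk00, hk01, hk10, hk11⟩ : ∃ k : SL2, ent k 0 0 = a + σ a * ent x 0 0 ∧
        ent k 0 1 = σ a * ent x 0 1 ∧ ent k 1 0 = σ a * ent x 1 0 ∧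
        ent k 1 1 = a - σ a * ent x 0 0 := by
      refine ⟨mk (a + σ a * ent x 0 0) (σ a * ent x 0 1) (σ a * ent x 1 0) (a - σ a * ent x 0 0) ?_,
        rfl, rfl, rfl, rfl⟩
      linear_combination ha + σ a ^ 2 * hdet
    have hxk : x * fieldAut σ k = k := by
      apply ext_ent
      · rw [ent_mul, fieldAut_ent, fieldAut_ent, hk00, hk10, map_add, map_mul, map_mul, H.inv, hσ, hσ]
        linear_combination a * hdet
      · rw [ent_mul, fieldAut_ent, fieldAut_ent, hk01, hk11, map_sub, map_mul, map_mul, H.inv, hσ, hσ]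
        ring
      · rw [ent_mul, fieldAut_ent, fieldAut_ent, hk00, hk10, map_add, map_mul, map_mul, H.inv, hσ, hσ,
          htr]
        ring
      · rw [ent_mul, fieldAut_ent, fieldAut_ent, hk01, hk11, map_sub, map_mul, map_mul, H.inv, hσ, hσ,
          htr]
        linear_combination a * hdet
    refine ⟨π k, ?_⟩
    rw [H.act, ← map_mul, hxk]

end fix

section main

variable {F : Type*} [Field F] [Finite F] {L : Type*} [Group L]
  (R : Cfsg.Agent.GH.L2Aut.Rep F L)

local notation "SL2" => Matrix.SpecialLinearGroup (Fin 2) F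

theorem conj_mul_of (α : MulAut L) {s k : L} (h : s * α k = k) :
    MulAut.conj k * α * (MulAut.conj k)⁻¹ = MulAut.conj s * α := by
  have h1 : α * (MulAut.conj k)⁻¹ = (MulAut.conj (α k))⁻¹ * α := by
    rw [← map_inv, ← map_inv, ← map_inv, ← conj_conj, inv_mul_cancel_right]
  rw [mul_assoc, h1, ← mul_assoc]
  congr 1
  rw [← map_inv, ← map_mul]
  congr 1
  rw [mul_inv_eq_iff_eq_mul]
  exact h.symm

include R in
/-- (f6b) -/
theorem exists_conj_mul {α : MulAut L} (hα : α * α = 1) (hf : R.fld α ≠ 1) (S : Sylow 2 L)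
    (hS : ∀ s ∈ S, α s = s) (X : Set L) (hX : ∀ s ∈ X, s ∈ S ∧ s * s = 1)
    (hgen : (S : Subgroup L) ≤ Subgroup.closure X) :
    ∃ s ∈ X, s ≠ 1 ∧ ∃ k : L, MulAut.conj k * α * (MulAut.conj k)⁻¹ = MulAut.conj s * α := by
  obtain ⟨h, K, H, -⟩ := exists_fInv R hα hf
  by_contra hcon
  push Not at hcon
  apply not_le_sub H S
  refine hgen.trans ?_
  rw [Subgroup.closure_le]
  intro s hs
  by_contra hns
  have hs1 : s ≠ 1 := by
    rintro rfl
    exact hns (one_mem _)
  obtain ⟨k, hk⟩ := key H (hX s hs).2 hs1 (hS s (hX s hs).1) hns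
  exact hcon s hs hs1 k (conj_mul_of α hk)

/-- the centralizer of a field involution has odd index -/
theorem exists_conj_of_index [Finite L] (C : Subgroup L) (hC : ¬ 2 ∣ C.index) (S : Subgroup L)
    (hS : IsPGroup 2 S) : ∃ k : L, ∀ s ∈ S, k⁻¹ * s * k ∈ C := by
  have : Fact (Nat.Prime 2) := ⟨Nat.prime_two⟩
  have h1 : ¬ 2 ∣ Nat.card (L ⧸ C) := hC
  obtain ⟨v, hv⟩ := hS.nonempty_fixed_point_of_prime_not_dvd_card (L ⧸ C) h1
  obtain ⟨k, rfl⟩ := QuotientGroup.mk_surjective v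
  refine ⟨k, fun s hs => ?_⟩
  have h2 : ((s * k : L) : L ⧸ C) = (k : L ⧸ C) := hv ⟨s, hs⟩
  have h3 := QuotientGroup.eq.1 h2.symm
  rwa [← mul_assoc] at h3

/-- the centralizer of a field involution has odd index -/
theorem odd_index {π : SL2 →* L} {α : MulAut L} {σ : F ≃+* F} {K : Subfield F}
    (H : FInv π α σ K) : ¬ 2 ∣ H.psi.range.index := by
  have hfin : Finite L := Finite.of_surjective _ H.surj
  have hle : H.sub.range ≤ H.psi.range := by
    rintro _ ⟨y, rfl⟩
    exact ⟨_, H.psi_sub y⟩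
  have h2 : H.sub.range.relIndex H.psi.range = 2 := by
    have := Fintype.ofFinite K
    have hch : ringChar K ≠ 2 := by
      intro h
      apply (two_ne H)
      have h4 := ringChar.Nat.cast_ringChar (R := K)
      rw [h] at h4
      exact_mod_cast h4
    obtain ⟨ν, hν⟩ := FiniteField.exists_nonsquare hch
    have hν0 : ν ≠ 0 := by rintro rfl; exact hν IsSquare.zero
    rw [Subgroup.relIndex, Subgroup.index_eq_two_iff]
    refine ⟨⟨H.psi (Matrix.GeneralLinearGroup.mkOfDetNeZero !![ν, 0; 0, 1]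
      (by rw [Matrix.det_fin_two_of]; simpa using hν0)), ⟨_, rfl⟩⟩, ?_⟩
    rintro ⟨_, ⟨Y, rfl⟩⟩
    rw [Subgroup.mem_subgroupOf, Subgroup.mem_subgroupOf]
    change Xor (H.psi Y * H.psi _ ∈ H.sub.range) (H.psi Y ∈ H.sub.range)
    rw [← map_mul, H.psi_mem_sub, H.psi_mem_sub]
    have hdet : (Y * Matrix.GeneralLinearGroup.mkOfDetNeZero !![ν, 0; 0, 1]
      (by rw [Matrix.det_fin_two_of]; simpa using hν0)).1.det = Y.1.det * ν := by
      rw [Units.val_mul, Matrix.det_mul]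
      congr 1
      change (!![ν, 0; 0, 1] : Matrix (Fin 2) (Fin 2) K).det = ν
      rw [Matrix.det_fin_two_of]; ring
    rw [hdet]
    have hsq : ∀ c : K, (∃ s : K, s ^ 2 = c) ↔ IsSquare c := by
      intro c
      constructor
      · rintro ⟨s, rfl⟩; exact ⟨s, sq s⟩
      · rintro ⟨s, rfl⟩; exact ⟨s, sq s⟩
    rw [hsq, hsq]
    have hY : Y.1.det ≠ 0 := gl_det_ne Y
    by_cases hY2 : IsSquare Y.1.det
    · right
      refine ⟨hY2, fun h => hν ?_⟩
      obtain ⟨a, ha⟩ := hY2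
      obtain ⟨b, hb⟩ := h
      have ha0 : a ≠ 0 := by
        rintro rfl
        apply hY
        rw [ha, mul_zero]
      refine ⟨b * a⁻¹, ?_⟩
      rw [ha] at hb
      field_simp
      linear_combination hb
    · left
      exact ⟨isSquare_mul_of_not hY2 hν, hY2⟩
  have h3 := Subgroup.relIndex_mul_index hle
  have h4 := Subgroup.card_mul_index H.sub.range
  rw [card_rel H] at h4
  have h5 := Nat.eq_of_mul_eq_mul_left Nat.card_pos h4
  rw [h2, h5] at h3
  intro hdvd
  obtain ⟨m, hm⟩ := hdvd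
  rw [hm] at h3
  have h6 := odd_card_K H
  obtain ⟨j, hj⟩ : ∃ j, Nat.card K = 2 * j + 1 := ⟨Nat.card K / 2, by omega⟩
  rw [hj] at h3
  have h7 : (2 * j + 1) * ((2 * j + 1) ^ 2 + 1) = 2 * (2 * (2 * j ^ 3 + 3 * j ^ 2 + 2 * j) + 1) := by
    ring
  omega

/-- (f6a) -/
theorem exists_fix_sylow {α : MulAut L} (hα : α * α = 1) (hf : R.fld α ≠ 1) (S : Sylow 2 L) :
    ∃ k : L, ∀ s ∈ S, (MulAut.conj k * α * (MulAut.conj k)⁻¹) s = s := by
  obtain ⟨h, K, H, -⟩ := exists_fInv R hα hf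
  have hfin : Finite L := R.finite
  obtain ⟨k, hk⟩ := exists_conj_of_index _ (odd_index H) (S : Subgroup L) S.2
  refine ⟨k, fun s hs => ?_⟩
  have h1 := (H.psi_range).1 (hk s hs)
  rw [MulAut.mul_apply, MulAut.mul_apply, ← map_inv, MulAut.conj_apply, MulAut.conj_apply, inv_inv,
    h1]
  group

include R in
/-- (f4) a 2-element centralizing a Sylow 2-subgroup of `L` has square one -/
theorem sq_eq_one {β : MulAut L} (hβ : ∃ n, β ^ 2 ^ n = 1) (S : Sylow 2 L)
    (hS : ∀ s ∈ S, β s = s) : β * β = 1 := by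
  obtain ⟨a, b, ha, hb, hab⟩ := R.exists_four_mem S
  obtain ⟨Φ, y, δ, hfld, hΦa, hΦb, -, -, -, -, -, -, -, -, -, -, hfix, -⟩ := R.exists_frame hab
  obtain ⟨u, hu, hβu⟩ := hfix β (hS a ha) (hS b hb)
  obtain ⟨τ, hτ⟩ : ∃ τ, τ = R.fld β := ⟨_, rfl⟩
  rw [← hτ] at hβu
  have huu : u * u = 1 ∧ Φ τ u = u := by
    rcases hu with rfl | rfl | rfl | rfl
    · exact ⟨one_mul 1, map_one _⟩
    · exact ⟨hab.aa, hΦa τ⟩
    · exact ⟨hab.bb, hΦb τ⟩
    · exact ⟨hab.right.bb, by rw [map_mul, hΦa, hΦb]⟩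
  have hsq : β * β = Φ (τ * τ) := by
    have h1 : Φ τ * MulAut.conj u = MulAut.conj u * Φ τ := by
      have h2 := conj_conj (Φ τ) u
      rw [huu.2, mul_inv_eq_iff_eq_mul] at h2
      exact h2
    calc β * β = MulAut.conj u * (Φ τ * MulAut.conj u) * Φ τ := by rw [hβu]; simp only [mul_assoc]
      _ = MulAut.conj (u * u) * (Φ τ * Φ τ) := by rw [h1, map_mul]; simp only [mul_assoc]
      _ = Φ (τ * τ) := by rw [huu.1, map_one, one_mul, map_mul]
  by_contra hne
  have hρ : τ * τ ≠ 1 := by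
    intro h
    rw [h, map_one] at hsq
    exact hne hsq
  -- a power of order two
  obtain ⟨m, hm1, hm2⟩ : ∃ m : ℕ, (τ * τ) ^ m ≠ 1 ∧ (τ * τ) ^ m * (τ * τ) ^ m = 1 := by
    classical
    have hex : ∃ n, (τ * τ) ^ 2 ^ n = 1 := by
      obtain ⟨n, hn⟩ := hβ
      refine ⟨n, ?_⟩
      have h1 : τ ^ 2 ^ n = 1 := by rw [hτ, ← map_pow, hn, map_one]
      rw [(Commute.refl τ).mul_pow, h1, one_mul]
    obtain ⟨n, hn, hmin⟩ : ∃ n, (τ * τ) ^ 2 ^ n = 1 ∧ ∀ j, (τ * τ) ^ 2 ^ j = 1 → n ≤ j :=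
      ⟨Nat.find hex, Nat.find_spec hex, fun j hj => Nat.find_min' hex hj⟩
    rcases n with _ | n
    · exact absurd (by simpa using hn) hρ
    · refine ⟨2 ^ n, ?_, ?_⟩
      · intro h
        have := hmin n h
        omega
      · rw [← pow_add, ← two_mul, ← pow_succ']
        exact hn
  obtain ⟨σ, hσ⟩ : ∃ σ, σ = (τ * τ) ^ m := ⟨_, rfl⟩
  rw [← hσ] at hm1 hm2
  obtain ⟨γ, hγ⟩ : ∃ γ, γ = β ^ m := ⟨_, rfl⟩
  have hγγ : γ * γ = Φ σ := by
    rw [hγ, hσ, map_pow, ← hsq, (Commute.refl β).mul_pow]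
  have hγS : ∀ s ∈ S, γ s = s := by
    intro s hs
    rw [hγ]
    clear hγ hσ hγγ
    induction m with
    | zero => rw [pow_zero, MulAut.one_apply]
    | succ k ih => rw [pow_succ, MulAut.mul_apply, hS s hs, ih]
  have hΦσ : Φ σ * Φ σ = 1 := by rw [← map_mul, hm2, map_one]
  have hfσ : R.fld (Φ σ) ≠ 1 := by rw [hfld]; exact hm1
  obtain ⟨h, K, H, h1⟩ := exists_fInv R hΦσ hfσ
  rw [hfld] at H h1
  apply not_le_sub H S
  intro s hs
  obtain ⟨x, rfl⟩ := R.surj s
  have h2 : R.lift (Φ σ) x = x := by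
    have h3 := hγS _ hs
    rw [R.lift_apply, R.π_eq_iff] at h3
    rw [← hγγ, map_mul, MulAut.mul_apply]
    rcases h3 with h3 | h3
    · rw [h3, h3]
    · rw [h3, R.aut_neg, h3, neg_neg]
  rw [h1, map_mul, map_mul, map_inv, R.lift_gl, R.lift_fa, MulAut.mul_apply, MulAut.mul_apply] at h2
  have h3 : fieldAut σ ((conjGL h)⁻¹ x) = (conjGL h)⁻¹ x := by
    nth_rw 2 [← h2]
    rw [MulAut.inv_apply_self]
  have h4 := mem_sub_of_fix H h3
  change R.π (conjGL h ((conjGL h)⁻¹ x)) ∈ _ at h4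
  rwa [MulAut.apply_inv_self] at h4

end main

end Cfsg.Agent.GH.L2AutField
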