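import Cfsg.Agent.GH.C2BranchOf
import Cfsg.Agent.LargeExtra.W2.MTwelve
import Cfsg.Agent.LargeExtra.W2.MinusEnd
import Cfsg.Agent.LargeExtra.W2.LFour.Main
import Cfsg.Agent.LargeExtra.W2.U43.Main
import Cfsg.Agent.GTwoThree.Main
import Cfsg.Agent.AltType.Recognize
import Cfsg.Agent.SmallExtra438.NineAGeo
import Cfsg.Agent.S1741

/-!
# GH: the branch GH-C2

`branchC2 : Branches.BranchC2`: a maximal nonsolvable 2-local `M` (`C2Frame.exists_maxLocal`), `5 ∣ |M|`
(`C2FiveMain.main`) or not (`C2SevenFin.main`); the output `Extra32` by the recognition theorems of S1759.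
-/

set_option autoImplicit false

open Cfsg Subgroup
open Cfsg.Agent.GH.Defs

namespace Cfsg.Agent.GH.BranchC2

universe u

open Cfsg.Agent.LargeExtra.W2 in
/-- the recognition theorems of S1759 for simple groups -/
theorem recogS {G : Type u} [Group G] [Finite G] [IsSimpleGroup G] (hnc : ¬ IsMulCommutative G) :
    C2Big.RecogS G where
  F1 Q z i j k l w s h := by
    rcases AltType.recognize hnc h with h1 | h1
    · exact Or.inr (Or.inr (Or.inr (Or.inl h1)))
    · exact Or.inr (Or.inr (Or.inr (Or.inr (Or.inl h1))))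
  F2 Q z i j k l v y h := Or.inr (Or.inr (Or.inr (Or.inr (Or.inr (Or.inl
    (MTwelve.recognize_of h fun S P h1 h2 => Cfsg.Agent.S1741.result S P h1 h2))))))
  a9 Q z i j k l x₁ x₂ s h := Or.inr (Or.inl (SmallExtra438.NineAGeo.recognize hnc h))
  c9 Q z i j k l x₁ x₂ y h := by
    obtain ⟨F, i1, i2, hF, h1⟩ := Cfsg.Agent.GTwoThree.recognize h
    exact Or.inr (Or.inr (Or.inl ⟨F, i1, i2, hF, Or.inr h1⟩))
  aa Q z i j k l x₁ x₂ y s h := by
    by_cases h1 : ∀ g : G, g * z * g⁻¹ ∈ Q → g * z * g⁻¹ = z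
    · obtain ⟨F, i1, i2, hF, h1⟩ := LFour.Main.recognize Q z i j k l x₁ x₂ y s h h1
      exact Or.inr (Or.inr (Or.inl ⟨F, i1, i2, hF, Or.inl h1⟩))
    · push Not at h1
      obtain ⟨g, hg, hne⟩ := h1
      have : Fact (Nat.Prime 3) := ⟨Nat.prime_three⟩
      have : Fintype (GaloisField 3 2) := Fintype.ofFinite _
      have hcard : Fintype.card (GaloisField 3 2) = 9 := by
        rw [← Nat.card_eq_fintype_card, GaloisField.card 3 2 (by norm_num)]; norm_num
      exact Or.inl ⟨GaloisField 3 2, inferInstance, inferInstance, hcard,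
        U43.Main.recog_aa_II h ⟨g, hg, hne⟩ _ hcard⟩
  minus Q z i j k l M := by
    rcases MinusEnd.isoJ2_or_isoJ3 hnc M with h | h
    · exact Or.inr (Or.inr (Or.inr (Or.inr (Or.inr (Or.inr (Or.inl h))))))
    · exact Or.inr (Or.inr (Or.inr (Or.inr (Or.inr (Or.inr (Or.inr h))))))

/-- **The branch GH-C2**. -/
theorem branchC2 : Branches.BranchC2.{u} := C2BranchOf.branchC2_of recogS

end Cfsg.Agent.GH.BranchC2
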