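import Cfsg.Agent.GH.FinalMain
import Cfsg.Agent.GH.FinalStmts
import Cfsg.Agent.GH.BranchC2
import Cfsg.Agent.LFour.ExtAll

/-!
# GH: the list `K4` of the simple groups of sectional 2-rank at most 4, without hypotheses

`k4` is literally `Omega.RankFourOf.PK4`.
-/

set_option autoImplicit false

open Cfsg

namespace Cfsg.Agent.GH.FinalKFour

universe u

/-- **The non-abelian simple groups of sectional 2-rank at most 4 are in the list `K4`.** -/
theorem k4 (G : Type u) [Group G] [Finite G] [IsSimpleGroup G] (hna : ¬ IsMulCommutative G)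
    (h4 : SectionalPRankLE 2 4 G) : Defs.K4 G :=
  FinalInputs.k4 (FinalStmts.stmts fun _ _ _ _ _ _ _ hF S P e => LFour.ExtAll.conclR hF S P e)
    (FinalMain.gh_of BranchC2.branchC2) G hna h4

end Cfsg.Agent.GH.FinalKFour
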