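import Cfsg.Agent.GH.Comp
import Cfsg.Agent.Intrinsic.Cen
import Cfsg.Agent.SmallSimple.EvenOrder
import Cfsg.Agent.Lib.FrattiniPGroup

/-!
# GH-L2: the world with odd centres

* nonabelian simple groups of even order have sectional 2-rank at least 2;
* `AllOdd G`, sectional 2-rank at most 4: the centralizer of an involution has at most one 2-component;
* pump-ups between commuting involutions `u`, `v`, when `v` fixes a 2-component of maximal order.
-/

set_option autoImplicit false

open Cfsg Subgroup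
open scoped commutatorElement
open Cfsg.Agent.SignalizersComponents Cfsg.Agent.Lib
open Cfsg.Agent.SignalizersComponents.IntrinsicBasic
open Cfsg.Agent.SignalizersComponents.PLayerAut
open Cfsg.Agent.Intrinsic.Basic Cfsg.Agent.Intrinsic.Cen
open Cfsg.Agent.GH.Defs Cfsg.Agent.GH.Rank Cfsg.Agent.GH.Comp

namespace Cfsg.Agent.GH.L2FourOC

/-! ### sectional rank one -/

/-- A finite 2-group of sectional rank at most one is cyclic. -/
theorem isCyclic_of_srank_le_one {S : Type*} [Group S] [Finite S] (hS : IsPGroup 2 S)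
    (h : srank 2 S ≤ 1) : IsCyclic S := by
  have : Fact (Nat.Prime 2) := ⟨Nat.prime_two⟩
  have h1 : SectionalPRankLE 2 1 S := (srank_le_iff (by norm_num)).1 h
  have h2 : PRankLE 2 1 (S ⧸ frattini S) := Rank.pRankLE (of_quotient h1 (frattini S))
  have hcomm : ∀ a b : S ⧸ frattini S, a * b = b * a := by
    intro a b
    obtain ⟨a, rfl⟩ := QuotientGroup.mk_surjective a
    obtain ⟨b, rfl⟩ := QuotientGroup.mk_surjective b
    have h3 := (QuotientGroup.eq_one_iff (N := frattini S) _).mpr
      (FrattiniPGroup.commutator_mem_frattini hS a b)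
    have h4 : ((⁅a, b⁆ : S) : S ⧸ frattini S) = (a : S ⧸ frattini S) * b *
      (a : S ⧸ frattini S)⁻¹ * (b : S ⧸ frattini S)⁻¹ := rfl
    rw [h4, mul_inv_eq_one, mul_inv_eq_iff_eq_mul] at h3
    exact h3
  have h5 : Nat.card (⊤ : Subgroup (S ⧸ frattini S)) ≤ 2 ^ 1 := by
    refine h2 ⊤ ⟨⟨fun a b => Subtype.ext (hcomm a b)⟩⟩ fun a _ => ?_
    obtain ⟨a, rfl⟩ := QuotientGroup.mk_surjective a
    exact (QuotientGroup.eq_one_iff (N := frattini S) _).mpr (FrattiniPGroup.pow_mem_frattini hS a)
  rw [Subgroup.card_top, pow_one] at h5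
  by_cases h6 : ∃ x : S, x ∉ frattini S
  · obtain ⟨x, hx⟩ := h6
    have h7 : zpowers x ⊔ frattini S = ⊤ := by
      rw [← Subgroup.comap_map_eq_self (f := QuotientGroup.mk' (frattini S))
        (H := zpowers x ⊔ frattini S) (by rw [QuotientGroup.ker_mk']; exact le_sup_right)]
      have h8 : (zpowers x ⊔ frattini S).map (QuotientGroup.mk' (frattini S)) = ⊤ := by
        apply Subgroup.eq_top_of_card_eq
        apply le_antisymm (Subgroup.card_le_card_group _)
        refine h5.trans ?_
        have h9 : (QuotientGroup.mk' (frattini S)) x ≠ 1 := fun h9 =>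
          hx ((QuotientGroup.eq_one_iff _).mp h9)
        have h10 : 1 < Nat.card ((zpowers x ⊔ frattini S).map
            (QuotientGroup.mk' (frattini S))) := by
          rw [Finite.one_lt_card_iff_nontrivial]
          refine ⟨⟨⟨_, mem_map_of_mem _ (le_sup_left (a := zpowers x) (mem_zpowers x))⟩, 1, ?_⟩⟩
          intro h11
          exact h9 (congrArg Subtype.val h11)
        omega
      rw [h8, comap_top]
    have h12 : zpowers x = ⊤ := frattini_nongenerating h7
    exact ⟨⟨x, fun y => by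
      have : y ∈ zpowers x := h12 ▸ mem_top y
      exact this⟩⟩
  · push Not at h6
    have h7 : frattini S = ⊤ := by rw [eq_top_iff]; exact fun x _ => h6 x
    have h8 : (⊥ : Subgroup S) = ⊤ := frattini_nongenerating (K := ⊥) (by rw [h7, sup_top_eq])
    have : Subsingleton S := Subgroup.subsingleton_iff.mp (subsingleton_of_bot_eq_top h8)
    infer_instance

/-- A nonabelian simple group of even order has sectional 2-rank at least 2. -/
theorem two_le_srank_of_simple {X : Type*} [Group X] [Finite X] (hs : IsSimpleGroup X)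
    (hn : ¬ IsMulCommutative X) (h2 : 2 ∣ Nat.card X) : 2 ≤ srank 2 X := by
  have : Fact (Nat.Prime 2) := ⟨Nat.prime_two⟩
  by_contra h
  let P : Sylow 2 X := default
  have h1 : srank 2 (P : Subgroup X) ≤ 1 := by
    have := srank_sylow P
    omega
  exact SmallSimple.EvenOrder.not_isCyclic_sylow_two hn h2 P
    (isCyclic_of_srank_le_one P.isPGroup' h1)

section comps

variable {G : Type*} [Group G] [Finite G]

theorem two_dvd_top {H K : Subgroup G} (hK : IsComp H K) (hodd : ¬ EvenCenter K) :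
    2 ∣ Nat.card (STop K) := by
  have h1 : Nat.card K = Nat.card (Bar K) * Nat.card (oddCore ↥K) :=
    Subgroup.card_eq_card_quotient_mul_card_subgroup _
  have h2 : Nat.card (Bar K) = Nat.card (STop K) * Nat.card (center (Bar K)) :=
    Subgroup.card_eq_card_quotient_mul_card_subgroup _
  have h3 : ¬ 2 ∣ Nat.card (oddCore ↥K) := by
    have h := Lib.Cores.pPrimeCore_coprime (G := K) 2
    intro h2
    have h3 := Nat.coprime_two_right.1 h
    exact (Nat.not_even_iff_odd.2 h3) (even_iff_two_dvd.2 h2)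
  have h4 : ¬ 2 ∣ Nat.card (center (Bar K)) := fun h => hodd (even_iff_two_dvd.2 h)
  have h5 := hK.even
  rw [h1, h2] at h5
  have hp := Nat.prime_two
  rcases (Nat.Prime.dvd_mul hp).1 h5 with h6 | h6
  · rcases (Nat.Prime.dvd_mul hp).1 h6 with h7 | h7
    · exact h7
    · exact absurd h7 h4
  · exact absurd h6 h3

/-- Odd centre: `2 ≤ r(K)`. -/
theorem two_le_srank {H K : Subgroup G} (hK : IsComp H K) (hodd : ¬ EvenCenter K) :
    2 ≤ srank 2 K := by
  rw [← srank_top hodd]
  exact two_le_srank_of_simple (top_simple hK) (top_nonComm hK) (two_dvd_top hK hodd)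

omit [Finite G] in
theorem center_card_odd {K : Subgroup G} (hodd : ¬ EvenCenter K) :
    Odd (Nat.card (center (Bar K))) := by
  rw [← Nat.not_even_iff_odd]; exact hodd

/-- Odd centre: `K / O(K)` has trivial centre. -/
theorem center_bar_eq_bot {K : Subgroup G} (hodd : ¬ EvenCenter K) : center (Bar K) = ⊥ := by
  have h1 : oddCore (Bar K) = ⊥ := Lib.Cores.pPrimeCore_quotient_pPrimeCore 2
  have h2 : center (Bar K) ≤ oddCore (Bar K) :=
    le_sSup (show center (Bar K) ∈ _ from ⟨inferInstance, by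
      exact Nat.coprime_two_right.2 (center_card_odd hodd)⟩)
  rw [h1] at h2
  exact le_bot_iff.mp h2

/-- Odd centre: `K / O(K)` is simple. -/
theorem bar_simple {H K : Subgroup G} (hK : IsComp H K) (hodd : ¬ EvenCenter K) :
    IsSimpleGroup (Bar K) := by
  have h1 := top_simple hK
  have h2 := center_bar_eq_bot hodd
  have e : STop K ≃* Bar K := (QuotientGroup.quotientMulEquivOfEq h2).trans
    (QuotientGroup.quotientBot (G := Bar K))
  exact isSimple_congr e h1

/-- The isomorphism `STop K ≃* Bar K` when the centre is odd. -/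
noncomputable def topEquiv {K : Subgroup G} (hodd : ¬ EvenCenter K) : STop K ≃* Bar K :=
  (QuotientGroup.quotientMulEquivOfEq (center_bar_eq_bot hodd)).trans
    (QuotientGroup.quotientBot (G := Bar K))

/-- At most one 2-component in the centralizer of an involution. -/
theorem comp_unique (h : Hyp G) (ho : AllOdd G) {x : G} {K M : Subgroup G} (hK : Comp2 x K)
    (hM : Comp2 x M) : K = M := by
  by_contra hne
  have hx : x ∈ centralizer ({x} : Set G) := mem_centralizer_singleton_iff.mpr rfl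
  have hfx : ∀ L : Subgroup G, Comp2 x L → zpowers x ≤ cenMod (centralizer ({x} : Set G)) L := by
    intro L hL
    rw [zpowers_le]
    exact (hL.comp.fixes_iff hx).mp (fixes_self hL.comp.le)
  let D : Subgroup G := M ⊔ zpowers x
  have hMD : M ≤ D := le_sup_left
  have hD : D ≤ centralizer ({x} : Set G) := sup_le hM.comp.le (by rwa [zpowers_le])
  have h1 : srank 2 K + srank 2 D ≤ srank 2 (centralizer ({x} : Set G)) := by
    refine srank_add_le hK.comp (ho x K hK) hD fun d hd => ?_
    rw [hK.comp.fixes_iff (hD hd)]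
    exact (sup_le (fun a ha => (hK.comp.fixes_iff (hM.comp.le ha)).mp
      (hK.comp.fixes_of_mem hM.comp hne ha)) (hfx K hK) : D ≤ _) hd
  have h2 : srank 2 M + srank 2 (zpowers x) ≤ srank 2 D := by
    refine srank_add_le (hM.comp.restrict hD hMD) (ho x M hM) le_sup_right fun d hd => ?_
    have hdC : d ∈ centralizer ({x} : Set G) := (zpowers_le.mpr hx) hd
    rw [hM.comp.fixes_iff hdC]
    exact hfx M hM hd
  rw [srank_zpowers hK.inv] at h2
  have h3 : srank 2 (centralizer ({x} : Set G)) ≤ 4 :=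
    (srank_subgroup_le (by norm_num) _).trans ((srank_le_iff (by norm_num)).2 h.rank4)
  have h4 := two_le_srank hK.comp (ho x K hK)
  have h5 := two_le_srank hM.comp (ho x M hM)
  omega

omit [Finite G] in
theorem Comp2.cj {x : G} {K : Subgroup G} (h : Comp2 x K) (g : G) :
    Comp2 (g * x * g⁻¹) (cj g K) := by
  refine ⟨?_, ?_⟩
  · have e : orderOf (MulAut.conj g x) = orderOf x := orderOf_injective (MulAut.conj g).toMonoidHom
      (MulAut.conj g).injective x
    rw [← h.inv, ← e]
    rfl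
  · rw [← cj_centralizer]
    exact h.comp.cj g

omit [Finite G] in
theorem Comp2.sq {x : G} {K : Subgroup G} (h : Comp2 x K) : x * x = 1 := by
  rw [← pow_two, ← h.inv, pow_orderOf_eq_one]

omit [Finite G] in
theorem Comp2.ne_one {x : G} {K : Subgroup G} (h : Comp2 x K) : x ≠ 1 := by
  rintro rfl
  have := h.inv
  simp at this

/-- The 2-component is normal in `C(x)`. -/
theorem centralizer_le_normalizer (h : Hyp G) (ho : AllOdd G) {x : G} {K : Subgroup G}
    (hK : Comp2 x K) : centralizer ({x} : Set G) ≤ normalizer (K : Set G) := by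
  intro g hg
  rw [mem_normalizer_iff_cj]
  have h1 := Comp2.cj hK g
  have h2 : g * x * g⁻¹ = x := by
    rw [mul_inv_eq_iff_eq_mul]
    exact mem_centralizer_singleton_iff.mp hg
  rw [h2] at h1
  exact comp_unique h ho h1 hK

/-- `K` is the 2-layer of `C(x)`. -/
theorem L2_eq (h : Hyp G) (ho : AllOdd G) {x : G} {K : Subgroup G} (hK : Comp2 x K) :
    L2 (centralizer ({x} : Set G)) = K := by
  apply le_antisymm _ hK.comp.le_L2
  rw [L2, Subgroup.map_le_iff_le_comap]
  refine sSup_le ?_
  intro M hM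
  have hM' : IsPComponent 2 M := hM
  have h1 : Comp2 x (M.map (centralizer ({x} : Set G)).subtype) := ⟨hK.inv, isComp_of_subtype hM'⟩
  have h2 := comp_unique h ho h1 hK
  rw [← Subgroup.map_le_iff_le_comap, h2]

omit [Finite G] in
/-- If the 2-layer of `C(x)` is not trivial then there is a 2-component. -/
theorem exists_comp2_of_L2_ne_bot {x : G} (hx : orderOf x = 2)
    (hL : L2 (centralizer ({x} : Set G)) ≠ ⊥) : ∃ K, Comp2 x K := by
  by_contra hcon
  apply hL
  rw [L2, eq_bot_iff, Subgroup.map_le_iff_le_comap]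
  refine sSup_le ?_
  intro M hM
  exact absurd ⟨_, hx, isComp_of_subtype hM⟩ hcon

/-! ### pump-ups -/

/-- Existence of the pump-up: `v` commutes with `x` and fixes `K`. -/
theorem exists_pump (h : Hyp G) (ho : AllOdd G) {x v : G} {K : Subgroup G} (hK : Comp2 x K)
    (hv : orderOf v = 2) (hvx : v * x = x * v) (hf : Fixes v K) :
    ∃ L, Comp2 v L ∧ cen K v ≤ L := by
  have hvv : v * v = 1 := by rw [← pow_two, ← hv, pow_orderOf_eq_one]
  have hvC : v ∈ centralizer ({x} : Set G) := mem_centralizer_singleton_iff.mpr hvx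
  have hxC : x ∈ centralizer ({v} : Set G) := mem_centralizer_singleton_iff.mpr hvx.symm
  have h1 := (isComp_cen hK.comp hvC hvv hf).1
  rw [inf_comm] at h1
  have h2 : cen K v ≤ L2 (centralizer ({v} : Set G)) := isComp_le_L2 hxC (Comp2.sq hK) h1
  have h3 : L2 (centralizer ({v} : Set G)) ≠ ⊥ := by
    intro h4
    rw [h4, le_bot_iff] at h2
    exact h1.ne_bot h2
  obtain ⟨L, hL⟩ := exists_comp2_of_L2_ne_bot hv h3
  exact ⟨L, hL, (L2_eq h ho hL) ▸ h2⟩

/-- The pump-up lies in the 2-component of `C(v)`. -/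
theorem cen_le_comp (h : Hyp G) (ho : AllOdd G) {x v : G} {K L : Subgroup G} (hK : Comp2 x K)
    (hL : Comp2 v L) (hvx : v * x = x * v) (hf : Fixes v K) : cen K v ≤ L := by
  obtain ⟨M, hM, h1⟩ := exists_pump h ho hK hL.inv hvx hf
  rwa [comp_unique h ho hM hL] at h1

/-- The natural map `J → L / O(L)` for `J ≤ L` has an image of order at least `|J / O(J)|`. -/
theorem card_bar_le {J L : Subgroup G} (hJ : J ≤ L) :
    Nat.card (Bar J) ≤ Nat.card (Bar L) ∧
      (Nat.card (Bar L) ≤ Nat.card (Bar J) → J ⊔ core L = L) := by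
  let f : J →* Bar L := (QuotientGroup.mk' (oddCore ↥L)).comp (inclusion hJ)
  have hker : f.ker ≤ oddCore ↥J := by
    refine le_sSup ⟨inferInstance, Nat.coprime_two_right.2 ?_⟩
    have h1 : f.ker.map J.subtype ≤ core L := by
      rintro _ ⟨j, hj, rfl⟩
      have h2 : f j = 1 := hj
      have h3 : (QuotientGroup.mk' (oddCore ↥L)) ⟨(j : G), hJ j.2⟩ = 1 := h2
      exact ⟨⟨(j : G), hJ j.2⟩, (QuotientGroup.eq_one_iff _).mp h3, rfl⟩
    have h4 : Nat.card f.ker = Nat.card (f.ker.map J.subtype) :=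
      (card_map_of_injective J.subtype_injective).symm
    rw [h4]
    exact (odd_card_core L).of_dvd_nat (card_dvd_of_le h1)
  have h1 : Nat.card (Bar J) ≤ Nat.card f.range := by
    have h2 : Nat.card f.range = f.ker.index := (Subgroup.index_ker f).symm
    have h3 : Nat.card (Bar J) = (oddCore ↥J).index := rfl
    rw [h2, h3]
    exact Nat.le_of_dvd (Nat.pos_of_ne_zero f.ker.index_ne_zero_of_finite)
      (Subgroup.index_dvd_of_le hker)
  have h2 : Nat.card f.range ≤ Nat.card (Bar L) := Subgroup.card_le_card_group _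
  refine ⟨h1.trans h2, fun h3 => ?_⟩
  have h4 : f.range = ⊤ := Subgroup.eq_top_of_card_eq _ (le_antisymm h2 (h3.trans h1))
  refine sup_of_exists hJ fun y hy => ?_
  have h5 : (QuotientGroup.mk' (oddCore ↥L)) ⟨y, hy⟩ ∈ f.range := h4 ▸ mem_top _
  obtain ⟨j, hj⟩ := h5
  refine ⟨j, j.2, ?_⟩
  have h6 : (QuotientGroup.mk' (oddCore ↥L)) (⟨(j : G), hJ j.2⟩⁻¹ * ⟨y, hy⟩) = 1 := by
    rw [map_mul, map_inv, ← hj]
    exact inv_mul_cancel _
  have h7 := (QuotientGroup.eq_one_iff _).mp h6
  exact ⟨_, h7, rfl⟩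

theorem card_bar_cen {x v : G} {K : Subgroup G} (hK : Comp2 x K) (hvv : v * v = 1)
    (hvx : v * x = x * v) (hf : Fixes v K) : Nat.card (Bar (cen K v)) = Nat.card (Bar K) := by
  obtain ⟨e, -⟩ := exists_quotEquiv (isComp_cen hK.comp
    (mem_centralizer_singleton_iff.mpr hvx) hvv hf).2
  exact Nat.card_congr e.toEquiv

/-- The isomorphism `K / O(K) ≃* L / O(L)` etc. come from a common subgroup `J`. -/
def Link (K L : Subgroup G) : Prop := ∃ J : Subgroup G, J ⊔ core K = K ∧ J ⊔ core L = L

omit [Finite G] in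
theorem Link.symm {K L : Subgroup G} (h : Link K L) : Link L K := by
  obtain ⟨J, h1, h2⟩ := h
  exact ⟨J, h2, h1⟩

theorem Link.equiv {K L : Subgroup G} (h : Link K L) : Nonempty (Bar K ≃* Bar L) := by
  obtain ⟨J, h1, h2⟩ := h
  obtain ⟨e, -⟩ := exists_quotEquiv h1
  obtain ⟨e', -⟩ := exists_quotEquiv h2
  exact ⟨e.symm.trans e'⟩

/-- Pump-up in the maximal case. -/
theorem pump_eq (h : Hyp G) (ho : AllOdd G) {x v : G} {K L : Subgroup G} (hK : Comp2 x K)
    (hL : Comp2 v L) (hvx : v * x = x * v) (hf : Fixes v K)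
    (hmax : Nat.card (Bar L) ≤ Nat.card (Bar K)) :
    cen K v ⊔ core L = L ∧ Fixes x L ∧ cen L x = cen K v ∧
      Nat.card (Bar L) = Nat.card (Bar K) := by
  have hvv := Comp2.sq hL
  have hxx := Comp2.sq hK
  have hvC : v ∈ centralizer ({x} : Set G) := mem_centralizer_singleton_iff.mpr hvx
  have hxC : x ∈ centralizer ({v} : Set G) := mem_centralizer_singleton_iff.mpr hvx.symm
  have h1 := isComp_cen hK.comp hvC hvv hf
  have h2 := cen_le_comp h ho hK hL hvx hf
  have h3 := card_bar_le h2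
  have h4 := card_bar_cen hK hvv hvx hf
  rw [h4] at h3
  have h5 : cen K v ⊔ core L = L := h3.2 hmax
  have h6 : Fixes x L := by
    have h7 : x ∈ normalizer (L : Set G) := centralizer_le_normalizer h ho hL hxC
    have h8 : ∀ y ∈ cen K v, x * y * x⁻¹ = y := by
      intro y hy
      rw [mul_inv_eq_iff_eq_mul]
      exact (mem_centralizer_singleton_iff.mp (hK.comp.le (cen_le K v hy))).symm
    rw [fixes_iff_conj]
    refine ⟨h7, fun y hy => ?_⟩
    obtain ⟨j, hj, hc⟩ := exists_mul_of_sup h5 hy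
    have h9 : y⁻¹ * (x * y * x⁻¹) =
        (j⁻¹ * y)⁻¹ * (x * (j⁻¹ * y) * x⁻¹) := by
      have h10 : x * (j⁻¹ * y) * x⁻¹ = (x * j * x⁻¹)⁻¹ * (x * y * x⁻¹) := by group
      rw [h10, h8 j hj]
      group
    rw [h9]
    exact mul_mem (inv_mem hc) (conj_mem_core h7 hc)
  refine ⟨h5, h6, ?_, le_antisymm hmax h3.1⟩
  have h7 := isComp_cen hL.comp hxC hxx h6
  have h8 : IsComp (centralizer ({x} : Set G) ⊓ centralizer ({v} : Set G)) (cen L x) := by
    rw [inf_comm]; exact h7.1
  refine (h1.1.eq_of_le h8 ?_).symm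
  rw [← h1.1.pElem_eq]
  exact PComponents.pElem_mono (le_inf h2 ((cen_le K v).trans hK.comp.le))

/-- `x` carries a 2-component of maximal order (mod core). -/
structure Max2 (x : G) (K : Subgroup G) : Prop where
  comp2 : Comp2 x K
  le : ∀ (y : G) (L : Subgroup G), Comp2 y L → Nat.card (Bar L) ≤ Nat.card (Bar K)

omit [Finite G] in
theorem Max2.of_card {x y : G} {K L : Subgroup G} (hK : Max2 x K) (hL : Comp2 y L)
    (hc : Nat.card (Bar L) = Nat.card (Bar K)) : Max2 y L :=
  ⟨hL, fun z M hM => by rw [hc]; exact hK.le z M hM⟩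

theorem exists_max2 {x : G} {K : Subgroup G} (hK : Comp2 x K) : ∃ y L, Max2 (G := G) y L := by
  classical
  let P : ℕ → Prop := fun n => ∃ (y : G) (L : Subgroup G), Comp2 y L ∧ Nat.card (Bar L) = n
  have hb : ∀ n, P n → n ≤ Nat.card G := by
    rintro n ⟨y, L, -, rfl⟩
    have h1 : Nat.card (Bar L) ≤ Nat.card L :=
      Nat.card_le_card_of_surjective _ (QuotientGroup.mk_surjective (s := oddCore ↥L))
    exact h1.trans (Subgroup.card_le_card_group _)
  have h0 : P (Nat.card (Bar K)) := ⟨x, K, hK, rfl⟩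
  obtain ⟨y, L, hL, hc⟩ := Nat.findGreatest_spec (hb _ h0) h0
  refine ⟨y, L, hL, fun z M hM => ?_⟩
  rw [hc]
  exact Nat.le_findGreatest (hb _ ⟨z, M, hM, rfl⟩) ⟨z, M, hM, rfl⟩

omit [Finite G] in
theorem card_bar_cj (g : G) (K : Subgroup G) : Nat.card (Bar (cj g K)) = Nat.card (Bar K) :=
  (Nat.card_congr (cjQuot g K).toEquiv).symm

omit [Finite G] in
theorem Max2.cj {x : G} {K : Subgroup G} (hK : Max2 x K) (g : G) :
    Max2 (g * x * g⁻¹) (cj g K) := hK.of_card (Comp2.cj hK.comp2 g) (card_bar_cj g K)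

/-- **Pump-up for maximal 2-components**: `v` commutes with `x` and fixes `K`.  Then `C(v)` has a
2-component `L`, again maximal, fixed by `x`, and `K`, `L` agree modulo cores. -/
theorem Max2.pump (h : Hyp G) (ho : AllOdd G) {x v : G} {K : Subgroup G} (hK : Max2 x K)
    (hv : orderOf v = 2) (hvx : v * x = x * v) (hf : Fixes v K) :
    ∃ L, Max2 v L ∧ Fixes x L ∧ cen L x = cen K v ∧ cen K v ⊔ core L = L ∧
      cen K v ⊔ core K = K := by
  obtain ⟨L, hL, -⟩ := exists_pump h ho hK.comp2 hv hvx hf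
  obtain ⟨h1, h2, h3, h4⟩ := pump_eq h ho hK.comp2 hL hvx hf (hK.le v L hL)
  exact ⟨L, hK.of_card hL h4, h2, h3, h1, (isComp_cen hK.comp2.comp
    (mem_centralizer_singleton_iff.mpr hvx) (Comp2.sq hL) hf).2⟩

/-- **Symmetry** of `v` fixes `K_x`. -/
theorem Max2.fixes_symm (h : Hyp G) (ho : AllOdd G) {x v : G} {K L : Subgroup G}
    (hK : Max2 x K) (hL : Comp2 v L) (hvx : v * x = x * v) (hf : Fixes v K) : Fixes x L :=
  (pump_eq h ho hK.comp2 hL hvx hf (hK.le v L hL)).2.1

theorem Max2.link (h : Hyp G) (ho : AllOdd G) {x v : G} {K L : Subgroup G}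
    (hK : Max2 x K) (hL : Comp2 v L) (hvx : v * x = x * v) (hf : Fixes v K) : Link K L :=
  ⟨cen K v, (isComp_cen hK.comp2.comp (mem_centralizer_singleton_iff.mpr hvx)
    (Comp2.sq hL) hf).2, (pump_eq h ho hK.comp2 hL hvx hf (hK.le v L hL)).1⟩

end comps

end Cfsg.Agent.GH.L2FourOC
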