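import Cfsg.Agent.GH.L2AutFix
import Cfsg.Agent.ClassicalGeometry.PSL2Basic

/-!
# Field type involutions of `Aut(L)`, `L ≅ PSL(2,F)`, and Sylow 2-subgroups of `L`
-/

set_option autoImplicit false

namespace Cfsg.Agent.GH.L2Aut

open Cfsg.Agent.Lib.SL2Mat Cfsg.Agent.Lib.AutSL2 Cfsg.Agent.Lib.AutSL2Out

section arith

/-- `2 i = Q (Q² + 1)` -/
theorem odd_of_two {Q i n : ℕ} (hQ : Odd Q) (hQ1 : 1 < Q)
    (h : i * (Q * (Q ^ 2 - 1)) * 2 = n) (hn : n = Q ^ 2 * ((Q ^ 2) ^ 2 - 1)) : ¬ 2 ∣ i := by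
  subst hn
  obtain ⟨a, rfl⟩ := hQ
  have h1 : (2 * a + 1) ^ 2 - 1 = 4 * a * (a + 1) := by
    have : (2 * a + 1) ^ 2 = 4 * a * (a + 1) + 1 := by ring
    rw [this, Nat.add_sub_cancel]
  have h2 : ((2 * a + 1) ^ 2) ^ 2 - 1 = 4 * a * (a + 1) * (4 * a * (a + 1) + 2) := by
    have : ((2 * a + 1) ^ 2) ^ 2 = 4 * a * (a + 1) * (4 * a * (a + 1) + 2) + 1 := by ring
    rw [this, Nat.add_sub_cancel]
  rw [h1, h2] at h
  have hpos : 0 < (2 * a + 1) * (4 * a * (a + 1)) * 2 := by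
    have : 0 < a := by omega
    positivity
  have h3 : i * ((2 * a + 1) * (4 * a * (a + 1)) * 2) =
      ((2 * a + 1) * (2 * a * (a + 1) + 1)) * ((2 * a + 1) * (4 * a * (a + 1)) * 2) := by
    rw [← mul_assoc, h]; ring
  have h4 := Nat.eq_of_mul_eq_mul_right hpos h3
  rw [h4, Nat.prime_two.dvd_mul]
  rintro (h5 | h5)
  · omega
  · have : 2 * a * (a + 1) + 1 = 2 * (a * (a + 1)) + 1 := by ring
    rw [this] at h5
    omega

/-- `2 i (Q (Q² - 1)) = Q^m (Q^(2m) - 1)`, `4 ∣ m` -/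
theorem even_of_four {Q i m : ℕ} (hQ : Odd Q) (hQ1 : 1 < Q) (hm : 4 ∣ m)
    (h : i * (Q * (Q ^ 2 - 1)) * 2 = Q ^ m * ((Q ^ m) ^ 2 - 1)) : 2 ∣ i := by
  obtain ⟨n, rfl⟩ := hm
  have h8 : (Q ^ (4 * n)) ^ 2 - 1 = (Q ^ 8) ^ n - 1 := by
    rw [← pow_mul, ← pow_mul]; congr 2; ring
  obtain ⟨t, ht⟩ : Q ^ 8 - 1 ∣ (Q ^ 8) ^ n - 1 := by
    have := Nat.sub_dvd_pow_sub_pow (Q ^ 8) 1 n
    rwa [one_pow] at this
  have h81 : Q ^ 8 - 1 = (Q ^ 2 - 1) * ((Q ^ 2 + 1) * (Q ^ 4 + 1)) := by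
    obtain ⟨b, hb⟩ : ∃ b, Q ^ 2 = b + 1 := ⟨Q ^ 2 - 1, by
      have : 0 < Q ^ 2 := by positivity
      omega⟩
    have h9 : Q ^ 8 = (b + 1) ^ 4 := by rw [← hb, ← pow_mul]
    have h10 : Q ^ 4 = (b + 1) ^ 2 := by rw [← hb, ← pow_mul]
    rw [h9, h10, hb, Nat.add_sub_cancel]
    have : (b + 1) ^ 4 = b * ((b + 1 + 1) * ((b + 1) ^ 2 + 1)) + 1 := by ring
    rw [this, Nat.add_sub_cancel]
  rw [h8, ht, h81] at h
  have hQ2 : 0 < Q ^ 2 - 1 := by
    have : 1 < Q ^ 2 := Nat.one_lt_pow two_ne_zero hQ1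
    omega
  have h11 : (i * Q * 2) * (Q ^ 2 - 1) = (Q ^ (4 * n) * ((Q ^ 2 + 1) * (Q ^ 4 + 1)) * t) * (Q ^ 2 - 1) := by
    calc (i * Q * 2) * (Q ^ 2 - 1) = i * (Q * (Q ^ 2 - 1)) * 2 := by ring
      _ = _ := by rw [h]; ring
  have h12 := Nat.eq_of_mul_eq_mul_right hQ2 h11
  have h13 : 4 ∣ i * Q * 2 := by
    rw [h12]
    have e1 : 2 ∣ Q ^ 2 + 1 := (hQ.pow.add_odd odd_one).two_dvd
    have e2 : 2 ∣ Q ^ 4 + 1 := (hQ.pow.add_odd odd_one).two_dvd
    have e3 : 4 ∣ (Q ^ 2 + 1) * (Q ^ 4 + 1) := mul_dvd_mul e1 e2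
    exact Dvd.dvd.mul_right (Dvd.dvd.mul_left e3 _) _
  have h14 : 2 ∣ i * Q := by
    obtain ⟨u, hu⟩ := h13
    exact ⟨u, by omega⟩
  rcases (Nat.prime_two.dvd_mul).1 h14 with h15 | h15
  · exact h15
  · exact absurd h15 (Nat.not_even_iff_odd.2 hQ ∘ even_iff_two_dvd.2)

end arith

namespace Rep

variable {F : Type*} [Field F] {L : Type*} [Group L] (R : Rep F L) [Finite F]

local notation "SL2" => Matrix.SpecialLinearGroup (Fin 2) F
local notation "M2" => Matrix (Fin 2) (Fin 2) F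

include R in
theorem card_mul_two : Nat.card L * 2 = Nat.card F * (Nat.card F ^ 2 - 1) := by
  have := Fintype.ofFinite F
  have h1 := Cfsg.Agent.ClassicalGeometry.PSL2Basic.card_SL2 (F := F)
  rw [← Nat.card_eq_fintype_card] at h1
  have h2 := Subgroup.card_eq_card_quotient_mul_card_subgroup R.π.ker
  have h3 : Nat.card (SL2 ⧸ R.π.ker) = Nat.card L :=
    Nat.card_congr (QuotientGroup.quotientKerEquivOfSurjective R.π R.surj).toEquiv
  have h4 : Nat.card R.π.ker = 2 := by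
    rw [Nat.card_eq_two_iff]
    refine ⟨1, ⟨-1, (R.ker _).2 (Or.inr rfl)⟩, ?_, ?_⟩
    · intro h
      exact R.neg_one_ne_one (congrArg Subtype.val h).symm
    · rw [Set.eq_univ_iff_forall]
      rintro ⟨x, hx⟩
      rcases (R.ker x).1 hx with rfl | rfl
      · exact Or.inl rfl
      · exact Or.inr rfl
  rw [← h1, h2, h3, h4]

theorem card_fix {K : Subfield F} {σ : F ≃+* F} (hm : Even (orderOf σ))
    (hK : ∀ a, a ∈ K ↔ σ a = a) (hcard : Nat.card F = Nat.card K ^ orderOf σ) :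
    Nat.card (fixSub (R.fa σ)) = Nat.card K * (Nat.card K ^ 2 - 1) := by
  obtain ⟨w, hw, hws, hcov⟩ := R.exists_outer hm hK hcard
  have h1 : (R.sub K).relIndex (fixSub (R.fa σ)) = 2 := by
    rw [Subgroup.relIndex, Subgroup.index_eq_two_iff]
    refine ⟨⟨w, hw⟩, ?_⟩
    rintro ⟨x, hx⟩
    rw [Subgroup.mem_subgroupOf, Subgroup.mem_subgroupOf]
    change Xor (x * w ∈ R.sub K) (x ∈ R.sub K)
    by_cases hxs : x ∈ R.sub K
    · right
      exact ⟨hxs, fun h => hws ((Subgroup.mul_mem_cancel_left _ hxs).1 h)⟩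
    · left
      refine ⟨?_, hxs⟩
      have h2 : x⁻¹ ∉ R.sub K := fun h => hxs (inv_mem_iff.1 h)
      have h3 := hcov w hw hws
      have h4 := hcov x⁻¹ (inv_mem hx) h2
      have h5 := mul_mem (inv_mem h4) h3
      have h6 : (w * x⁻¹)⁻¹ * (w * w) = x * w := by group
      rwa [h6] at h5
  have h2 := Subgroup.card_mul_index ((R.sub K).subgroupOf (fixSub (R.fa σ)))
  have h3 : Nat.card ((R.sub K).subgroupOf (fixSub (R.fa σ))) = Nat.card (R.sub K) :=
    Nat.card_congr (Subgroup.subgroupOfEquivOfLe (R.sub_le_fix hK)).toEquiv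
  rw [Subgroup.relIndex] at h1
  rw [h3, h1, (R.subRep K).card_mul_two] at h2
  exact h2.symm

theorem one_lt_card' : 1 < Nat.card F := Finite.one_lt_card

/-- index of the fixed points -/
theorem index_fix {K : Subfield F} {σ : F ≃+* F} (hm : Even (orderOf σ))
    (hK : ∀ a, a ∈ K ↔ σ a = a) (hcard : Nat.card F = Nat.card K ^ orderOf σ) :
    (fixSub (R.fa σ)).index * (Nat.card K * (Nat.card K ^ 2 - 1)) * 2 =
      Nat.card F * (Nat.card F ^ 2 - 1) := by
  rw [← R.card_fix hm hK hcard, mul_comm (fixSub (R.fa σ)).index, Subgroup.card_mul_index,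
    R.card_mul_two]

/-- the centralizer of an involutory field automorphism has odd index -/
theorem odd_index {σ : F ≃+* F} (hσ : orderOf σ = 2) : ¬ 2 ∣ (fixSub (R.fa σ)).index := by
  obtain ⟨K, hK, hcard⟩ := exists_fixed_field σ
  have h := R.index_fix (by rw [hσ]; exact even_two) hK hcard
  rw [hσ] at hcard
  exact odd_of_two (odd_card (two_sub R.two K)) one_lt_card' h (by rw [hcard])

/-- the centralizer of a field automorphism of order divisible by four has even index -/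
theorem even_index {σ : F ≃+* F} (hσ : 4 ∣ orderOf σ) : 2 ∣ (fixSub (R.fa σ)).index := by
  obtain ⟨K, hK, hcard⟩ := exists_fixed_field σ
  have h := R.index_fix (even_iff_two_dvd.2 (dvd_trans (by norm_num) hσ)) hK hcard
  rw [hcard] at h
  exact even_of_four (odd_card (two_sub R.two K)) one_lt_card' hσ h

theorem fld_order_two {α : MulAut L} (h1 : α ∉ R.PGL) (h2 : α * α = 1) : orderOf (R.fld α) = 2 := by
  have h3 : R.fld α ≠ 1 := fun h => h1 (R.mem_PGL_iff_fld.2 h)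
  exact orderOf_eq_prime (by rw [sq, ← map_mul, h2, map_one]) h3

/-- **field type involutions** : another representation in which `α` is a field automorphism -/
theorem ftype_rep {α : MulAut L} (h1 : α ∉ R.PGL) (h2 : α * α = 1) :
    ∃ R' : Rep F L, R'.PGL = R.PGL ∧ R'.fld = R.fld ∧ α = R'.fa (R.fld α) ∧ orderOf (R.fld α) = 2 := by
  have h3 := R.fld_order_two h1 h2
  obtain ⟨R', ha, hb, hc⟩ := R.exists_rep α (by rw [h3, sq, h2])
  exact ⟨R', ha, hb, hc, h3⟩

theorem ftype_index {α : MulAut L} (h1 : α ∉ R.PGL) (h2 : α * α = 1) : ¬ 2 ∣ (fixSub α).index := by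
  obtain ⟨R', ha, hb, hc, hd⟩ := R.ftype_rep h1 h2
  rw [hc]
  exact R'.odd_index hd

include R in
theorem exists_syl_of_index {α : MulAut L} (h : ¬ 2 ∣ (fixSub α).index) :
    ∃ S : Sylow 2 L, ∀ s ∈ S, α s = s := by
  have := R.finite
  obtain ⟨S, hS⟩ : ∃ S : Sylow 2 L, (S : Subgroup L) ≤ fixSub α := by
    obtain ⟨Q⟩ : Nonempty (Sylow 2 (fixSub α)) := inferInstance
    have h1 : IsPGroup 2 ((Q : Subgroup (fixSub α)).map (fixSub α).subtype) := Q.2.map _
    have h2 : ¬ 2 ∣ ((Q : Subgroup (fixSub α)).map (fixSub α).subtype).index := by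
      rw [Subgroup.index_map_subtype]
      intro h3
      rcases Nat.prime_two.dvd_mul.1 h3 with h4 | h4
      · exact Q.not_dvd_index h4
      · exact h h4
    refine ⟨h1.toSylow h2, ?_⟩
    rintro x ⟨y, -, rfl⟩
    exact y.2
  exact ⟨S, fun s hs => hS hs⟩

/-- a field type involution centralizes a Sylow 2-subgroup of `L` -/
theorem ftype_syl {α : MulAut L} (h1 : α ∉ R.PGL) (h2 : α * α = 1) :
    ∃ S : Sylow 2 L, ∀ s ∈ S, α s = s :=
  R.exists_syl_of_index (R.ftype_index h1 h2)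

include R in
/-- a 2-element of `Aut(L)` centralizing a Sylow 2-subgroup of `L` has order at most two -/
theorem cent_syl (S : Sylow 2 L) {α : MulAut L} (h1 : ∃ n, α ^ 2 ^ n = 1) (h2 : ∀ s ∈ S, α s = s) :
    α * α = 1 := by
  have := R.finite
  have := finite_ringEquiv (F := F)
  obtain ⟨a, b, ha, hb, hab⟩ := R.exists_four_mem S
  by_cases hα : α ∈ R.PGL
  · rcases R.fix_four hab hα (h2 a ha) (h2 b hb) with h | h | h | h
    · rw [h, mul_one]
    · rw [h, ← map_mul, hab.aa, map_one]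
    · rw [h, ← map_mul, hab.bb, map_one]
    · rw [h, ← map_mul, hab.right.bb, map_one]
  · obtain ⟨Φ, y, δ, hΦ, hΦa, hΦb, -, -, -, -, -, -, -, -, -, -, hcov, -⟩ := R.exists_frame hab
    obtain ⟨u, hu, hα'⟩ := hcov α (h2 a ha) (h2 b hb)
    have huu : u * u = 1 := by
      rcases hu with rfl | rfl | rfl | rfl
      · exact one_mul 1
      · exact hab.aa
      · exact hab.bb
      · exact hab.right.bb
    have hΦu : ∀ σ, Φ σ u = u := by
      intro σ
      rcases hu with rfl | rfl | rfl | rfl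
      · exact map_one _
      · exact hΦa σ
      · exact hΦb σ
      · rw [map_mul, hΦa, hΦb]
    have hcomm : Commute (MulAut.conj u) (Φ (R.fld α)) := by
      have h3 := conj_conj (Φ (R.fld α)) u
      rw [hΦu, mul_inv_eq_iff_eq_mul] at h3
      exact h3.symm
    -- the order of the field automorphism
    obtain ⟨n, hn⟩ := h1
    have h3 : R.fld α ^ 2 ^ n = 1 := by rw [← map_pow, hn, map_one]
    have h4 : R.fld α ≠ 1 := fun h => hα (R.mem_PGL_iff_fld.2 h)
    obtain ⟨k, hk, hk'⟩ := (Nat.dvd_prime_pow Nat.prime_two).1 (orderOf_dvd_of_pow_eq_one h3)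
    have hk0 : k ≠ 0 := by
      rintro rfl
      rw [pow_zero, orderOf_eq_one_iff] at hk'
      exact h4 hk'
    obtain ⟨j, rfl⟩ := Nat.exists_eq_succ_of_ne_zero hk0
    have hpow : α ^ orderOf (R.fld α) = 1 := by
      rw [hk']
      have h5 : α ^ 2 ^ (j + 1) = MulAut.conj u ^ 2 ^ (j + 1) * Φ (R.fld α) ^ 2 ^ (j + 1) := by
        nth_rw 1 [hα']
        exact hcomm.mul_pow _
      rw [h5, ← map_pow, ← map_pow, ← hk', pow_orderOf_eq_one, map_one, mul_one, hk', pow_succ', pow_mul,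
        sq, huu, one_pow, map_one]
    rcases j with _ | j
    · rw [hk'] at hpow
      have h5 : α ^ 2 = 1 := by simpa using hpow
      rwa [sq] at h5
    · exfalso
      obtain ⟨R', hR1, hR2, hR3⟩ := R.exists_rep α hpow
      have h5 : 4 ∣ orderOf (R.fld α) := by
        rw [hk']
        exact ⟨2 ^ j, by rw [pow_succ, pow_succ]; ring⟩
      have h6 := R'.even_index h5
      rw [← hR3] at h6
      have h7 : (S : Subgroup L) ≤ fixSub α := fun s hs => h2 s hs
      exact S.not_dvd_index (dvd_trans h6 (Subgroup.index_dvd_of_le h7))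

include R in
/-- `N_L(S) = S` if `|S| ≥ 8` -/
theorem norm_syl (S : Sylow 2 L) {d r : L} (hd : Dih (S : Subgroup L) d r) (hdd : d * d ≠ 1) {x : L}
    (hx : ∀ s ∈ S, x * s * x⁻¹ ∈ S) : x ∈ S := by
  have := R.finite
  obtain ⟨n, hn, hzz, hz1⟩ := hd.exists_z S.2
  obtain ⟨z, hz⟩ : ∃ z, z = d ^ 2 ^ n := ⟨_, rfl⟩
  rw [← hz] at hzz hz1
  have hinv : z⁻¹ = z := inv_eq_of_mul_eq_one_left hzz
  have hrz : r * z = z * r := by
    have := hd.r_pow' ((2 ^ n : ℕ) : ℤ)
    rw [zpow_natCast, zpow_neg, zpow_natCast, ← hz, hinv] at this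
    exact this
  have hdz : d * z = z * d := by rw [hz]; exact (Commute.refl d).pow_right _
  have hSz : ∀ s ∈ S, s * z = z * s := by
    intro s hs
    have hcd : ∀ k : ℤ, d ^ k * z = z * d ^ k := fun k => ((show Commute d z from hdz).zpow_left k)
    rcases hd.cov s hs with h | ⟨k, rfl⟩
    · obtain ⟨k, rfl⟩ := Subgroup.mem_zpowers_iff.1 h
      exact hcd k
    · rw [mul_assoc, hrz, ← mul_assoc, hcd, mul_assoc]
  -- `z` is the only central involution of `S`
  have huniq : ∀ u ∈ S, (∀ s ∈ S, s * u = u * s) → u * u = 1 → u ≠ 1 → u = z := by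
    intro u hu hc huu hu1
    rcases hd.cov u hu with h | ⟨k, rfl⟩
    · by_contra hne
      exact four_not_cyc (c := d) (a := u) (b := z) { aa := huu, bb := hzz, a1 := hu1, b1 := hz1, ne := hne, comm := hSz u hu } h (by rw [hz]; exact pow_mem (Subgroup.mem_zpowers d) _)
    · exfalso
      have h1 := hc d hd.d_mem
      have h2 := hd.pow_r_conj k 1
      rw [zpow_one, ← h1, mul_inv_cancel_right, zpow_neg, zpow_one] at h2
      apply hdd
      nth_rw 1 [h2]
      exact inv_mul_cancel d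
  have hzS : z ∈ S := by rw [hz]; exact pow_mem hd.d_mem _
  have hxz : x * z = z * x := by
    have hx' : ∀ s ∈ S, ∃ t ∈ S, x * t * x⁻¹ = s := by
      have h3 : (S : Subgroup L).map (MulAut.conj x).toMonoidHom = S := by
        apply Subgroup.eq_of_le_of_card_ge
        · rintro _ ⟨s, hs, rfl⟩
          exact hx s hs
        · exact (Nat.card_congr ((S : Subgroup L).equivMapOfInjective (MulAut.conj x).toMonoidHom
            (MulAut.conj x).injective).toEquiv).le
      intro s hs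
      have h4 : s ∈ (S : Subgroup L).map (MulAut.conj x).toMonoidHom := by rw [h3]; exact hs
      obtain ⟨t, ht, hts⟩ := h4
      exact ⟨t, ht, hts⟩
    have h1 : x * z * x⁻¹ = z := by
      apply huniq _ (hx z hzS)
      · intro s hs
        obtain ⟨t, ht, rfl⟩ := hx' s hs
        have h5 : x * t * x⁻¹ * (x * z * x⁻¹) = x * (t * z) * x⁻¹ := by group
        have h6 : x * z * x⁻¹ * (x * t * x⁻¹) = x * (z * t) * x⁻¹ := by group
        rw [h5, h6, hSz t ht]
      · have h5 : x * z * x⁻¹ * (x * z * x⁻¹) = x * (z * z) * x⁻¹ := by group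
        rw [h5, hzz, mul_one, mul_inv_cancel]
      · intro h5
        apply hz1
        rw [mul_inv_eq_one] at h5
        exact mul_eq_left.1 h5
    rwa [mul_inv_eq_iff_eq_mul] at h1
  obtain ⟨B, hzB, hBc, hBu, hBcov⟩ := R.inner_cent hzz hz1
  have hdB : d ∈ B := (hBcov d hdz).resolve_right (fun h => hdd h.1)
  have hrB : r ∉ B := by
    intro h
    have h1 := hd.rd
    rw [hBc r h d hdB, mul_inv_cancel_right] at h1
    apply hdd
    nth_rw 1 [h1]
    exact inv_mul_cancel d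
  have hrinv := ((hBcov r hrz).resolve_left hrB).2
  apply mem_syl_of_norm S _ hx
  rcases hBcov x hxz with h | h
  · -- `x² ∈ S`
    have h1 : x * r * x⁻¹ ∈ S := hx r hd.r_mem
    have h2 : x * r * x⁻¹ * r⁻¹ = x * x := by
      have h3 := hrinv x⁻¹ (inv_mem h)
      rw [inv_inv] at h3
      calc x * r * x⁻¹ * r⁻¹ = x * (r * x⁻¹ * r⁻¹) := by group
        _ = x * x := by rw [h3]
    have h3 : x * x ∈ S := by
      rw [← h2]
      exact mul_mem h1 (inv_mem (show r ∈ (S : Subgroup L) from hd.r_mem))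
    obtain ⟨m, hm⟩ := exists_pow_of_mem S.2 h3
    refine ⟨m + 1, ?_⟩
    rw [pow_succ', pow_mul, sq, hm]
  · exact ⟨1, by rw [pow_one, sq, h.1]⟩

theorem ftype_dd {α : MulAut L} (h1 : α ∉ R.PGL) (h2 : α * α = 1) (S : Sylow 2 L) {d r : L}
    (hd : Dih (S : Subgroup L) d r) : d * d ≠ 1 := by
  have := R.finite
  have h3 := R.fld_order_two h1 h2
  obtain ⟨K, hK, hcard⟩ := exists_fixed_field (R.fld α)
  rw [h3] at hcard
  -- `8 ∣ |L|`
  have h8 : 8 ∣ Nat.card L := by
    have h4 := R.card_mul_two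
    rw [hcard] at h4
    obtain ⟨a, ha⟩ := odd_card (two_sub R.two K)
    have h5 : (Nat.card K ^ 2) ^ 2 - 1 = 8 * (a * (a + 1)) * (2 * (a * (a + 1)) + 1) := by
      rw [ha]
      have : ((2 * a + 1) ^ 2) ^ 2 = 8 * (a * (a + 1)) * (2 * (a * (a + 1)) + 1) + 1 := by ring
      rw [this, Nat.add_sub_cancel]
    obtain ⟨b, hb⟩ := (Nat.even_mul_succ_self a).two_dvd
    have hb' : a * (a + 1) = 2 * b := hb
    rw [h5, hb'] at h4
    have h6 : Nat.card L * 2 = (8 * (Nat.card K ^ 2 * b * (2 * (2 * b) + 1))) * 2 := by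
      rw [h4]; ring
    exact ⟨_, Nat.eq_of_mul_eq_mul_right (by norm_num) h6⟩
  have h9 : 8 ∣ Nat.card S := by
    have := (S : Subgroup L).card_mul_index
    have h10 := S.not_dvd_index
    have h11 : Nat.Coprime 8 (S : Subgroup L).index := by
      rw [show 8 = 2 ^ 3 by norm_num]
      exact Nat.Coprime.pow_left 3 ((Nat.Prime.coprime_iff_not_dvd Nat.prime_two).2 h10)
    rw [← this] at h8
    exact h11.dvd_of_dvd_mul_right h8
  have h10 : Nat.card (S : Subgroup L) = 2 * orderOf d := hd.card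
  have h11 : 8 ∣ 2 * orderOf d := by rw [← h10]; exact h9
  intro hdd
  have h12 : orderOf d ∣ 2 := orderOf_dvd_of_pow_eq_one (by rw [sq, hdd])
  have h13 := Nat.le_of_dvd (by norm_num) h12
  have h14 := orderOf_pos d
  have h15 := Nat.le_of_dvd (by omega) h11
  omega

end Rep

end Cfsg.Agent.GH.L2Aut
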