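import Cfsg.Agent.GH.L2AutPGL

/-!
# Sylow 2-subgroups of `L ≅ PSL(2,F)` and automorphisms in `PGL` normalizing them

* `Rep.exists_dih` : a Sylow 2-subgroup `S` of `L` is dihedral (or a four-group);
* `Rep.inv_conj` : all involutions of `L` are conjugate;
* `Rep.dih_plus` : a 2-group `conj S ≤ P ≤ PGL`, `P` not inner, is dihedral, `S` its dihedral subgroup;
* `Rep.dtype_frame` : an involution `φ ∈ PGL ∖ Inn` normalizing `S` : `φ d = d⁻¹`, `φ r = d r`;
* `Rep.dtype_conj` : all involutions of `PGL ∖ Inn` are conjugate under `L`.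
-/

set_option autoImplicit false

namespace Cfsg.Agent.GH.L2Aut

section gp

variable {G : Type*} [Group G]

/-- the four-group generated by two commuting involutions -/
def Four.sub {a b : G} (h : Four a b) : Subgroup G where
  carrier := {x | x = 1 ∨ x = a ∨ x = b ∨ x = a * b}
  one_mem' := Or.inl rfl
  mul_mem' := by
    have hba : b * a = a * b := h.comm.symm
    have h1 : a * (a * b) = b := by rw [← mul_assoc, h.aa, one_mul]
    have h2 : b * (a * b) = a := by rw [h.comm, ← mul_assoc, h.bb, one_mul]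
    have h3 : a * b * a = b := by rw [h.comm, mul_assoc, h.aa, mul_one]
    have h4 : a * b * b = a := by rw [mul_assoc, h.bb, mul_one]
    have h5 : a * b * (a * b) = 1 := by rw [mul_assoc, h2, h.aa]
    rintro x y (rfl | rfl | rfl | rfl) (rfl | rfl | rfl | rfl) <;>
      simp only [Set.mem_ofPred_eq, one_mul, mul_one, h.aa, h.bb, hba, h1, h2, h3, h4, h5, true_or,
        or_true]
  inv_mem' := by
    have ha : a⁻¹ = a := inv_eq_of_mul_eq_one_left h.aa
    have hb : b⁻¹ = b := inv_eq_of_mul_eq_one_left h.bb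
    rintro x (rfl | rfl | rfl | rfl)
    · left; exact inv_one
    · right; left; exact ha
    · right; right; left; exact hb
    · right; right; right
      rw [mul_inv_rev, ha, hb, h.comm]

theorem Four.sub_two {a b : G} (h : Four a b) : IsPGroup 2 h.sub := by
  rintro ⟨x, hx⟩
  refine ⟨1, Subtype.ext ?_⟩
  change x ^ 2 ^ 1 = 1
  rw [pow_one, sq]
  rcases hx with rfl | rfl | rfl | rfl
  · exact one_mul 1
  · exact h.aa
  · exact h.bb
  · exact h.right.bb

/-- a cyclic group contains at most one involution -/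
theorem four_not_cyc [Finite G] {a b c : G} (h : Four a b) (ha : a ∈ Subgroup.zpowers c)
    (hb : b ∈ Subgroup.zpowers c) : False := by
  classical
  obtain ⟨i, rfl⟩ := Subgroup.mem_zpowers_iff.1 ha
  obtain ⟨j, rfl⟩ := Subgroup.mem_zpowers_iff.1 hb
  have h1 : (orderOf c : ℤ) ∣ i + i := by
    rw [orderOf_dvd_iff_zpow_eq_one, zpow_add]; exact h.aa
  have h2 : (orderOf c : ℤ) ∣ j + j := by
    rw [orderOf_dvd_iff_zpow_eq_one, zpow_add]; exact h.bb
  have h3 : ¬ (orderOf c : ℤ) ∣ i := by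
    rw [orderOf_dvd_iff_zpow_eq_one]; exact h.a1
  have h4 : ¬ (orderOf c : ℤ) ∣ j := by
    rw [orderOf_dvd_iff_zpow_eq_one]; exact h.b1
  apply h.ne
  obtain ⟨u, hu⟩ := h1
  obtain ⟨v, hv⟩ := h2
  have hpos : (orderOf c : ℤ) ≠ 0 := by
    have := orderOf_pos c
    omega
  have hu1 : u % 2 = 1 := by
    rcases Int.emod_two_eq_zero_or_one u with h5 | h5
    · exfalso
      apply h3
      refine ⟨u / 2, ?_⟩
      have h6 : u = 2 * (u / 2) := by omega
      rw [h6] at hu
      linarith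
    · exact h5
  have hv1 : v % 2 = 1 := by
    rcases Int.emod_two_eq_zero_or_one v with h5 | h5
    · exfalso
      apply h4
      refine ⟨v / 2, ?_⟩
      have h6 : v = 2 * (v / 2) := by omega
      rw [h6] at hv
      linarith
    · exact h5
  have h5 : i - j = (orderOf c : ℤ) * ((u - v) / 2) := by
    have h6 : u - v = 2 * ((u - v) / 2) := by omega
    have h7 : 2 * (i - j) = (orderOf c : ℤ) * (2 * ((u - v) / 2)) := by
      rw [← h6]; linarith
    linarith
  have h6 : c ^ (i - j) = 1 := by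
    rw [← orderOf_dvd_iff_zpow_eq_one]; exact ⟨_, h5⟩
  rwa [zpow_sub, mul_inv_eq_one] at h6

/-- 2-elements normalizing a Sylow 2-subgroup lie in it -/
theorem mem_syl_of_norm [Finite G] (S : Sylow 2 G) {x : G} (hx : ∃ n, x ^ 2 ^ n = 1)
    (hn : ∀ s ∈ S, x * s * x⁻¹ ∈ S) : x ∈ S := by
  have h1 : IsPGroup 2 (Subgroup.zpowers x) := by
    obtain ⟨n, hn⟩ := hx
    rintro ⟨y, hy⟩
    obtain ⟨k, rfl⟩ := Subgroup.mem_zpowers_iff.1 hy
    refine ⟨n, Subtype.ext ?_⟩
    change (x ^ k) ^ 2 ^ n = 1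
    rw [← zpow_natCast, ← zpow_mul, mul_comm, zpow_mul, zpow_natCast, hn, one_zpow]
  have h2 : Subgroup.zpowers x ≤ Subgroup.normalizer ((S : Subgroup G) : Set G) := by
    rw [Subgroup.zpowers_le, Subgroup.mem_normalizer_iff]
    have h3 : (S : Subgroup G).map (MulAut.conj x).toMonoidHom = S := by
      apply Subgroup.eq_of_le_of_card_ge
      · rintro _ ⟨s, hs, rfl⟩
        exact hn s hs
      · rw [Subgroup.card_map_of_injective (MulAut.conj x).injective]
    intro s
    constructor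
    · exact hn s
    · intro hs
      have h4 : x * s * x⁻¹ ∈ (S : Subgroup G).map (MulAut.conj x).toMonoidHom := by rw [h3]; exact hs
      obtain ⟨t, ht, hts⟩ := h4
      have h5 : t = s := (MulAut.conj x).injective hts
      rw [← h5]; exact ht
  have h3 := (h1.to_sup_of_normal_right' S.2 h2)
  have h4 := S.3 h3 le_sup_right
  have h5 : x ∈ Subgroup.zpowers x ⊔ (S : Subgroup G) :=
    (le_sup_left : Subgroup.zpowers x ≤ _) (Subgroup.mem_zpowers x)
  rw [h4] at h5
  exact h5

theorem conj_mem_syl {Q S : Sylow 2 G} {g a : G} (hg : g • Q = S) (ha : a ∈ Q) :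
    g * a * g⁻¹ ∈ S := by
  rw [← hg]
  exact Subgroup.smul_mem_pointwise_smul a (MulAut.conj g) (Q : Subgroup G) ha

end gp

open Cfsg.Agent.Lib.SL2Mat Cfsg.Agent.Lib.AutSL2 Cfsg.Agent.Lib.AutSL2Out

theorem exists_sq_add_sq {F : Type*} [Field F] [Finite F] (h2 : (2 : F) ≠ 0) (c : F) :
    ∃ x y : F, x ^ 2 + y ^ 2 = c := by
  have := Fintype.ofFinite F
  have hodd : Fintype.card F % 2 = 1 := by
    have h3 : ringChar F ≠ 2 := by
      intro h
      apply h2
      have h4 := ringChar.Nat.cast_ringChar (R := F)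
      rw [h] at h4
      exact_mod_cast h4
    exact FiniteField.odd_card_of_char_ne_two h3
  have h := FiniteField.exists_root_sum_quadratic (R := F) (f := Polynomial.X ^ 2)
    (g := Polynomial.X ^ 2 - Polynomial.C c) (Polynomial.degree_X_pow 2)
    (Polynomial.degree_X_pow_sub_C (by decide) _) hodd
  obtain ⟨a, b, hab⟩ := h
  refine ⟨a, b, ?_⟩
  simp only [Polynomial.eval_pow, Polynomial.eval_X, Polynomial.eval_sub, Polynomial.eval_C] at hab
  linear_combination hab

theorem isSquare_mul_of_not {F : Type*} [Field F] [Finite F] {x y : F} (hx : ¬ IsSquare x)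
    (hy : ¬ IsSquare y) : IsSquare (x * y) := by
  have := Fintype.ofFinite F
  by_cases h2 : ringChar F = 2
  · exact FiniteField.isSquare_of_char_two h2 _
  have hx0 : x ≠ 0 := by rintro rfl; exact hx (IsSquare.zero)
  have hy0 : y ≠ 0 := by rintro rfl; exact hy (IsSquare.zero)
  rw [FiniteField.isSquare_iff h2 hx0] at hx
  rw [FiniteField.isSquare_iff h2 hy0] at hy
  rw [FiniteField.isSquare_iff h2 (mul_ne_zero hx0 hy0), mul_pow,
    (FiniteField.pow_dichotomy h2 hx0).resolve_left hx,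
    (FiniteField.pow_dichotomy h2 hy0).resolve_left hy, neg_mul_neg, one_mul]

/-- the inner automorphisms -/
abbrev Inn (L : Type*) [Group L] : Subgroup (MulAut L) := (MulAut.conj : L →* MulAut L).range

theorem conj_conj {L : Type*} [Group L] (φ : MulAut L) (x : L) :
    φ * MulAut.conj x * φ⁻¹ = MulAut.conj (φ x) := by
  ext y
  simp [MulAut.mul_apply, MulAut.conj_apply, map_mul, map_inv]

namespace Rep

variable {F : Type*} [Field F] {L : Type*} [Group L] (R : Rep F L) [Finite F]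

local notation "SL2" => Matrix.SpecialLinearGroup (Fin 2) F
local notation "M2" => Matrix (Fin 2) (Fin 2) F

include R in
theorem finite_aut : Finite (MulAut L) :=
  have := R.finite
  Finite.of_injective (fun e : MulAut L => (e : L → L)) DFunLike.coe_injective

theorem mul_mem_inn {α β : MulAut L} (hα : α ∈ R.PGL) (hα' : α ∉ Inn L) (hβ : β ∈ R.PGL)
    (hβ' : β ∉ Inn L) : α * β ∈ Inn L := by
  obtain ⟨g, rfl⟩ := R.mem_PGL.1 hα
  obtain ⟨h, rfl⟩ := R.mem_PGL.1 hβ
  rw [R.gl_mem_inn] at hα' hβ'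
  rw [← map_mul, R.gl_mem_inn, Units.val_mul, Matrix.det_mul]
  exact isSquare_mul_of_not hα' hβ'

include R in
theorem exists_four : ∃ a b : L, Four a b := by
  obtain ⟨i, j, w, d, -, -, -, -, hi, hj, hij, -⟩ := exists_std (F := F) R.two
  exact ⟨_, _, R.four_of_pair hi hj hij⟩

include R in
theorem exists_four_mem (S : Sylow 2 L) : ∃ a b : L, a ∈ S ∧ b ∈ S ∧ Four a b := by
  have := R.finite
  obtain ⟨a, b, h⟩ := R.exists_four
  obtain ⟨Q, hQ⟩ := h.sub_two.exists_le_sylow
  obtain ⟨g, hg⟩ := MulAction.exists_smul_eq L Q S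
  exact ⟨g * a * g⁻¹, g * b * g⁻¹, conj_mem_syl hg (hQ (Or.inr (Or.inl rfl))),
    conj_mem_syl hg (hQ (Or.inr (Or.inr (Or.inl rfl)))), h.map (MulAut.conj g)⟩

theorem map_conj_two (S : Sylow 2 L) : IsPGroup 2 ((S : Subgroup L).map (MulAut.conj : L →* MulAut L)) :=
  S.2.map _

theorem map_conj_le (S : Sylow 2 L) : (S : Subgroup L).map (MulAut.conj : L →* MulAut L) ≤ R.PGL := by
  rintro _ ⟨x, -, rfl⟩
  exact R.conj_mem_PGL x

include R in
theorem not_cyc (S : Sylow 2 L) {c : MulAut L} (h : ∀ s ∈ S, MulAut.conj s ∈ Subgroup.zpowers c) :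
    False := by
  have := R.finite_aut
  obtain ⟨a, b, ha, hb, hab⟩ := R.exists_four_mem S
  have h2 : Four (MulAut.conj a) (MulAut.conj b) :=
    { aa := by rw [← map_mul, hab.aa, map_one]
      bb := by rw [← map_mul, hab.bb, map_one]
      a1 := fun h1 => hab.a1 (R.conj_injective (by rw [h1, map_one]))
      b1 := fun h1 => hab.b1 (R.conj_injective (by rw [h1, map_one]))
      ne := fun h1 => hab.ne (R.conj_injective h1)
      comm := by rw [← map_mul, hab.comm, map_mul] }
  exact four_not_cyc h2 (h a ha) (h b hb)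

include R in
/-- A Sylow 2-subgroup of `PSL(2,q)` is dihedral or a four-group. -/
theorem exists_dih (S : Sylow 2 L) : ∃ d r, Dih (S : Subgroup L) d r := by
  rcases R.pgl_two_group _ (map_conj_two S) (R.map_conj_le S) with ⟨c, -, h⟩ | ⟨c, r, h⟩
  · exact (R.not_cyc S fun s hs => h _ ⟨s, hs, rfl⟩).elim
  · obtain ⟨d, hd, rfl⟩ := h.d_mem
    obtain ⟨x, hx, rfl⟩ := h.r_mem
    exact ⟨d, x, h.comap _ R.conj_injective⟩

include R in
/-- all involutions of `L` are conjugate -/
theorem inv_conj {s t : L} (hs : s * s = 1) (hs1 : s ≠ 1) (ht : t * t = 1) (ht1 : t ≠ 1) :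
    ∃ g : L, g * s * g⁻¹ = t := by
  obtain ⟨i, rfl, hi⟩ := R.exists_inv_lift hs hs1
  obtain ⟨j, rfl, hj⟩ := R.exists_inv_lift ht ht1
  have hns : ∀ x : SL2, x.1 * x.1 = -1 → R.π x ≠ 1 → ∀ c : F, x.1 ≠ c • (1 : M2) := by
    intro x hx hx1 c hc
    apply hx1
    rw [R.ker]
    apply (mem_center_iff R.two x).1
    rw [Subgroup.mem_center_iff]
    intro y
    apply Subtype.ext
    change y.1 * x.1 = x.1 * y.1
    rw [hc, Matrix.mul_smul, Matrix.smul_mul, Matrix.mul_one, Matrix.one_mul]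
  obtain ⟨g, hg⟩ := mat_conj (hns i hi hs1) (hns j hj ht1)
    (by rw [tr_zero_of_sq hi, tr_zero_of_sq hj]) (by rw [i.2, j.2])
  obtain ⟨a, b, hab⟩ := exists_sq_add_sq R.two g.1.det⁻¹
  have htr : i.1 1 1 = -i.1 0 0 := by
    have h3 := tr_zero_of_sq hi
    rw [Matrix.trace_fin_two] at h3
    linear_combination h3
  have hdi : i.1 0 0 * i.1 1 1 - i.1 0 1 * i.1 1 0 = 1 := by
    have := i.2
    rwa [Matrix.det_fin_two] at this
  have hdet : (a • (1 : M2) + b • i.1).det = g.1.det⁻¹ := by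
    rw [← hab, Matrix.det_fin_two]
    simp
    rw [htr] at hdi ⊢
    linear_combination b ^ 2 * hdi
  have hg0 : g.1.det ≠ 0 := (Matrix.GeneralLinearGroup.det g).ne_zero
  let s : SL2 := ⟨g.1 * (a • (1 : M2) + b • i.1), by rw [Matrix.det_mul, hdet, mul_inv_cancel₀ hg0]⟩
  refine ⟨R.π s, ?_⟩
  rw [← map_inv, ← map_mul, ← map_mul]
  congr 1
  rw [mul_inv_eq_iff_eq_mul]
  apply Subtype.ext
  change g.1 * (a • (1 : M2) + b • i.1) * i.1 = j.1 * (g.1 * (a • (1 : M2) + b • i.1))
  rw [← Matrix.mul_assoc, ← hg, Matrix.mul_assoc, Matrix.mul_assoc]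
  congr 1
  rw [Matrix.add_mul, Matrix.mul_add, Matrix.smul_mul, Matrix.smul_mul, Matrix.mul_smul,
    Matrix.mul_smul, Matrix.one_mul, Matrix.mul_one]

include R in
/-- an inner involution is conjugation by an involution -/
theorem inn_inv {φ : MulAut L} (h : φ ∈ Inn L) (h2 : φ * φ = 1) : ∃ t : L, t * t = 1 ∧ φ = MulAut.conj t := by
  obtain ⟨t, rfl⟩ := h
  refine ⟨t, R.conj_injective ?_, rfl⟩
  rw [map_mul, h2, map_one]

include R in
/-- a 2-group above `conj S` meets `Inn` in `conj S` -/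
theorem mem_of_conj_mem (S : Sylow 2 L) {P : Subgroup (MulAut L)} (hP : IsPGroup 2 P)
    (hSP : (S : Subgroup L).map MulAut.conj ≤ P) {x : L} (hx : MulAut.conj x ∈ P) : x ∈ S := by
  have h1 : IsPGroup 2 (P.comap (MulAut.conj : L →* MulAut L)) :=
    hP.comap_of_injective _ R.conj_injective
  have h2 : (S : Subgroup L) ≤ P.comap (MulAut.conj : L →* MulAut L) := fun s hs => hSP ⟨s, hs, rfl⟩
  have h3 := S.3 h1 h2
  have h4 : x ∈ P.comap (MulAut.conj : L →* MulAut L) := hx
  rw [h3] at h4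
  exact h4

/-- a 2-group `conj S ≤ P ≤ PGL` which is not inner is dihedral of twice the order -/
theorem dih_plus (S : Sylow 2 L) {P : Subgroup (MulAut L)} (hP : IsPGroup 2 P) (hle : P ≤ R.PGL)
    (hSP : (S : Subgroup L).map MulAut.conj ≤ P) (hn : ¬ P ≤ Inn L) :
    ∃ (c : MulAut L) (d r : L), c * c = MulAut.conj d ∧ c ∉ Inn L ∧ Dih (S : Subgroup L) d r ∧
      Dih P c (MulAut.conj r) := by
  have := R.finite
  have := R.finite_aut
  rcases R.pgl_two_group P hP hle with ⟨c, -, h⟩ | ⟨c, r₀, h⟩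
  · exact (R.not_cyc S fun s hs => h _ (hSP ⟨s, hs, rfl⟩)).elim
  obtain ⟨s, hsS, hsc⟩ : ∃ s ∈ S, MulAut.conj s ∉ Subgroup.zpowers c := by
    by_contra hcon
    push Not at hcon
    exact R.not_cyc S hcon
  obtain ⟨k, hk⟩ := (h.cov _ (hSP ⟨s, hsS, rfl⟩)).resolve_left hsc
  have h' : Dih P c (MulAut.conj s) := by
    have h2 : MulAut.conj s = c ^ k * r₀ := hk
    rw [h2]; exact h.change k
  have hsI : MulAut.conj s ∈ Inn L := ⟨s, rfl⟩
  have hcI : c ∉ Inn L := by
    intro hc
    apply hn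
    intro x hx
    rcases h'.cov x hx with h1 | ⟨m, rfl⟩
    · obtain ⟨m, rfl⟩ := Subgroup.mem_zpowers_iff.1 h1
      exact zpow_mem hc m
    · exact mul_mem (zpow_mem hc m) hsI
  have hcc := R.mul_mem_inn (hle h'.d_mem) hcI (hle h'.d_mem) hcI
  obtain ⟨d, hd⟩ := hcc
  have hdS : d ∈ S := R.mem_of_conj_mem S hP hSP (by rw [hd]; exact mul_mem h'.d_mem h'.d_mem)
  have hpow : ∀ m : ℤ, c ^ m ∈ Inn L → ∃ n : ℤ, m = 2 * n ∧ c ^ m = MulAut.conj (d ^ n) := by
    intro m hm
    rcases Int.even_or_odd' m with ⟨n, hn' | hn'⟩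
    · refine ⟨n, hn', ?_⟩
      rw [map_zpow, hd, hn', two_mul, zpow_add, (Commute.refl c).mul_zpow]
    · exfalso
      apply hcI
      have h1 : c = (MulAut.conj (d ^ n))⁻¹ * c ^ m := by
        rw [hn', map_zpow, hd, (Commute.refl c).mul_zpow, zpow_add, two_mul, zpow_add, zpow_one]
        group
      rw [h1]
      exact mul_mem (inv_mem ⟨_, rfl⟩) hm
  have hcov : ∀ x ∈ (S : Subgroup L), x ∈ Subgroup.zpowers d ∨ ∃ k : ℤ, x = d ^ k * s := by
    intro x hx
    rcases h'.cov _ (hSP ⟨x, hx, rfl⟩) with h1 | ⟨m, h1⟩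
    · left
      obtain ⟨m, h2⟩ := Subgroup.mem_zpowers_iff.1 h1
      obtain ⟨n, -, h3⟩ := hpow m (by rw [h2]; exact ⟨x, rfl⟩)
      refine Subgroup.mem_zpowers_iff.2 ⟨n, R.conj_injective ?_⟩
      rw [← h3, h2]
    · right
      have h1' : MulAut.conj x = c ^ m * MulAut.conj s := h1
      obtain ⟨n, -, h3⟩ := hpow m (by
        have : c ^ m = MulAut.conj x * (MulAut.conj s)⁻¹ := by rw [h1', mul_inv_cancel_right]
        rw [this]
        exact mul_mem ⟨x, rfl⟩ (inv_mem ⟨s, rfl⟩))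
      refine ⟨n, R.conj_injective ?_⟩
      rw [map_mul, ← h3, h1']
  refine ⟨c, d, s, hd.symm, hcI, ?_, h'⟩
  exact
    { d_mem := hdS
      r_mem := hsS
      d1 := by
        rintro rfl
        obtain ⟨a, b, ha, hb, hab⟩ := R.exists_four_mem S
        have h1 : ∀ y ∈ S, y ≠ 1 → y = s := by
          intro y hy hy1
          rcases hcov y hy with h2 | ⟨n, h2⟩
          · rw [Subgroup.zpowers_one_eq_bot, Subgroup.mem_bot] at h2
            exact absurd h2 hy1
          · rw [h2, one_zpow, one_mul]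
        exact hab.ne (by rw [h1 a ha hab.a1, h1 b hb hab.b1])
      r_not := by
        intro h1
        apply h'.r_not
        obtain ⟨n, hn'⟩ := Subgroup.mem_zpowers_iff.1 h1
        rw [← hn', map_zpow, hd]
        exact zpow_mem (mul_mem (Subgroup.mem_zpowers c) (Subgroup.mem_zpowers c)) n
      rr := R.conj_injective (by rw [map_mul, h'.rr, map_one])
      rd := by
        apply R.conj_injective
        rw [map_mul, map_mul, map_inv, map_inv, hd]
        have h1 := h'.r_pow 2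
        rw [zpow_neg, zpow_ofNat, sq] at h1
        exact h1
      cov := hcov }

end Rep

end Cfsg.Agent.GH.L2Aut
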