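import Cfsg.Agent.GH.L2AutFour

/-!
# Hilbert 90 for `GL(2,F)` and a cyclic group of field automorphisms, `F` finite

`Rep.exists_field` : `α ∈ Aut(L)`, `α ^ orderOf (fld α) = 1` ⇒ `α = gl h * fa (fld α) * (gl h)⁻¹`.
-/

set_option autoImplicit false

namespace Cfsg.Agent.GH.L2Aut

open Cfsg.Agent.Lib.SL2Mat Cfsg.Agent.Lib.AutSL2 Cfsg.Agent.Lib.AutSL2Out

section norm

variable {F : Type*} [Field F] [Finite F]

theorem finite_ringEquiv : Finite (F ≃+* F) :=
  Finite.of_injective (fun σ : F ≃+* F => (σ : F → F)) DFunLike.coe_injective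

theorem orderOf_pos' (σ : F ≃+* F) : 0 < orderOf σ := by
  have := finite_ringEquiv (F := F)
  exact orderOf_pos σ

/-- the norm onto the fixed field of `σ` is surjective -/
theorem exists_prod_eq (σ : F ≃+* F) {c : F} (hc : σ c = c) :
    ∃ e : F, ∏ k ∈ Finset.range (orderOf σ), (σ ^ k) e = c := by
  classical
  have := finite_ringEquiv (F := F)
  have : Fintype (Subgroup.zpowers σ) := Fintype.ofFinite _
  let K := FixedPoints.subfield (Subgroup.zpowers σ) F
  have hK : c ∈ K := by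
    rintro ⟨τ, hτ⟩
    change τ c = c
    obtain ⟨k, rfl⟩ := Subgroup.mem_zpowers_iff.1 hτ
    have h1 : σ ∈ MulAction.stabilizer (F ≃+* F) c := hc
    exact (MulAction.stabilizer (F ≃+* F) c).zpow_mem h1 k
  obtain ⟨e, he⟩ := FiniteField.norm_surjective K F ⟨c, hK⟩
  refine ⟨e, ?_⟩
  have h1 := Algebra.norm_eq_prod_automorphisms K e
  rw [he] at h1
  have h2 : (algebraMap K F) ⟨c, hK⟩ = c := rfl
  rw [h2] at h1
  rw [h1]
  have hfo : IsOfFinOrder σ := isOfFinOrder_of_finite σ
  rw [← Equiv.prod_comp (FixedPoints.toAlgAutMulEquiv (Subgroup.zpowers σ) F).toEquiv,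
    ← Equiv.prod_comp (finEquivZPowers hfo), ← Fin.prod_univ_eq_prod_range]
  apply Finset.prod_congr rfl
  intro k _
  rw [finEquivZPowers_apply]
  rfl

end norm

section vec

variable {F : Type*} [Field F]

/-- the semilinear map `v ↦ g σ(v)` -/
def semi (g : Matrix (Fin 2) (Fin 2) F) (σ : F ≃+* F) (v : Fin 2 → F) : Fin 2 → F :=
  Matrix.mulVec g (fun i => σ (v i))

theorem semi_add (g : Matrix (Fin 2) (Fin 2) F) (σ : F ≃+* F) (v w : Fin 2 → F) :
    semi g σ (v + w) = semi g σ v + semi g σ w := by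
  rw [semi, semi, semi, ← Matrix.mulVec_add]
  congr 1
  ext i
  exact map_add σ _ _

theorem semi_smul (g : Matrix (Fin 2) (Fin 2) F) (σ : F ≃+* F) (x : F) (v : Fin 2 → F) :
    semi g σ (x • v) = σ x • semi g σ v := by
  rw [semi, semi, ← Matrix.mulVec_smul]
  congr 1
  ext i
  exact map_mul σ _ _

theorem semi_zero (g : Matrix (Fin 2) (Fin 2) F) (σ : F ≃+* F) : semi g σ 0 = 0 := by
  have := semi_smul g σ 0 0
  rwa [zero_smul, map_zero, zero_smul] at this

theorem semi_sum (g : Matrix (Fin 2) (Fin 2) F) (σ : F ≃+* F) {ι : Type*} (s : Finset ι)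
    (f : ι → (Fin 2 → F)) : semi g σ (∑ i ∈ s, f i) = ∑ i ∈ s, semi g σ (f i) := by
  classical
  induction s using Finset.induction_on with
  | empty => rw [Finset.sum_empty, Finset.sum_empty, semi_zero]
  | insert i s hi ih => rw [Finset.sum_insert hi, Finset.sum_insert hi, semi_add, ih]

theorem iter_smul (g : Matrix (Fin 2) (Fin 2) F) (σ : F ≃+* F) (x : F) (v : Fin 2 → F) (k : ℕ) :
    (semi g σ)^[k] (x • v) = (σ ^ k) x • (semi g σ)^[k] v := by
  induction k with
  | zero => rfl
  | succ k ih =>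
    rw [Function.iterate_succ_apply', Function.iterate_succ_apply', ih, semi_smul, pow_succ']
    rfl

/-- a linear form vanishing on all fixed vectors of `T` (with `T ^ m = 1`) is zero -/
theorem form_zero (g : Matrix (Fin 2) (Fin 2) F) (σ : F ≃+* F) (hm : 0 < orderOf σ)
    (hT : ∀ v, (semi g σ)^[orderOf σ] v = v) (p q : F)
    (h : ∀ w, semi g σ w = w → p * w 0 + q * w 1 = 0) : p = 0 ∧ q = 0 := by
  classical
  set m := orderOf σ with hmdef
  have htr : ∀ v, semi g σ (∑ k ∈ Finset.range m, (semi g σ)^[k] v) =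
      ∑ k ∈ Finset.range m, (semi g σ)^[k] v := by
    intro v
    rw [semi_sum]
    have h1 : ∀ k, semi g σ ((semi g σ)^[k] v) = (semi g σ)^[k + 1] v := by
      intro k
      rw [Function.iterate_succ_apply']
    rw [Finset.sum_congr rfl (fun k _ => h1 k)]
    have h2 := Finset.sum_range_succ (fun k => (semi g σ)^[k] v) m
    have h3 := Finset.sum_range_succ' (fun k => (semi g σ)^[k] v) m
    rw [h2] at h3
    rw [hT v] at h3
    exact (add_right_cancel h3).symm
  -- the characters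
  let χ : Fin m → (F →* F) := fun k => ((σ ^ (k : ℕ) : F ≃+* F) : F →* F)
  have hχ : Function.Injective χ := by
    intro i j hij
    apply Fin.ext
    have h1 : σ ^ (i : ℕ) = σ ^ (j : ℕ) := by
      ext x
      exact DFunLike.congr_fun hij x
    exact pow_injOn_Iio_orderOf (Set.mem_Iio.2 i.2) (Set.mem_Iio.2 j.2) h1
  have hli := (linearIndependent_monoidHom F F).comp χ hχ
  rw [Fintype.linearIndependent_iff] at hli
  have key : ∀ v : Fin 2 → F, p * v 0 + q * v 1 = 0 := by
    intro v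
    have h1 := hli (fun k => p * ((semi g σ)^[(k : ℕ)] v) 0 + q * ((semi g σ)^[(k : ℕ)] v) 1) (by
      funext x
      have h2 := h _ (htr (x • v))
      rw [Finset.sum_apply, Finset.sum_apply, Finset.mul_sum, Finset.mul_sum,
        ← Finset.sum_add_distrib, ← Fin.sum_univ_eq_sum_range (fun k =>
          p * ((semi g σ)^[k] (x • v)) 0 + q * ((semi g σ)^[k] (x • v)) 1)] at h2
      rw [Finset.sum_apply, Pi.zero_apply, ← h2]
      apply Finset.sum_congr rfl
      intro k _
      rw [iter_smul]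
      change (p * ((semi g σ)^[(k : ℕ)] v) 0 + q * ((semi g σ)^[(k : ℕ)] v) 1) * (σ ^ (k : ℕ)) x =
        p * ((σ ^ (k : ℕ)) x * ((semi g σ)^[(k : ℕ)] v) 0) +
          q * ((σ ^ (k : ℕ)) x * ((semi g σ)^[(k : ℕ)] v) 1)
      ring) ⟨0, hm⟩
    exact h1
  constructor
  · have := key ![1, 0]
    simpa using this
  · have := key ![0, 1]
    simpa using this

/-- Hilbert 90 -/
theorem hilbert90 (g : Matrix (Fin 2) (Fin 2) F) (σ : F ≃+* F) (hm : 0 < orderOf σ)
    (hT : ∀ v, (semi g σ)^[orderOf σ] v = v) :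
    ∃ h : GL (Fin 2) F, g * (Matrix.GeneralLinearGroup.map σ.toRingHom h).1 = h.1 := by
  obtain ⟨u, w, hu, hw, hne⟩ : ∃ u w : Fin 2 → F, semi g σ u = u ∧ semi g σ w = w ∧
      u 0 * w 1 - w 0 * u 1 ≠ 0 := by
    by_contra hcon
    push Not at hcon
    -- all fixed vectors are zero
    have h1 : ∀ u, semi g σ u = u → u = 0 := by
      intro u hu
      obtain ⟨h2, h3⟩ := form_zero g σ hm hT (-u 1) (u 0) (fun w hw => by
        have := hcon u w hu hw
        linear_combination this)
      funext i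
      fin_cases i
      · exact h3
      · exact neg_eq_zero.1 h2
    obtain ⟨h2, -⟩ := form_zero g σ hm hT 1 0 (fun w hw => by rw [h1 w hw]; simp)
    exact one_ne_zero h2
  have hdet : (!![u 0, w 0; u 1, w 1] : Matrix (Fin 2) (Fin 2) F).det ≠ 0 := by
    rw [Matrix.det_fin_two_of]; exact hne
  refine ⟨toGL' _ hdet, ?_⟩
  have e0 := congrFun hu 0
  have e1 := congrFun hu 1
  have f0 := congrFun hw 0
  have f1 := congrFun hw 1
  simp only [semi, Matrix.mulVec, dotProduct, Fin.sum_univ_two] at e0 e1 f0 f1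
  apply mat_ext
  · rw [mat_mul]; exact e0
  · rw [mat_mul]; exact f0
  · rw [mat_mul]; exact e1
  · rw [mat_mul]; exact f1

theorem semi_scal (g : Matrix (Fin 2) (Fin 2) F) (σ : F ≃+* F) (e : F) (k : ℕ) (v : Fin 2 → F) :
    (semi (e • g) σ)^[k] v = (∏ j ∈ Finset.range k, (σ ^ j) e) • (semi g σ)^[k] v := by
  have h1 : ∀ w, semi (e • g) σ w = e • semi g σ w := by
    intro w
    rw [semi, semi, Matrix.smul_mulVec]
  induction k with
  | zero => rw [Finset.prod_range_zero, one_smul]; rfl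
  | succ k ih =>
    rw [Function.iterate_succ_apply', Function.iterate_succ_apply', ih, h1, semi_smul, smul_smul]
    congr 1
    rw [Finset.prod_range_succ', map_prod, mul_comm]
    congr 1
    apply Finset.prod_congr rfl
    intro j _
    rw [pow_succ']
    rfl

end vec

namespace Rep

variable {F : Type*} [Field F] {L : Type*} [Group L] (R : Rep F L) [Finite F]

local notation "M2" => Matrix (Fin 2) (Fin 2) F

theorem gl_eq_of_smul {A B : GL (Fin 2) F} {e : F} (h : A.1 = e • B.1) : R.gl A = R.gl B := by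
  have h1 : R.gl (B⁻¹ * A) = 1 := by
    rw [R.gl_eq_one_iff]
    refine ⟨e, ?_⟩
    rw [Units.val_mul, h, Matrix.mul_smul, ← Units.val_mul, inv_mul_cancel, Units.val_one]
  rw [map_mul, map_inv] at h1
  exact (inv_mul_eq_one.1 h1).symm

/-- the twisted powers -/
def tw (g : GL (Fin 2) F) (σ : F ≃+* F) : ℕ → GL (Fin 2) F
  | 0 => 1
  | k + 1 => g * Matrix.GeneralLinearGroup.map σ.toRingHom (tw g σ k)

theorem pow_eq (g : GL (Fin 2) F) (σ : F ≃+* F) (k : ℕ) :
    (R.gl g * R.fa σ) ^ k = R.gl (tw g σ k) * R.fa (σ ^ k) := by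
  induction k with
  | zero => rw [pow_zero, pow_zero, tw, map_one, map_one, mul_one]
  | succ k ih =>
    rw [pow_succ', ih, tw, pow_succ', map_mul, map_mul, mul_assoc, ← mul_assoc (R.fa σ), R.fa_mul_gl]
    simp only [mul_assoc]

omit [Finite F] in
theorem iter_eq (g : GL (Fin 2) F) (σ : F ≃+* F) (k : ℕ) (v : Fin 2 → F) :
    (semi g.1 σ)^[k] v = Matrix.mulVec (tw g σ k).1 (fun i => (σ ^ k) (v i)) := by
  induction k with
  | zero =>
    change v = Matrix.mulVec (1 : M2) v
    rw [Matrix.one_mulVec]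
  | succ k ih =>
    rw [Function.iterate_succ_apply', ih, semi, tw, Units.val_mul, ← Matrix.mulVec_mulVec]
    congr 1
    funext i
    change σ (∑ j, (tw g σ k).1 i j * (σ ^ k) (v j)) = ∑ j, σ ((tw g σ k).1 i j) * (σ ^ (k + 1)) (v j)
    rw [map_sum]
    apply Finset.sum_congr rfl
    intro j _
    rw [map_mul, pow_succ']
    rfl

/-- **Hilbert 90 for automorphisms of `L`** : an automorphism whose order is the order of its field
automorphism is conjugate under `PGL` to that field automorphism. -/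
theorem exists_field (α : MulAut L) (hα : α ^ orderOf (R.fld α) = 1) :
    ∃ h : GL (Fin 2) F, α = R.gl h * R.fa (R.fld α) * (R.gl h)⁻¹ := by
  obtain ⟨g, hg⟩ := R.exists_eq α
  obtain ⟨σ, hσ⟩ : ∃ σ, σ = R.fld α := ⟨_, rfl⟩
  rw [← hσ] at hg hα ⊢
  have hm := orderOf_pos' σ
  rw [hg, R.pow_eq, pow_orderOf_eq_one, map_one, mul_one, R.gl_eq_one_iff] at hα
  obtain ⟨c, hc⟩ := hα
  have hT : ∀ v, (semi g.1 σ)^[orderOf σ] v = c • v := by
    intro v
    rw [iter_eq, hc, pow_orderOf_eq_one, Matrix.smul_mulVec]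
    congr 1
    exact Matrix.one_mulVec v
  have hc0 : c ≠ 0 := by
    rintro rfl
    rw [zero_smul] at hc
    have h1 := (Matrix.GeneralLinearGroup.det (tw g σ (orderOf σ))).ne_zero
    apply h1
    change (tw g σ (orderOf σ)).1.det = 0
    rw [hc, Matrix.det_zero]
  have hσc : σ c = c := by
    by_contra hcon
    have h1 : ∀ v, semi g.1 σ v = 0 := by
      intro v
      have h2 : (semi g.1 σ)^[orderOf σ] (semi g.1 σ v) = semi g.1 σ ((semi g.1 σ)^[orderOf σ] v) := by
        rw [← Function.iterate_succ_apply, Function.iterate_succ_apply']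
      rw [hT, hT, semi_smul] at h2
      have h3 : (σ c - c) • semi g.1 σ v = 0 := by rw [sub_smul, h2, sub_self]
      exact (smul_eq_zero.1 h3).resolve_left (sub_ne_zero.2 hcon)
    have h2 := hT ![1, 0]
    obtain ⟨k, hk⟩ := Nat.exists_eq_succ_of_ne_zero hm.ne'
    rw [hk, Function.iterate_succ_apply', h1] at h2
    have h3 := congrFun h2 0
    simp at h3
    exact hc0 h3.symm
  obtain ⟨e, he⟩ := exists_prod_eq σ (c := c⁻¹) (by rw [map_inv₀, hσc])
  obtain ⟨h, hh⟩ := hilbert90 (e • g.1) σ hm (fun v => by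
    rw [semi_scal, hT, he, smul_smul, inv_mul_cancel₀ hc0, one_smul])
  refine ⟨h, ?_⟩
  rw [hg, eq_mul_inv_iff_mul_eq, mul_assoc, R.fa_mul_gl, ← mul_assoc, ← map_mul]
  congr 1
  symm
  apply R.gl_eq_of_smul (e := e)
  rw [← hh, Units.val_mul, Matrix.smul_mul]

end Rep

end Cfsg.Agent.GH.L2Aut
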