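import Cfsg.Agent.GH.L2AutFour

/-!
# The determinant character of `Aut(PSL(2,F))`

`Rep.o1 : MulAut L →* ℤˣ`: the class of the determinant of the linear part modulo squares.

* `mem_inn_iff` : `α` is inner iff `fld α = 1` and `o1 α = 1`;
* `o1_of_sq` : `α * α = 1`, `fld α ≠ 1` imply `o1 α = 1`;
* `o1_of_comm` : the centraliser of such an `α` is contained in the kernel of `o1`;
* `exists_twist` : `fa σ` (`σ` of order 2) is conjugate under `L` to `conj d * fa σ` for an involution `d` fixed by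
  `fa σ`.
-/

set_option autoImplicit false
set_option linter.unusedSectionVars false
set_option linter.style.haveILetI false
set_option linter.unusedSimpArgs false

namespace Cfsg.Agent.GH.L2Aut

open Matrix Cfsg.Agent.Lib.SL2Mat Cfsg.Agent.Lib.AutSL2 Cfsg.Agent.Lib.AutSL2Out

section qc

variable {F : Type*} [Field F] [Finite F]

/-- The quadratic character. -/
noncomputable def qc : Fˣ →* ℤˣ := by
  classical
  letI := Fintype.ofFinite F
  exact (quadraticChar F).toUnitHom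

theorem qc_eq_one_iff (a : Fˣ) : qc a = 1 ↔ IsSquare (a : F) := by
  classical
  letI := Fintype.ofFinite F
  rw [← quadraticChar_one_iff_isSquare a.ne_zero, ← Units.val_inj]
  exact Iff.rfl

theorem units_int_eq {a b : ℤˣ} (h : a = 1 ↔ b = 1) : a = b := by
  rcases Int.units_eq_one_or a with rfl | rfl <;> rcases Int.units_eq_one_or b with rfl | rfl
  · rfl
  · exact absurd (h.1 rfl) (by decide)
  · exact absurd (h.2 rfl) (by decide)
  · rfl

theorem qc_congr {a b : Fˣ} (h : IsSquare (a : F) ↔ IsSquare (b : F)) : qc a = qc b :=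
  units_int_eq (by rw [qc_eq_one_iff, qc_eq_one_iff, h])

theorem isSquare_map_iff (σ : F ≃+* F) (a : F) : IsSquare (σ a) ↔ IsSquare a := by
  constructor
  · rintro ⟨b, hb⟩
    refine ⟨σ.symm b, ?_⟩
    rw [← map_mul, ← hb, RingEquiv.symm_apply_apply]
  · rintro ⟨b, rfl⟩
    exact ⟨σ b, map_mul _ _ _⟩

theorem isSquare_sq_mul {c a : F} (hc : c ≠ 0) : IsSquare (c ^ 2 * a) ↔ IsSquare a := by
  constructor
  · rintro ⟨b, hb⟩
    refine ⟨b / c, ?_⟩
    field_simp
    rw [sq b, ← hb]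
    ring
  · rintro ⟨b, rfl⟩
    exact ⟨c * b, by ring⟩

end qc

namespace Rep

variable {F : Type*} [Field F] [Finite F] {L : Type*} [Group L] (R : Rep F L)

local notation "SL2" => Matrix.SpecialLinearGroup (Fin 2) F
local notation "M2" => Matrix (Fin 2) (Fin 2) F

/-- the class of the determinant of a linear automorphism -/
noncomputable def dc (g : GL (Fin 2) F) : ℤˣ := qc (Matrix.GeneralLinearGroup.det g)

theorem det_smul_of {g h : GL (Fin 2) F} {c : F} (hc : g.1 = c • h.1) :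
    c ≠ 0 ∧ (Matrix.GeneralLinearGroup.det g : F) = c ^ 2 * (Matrix.GeneralLinearGroup.det h : F) := by
  have h1 : (Matrix.GeneralLinearGroup.det g : F) =
      c ^ 2 * (Matrix.GeneralLinearGroup.det h : F) := by
    change g.1.det = c ^ 2 * h.1.det
    rw [hc, Matrix.det_smul, Fintype.card_fin]
  refine ⟨?_, h1⟩
  rintro rfl
  rw [zero_pow two_ne_zero, zero_mul] at h1
  exact (Matrix.GeneralLinearGroup.det g).ne_zero h1

theorem dc_eq_of_gl_eq {g h : GL (Fin 2) F} (hgh : R.gl g = R.gl h) : dc g = dc h := by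
  have h1 : R.gl (h⁻¹ * g) = 1 := by rw [map_mul, map_inv, hgh, inv_mul_cancel]
  obtain ⟨c, hc⟩ := R.gl_eq_one_iff.1 h1
  have h2 : g.1 = c • h.1 := by
    have h3 : g.1 = h.1 * (h⁻¹ * g).1 := by rw [← Units.val_mul, mul_inv_cancel_left]
    rw [h3, hc, Matrix.mul_smul, Matrix.mul_one]
  obtain ⟨hc0, h3⟩ := det_smul_of h2
  refine qc_congr ?_
  rw [h3]
  exact isSquare_sq_mul hc0

/-- `o₁ : Aut(L) → {±1}` -/
noncomputable def o1fun (α : MulAut L) : ℤˣ := dc (R.exists_eq α).choose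

theorem o1fun_eq {α : MulAut L} {g : GL (Fin 2) F} {σ : F ≃+* F} (h : α = R.gl g * R.fa σ) :
    R.o1fun α = dc g := by
  have h1 := (R.exists_eq α).choose_spec
  have h2 : R.fld α = σ := by rw [h, map_mul, R.fld_gl, R.fld_fa, one_mul]
  apply R.dc_eq_of_gl_eq
  subst h2
  exact mul_right_cancel (h1.symm.trans h)

theorem dc_map (σ : F ≃+* F) (g : GL (Fin 2) F) :
    dc (Matrix.GeneralLinearGroup.map σ.toRingHom g) = dc g := by
  refine qc_congr ?_
  have h1 : ((Matrix.GeneralLinearGroup.det (Matrix.GeneralLinearGroup.map σ.toRingHom g) : Fˣ) : F)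
      = σ (Matrix.GeneralLinearGroup.det g : Fˣ) := by
    change (Matrix.GeneralLinearGroup.map σ.toRingHom g).1.det = σ g.1.det
    change (σ.toRingHom.mapMatrix g.1).det = σ g.1.det
    rw [← RingHom.map_det]
    rfl
  rw [h1]
  exact isSquare_map_iff σ _

noncomputable def o1 : MulAut L →* ℤˣ where
  toFun := R.o1fun
  map_one' := by
    rw [R.o1fun_eq (g := 1) (σ := 1) (by rw [map_one, map_one, one_mul])]
    simp [dc]
  map_mul' := by
    intro α β
    obtain ⟨g, hg⟩ := R.exists_eq α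
    obtain ⟨h, hh⟩ := R.exists_eq β
    have h1 : α * β = R.gl (g * Matrix.GeneralLinearGroup.map (R.fld α).toRingHom h) *
        R.fa (R.fld α * R.fld β) := by
      nth_rw 1 [hg, hh]
      rw [map_mul, map_mul]
      simp only [mul_assoc]
      rw [← mul_assoc (R.fa (R.fld α)), R.fa_mul_gl]
      simp only [mul_assoc]
    rw [R.o1fun_eq h1, R.o1fun_eq hg, R.o1fun_eq hh]
    unfold dc
    rw [map_mul, map_mul]
    congr 1
    exact dc_map _ h

theorem o1_eq {α : MulAut L} {g : GL (Fin 2) F} {σ : F ≃+* F} (h : α = R.gl g * R.fa σ) :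
    R.o1 α = dc g := R.o1fun_eq h

theorem o1_gl (g : GL (Fin 2) F) : R.o1 (R.gl g) = dc g :=
  R.o1_eq (σ := 1) (by rw [map_one, mul_one])

theorem o1_gl_eq_one_iff {g : GL (Fin 2) F} : R.o1 (R.gl g) = 1 ↔ IsSquare g.1.det := by
  rw [R.o1_gl]
  exact qc_eq_one_iff _

theorem o1_fa (σ : F ≃+* F) : R.o1 (R.fa σ) = 1 := by
  rw [R.o1_eq (g := 1) (σ := σ) (by rw [map_one, one_mul])]
  simp [dc]

theorem o1_conj (y : L) : R.o1 (MulAut.conj y) = 1 := by
  obtain ⟨g, hg⟩ := R.mem_PGL.1 (R.conj_mem_PGL y)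
  rw [hg, R.o1_gl_eq_one_iff, ← R.gl_mem_inn, ← hg]
  exact ⟨y, rfl⟩

theorem o1_conj_eq (α β : MulAut L) : R.o1 (α * β * α⁻¹) = R.o1 β := by
  rw [map_mul, map_mul, map_inv, mul_comm (R.o1 α), mul_inv_cancel_right]

/-- The inner automorphisms. -/
theorem mem_inn_iff {α : MulAut L} :
    α ∈ (MulAut.conj : L →* MulAut L).range ↔ R.fld α = 1 ∧ R.o1 α = 1 := by
  constructor
  · intro h
    refine ⟨R.mem_PGL_iff_fld.1 (R.inn_le_PGL h), ?_⟩
    obtain ⟨y, rfl⟩ := h
    exact R.o1_conj y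
  · rintro ⟨h1, h2⟩
    obtain ⟨g, rfl⟩ := R.mem_PGL.1 (R.mem_PGL_iff_fld.2 h1)
    rw [R.gl_mem_inn]
    exact R.o1_gl_eq_one_iff.1 h2

/-- an involution of `Aut F` fixes only squares -/
theorem isSquare_of_fixed {σ : F ≃+* F} (h2 : (2 : F) ≠ 0) (hσ2 : σ * σ = 1) (hσ : σ ≠ 1) {x : F}
    (hx : σ x = x) : IsSquare x := by
  by_cases h0 : x = 0
  · subst h0; exact ⟨0, by simp⟩
  · refine Cfsg.Agent.Classification.TypeB.SigAut.isSquare_of_conj h2 (σ := σ)
      (fun y => ?_) hσ h0 (l := x) (by rw [hx]; ring) hx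
    exact congrArg (fun τ : F ≃+* F => τ y) hσ2

theorem fixed_of_mul_eq {σ : F ≃+* F} (hσ2 : σ * σ = 1) {g : GL (Fin 2) F} {c : F}
    (h : g.1 * (Matrix.GeneralLinearGroup.map σ.toRingHom g).1 = c • (1 : M2)) : σ c = c := by
  let s : M2 →+* M2 := σ.toRingHom.mapMatrix
  have hs : (Matrix.GeneralLinearGroup.map σ.toRingHom g).1 = s g.1 := rfl
  have hss : s (s g.1) = g.1 := by
    ext i j
    change σ (σ (g.1 i j)) = g.1 i j
    exact congrArg (fun τ : F ≃+* F => τ (g.1 i j)) hσ2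
  rw [hs] at h
  have h1 : s g.1 * g.1 = σ c • (1 : M2) := by
    have h2 := congrArg s h
    rw [map_mul, hss] at h2
    rw [h2]
    ext i j
    change σ ((c • (1 : M2)) i j) = (σ c • (1 : M2)) i j
    rw [Matrix.smul_apply, Matrix.smul_apply, smul_eq_mul, smul_eq_mul, map_mul]
    congr 1
    by_cases hij : i = j
    · subst hij; simp
    · simp [hij]
  -- `g s(g) = c`, so `s(g) = c g⁻¹` commutes with `g`
  have h2 : g.1 * (s g.1 * g.1) = (g.1 * s g.1) * g.1 := by rw [Matrix.mul_assoc]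
  rw [h1, h, Matrix.mul_smul, Matrix.mul_one, Matrix.smul_mul, Matrix.one_mul] at h2
  have h3 : (σ c • g.1) * g⁻¹.1 = (c • g.1) * g⁻¹.1 := by rw [h2]
  rw [Matrix.smul_mul, Matrix.smul_mul, ← Units.val_mul, mul_inv_cancel, Units.val_one] at h3
  have h4 := congrFun (congrFun h3 0) 0
  simpa using h4

/-- `α² = 1`, `α` not linear: the linear part has square determinant. -/
theorem o1_of_sq {α : MulAut L} (h : α * α = 1) (hσ : R.fld α ≠ 1) : R.o1 α = 1 := by
  obtain ⟨g, hg⟩ := R.exists_eq α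
  have hσ2 : R.fld α * R.fld α = 1 := by rw [← map_mul, h, map_one]
  have h1 : R.gl (g * Matrix.GeneralLinearGroup.map (R.fld α).toRingHom g) = 1 := by
    have h2 : α * α = R.gl (g * Matrix.GeneralLinearGroup.map (R.fld α).toRingHom g) *
        R.fa (R.fld α * R.fld α) := by
      nth_rw 1 2 [hg]
      rw [map_mul, map_mul]
      simp only [mul_assoc]
      rw [← mul_assoc (R.fa (R.fld α)) (R.gl g), R.fa_mul_gl]
      simp only [mul_assoc]
    rw [h, hσ2, map_one, mul_one] at h2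
    exact h2.symm
  obtain ⟨c, hc⟩ := R.gl_eq_one_iff.1 h1
  rw [Units.val_mul] at hc
  have hcσ := fixed_of_mul_eq hσ2 hc
  rw [R.o1_eq hg]
  unfold dc
  rw [qc_eq_one_iff]
  refine Cfsg.Agent.Classification.TypeB.SigAut.isSquare_of_conj R.two (σ := R.fld α)
    (fun y => congrArg (fun τ : F ≃+* F => τ y) hσ2) hσ (Units.ne_zero _) (l := c) ?_ hcσ
  have h3 := congrArg Matrix.det hc
  rw [Matrix.det_mul, Matrix.det_smul, Matrix.det_one, mul_one, Fintype.card_fin] at h3
  rw [← h3]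
  change g.1.det * (R.fld α) g.1.det = g.1.det * ((R.fld α).toRingHom.mapMatrix g.1).det
  rw [← RingHom.map_det]
  rfl

/-- an element changing the sign under an involution -/
theorem exists_anti {σ : F ≃+* F} (hσ2 : σ * σ = 1) (hσ : σ ≠ 1) : ∃ u : F, u ≠ 0 ∧ σ u = -u := by
  obtain ⟨x, hx⟩ : ∃ x, σ x ≠ x := by
    by_contra hcon
    push Not at hcon
    exact hσ (RingEquiv.ext hcon)
  have hss : σ (σ x) = x := congrArg (fun τ : F ≃+* F => τ x) hσ2
  exact ⟨x - σ x, sub_ne_zero.2 fun h => hx h.symm, by rw [map_sub, hss]; ring⟩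

/-- Hilbert 90 for an involution -/
theorem hilbert {σ : F ≃+* F} (hσ2 : σ * σ = 1) (hσ : σ ≠ 1) {s : F} (h : s * σ s = 1) :
    ∃ u : F, u ≠ 0 ∧ σ u * s = u := by
  by_cases hs : s = -1
  · obtain ⟨u, hu, hu'⟩ := exists_anti hσ2 hσ
    exact ⟨u, hu, by rw [hu', hs]; ring⟩
  · refine ⟨1 + s, fun h0 => hs (by linear_combination h0), ?_⟩
    rw [map_add, map_one, add_mul, one_mul, mul_comm (σ s), h]
    ring

theorem smul_map (τ : F ≃+* F) (c : F) (m : M2) :
    τ.toRingHom.mapMatrix (c • m) = τ c • τ.toRingHom.mapMatrix m := by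
  ext i j
  change τ ((c • m) i j) = (τ c • τ.toRingHom.mapMatrix m) i j
  rw [Matrix.smul_apply, Matrix.smul_apply, smul_eq_mul, smul_eq_mul, map_mul]
  rfl

/-- The centraliser of an `α` with `α² = 1`, `fld α ≠ 1` is in the kernel of `o₁`. -/
theorem o1_of_comm {α γ : MulAut L} (h : α * α = 1) (hσ : R.fld α ≠ 1) (hγ : γ * α = α * γ) :
    R.o1 γ = 1 := by
  obtain ⟨a, ha⟩ := R.exists_eq α
  obtain ⟨g, hg⟩ := R.exists_eq γ
  obtain ⟨σ, hσe⟩ : ∃ σ, σ = R.fld α := ⟨_, rfl⟩
  obtain ⟨τ, hτe⟩ : ∃ τ, τ = R.fld γ := ⟨_, rfl⟩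
  have hα1 : R.o1 α = 1 := R.o1_of_sq h hσ
  rw [R.o1_eq ha] at hα1
  unfold dc at hα1
  rw [qc_eq_one_iff] at hα1
  rw [← hσe] at ha hσ
  rw [← hτe] at hg
  have hσ2 : σ * σ = 1 := by rw [hσe, ← map_mul, h, map_one]
  have hστ : ∀ x, σ (τ x) = τ (σ x) := fun x => congrArg (fun ρ : F ≃+* F => ρ x)
    (ringEquiv_comm σ τ)
  have hss : ∀ x, σ (σ x) = x := fun x => congrArg (fun ρ : F ≃+* F => ρ x) hσ2
  let S : M2 →+* M2 := σ.toRingHom.mapMatrix
  let T : M2 →+* M2 := τ.toRingHom.mapMatrix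
  have hSS : ∀ m, S (S m) = m := fun m => by
    ext i j
    exact hss _
  have hST : ∀ m, S (T m) = T (S m) := fun m => by
    ext i j
    exact hστ _
  -- `a σ(a) = e`
  have h1 : R.gl (a * Matrix.GeneralLinearGroup.map σ.toRingHom a) = 1 := by
    have h2 : α * α = R.gl (a * Matrix.GeneralLinearGroup.map σ.toRingHom a) * R.fa (σ * σ) := by
      nth_rw 1 2 [ha]
      rw [map_mul, map_mul]
      simp only [mul_assoc]
      rw [← mul_assoc (R.fa σ) (R.gl a), R.fa_mul_gl]
      simp only [mul_assoc]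
    rw [h, hσ2, map_one, mul_one] at h2
    exact h2.symm
  obtain ⟨e, he⟩ := R.gl_eq_one_iff.1 h1
  rw [Units.val_mul] at he
  have heσ := fixed_of_mul_eq hσ2 he
  have he' : a.1 * S a.1 = e • (1 : M2) := he
  -- `a σ(g) = c g τ(a)`
  have h2 : R.gl (a * Matrix.GeneralLinearGroup.map σ.toRingHom g) =
      R.gl (g * Matrix.GeneralLinearGroup.map τ.toRingHom a) := by
    have e1 : α * γ = R.gl (a * Matrix.GeneralLinearGroup.map σ.toRingHom g) * R.fa (σ * τ) := by
      nth_rw 1 [ha, hg]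
      rw [map_mul, map_mul]
      simp only [mul_assoc]
      rw [← mul_assoc (R.fa σ) (R.gl g), R.fa_mul_gl]
      simp only [mul_assoc]
    have e2 : γ * α = R.gl (g * Matrix.GeneralLinearGroup.map τ.toRingHom a) * R.fa (τ * σ) := by
      nth_rw 1 [ha, hg]
      rw [map_mul, map_mul]
      simp only [mul_assoc]
      rw [← mul_assoc (R.fa τ) (R.gl a), R.fa_mul_gl]
      simp only [mul_assoc]
    rw [hγ, e1, ringEquiv_comm τ σ] at e2
    exact mul_right_cancel e2
  obtain ⟨c, hc⟩ := R.gl_eq_one_iff.1 (show R.gl ((g *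
      Matrix.GeneralLinearGroup.map τ.toRingHom a)⁻¹ *
      (a * Matrix.GeneralLinearGroup.map σ.toRingHom g)) = 1 by
    rw [map_mul, map_inv, h2, inv_mul_cancel])
  have hc' : a.1 * S g.1 = c • (g.1 * T a.1) := by
    have h3 : (a * Matrix.GeneralLinearGroup.map σ.toRingHom g).1 =
        (g * Matrix.GeneralLinearGroup.map τ.toRingHom a).1 *
        ((g * Matrix.GeneralLinearGroup.map τ.toRingHom a)⁻¹ *
          (a * Matrix.GeneralLinearGroup.map σ.toRingHom g)).1 := by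
      rw [← Units.val_mul, mul_inv_cancel_left]
    rw [hc, Matrix.mul_smul, Matrix.mul_one] at h3
    exact h3
  -- `e = c σ(c) τ(e)`
  have hN : e = c * σ c * τ e := by
    have e1 : S a.1 * g.1 = σ c • (S g.1 * T (S a.1)) := by
      have e2 := congrArg S hc'
      rw [map_mul, hSS] at e2
      rw [e2]
      change σ.toRingHom.mapMatrix (c • (g.1 * T a.1)) = _
      rw [smul_map]
      change σ c • S (g.1 * T a.1) = _
      rw [map_mul, hST]
    have e3 : e • g.1 = (c * σ c * τ e) • g.1 := by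
      have e4 : a.1 * (S a.1 * g.1) = e • g.1 := by
        rw [← Matrix.mul_assoc, he', Matrix.smul_mul, Matrix.one_mul]
      have e5 : T a.1 * T (S a.1) = τ e • (1 : M2) := by
        rw [← map_mul, he']
        change τ.toRingHom.mapMatrix (e • (1 : M2)) = _
        rw [smul_map, map_one]
      rw [← e4, e1, Matrix.mul_smul, ← Matrix.mul_assoc, hc', Matrix.smul_mul, Matrix.mul_assoc,
        e5, Matrix.mul_smul, Matrix.mul_one, smul_smul, smul_smul]
      congr 1
      ring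
    have e6 : (e • g.1) * g⁻¹.1 = ((c * σ c * τ e) • g.1) * g⁻¹.1 := by rw [e3]
    rw [Matrix.smul_mul, Matrix.smul_mul, ← Units.val_mul, mul_inv_cancel, Units.val_one] at e6
    have e7 := congrFun (congrFun e6 0) 0
    simpa using e7
  have hdS : ∀ m : M2, (S m).det = σ m.det := fun m => (RingHom.map_det σ.toRingHom m).symm
  have hdT : ∀ m : M2, (T m).det = τ m.det := fun m => (RingHom.map_det τ.toRingHom m).symm
  have hda : a.1.det ≠ 0 := (Matrix.GeneralLinearGroup.det a).ne_zero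
  have hdg : g.1.det ≠ 0 := (Matrix.GeneralLinearGroup.det g).ne_zero
  -- determinants
  have d1 : a.1.det * σ a.1.det = e ^ 2 := by
    have := congrArg Matrix.det he'
    rw [Matrix.det_mul, Matrix.det_smul, Matrix.det_one, mul_one, Fintype.card_fin, hdS] at this
    exact this
  have d2 : a.1.det * σ g.1.det = c ^ 2 * (g.1.det * τ a.1.det) := by
    have := congrArg Matrix.det hc'
    rw [Matrix.det_mul, Matrix.det_smul, Fintype.card_fin, Matrix.det_mul, hdS, hdT] at this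
    exact this
  obtain ⟨v, hv⟩ : IsSquare a.1.det := hα1
  have hv0 : v ≠ 0 := by
    rintro rfl
    rw [mul_zero] at hv
    exact hda hv
  have he0 : e ≠ 0 := by
    rintro rfl
    rw [zero_pow two_ne_zero] at d1
    rcases mul_eq_zero.1 d1 with h3 | h3
    · exact hda h3
    · exact hda ((map_eq_zero σ).1 h3)
  -- `n = v σ(v) = ± e`
  have hn : v * σ v = e ∨ v * σ v = -e := by
    apply sq_eq_sq_iff_eq_or_eq_neg.1
    rw [← d1, hv, map_mul]
    ring
  have hτn : τ (v * σ v) * e = (v * σ v) * τ e := by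
    rcases hn with h3 | h3
    · rw [h3]; ring
    · rw [h3, map_neg]; ring
  have hvσ : σ v ≠ 0 := fun h3 => hv0 ((map_eq_zero σ).1 h3)
  have hτe0 : τ e ≠ 0 := fun h3 => he0 ((map_eq_zero τ).1 h3)
  have hs : (c * τ v / v) * σ (c * τ v / v) = 1 := by
    rw [map_div₀, map_mul, hστ]
    field_simp
    rw [map_mul] at hτn
    have h4 : (c * σ c) * (τ v * τ (σ v)) * τ e = (v * σ v) * τ e := by
      rw [← hτn]
      linear_combination (-(τ v * τ (σ v))) * hN
    have h5 := mul_right_cancel₀ hτe0 h4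
    linear_combination h5
  obtain ⟨u, hu, hu'⟩ := hilbert hσ2 hσ hs
  have hX : σ (g.1.det * u ^ 2) = g.1.det * u ^ 2 := by
    rw [map_mul, map_pow]
    have h6 : σ g.1.det = (c * τ v / v) ^ 2 * g.1.det := by
      rw [hv, map_mul] at d2
      field_simp
      linear_combination d2
    rw [h6, show (c * τ v / v) ^ 2 * g.1.det * σ u ^ 2 = g.1.det * (σ u * (c * τ v / v)) ^ 2 by ring,
      hu']
  have h7 := isSquare_of_fixed R.two hσ2 hσ hX
  rw [R.o1_eq hg]
  unfold dc
  rw [qc_eq_one_iff]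
  rw [mul_comm] at h7
  exact (isSquare_sq_mul hu).1 h7

/-- A twist of `α`: `conj d * α` is conjugate to `α` under `L`, `d` an involution fixed by `α`. -/
def _root_.Cfsg.Agent.GH.L2Aut.Twist {L : Type*} [Group L] (α : MulAut L) (d : L) : Prop :=
  d * d = 1 ∧ d ≠ 1 ∧ α d = d ∧
    ∃ h : L, MulAut.conj h * (MulAut.conj d * α) * (MulAut.conj h)⁻¹ = α

/-- `fa σ` has a twist. -/
theorem exists_twist {σ : F ≃+* F} (hσ2 : σ * σ = 1) (hσ : σ ≠ 1) : ∃ d, Twist (R.fa σ) d := by
  obtain ⟨e, he, he'⟩ := exists_anti hσ2 hσ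
  have h2 := R.two
  let h : SL2 := Cfsg.Agent.Lib.SL2Mat.mk 1 e⁻¹ (-(e / 2)) (1 / 2) (by field_simp; ring)
  let d : SL2 := Cfsg.Agent.Lib.SL2Mat.mk 0 (-e⁻¹) e 0 (by field_simp; ring)
  have hneg : ∀ (x : SL2) (i j : Fin 2), ent (-x) i j = -ent x i j := fun _ _ _ => rfl
  have hdd : d * d = -1 := by
    refine ext_ent ?_ ?_ ?_ ?_ <;> simp [d, ent_mul, hneg, he]
  have hσd : fieldAut σ d = -d := by
    refine ext_ent ?_ ?_ ?_ ?_ <;> simp [d, hneg, he', map_inv₀]
  have hσ2' : σ 2 = 2 := map_ofNat σ 2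
  have hσh : fieldAut σ h = h * d := by
    refine ext_ent ?_ ?_ ?_ ?_
    · simp [d, h, ent_mul, he]
    · simp [d, h, ent_mul, he', map_inv₀]
    · simp only [d, h, ent_mul, mk_00, mk_01, mk_10, mk_11, fieldAut_ent, map_neg, map_div₀, he',
        hσ2']
      ring
    · simp only [d, h, ent_mul, mk_00, mk_01, mk_10, mk_11, fieldAut_ent, map_div₀, map_one, hσ2']
      field_simp
      ring
  refine ⟨R.π d, ?_, ?_, ?_, R.π h, ?_⟩
  · rw [← map_mul, hdd, R.ker]; exact Or.inr rfl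
  · intro h1
    rw [R.ker] at h1
    apply R.neg_one_ne_one
    rcases h1 with h1 | h1
    · rw [← hdd, h1, mul_one]
    · rw [← hdd, h1, neg_mul_neg, mul_one]
  · rw [R.fa_apply, hσd, R.π_neg]
  · have e1 : ∀ y, R.fa σ * MulAut.conj y = MulAut.conj (R.fa σ y) * R.fa σ := by
      intro y
      ext z
      simp only [MulAut.mul_apply, MulAut.conj_apply, map_mul, map_inv]
    have e2 : R.fa σ * MulAut.conj (R.π h) = MulAut.conj (R.π h) * MulAut.conj (R.π d) * R.fa σ := by
      rw [e1, R.fa_apply, hσh, map_mul, map_mul]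
    rw [← mul_assoc, ← e2, mul_inv_cancel_right]

end Rep

theorem Twist.conj {L : Type*} [Group L] {α : MulAut L} {d : L} (h : Twist α d) (β : MulAut L) :
    Twist (β * α * β⁻¹) (β d) := by
  obtain ⟨h1, h2, h3, y, hy⟩ := h
  have e1 : ∀ y, MulAut.conj (β y) = β * MulAut.conj y * β⁻¹ := by
    intro y
    ext z
    simp only [MulAut.mul_apply, MulAut.conj_apply, map_mul, map_inv, MulAut.apply_inv_self]
  refine ⟨by rw [← map_mul, h1, map_one], fun h4 => h2 (β.injective (by rw [h4, map_one])), ?_,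
    β y, ?_⟩
  · rw [MulAut.mul_apply, MulAut.mul_apply, MulAut.inv_apply_self, h3]
  · rw [e1, e1]
    have h5 : β * (MulAut.conj y * (MulAut.conj d * α) * (MulAut.conj y)⁻¹) * β⁻¹ =
        β * α * β⁻¹ := by rw [hy]
    refine Eq.trans ?_ h5
    group

end Cfsg.Agent.GH.L2Aut
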