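import Mathlib
import Cfsg.Agent.Transfer.ThompsonTransfer

/-!
# The key transfer lemma (helper885 #5835 (2), helper153 #5286 (7))

`x` an involution (`x * x = 1`) of the finite group `G`, `M ≤ D ≤ G` with `|D : M| = 2`.
* `exists_hom`: some homomorphism `G → {±1}` maps `x` to `(-1) ^ n`, `n` the number of cosets `g D` with
  `g⁻¹ x g ∈ D - M`.
* `even_card`: if `G` has no subgroup of index 2 and `T` is a 2-group centralizing `x` then the number of
  cosets `g D` fixed by `T` with `g⁻¹ x g ∈ D - M` is even.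
* `false_of_unique`: it is not one.
* `false_of_cen`: `D = C(z)`: if `x ∈ C(z) - M`, `T ≤ C(z)`, and `z` is the only conjugate of `z` centralizing `T`
  and `x`: contradiction.
* `mem_of_extremal`: `S` a Sylow 2-subgroup, `z` central in `S`, `x ∈ S`, `C_S(x)` a Sylow 2-subgroup of
  `C(x)`; if all the conjugates `x'` of `x` in `S` with `C_S(x')` Sylow in `C(x')` are `C(z)`-conjugate to
  `x` then `x` lies in all subgroups of index 2 of `C(z)`.
-/

set_option autoImplicit false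

open Subgroup

namespace Cfsg.Agent.GH.KeyTransfer

variable {G : Type*} [Group G]

/-- The coset `g D` with `g⁻¹ x g ∈ D - M`. -/
def Bad (D M : Subgroup G) (x : G) (q : G ⧸ D) : Prop :=
  ∃ g : G, (g : G ⧸ D) = q ∧ g⁻¹ * x * g ∈ D ∧ g⁻¹ * x * g ∉ M

/-- The coset `g D` with `g⁻¹ x g ∈ M`. -/
def Good (D M : Subgroup G) (x : G) (q : G ⧸ D) : Prop :=
  ∃ g : G, (g : G ⧸ D) = q ∧ g⁻¹ * x * g ∈ M

theorem conj_mem {D M : Subgroup G} (hi : M.relIndex D = 2) {d m : G}
    (hd : d ∈ D) (hm : m ∈ M) (hmD : m ∈ D) : d⁻¹ * m * d ∈ M := by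
  have h1 : (M.subgroupOf D).Normal := normal_of_index_eq_two hi
  have h2 := h1.conj_mem ⟨m, hmD⟩ hm ⟨d⁻¹, D.inv_mem hd⟩
  have h3 : d⁻¹ * m * (d⁻¹)⁻¹ ∈ M := h2
  rwa [inv_inv] at h3

theorem good_mk {D M : Subgroup G} (hMD : M ≤ D) (hi : M.relIndex D = 2) {x g : G} :
    Good D M x (g : G ⧸ D) ↔ g⁻¹ * x * g ∈ M := by
  constructor
  · rintro ⟨k, hk, h1⟩
    have h2 : k⁻¹ * g ∈ D := QuotientGroup.eq.mp hk
    have h3 := conj_mem hi h2 h1 (hMD h1)
    have e : (k⁻¹ * g)⁻¹ * (k⁻¹ * x * k) * (k⁻¹ * g) = g⁻¹ * x * g := by group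
    rwa [e] at h3
  · intro h
    exact ⟨g, rfl, h⟩

theorem bad_mk {D M : Subgroup G} (hMD : M ≤ D) (hi : M.relIndex D = 2) {x g : G} :
    Bad D M x (g : G ⧸ D) ↔ g⁻¹ * x * g ∈ D ∧ g⁻¹ * x * g ∉ M := by
  constructor
  · rintro ⟨k, hk, h1, h2⟩
    have h3 : k⁻¹ * g ∈ D := QuotientGroup.eq.mp hk
    have e : (k⁻¹ * g)⁻¹ * (k⁻¹ * x * k) * (k⁻¹ * g) = g⁻¹ * x * g := by group
    refine ⟨?_, fun h4 => h2 ?_⟩
    · rw [← e]
      exact D.mul_mem (D.mul_mem (D.inv_mem h3) h1) h3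
    · have h5 := conj_mem hi (D.inv_mem h3) h4 (hMD h4)
      have e' : (k⁻¹ * g)⁻¹⁻¹ * (g⁻¹ * x * g) * (k⁻¹ * g)⁻¹ = k⁻¹ * x * k := by group
      rwa [e'] at h5
  · intro h
    exact ⟨g, rfl, h⟩

theorem smul_eq_iff {D : Subgroup G} {x g : G} :
    x • (g : G ⧸ D) = (g : G ⧸ D) ↔ g⁻¹ * x * g ∈ D := by
  have h1 : x • (g : G ⧸ D) = ((x * g : G) : G ⧸ D) := rfl
  rw [h1, eq_comm, QuotientGroup.eq, mul_assoc]

section finite

variable [Finite G]

theorem card_prod {D M : Subgroup G} (hMD : M ≤ D) (hi : M.relIndex D = 2)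
    (P : G ⧸ D → Prop) (Q : G ⧸ M → Prop) (hPQ : ∀ g : G, Q (g : G ⧸ M) ↔ P (g : G ⧸ D)) :
    Nat.card {a : G ⧸ M // Q a} = 2 * Nat.card {p : G ⧸ D // P p} := by
  have e1 : {a : G ⧸ M // Q a} ≃ {y : (G ⧸ D) × (D ⧸ M.subgroupOf D) // P y.1} := by
    refine (quotientEquivProdOfLE hMD).subtypeEquiv fun a => ?_
    obtain ⟨g, rfl⟩ := QuotientGroup.mk_surjective a
    exact hPQ g
  have e2 : {y : (G ⧸ D) × (D ⧸ M.subgroupOf D) // P y.1} ≃
      {p : G ⧸ D // P p} × (D ⧸ M.subgroupOf D) :=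
    { toFun := fun y => (⟨y.1.1, y.2⟩, y.1.2)
      invFun := fun y => ⟨(y.1.1, y.2), y.1.2⟩
      left_inv := fun _ => rfl
      right_inv := fun _ => rfl }
  rw [Nat.card_congr (e1.trans e2), Nat.card_prod, mul_comm]
  congr 1

/-- The sign of `x` on `G / M`. -/
theorem exists_hom {D M : Subgroup G} (hMD : M ≤ D) (hi : M.relIndex D = 2) {x : G}
    (hx : x * x = 1) :
    ∃ f : G →* ℤˣ, f x = (-1) ^ Nat.card {q : G ⧸ D // Bad D M x q} := by
  classical
  have : Fintype (G ⧸ M) := Fintype.ofFinite _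
  have : Fintype (G ⧸ D) := Fintype.ofFinite _
  refine ⟨(Equiv.Perm.sign).comp (MulAction.toPermHom G (G ⧸ M)), ?_⟩
  have h2 : (MulAction.toPermHom G (G ⧸ M) x) ^ 2 = 1 := by
    rw [← map_pow, pow_two, hx, map_one]
  rw [MonoidHom.comp_apply, Equiv.Perm.sign_of_pow_two_eq_one h2]
  have hA : Fintype.card (G ⧸ M) = 2 * Nat.card (G ⧸ D) := by
    have h3 := card_prod hMD hi (fun _ => True) (fun _ => True) (fun g => Iff.rfl)
    rw [Nat.card_congr (Equiv.subtypeUnivEquiv fun _ => trivial),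
      Nat.card_congr (Equiv.subtypeUnivEquiv fun _ => trivial), Nat.card_eq_fintype_card] at h3
    exact h3
  have hB : Fintype.card (Function.fixedPoints (MulAction.toPermHom G (G ⧸ M) x)) =
      2 * Nat.card {q : G ⧸ D // Good D M x q} := by
    rw [← Nat.card_eq_fintype_card]
    refine card_prod hMD hi _ (fun a => a ∈ Function.fixedPoints
      (MulAction.toPermHom G (G ⧸ M) x)) fun g => ?_
    rw [good_mk hMD hi]
    exact smul_eq_iff
  -- the points fixed by `x` on `G / D`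
  have hC : Nat.card (G ⧸ D) ≡ Nat.card {q : G ⧸ D // x • q = q} [MOD 2] := by
    have : Fact (Nat.Prime 2) := ⟨Nat.prime_two⟩
    have h3 := Equiv.Perm.card_fixedPoints_modEq (α := G ⧸ D) (f := fun q => x • q) (p := 2) (n := 1)
      (by
        funext q
        change x • (x • q) = q
        rw [smul_smul, hx, one_smul])
    rw [← Nat.card_eq_fintype_card, ← Nat.card_eq_fintype_card] at h3
    exact h3
  have hD : Nat.card {q : G ⧸ D // x • q = q} = Nat.card {q : G ⧸ D // Bad D M x q} +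
      Nat.card {q : G ⧸ D // Good D M x q} := by
    rw [← Nat.card_sum]
    refine Nat.card_congr ?_
    refine (Equiv.subtypeEquivRight (q := fun q => Bad D M x q ∨ Good D M x q) fun q => ?_).trans
      (subtypeOrEquiv _ _ ?_)
    · obtain ⟨g, rfl⟩ := QuotientGroup.mk_surjective q
      rw [bad_mk hMD hi, good_mk hMD hi]
      refine smul_eq_iff.trans ⟨fun h => ?_, fun h => ?_⟩
      · by_cases h' : g⁻¹ * x * g ∈ M
        · exact Or.inr h'
        · exact Or.inl ⟨h, h'⟩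
      · rcases h with h | h
        · exact h.1
        · exact hMD h
    · rw [Pi.disjoint_iff]
      intro q
      obtain ⟨g, rfl⟩ := QuotientGroup.mk_surjective q
      rw [Prop.disjoint_iff, not_and]
      rw [bad_mk hMD hi, good_mk hMD hi]
      exact fun h => h.2
  have hle : Nat.card {q : G ⧸ D // Good D M x q} ≤ Nat.card (G ⧸ D) :=
    Nat.card_le_card_of_injective _ Subtype.val_injective
  rw [hA, hB, Int.units_pow_eq_pow_mod_two,
    Int.units_pow_eq_pow_mod_two _ (Nat.card {q : G ⧸ D // Bad D M x q})]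
  congr 1
  have hC' : Nat.card (G ⧸ D) % 2 = Nat.card {q : G ⧸ D // x • q = q} % 2 := hC
  rw [hD] at hC'
  omega

/-- **The parity statement.** -/
theorem even_card (hG : ∀ H : Subgroup G, H.index ≠ 2) {D M : Subgroup G} (hMD : M ≤ D)
    (hi : M.relIndex D = 2) {x : G} (hx : x * x = 1) {T : Subgroup G} (hT : IsPGroup 2 T)
    (hTx : ∀ t ∈ T, t * x = x * t) :
    Even (Nat.card {q : G ⧸ D // Bad D M x q ∧ ∀ t ∈ T, t • q = q}) := by
  have : Fact (Nat.Prime 2) := ⟨Nat.prime_two⟩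
  obtain ⟨f, hf⟩ := exists_hom hMD hi hx
  have h1 : f x = 1 := by
    by_contra h1
    have h2 : f x = -1 := (Int.units_eq_one_or _).resolve_left h1
    obtain ⟨H, -, hH, -⟩ := Transfer.ThompsonTransfer.exists_normal_index_two f x h2
    exact hG H hH
  rw [h1] at hf
  have h2 : Even (Nat.card {q : G ⧸ D // Bad D M x q}) := by
    rw [← Nat.not_odd_iff_even]
    intro h3
    rw [h3.neg_one_pow] at hf
    exact absurd hf (by decide)
  -- the action of `T`
  let Ω : SubMulAction T (G ⧸ D) :=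
    { carrier := {q | Bad D M x q}
      smul_mem' := by
        rintro ⟨t, ht⟩ q ⟨g, rfl, h3⟩
        refine ⟨t * g, rfl, ?_⟩
        have e : (t * g)⁻¹ * x * (t * g) = g⁻¹ * x * g := by
          calc (t * g)⁻¹ * x * (t * g) = g⁻¹ * (t⁻¹ * (x * t)) * g := by group
            _ = g⁻¹ * x * g := by rw [← hTx t ht]; group
        rw [e]
        exact h3 }
  have h3 := hT.card_modEq_card_fixedPoints Ω
  have h4 : Nat.card Ω = Nat.card {q : G ⧸ D // Bad D M x q} := rfl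
  have h5 : Nat.card (MulAction.fixedPoints T Ω) =
      Nat.card {q : G ⧸ D // Bad D M x q ∧ ∀ t ∈ T, t • q = q} := by
    refine Nat.card_congr
      { toFun := fun q => ⟨q.1.1, q.1.2, fun t ht => congrArg Subtype.val (q.2 ⟨t, ht⟩)⟩
        invFun := fun q => ⟨⟨q.1, q.2.1⟩, fun t => Subtype.ext (q.2.2 t t.2)⟩
        left_inv := fun _ => rfl
        right_inv := fun _ => rfl }
  rw [h4, h5] at h3
  rw [Nat.even_iff] at h2 ⊢
  rw [← h2]
  exact h3.symm

/-- `D` is not the only coset `gD` fixed by `T` with `g⁻¹ x g ∈ D - M`. -/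
theorem false_of_unique (hG : ∀ H : Subgroup G, H.index ≠ 2) {D M : Subgroup G} (hMD : M ≤ D)
    (hi : M.relIndex D = 2) {x : G} (hx : x * x = 1) {T : Subgroup G} (hT : IsPGroup 2 T)
    (hTx : ∀ t ∈ T, t * x = x * t) (hTD : T ≤ D) (hxD : x ∈ D) (hxM : x ∉ M)
    (hu : ∀ g : G, (∀ t ∈ T, g⁻¹ * t * g ∈ D) → g⁻¹ * x * g ∈ D → g⁻¹ * x * g ∉ M → g ∈ D) :
    False := by
  have h1 := even_card hG hMD hi hx hT hTx
  have h2 : Nat.card {q : G ⧸ D // Bad D M x q ∧ ∀ t ∈ T, t • q = q} = 1 := by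
    rw [Nat.card_eq_one_iff_unique]
    refine ⟨⟨?_⟩, ⟨⟨((1 : G) : G ⧸ D), ?_, ?_⟩⟩⟩
    · have key : ∀ q : G ⧸ D, Bad D M x q → (∀ t ∈ T, t • q = q) → q = ((1 : G) : G ⧸ D) := by
        rintro q ⟨g, rfl, h3, h4⟩ h5
        have h6 : g ∈ D := hu g (fun t ht => smul_eq_iff.mp (h5 t ht)) h3 h4
        rw [QuotientGroup.eq, mul_one]
        exact D.inv_mem h6
      rintro ⟨a, ha1, ha2⟩ ⟨b, hb1, hb2⟩
      exact Subtype.ext ((key a ha1 ha2).trans (key b hb1 hb2).symm)
    · rw [bad_mk hMD hi]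
      simpa using And.intro hxD hxM
    · intro t ht
      rw [smul_eq_iff]
      simpa using hTD ht
  rw [h2] at h1
  exact absurd h1 (by decide)

/-- `D = C(z)`: `T` a 2-subgroup of `C(x) ∩ C(z)`, `z` the only conjugate of `z` centralizing `T` and `x`
(for instance `T` Sylow in `C(x)` and `z` the only conjugate of `z` in `Z(T)`).  Then `x` lies in all
the subgroups of index 2 of `C(z)`. -/
theorem false_of_cen (hG : ∀ H : Subgroup G, H.index ≠ 2) {x z : G} (hx : x * x = 1)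
    {M : Subgroup G} (hMD : M ≤ centralizer ({z} : Set G))
    (hi : M.relIndex (centralizer ({z} : Set G)) = 2) {T : Subgroup G} (hT : IsPGroup 2 T)
    (hTx : ∀ t ∈ T, t * x = x * t) (hTz : ∀ t ∈ T, t * z = z * t) (hxz : x * z = z * x)
    (hxM : x ∉ M)
    (hu : ∀ g : G, (g * z * g⁻¹) * x = x * (g * z * g⁻¹) →
      (∀ t ∈ T, (g * z * g⁻¹) * t = t * (g * z * g⁻¹)) → g * z * g⁻¹ = z) : False := by
  have key : ∀ g t : G, g⁻¹ * t * g ∈ centralizer ({z} : Set G) →
      (g * z * g⁻¹) * t = t * (g * z * g⁻¹) := by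
    intro g t h
    rw [mem_centralizer_singleton_iff] at h
    calc (g * z * g⁻¹) * t = g * (z * (g⁻¹ * t * g)) * g⁻¹ := by group
      _ = g * ((g⁻¹ * t * g) * z) * g⁻¹ := by rw [h]
      _ = t * (g * z * g⁻¹) := by group
  refine false_of_unique hG hMD hi hx hT hTx
    (fun t ht => mem_centralizer_singleton_iff.mpr (hTz t ht))
    (mem_centralizer_singleton_iff.mpr hxz) hxM fun g h1 h2 _ => ?_
  have h3 := hu g (key g x h2) fun t ht => key g t (h1 t ht)
  rw [mem_centralizer_singleton_iff]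
  calc g * z = (g * z * g⁻¹) * g := by group
    _ = z * g := by rw [h3]

/-- `helper153 #5286 (7)`. -/
theorem mem_of_extremal (hG : ∀ H : Subgroup G, H.index ≠ 2) (S : Sylow 2 G) {x z : G}
    (hx : x * x = 1) (hxS : x ∈ (S : Subgroup G)) (hzS : ∀ s ∈ (S : Subgroup G), s * z = z * s)
    (hext : ∀ c : Subgroup G, IsPGroup 2 c → c ≤ centralizer ({x} : Set G) →
      Nat.card c ≤ Nat.card ((S : Subgroup G) ⊓ centralizer ({x} : Set G) : Subgroup G))
    (hall : ∀ g : G, g⁻¹ * x * g ∈ (S : Subgroup G) →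
      (∀ c : Subgroup G, IsPGroup 2 c → c ≤ centralizer ({g⁻¹ * x * g} : Set G) →
        Nat.card c ≤
          Nat.card ((S : Subgroup G) ⊓ centralizer ({g⁻¹ * x * g} : Set G) : Subgroup G)) →
      ∃ d : G, d * z = z * d ∧ d⁻¹ * (g⁻¹ * x * g) * d = x)
    {M : Subgroup G} (hMD : M ≤ centralizer ({z} : Set G))
    (hi : M.relIndex (centralizer ({z} : Set G)) = 2) : x ∈ M := by
  by_contra hxM
  have hp2 : Fact (Nat.Prime 2) := ⟨Nat.prime_two⟩
  obtain ⟨D, hD⟩ : ∃ D, D = centralizer ({z} : Set G) := ⟨_, rfl⟩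
  rw [← hD] at hMD hi
  have hSD : (S : Subgroup G) ≤ D := fun s hs => hD ▸ mem_centralizer_singleton_iff.mpr (hzS s hs)
  obtain ⟨T, hT⟩ : ∃ T, T = (S : Subgroup G) ⊓ centralizer ({x} : Set G) := ⟨_, rfl⟩
  have hTp : IsPGroup 2 T := S.2.to_le (hT ▸ inf_le_left)
  have hTx : ∀ t ∈ T, t * x = x * t := fun t ht => by
    rw [hT] at ht
    exact mem_centralizer_singleton_iff.mp ht.2
  have hTD : T ≤ D := (hT ▸ inf_le_left : T ≤ (S : Subgroup G)).trans hSD
  have h1 := even_card hG hMD hi hx hTp hTx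
  -- `gD` fixed by `T` with `g⁻¹ x g ∈ D` comes from `C(x)`
  have h2 : ∀ g : G, (∀ t ∈ T, g⁻¹ * t * g ∈ D) → g⁻¹ * x * g ∈ D →
      ∃ d ∈ D, g * d ∈ centralizer ({x} : Set G) := by
    intro g hg hgx
    -- `T ≤ S`, so conjugate `g⁻¹ ⟨T, x⟩ g` into `S` inside `D`
    have hxT : x ∈ T := hT ▸ ⟨hxS, mem_centralizer_singleton_iff.mpr rfl⟩
    have h3 : IsPGroup 2 (T.map (MulAut.conj g⁻¹).toMonoidHom) := hTp.map _
    have h4 : T.map (MulAut.conj g⁻¹).toMonoidHom ≤ D := by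
      rintro _ ⟨t, ht, rfl⟩
      have h5 := hg t ht
      change g⁻¹ * t * (g⁻¹)⁻¹ ∈ D
      rwa [inv_inv]
    -- Sylow in `D`
    have h5 : IsPGroup 2 ((T.map (MulAut.conj g⁻¹).toMonoidHom).subgroupOf D) :=
      h3.comap_of_injective _ D.subtype_injective
    obtain ⟨P, hP⟩ := h5.exists_le_sylow
    obtain ⟨d, hd⟩ := MulAction.exists_smul_eq D P (S.subtype hSD)
    have h6 : ∀ t ∈ T, (d : G) * (g⁻¹ * t * g) * (d : G)⁻¹ ∈ (S : Subgroup G) := by
      intro t ht
      have h7 : (⟨g⁻¹ * t * g, hg t ht⟩ : D) ∈ (P : Subgroup D) := by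
        apply hP
        refine mem_subgroupOf.mpr ⟨t, ht, ?_⟩
        change g⁻¹ * t * (g⁻¹)⁻¹ = g⁻¹ * t * g
        rw [inv_inv]
      have h8 : d * ⟨g⁻¹ * t * g, hg t ht⟩ * d⁻¹ ∈ ((d • P : Sylow 2 D) : Subgroup D) := by
        rw [Sylow.coe_subgroup_smul]
        exact Subgroup.smul_mem_pointwise_smul _ (MulAut.conj d) _ h7
      rw [hd] at h8
      exact h8
    -- the extremal conjugate `(g d⁻¹)⁻¹ x (g d⁻¹)`
    have e1 : ∀ t : G, (d : G) * (g⁻¹ * t * g) * (d : G)⁻¹ =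
        (g * (d : G)⁻¹)⁻¹ * t * (g * (d : G)⁻¹) := fun t => by group
    have h7 := hall (g * (d : G)⁻¹) (by rw [← e1]; exact h6 x hxT) (by
      intro c hc hcx
      -- `c` maps into `C(x)`
      have h8 : Nat.card c ≤ Nat.card T := by
        rw [hT]
        have h9 := hext (c.map (MulAut.conj (g * (d : G)⁻¹)).toMonoidHom) (hc.map _) (by
          rintro _ ⟨a, ha, rfl⟩
          have h10 := mem_centralizer_singleton_iff.mp (hcx ha)
          rw [mem_centralizer_singleton_iff]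
          change (g * (d : G)⁻¹) * a * (g * (d : G)⁻¹)⁻¹ * x =
            x * ((g * (d : G)⁻¹) * a * (g * (d : G)⁻¹)⁻¹)
          calc (g * (d : G)⁻¹) * a * (g * (d : G)⁻¹)⁻¹ * x
              = (g * (d : G)⁻¹) * (a * ((g * (d : G)⁻¹)⁻¹ * x * (g * (d : G)⁻¹))) *
                (g * (d : G)⁻¹)⁻¹ := by group
            _ = (g * (d : G)⁻¹) * (((g * (d : G)⁻¹)⁻¹ * x * (g * (d : G)⁻¹)) * a) *
                (g * (d : G)⁻¹)⁻¹ := by rw [h10]
            _ = x * ((g * (d : G)⁻¹) * a * (g * (d : G)⁻¹)⁻¹) := by group)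
        rwa [Subgroup.card_map_of_injective (MulAut.conj (g * (d : G)⁻¹)).injective] at h9
      refine h8.trans ?_
      have h9 : T.map (MulAut.conj (g * (d : G)⁻¹)⁻¹).toMonoidHom ≤
          (S : Subgroup G) ⊓ centralizer ({(g * (d : G)⁻¹)⁻¹ * x * (g * (d : G)⁻¹)} : Set G) := by
        rintro _ ⟨t, ht, rfl⟩
        have e2 : (MulAut.conj (g * (d : G)⁻¹)⁻¹).toMonoidHom t =
            (g * (d : G)⁻¹)⁻¹ * t * (g * (d : G)⁻¹) := by
          change (g * (d : G)⁻¹)⁻¹ * t * ((g * (d : G)⁻¹)⁻¹)⁻¹ = _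
          rw [inv_inv]
        rw [e2]
        refine mem_inf.mpr ⟨by rw [← e1]; exact h6 t ht, ?_⟩
        rw [mem_centralizer_singleton_iff]
        calc (g * (d : G)⁻¹)⁻¹ * t * (g * (d : G)⁻¹) *
              ((g * (d : G)⁻¹)⁻¹ * x * (g * (d : G)⁻¹))
            = (g * (d : G)⁻¹)⁻¹ * (t * x) * (g * (d : G)⁻¹) := by group
          _ = (g * (d : G)⁻¹)⁻¹ * (x * t) * (g * (d : G)⁻¹) := by rw [hTx t ht]
          _ = (g * (d : G)⁻¹)⁻¹ * x * (g * (d : G)⁻¹) *
              ((g * (d : G)⁻¹)⁻¹ * t * (g * (d : G)⁻¹)) := by group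
      have h10 := Subgroup.card_le_of_le h9
      rwa [Subgroup.card_map_of_injective (MulAut.conj (g * (d : G)⁻¹)⁻¹).injective] at h10)
    obtain ⟨e, he, hex⟩ := h7
    refine ⟨(d : G)⁻¹ * e, D.mul_mem (D.inv_mem d.2) ?_, ?_⟩
    · rw [hD]; exact mem_centralizer_singleton_iff.mpr he
    · rw [mem_centralizer_singleton_iff]
      have e3 : (g * ((d : G)⁻¹ * e)) * x =
          (g * ((d : G)⁻¹ * e)) * (e⁻¹ * ((g * (d : G)⁻¹)⁻¹ * x * (g * (d : G)⁻¹)) * e) := by
        rw [hex]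
      rw [e3]
      group
  -- so these cosets are the fixed points of `T` on `C(x) / C(x) ∩ D`
  obtain ⟨C, hC⟩ : ∃ C, C = centralizer ({x} : Set G) := ⟨_, rfl⟩
  have hTC : T ≤ C := by rw [hT, hC]; exact inf_le_right
  have hcard : Nat.card {q : G ⧸ D // Bad D M x q ∧ ∀ t ∈ T, t • q = q} =
      Nat.card {q : C ⧸ D.subgroupOf C // ∀ t : C, (t : G) ∈ T → t • q = q} := by
    symm
    let F : C ⧸ D.subgroupOf C → G ⧸ D := Quotient.map' (fun c : C => (c : G)) (by
      intro a b hab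
      rw [QuotientGroup.leftRel_apply] at hab ⊢
      exact hab)
    have hF : ∀ c : C, F (c : C ⧸ D.subgroupOf C) = ((c : G) : G ⧸ D) := fun c => rfl
    have hFinj : Function.Injective F := by
      intro a b hab
      obtain ⟨a, rfl⟩ := QuotientGroup.mk_surjective a
      obtain ⟨b, rfl⟩ := QuotientGroup.mk_surjective b
      rw [hF, hF, QuotientGroup.eq] at hab
      rw [QuotientGroup.eq]
      exact hab
    refine Nat.card_congr (Equiv.ofBijective
      (fun q => (⟨F q.1, ?_, ?_⟩ : {q : G ⧸ D // Bad D M x q ∧ ∀ t ∈ T, t • q = q})) ⟨?_, ?_⟩)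
    · obtain ⟨q, hq⟩ := q
      obtain ⟨c, rfl⟩ := QuotientGroup.mk_surjective q
      rw [hF, bad_mk hMD hi]
      have h3 : (c : G)⁻¹ * x * c = x := by
        have h4 : (c : G) * x = x * c := mem_centralizer_singleton_iff.mp
          ((le_of_eq hC : C ≤ centralizer ({x} : Set G)) c.2)
        rw [mul_assoc, ← h4]
        group
      rw [h3]
      exact ⟨hSD hxS, hxM⟩
    · obtain ⟨q, hq⟩ := q
      obtain ⟨c, rfl⟩ := QuotientGroup.mk_surjective q
      intro t ht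
      have h3 := hq ⟨t, hTC ht⟩ ht
      exact congrArg F h3
    · intro a b hab
      exact Subtype.ext (hFinj (congrArg Subtype.val hab))
    · rintro ⟨q, hq, hqT⟩
      obtain ⟨g, rfl⟩ := QuotientGroup.mk_surjective q
      obtain ⟨d, hd, hgd⟩ := h2 g (fun t ht => smul_eq_iff.mp (hqT t ht)) ((bad_mk hMD hi).mp hq).1
      rw [← hC] at hgd
      have h3 : F ((⟨g * d, hgd⟩ : C) : C ⧸ D.subgroupOf C) = (g : G ⧸ D) := by
        rw [hF, eq_comm, QuotientGroup.eq]
        change g⁻¹ * (g * d) ∈ D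
        rwa [inv_mul_cancel_left]
      refine ⟨⟨((⟨g * d, hgd⟩ : C) : C ⧸ D.subgroupOf C), ?_⟩, Subtype.ext h3⟩
      intro t ht
      apply hFinj
      rw [h3]
      have h4 := hqT t ht
      rw [← h3] at h4
      exact h4.trans h3
  -- which is odd
  rw [hcard] at h1
  have hTp' : IsPGroup 2 (T.subgroupOf C) := hTp.comap_of_injective _ C.subtype_injective
  have h3 := hTp'.card_modEq_card_fixedPoints (C ⧸ D.subgroupOf C)
  have h4 : Nat.card (MulAction.fixedPoints (T.subgroupOf C) (C ⧸ D.subgroupOf C)) =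
      Nat.card {q : C ⧸ D.subgroupOf C // ∀ t : C, (t : G) ∈ T → t • q = q} :=
    Nat.card_congr
      { toFun := fun q => ⟨q.1, fun t ht => q.2 ⟨t, ht⟩⟩
        invFun := fun q => ⟨q.1, fun t => q.2 t.1 t.2⟩
        left_inv := fun _ => rfl
        right_inv := fun _ => rfl }
  rw [h4] at h3
  have h5 : ¬ 2 ∣ Nat.card (C ⧸ D.subgroupOf C) := by
    -- `T` is a Sylow 2-subgroup of `C`, contained in `D`
    obtain ⟨P, hP⟩ := hTp'.exists_le_sylow
    have h6 : Nat.card ((P : Subgroup C).map C.subtype) ≤ Nat.card T := by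
      rw [hT]
      exact hext _ (P.2.map _) (by rw [← hC]; exact map_subtype_le _)
    have h7 : (P : Subgroup C) = T.subgroupOf C := by
      symm
      apply eq_of_le_of_card_ge hP
      rw [Nat.card_congr (subgroupOfEquivOfLe hTC).toEquiv]
      rwa [Subgroup.card_map_of_injective C.subtype_injective] at h6
    have h8 := P.not_dvd_index
    rw [h7] at h8
    intro h9
    apply h8
    exact h9.trans (Subgroup.index_dvd_of_le (comap_mono hTD))
  rw [Nat.even_iff] at h1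
  apply h5
  have h6 : Nat.card (C ⧸ D.subgroupOf C) % 2 = _ := h3
  rw [h1] at h6
  exact Nat.dvd_of_mod_eq_zero h6

end finite

end Cfsg.Agent.GH.KeyTransfer
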