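import Cfsg.Agent.GH.QGClosed
import Cfsg.Agent.TwoFusion.TransferIndex

/-!
# GH-Q, scenario B, world gamma: the end

`Q⟨t⟩` is strongly closed in `S`, disjoint from the strongly closed `F`; so `F = 1`, and a transfer
argument shows that `S = Q⟨t⟩`.
-/

set_option autoImplicit false

namespace Cfsg.Agent.GH.QGEnd

open Subgroup Cfsg.Agent.Cit Cfsg.Agent.GH.QSd Cfsg.Agent.GH.QGFrame Cfsg.Agent.GH.QGamma
  Cfsg.Agent.GH.QGClosed

open scoped commutatorElement

variable {G : Type*} [Group G] [Finite G] {Z : Set G} {K : G → Subgroup G} {X : G → Set G}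

section

variable (h : Gamma Z K X) {z y : G} {S : Subgroup G} (a : At Z z S) (hy : y ∈ Z) (hyS : y ∈ S)
  (hyz : y ≠ z)

include h a

omit [Finite G] in
theorem le_normalizer_K : S ≤ normalizer (K z : Set G) := by
  intro s hs
  rw [mem_normalizer_iff]
  intro k
  have hsz := a.cent s hs
  constructor
  · intro hk
    exact h.K_conj a.mem hsz hk
  · intro hk
    have h1 : s⁻¹ * z = z * s⁻¹ := a.cent _ (S.inv_mem hs)
    have h2 := h.K_conj a.mem h1 hk
    have h3 : s⁻¹ * (s * k * s⁻¹) * s⁻¹⁻¹ = k := by group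
    rwa [h3] at h2

include hy hyS hyz

/-- the coset `K z y` is independent of `y` -/
theorem mul_mem_K {y' e : G} (hy' : y' ∈ Z) (hyz' : y' ≠ z) (hyc' : y' * z = z * y') (heS : e ∈ S)
    (he : e * y' ∈ K z) : e * y ∈ K z := by
  have hz := a.mem
  have hn := le_normalizer_K h a
  have hSM : Syl S (S ⊔ K z) := OneBasic.syl_of_le a.syl le_sup_left le_top
  have hy'M : y' ∈ S ⊔ K z := by
    have h1 : y' = e⁻¹ * (e * y') := by group
    rw [h1]
    exact mul_mem (inv_mem (mem_sup_left heS)) (mem_sup_right he)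
  obtain ⟨T, hT, hyT⟩ := OneBasic.exists_syl_ge (h.pg hy') (zpowers_le.2 hy'M)
  obtain ⟨m, hm, hmT⟩ := hT.exists_conj hSM
  obtain ⟨s, hs, l, hl, rfl⟩ := OneBasic.exists_mul_of_mem_sup hn hm
  have h1 : s * l * y' * (s * l)⁻¹ ∈ S := by
    rw [← hmT]; exact conj_mem_cj (hyT (mem_zpowers y'))
  have h2 : l * y' * l⁻¹ ∈ S := by
    have : l * y' * l⁻¹ = s⁻¹ * (s * l * y' * (s * l)⁻¹) * s := by group
    rw [this]
    exact S.mul_mem (S.mul_mem (S.inv_mem hs) h1) hs
  have hlz := h.K_comm z hz l hl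
  have hne : l * y' * l⁻¹ ≠ z := by
    intro he'
    apply hyz'
    have h1 : y' = l⁻¹ * z * l := by rw [← he']; group
    rw [h1, mul_assoc, ← hlz]; group
  obtain ⟨k, hkS, hkK, hk⟩ := exists_conj_Q h a hy hyS hyz (h.conj y' hy' l) h2 hne
  have hez := a.cent e heS
  have h3 : e * (l * y' * l⁻¹) ∈ K z := by
    have : e * (l * y' * l⁻¹) = (e * l * e⁻¹) * (e * y') * l⁻¹ := by group
    rw [this]
    exact (K z).mul_mem ((K z).mul_mem (h.K_conj hz hez hl) he) ((K z).inv_mem hl)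
  have h4 : e * y = (e * k⁻¹ * e⁻¹) * (e * (l * y' * l⁻¹)) * k := by
    rw [← hk]; group
  rw [h4]
  exact (K z).mul_mem ((K z).mul_mem (h.K_conj hz hez ((K z).inv_mem hkK)) h3) hkK

end

/-- the conjugates of the elements of `Q⟨t⟩` -/
def EE (Z : Set G) (K : G → Subgroup G) (e : G) : Prop :=
  e = 1 ∨ ∃ y ∈ Z, ∃ y' ∈ Z, y' ≠ y ∧ y' * y = y * y' ∧ y ∈ zpowers e ∧ (e ∈ K y ∨ e * y' ∈ K y)

omit [Finite G] in
theorem EE.conj (h : Gamma Z K X) {e : G} (he : EE Z K e) (g : G) : EE Z K (g * e * g⁻¹) := by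
  rcases he with rfl | ⟨y, hy, y', hy', hne, hc, hye, hcase⟩
  · left; group
  · right
    refine ⟨_, h.conj y hy g, _, h.conj y' hy' g, ?_, ?_, ?_, ?_⟩
    · intro he
      exact hne (by simpa using he)
    · calc g * y' * g⁻¹ * (g * y * g⁻¹) = g * (y' * y) * g⁻¹ := by group
        _ = g * (y * y') * g⁻¹ := by rw [hc]
        _ = g * y * g⁻¹ * (g * y' * g⁻¹) := by group
    · obtain ⟨i, rfl⟩ := mem_zpowers_iff.1 hye
      exact mem_zpowers_iff.2 ⟨i, by rw [_root_.conj_zpow]⟩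
    · rcases hcase with h1 | h1
      · exact Or.inl (h.K_cj y hy g e h1)
      · right
        have := h.K_cj y hy g _ h1
        have e1 : g * (e * y') * g⁻¹ = g * e * g⁻¹ * (g * y' * g⁻¹) := by group
        rwa [e1] at this

section

variable (h : Gamma Z K X) {z y : G} {S : Subgroup G} (a : At Z z S) (hy : y ∈ Z) (hyS : y ∈ S)
  (hyz : y ≠ z)

include h a hy hyS hyz

theorem EE.mem {e : G} (heS : e ∈ S) (he : EE Z K e) : e ∈ K z ∨ e * y ∈ K z := by
  have hz := a.mem
  have hyc := a.cent y hyS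
  rcases he with rfl | ⟨w, hw, w', hw', hne, hc, hwe, hcase⟩
  · exact Or.inl (K z).one_mem
  by_cases hwz : w = z
  · subst hwz
    rcases hcase with h1 | h1
    · exact Or.inl h1
    · exact Or.inr (mul_mem_K h a hy hyS hyz hw' hne hc heS h1)
  · -- `w ≠ z`
    have hwS : w ∈ S := (zpowers_le.2 heS) hwe
    have hez := a.cent e heS
    have hew : e * w = w * e := by
      obtain ⟨i, rfl⟩ := mem_zpowers_iff.1 hwe
      exact ((Commute.refl e).zpow_right i).eq
    have hwc := a.cent w hwS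
    obtain ⟨S₁, a₁, heS₁, hzS₁⟩ := h.lift_two hw (a.pgz heS) (h.pg hz) hew hwc.symm hez
    have key : e = w → e ∈ K z ∨ e * y ∈ K z := by
      rintro rfl
      right
      obtain ⟨k, hkS, hkK, hk⟩ := exists_conj_Q h a hy hyS hyz hw hwS hwz
      have h1 : e * y = k * (y * k⁻¹ * y⁻¹) := by
        rw [← hk, h.inv_eq hy]; group
      rw [h1]
      exact (K z).mul_mem hkK (h.K_conj hz hyc ((K z).inv_mem hkK))
    rcases hcase with h1 | h1
    · rcases h.cent w S₁ a₁ z hz hzS₁ (Ne.symm hwz) e heS₁ h1 hez with h2 | h2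
      · left; rw [h2]; exact (K z).one_mem
      · exact key h2
    · have h2 := mul_mem_K h a₁ hz hzS₁ (Ne.symm hwz) hw' hne hc heS₁ h1
      have h3 : (e * z) * z = z * (e * z) := by rw [← mul_assoc z, ← hez]
      rcases h.cent w S₁ a₁ z hz hzS₁ (Ne.symm hwz) (e * z) (S₁.mul_mem heS₁ hzS₁) h2 h3 with h4 | h4
      · left
        have h5 : e = z := by
          rw [← h.inv_eq hz]; exact eq_inv_of_mul_eq_one_left h4
        rw [h5]; exact h.zK z hz
      · exfalso
        -- `e = w z`, `e² = 1`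
        have h5 : e = w * z := by rw [← h4, mul_assoc, h.sq z hz, mul_one]
        have h6 : e * e = 1 := by
          rw [h5]
          calc w * z * (w * z) = w * (z * w) * z := by group
            _ = w * (w * z) * z := by rw [hwc]
            _ = (w * w) * (z * z) := by group
            _ = 1 := by rw [h.sq w hw, h.sq z hz, mul_one]
        obtain ⟨i, hi⟩ := mem_zpowers_iff.1 hwe
        rcases Int.even_or_odd' i with ⟨j, rfl | rfl⟩
        · apply h.ne w hw
          rw [← hi, zpow_mul, zpow_two, h6, one_zpow]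
        · apply h.ne z hz
          have h7 : e = w := by
            rw [← hi, zpow_add, zpow_mul, zpow_two, h6, one_zpow, one_mul, zpow_one]
          rw [h7] at h5
          exact left_eq_mul.1 h5

theorem EE.of_mem {e : G} (heS : e ∈ S) (he : e ∈ K z ∨ e * y ∈ K z) : EE Z K e := by
  have hz := a.mem
  have hyc := a.cent y hyS
  obtain ⟨c, v, n, hsd⟩ := exists_sd' h a hy hyS hyz
  have aux : ∀ b : G, b ∈ S → b ∈ K z → b ≠ 1 → z ∈ zpowers b := by
    intro b hbS hbK hb1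
    obtain ⟨u, hu, huu, hu1⟩ := exists_involution (a.pgz hbS) hb1
    have h1 : u ∈ S ⊓ K z := (zpowers_le.2 (⟨hbS, hbK⟩ : b ∈ S ⊓ K z)) hu
    rw [← hsd.gq.eq_z h1 huu hu1]
    exact hu
  rcases he with he | he
  · by_cases h1 : e = 1
    · exact Or.inl h1
    · right
      exact ⟨z, hz, y, hy, hyz, hyc, aux e heS he h1, Or.inl he⟩
  · right
    set q := e * y with hq
    have hqS : q ∈ S := S.mul_mem heS hyS
    have heq : e = q * y := by rw [hq, mul_assoc, h.sq y hy, mul_one]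
    have hee : e * e = q * (y * q * y⁻¹) := by
      rw [heq, h.inv_eq hy]; group
    by_cases h1 : e * e = 1
    · rw [hee] at h1
      obtain ⟨-, k, hk, hk'⟩ := hsd.exists_conj (q := q) ⟨hqS, he⟩ (Or.inl h1)
      have heZ : e ∈ Z := by rw [heq, ← hk']; exact h.conj y hy k
      refine ⟨e, heZ, z, hz, ?_, (a.cent e heS).symm, mem_zpowers e, Or.inl (h.zK e heZ)⟩
      intro h2
      have h3 : y = e * q := by rw [hq, ← mul_assoc, h.sq e heZ, one_mul]
      have h4 : y ∈ S ⊓ K z := by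
        refine ⟨hyS, ?_⟩
        rw [h3, ← h2]
        exact (K z).mul_mem (h.zK z hz) he
      exact hyz (hsd.gq.eq_z h4 (h.sq y hy) (h.ne y hy))
    · refine ⟨z, hz, y, hy, hyz, hyc, ?_, Or.inr he⟩
      have h2 : e * e ∈ K z := by
        rw [hee]; exact (K z).mul_mem he (h.K_conj hz hyc he)
      have h3 := aux (e * e) (S.mul_mem heS heS) h2 h1
      have h4 : zpowers (e * e) ≤ zpowers e := by
        rw [zpowers_le]
        exact mul_mem (mem_zpowers e) (mem_zpowers e)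
      exact h4 h3

end

/-- the subgroup `Q⟨t⟩` -/
def E (h : Gamma Z K X) {z y : G} {S : Subgroup G} (a : At Z z S) (hy : y ∈ Z) (hyS : y ∈ S) :
    Subgroup G where
  carrier := {s | s ∈ S ∧ (s ∈ K z ∨ s * y ∈ K z)}
  one_mem' := ⟨S.one_mem, Or.inl (K z).one_mem⟩
  mul_mem' := by
    rintro s t ⟨hs, hs'⟩ ⟨ht, ht'⟩
    refine ⟨S.mul_mem hs ht, ?_⟩
    have hyc := a.cent y hyS
    have hyi := h.inv_eq hy
    rcases hs' with hs' | hs' <;> rcases ht' with ht' | ht'
    · exact Or.inl ((K z).mul_mem hs' ht')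
    · right
      rw [mul_assoc]; exact (K z).mul_mem hs' ht'
    · right
      have e1 : s * t * y = (s * y) * (y * t * y⁻¹) := by
        have : (s * y) * (y * t * y⁻¹) = s * (y * y) * t * y⁻¹ := by group
        rw [this, h.sq y hy, mul_one, hyi]
      rw [e1]; exact (K z).mul_mem hs' (h.K_conj a.mem hyc ht')
    · left
      have e1 : s * t = (s * y) * (y * (t * y) * y⁻¹) := by
        have : (s * y) * (y * (t * y) * y⁻¹) = s * (y * y) * t := by group
        rw [this, h.sq y hy, mul_one]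
      rw [e1]; exact (K z).mul_mem hs' (h.K_conj a.mem hyc ht')
  inv_mem' := by
    rintro s ⟨hs, hs'⟩
    refine ⟨S.inv_mem hs, ?_⟩
    have hyc := a.cent y hyS
    have hyi := h.inv_eq hy
    rcases hs' with hs' | hs'
    · exact Or.inl ((K z).inv_mem hs')
    · right
      have e1 : s⁻¹ * y = y * (s * y)⁻¹ * y⁻¹ := by
        have : y * (s * y)⁻¹ * y⁻¹ = s⁻¹ * y⁻¹ := by group
        rw [this, hyi]
      rw [e1]; exact h.K_conj a.mem hyc ((K z).inv_mem hs')

theorem mem_E (h : Gamma Z K X) {z y : G} {S : Subgroup G} (a : At Z z S) (hy : y ∈ Z) (hyS : y ∈ S)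
    {s : G} : s ∈ E h a hy hyS ↔ s ∈ S ∧ (s ∈ K z ∨ s * y ∈ K z) := Iff.rfl

theorem isStronglyClosed_E (h : Gamma Z K X) {z y : G} {S : Subgroup G} (a : At Z z S) (hy : y ∈ Z)
    (hyS : y ∈ S) (hyz : y ≠ z) : Cfsg.IsStronglyClosed (E h a hy hyS) S := by
  refine ⟨fun _ hs => hs.1, fun s hs g hg => ⟨hg, ?_⟩⟩
  have h1 := EE.of_mem h a hy hyS hyz hs.1 hs.2
  exact EE.mem h a hy hyS hyz hg (h1.conj h g)

theorem E_inf_F (h : Gamma Z K X) {z y : G} {S : Subgroup G} (a : At Z z S) (hy : y ∈ Z)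
    (hyS : y ∈ S) (hyz : y ≠ z) : E h a hy hyS ⊓ F h a hy hyS hyz = ⊥ := by
  rw [eq_bot_iff]
  rintro s ⟨⟨hsS, hs⟩, -, hs'⟩
  rw [mem_bot]
  obtain ⟨hX, hX'⟩ := (FF_iff h a hy hyS hyz hsS).1 hs'
  rcases hs with hs | hs
  · rcases h.inf z a.mem s (a.pgz hsS) hs hX with h1 | h1
    · exact h1
    · exfalso
      rw [h1] at hX'
      exact hyz (h.scen y hy z a.mem hX').symm
  · exfalso
    have h1 := (h.D a).inv_mem ⟨hsS, hX⟩
    have h2 := h.comm z a.mem S a.pg (s * y) (S.mul_mem hsS hyS) hs s⁻¹ h1.1 h1.2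
    have h3 : y = (s * y) * s⁻¹ := by rw [h2]; group
    exact hyz (not_mem_qd h a hy (S.mul_mem hsS hyS) hs h1.1 h1.2 h3)

/-- elements of `Z ∪ {1, z}`: the involutions of `Q⟨t⟩` lie in `Z` -/
theorem mem_Z_of_E (h : Gamma Z K X) {z y : G} {S : Subgroup G} (a : At Z z S) (hy : y ∈ Z)
    (hyS : y ∈ S) (hyz : y ≠ z) {e : G} (he : e ∈ E h a hy hyS) (hee : e * e = 1) (he1 : e ≠ 1) :
    e ∈ Z := by
  rcases EE.of_mem h a hy hyS hyz he.1 he.2 with h1 | ⟨w, hw, w', hw', hne, hc, hwe, -⟩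
  · exact absurd h1 he1
  · obtain ⟨i, hi⟩ := mem_zpowers_iff.1 hwe
    rcases Int.even_or_odd' i with ⟨j, rfl | rfl⟩
    · exfalso
      apply h.ne w hw
      rw [← hi, zpow_mul, zpow_two, hee, one_zpow]
    · have h7 : e = w := by
        rw [← hi, zpow_add, zpow_mul, zpow_two, hee, one_zpow, one_mul, zpow_one]
      rw [h7]; exact hw

/-- if `S = Q⟨t⟩` for every Sylow 2-subgroup then the 2-rank is at most two -/
theorem card_le_four (h : Gamma Z K X) {z y : G} {S : Subgroup G} (a : At Z z S) (hy : y ∈ Z)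
    (hyS : y ∈ S) (hyz : y ≠ z) (hE : E h a hy hyS = S) {A : Subgroup G}
    (hA : ∀ x ∈ A, x * x = 1) : Nat.card A ≤ 4 := by
  classical
  -- all involutions of `G` lie in `Z`
  have hZ : ∀ x : G, x * x = 1 → x ≠ 1 → x ∈ Z := by
    intro x hx hx1
    obtain ⟨T, hT, hxT⟩ := OneBasic.exists_syl_ge (isPGroup_zpowers_of_sq hx)
      (le_top : zpowers x ≤ ⊤)
    obtain ⟨g, -, hg⟩ := hT.exists_conj a.syl
    have h1 : g * x * g⁻¹ ∈ S := by
      rw [← hg]; exact conj_mem_cj (hxT (mem_zpowers x))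
    have h2 : g * x * g⁻¹ ∈ Z := by
      refine mem_Z_of_E h a hy hyS hyz (hE.symm ▸ h1) ?_ ?_
      · calc g * x * g⁻¹ * (g * x * g⁻¹) = g * (x * x) * g⁻¹ := by group
          _ = 1 := by rw [hx]; group
      · intro h3
        apply hx1
        have : x = g⁻¹ * (g * x * g⁻¹) * g := by group
        rw [this, h3]; group
    have h3 := h.conj _ h2 g⁻¹
    have h4 : g⁻¹ * (g * x * g⁻¹) * g⁻¹⁻¹ = x := by group
    rwa [h4] at h3
  have hcomm : ∀ u ∈ A, ∀ w ∈ A, u * w = w * u := by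
    intro u hu w hw
    have h1 := hA _ (A.mul_mem hu hw)
    have hu' := inv_eq_of_mul_eq_one_right (hA u hu)
    have hw' := inv_eq_of_mul_eq_one_right (hA w hw)
    have h2 := inv_eq_of_mul_eq_one_right h1
    rw [mul_inv_rev, hu', hw'] at h2
    exact h2.symm
  by_cases h1 : ∃ u ∈ A, u ≠ 1
  · obtain ⟨u, hu, hu1⟩ := h1
    by_cases h2 : ∃ w ∈ A, w ≠ 1 ∧ w ≠ u
    · obtain ⟨w, hw, hw1, hwu⟩ := h2
      have huZ := hZ u (hA u hu) hu1
      have hwZ := hZ w (hA w hw) hw1
      have hsub : (A : Set G) ⊆ ({1, u, w, u * w} : Finset G) := by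
        intro x hx
        by_cases hx1 : x = 1
        · simp [hx1]
        · have hxZ := hZ x (hA x hx) hx1
          rcases eq_of_comm h huZ hwZ hwu (hcomm w hw u hu) hxZ (hcomm x hx u hu)
            (hcomm x hx w hw) with h3 | h3 | h3 <;> simp [h3]
      calc Nat.card A = (A : Set G).ncard := rfl
        _ ≤ (({1, u, w, u * w} : Finset G) : Set G).ncard :=
            Set.ncard_le_ncard hsub (Finset.finite_toSet _)
        _ ≤ 4 := by
            rw [Set.ncard_coe_finset]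
            exact Finset.card_le_four
    · push Not at h2
      have hsub : (A : Set G) ⊆ ({1, u, 1, 1} : Finset G) := by
        intro x hx
        by_cases hx1 : x = 1
        · simp [hx1]
        · simp [h2 x hx hx1]
      calc Nat.card A = (A : Set G).ncard := rfl
        _ ≤ (({1, u, 1, 1} : Finset G) : Set G).ncard :=
            Set.ncard_le_ncard hsub (Finset.finite_toSet _)
        _ ≤ 4 := by
            rw [Set.ncard_coe_finset]
            exact Finset.card_le_four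
  · push Not at h1
    have : A = ⊥ := by
      rw [eq_bot_iff]
      intro x hx
      exact mem_bot.2 (h1 x hx)
    rw [this]
    simp

/-- the two strongly closed subgroups cannot both be nontrivial -/
theorem F_eq_bot [IsSimpleGroup G] (hna : ¬ ∀ a b : G, a * b = b * a)
    (hC1 : ∀ (P : Sylow 2 G) (A B : Subgroup G), A ⊓ B = ⊥ → Cfsg.IsStronglyClosed A P →
      Cfsg.IsStronglyClosed B P →
      ⁅normalClosure (A : Set G), normalClosure (B : Set G)⁆ ≤ Cfsg.oddCore G)
    (h : Gamma Z K X) {z y : G} {S : Subgroup G} (a : At Z z S) (hy : y ∈ Z)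
    (hyS : y ∈ S) (hyz : y ≠ z) : F h a hy hyS hyz = ⊥ := by
  haveI : Fact (Nat.Prime 2) := ⟨Nat.prime_two⟩
  have hS2 : ¬ 2 ∣ S.index := by
    have := a.syl.2.2
    rwa [relIndex_top_right] at this
  let P : Sylow 2 G := a.syl.2.1.toSylow hS2
  have hP : (P : Subgroup G) = S := rfl
  have h1 := hC1 P (E h a hy hyS) (F h a hy hyS hyz) (E_inf_F h a hy hyS hyz)
    (isStronglyClosed_E h a hy hyS hyz) (isStronglyClosed_F h a hy hyS hyz)
  -- the odd core is trivial
  have hodd : Cfsg.oddCore G = ⊥ := by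
    rcases (Lib.Cores.pPrimeCore_normal (G := G) 2).eq_bot_or_eq_top with h2 | h2
    · exact h2
    · exfalso
      have h3 := Lib.Cores.pPrimeCore_coprime (G := G) 2
      rw [h2, Nat.card_congr Subgroup.topEquiv.toEquiv] at h3
      have h4 : orderOf y ∣ Nat.card G := orderOf_dvd_natCard y
      have h5 : orderOf y = 2 := orderOf_eq_prime (by rw [pow_two]; exact h.sq y hy) (h.ne y hy)
      rw [h5] at h4
      have h6 := Nat.dvd_gcd h4 (dvd_refl 2)
      rw [h3] at h6
      omega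
  rw [hodd] at h1
  have hE : normalClosure (E h a hy hyS : Set G) = ⊤ := by
    rcases (normalClosure_normal (s := (E h a hy hyS : Set G))).eq_bot_or_eq_top with h2 | h2
    · exfalso
      have h3 : z ∈ normalClosure (E h a hy hyS : Set G) :=
        subset_normalClosure (show z ∈ E h a hy hyS from ⟨h.z_mem a, Or.inl (h.zK z a.mem)⟩)
      rw [h2, mem_bot] at h3
      exact h.ne z a.mem h3
    · exact h2
  rcases (normalClosure_normal (s := (F h a hy hyS hyz : Set G))).eq_bot_or_eq_top with h2 | h2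
  · rw [eq_bot_iff, ← h2]
    exact subset_normalClosure
  · exfalso
    rw [hE, h2] at h1
    apply hna
    intro u w
    have h3 : ⁅u, w⁆ ∈ ⁅(⊤ : Subgroup G), ⊤⁆ := commutator_mem_commutator (mem_top u) (mem_top w)
    have h4 := h1 h3
    rw [mem_bot, commutatorElement_eq_one_iff_mul_comm] at h4
    exact h4

/-- **World gamma**: `S = Q⟨t⟩` -/
theorem E_eq [IsSimpleGroup G] (hna : ¬ ∀ a b : G, a * b = b * a)
    (hC1 : ∀ (P : Sylow 2 G) (A B : Subgroup G), A ⊓ B = ⊥ → Cfsg.IsStronglyClosed A P →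
      Cfsg.IsStronglyClosed B P →
      ⁅normalClosure (A : Set G), normalClosure (B : Set G)⁆ ≤ Cfsg.oddCore G)
    (h : Gamma Z K X) {z y : G} {S : Subgroup G} (a : At Z z S) (hy : y ∈ Z)
    (hyS : y ∈ S) (hyz : y ≠ z) : E h a hy hyS = S := by
  haveI : Fact (Nat.Prime 2) := ⟨Nat.prime_two⟩
  have hz := a.mem
  have hyc := a.cent y hyS
  have hzS := h.z_mem a
  have hF := F_eq_bot hna hC1 h a hy hyS hyz
  have hF1 : ∀ d ∈ S, d ∈ X z → d ∈ X y → d = 1 := by
    intro d hdS hd hd'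
    have : d ∈ F h a hy hyS hyz := ⟨hdS, (FF_iff h a hy hyS hyz hdS).2 ⟨hd, hd'⟩⟩
    rw [hF] at this
    exact mem_bot.1 this
  have hD0 : ∀ d ∈ S, d ∈ X z → d * y = y * d → d = 1 ∨ d = z := by
    intro d hdS hd hdy
    rcases mem_X_or h hz hy hyz hyc (a.pgz hdS) hd hdy with h1 | h1
    · exact Or.inl (hF1 d hdS hd h1)
    · right
      have h2 := hF1 (d * z) (S.mul_mem hdS hzS) (h.X_mul z S a d hdS hd z hzS (h.zX z hz)) h1
      rw [← h.inv_eq hz]
      exact eq_inv_of_mul_eq_one_left h2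
  have hzE : z ∈ E h a hy hyS := ⟨hzS, Or.inl (h.zK z hz)⟩
  have hEc := isStronglyClosed_E h a hy hyS hyz
  -- every element of `S` is a product `e d`
  have hdec : ∀ s ∈ S, ∃ e ∈ E h a hy hyS, ∃ d ∈ S, d ∈ X z ∧ s = e * d := by
    intro s hs
    obtain ⟨q, hqS, hqK, d, hdS, hdX, hsd⟩ := h.cover z S a y hy hyS hyz s hs
    rcases hsd with rfl | rfl
    · exact ⟨q, ⟨hqS, Or.inl hqK⟩, d, hdS, hdX, rfl⟩
    · refine ⟨q * y, ⟨S.mul_mem hqS hyS, Or.inr ?_⟩, y * d * y⁻¹,
        S.mul_mem (S.mul_mem hyS hdS) (S.inv_mem hyS), h.X_conj hz hyc hdX, ?_⟩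
      · rw [mul_assoc, h.sq y hy, mul_one]; exact hqK
      · calc q * d * y = q * (y * y) * d * y := by rw [h.sq y hy, mul_one]
          _ = q * y * (y * d * y⁻¹) := by rw [h.inv_eq hy]; group
  -- the elements outside `E` form one coset
  have hcos : ∀ s ∈ S, ∀ t ∈ S, s ∉ E h a hy hyS → t ∉ E h a hy hyS → s⁻¹ * t ∈ E h a hy hyS := by
    intro s hs t ht hsE htE
    obtain ⟨e, he, d, hdS, hdX, rfl⟩ := hdec s hs
    obtain ⟨e', he', d', hdS', hdX', rfl⟩ := hdec t ht
    have aux : ∀ e ∈ E h a hy hyS, ∀ d ∈ S, d ∈ X z → e * d ∉ E h a hy hyS → y * d * y⁻¹ = d * z := by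
      intro e he d hdS hdX hn
      by_cases hdy : d * y = y * d
      · exfalso
        apply hn
        apply mul_mem he
        rcases hD0 d hdS hdX hdy with rfl | rfl
        · exact one_mem _
        · exact hzE
      · exact (sq_mem h a hy hyS hyz d hdS hdX hdy).1
    have h1 := aux e he d hdS hdX hsE
    have h2 := aux e' he' d' hdS' hdX' htE
    have h3 : y * (d⁻¹ * d') * y⁻¹ = d⁻¹ * d' := by
      have hzd := a.cent (d⁻¹ * d') (S.mul_mem (S.inv_mem hdS) hdS')
      calc y * (d⁻¹ * d') * y⁻¹ = (y * d * y⁻¹)⁻¹ * (y * d' * y⁻¹) := by group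
        _ = z⁻¹ * (d⁻¹ * d' * z) := by rw [h1, h2]; group
        _ = z⁻¹ * (z * (d⁻¹ * d')) := by rw [hzd]
        _ = d⁻¹ * d' := by group
    have h4 := (h.D a).mul_mem ((h.D a).inv_mem ⟨hdS, hdX⟩) ⟨hdS', hdX'⟩
    have h5 : d⁻¹ * d' ∈ E h a hy hyS := by
      rcases hD0 _ h4.1 h4.2 (mul_comm_of_conj h3).symm with h6 | h6
      · rw [h6]; exact one_mem _
      · rw [h6]; exact hzE
    have h6 : (e * d)⁻¹ * (e' * d') = (d⁻¹ * (e⁻¹ * e') * d⁻¹⁻¹) * (d⁻¹ * d') := by group
    rw [h6]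
    refine mul_mem (hEc.2 _ (mul_mem (inv_mem he) he') d⁻¹ ?_) h5
    exact S.mul_mem (S.mul_mem (S.inv_mem hdS) (S.mul_mem (S.inv_mem he.1) he'.1))
      (S.inv_mem (S.inv_mem hdS))
  have hS2 : ¬ 2 ∣ S.index := by
    have := a.syl.2.2
    rwa [relIndex_top_right] at this
  let P : Sylow 2 G := a.syl.2.1.toSylow hS2
  obtain ⟨N, hN, hN1, hN2⟩ := TwoFusion.TransferIndex.exists_normal_of_fusion P
    (E h a hy hyS) hEc.1 (by
      intro s hs g hg
      by_cases hsE : s ∈ E h a hy hyS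
      · exact mul_mem (inv_mem hsE) (hEc.2 s hsE g hg)
      · refine hcos s hs _ hg hsE ?_
        intro h1
        apply hsE
        have h2 : g⁻¹ * (g * s * g⁻¹) * g⁻¹⁻¹ = s := by group
        have h3 := hEc.2 _ h1 g⁻¹
        rw [h2] at h3
        exact h3 hs)
  have hN2' : N ⊓ S = E h a hy hyS := hN2
  rcases hN.eq_bot_or_eq_top with h1 | h1
  · exfalso
    rw [h1, bot_inf_eq] at hN2'
    rw [← hN2', mem_bot] at hzE
    exact h.ne z hz hzE
  · rw [h1, top_inf_eq] at hN2'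
    exact hN2'.symm

/-- **World gamma**: the 2-rank is at most two -/
theorem card_le_four' [IsSimpleGroup G] (hna : ¬ ∀ a b : G, a * b = b * a)
    (hC1 : ∀ (P : Sylow 2 G) (A B : Subgroup G), A ⊓ B = ⊥ → Cfsg.IsStronglyClosed A P →
      Cfsg.IsStronglyClosed B P →
      ⁅normalClosure (A : Set G), normalClosure (B : Set G)⁆ ≤ Cfsg.oddCore G)
    (h : Gamma Z K X) {z y : G} {S : Subgroup G} (a : At Z z S) (hy : y ∈ Z)
    (hyS : y ∈ S) (hyz : y ≠ z) {A : Subgroup G} (hA : ∀ x ∈ A, x * x = 1) : Nat.card A ≤ 4 :=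
  card_le_four h a hy hyS hyz (E_eq hna hC1 h a hy hyS hyz) hA

end Cfsg.Agent.GH.QGEnd
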