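import Cfsg.Agent.GH.QGEnd
import Cfsg.Agent.Cit.OneQuat
import Cfsg.Agent.Lib.HallHigman

/-!
# GH-Q, scenario B, world gamma: the end for non-simple groups

Instead of the simplicity of `G`: `O(G) = 1`, no subgroup of index two, and the centralizer of a
nonsolvable normal subgroup is trivial. Conclusion: `S` is semidihedral.
-/

set_option autoImplicit false

namespace Cfsg.Agent.GH.QGEndTwo

open Subgroup Cfsg.Agent.Cit Cfsg.Agent.GH.QSd Cfsg.Agent.GH.QGFrame Cfsg.Agent.GH.QGamma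
  Cfsg.Agent.GH.QGClosed Cfsg.Agent.GH.QGEnd

open scoped commutatorElement

variable {G : Type*} [Group G] [Finite G] {Z : Set G} {K : G → Subgroup G} {X : G → Set G}

/-- `z` does not lie in a normal 2-subgroup -/
theorem not_mem_normal_two (h : Gamma Z K X) {z y : G} {S : Subgroup G} (a : At Z z S) (hy : y ∈ Z)
    (hyS : y ∈ S) (hyz : y ≠ z) {R : Subgroup G} (hR : IsPGroup 2 R) (hn : R.Normal) : z ∉ R := by
  intro hzR
  have hz := a.mem
  have hyc := a.cent y hyS
  obtain ⟨S', a', hzS', -⟩ := h.lift_two hy (h.pg hz) (h.pg hz) hyc.symm hyc.symm rfl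
  obtain ⟨x', hxS', hxK', hxx', hxy', -⟩ := exists_x' h a' hz hzS' hyz.symm
  -- `y ∈ R`
  have hyR : y ∈ R := by
    have h1 := hn.conj_mem z hzR x'
    rw [hxy'] at h1
    have h2 : y = z⁻¹ * (z * y) := by group
    rw [h2]
    exact R.mul_mem (R.inv_mem hzR) h1
  -- `R` centralises `y`
  have hRy : ∀ r ∈ R, r * y = y * r := by
    have h1 : R ≤ S' := by
      refine OneBasic.syl_le_of_normalizes a'.syl hR le_top ?_
      intro s _
      rw [mem_normalizer_iff]
      intro r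
      constructor
      · intro hr; exact hn.conj_mem r hr s
      · intro hr
        have h2 := hn.conj_mem _ hr s⁻¹
        have h3 : s⁻¹ * (s * r * s⁻¹) * s⁻¹⁻¹ = r := by group
        rwa [h3] at h2
    exact fun r hr => a'.cent r (h1 hr)
  obtain ⟨c, v, n, hsd⟩ := exists_sd' h a hy hyS hyz
  have h1 := hRy _ (hn.conj_mem y hyR v)
  have hyi := h.inv_eq hy
  -- `y⁻¹ v y = v c`
  have h2 : y * v * y = v * c := by
    have := hsd.yv
    rwa [hyi] at this
  have h3 : v * y * v⁻¹ = y * c⁻¹ := by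
    have h4 : v * y = y * (v * c) := by
      rw [← h2]
      calc v * y = (y * y) * v * y := by rw [h.sq y hy, one_mul]
        _ = y * (y * v * y) := by group
    calc v * y * v⁻¹ = y * (v * c * v⁻¹) := by rw [h4]; group
      _ = y * c⁻¹ := by
          have := conj_zpow hsd.gq 1
          rw [zpow_one, zpow_neg, zpow_one] at this
          rw [this]
  rw [h3] at h1
  have h4 : y * c⁻¹ * y = y * (y * c⁻¹) := h1
  have h5 : c⁻¹ * y = y * c⁻¹ := by
    rw [mul_assoc] at h4
    exact mul_left_cancel h4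
  have h6 : y * c * y⁻¹ = c := by
    have : c * y = y * c := by
      have h7 := ((show Commute c⁻¹ y from h5).inv_left).eq
      rwa [inv_inv] at h7
    rw [← this, mul_inv_cancel_right]
  rw [hsd.yc] at h6
  exact hsd.gq.c_sq_ne (inv_eq_iff_mul_eq_one.1 h6)

/-- `z` is a power of every nontrivial element of `Q` -/
theorem z_mem_zpowers (h : Gamma Z K X) {z y : G} {S : Subgroup G} (a : At Z z S) (hy : y ∈ Z)
    (hyS : y ∈ S) (hyz : y ≠ z) {b : G} (hbS : b ∈ S) (hbK : b ∈ K z) (hb1 : b ≠ 1) :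
    z ∈ zpowers b := by
  obtain ⟨c, v, n, hsd⟩ := exists_sd' h a hy hyS hyz
  obtain ⟨u, hu, huu, hu1⟩ := exists_involution (a.pgz hbS) hb1
  have h1 : u ∈ S ⊓ K z := (zpowers_le.2 (⟨hbS, hbK⟩ : b ∈ S ⊓ K z)) hu
  rw [← hsd.gq.eq_z h1 huu hu1]
  exact hu

/-- a nontrivial normal subgroup of `Q⟨t⟩` contains `z` -/
theorem z_mem_of_normalized (h : Gamma Z K X) {z y : G} {S : Subgroup G} (a : At Z z S) (hy : y ∈ Z)
    (hyS : y ∈ S) (hyz : y ≠ z) {R : Subgroup G}
    (hn : ∀ g ∈ E h a hy hyS, ∀ r ∈ R, g * r * g⁻¹ ∈ R) {r : G} (hrE : r ∈ E h a hy hyS)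
    (hrR : r ∈ R) (hr1 : r ≠ 1) : z ∈ R := by
  have hz := a.mem
  have hzz := h.sq z hz
  have hyc := a.cent y hyS
  obtain ⟨c, v, n, hsd⟩ := exists_sd' h a hy hyS hyz
  obtain ⟨x, ⟨hxS, hxK⟩, hxx, hxy, -⟩ := hsd.exists_x
  have key : ∀ b ∈ R, b ∈ S → b ∈ K z → b ≠ 1 → z ∈ R := fun b hbR hbS hbK hb1 =>
    (zpowers_le.2 hbR) (z_mem_zpowers h a hy hyS hyz hbS hbK hb1)
  obtain ⟨hrS, hrK | hrK⟩ := hrE
  · exact key r hrR hrS hrK hr1
  · by_contra hzR
    have hrz := a.cent r hrS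
    -- `r` commutes with `Q`
    have hcom : ∀ g ∈ S, g ∈ K z → g * r = r * g := by
      intro g hgS hgK
      by_contra hne
      apply hzR
      refine key (g * r * g⁻¹ * r⁻¹) ?_ ?_ ?_ ?_
      · exact R.mul_mem (hn g ⟨hgS, Or.inl hgK⟩ r hrR) (R.inv_mem hrR)
      · exact S.mul_mem (S.mul_mem (S.mul_mem hgS hrS) (S.inv_mem hgS)) (S.inv_mem hrS)
      · have h1 : g * r * g⁻¹ * r⁻¹ = g * (r * g⁻¹ * r⁻¹) := by group
        rw [h1]
        exact (K z).mul_mem hgK (h.K_conj hz hrz ((K z).inv_mem hgK))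
      · intro h1
        apply hne
        rw [mul_inv_eq_one, mul_inv_eq_iff_eq_mul] at h1
        exact h1
    set q := r * y with hq
    have hqS : q ∈ S := S.mul_mem hrS hyS
    have hrq : r = q * y := by rw [hq, mul_assoc, h.sq y hy, mul_one]
    have h1 : q * y = y * q := by
      have h2 := hcom q hqS hrK
      rw [hrq] at h2
      have h3 : q * (q * y) = q * (y * q) := by rw [h2]; group
      exact mul_left_cancel h3
    have h2 : x * y = y * x := by
      have h3 := hcom x hxS hxK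
      rcases h.cent z S a y hy hyS hyz q hqS hrK h1 with h4 | h4
      · rw [hrq, h4, one_mul] at h3; exact h3
      · rw [hrq, h4] at h3
        have hxz := a.cent x hxS
        have h5 : z * (x * y) = z * (y * x) := by
          calc z * (x * y) = (z * x) * y := by group
            _ = x * (z * y) := by rw [← hxz]; group
            _ = z * y * x := h3
            _ = z * (y * x) := by group
        exact mul_left_cancel h5
    have h3 : y * x * y⁻¹ = x := by rw [← h2, mul_inv_cancel_right]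
    rw [hxy] at h3
    exact h.ne z hz (mul_eq_left.1 h3)

/-- `F = 1` from C1, `O(G) = 1` and trivial centralizers of nonsolvable normal subgroups -/
theorem F_eq_bot' (ho : Cfsg.oddCore G = ⊥)
    (hcen : ∀ N : Subgroup G, N.Normal → ¬ Group.IsSolvable N → centralizer (N : Set G) = ⊥)
    (hC1 : ∀ (P : Sylow 2 G) (A B : Subgroup G), A ⊓ B = ⊥ → Cfsg.IsStronglyClosed A P →
      Cfsg.IsStronglyClosed B P →
      ⁅normalClosure (A : Set G), normalClosure (B : Set G)⁆ ≤ Cfsg.oddCore G)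
    (h : Gamma Z K X) {z y : G} {S : Subgroup G} (a : At Z z S) (hy : y ∈ Z)
    (hyS : y ∈ S) (hyz : y ≠ z) : F h a hy hyS hyz = ⊥ := by
  haveI : Fact (Nat.Prime 2) := ⟨Nat.prime_two⟩
  have hS2 : ¬ 2 ∣ S.index := by
    have := a.syl.2.2
    rwa [relIndex_top_right] at this
  let P : Sylow 2 G := a.syl.2.1.toSylow hS2
  have hEc := isStronglyClosed_E h a hy hyS hyz
  have h1 := hC1 P (E h a hy hyS) (F h a hy hyS hyz) (E_inf_F h a hy hyS hyz) hEc
    (isStronglyClosed_F h a hy hyS hyz)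
  rw [ho, le_bot_iff, commutator_eq_bot_iff_le_centralizer] at h1
  obtain ⟨N, hNdef⟩ : ∃ N, N = normalClosure (E h a hy hyS : Set G) := ⟨_, rfl⟩
  rw [← hNdef] at h1
  haveI hN : N.Normal := by rw [hNdef]; exact normalClosure_normal
  have hEN : E h a hy hyS ≤ N := by rw [hNdef]; exact subset_normalClosure
  have hFN : ∀ f ∈ F h a hy hyS hyz, ∀ g ∈ N, f * g = g * f := by
    intro f hf g hg
    have h2 := h1 hg
    rw [mem_centralizer_iff] at h2
    exact h2 f (subset_normalClosure hf)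
  by_cases hsol : Group.IsSolvable N
  · exfalso
    -- `R = O₂(N)`
    haveI := hsol
    obtain ⟨R, hRdef⟩ : ∃ R, R = (Cfsg.pCore 2 N).map N.subtype := ⟨_, rfl⟩
    have hR2 : IsPGroup 2 R := by rw [hRdef]; exact (Lib.Cores.pCore_isPGroup 2).map _
    have hRn : R.Normal := by
      haveI := Lib.Cores.pCore_characteristic (G := N) 2
      rw [hRdef]; infer_instance
    have hoN : Cfsg.pPrimeCore 2 N = ⊥ := by
      have h2 : (Cfsg.pPrimeCore 2 N).map N.subtype ≤ Cfsg.oddCore G := by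
        haveI := Lib.Cores.pPrimeCore_characteristic (G := N) 2
        refine Lib.Cores.le_pPrimeCore inferInstance ?_
        rw [Subgroup.card_map_of_injective N.subtype_injective]
        exact Lib.Cores.pPrimeCore_coprime 2
      rw [ho, le_bot_iff] at h2
      exact (map_eq_bot_iff_of_injective _ N.subtype_injective).1 h2
    have hcR := Lib.HallHigman.centralizer_pCore_le_of_solvable 2 hoN
    have hzR : z ∉ R := not_mem_normal_two h a hy hyS hyz hR2 hRn
    -- `E` and `R` commute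
    have hzE : z ∈ E h a hy hyS := ⟨h.z_mem a, Or.inl (h.zK z a.mem)⟩
    have hRS : R ≤ S := by
      refine OneBasic.syl_le_of_normalizes a.syl hR2 le_top ?_
      exact fun s _ => by
        rw [mem_normalizer_iff]
        intro r
        constructor
        · intro hr; exact hRn.conj_mem r hr s
        · intro hr
          have h2 := hRn.conj_mem _ hr s⁻¹
          have h3 : s⁻¹ * (s * r * s⁻¹) * s⁻¹⁻¹ = r := by group
          rwa [h3] at h2
    have hcomm : ∀ r ∈ R, z * r = r * z := by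
      intro r hr
      by_contra hne
      apply hzR
      have h2 : z * r * z⁻¹ * r⁻¹ ∈ R := R.mul_mem (hRn.conj_mem r hr z) (R.inv_mem hr)
      have h3 : z * r * z⁻¹ * r⁻¹ ∈ E h a hy hyS := by
        have h4 : z * r * z⁻¹ * r⁻¹ = z * (r * z⁻¹ * r⁻¹) := by group
        rw [h4]
        refine mul_mem hzE (hEc.2 _ (inv_mem hzE) r ?_)
        exact S.mul_mem (S.mul_mem (hRS hr) (S.inv_mem (h.z_mem a))) (S.inv_mem (hRS hr))
      refine z_mem_of_normalized h a hy hyS hyz (fun g _ r hr => hRn.conj_mem r hr g) h3 h2 ?_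
      intro h5
      apply hne
      rw [mul_inv_eq_one, mul_inv_eq_iff_eq_mul] at h5
      exact h5
    have h2 : (⟨z, hEN hzE⟩ : N) ∈ centralizer (Cfsg.pCore 2 N : Set N) := by
      rw [mem_centralizer_iff]
      intro r hr
      ext
      have h3 : (r : G) ∈ R := by rw [hRdef]; exact mem_map_of_mem N.subtype hr
      exact (hcomm _ h3).symm
    apply hzR
    rw [hRdef]
    exact mem_map_of_mem N.subtype (hcR h2)
  · rw [eq_bot_iff, ← hcen N hN hsol]
    intro f hf
    rw [mem_centralizer_iff]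
    intro g hg
    exact (hFN f hf g hg).symm

/-- `S = Q⟨t⟩` from `F = 1` and the nonexistence of subgroups of index two -/
theorem E_eq_of_F (hidx : ∀ H : Subgroup G, H.index ≠ 2)
    (h : Gamma Z K X) {z y : G} {S : Subgroup G} (a : At Z z S) (hy : y ∈ Z)
    (hyS : y ∈ S) (hyz : y ≠ z) (hF : F h a hy hyS hyz = ⊥) : E h a hy hyS = S := by
  haveI : Fact (Nat.Prime 2) := ⟨Nat.prime_two⟩
  have hz := a.mem
  have hyc := a.cent y hyS
  have hzS := h.z_mem a
  have hF1 : ∀ d ∈ S, d ∈ X z → d ∈ X y → d = 1 := by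
    intro d hdS hd hd'
    have : d ∈ F h a hy hyS hyz := ⟨hdS, (FF_iff h a hy hyS hyz hdS).2 ⟨hd, hd'⟩⟩
    rw [hF] at this
    exact mem_bot.1 this
  have hD0 : ∀ d ∈ S, d ∈ X z → d * y = y * d → d = 1 ∨ d = z := by
    intro d hdS hd hdy
    rcases mem_X_or h hz hy hyz hyc (a.pgz hdS) hd hdy with h1 | h1
    · exact Or.inl (hF1 d hdS hd h1)
    · right
      have h2 := hF1 (d * z) (S.mul_mem hdS hzS) (h.X_mul z S a d hdS hd z hzS (h.zX z hz)) h1
      rw [← h.inv_eq hz]
      exact eq_inv_of_mul_eq_one_left h2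
  have hzE : z ∈ E h a hy hyS := ⟨hzS, Or.inl (h.zK z hz)⟩
  have hEc := isStronglyClosed_E h a hy hyS hyz
  -- every element of `S` is a product `e d`
  have hdec : ∀ s ∈ S, ∃ e ∈ E h a hy hyS, ∃ d ∈ S, d ∈ X z ∧ s = e * d := by
    intro s hs
    obtain ⟨q, hqS, hqK, d, hdS, hdX, hsd⟩ := h.cover z S a y hy hyS hyz s hs
    rcases hsd with rfl | rfl
    · exact ⟨q, ⟨hqS, Or.inl hqK⟩, d, hdS, hdX, rfl⟩
    · refine ⟨q * y, ⟨S.mul_mem hqS hyS, Or.inr ?_⟩, y * d * y⁻¹,
        S.mul_mem (S.mul_mem hyS hdS) (S.inv_mem hyS), h.X_conj hz hyc hdX, ?_⟩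
      · rw [mul_assoc, h.sq y hy, mul_one]; exact hqK
      · calc q * d * y = q * (y * y) * d * y := by rw [h.sq y hy, mul_one]
          _ = q * y * (y * d * y⁻¹) := by rw [h.inv_eq hy]; group
  -- the elements outside `E` form one coset
  have hcos : ∀ s ∈ S, ∀ t ∈ S, s ∉ E h a hy hyS → t ∉ E h a hy hyS → s⁻¹ * t ∈ E h a hy hyS := by
    intro s hs t ht hsE htE
    obtain ⟨e, he, d, hdS, hdX, rfl⟩ := hdec s hs
    obtain ⟨e', he', d', hdS', hdX', rfl⟩ := hdec t ht
    have aux : ∀ e ∈ E h a hy hyS, ∀ d ∈ S, d ∈ X z → e * d ∉ E h a hy hyS → y * d * y⁻¹ = d * z := by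
      intro e he d hdS hdX hn
      by_cases hdy : d * y = y * d
      · exfalso
        apply hn
        apply mul_mem he
        rcases hD0 d hdS hdX hdy with rfl | rfl
        · exact one_mem _
        · exact hzE
      · exact (sq_mem h a hy hyS hyz d hdS hdX hdy).1
    have h1 := aux e he d hdS hdX hsE
    have h2 := aux e' he' d' hdS' hdX' htE
    have h3 : y * (d⁻¹ * d') * y⁻¹ = d⁻¹ * d' := by
      have hzd := a.cent (d⁻¹ * d') (S.mul_mem (S.inv_mem hdS) hdS')
      calc y * (d⁻¹ * d') * y⁻¹ = (y * d * y⁻¹)⁻¹ * (y * d' * y⁻¹) := by group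
        _ = z⁻¹ * (d⁻¹ * d' * z) := by rw [h1, h2]; group
        _ = z⁻¹ * (z * (d⁻¹ * d')) := by rw [hzd]
        _ = d⁻¹ * d' := by group
    have h4 := (h.D a).mul_mem ((h.D a).inv_mem ⟨hdS, hdX⟩) ⟨hdS', hdX'⟩
    have h5 : d⁻¹ * d' ∈ E h a hy hyS := by
      rcases hD0 _ h4.1 h4.2 (mul_comm_of_conj h3).symm with h6 | h6
      · rw [h6]; exact one_mem _
      · rw [h6]; exact hzE
    have h6 : (e * d)⁻¹ * (e' * d') = (d⁻¹ * (e⁻¹ * e') * d⁻¹⁻¹) * (d⁻¹ * d') := by group
    rw [h6]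
    refine mul_mem (hEc.2 _ (mul_mem (inv_mem he) he') d⁻¹ ?_) h5
    exact S.mul_mem (S.mul_mem (S.inv_mem hdS) (S.mul_mem (S.inv_mem he.1) he'.1))
      (S.inv_mem (S.inv_mem hdS))
  have hS2 : ¬ 2 ∣ S.index := by
    have := a.syl.2.2
    rwa [relIndex_top_right] at this
  let P : Sylow 2 G := a.syl.2.1.toSylow hS2
  obtain ⟨N, hN, hN1, hN2⟩ := TwoFusion.TransferIndex.exists_normal_of_fusion P
    (E h a hy hyS) hEc.1 (by
      intro s hs g hg
      by_cases hsE : s ∈ E h a hy hyS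
      · exact mul_mem (inv_mem hsE) (hEc.2 s hsE g hg)
      · refine hcos s hs _ hg hsE ?_
        intro h1
        apply hsE
        have h2 : g⁻¹ * (g * s * g⁻¹) * g⁻¹⁻¹ = s := by group
        have h3 := hEc.2 _ h1 g⁻¹
        rw [h2] at h3
        exact h3 hs)
  -- the index is one or two
  by_contra hne
  obtain ⟨w, hwS, hwE⟩ := SetLike.exists_of_lt (lt_of_le_of_ne hEc.1 hne)
  have h2 : (E h a hy hyS).relIndex S = 2 := by
    rw [relIndex, index_eq_two_iff]
    refine ⟨⟨w⁻¹, S.inv_mem hwS⟩, ?_⟩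
    rintro ⟨b, hb⟩
    simp only [mem_subgroupOf, MulMemClass.mk_mul_mk]
    by_cases hbE : b ∈ E h a hy hyS
    · right
      refine ⟨hbE, fun h1 => hwE ?_⟩
      have h2 := (E h a hy hyS).mul_mem ((E h a hy hyS).inv_mem hbE) h1
      rw [inv_mul_cancel_left] at h2
      rw [← inv_inv w]
      exact inv_mem h2
    · left
      refine ⟨?_, hbE⟩
      have h1 := hcos b⁻¹ (S.inv_mem hb) w⁻¹ (S.inv_mem hwS) (fun h3 => hbE (by
        rw [← inv_inv b]; exact inv_mem h3)) (fun h3 => hwE (by rw [← inv_inv w]; exact inv_mem h3))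
      rwa [inv_inv] at h1
  exact hidx N (hN1.trans h2)

/-- `Q⟨t⟩` is semidihedral -/
theorem isQuasiDihedral {S Q : Subgroup G} {c v z y : G} {n : ℕ} (hsd : SD Q c v z y n)
    (hQS : Q ≤ S) (hyS : y ∈ S) (hyQ : y ∉ Q) (hS : ∀ s ∈ S, s ∈ Q ∨ s * y ∈ Q) :
    Cfsg.IsQuasiDihedral S := by
  have hyy := hsd.sq
  have hyi := y_inv hyy
  -- the order of `S`
  have hcard : Nat.card S = 2 ^ (n + 3 + 1) := by
    have h1 : (Q.subgroupOf S).index = 2 := by
      rw [index_eq_two_iff]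
      refine ⟨⟨y, hyS⟩, ?_⟩
      rintro ⟨b, hb⟩
      simp only [mem_subgroupOf, MulMemClass.mk_mul_mk]
      by_cases hbQ : b ∈ Q
      · right
        refine ⟨hbQ, fun h1 => hyQ ?_⟩
        have h2 := Q.mul_mem (Q.inv_mem hbQ) h1
        rwa [inv_mul_cancel_left] at h2
      · left
        rcases hS b hb with h1 | h1
        · exact absurd h1 hbQ
        · exact ⟨h1, hbQ⟩
    have h2 := (Q.subgroupOf S).card_mul_index
    rw [h1, Nat.card_congr (subgroupOfEquivOfLe hQS).toEquiv, hsd.gq.card] at h2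
    rw [← h2]; ring
  -- the generator
  set w := v * y with hw
  have hzz := hsd.gq.z_mul
  have hzc : z * c = c * z := by
    rw [← hsd.gq.z_eq]
    exact ((Commute.refl c).pow_left _).eq
  have hww : w * w = z * c := by
    rw [hw]
    calc v * y * (v * y) = v * (y * v * y⁻¹) * (y * y) := by group
      _ = v * (v * c) := by rw [hsd.yv, hyy, mul_one]
      _ = (v * v) * c := by group
      _ = z * c := by rw [hsd.gq.v_sq]
  have hwp : w ^ 2 ^ (n + 2) = z := by
    rw [pow_succ', pow_mul, pow_two, hww, (show Commute z c from hzc).mul_pow, hsd.gq.z_eq, pow_succ',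
      pow_mul, pow_two, hzz, one_pow, one_mul]
  have hord : orderOf w = 2 ^ (n + 3) := by
    have h1 : w ^ 2 ^ (n + 3) = 1 := by
      rw [pow_succ, pow_mul, hwp, pow_two, hzz]
    haveI : Fact (Nat.Prime 2) := ⟨Nat.prime_two⟩
    exact orderOf_eq_prime_pow (by rw [hwp]; exact hsd.gq.z_ne) h1
  have hyw : y * w * y⁻¹ = w ^ (2 ^ (n + 2) - 1) := by
    have h1 : y * w * y⁻¹ = w⁻¹ * z := by
      rw [hw]
      have h2 : y * (v * y) * y⁻¹ = y * v := by group
      have h3 : v⁻¹ = v * z := by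
        rw [inv_eq_iff_mul_eq_one, ← mul_assoc, hsd.gq.v_sq, hzz]
      rw [h2, mul_inv_rev, hyi, h3]
      calc y * v = y * v * (z * z) := by rw [hzz, mul_one]
        _ = y * (v * z) * z := by group
    rw [h1]
    have h2 : w ^ (2 ^ (n + 2) - 1) * w = w ^ 2 ^ (n + 2) := by
      rw [← pow_succ]
      congr 1
      have : 0 < 2 ^ (n + 2) := by positivity
      omega
    have h3 : w ^ (2 ^ (n + 2) - 1) = z * w⁻¹ := by
      rw [← hwp, ← h2]; group
    rw [h3]
    have h4 : z * w = w * z := by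
      rw [← hwp]
      exact ((Commute.refl w).pow_left _).eq
    exact ((show Commute z w from h4).inv_right).eq.symm
  have hwS : w ∈ S := S.mul_mem (hQS hsd.gq.v_mem) hyS
  have hy1 : y ≠ 1 := fun h1 => hyQ (h1 ▸ Q.one_mem)
  refine ⟨n + 3, by omega, hcard, ⟨w, hwS⟩, ⟨y, hyS⟩, ?_, ?_, ?_⟩
  · rw [Subgroup.orderOf_mk]; exact hord
  · rw [Subgroup.orderOf_mk]
    exact orderOf_eq_prime (by rw [pow_two]; exact hyy) hy1
  · ext
    simpa using hyw

/-- **World gamma** for a group with `O(G) = 1`, without subgroups of index two, in which nonsolvable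
normal subgroups have trivial centralizers: `S` is semidihedral -/
theorem main (ho : Cfsg.oddCore G = ⊥) (hidx : ∀ H : Subgroup G, H.index ≠ 2)
    (hcen : ∀ N : Subgroup G, N.Normal → ¬ Group.IsSolvable N → centralizer (N : Set G) = ⊥)
    (hC1 : ∀ (P : Sylow 2 G) (A B : Subgroup G), A ⊓ B = ⊥ → Cfsg.IsStronglyClosed A P →
      Cfsg.IsStronglyClosed B P →
      ⁅normalClosure (A : Set G), normalClosure (B : Set G)⁆ ≤ Cfsg.oddCore G)
    (h : Gamma Z K X) {z y : G} {S : Subgroup G} (a : At Z z S) (hy : y ∈ Z)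
    (hyS : y ∈ S) (hyz : y ≠ z) : Cfsg.IsQuasiDihedral S := by
  have h1 := E_eq_of_F hidx h a hy hyS hyz (F_eq_bot' ho hcen hC1 h a hy hyS hyz)
  obtain ⟨c, v, n, hsd⟩ := exists_sd' h a hy hyS hyz
  refine isQuasiDihedral hsd inf_le_left hyS ?_ ?_
  · intro h2
    exact hyz (hsd.gq.eq_z h2 (h.sq y hy) (h.ne y hy))
  · intro s hs
    have h2 := hs
    rw [← h1, mem_E] at h2
    rcases h2.2 with h3 | h3
    · exact Or.inl ⟨hs, h3⟩
    · exact Or.inr ⟨S.mul_mem hs hyS, h3⟩

end Cfsg.Agent.GH.QGEndTwo
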