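import Cfsg.Agent.GH.Comp
import Cfsg.Agent.Walter.SylowIn
import Cfsg.Agent.ThreePrime.AutQuot
import Cfsg.Agent.Lib.ProductSet

/-!
# GH-L2: the frame

`K` a 2-component of `H` with `Z(K/O(K))` of odd order, `T` a Sylow 2-subgroup of `H` normalising `K`.

* `fix K`: the subgroup of the elements `a` with `Fixes a K`;
* `act K : N(K) →* MulAut (STop K)` with kernel `fix K`;
* `Frame H K T`; `D = T ⊓ K` is a Sylow 2-subgroup of `K`, `Q = T ⊓ fix K`, `[Q, D] = 1`, `Q ⊓ D = 1`, both are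
  normal in `T`; `T / Q` acts faithfully on `STop K`, `D` is isomorphic to a Sylow 2-subgroup of `STop K`;
* elements of `T` acting as inner automorphisms are in `Q D`;
* fixed points of 2-subgroups lift (`exists_fixed`), 2-components of `C_K(P)`.
-/

set_option autoImplicit false
set_option linter.unusedSectionVars false

open Cfsg Subgroup
open scoped commutatorElement
open Cfsg.Agent.SignalizersComponents
open Cfsg.Agent.SignalizersComponents.IntrinsicBasic (cj mem_cj)
open Cfsg.Agent.Intrinsic.Basic Cfsg.Agent.GH.Defs Cfsg.Agent.GH.Comp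
open Cfsg.Agent.Walter.SylowIn

namespace Cfsg.Agent.GH.L2Frame

section action

variable {G : Type*} [Group G]

theorem map_oddCore {A : Type*} [Group A] (α : MulAut A) :
    (oddCore A).map (α : A ≃* A).toMonoidHom = oddCore A :=
  characteristic_iff_map_eq.1 (Lib.Cores.pPrimeCore_characteristic (G := A) 2) α

/-- The automorphism induced on `A / O(A)`. -/
def coreAut (A : Type*) [Group A] : MulAut A →* MulAut (A ⧸ oddCore A) where
  toFun α := QuotientGroup.congr (oddCore A) (oddCore A) α (map_oddCore α)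
  map_one' := by
    ext x
    obtain ⟨y, rfl⟩ := QuotientGroup.mk_surjective x
    rfl
  map_mul' α β := by
    ext x
    obtain ⟨y, rfl⟩ := QuotientGroup.mk_surjective x
    rfl

/-- The action of the normaliser on `K / O(K)`. -/
def actBar (K : Subgroup G) : normalizer (K : Set G) →* MulAut (Bar K) :=
  (coreAut ↥K).comp (normalizerMonoidHom K)

/-- The action of the normaliser on the simple group `STop K`. -/
def act (K : Subgroup G) : normalizer (K : Set G) →* MulAut (STop K) :=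
  (ThreePrime.AutQuot.autQuot (Bar K)).comp (actBar K)

theorem conj_mem {K : Subgroup G} {a : G} (ha : a ∈ normalizer (K : Set G)) {k : G} (hk : k ∈ K) :
    a * k * a⁻¹ ∈ K := (mem_normalizer_iff.1 ha k).1 hk

theorem actBar_apply {K : Subgroup G} {a : G} (ha : a ∈ normalizer (K : Set G)) (k : K) :
    actBar K ⟨a, ha⟩ (QuotientGroup.mk k) = QuotientGroup.mk ⟨a * k * a⁻¹, conj_mem ha k.2⟩ := rfl

theorem act_apply {K : Subgroup G} {a : G} (ha : a ∈ normalizer (K : Set G)) (k : K) :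
    act K ⟨a, ha⟩ (topMap K k) = topMap K ⟨a * k * a⁻¹, conj_mem ha k.2⟩ := rfl

/-- Elements of `K` act as inner automorphisms. -/
theorem act_of_mem {K : Subgroup G} (k : K) :
    act K ⟨k, le_normalizer k.2⟩ = MulAut.conj (topMap K k) := by
  ext x
  obtain ⟨y, rfl⟩ := topMap_surjective K x
  rw [act_apply, MulAut.conj_apply, ← map_inv, ← map_mul, ← map_mul]
  rfl

theorem mk_eq_one_iff {K : Subgroup G} {k : G} (hk : k ∈ K) :
    (QuotientGroup.mk ⟨k, hk⟩ : Bar K) = 1 ↔ k ∈ core K := by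
  rw [QuotientGroup.eq_one_iff]
  constructor
  · intro h
    exact ⟨_, h, rfl⟩
  · rintro ⟨y, hy, hyk⟩
    have : (⟨k, hk⟩ : K) = y := Subtype.ext hyk.symm
    rw [this]
    exact hy

theorem actBar_eq_one_iff {K : Subgroup G} {a : G} (ha : a ∈ normalizer (K : Set G)) :
    actBar K ⟨a, ha⟩ = 1 ↔ Fixes a K := by
  constructor
  · intro h
    refine ⟨ha, fun y hy => ?_⟩
    have h1 : actBar K ⟨a, ha⟩ (QuotientGroup.mk ⟨y, hy⟩) = QuotientGroup.mk ⟨y, hy⟩ := by
      rw [h]; rfl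
    rw [actBar_apply] at h1
    have h2 : (⟨a * y * a⁻¹, conj_mem ha hy⟩ : K) * (⟨y, hy⟩ : K)⁻¹ ∈ oddCore ↥K := by
      rw [← QuotientGroup.eq_one_iff, QuotientGroup.mk_mul, h1, QuotientGroup.mk_inv,
        mul_inv_cancel]
    exact ⟨_, h2, rfl⟩
  · rintro ⟨-, h⟩
    ext x
    obtain ⟨y, rfl⟩ := QuotientGroup.mk_surjective x
    rw [actBar_apply]
    change _ = (QuotientGroup.mk y : Bar K)
    obtain ⟨z, hz, hz'⟩ := h y y.2
    rw [← mul_inv_eq_one, ← QuotientGroup.mk_inv, ← QuotientGroup.mk_mul, QuotientGroup.eq_one_iff]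
    have : (⟨a * y * a⁻¹, conj_mem ha y.2⟩ : K) * y⁻¹ = z := Subtype.ext hz'.symm
    rw [this]
    exact hz

/-- `act K a = 1` iff `a` fixes `K`. -/
theorem act_eq_one_iff {K : Subgroup G} (hq : IsQuasisimple (Bar K)) {a : G}
    (ha : a ∈ normalizer (K : Set G)) : act K ⟨a, ha⟩ = 1 ↔ Fixes a K := by
  rw [← actBar_eq_one_iff ha]
  constructor
  · intro h
    exact ThreePrime.AutQuot.eq_one_of_autQuot_eq_one hq.1 h
  · intro h
    change ThreePrime.AutQuot.autQuot (Bar K) (actBar K ⟨a, ha⟩) = 1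
    rw [h, map_one]

/-- The elements which normalise `K` and centralise `K / O(K)`. -/
def fix (K : Subgroup G) : Subgroup G := (actBar K).ker.map (normalizer (K : Set G)).subtype

theorem mem_fix {K : Subgroup G} {a : G} : a ∈ fix K ↔ Fixes a K := by
  constructor
  · rintro ⟨b, hb, rfl⟩
    exact (actBar_eq_one_iff b.2).1 hb
  · intro h
    exact ⟨⟨a, h.1⟩, (actBar_eq_one_iff h.1).2 h, rfl⟩

theorem fix_le_normalizer (K : Subgroup G) : fix K ≤ normalizer (K : Set G) := map_subtype_le _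

theorem conj_mem_fix {K : Subgroup G} {a b : G} (ha : a ∈ normalizer (K : Set G))
    (hb : b ∈ fix K) : a * b * a⁻¹ ∈ fix K := by
  have hb1 : Fixes b K := mem_fix.1 hb
  have h0 : a * b * a⁻¹ ∈ normalizer (K : Set G) := mul_mem (mul_mem ha hb1.1) (inv_mem ha)
  rw [mem_fix, ← actBar_eq_one_iff h0]
  have h1 : (⟨a * b * a⁻¹, h0⟩ : normalizer (K : Set G)) = ⟨a, ha⟩ * ⟨b, hb1.1⟩ * ⟨a, ha⟩⁻¹ := rfl
  rw [h1, map_mul, map_mul, map_inv, (actBar_eq_one_iff hb1.1).2 hb1, mul_one, mul_inv_cancel]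

end action

section elementary

variable {G : Type*} [Group G]

/-- A `p`-element normalising a Sylow `p`-subgroup is in it. -/
theorem mem_sylow {p : ℕ} (S : Sylow p G) {x : G} (hx : x ∈ normalizer ((S : Subgroup G) : Set G))
    {n : ℕ} (hn : x ^ p ^ n = 1) : x ∈ (S : Subgroup G) := by
  have h1 : IsPGroup p (zpowers x) := by
    rintro ⟨y, hy⟩
    obtain ⟨k, rfl⟩ := mem_zpowers_iff.1 hy
    refine ⟨n, Subtype.ext ?_⟩
    change (x ^ k) ^ p ^ n = 1
    rw [← zpow_natCast, ← zpow_mul, mul_comm, zpow_mul, zpow_natCast, hn, one_zpow]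
  have h2 : IsPGroup p ↥(zpowers x ⊔ (S : Subgroup G)) :=
    IsPGroup.to_sup_of_normal_right' h1 S.2 (by rw [zpowers_le]; exact hx)
  have h3 := S.3 h2 le_sup_right
  rw [← h3]
  exact mem_sup_left (mem_zpowers x)

theorem card_sup_mul {H N : Subgroup G} (h : H ≤ normalizer (N : Set G)) :
    Nat.card ↥(H ⊔ N) * Nat.card ↥(H ⊓ N) = Nat.card H * Nat.card N := by
  rw [← Cfsg.Agent.Lib.ProductSet.card_mul_card_inf H N]
  congr 1
  exact Nat.card_congr (Equiv.setCongr (Subgroup.coe_mul_of_left_le_normalizer_right H N h))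

theorem relIndex_sup [Finite G] {T K : Subgroup G} (h : T ≤ normalizer (K : Set G)) :
    (T ⊓ K).relIndex K = T.relIndex (T ⊔ K) := by
  have e1 := card_sup_mul h
  have e2 := relIndex_mul_relIndex (⊥ : Subgroup G) T (T ⊔ K) bot_le le_sup_left
  have e3 := relIndex_mul_relIndex (⊥ : Subgroup G) (T ⊓ K) K bot_le inf_le_right
  rw [relIndex_bot_left, relIndex_bot_left] at e2 e3
  have h1 : 0 < Nat.card ↥(T ⊓ K) := Nat.card_pos
  have h2 : 0 < Nat.card T := Nat.card_pos
  rw [← e2, ← e3] at e1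
  have h3 : (Nat.card T * Nat.card ↥(T ⊓ K)) * T.relIndex (T ⊔ K) =
      (Nat.card T * Nat.card ↥(T ⊓ K)) * (T ⊓ K).relIndex K := by
    linarith
  exact (Nat.eq_of_mul_eq_mul_left (Nat.mul_pos h2 h1) h3).symm

end elementary

variable {G : Type*} [Group G] [Finite G]

theorem center_top {H K : Subgroup G} (h : IsComp H K) : center (STop K) = ⊥ := by
  have h1 := top_simple h
  rcases (inferInstance : (center (STop K)).Normal).eq_bot_or_eq_top with h2 | h2
  · exact h2
  · exfalso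
    refine top_nonComm h ⟨⟨fun a b => ?_⟩⟩
    exact (mem_center_iff.1 (h2 ▸ mem_top b : b ∈ center (STop K)) a)

theorem conj_injective {H K : Subgroup G} (h : IsComp H K) :
    Function.Injective (MulAut.conj : STop K →* MulAut (STop K)) := by
  rw [← MonoidHom.ker_eq_bot_iff, eq_bot_iff, ← center_top h]
  intro x hx
  rw [mem_center_iff]
  intro g
  have h1 : MulAut.conj x g = g := by
    rw [MonoidHom.mem_ker.1 hx]; rfl
  rw [MulAut.conj_apply, mul_inv_eq_iff_eq_mul] at h1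
  exact h1.symm

omit [Finite G] in
/-- The kernel of `K → STop K` consists of the elements of `K` fixing `K`. -/
theorem mem_ker_iff {K : Subgroup G} {k : K} : k ∈ (topMap K).ker ↔ (k : G) ∈ fix K := by
  rw [mem_ker_topMap, mem_fix]
  exact ⟨fun h => ⟨le_normalizer k.2, h⟩, fun h => h.2⟩

/-- The kernel of `K → STop K` has odd order if the centre is odd. -/
theorem odd_card_ker {K : Subgroup G} (hodd : ¬ EvenCenter K) : Odd (Nat.card (topMap K).ker) := by
  let f : (topMap K).ker →* center (Bar K) :=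
    { toFun := fun x => ⟨QuotientGroup.mk' (oddCore ↥K) x, by
        have := x.2
        rw [MonoidHom.mem_ker] at this
        exact (QuotientGroup.eq_one_iff _).1 this⟩
      map_one' := by
        apply Subtype.ext
        simp
      map_mul' := by
        intro x y
        apply Subtype.ext
        simp }
  have h0 : f.ker.map (topMap K).ker.subtype ≤ oddCore ↥K := by
    rintro _ ⟨x, hx, rfl⟩
    have h2 : f x = 1 := hx
    exact (QuotientGroup.eq_one_iff _).1 (congrArg Subtype.val h2)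
  have h1 : Nat.card f.ker ∣ Nat.card (oddCore ↥K) := by
    have := card_dvd_of_le h0
    rwa [card_map_of_injective (topMap K).ker.subtype_injective] at this
  have h2 : Nat.card f.range ∣ Nat.card (center (Bar K)) := card_subgroup_dvd_card _
  have h3 : Nat.card (topMap K).ker = Nat.card f.ker * Nat.card f.range := by
    rw [← f.ker.card_mul_index, index_ker]
  have h4 : Odd (Nat.card (oddCore ↥K)) :=
    Nat.coprime_two_right.1 (Lib.Cores.pPrimeCore_coprime (G := ↥K) 2)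
  have h5 : Odd (Nat.card (center (Bar K))) := Nat.not_even_iff_odd.1 hodd
  rw [h3]
  exact (h4.of_dvd_nat h1).mul (h5.of_dvd_nat h2)

/-! ### fixed points lift -/

/-- The conjugation action of `P ≤ N(K)` on a `P`-invariant fibre of `K → STop K`. -/
theorem exists_fixed {K : Subgroup G} (hodd : ¬ EvenCenter K) {P : Subgroup G}
    (hP : IsPGroup 2 P) (hPK : P ≤ normalizer (K : Set G)) {l : STop K}
    (hl : ∀ p (hp : p ∈ P), act K ⟨p, hPK hp⟩ l = l) :
    ∃ k : K, (∀ p ∈ P, p * k = k * p) ∧ topMap K k = l := by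
  have : Fact (Nat.Prime 2) := ⟨Nat.prime_two⟩
  let X := {k : K // topMap K k = l}
  let _ : MulAction P X :=
    { smul := fun p k => ⟨⟨p * k.1 * (p : G)⁻¹, conj_mem (hPK p.2) k.1.2⟩, by
        rw [← act_apply (hPK p.2), k.2]
        exact hl p p.2⟩
      one_smul := fun k => by
        apply Subtype.ext
        apply Subtype.ext
        change ((1 : P) : G) * k.1 * ((1 : P) : G)⁻¹ = k.1
        simp
      mul_smul := fun p r k => by
        apply Subtype.ext
        apply Subtype.ext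
        change ((p * r : P) : G) * k.1 * ((p * r : P) : G)⁻¹ =
          (p : G) * ((r : G) * k.1 * (r : G)⁻¹) * (p : G)⁻¹
        push_cast
        group }
  obtain ⟨k₀, hk₀⟩ := topMap_surjective K l
  have hcard : Nat.card X = Nat.card (topMap K).ker := by
    refine Nat.card_congr ⟨fun k => ⟨k₀⁻¹ * k.1, ?_⟩, fun k => ⟨k₀ * k.1, ?_⟩, ?_, ?_⟩
    · rw [MonoidHom.mem_ker, map_mul, map_inv, hk₀, k.2, inv_mul_cancel]
    · rw [map_mul, hk₀, MonoidHom.mem_ker.1 k.2, mul_one]
    · intro k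
      apply Subtype.ext
      simp
    · intro k
      apply Subtype.ext
      simp
  have h2 : ¬ 2 ∣ Nat.card X := by
    rw [hcard]
    exact (odd_card_ker hodd).not_two_dvd_nat
  obtain ⟨k, hk⟩ := hP.nonempty_fixed_point_of_prime_not_dvd_card X h2
  refine ⟨k.1, fun p hp => ?_, k.2⟩
  have h3 := congrArg (fun y : X => ((y.1 : K) : G)) (hk ⟨p, hp⟩)
  have h4 : p * (k.1 : G) * p⁻¹ = k.1 := h3
  rwa [mul_inv_eq_iff_eq_mul] at h4

/-- `T` is a Sylow 2-subgroup of `H` and normalises the 2-component `K` of `H`, `Z(K/O(K))` is odd. -/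
structure Frame (H K T : Subgroup G) : Prop where
  comp : IsComp H K
  odd : ¬ EvenCenter K
  norm : T ≤ normalizer (K : Set G)
  syl : SylIn 2 T H

namespace Frame

variable {H K T : Subgroup G}

omit [Finite G] in
theorem le (h : Frame H K T) : T ≤ H := h.syl.le

omit [Finite G] in
theorem two (h : Frame H K T) : IsPGroup 2 T := h.syl.isPGroup

omit [Finite G] in
/-- A 2-subgroup of `H` containing `T` is `T`. -/
theorem eq_of_le (h : Frame H K T) {P : Subgroup G} (hP : IsPGroup 2 P) (hTP : T ≤ P)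
    (hPH : P ≤ H) : P = T := h.syl.eq_of_le hTP hPH hP

omit [Finite G] in
theorem exists_pow (h : Frame H K T) {t : G} (ht : t ∈ T) : ∃ n : ℕ, t ^ 2 ^ n = 1 := by
  obtain ⟨n, hn⟩ := h.two ⟨t, ht⟩
  exact ⟨n, by simpa using congrArg Subtype.val hn⟩

/-- `D = T ⊓ K` is a Sylow 2-subgroup of `K`. -/
theorem sylD (h : Frame H K T) : SylIn 2 (T ⊓ K) K := by
  have : Fact (Nat.Prime 2) := ⟨Nat.prime_two⟩
  refine sylIn_of inf_le_right (h.two.to_le inf_le_left) ?_
  rw [relIndex_sup h.norm]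
  exact (h.syl.of_le le_sup_left (sup_le h.le h.comp.le)).not_dvd

/-- `Q ⊓ D = 1`. -/
theorem eq_one (h : Frame H K T) {d : G} (hd : d ∈ T ⊓ K) (hf : d ∈ fix K) : d = 1 := by
  obtain ⟨n, hn⟩ := h.exists_pow hd.1
  exact eq_one_of_odd h.comp h.odd (mem_fix.1 hf) ⟨d, hd.2, by
    rw [inv_mul_cancel]; exact one_mem _⟩ hn

theorem inf_eq_bot (h : Frame H K T) : (T ⊓ K) ⊓ (T ⊓ fix K) = ⊥ := by
  rw [eq_bot_iff]
  rintro d ⟨hd, -, hf⟩
  exact mem_bot.2 (h.eq_one hd hf)

/-- `D` is normal in `T`. -/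
theorem conj_mem_D (h : Frame H K T) {t d : G} (ht : t ∈ T) (hd : d ∈ T ⊓ K) :
    t * d * t⁻¹ ∈ T ⊓ K :=
  ⟨T.mul_mem (T.mul_mem ht hd.1) (T.inv_mem ht), conj_mem (h.norm ht) hd.2⟩

/-- `Q` is normal in `T`. -/
theorem conj_mem_Q (h : Frame H K T) {t y : G} (ht : t ∈ T) (hy : y ∈ T ⊓ fix K) :
    t * y * t⁻¹ ∈ T ⊓ fix K :=
  ⟨T.mul_mem (T.mul_mem ht hy.1) (T.inv_mem ht), conj_mem_fix (h.norm ht) hy.2⟩

/-- `[Q, D] = 1`. -/
theorem comm (h : Frame H K T) {y d : G} (hy : y ∈ T ⊓ fix K) (hd : d ∈ T ⊓ K) :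
    y * d = d * y := by
  have h1 : ⁅y, d⁆ ∈ core K := (mem_fix.1 hy.2).2 d hd.2
  have h2 : ⁅y, d⁆ ∈ T := T.mul_mem (T.mul_mem (T.mul_mem hy.1 hd.1) (T.inv_mem hy.1))
    (T.inv_mem hd.1)
  obtain ⟨n, hn⟩ := h.exists_pow h2
  have h3 := eq_one_of_mem_core h1 hn
  exact commutatorElement_eq_one_iff_mul_comm.1 h3

/-- The map `D → STop K` is injective. -/
theorem eq_of_top_eq (h : Frame H K T) {a b : G} (ha : a ∈ T ⊓ K) (hb : b ∈ T ⊓ K)
    (hab : topMap K ⟨a, ha.2⟩ = topMap K ⟨b, hb.2⟩) : a = b := by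
  have h1 : (⟨a, ha.2⟩ : K)⁻¹ * ⟨b, hb.2⟩ ∈ (topMap K).ker := by
    rw [MonoidHom.mem_ker, map_mul, map_inv, hab, inv_mul_cancel]
  have h2 : a⁻¹ * b = 1 := h.eq_one (mul_mem (inv_mem ha) hb) (mem_ker_iff.1 h1)
  exact (inv_mul_eq_one.1 h2)

/-- The map `D → STop K`. -/
def dTop (_ : Frame H K T) : ↥(T ⊓ K) →* STop K := (topMap K).comp (inclusion inf_le_right)

theorem dTop_injective (h : Frame H K T) : Function.Injective h.dTop := by
  intro a b hab
  exact Subtype.ext (h.eq_of_top_eq a.2 b.2 hab)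

/-- The action of `T` on `STop K`. -/
def rho (h : Frame H K T) : T →* MulAut (STop K) := (act K).comp (inclusion h.norm)

theorem rho_eq_one_iff (h : Frame H K T) (t : T) : h.rho t = 1 ↔ (t : G) ∈ fix K := by
  rw [mem_fix]
  exact act_eq_one_iff (quasisimple h.comp) (h.norm t.2)

theorem rho_topMap (h : Frame H K T) (t : T) (k : K) :
    h.rho t (topMap K k) = topMap K ⟨t * k * (t : G)⁻¹, conj_mem (h.norm t.2) k.2⟩ := rfl

theorem rho_dTop (h : Frame H K T) (t : T) (d : ↥(T ⊓ K)) :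
    h.rho t (h.dTop d) = h.dTop ⟨t * d * (t : G)⁻¹, h.conj_mem_D t.2 d.2⟩ := rfl

/-- `D` acts by inner automorphisms. -/
theorem rho_of_mem (h : Frame H K T) (d : ↥(T ⊓ K)) :
    h.rho ⟨d, d.2.1⟩ = MulAut.conj (h.dTop d) := act_of_mem ⟨(d : G), d.2.2⟩

/-- `t ∈ T` commutes with `d ∈ D` iff `rho t` fixes the image of `d`. -/
theorem comm_iff (h : Frame H K T) (t : T) (d : ↥(T ⊓ K)) :
    (t : G) * d = d * t ↔ h.rho t (h.dTop d) = h.dTop d := by
  rw [h.rho_dTop, h.dTop_injective.eq_iff, Subtype.ext_iff]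
  exact mul_inv_eq_iff_eq_mul.symm

/-- `D` as a Sylow 2-subgroup of `K`. -/
theorem exists_sylow_K (h : Frame H K T) : ∃ P : Sylow 2 K, (P : Subgroup K) = (T ⊓ K).subgroupOf K := by
  obtain ⟨P, hP⟩ := h.sylD
  exact ⟨P, (SylIn.subgroupOf_eq hP).symm⟩

/-- The image of `D` is a Sylow 2-subgroup of `STop K`. -/
theorem exists_sylow (h : Frame H K T) : ∃ S : Sylow 2 (STop K), (S : Subgroup (STop K)) = h.dTop.range := by
  have : Fact (Nat.Prime 2) := ⟨Nat.prime_two⟩
  obtain ⟨P, hP⟩ := h.exists_sylow_K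
  refine ⟨P.mapSurjective (topMap_surjective K), ?_⟩
  rw [Sylow.coe_mapSurjective, hP]
  ext x
  constructor
  · rintro ⟨y, hy, rfl⟩
    exact ⟨⟨y, mem_subgroupOf.1 hy⟩, rfl⟩
  · rintro ⟨y, rfl⟩
    exact ⟨⟨y, y.2.2⟩, mem_subgroupOf.2 y.2, rfl⟩

/-- An element of `T` acting as an inner automorphism is in `Q D`. -/
theorem exists_mul (h : Frame H K T) {t : T} {l : STop K} (hl : h.rho t = MulAut.conj l) :
    ∃ y ∈ T ⊓ fix K, ∃ a : ↥(T ⊓ K), (t : G) = y * a ∧ h.dTop a = l := by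
  obtain ⟨S, hS⟩ := h.exists_sylow
  have h1 : l ∈ normalizer ((S : Subgroup (STop K)) : Set (STop K)) := by
    rw [mem_normalizer_iff]
    intro x
    have h3 : ∀ (u : T) (x : STop K), x ∈ (S : Subgroup (STop K)) →
        h.rho u x ∈ (S : Subgroup (STop K)) := by
      intro u x hx
      rw [hS] at hx ⊢
      obtain ⟨d, rfl⟩ := hx
      rw [h.rho_dTop]
      exact ⟨_, rfl⟩
    have h4 : ∀ x, l * x * l⁻¹ = h.rho t x := by
      intro x
      rw [hl, MulAut.conj_apply]
    rw [h4]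
    constructor
    · exact h3 t x
    · intro hx
      have h5 := h3 t⁻¹ _ hx
      rwa [map_inv, ← MulAut.mul_apply, inv_mul_cancel, MulAut.one_apply] at h5
  obtain ⟨n, hn⟩ := h.exists_pow t.2
  have h2 : l ^ 2 ^ n = 1 := by
    apply conj_injective h.comp
    rw [map_pow, ← hl, ← map_pow]
    have : t ^ 2 ^ n = 1 := Subtype.ext hn
    rw [this, map_one, map_one]
  have h3 := mem_sylow S h1 h2
  rw [hS] at h3
  obtain ⟨a, rfl⟩ := h3
  refine ⟨t * (a : G)⁻¹, ⟨T.mul_mem t.2 (T.inv_mem a.2.1), ?_⟩, a, by group, rfl⟩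
  have h4 : h.rho (t * ⟨a, a.2.1⟩⁻¹) = 1 := by
    rw [map_mul, map_inv, hl, h.rho_of_mem, mul_inv_cancel]
  exact (h.rho_eq_one_iff _).1 h4

end Frame

/-! ### existence, conjugation -/

/-- `P` a 2-subgroup of `H`, `K` normal in `H`: there is a frame with `P ≤ T`. -/
theorem exists_frame {H K P : Subgroup G} (hK : IsComp H K) (hodd : ¬ EvenCenter K)
    (hn : H ≤ normalizer (K : Set G)) (hP : IsPGroup 2 P) (hPH : P ≤ H) :
    ∃ T : Subgroup G, P ≤ T ∧ Frame H K T := by
  obtain ⟨T, hT, hPT⟩ := exists_sylIn_ge hPH hP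
  exact ⟨T, hPT, hK, hodd, hT.le.trans hn, hT⟩

theorem evenCenter_congr {K L : Subgroup G} (e : Bar K ≃* Bar L) : EvenCenter K ↔ EvenCenter L := by
  unfold EvenCenter
  rw [Nat.card_congr (Subgroup.centerCongr e).toEquiv]

theorem evenCenter_cj {K : Subgroup G} (g : G) : EvenCenter (cj g K) ↔ EvenCenter K :=
  (evenCenter_congr (cjQuot g K)).symm

theorem mem_normalizer_cj {K : Subgroup G} {t : G} (ht : t ∈ normalizer (K : Set G)) (g : G) :
    g * t * g⁻¹ ∈ normalizer (cj g K : Set G) := by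
  rw [mem_normalizer_iff]
  intro x
  rw [mem_cj, mem_cj]
  have h1 : g⁻¹ * (g * t * g⁻¹ * x * (g * t * g⁻¹)⁻¹) * g = t * (g⁻¹ * x * g) * t⁻¹ := by group
  rw [h1]
  exact mem_normalizer_iff.1 ht _

theorem Frame.cj {H K T : Subgroup G} (h : Frame H K T) (g : G) :
    Frame (cj g H) (cj g K) (cj g T) := by
  have : Fact (Nat.Prime 2) := ⟨Nat.prime_two⟩
  refine ⟨h.comp.cj g, fun h1 => h.odd ((evenCenter_cj g).1 h1), ?_, h.syl.map_conj g⟩
  rintro _ ⟨t, ht, rfl⟩
  exact mem_normalizer_cj (h.norm ht) g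

/-- `fix` of a conjugate. -/
theorem fix_cj {K : Subgroup G} (g : G) : fix (cj g K) = cj g (fix K) := by
  ext x
  rw [mem_cj, mem_fix, mem_fix]
  constructor
  · intro h
    have h1 := h.cj g⁻¹
    rw [IntrinsicBasic.cj_inv_cj, inv_inv] at h1
    exact h1
  · intro h
    have h1 := h.cj g
    have h2 : g * (g⁻¹ * x * g) * g⁻¹ = x := by group
    rwa [h2] at h1

end Cfsg.Agent.GH.L2Frame
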