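import Cfsg.Agent.GH.LemmaS
import Cfsg.Agent.GH.L2Frame
import Cfsg.Agent.TwoFusion.PResidual
import Cfsg.Agent.TwoFusion.IndexTwo
import Cfsg.Agent.GH.L2AutSyl

/-!
# GH-L2, case D (helper742 #6909 (2))

`X` an `XSet` of involutions, `KK y / O = L₂(q)`, `q` odd, for `y ∈ X`.  It is impossible that all non-linked
pairs (`y, t ∈ X` commuting, `t` does not fix `KK y`) are of d-type, i.e. `t` acts on `KK y / O` as an
element of `PGL₂(q) - PSL₂(q)`.

The facts about `Aut (L₂(q))` are the fields of `DFacts X P`, `P y` = the elements of `C(y)` acting as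
elements of `PGL₂(q)`.
-/

set_option autoImplicit false

open Cfsg Subgroup
open Cfsg.Agent.SignalizersComponents Cfsg.Agent.Lib
open Cfsg.Agent.SignalizersComponents.IntrinsicBasic
open Cfsg.Agent.Intrinsic.Basic Cfsg.Agent.Intrinsic.Cen
open Cfsg.Agent.GH.Defs Cfsg.Agent.GH.Comp Cfsg.Agent.GH.XSet Cfsg.Agent.GH.L2Frame
open Cfsg.Agent.Walter.SylowIn
open scoped commutatorElement Pointwise

namespace Cfsg.Agent.GH.L2CaseD

variable {G : Type*} [Group G]

/-- The elements acting on `K / O(K)` as inner automorphisms. -/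
def inn (K : Subgroup G) : Subgroup G := K ⊔ fixer K

theorem mem_inn_of_fixes {K : Subgroup G} {a : G} (h : Fixes a K) : a ∈ inn K :=
  (le_sup_right : fixer K ≤ inn K) h

theorem mem_inn_of_mem {K : Subgroup G} {a : G} (h : a ∈ K) : a ∈ inn K :=
  (le_sup_left : K ≤ inn K) h

/-- The facts on the action of `C(y)` on `KK y / O = L₂(q)`, `y ∈ X`; `P y` is the set of the elements
acting as elements of `PGL₂(q)`. -/
structure DFacts (X : Set G) (P : G → Set G) : Prop where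
  odd : ∀ y ∈ X, ¬ EvenCenter (KK y)
  mul : ∀ y ∈ X, ∀ a b : G, Commute a y → Commute b y → a ∈ P y → b ∈ P y → a ∉ inn (KK y) →
    b ∉ inn (KK y) → a * b ∈ inn (KK y)
  sq : ∀ y ∈ X, ∀ w : G, Commute w y → w * w ∈ P y → w * w ∈ inn (KK y)
  cyc : ∀ y ∈ X, ∀ T : Subgroup G, IsPGroup 2 T → T ≤ centralizer ({y} : Set G) →
    ∃ w ∈ T, ∀ s ∈ T, ∃ k : ℤ, w ^ k * s ∈ P y
  dtype : ∀ y ∈ X, ∀ T : Subgroup G, SylIn 2 T (centralizer ({y} : Set G)) → ∀ t ∈ T, t * t = 1 →
    t ∈ P y → t ∉ inn (KK y) →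
    ∃ z ∈ T ⊓ KK y, z ≠ 1 ∧ t * z = z * t ∧
      (∀ d ∈ T ⊓ KK y, t * d = d * t → d = 1 ∨ d = z) ∧
      ∀ d ∈ T ⊓ KK y, (t * d) * (t * d) = 1 → ∃ a ∈ T ⊓ KK y, a * t * a⁻¹ = t * d

section finite

variable [Finite G] {X : Set G} {N : ℕ} {P : G → Set G}

theorem frame (h : XBase X) (ho : ∀ y ∈ X, ¬ EvenCenter (KK y)) {y : G} (hy : y ∈ X)
    {T : Subgroup G} (hT : SylIn 2 T (centralizer ({y} : Set G))) :
    Frame (centralizer ({y} : Set G)) (KK y) T :=
  ⟨h.comp y hy, ho y hy, fun _ ht => h.mem_normalizer hy (mem_centralizer_singleton_iff.mp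
    (hT.le ht)), hT⟩

/-- Elements of `T` acting as inner automorphisms are in `Q D`. -/
theorem exists_mul {H K T : Subgroup G} (F : Frame H K T) {t : G} (ht : t ∈ T) (hi : t ∈ inn K) :
    ∃ q ∈ T, Fixes q K ∧ ∃ d ∈ T ⊓ K, t = q * d := by
  have h1 : (K : Set G) * (fixer K : Set G) = ((K ⊔ fixer K : Subgroup G) : Set G) := by
    refine (Subgroup.coe_mul_of_left_le_normalizer_right K (fixer K) ?_).symm
    intro k hk
    rw [mem_normalizer_iff]
    intro f
    have key : ∀ (k : G), k ∈ K → ∀ f : G, f ∈ fixer K → k * f * k⁻¹ ∈ fixer K := by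
      intro k hk f hf
      exact mem_fix.1 (conj_mem_fix (le_normalizer hk) (mem_fix.2 hf))
    refine ⟨key k hk f, fun hf => ?_⟩
    have h2 := key k⁻¹ (K.inv_mem hk) _ hf
    have e : k⁻¹ * (k * f * k⁻¹) * k⁻¹⁻¹ = f := by group
    rwa [e] at h2
  have h2 : t ∈ (K : Set G) * (fixer K : Set G) := by rw [h1]; exact hi
  obtain ⟨k, hk, f, hf, rfl⟩ := Set.mem_mul.mp h2
  have hrho : F.rho ⟨k * f, ht⟩ = MulAut.conj (topMap K ⟨k, hk⟩) := by
    have hf1 : Fixes f K := hf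
    have h3 : act K ⟨f, hf1.1⟩ = 1 := (act_eq_one_iff (quasisimple F.comp) hf1.1).2 hf1
    have h4 : F.rho ⟨k * f, ht⟩ = act K (⟨k, le_normalizer hk⟩ * ⟨f, hf1.1⟩) := rfl
    rw [h4, map_mul, h3, mul_one]
    exact act_of_mem ⟨k, hk⟩
  obtain ⟨q, hq, a, ha, -⟩ := F.exists_mul hrho
  exact ⟨q, hq.1, mem_fix.1 hq.2, a, a.2, ha⟩

/-- `y, u, t ∈ X`, commuting, `u` fixes `KK y`, `t` does not fix `KK y`; then `t` does not fix `KK u`. -/
theorem not_fixes (h : XSet X N) {y u t : G} (hy : y ∈ X) (hu : u ∈ X)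
    (hyu : Commute y u) (hyt : Commute y t) (hut : Commute u t) (hf : Fixes u (KK y))
    (hn : ¬ Fixes t (KK y)) : ¬ Fixes t (KK u) := by
  intro hcon
  apply hn
  have h1 := h.fixes_symm hy hu hyu hf
  have h2 := h.toXBase.cen_sup hy hu hyu hf
  have h3 := h.toXBase.cen_sup hu hy hyu.symm h1
  rw [← h.toXBase.cen_eq hy hu hyu hf h1] at h3
  have h4 : t ∈ normalizer (cen (KK y) u : Set G) := by
    refine mem_normalizer_cen (h.toXBase.mem_normalizer hy hyt.symm) ?_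
    exact hut.symm.eq
  exact (fixes_iff_of_sup h2 h4 (h.toXBase.mem_normalizer hy hyt.symm)).mp
    ((fixes_iff_of_sup h3 h4 (h.toXBase.mem_normalizer hu hut.symm)).mpr hcon)

/-- The hypothesis of case D. -/
def Hyp (X : Set G) (P : G → Set G) : Prop :=
  ∀ y ∈ X, ∀ t ∈ X, Commute y t → ¬ Fixes t (KK y) → t ∈ P y ∧ t ∉ inn (KK y)

/-- Elements of `X` acting as inner automorphisms on `KK y` fix `KK y`. -/
theorem fixes_of_inn (hyp : Hyp X P) {y u : G} (hy : y ∈ X) (hu : u ∈ X) (hyu : Commute y u)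
    (hi : u ∈ inn (KK y)) : Fixes u (KK y) := by
  by_contra hcon
  exact (hyp y hy u hu hyu hcon).2 hi

theorem pair (h : XSet X N) (F : DFacts X P) (hyp : Hyp X P) {y t : G} (hy : y ∈ X) (ht : t ∈ X)
    (hyt : Commute y t) (hf : ¬ Fixes t (KK y)) {T : Subgroup G}
    (hT : SylIn 2 T (centralizer ({y} : Set G))) (htT : t ∈ T) :
    ∃ z ∈ T ⊓ KK y, z ≠ 1 ∧ z * z = 1 ∧ t * z = z * t ∧ z ∉ X ∧ y * z ∉ X ∧ t * z ∈ X ∧
      (∀ d ∈ T ⊓ KK y, t * d = d * t → d = 1 ∨ d = z) ∧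
      (∃ a ∈ T ⊓ KK y, a * t * a⁻¹ = t * z) ∧
      ∀ d ∈ T ⊓ KK y, (t * d) * (t * d) = 1 → ∃ a ∈ T ⊓ KK y, a * t * a⁻¹ = t * d := by
  obtain ⟨h1, h2⟩ := hyp y hy t ht hyt hf
  obtain ⟨z, hz, hz1, htz, hc, hd⟩ := F.dtype y hy T hT t htT (h.toXBase.sq ht) h1 h2
  have fr := frame h.toXBase F.odd hy hT
  have htt := h.toXBase.sq ht
  have hzz : z * z = 1 := by
    rcases hc (z * z) (mul_mem hz hz) (by rw [← mul_assoc, htz, mul_assoc, htz, mul_assoc]) with h3 | h3
    · exact h3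
    · exact absurd (mul_eq_left.mp h3) hz1
  have hzf : ¬ Fixes z (KK y) := fun h3 => hz1 (fr.eq_one hz (mem_fix.2 h3))
  have hyz : Commute y z := (h.toXBase.comm_of_mem hy hz.2).symm
  have ha := hd z hz (by
    calc t * z * (t * z) = t * (z * t) * z := by group
      _ = (t * t) * (z * z) := by rw [← htz]; group
      _ = 1 := by rw [htt, hzz, one_mul])
  have hyf : Fixes y (KK y) := h.toXBase.fixes_self hy
  refine ⟨z, hz, hz1, hzz, htz, ?_, ?_, ?_, hc, ha, hd⟩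
  · intro h3
    exact hzf (fixes_of_inn hyp hy h3 hyz (mem_inn_of_mem hz.2))
  · intro h3
    have h4 := fixes_of_inn hyp hy h3 ((Commute.refl y).mul_right hyz)
      (mul_mem (mem_inn_of_fixes hyf) (mem_inn_of_mem hz.2))
    apply hzf
    have h5 := fixes_mul (fixes_inv hyf) h4
    rwa [inv_mul_cancel_left] at h5
  · obtain ⟨a, -, ha⟩ := ha
    rw [← ha]
    exact h.conj t ht a

/-- Involutions of `C_Q(t)`. -/
theorem inv_cases (h : XSet X N) (F : DFacts X P) (hyp : Hyp X P) {y t : G} (hy : y ∈ X)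
    (ht : t ∈ X) (hyt : Commute y t) (hf : ¬ Fixes t (KK y)) {q : G} (hyq : Commute y q)
    (hqf : Fixes q (KK y)) (hqq : q * q = 1) (hqt : Commute q t) : q = 1 ∨ q = y := by
  have : Fact (Nat.Prime 2) := ⟨Nat.prime_two⟩
  have hyy := h.toXBase.sq hy
  have hyf : Fixes y (KK y) := h.toXBase.fixes_self hy
  by_contra hcon
  push Not at hcon
  obtain ⟨hq1, hqy⟩ := hcon
  have key : ∀ u : G, u ≠ 1 → u * u = 1 → Fixes u (KK y) → Commute y u → Commute u t →
      u ∈ P t ∧ u ∉ inn (KK t) := by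
    intro u hu1 huu huf hyu hut
    have hu2 : orderOf u = 2 := orderOf_eq_prime (by rw [pow_two]; exact huu) hu1
    have huX : u ∈ X := h.closed y hy u hu2 hyu.symm huf
    have h1 := not_fixes h hy huX hyu hyt hut huf hf
    have h2 : ¬ Fixes u (KK t) := fun h3 => h1 (h.fixes_symm ht huX hut.symm h3)
    exact hyp t ht u huX hut.symm h2
  obtain ⟨a1, a2⟩ := key y (h.toXBase.ne_one hy) hyy hyf (Commute.refl y) hyt
  obtain ⟨b1, b2⟩ := key q hq1 hqq hqf hyq hqt
  obtain ⟨-, c2⟩ := key (y * q) (fun h1 => hqy (by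
      rw [mul_eq_one_iff_eq_inv] at h1
      rw [h1, inv_eq_of_mul_eq_one_right hqq])) (by
      calc y * q * (y * q) = y * (q * y) * q := by group
        _ = (y * y) * (q * q) := by rw [← hyq.eq]; group
        _ = 1 := by rw [hyy, hqq, one_mul]) (fixes_mul hyf hqf)
      ((Commute.refl y).mul_right hyq) (hyt.mul_left hqt)
  exact c2 (F.mul t ht y q hyt hqt a1 b1 a2 b2)

omit [Finite G] in
/-- Central involutions are in the Sylow 2-subgroups. -/
theorem mem_of_central {R H : Subgroup G} (hR : SylIn 2 R H) {u : G} (hu : u ∈ H) (huu : u * u = 1)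
    (hc : ∀ r ∈ R, Commute u r) : u ∈ R := by
  have h1 : IsPGroup 2 (zpowers u) := by
    intro ⟨x, hx⟩
    obtain ⟨k, rfl⟩ := mem_zpowers_iff.1 hx
    refine ⟨1, Subtype.ext ?_⟩
    change (u ^ k) ^ 2 ^ 1 = 1
    rw [pow_one, pow_two, ← (Commute.refl u).mul_zpow, huu, one_zpow]
  have h2 : zpowers u ≤ normalizer (R : Set G) := by
    rw [zpowers_le, mem_normalizer_iff]
    intro r
    have key : ∀ u : G, (∀ r ∈ R, Commute u r) → ∀ r ∈ R, u * r * u⁻¹ ∈ R := by
      intro u hu r hr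
      rw [(hu r hr).eq, mul_inv_cancel_right]
      exact hr
    refine ⟨key u hc r, fun hr => ?_⟩
    have h3 := key u⁻¹ (fun r hr => (hc r hr).inv_left) _ hr
    have e : u⁻¹ * (u * r * u⁻¹) * u⁻¹⁻¹ = r := by group
    rwa [e] at h3
  have h3 : IsPGroup 2 (zpowers u ⊔ R : Subgroup G) := h1.to_sup_of_normal_right' hR.isPGroup h2
  have h4 := hR.eq_of_le le_sup_right (sup_le (by rwa [zpowers_le]) hR.le) h3
  rw [← h4]
  exact mem_sup_left (mem_zpowers u)

/-- Decomposition of an involution of `T` acting as an inner automorphism and commuting with `t ∈ T`. -/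
theorem decomp {H K T : Subgroup G} (F : Frame H K T) {t v : G} (ht : t ∈ T) (hv : v ∈ T)
    (hvv : v * v = 1) (htv : Commute t v) (hi : v ∈ inn K) :
    ∃ q ∈ T, Fixes q K ∧ q * q = 1 ∧ Commute q t ∧ ∃ d ∈ T ⊓ K, t * d = d * t ∧ v = q * d := by
  obtain ⟨q, hq, hqf, d, hd, rfl⟩ := exists_mul F hv hi
  have hq' : q ∈ T ⊓ fix K := ⟨hq, mem_fix.2 hqf⟩
  have hqd := F.comm hq' hd
  -- `t` commutes with `q` and `d`
  have h1 := F.conj_mem_Q ht hq'
  have h2 := F.conj_mem_D ht hd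
  have h3 : q⁻¹ * (t * q * t⁻¹) = d * (t * d * t⁻¹)⁻¹ := by
    have h4 : (t * q * t⁻¹) * (t * d * t⁻¹) = q * d := by
      calc (t * q * t⁻¹) * (t * d * t⁻¹) = t * (q * d) * t⁻¹ := by group
        _ = q * d := by rw [htv.eq]; group
    rw [inv_mul_eq_iff_eq_mul, ← mul_assoc, ← h4]
    group
  have h4 : q⁻¹ * (t * q * t⁻¹) = 1 := by
    apply F.eq_one
    · rw [h3]
      exact mul_mem hd (inv_mem h2)
    · exact mul_mem (inv_mem hq'.2) h1.2
  have h5 : t * q = q * t := by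
    rw [inv_mul_eq_one] at h4
    rw [eq_mul_inv_iff_mul_eq] at h4
    exact h4.symm
  have h6 : t * d = d * t := by
    rw [h4] at h3
    have h7 := (mul_inv_eq_one.mp h3.symm)
    rw [eq_mul_inv_iff_mul_eq] at h7
    exact h7.symm
  refine ⟨q, hq, hqf, ?_, h5.symm, d, hd, h6, rfl⟩
  apply F.eq_one
  · have h7 : q * q = (d * d)⁻¹ := by
      rw [eq_inv_iff_mul_eq_one]
      calc q * q * (d * d) = q * (q * d) * d := by group
        _ = q * (d * q) * d := by rw [hqd]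
        _ = 1 := by rw [← hvv]; group
    rw [h7]
    exact inv_mem (mul_mem hd hd)
  · exact mul_mem hq'.2 hq'.2

/-- Steps (a), (b): `t y ∉ X`. -/
theorem mul_notMem (h : XSet X N) (F : DFacts X P) (hyp : Hyp X P) {y t : G} (hy : y ∈ X)
    (ht : t ∈ X) (hyt : Commute y t) (hf : ¬ Fixes t (KK y)) : t * y ∉ X := by
  have : Fact (Nat.Prime 2) := ⟨Nat.prime_two⟩
  have hyy := h.toXBase.sq hy
  have htt := h.toXBase.sq ht
  have hf' : ¬ Fixes y (KK t) := fun h1 => hf (h.fixes_symm ht hy hyt.symm h1)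
  have hyf : Fixes y (KK y) := h.toXBase.fixes_self hy
  -- the Sylow subgroups
  obtain ⟨R, hR⟩ := exists_sylIn (G := G) 2 (centralizer ({y} : Set G) ⊓ centralizer ({t} : Set G))
  obtain ⟨T, hT, hRT⟩ := exists_sylIn_ge (hR.le.trans inf_le_left) hR.isPGroup
  obtain ⟨T', hT', hRT'⟩ := exists_sylIn_ge (hR.le.trans inf_le_right) hR.isPGroup
  have hyR : y ∈ R := by
    refine mem_of_central hR ⟨mem_centralizer_singleton_iff.mpr rfl,
      mem_centralizer_singleton_iff.mpr hyt.eq⟩ hyy fun r hr => ?_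
    exact (mem_centralizer_singleton_iff.mp (hR.le hr).1).symm
  have htR : t ∈ R := by
    refine mem_of_central hR ⟨mem_centralizer_singleton_iff.mpr hyt.symm.eq,
      mem_centralizer_singleton_iff.mpr rfl⟩ htt fun r hr => ?_
    exact (mem_centralizer_singleton_iff.mp (hR.le hr).2).symm
  have hT'R : T' ⊓ centralizer ({y} : Set G) ≤ R := by
    have h1 := hR.eq_of_le (R := T' ⊓ centralizer ({y} : Set G))
      (le_inf hRT' (hR.le.trans inf_le_left)) (le_inf inf_le_right (inf_le_left.trans hT'.le))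
      (hT'.isPGroup.to_le inf_le_left)
    exact h1.le
  obtain ⟨z, hz, hz1, hzz, htz, hzX, hyzX, htzX, hc, ⟨a, haD, ha⟩, -⟩ :=
    pair h F hyp hy ht hyt hf hT (hRT htR)
  obtain ⟨z', hz', hz'1, hz'z', hyz', hz'X, htz'X, hyz'X, -⟩ :=
    pair h F hyp ht hy hyt.symm hf' hT' (hRT' hyR)
  have htz' : Commute t z' := (h.toXBase.comm_of_mem ht hz'.2).symm
  have hz'R : z' ∈ R := hT'R ⟨hz'.1, mem_centralizer_singleton_iff.mpr hyz'.symm⟩
  -- `z'` does not fix `KK y`
  have hz'f : ¬ Fixes z' (KK y) := fun h1 => hz'X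
    (h.closed y hy z' (orderOf_eq_prime (by rw [pow_two]; exact hz'z') hz'1) hyz'.symm h1)
  have hyz'f : ¬ Fixes (y * z') (KK y) := by
    intro h1
    apply hz'f
    have h2 := fixes_mul (fixes_inv hyf) h1
    rwa [inv_mul_cancel_left] at h2
  obtain ⟨b1, b2⟩ := hyp y hy _ hyz'X ((Commute.refl y).mul_right hyz') hyz'f
  obtain ⟨a1, a2⟩ := hyp y hy t ht hyt hf
  -- `t z'` is inner
  have h1 : t * z' ∈ inn (KK y) := by
    have h2 := F.mul y hy t (y * z') hyt.symm (((Commute.refl y).mul_right hyz').symm) a1 b1 a2 b2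
    have h3 : t * z' = y * (t * (y * z')) := by
      calc t * z' = (y * y) * (t * z') := by rw [hyy, one_mul]
        _ = y * (y * t) * z' := by group
        _ = y * (t * (y * z')) := by rw [hyt.eq]; group
    rw [h3]
    exact mul_mem (mem_inn_of_fixes hyf) h2
  have h2 : (t * z') * (t * z') = 1 := by
    calc (t * z') * (t * z') = t * (z' * t) * z' := by group
      _ = (t * t) * (z' * z') := by rw [← htz'.eq]; group
      _ = 1 := by rw [htt, hz'z', one_mul]
  have h3 : t * z' ≠ 1 := by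
    intro h4
    apply hz'X
    rw [mul_eq_one_iff_eq_inv, inv_eq_of_mul_eq_one_right hz'z'] at h4
    rwa [← h4]
  have hcy : Commute (t * z') y := hyt.symm.mul_left hyz'.symm
  obtain ⟨q, hq, hqf, hqq, hqt, d, hd, hdt, hv⟩ := decomp (frame h.toXBase F.odd hy hT) (hRT htR)
    (mul_mem (hRT htR) (hRT hz'R)) h2 ((Commute.refl t).mul_right htz') h1
  rcases hc d hd hdt with hd1 | hd1
  · exfalso
    apply htz'X
    refine h.closed y hy _ (orderOf_eq_prime (by rw [pow_two]; exact h2) h3) hcy ?_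
    rw [hv, hd1, mul_one]
    exact hqf
  rw [hd1] at hv
  rcases inv_cases h F hyp hy ht hyt hf (mem_centralizer_singleton_iff.mp (hT.le hq)).symm hqf hqq
    hqt with h4 | h4
  · exfalso
    apply hz'X
    rw [h4, one_mul] at hv
    have h5 : z' = t * z := by
      rw [← hv, ← mul_assoc, htt, one_mul]
    rwa [h5]
  rw [h4] at hv
  have h5 : z' = t * y * z := by
    calc z' = t * (t * z') := by rw [← mul_assoc, htt, one_mul]
      _ = t * y * z := by rw [hv]; group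
  intro h6
  apply hz'X
  have h7 := h.conj _ h6 a
  have hay : Commute a y := h.toXBase.comm_of_mem hy haD.2
  have h8 : a * (t * y) * a⁻¹ = z' := by
    have hyz : Commute y z := (h.toXBase.comm_of_mem hy hz.2).symm
    calc a * (t * y) * a⁻¹ = (a * t * a⁻¹) * (a * y * a⁻¹) := by group
      _ = (t * z) * y := by rw [ha, hay.eq, mul_inv_cancel_right]
      _ = z' := by rw [h5, mul_assoc, mul_assoc, hyz.eq]
  rwa [h8] at h7

/-- Step (c), first half: `C_Q(t) = ⟨y⟩`. -/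
theorem cent_cases (h : XSet X N) (F : DFacts X P) (hyp : Hyp X P) {y t : G} (hy : y ∈ X)
    (ht : t ∈ X) (hyt : Commute y t) (hf : ¬ Fixes t (KK y)) {q : G} (hyq : Commute y q)
    (hqf : Fixes q (KK y)) (hq2 : ∃ n : ℕ, q ^ 2 ^ n = 1) (hqt : Commute q t) :
    q = 1 ∨ q = y := by
  classical
  by_cases hqq : q * q = 1
  · exact inv_cases h F hyp hy ht hyt hf hyq hqf hqq hqt
  exfalso
  have hn1 := Nat.find_spec hq2
  have hn2 : ∀ m : ℕ, q ^ 2 ^ m = 1 → Nat.find hq2 ≤ m := fun m hm => Nat.find_min' hq2 hm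
  obtain ⟨n, hn⟩ : ∃ n, Nat.find hq2 = n := ⟨_, rfl⟩
  rw [hn] at hn1
  match n, hn1, hn with
  | 0, hn1, _ =>
    apply hqq
    have h1 : q = 1 := by simpa using hn1
    rw [h1, one_mul]
  | 1, hn1, _ =>
    apply hqq
    rw [← pow_two]
    simpa using hn1
  | n + 2, hn1, hn =>
    have hw4 : (q ^ 2 ^ n * q ^ 2 ^ n) * (q ^ 2 ^ n * q ^ 2 ^ n) = 1 := by
      rw [← pow_add, ← pow_add, ← hn1]
      congr 1
      rw [pow_add]; omega
    have hw2 : q ^ 2 ^ n * q ^ 2 ^ n ≠ 1 := by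
      intro h1
      have h2 : q ^ 2 ^ (n + 1) = 1 := by
        rw [pow_succ, mul_two, pow_add]
        exact h1
      have h3 := hn2 _ h2
      omega
    have h1 : q ^ 2 ^ n * q ^ 2 ^ n = y := by
      refine (inv_cases h F hyp hy ht hyt hf ?_ ?_ hw4 ?_).resolve_left hw2
      · exact (hyq.pow_right _).mul_right (hyq.pow_right _)
      · have h2 : q ^ 2 ^ n ∈ fixer (KK y) := pow_mem (show q ∈ fixer (KK y) from hqf) _
        exact mul_mem h2 h2
      · exact (hqt.pow_left _).mul_left (hqt.pow_left _)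
    have hf' : ¬ Fixes y (KK t) := fun h1 => hf (h.fixes_symm ht hy hyt.symm h1)
    obtain ⟨h2, h3⟩ := hyp t ht y hy hyt.symm hf'
    apply h3
    rw [← h1] at h2 ⊢
    exact F.sq t ht _ (hqt.pow_left _) h2

/-- Step (c): `Q = ⟨y⟩`. -/
theorem Q_cases (h : XSet X N) (F : DFacts X P) (hyp : Hyp X P) {y t : G} (hy : y ∈ X)
    (ht : t ∈ X) (hyt : Commute y t) (hf : ¬ Fixes t (KK y)) {T : Subgroup G}
    (hT : SylIn 2 T (centralizer ({y} : Set G))) (htT : t ∈ T) {q : G} (hq : q ∈ T)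
    (hqf : Fixes q (KK y)) : q = 1 ∨ q = y := by
  have : Fact (Nat.Prime 2) := ⟨Nat.prime_two⟩
  have hyy := h.toXBase.sq hy
  have htt := h.toXBase.sq ht
  have hyf : Fixes y (KK y) := h.toXBase.fixes_self hy
  have fr := frame h.toXBase F.odd hy hT
  have hyT : y ∈ T := mem_of_central hT (mem_centralizer_singleton_iff.mpr rfl) hyy fun r hr =>
    (mem_centralizer_singleton_iff.mp (hT.le hr)).symm
  have hcT : ∀ r ∈ T, Commute y r := fun r hr => (mem_centralizer_singleton_iff.mp (hT.le hr)).symm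
  by_contra hcon
  push Not at hcon
  have hty : t ≠ y := by
    rintro rfl
    exact hf hyf
  have four : L2Aut.Four t y :=
    ⟨htt, hyy, h.toXBase.ne_one ht, h.toXBase.ne_one hy, hty, hyt.symm.eq⟩
  obtain ⟨Q, hQ⟩ : ∃ Q, Q = T ⊓ fixer (KK y) := ⟨_, rfl⟩
  have hmemQ : ∀ q, q ∈ Q ↔ q ∈ T ∧ Fixes q (KK y) := by
    intro q
    rw [hQ]
    exact Iff.rfl
  have htQ : ∀ q ∈ Q, t * q * t⁻¹ ∈ Q := by
    intro q hq
    rw [hmemQ] at hq ⊢
    have h1 := fr.conj_mem_Q htT (y := q) ⟨hq.1, mem_fix.2 hq.2⟩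
    exact ⟨h1.1, mem_fix.1 h1.2⟩
  have htQ' : zpowers t ≤ normalizer (Q : Set G) := by
    rw [zpowers_le, mem_normalizer_iff]
    intro q
    refine ⟨htQ q, fun hq => ?_⟩
    have h1 := htQ _ hq
    have e : t * (t * q * t⁻¹) * t⁻¹ = q := by
      have h2 : t⁻¹ = t := inv_eq_of_mul_eq_one_right htt
      calc t * (t * q * t⁻¹) * t⁻¹ = (t * t) * q * (t⁻¹ * t⁻¹) := by group
        _ = q := by rw [h2, htt, one_mul, mul_one]
    rwa [e] at h1
  have hS0 : ∀ s ∈ zpowers t ⊔ Q, s ∈ Q ∨ t * s ∈ Q := by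
    intro s hs
    have h1 : s ∈ (zpowers t : Set G) * (Q : Set G) := by
      rw [← Subgroup.coe_mul_of_left_le_normalizer_right _ _ htQ']
      exact hs
    obtain ⟨a, ha, q, hq, rfl⟩ := Set.mem_mul.mp h1
    obtain ⟨k, rfl⟩ := mem_zpowers_iff.1 ha
    have ht2 : t ^ (2 : ℤ) = 1 := by rw [zpow_two]; exact htt
    rcases Int.even_or_odd' k with ⟨m, hm | hm⟩
    · left
      rw [hm, zpow_mul, ht2, one_zpow, one_mul]
      exact hq
    · right
      rw [hm, zpow_add, zpow_mul, ht2, one_zpow, one_mul, zpow_one, ← mul_assoc, htt, one_mul]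
      exact hq
  have hS0T : zpowers t ⊔ Q ≤ T := sup_le (by rwa [zpowers_le]) (fun q hq => ((hmemQ q).mp hq).1)
  have hS0p : IsPGroup 2 (zpowers t ⊔ Q : Subgroup G) := hT.isPGroup.to_le hS0T
  have hyQ : y ∈ Q := (hmemQ y).mpr ⟨hyT, hyf⟩
  have hH : four.sub ≤ zpowers t ⊔ Q := by
    have h1 : t ∈ zpowers t ⊔ Q := mem_sup_left (mem_zpowers t)
    have h2 : y ∈ zpowers t ⊔ Q := mem_sup_right hyQ
    rintro s (rfl | rfl | rfl | rfl)
    · exact one_mem _
    · exact h1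
    · exact h2
    · exact mul_mem h1 h2
  -- elements of `Q` in the four-group
  have hQH : ∀ q ∈ Q, q ∈ four.sub → q = 1 ∨ q = y := by
    rintro q hq (rfl | rfl | rfl | rfl)
    · exact Or.inl rfl
    · exact absurd ((hmemQ _).mp hq).2 hf
    · exact Or.inr rfl
    · exfalso
      apply hf
      have h1 := fixes_mul ((hmemQ _).mp hq).2 hyf
      rwa [mul_assoc, hyy, mul_one] at h1
  have hlt : four.sub < zpowers t ⊔ Q := by
    refine lt_of_le_of_ne hH fun h1 => ?_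
    have h2 : q ∈ four.sub := by
      rw [h1]
      exact mem_sup_right ((hmemQ q).mpr ⟨hq, hqf⟩)
    rcases hQH q ((hmemQ q).mpr ⟨hq, hqf⟩) h2 with h3 | h3
    · exact hcon.1 h3
    · exact hcon.2 h3
  obtain ⟨s, ⟨hs, hsN⟩, hsH⟩ := SetLike.exists_of_lt
    (SmallSimple.SylowMaxInter.lt_inf_normalizer hS0p hlt)
  have htH : t ∈ four.sub := Or.inr (Or.inl rfl)
  -- an element `q'` of `Q` normalising the four-group
  obtain ⟨q', hq', hq'N, hq'H⟩ : ∃ q' ∈ Q, q' ∈ normalizer (four.sub : Set G) ∧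
      q' ∉ four.sub := by
    rcases hS0 s hs with h1 | h1
    · exact ⟨s, h1, hsN, hsH⟩
    · refine ⟨t * s, h1, mul_mem (Subgroup.le_normalizer htH) hsN, fun h2 => hsH ?_⟩
      have h3 := mul_mem htH h2
      rwa [← mul_assoc, htt, one_mul] at h3
  have hq'T := ((hmemQ q').mp hq').1
  have hq'c : ¬ Commute q' t := by
    intro h1
    have h2 := cent_cases h F hyp hy ht hyt hf (hcT q' hq'T) ((hmemQ q').mp hq').2
      (fr.exists_pow hq'T) h1
    apply hq'H
    rcases h2 with rfl | rfl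
    · exact one_mem _
    · exact Or.inr (Or.inr (Or.inl rfl))
  have h1 : q' * t * q'⁻¹ ∈ four.sub := (mem_normalizer_iff.mp hq'N t).mp htH
  rcases h1 with h1 | h1 | h1 | h1
  · apply four.a1
    have e : t = q'⁻¹ * (q' * t * q'⁻¹) * q' := by group
    rw [e, h1]; group
  · exact hq'c (mul_inv_eq_iff_eq_mul.mp h1)
  · apply hty
    have e : t = q'⁻¹ * (q' * t * q'⁻¹) * q' := by group
    rw [e, h1, mul_assoc, (hcT q' hq'T).eq, inv_mul_cancel_left]
  · apply mul_notMem h F hyp hy ht hyt hf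
    rw [← h1]
    exact h.conj t ht q'

/-- Step (d): `T` is a Sylow 2-subgroup of `G`. -/
theorem eq_sylow (h : XSet X N) (F : DFacts X P) (hyp : Hyp X P) {y t : G} (hy : y ∈ X)
    (ht : t ∈ X) (hyt : Commute y t) (hf : ¬ Fixes t (KK y)) {T : Subgroup G}
    (hT : SylIn 2 T (centralizer ({y} : Set G))) (htT : t ∈ T) {S : Sylow 2 G}
    (hTS : T ≤ (S : Subgroup G)) : T = (S : Subgroup G) := by
  have : Fact (Nat.Prime 2) := ⟨Nat.prime_two⟩
  by_contra hne
  obtain ⟨s, ⟨hs, hsN⟩, hsT⟩ := SetLike.exists_of_lt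
    (SmallSimple.SylowMaxInter.lt_inf_normalizer S.2 (lt_of_le_of_ne hTS hne))
  have hyy := h.toXBase.sq hy
  have hyT : y ∈ T := mem_of_central hT (mem_centralizer_singleton_iff.mpr rfl) hyy fun r hr =>
    (mem_centralizer_singleton_iff.mp (hT.le hr)).symm
  have hcT : ∀ r ∈ T, Commute y r := fun r hr => (mem_centralizer_singleton_iff.mp (hT.le hr)).symm
  have hu : s * y * s⁻¹ ∈ X := h.conj y hy s
  have huT : s * y * s⁻¹ ∈ T := (mem_normalizer_iff.mp hsN y).mp hyT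
  have huc : ∀ r ∈ T, Commute (s * y * s⁻¹) r := by
    intro r hr
    have h1 : s⁻¹ * r * s ∈ T := by
      have h2 := (mem_normalizer_iff.mp (inv_mem hsN) r).mp hr
      rwa [inv_inv] at h2
    have h2 := hcT _ h1
    have h3 := h2.map (MulAut.conj s).toMonoidHom
    have e : (MulAut.conj s).toMonoidHom (s⁻¹ * r * s) = r := by
      change s * (s⁻¹ * r * s) * s⁻¹ = r
      group
    rw [e] at h3
    exact h3
  by_cases hfu : Fixes (s * y * s⁻¹) (KK y)
  · rcases Q_cases h F hyp hy ht hyt hf hT htT huT hfu with h1 | h1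
    · exact h.toXBase.ne_one hu h1
    · apply hsT
      have h2 : (S : Subgroup G) ⊓ centralizer ({y} : Set G) = T :=
        hT.eq_of_le (le_inf hTS hT.le) inf_le_right (S.2.to_le inf_le_left)
      rw [← h2]
      exact ⟨hs, mem_centralizer_singleton_iff.mpr (mul_inv_eq_iff_eq_mul.mp h1)⟩
  · obtain ⟨z, hz, hz1, hzz, htz, -, -, -, -, ⟨a, haD, ha⟩, -⟩ :=
      pair h F hyp hy ht hyt hf hT htT
    obtain ⟨z1, -, -, -, -, -, -, -, hc1, -⟩ :=
      pair h F hyp hy hu (hcT _ huT) hfu hT huT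
    have h1 := (hc1 z hz (huc z hz.1).eq).resolve_left hz1
    have ha1 : a ≠ 1 := by
      rintro rfl
      rw [one_mul, inv_one, mul_one] at ha
      exact hz1 (left_eq_mul.mp ha)
    have h2 := (hc1 a haD (huc a haD.1).eq).resolve_left ha1
    apply hz1
    rw [h2, ← h1] at ha
    rw [← htz, mul_inv_cancel_right] at ha
    exact left_eq_mul.mp ha

/-- Step (d): the elements of `X ∩ S`. -/
theorem mem_cases (h : XSet X N) (F : DFacts X P) (hyp : Hyp X P) {y t : G} (hy : y ∈ X)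
    (ht : t ∈ X) (hyt : Commute y t) (hf : ¬ Fixes t (KK y)) {T : Subgroup G}
    (hT : SylIn 2 T (centralizer ({y} : Set G))) (htT : t ∈ T) {u : G} (hu : u ∈ X)
    (huT : u ∈ T) : u = y ∨ ∃ a ∈ T ⊓ KK y, a * t * a⁻¹ = u := by
  have htt := h.toXBase.sq ht
  have hyy := h.toXBase.sq hy
  have huu := h.toXBase.sq hu
  have hcT : ∀ r ∈ T, Commute y r := fun r hr => (mem_centralizer_singleton_iff.mp (hT.le hr)).symm
  have fr := frame h.toXBase F.odd hy hT
  by_cases hfu : Fixes u (KK y)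
  · left
    exact (Q_cases h F hyp hy ht hyt hf hT htT huT hfu).resolve_left (h.toXBase.ne_one hu)
  obtain ⟨a1, a2⟩ := hyp y hy t ht hyt hf
  obtain ⟨b1, b2⟩ := hyp y hy u hu (hcT u huT) hfu
  have h1 := F.mul y hy t u hyt.symm (hcT u huT).symm a1 b1 a2 b2
  obtain ⟨q, hq, hqf, d, hd, hqd⟩ := exists_mul fr (mul_mem htT huT) h1
  obtain ⟨z, hz, hz1, hzz, htz, -, -, -, -, -, hconj⟩ := pair h F hyp hy ht hyt hf hT htT
  have hu' : u = t * (q * d) := by rw [← hqd, ← mul_assoc, htt, one_mul]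
  right
  rcases Q_cases h F hyp hy ht hyt hf hT htT hq hqf with h2 | h2
  · rw [h2, one_mul] at hu'
    obtain ⟨a, ha, h3⟩ := hconj d hd (by rw [← hu']; exact huu)
    exact ⟨a, ha, by rw [h3, hu']⟩
  · exfalso
    rw [h2] at hu'
    have hyd : Commute y d := hcT d hd.1
    have h3 : t * d * (t * d) = 1 := by
      have h4 : u = (t * d) * y := by rw [hu', hyd.eq]; group
      have h5 : Commute (t * d) y := hyt.symm.mul_left hyd.symm
      calc t * d * (t * d) = (t * d * y) * (t * d * y) := by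
            calc t * d * (t * d) = (t * d) * (y * y) * (t * d) := by rw [hyy, mul_one]
              _ = (t * d * y) * (y * (t * d)) := by group
              _ = (t * d * y) * (t * d * y) := by rw [h5.eq]
        _ = 1 := by rw [← h4, huu]
    obtain ⟨a, ha, h4⟩ := hconj d hd h3
    have h5 : a * (t * y) * a⁻¹ = u := by
      have hay : Commute a y := (hcT a ha.1).symm
      calc a * (t * y) * a⁻¹ = (a * t * a⁻¹) * (a * y * a⁻¹) := by group
        _ = t * d * y := by rw [h4, hay.eq, mul_inv_cancel_right]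
        _ = u := by rw [hu', hyd.eq]; group
    apply mul_notMem h F hyp hy ht hyt hf
    have h6 := h.conj _ hu a⁻¹
    have h7 : a⁻¹ * u * a⁻¹⁻¹ = t * y := by rw [← h5]; group
    rwa [h7] at h6

/-- Homomorphisms of a nonabelian simple group to commutative groups are trivial. -/
theorem hom_eq_one [IsSimpleGroup G] (hna : ∃ a b : G, a * b ≠ b * a) {A : Type*} [CommGroup A]
    (f : G →* A) (g : G) : f g = 1 := by
  rcases (inferInstance : f.ker.Normal).eq_bot_or_eq_top with h1 | h1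
  · exfalso
    obtain ⟨a, b, hab⟩ := hna
    apply hab
    apply (MonoidHom.ker_eq_bot_iff f).mp h1
    rw [map_mul, map_mul, mul_comm]
  · exact MonoidHom.mem_ker.mp (h1 ▸ mem_top g)

/-- **Case D is impossible.** -/
theorem false_of_hyp [IsSimpleGroup G] (hna : ∃ a b : G, a * b ≠ b * a)
    (h1173 : oddCore G = ⊥ → ∀ (S : Sylow 2 G) (T : Subgroup G),
      IsStronglyClosed T (S : Subgroup G) →
      ((⨅ n : ℕ, derivedSeries ↥(centralizer (T : Set G)) n).map
        (centralizer (T : Set G)).subtype).Normal)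
    (h : XSet X N) (hne : X.Nonempty) (F : DFacts X P) (hyp : Hyp X P) : False := by
  have : Fact (Nat.Prime 2) := ⟨Nat.prime_two⟩
  obtain ⟨y, hy, t, ht, hyt, hf⟩ := LemmaS.lemmaS hna h1173 h.toXBase hne
  have hyy := h.toXBase.sq hy
  have htt := h.toXBase.sq ht
  have hty : t ≠ y := by
    rintro rfl
    exact hf (h.toXBase.fixes_self hy)
  -- the Sylow subgroup
  obtain ⟨T, hT, htT⟩ := exists_sylIn_ge (p := 2) (R := zpowers t)
    (H := centralizer ({y} : Set G)) (by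
      rw [zpowers_le]
      exact mem_centralizer_singleton_iff.mpr hyt.symm.eq) (by
      apply IsPGroup.of_card (n := 1)
      rw [Nat.card_zpowers, h.inv t ht, pow_one])
  rw [zpowers_le] at htT
  obtain ⟨S, hTS⟩ := hT.isPGroup.exists_le_sylow
  have hTS' := eq_sylow h F hyp hy ht hyt hf hT htT hTS
  have fr := frame h.toXBase F.odd hy hT
  have hcT : ∀ r ∈ T, Commute y r := fun r hr => (mem_centralizer_singleton_iff.mp (hT.le hr)).symm
  have hyT : y ∈ T := mem_of_central hT (mem_centralizer_singleton_iff.mpr rfl) hyy fun r hr =>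
    (mem_centralizer_singleton_iff.mp (hT.le hr)).symm
  have hX := fun u hu huT => mem_cases h F hyp hy ht hyt hf hT htT (u := u) hu huT
  -- `y ∉ D`, `t ∉ D`
  have hyD : y ∉ T ⊓ KK y := fun h1 =>
    h.toXBase.ne_one hy (fr.eq_one h1 (mem_fix.2 (h.toXBase.fixes_self hy)))
  obtain ⟨a1, a2⟩ := hyp y hy t ht hyt hf
  have htD : t ∉ T ⊓ KK y := fun h1 => a2 (mem_inn_of_mem h1.2)
  -- conjugates of `t` are in `t D`
  have htconj : ∀ s ∈ T, t⁻¹ * (s * t * s⁻¹) ∈ T ⊓ KK y := by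
    intro s hs
    rcases hX _ (h.conj t ht s) (T.mul_mem (T.mul_mem hs htT) (T.inv_mem hs)) with h1 | ⟨a, ha, h1⟩
    · exfalso
      apply hty
      have e : t = s⁻¹ * (s * t * s⁻¹) * s := by group
      rw [e, h1, mul_assoc, (hcT s hs).eq, inv_mul_cancel_left]
    · rw [← h1]
      have e : t⁻¹ * (a * t * a⁻¹) = (t⁻¹ * a * t⁻¹⁻¹) * a⁻¹ := by group
      rw [e]
      exact mul_mem (fr.conj_mem_D (T.inv_mem htT) ha) (inv_mem ha)
  -- the structure of `T / D`
  obtain ⟨D', hD'⟩ : ∃ D' : Subgroup T, D' = (T ⊓ KK y).subgroupOf T := ⟨_, rfl⟩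
  have hD'n : D'.Normal := by
    constructor
    rintro ⟨n, hn⟩ hnD ⟨g, hg⟩
    rw [hD', mem_subgroupOf] at hnD ⊢
    exact fr.conj_mem_D hg hnD
  obtain ⟨w, hw, hwc⟩ := F.cyc y hy T hT.isPGroup hT.le
  have hstr : ∀ s ∈ T, ∃ k : ℤ, ∃ e f : ℕ, ∃ d ∈ T ⊓ KK y, s = w ^ k * (y ^ e * t ^ f) * d := by
    intro s hs
    obtain ⟨k, hk⟩ := hwc s hs
    have hkT : w ^ k * s ∈ T := T.mul_mem (T.zpow_mem hw k) hs
    by_cases hi : w ^ k * s ∈ inn (KK y)
    · obtain ⟨q, hq, hqf, d, hd, hqd⟩ := exists_mul fr hkT hi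
      rcases Q_cases h F hyp hy ht hyt hf hT htT hq hqf with rfl | rfl
      · refine ⟨-k, 0, 0, d, hd, ?_⟩
        rw [pow_zero, pow_zero, mul_one, mul_one]
        rw [one_mul] at hqd
        rw [← hqd, zpow_neg, inv_mul_cancel_left]
      · refine ⟨-k, 1, 0, d, hd, ?_⟩
        rw [pow_zero, pow_one, mul_one, mul_assoc, ← hqd, zpow_neg, inv_mul_cancel_left]
    · have h1 := F.mul y hy t _ hyt.symm (hcT _ hkT).symm a1 hk a2 hi
      obtain ⟨q, hq, hqf, d, hd, hqd⟩ := exists_mul fr (T.mul_mem htT hkT) h1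
      have h2 : w ^ k * s = t * (q * d) := by rw [← hqd, ← mul_assoc, htt, one_mul]
      rcases Q_cases h F hyp hy ht hyt hf hT htT hq hqf with rfl | rfl
      · refine ⟨-k, 0, 1, d, hd, ?_⟩
        rw [pow_zero, pow_one, one_mul, mul_assoc]
        rw [one_mul] at h2
        rw [← h2, zpow_neg, inv_mul_cancel_left]
      · refine ⟨-k, 1, 1, d, hd, ?_⟩
        rw [pow_one, pow_one, hyt.eq, mul_assoc, mul_assoc, ← h2, zpow_neg, inv_mul_cancel_left]
  have hcomm : commutator T ≤ D' := by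
    rw [commutator_def, commutator_le]
    -- commuting elements of the quotient
    obtain ⟨π, hπ⟩ : ∃ π : T →* T ⧸ D', π = QuotientGroup.mk' D' := ⟨_, rfl⟩
    have hπ1 : ∀ a : T, π a = 1 ↔ (a : G) ∈ T ⊓ KK y := by
      intro a
      rw [hπ, QuotientGroup.mk'_apply, QuotientGroup.eq_one_iff, hD', mem_subgroupOf]
    have hcy : ∀ s : T, Commute (π ⟨y, hyT⟩) (π s) := by
      intro s
      have h1 : Commute (⟨y, hyT⟩ : T) s := Subtype.ext (hcT s s.2).eq
      exact h1.map π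
    have hct : ∀ s : T, Commute (π ⟨t, htT⟩) (π s) := by
      intro s
      have h1 : π (⟨t, htT⟩⁻¹ * (s * ⟨t, htT⟩ * s⁻¹)) = 1 := (hπ1 _).mpr (htconj s s.2)
      rw [map_mul, map_inv, inv_mul_eq_one, map_mul, map_mul, map_inv, eq_mul_inv_iff_mul_eq] at h1
      exact h1
    have key : ∀ s : T, ∃ k : ℤ, ∃ e f : ℕ,
        π s = π ⟨w, hw⟩ ^ k * (π ⟨y, hyT⟩ ^ e * π ⟨t, htT⟩ ^ f) := by
      intro s
      obtain ⟨k, e, f, d, hd, hs⟩ := hstr s s.2
      refine ⟨k, e, f, ?_⟩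
      have h1 : s = ⟨w, hw⟩ ^ k * (⟨y, hyT⟩ ^ e * ⟨t, htT⟩ ^ f) * ⟨d, hd.1⟩ := Subtype.ext hs
      rw [h1, map_mul, (hπ1 ⟨d, hd.1⟩).mpr hd, mul_one, map_mul, map_mul, map_zpow, map_pow, map_pow]
    intro a _ b _
    have hab : Commute (π a) (π b) := by
      obtain ⟨k, e, f, hk⟩ := key a
      have h1 : Commute (π ⟨w, hw⟩) (π b) := by
        obtain ⟨k', e', f', hk'⟩ := key b
        rw [hk']
        refine ((Commute.refl _).zpow_right _).mul_right (Commute.mul_right ?_ ?_)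
        · exact (hcy ⟨w, hw⟩).symm.pow_right _
        · exact (hct ⟨w, hw⟩).symm.pow_right _
      rw [hk]
      exact (h1.zpow_left _).mul_left (((hcy b).pow_left _).mul_left ((hct b).pow_left _))
    have h1 : π ⁅a, b⁆ = 1 := by
      rw [map_commutatorElement]
      exact commutatorElement_eq_one_iff_commute.mpr hab
    rw [hD', mem_subgroupOf]
    exact (hπ1 _).mp h1
  -- the homomorphism `T → A`
  let o : T →* Abelianization T := Abelianization.of
  have ho1 : ∀ a : T, o a = 1 → (a : G) ∈ T ⊓ KK y := by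
    intro a ha
    have h1 : a ∈ commutator T := by
      rw [← Abelianization.ker_of]
      exact ha
    have h2 := hcomm h1
    rwa [hD', mem_subgroupOf] at h2
  let Z : Subgroup (Abelianization T) := zpowers (o (⟨t, htT⟩ * ⟨y, hyT⟩))
  let φ : T →* Abelianization T ⧸ Z := (QuotientGroup.mk' Z).comp o
  have hφy : φ ⟨y, hyT⟩ ≠ 1 := by
    intro h1
    have h2 : o ⟨y, hyT⟩ ∈ Z := (QuotientGroup.eq_one_iff _).mp h1
    obtain ⟨k, hk⟩ := mem_zpowers_iff.1 h2
    have h3 : o (⟨t, htT⟩ * ⟨y, hyT⟩) ^ (2 : ℤ) = 1 := by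
      rw [zpow_two, ← map_mul]
      have e : (⟨t, htT⟩ * ⟨y, hyT⟩ : T) * (⟨t, htT⟩ * ⟨y, hyT⟩) = 1 := by
        apply Subtype.ext
        change t * y * (t * y) = 1
        calc t * y * (t * y) = t * (y * t) * y := by group
          _ = (t * t) * (y * y) := by rw [hyt.eq]; group
          _ = 1 := by rw [htt, hyy, one_mul]
      rw [e, map_one]
    rcases Int.even_or_odd' k with ⟨m, hm | hm⟩
    · rw [hm, zpow_mul, h3, one_zpow] at hk
      exact hyD (ho1 _ hk.symm)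
    · rw [hm, zpow_add, zpow_mul, h3, one_zpow, one_mul, zpow_one, map_mul] at hk
      exact htD (ho1 _ (mul_eq_right.mp hk))
  have hφt : φ ⟨t, htT⟩ = φ ⟨y, hyT⟩ := by
    have h1 : φ (⟨t, htT⟩ * ⟨y, hyT⟩) = 1 :=
      (QuotientGroup.eq_one_iff _).mpr (mem_zpowers _)
    rw [map_mul] at h1
    have h2 : φ ⟨y, hyT⟩ * φ ⟨y, hyT⟩ = 1 := by
      rw [← map_mul]
      have e : (⟨y, hyT⟩ : T) * ⟨y, hyT⟩ = 1 := Subtype.ext hyy
      rw [e, map_one]
    calc φ ⟨t, htT⟩ = φ ⟨t, htT⟩ * (φ ⟨y, hyT⟩ * φ ⟨y, hyT⟩) := by rw [h2, mul_one]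
      _ = φ ⟨y, hyT⟩ := by rw [← mul_assoc, h1, one_mul]
  have hφX : ∀ u (hu : u ∈ X) (huT : u ∈ T), φ ⟨u, huT⟩ = φ ⟨y, hyT⟩ := by
    intro u hu huT
    rcases hX u hu huT with rfl | ⟨a, ha, rfl⟩
    · rfl
    · have h1 : (⟨a * t * a⁻¹, huT⟩ : T) = ⟨a, ha.1⟩ * ⟨t, htT⟩ * ⟨a, ha.1⟩⁻¹ := rfl
      rw [h1, map_mul, map_mul, map_inv, mul_comm (φ ⟨a, ha.1⟩), mul_inv_cancel_right, hφt]
  -- transfer
  have hodd : Odd T.index := by
    rw [hTS']
    exact TwoFusion.IndexTwo.odd_index_sylow S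
  have htr := TwoFusion.PResidual.transfer_eq_pow_index_of_fusion φ ⟨y, hyT⟩ (by
    intro k g₀ hg
    rcases Nat.even_or_odd' k with ⟨m, hm | hm⟩
    · have h1 : (⟨y, hyT⟩ : T) ^ k = 1 := by
        rw [hm, pow_mul]
        have e : (⟨y, hyT⟩ : T) ^ 2 = 1 := Subtype.ext (by
          change y ^ 2 = 1
          rw [pow_two, hyy])
        rw [e, one_pow]
      have h2 : (⟨g₀⁻¹ * y ^ k * g₀, hg⟩ : T) = 1 := by
        apply Subtype.ext
        change g₀⁻¹ * y ^ k * g₀ = 1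
        rw [hm, pow_mul, pow_two, hyy, one_pow, mul_one, inv_mul_cancel]
      rw [h1, h2]
    · have h1 : (⟨y, hyT⟩ : T) ^ k = ⟨y, hyT⟩ := by
        apply Subtype.ext
        change y ^ k = y
        rw [hm, pow_succ, pow_mul, pow_two, hyy, one_pow, one_mul]
      have h3 : y ^ k = y := congrArg Subtype.val h1
      rw [h1]
      have hg' : g₀⁻¹ * y * g₀ ∈ T := by
        have := hg
        change g₀⁻¹ * y ^ k * g₀ ∈ T at this
        rwa [h3] at this
      have h2 : (⟨g₀⁻¹ * y ^ k * g₀, hg⟩ : T) = ⟨g₀⁻¹ * y * g₀, hg'⟩ := by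
        apply Subtype.ext
        change g₀⁻¹ * y ^ k * g₀ = g₀⁻¹ * y * g₀
        rw [h3]
      rw [h2]
      apply hφX
      have h4 := h.conj y hy g₀⁻¹
      rwa [inv_inv] at h4)
  rw [hom_eq_one hna] at htr
  have hφ2 : φ ⟨y, hyT⟩ ^ 2 = 1 := by
    rw [← map_pow]
    have e : (⟨y, hyT⟩ : T) ^ 2 = 1 := Subtype.ext (by
      change y ^ 2 = 1
      rw [pow_two, hyy])
    rw [e, map_one]
  obtain ⟨m, hm⟩ := hodd
  rw [hm, pow_succ, pow_mul, hφ2, one_pow, one_mul] at htr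
  exact hφy htr.symm

end finite

end Cfsg.Agent.GH.L2CaseD
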