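import Cfsg.Agent.GH.L2FrameComp
import Cfsg.Agent.S1180
import Cfsg.Agent.S0215

/-!
# GH-L2: exact conjugacy in a 2-component from conjugacy in its simple top

* `exists_lift_conj`: `f : X → L` with a kernel of odd order, `A`, `B` 2-subgroups of `X`; if `f(A)^{f(k)} ≤ f(B)` then some
  `n ∈ ker f` has `A^{nk} ≤ B` compatibly with `f`;
* `exists_conj_of_top`, `exists_conj_fixed`: the same for `K → STop K`, centralising a 2-group fixing `K`;
* `exists_zstar`: an involution `t` normalising `K` and not fixing it: `t v` is `K`-conjugate to `t` for an involution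
  `v ∈ C_K(t)` (Glauberman's Z*-theorem).
-/

set_option autoImplicit false
set_option linter.unusedSectionVars false

open Cfsg Subgroup
open scoped commutatorElement
open Cfsg.Agent.SignalizersComponents
open Cfsg.Agent.SignalizersComponents.IntrinsicBasic (cj mem_cj)
open Cfsg.Agent.Intrinsic.Basic Cfsg.Agent.GH.Defs Cfsg.Agent.GH.Comp
open Cfsg.Agent.Walter.SylowIn
open Cfsg.Agent.Lib

namespace Cfsg.Agent.GH.L2Frame

theorem isPGroup_zpowers {X : Type*} [Group X] {p : ℕ} {x : X} {n : ℕ} (h : x ^ p ^ n = 1) :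
    IsPGroup p (zpowers x) := by
  rintro ⟨z, hz⟩
  obtain ⟨k, rfl⟩ := mem_zpowers_iff.1 hz
  refine ⟨n, Subtype.ext ?_⟩
  change (x ^ k) ^ p ^ n = 1
  rw [← zpow_natCast, ← zpow_mul, mul_comm, zpow_mul, zpow_natCast, h, one_zpow]

/-- A 2-element in a subgroup of odd order is trivial. -/
theorem eq_one_of_two {X : Type*} [Group X] {N : Subgroup X} (hN : Odd (Nat.card N)) {x : X}
    (hx : x ∈ N) {n : ℕ} (hn : x ^ 2 ^ n = 1) : x = 1 := by
  have h1 : orderOf x ∣ 2 ^ n := orderOf_dvd_of_pow_eq_one hn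
  have h2 : orderOf x ∣ Nat.card N := by
    have := orderOf_dvd_natCard (⟨x, hx⟩ : N)
    rwa [Subgroup.orderOf_mk] at this
  have h3 := Nat.eq_one_of_dvd_coprimes (Nat.Coprime.pow_left n (Nat.coprime_two_left.2 hN)) h1 h2
  exact orderOf_eq_one_iff.1 h3

theorem exists_lift_conj {X L : Type*} [Group X] [Finite X] [Group L] {f : X →* L}
    (hker : Odd (Nat.card f.ker)) {A B : Subgroup X} (hA : IsPGroup 2 A) (hB : IsPGroup 2 B)
    {k : X} (h : ∀ a ∈ A, ∃ b ∈ B, f (k * a * k⁻¹) = f b) :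
    ∃ n ∈ f.ker, ∀ a ∈ A, ∀ b ∈ B, f (k * a * k⁻¹) = f b → (n * k) * a * (n * k)⁻¹ = b := by
  have : Fact (Nat.Prime 2) := ⟨Nat.prime_two⟩
  let M : Subgroup X := B ⊔ f.ker
  have hdisj : B ⊓ f.ker = ⊥ := by
    rw [eq_bot_iff]
    rintro x ⟨hx, hx'⟩
    obtain ⟨n, hn⟩ := hB ⟨x, hx⟩
    exact mem_bot.2 (eq_one_of_two hker hx' (n := n) (by simpa using congrArg Subtype.val hn))
  have hBn : B ≤ normalizer (f.ker : Set X) := by
    rw [normalizer_eq_top_iff.2 (inferInstance : f.ker.Normal)]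
    exact le_top
  have hidx : ¬ 2 ∣ B.relIndex M := by
    have h1 := relIndex_sup hBn
    rw [hdisj, relIndex_bot_left] at h1
    change ¬ 2 ∣ B.relIndex (B ⊔ f.ker)
    rw [← h1]
    exact hker.not_two_dvd_nat
  have hS : SylIn 2 B M := sylIn_of le_sup_left hB hidx
  have hA' : IsPGroup 2 (A.map (MulAut.conj k).toMonoidHom) := hA.map _
  have hAM : A.map (MulAut.conj k).toMonoidHom ≤ M := by
    rintro _ ⟨a, ha, rfl⟩
    obtain ⟨b, hb, hab⟩ := h a ha
    have h1 : b⁻¹ * (k * a * k⁻¹) ∈ f.ker := by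
      rw [MonoidHom.mem_ker, map_mul, map_inv, hab, inv_mul_cancel]
    have h2 : (MulAut.conj k).toMonoidHom a = b * (b⁻¹ * (k * a * k⁻¹)) := by
      change k * a * k⁻¹ = _
      group
    rw [h2]
    exact M.mul_mem (mem_sup_left hb) (mem_sup_right h1)
  obtain ⟨g, hg, hgA⟩ := hS.conj_le hAM hA'
  obtain ⟨b₀, hb₀, n, hn, rfl⟩ := mem_sup_of_normal_right.1 hg
  refine ⟨n, hn, fun a ha b hb hab => ?_⟩
  have h1 := hgA _ ⟨a, ha, rfl⟩
  change b₀ * n * (k * a * k⁻¹) * (b₀ * n)⁻¹ ∈ B at h1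
  have h2 : n * (k * a * k⁻¹) * n⁻¹ ∈ B := by
    have h3 := B.mul_mem (B.mul_mem (B.inv_mem hb₀) h1) hb₀
    have h4 : b₀⁻¹ * (b₀ * n * (k * a * k⁻¹) * (b₀ * n)⁻¹) * b₀ = n * (k * a * k⁻¹) * n⁻¹ := by
      group
    rwa [h4] at h3
  have h3 : f (n * (k * a * k⁻¹) * n⁻¹) = f b := by
    rw [map_mul, map_mul, map_inv, MonoidHom.mem_ker.1 hn, one_mul, inv_one, mul_one, hab]
  have h4 : b⁻¹ * (n * (k * a * k⁻¹) * n⁻¹) ∈ B ⊓ f.ker :=
    mem_inf.2 ⟨B.mul_mem (B.inv_mem hb) h2, by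
      rw [MonoidHom.mem_ker, map_mul, map_inv, h3, inv_mul_cancel]⟩
  rw [hdisj, mem_bot] at h4
  have h5 : (n * k) * a * (n * k)⁻¹ = n * (k * a * k⁻¹) * n⁻¹ := by group
  rw [h5]
  exact (inv_mul_eq_one.1 h4).symm

variable {G : Type*} [Group G] [Finite G]

/-- Two 2-elements of `K` with conjugate images in `STop K` are `K`-conjugate. -/
theorem exists_conj_of_top {K : Subgroup G} (hodd : ¬ EvenCenter K) {a b : K} {m n : ℕ}
    (ha : a ^ 2 ^ m = 1) (hb : b ^ 2 ^ n = 1) {l : STop K}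
    (h : l * topMap K a * l⁻¹ = topMap K b) : ∃ k : K, k * a * k⁻¹ = b := by
  obtain ⟨k, rfl⟩ := topMap_surjective K l
  rw [← map_inv, ← map_mul, ← map_mul] at h
  obtain ⟨c, -, hc⟩ := exists_lift_conj (odd_card_ker hodd) (isPGroup_zpowers ha)
    (isPGroup_zpowers hb) (k := k) (by
      intro x hx
      obtain ⟨j, rfl⟩ := mem_zpowers_iff.1 hx
      refine ⟨b ^ j, zpow_mem (mem_zpowers b) j, ?_⟩
      rw [← conj_zpow, map_zpow, h, map_zpow])
  exact ⟨c * k, hc a (mem_zpowers a) b (mem_zpowers b) h⟩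

/-- The fixed subgroup of a group fixing `K` is everything. -/
theorem fixedTop_eq_top {H K P : Subgroup G} (hK : IsComp H K) (hP : P ≤ fix K) :
    fixedTop K P = ⊤ := by
  rw [eq_top_iff]
  intro l _ p hp
  have h1 : act K p = 1 := (act_eq_one_iff (quasisimple hK) p.2).2 (mem_fix.1 (hP hp))
  rw [h1, MulAut.one_apply]

/-- `P` a 2-group normalising `K`, `A`, `B` 2-subgroups of `C_K(P)`, `l` fixed by `P` maps the image of `A` into the
image of `B`: some element of `C_K(P)` does it exactly. -/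
theorem exists_conj_fixed' {K P : Subgroup G} (hodd : ¬ EvenCenter K)
    (hP : IsPGroup 2 P) (hPK : P ≤ normalizer (K : Set G)) {A B : Subgroup K} (hA : IsPGroup 2 A)
    (hB : IsPGroup 2 B) (hAP : ∀ a ∈ A, (a : G) ∈ centralizer (P : Set G))
    (hBP : ∀ b ∈ B, (b : G) ∈ centralizer (P : Set G)) {l : STop K} (hl : l ∈ fixedTop K P)
    (h : ∀ a ∈ A, ∃ b ∈ B, l * topMap K a * l⁻¹ = topMap K b) :
    ∃ k : K, (k : G) ∈ centralizer (P : Set G) ∧ topMap K k = l ∧
      ∀ a ∈ A, ∀ b ∈ B, l * topMap K a * l⁻¹ = topMap K b → k * a * k⁻¹ = b := by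
  let C : Subgroup K := (centralizer (P : Set G)).subgroupOf K
  obtain ⟨k, hk, rfl⟩ := exists_of_mem_fixedTop hodd hP hPK (l := l) hl
  let f : C →* STop K := (topMap K).comp C.subtype
  have hker : Odd (Nat.card f.ker) := by
    refine odd_of_dvd ?_ (odd_card_ker hodd)
    have h1 : f.ker.map C.subtype ≤ (topMap K).ker := by
      rintro _ ⟨x, hx, rfl⟩
      exact hx
    have h3 := card_dvd_of_le h1
    rwa [card_map_of_injective C.subtype_injective] at h3
  have hAC : A ≤ C := fun a ha => mem_subgroupOf.2 (hAP a ha)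
  have hBC : B ≤ C := fun b hb => mem_subgroupOf.2 (hBP b hb)
  obtain ⟨n, hn, hnab⟩ := exists_lift_conj (f := f) hker (A := A.subgroupOf C)
    (B := B.subgroupOf C) (hA.comap_of_injective _ C.subtype_injective)
    (hB.comap_of_injective _ C.subtype_injective) (k := ⟨k, mem_subgroupOf.2 hk⟩) (by
      intro a ha
      obtain ⟨b, hb, hab⟩ := h a (mem_subgroupOf.1 ha)
      refine ⟨⟨b, hBC hb⟩, mem_subgroupOf.2 hb, ?_⟩
      change topMap K (k * a * k⁻¹) = topMap K b
      rw [map_mul, map_mul, map_inv, hab])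
  refine ⟨n * k, (centralizer (P : Set G)).mul_mem (mem_subgroupOf.1 n.2) hk, ?_, ?_⟩
  · rw [map_mul, show topMap K n = 1 from hn, one_mul]
  · intro a ha b hb hab
    have h1 := hnab ⟨a, hAC ha⟩ (mem_subgroupOf.2 ha) ⟨b, hBC hb⟩ (mem_subgroupOf.2 hb) (by
      change topMap K (k * a * k⁻¹) = topMap K b
      rw [map_mul, map_mul, map_inv, hab])
    exact congrArg Subtype.val h1

/-- `P` a 2-group fixing `K`, `A`, `B` 2-subgroups of `C_K(P)`, `l` maps the image of `A` into the image of `B`: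
some element of `C_K(P)` does it exactly. -/
theorem exists_conj_fixed {H K P : Subgroup G} (hK : IsComp H K) (hodd : ¬ EvenCenter K)
    (hP : IsPGroup 2 P) (hPK : P ≤ fix K) {A B : Subgroup K} (hA : IsPGroup 2 A)
    (hB : IsPGroup 2 B) (hAP : ∀ a ∈ A, (a : G) ∈ centralizer (P : Set G))
    (hBP : ∀ b ∈ B, (b : G) ∈ centralizer (P : Set G)) {l : STop K}
    (h : ∀ a ∈ A, ∃ b ∈ B, l * topMap K a * l⁻¹ = topMap K b) :
    ∃ k : K, (k : G) ∈ centralizer (P : Set G) ∧ topMap K k = l ∧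
      ∀ a ∈ A, ∀ b ∈ B, l * topMap K a * l⁻¹ = topMap K b → k * a * k⁻¹ = b :=
  exists_conj_fixed' hodd hP (hPK.trans (fix_le_normalizer K)) hA hB hAP hBP
    (by rw [fixedTop_eq_top hK hPK]; exact mem_top _) h

/-- Z*-theorem: an involution which is not central modulo the core commutes with another conjugate. -/
theorem exists_commuting_conj {X : Type*} [Group X] [Finite X] {t : X} (ht : orderOf t = 2)
    (h : ¬ ∀ g : X, t * g * t⁻¹ * g⁻¹ ∈ oddCore X) :
    ∃ g : X, g * t * g⁻¹ ≠ t ∧ t * (g * t * g⁻¹) = g * t * g⁻¹ * t := by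
  by_contra hcon
  push Not at hcon
  apply h
  have hiso : Cfsg.IsIsolatedInvolution t := ⟨ht, fun g hg => by
    by_contra hne
    exact hcon g hne hg.eq⟩
  have : Fact (Nat.Prime 2) := ⟨Nat.prime_two⟩
  have hp : IsPGroup 2 (zpowers t) := by
    apply IsPGroup.of_card (n := 1)
    rw [Nat.card_zpowers, hiso.1, pow_one]
  obtain ⟨P, hP⟩ := hp.exists_le_sylow
  have htP : t ∈ P := hP (mem_zpowers t)
  obtain ⟨N, hN, hodd, hcomm⟩ := Cfsg.Agent.S0215.result P t hiso.1 htP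
    (fun g hg => Cfsg.Agent.S1180.eq_of_conj_mem_isPGroup t hiso (P : Subgroup X) P.2 htP g hg)
  exact fun g => le_oddCore hN hodd (hcomm g)

/-- An involution `t` normalising `K`, not fixing it: some `t v`, `v ∈ C_K(t)` an involution, is
`K`-conjugate to `t`. -/
theorem exists_zstar {K : Subgroup G} {t : G} (ht : orderOf t = 2)
    (htK : t ∈ normalizer (K : Set G)) (hf : t ∉ fix K) :
    ∃ v ∈ K, v * v = 1 ∧ v ≠ 1 ∧ v * t = t * v ∧ ∃ k ∈ K, k * t * k⁻¹ = t * v := by
  have htt : t * t = 1 := by rw [← pow_two, ← ht, pow_orderOf_eq_one]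
  let M : Subgroup G := K ⊔ zpowers t
  have hKM : K ≤ M := le_sup_left
  have htM : t ∈ M := mem_sup_right (mem_zpowers t)
  have hMn : M ≤ normalizer (K : Set G) := sup_le le_normalizer (by rw [zpowers_le]; exact htK)
  have ht' : orderOf (⟨t, htM⟩ : M) = 2 := by rw [Subgroup.orderOf_mk, ht]
  obtain ⟨⟨g, hg⟩, h1, h2⟩ := exists_commuting_conj ht' (by
    intro hcon
    apply hf
    rw [mem_fix]
    refine ⟨htK, fun y hy => ?_⟩
    have h3 := hcon ⟨y, hKM hy⟩
    have h4 : t * y * t⁻¹ * y⁻¹ ∈ core M := ⟨_, h3, rfl⟩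
    have h5 : core M ⊓ K ≤ core K := by
      refine le_core inf_le_right ?_ ?_
      · intro a ha
        have e1 : a ∈ normalizer (core M : Set G) := by
          rw [mem_normalizer_iff]
          intro x
          constructor
          · intro hx
            exact conj_mem_core (le_normalizer (hKM ha)) hx
          · intro hx
            have := conj_mem_core (K := M) (x := a⁻¹) (inv_mem (le_normalizer (hKM ha))) hx
            have e2 : a⁻¹ * (a * x * a⁻¹) * a⁻¹⁻¹ = x := by group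
            rwa [e2] at this
        rw [mem_normalizer_iff] at e1 ⊢
        intro x
        constructor
        · rintro ⟨hx1, hx2⟩
          exact ⟨(e1 x).1 hx1, K.mul_mem (K.mul_mem ha hx2) (K.inv_mem ha)⟩
        · rintro ⟨hx1, hx2⟩
          refine ⟨(e1 x).2 hx1, ?_⟩
          have := K.mul_mem (K.mul_mem (K.inv_mem ha) hx2) ha
          have e2 : a⁻¹ * (a * x * a⁻¹) * a = x := by group
          rwa [e2] at this
      · exact odd_of_dvd (card_dvd_of_le inf_le_left) (odd_card_core M)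
    exact h5 ⟨h4, K.mul_mem (conj_mem htK hy) (K.inv_mem hy)⟩)
  have h1' : g * t * g⁻¹ ≠ t := fun h => h1 (Subtype.ext h)
  have h2' : t * (g * t * g⁻¹) = g * t * g⁻¹ * t := congrArg Subtype.val h2
  -- `g = k t^j`
  have hz : zpowers t ≤ normalizer (K : Set G) := by rw [zpowers_le]; exact htK
  obtain ⟨k, hk, s, hs, rfl⟩ : ∃ k ∈ K, ∃ s ∈ zpowers t, g = k * s := by
    have h3 : g ∈ ((K ⊔ zpowers t : Subgroup G) : Set G) := hg
    rw [Subgroup.coe_mul_of_right_le_normalizer_left K (zpowers t) hz, Set.mem_mul] at h3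
    obtain ⟨a, ha, b, hb, hab⟩ := h3
    exact ⟨a, ha, b, hb, hab.symm⟩
  have hst : s * t * s⁻¹ = t := by
    obtain ⟨j, rfl⟩ := mem_zpowers_iff.1 hs
    rw [mul_inv_eq_iff_eq_mul]
    exact ((Commute.refl t).zpow_left j).eq
  have h3 : k * s * t * (k * s)⁻¹ = k * t * k⁻¹ := by
    calc k * s * t * (k * s)⁻¹ = k * (s * t * s⁻¹) * k⁻¹ := by group
      _ = k * t * k⁻¹ := by rw [hst]
  rw [h3] at h1' h2'
  have hti : t⁻¹ = t := inv_eq_of_mul_eq_one_right htt
  have hkk : (k * t * k⁻¹) * (k * t * k⁻¹) = 1 := by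
    calc (k * t * k⁻¹) * (k * t * k⁻¹) = k * (t * t) * k⁻¹ := by group
      _ = 1 := by rw [htt]; group
  refine ⟨t * (k * t * k⁻¹), ?_, ?_, ?_, ?_, k, hk, ?_⟩
  · have h4 : t * (k * t * k⁻¹) = (t * k * t⁻¹) * k⁻¹ := by rw [hti]; group
    rw [h4]
    exact K.mul_mem (conj_mem htK hk) (K.inv_mem hk)
  · calc t * (k * t * k⁻¹) * (t * (k * t * k⁻¹)) = t * (k * t * k⁻¹) * (k * t * k⁻¹ * t) := by
          rw [h2']
      _ = t * ((k * t * k⁻¹) * (k * t * k⁻¹)) * t := by group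
      _ = 1 := by rw [hkk, mul_one, htt]
  · intro h4
    apply h1'
    have h5 := eq_inv_of_mul_eq_one_right h4
    rw [h5, hti]
  · rw [mul_assoc, ← h2']
  · rw [← mul_assoc, htt, one_mul]

end Cfsg.Agent.GH.L2Frame
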