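import Cfsg.Agent.GH.L2AutMat

/-!
# Four-groups of `L ≅ PSL(2,F)` and automorphisms fixing them

* `Rep.exists_inv_lift` : an involution of `L` lifts to `i` with `i * i = -1`;
* `Rep.exists_pair_lift` : commuting distinct involutions lift to an anticommuting pair;
* `Rep.four_conj` : `PGL` is transitive on pairs of distinct commuting involutions;
* `Rep.fix_four` : an element of `PGL` fixing two distinct commuting involutions `a, b` is conjugation
  by an element of `{1,a,b,ab}`;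
* `Rep.exists_frame` : the full pointwise stabilizer of a four-group in `Aut(L)`.
-/

set_option autoImplicit false

namespace Cfsg.Agent.GH.L2Aut

open Matrix Cfsg.Agent.Lib.SL2Mat Cfsg.Agent.Lib.AutSL2 Cfsg.Agent.Lib.AutSL2Out

/-- two distinct commuting involutions -/
structure Four {L : Type*} [Group L] (a b : L) : Prop where
  aa : a * a = 1
  bb : b * b = 1
  a1 : a ≠ 1
  b1 : b ≠ 1
  ne : a ≠ b
  comm : a * b = b * a

theorem Four.symm {L : Type*} [Group L] {a b : L} (h : Four a b) : Four b a :=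
  ⟨h.bb, h.aa, h.b1, h.a1, h.ne.symm, h.comm.symm⟩

theorem Four.right {L : Type*} [Group L] {a b : L} (h : Four a b) : Four a (a * b) where
  aa := h.aa
  bb := by rw [mul_assoc, ← mul_assoc b, ← h.comm, mul_assoc a b, h.bb, mul_one, h.aa]
  a1 := h.a1
  b1 := by
    intro h1
    apply h.ne
    have h2 : a * (a * b) = a := by rw [h1, mul_one]
    rw [← mul_assoc, h.aa, one_mul] at h2
    exact h2.symm
  ne := by
    intro h1
    exact h.b1 (left_eq_mul.1 h1)
  comm := by rw [← mul_assoc, h.aa, one_mul, mul_assoc, ← h.comm, ← mul_assoc, h.aa, one_mul]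

theorem Four.map {L : Type*} [Group L] {a b : L} (h : Four a b) (α : MulAut L) :
    Four (α a) (α b) where
  aa := by rw [← map_mul, h.aa, map_one]
  bb := by rw [← map_mul, h.bb, map_one]
  a1 := fun h1 => h.a1 (α.injective (by rw [h1, map_one]))
  b1 := fun h1 => h.b1 (α.injective (by rw [h1, map_one]))
  ne := fun h1 => h.ne (α.injective h1)
  comm := by rw [← map_mul, h.comm, map_mul]

namespace Rep

variable {F : Type*} [Field F] {L : Type*} [Group L] (R : Rep F L)

local notation "SL2" => Matrix.SpecialLinearGroup (Fin 2) F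
local notation "M2" => Matrix (Fin 2) (Fin 2) F

theorem exists_inv_lift {y : L} (hy : y * y = 1) (h1 : y ≠ 1) :
    ∃ i : SL2, R.π i = y ∧ i.1 * i.1 = -1 := by
  obtain ⟨i, rfl⟩ := R.surj y
  refine ⟨i, rfl, ?_⟩
  rw [← map_mul, R.ker] at hy
  rcases hy with hy | hy
  · exfalso
    apply h1
    rw [R.ker]
    exact Cfsg.Agent.Lib.PSL2Inv.sq_eq_one R.two hy
  · exact congrArg Subtype.val hy

theorem exists_pair_lift {a b : L} (h : Four a b) :
    ∃ i j : SL2, R.π i = a ∧ R.π j = b ∧ i.1 * i.1 = -1 ∧ j.1 * j.1 = -1 ∧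
      i.1 * j.1 = -(j.1 * i.1) := by
  obtain ⟨i, hi, hii⟩ := R.exists_inv_lift h.aa h.a1
  obtain ⟨j, hj, hjj⟩ := R.exists_inv_lift h.bb h.b1
  refine ⟨i, j, hi, hj, hii, hjj, ?_⟩
  have h1 : R.π (i * j) = R.π (j * i) := by rw [map_mul, map_mul, hi, hj, h.comm]
  rcases R.π_eq_iff.1 h1 with h2 | h2
  · exfalso
    have hi' : i * i = -1 := Subtype.ext hii
    have hj' : j * j = -1 := Subtype.ext hjj
    have h3 : (i * j) * (i * j) = 1 := by
      nth_rw 2 [h2]
      rw [mul_assoc, ← mul_assoc j j i, hj', neg_one_mul, mul_neg, hi', neg_neg]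
    have h4 := (R.ker (i * j)).2 (Cfsg.Agent.Lib.PSL2Inv.sq_eq_one R.two h3)
    rw [map_mul, hi, hj] at h4
    apply h.ne
    have h5 : a * (a * b) = a := by rw [h4, mul_one]
    rw [← mul_assoc, h.aa, one_mul] at h5
    exact h5.symm
  · exact congrArg Subtype.val h2

/-- anticommuting square roots of `-1` give a four-group -/
theorem four_of_pair {i j : SL2} (hi : i.1 * i.1 = -1) (hj : j.1 * j.1 = -1)
    (hij : i.1 * j.1 = -(j.1 * i.1)) : Four (R.π i) (R.π j) := by
  have hi' : i * i = -1 := Subtype.ext hi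
  have hj' : j * j = -1 := Subtype.ext hj
  have hij' : i * j = -(j * i) := Subtype.ext hij
  have hns : ∀ x : SL2, x * x = -1 → R.π x ≠ 1 := by
    intro x hx h1
    rw [R.ker] at h1
    apply R.neg_one_ne_one
    rcases h1 with rfl | rfl
    · rw [← hx, mul_one]
    · rw [← hx]; rw [neg_mul_neg, mul_one]
  refine ⟨?_, ?_, hns i hi', hns j hj', ?_, ?_⟩
  · rw [← map_mul, hi', R.ker]; exact Or.inr rfl
  · rw [← map_mul, hj', R.ker]; exact Or.inr rfl
  · intro h1
    have h2 : i * j = j * i := by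
      rcases R.π_eq_iff.1 h1 with h2 | h2
      · rw [h2]
      · rw [h2, neg_mul, mul_neg]
    apply R.neg_one_ne_one
    have h3 : -(j * i) = j * i := by rw [← hij', h2]
    rw [← neg_one_mul] at h3
    exact mul_eq_right.1 h3
  · rw [← map_mul, ← map_mul, R.π_eq_iff]; exact Or.inr hij'

variable [Finite F]

/-- `PGL` is transitive on pairs of distinct commuting involutions -/
theorem four_conj {a b a' b' : L} (h : Four a b) (h' : Four a' b') :
    ∃ g : GL (Fin 2) F, R.gl g a' = a ∧ R.gl g b' = b := by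
  obtain ⟨i, j, rfl, rfl, hi, hj, hij⟩ := R.exists_pair_lift h
  obtain ⟨i', j', rfl, rfl, hi', hj', hij'⟩ := R.exists_pair_lift h'
  obtain ⟨g, h1, h2⟩ := pair_conj R.two hi hj hij hi' hj' hij'
  exact ⟨g, by rw [R.gl_apply, h1], by rw [R.gl_apply, h2]⟩

/-- an element of `PGL` whose lift fixes an anticommuting pair is trivial -/
theorem gl_eq_one_of_fix {i j : SL2} (hi : i.1 * i.1 = -1) (hj : j.1 * j.1 = -1)
    (hij : i.1 * j.1 = -(j.1 * i.1)) {g : GL (Fin 2) F} (h1 : conjGL g i = i)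
    (h2 : conjGL g j = j) : R.gl g = 1 := by
  have hns := not_scalar R.two hj hij hi
  obtain ⟨a, b, hg⟩ := exists_ab hns (of_conjGL_eq h1).symm
  have h3 := of_conjGL_eq h2
  rw [R.gl_eq_one_iff]
  refine ⟨a, ?_⟩
  have hb : b = 0 := by
    rw [hg, Matrix.add_mul, Matrix.mul_add, Matrix.smul_mul, Matrix.smul_mul,
      Matrix.mul_smul, Matrix.mul_smul, Matrix.one_mul, Matrix.mul_one] at h3
    have h4 : b • (i.1 * j.1) = b • (j.1 * i.1) := add_left_cancel h3
    have h5 : j.1 * i.1 = -(i.1 * j.1) := by rw [hij, neg_neg]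
    rw [h5, smul_neg] at h4
    have h6 : (2 * b) • (i.1 * j.1) = 0 := by
      rw [two_mul, add_smul]
      nth_rw 1 [h4]
      exact neg_add_cancel _
    have h7 : (2 * b) • (i.1 * j.1 * j.1) = 0 := by rw [← Matrix.smul_mul, h6, Matrix.zero_mul]
    rw [Matrix.mul_assoc, hj, Matrix.mul_neg, Matrix.mul_one, smul_neg, neg_eq_zero] at h7
    have h8 : (2 * b) • (i.1 * i.1) = 0 := by rw [← Matrix.smul_mul, h7, Matrix.zero_mul]
    rw [hi] at h8
    have h9 := congrFun (congrFun h8 0) 0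
    simp at h9
    exact h9.resolve_left R.two
  rw [hg, hb, zero_smul, add_zero]

/-- an element of `PGL` fixing two distinct commuting involutions `a, b` is conjugation by an element
of `{1, a, b, ab}` -/
theorem fix_four {a b : L} (h : Four a b) {α : MulAut L} (hα : α ∈ R.PGL) (ha : α a = a)
    (hb : α b = b) :
    α = 1 ∨ α = MulAut.conj a ∨ α = MulAut.conj b ∨ α = MulAut.conj (a * b) := by
  obtain ⟨i, j, rfl, rfl, hi, hj, hij⟩ := R.exists_pair_lift h
  obtain ⟨g, rfl⟩ := R.mem_PGL.1 hα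
  rw [R.gl_apply, R.π_eq_iff] at ha hb
  have hi' : i * i = -1 := Subtype.ext hi
  have hj' : j * j = -1 := Subtype.ext hj
  have hij' : i * j = -(j * i) := Subtype.ext hij
  have hji' : j * i = -(i * j) := by rw [hij', neg_neg]
  have hinv : ∀ x : SL2, x * x = -1 → x⁻¹ = -x := fun x hx =>
    inv_eq_of_mul_eq_one_right (by rw [mul_neg, hx, neg_neg])
  have key : ∀ u : SL2, (u * i * u⁻¹ = conjGL g i) → (u * j * u⁻¹ = conjGL g j) →
      R.gl g = MulAut.conj (R.π u) := by
    intro u h1 h2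
    rw [R.conj_π]
    have h3 : R.gl ((Matrix.SpecialLinearGroup.toGL u)⁻¹ * g) = 1 := by
      apply R.gl_eq_one_of_fix hi hj hij
      · rw [map_mul, MulAut.mul_apply, ← h1, map_inv, ← conjGL_toGL, MulAut.inv_apply_self]
      · rw [map_mul, MulAut.mul_apply, ← h2, map_inv, ← conjGL_toGL, MulAut.inv_apply_self]
    rw [map_mul, map_inv] at h3
    exact (inv_mul_eq_one.1 h3).symm
  rcases ha with ha | ha <;> rcases hb with hb | hb
  · left
    rw [key 1 (by rw [ha, one_mul, inv_one, mul_one]) (by rw [hb, one_mul, inv_one, mul_one]),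
      map_one, map_one]
  · right; left
    apply key i
    · rw [mul_inv_cancel_right, ha]
    · rw [hb, hinv i hi', mul_neg, hij', neg_mul, neg_neg, mul_assoc, hi', mul_neg, mul_one]
  · right; right; left
    apply key j
    · rw [ha, hinv j hj', mul_neg, hji', neg_mul, neg_neg, mul_assoc, hj', mul_neg, mul_one]
    · rw [mul_inv_cancel_right, hb]
  · right; right; right
    rw [← map_mul]
    apply key (i * j)
    · rw [ha, _root_.mul_inv_rev, hinv i hi', hinv j hj', neg_mul_neg, hij', neg_mul, mul_assoc j i i, hi',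
        mul_neg, mul_one, neg_neg, ← mul_assoc, hj', neg_one_mul]
    · rw [hb, _root_.mul_inv_rev, hinv i hi', hinv j hj', neg_mul_neg, mul_assoc i j j, hj',
        mul_neg, mul_one, neg_mul, hji', mul_neg, neg_neg, ← mul_assoc, hi', neg_one_mul]

theorem conj_fix_left {a b : L} (h : Four a b) : MulAut.conj a b = b := by
  rw [MulAut.conj_apply, h.comm, mul_inv_cancel_right]

/-- **The frame of a four-group** `{1,a,b,ab}`. -/
theorem exists_frame {a b : L} (h : Four a b) :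
    ∃ (Φ : (F ≃+* F) →* MulAut L) (y : L) (δ : MulAut L),
      (∀ σ, R.fld (Φ σ) = σ) ∧ (∀ σ, Φ σ a = a) ∧ (∀ σ, Φ σ b = b) ∧ (∀ σ, Φ σ y = y) ∧
      y * y * y = 1 ∧ y ≠ 1 ∧ y * a * y⁻¹ = b ∧ y * b * y⁻¹ = a * b ∧
      δ ∈ R.PGL ∧ δ a = b ∧ δ b = a ∧ (∀ σ, δ * Φ σ = Φ σ * δ) ∧
      (δ ∈ (MulAut.conj : L →* MulAut L).range ↔ IsSquare (2 : F)) ∧
      (∀ α : MulAut L, α a = a → α b = b → ∃ u : L, (u = 1 ∨ u = a ∨ u = b ∨ u = a * b) ∧
        α = MulAut.conj u * Φ (R.fld α)) ∧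
      ∃ g : GL (Fin 2) F, ∀ σ, Φ σ = R.gl g * R.fa σ * (R.gl g)⁻¹ := by
  obtain ⟨i, j, w, d, hσi, hσj, hσw, hσd, hi, hj, hij, hwi, hwj, hw3, hdi, hdj, hdd⟩ :=
    exists_std (F := F) R.two
  obtain ⟨g, hga, hgb⟩ := R.four_conj h (R.four_of_pair hi hj hij)
  have hΦa : ∀ σ, (R.gl g * R.fa σ * (R.gl g)⁻¹) a = a := by
    intro σ
    rw [← hga, MulAut.mul_apply, MulAut.inv_apply_self, MulAut.mul_apply, R.fa_apply, hσi]
  have hΦb : ∀ σ, (R.gl g * R.fa σ * (R.gl g)⁻¹) b = b := by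
    intro σ
    rw [← hgb, MulAut.mul_apply, MulAut.inv_apply_self, MulAut.mul_apply, R.fa_apply, hσj]
  have hi0 : R.gl g (R.π i) * R.gl g (R.π i) = 1 := by rw [hga]; exact h.aa
  have hyne : R.gl g (R.π w) ≠ 1 := by
    intro h1
    have h2 : R.π w = 1 := (R.gl g).injective (by rw [h1, map_one])
    have h3 : R.π (w * i) = R.π (j * w) := by rw [hwi]
    rw [map_mul, map_mul, h2, one_mul, mul_one] at h3
    exact h.ne (by rw [← hga, ← hgb, h3])
  let Φ : (F ≃+* F) →* MulAut L := (MulAut.conj (R.gl g)).toMonoidHom.comp R.fa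
  have hΦ : ∀ σ, Φ σ = R.gl g * R.fa σ * (R.gl g)⁻¹ := fun σ => rfl
  have hfld : ∀ σ, R.fld (Φ σ) = σ := by
    intro σ
    rw [hΦ, map_mul, map_mul, map_inv, R.fld_gl, R.fld_fa, one_mul, inv_one, mul_one]
  refine ⟨Φ, R.gl g (R.π w), R.gl g * R.gl d * (R.gl g)⁻¹, hfld, ?_, ?_, ?_, ?_, hyne, ?_, ?_,
    ?_, ?_, ?_, ?_, ?_, ?_, ⟨g, hΦ⟩⟩
  · intro σ; rw [hΦ]; exact hΦa σ
  · intro σ; rw [hΦ]; exact hΦb σ
  · intro σ
    rw [hΦ, MulAut.mul_apply, MulAut.inv_apply_self, MulAut.mul_apply, R.fa_apply, hσw]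
  · rw [← map_mul, ← map_mul, ← map_mul, ← map_mul, hw3, (R.ker _).2 (Or.inr rfl), map_one]
  · rw [← hga, ← hgb, ← map_inv, ← map_mul, ← map_mul, ← map_inv, ← map_mul, ← map_mul, hwi,
      mul_inv_cancel_right]
  · rw [← hga, ← hgb, ← map_inv, ← map_mul, ← map_mul, ← map_inv, ← map_mul, ← map_mul, hwj,
      mul_inv_cancel_right, map_mul, map_mul]
  · exact mul_mem (mul_mem (R.gl_mem_PGL g) (R.gl_mem_PGL d)) (inv_mem (R.gl_mem_PGL g))
  · rw [← hga, ← hgb, MulAut.mul_apply, MulAut.inv_apply_self, MulAut.mul_apply, R.gl_apply,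
      conjGL_eq_of hdi]
  · rw [← hga, ← hgb, MulAut.mul_apply, MulAut.inv_apply_self, MulAut.mul_apply, R.gl_apply,
      conjGL_eq_of hdj]
  · intro σ
    have h1 : R.fa σ * R.gl d = R.gl d * R.fa σ := by rw [R.fa_mul_gl, hσd]
    rw [hΦ]
    simp only [mul_assoc, inv_mul_cancel_left]
    rw [← mul_assoc (R.gl d), ← h1, mul_assoc]
  · rw [← map_inv, ← map_mul, ← map_mul, R.gl_mem_inn, Units.val_mul, Units.val_mul,
      Matrix.det_mul, Matrix.det_mul, hdd]
    have h1 : g.1.det * g⁻¹.1.det = 1 := by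
      rw [← Matrix.det_mul, ← Units.val_mul, mul_inv_cancel, Units.val_one, Matrix.det_one]
    rw [mul_comm g.1.det, mul_assoc, h1, mul_one]
  · intro α hαa hαb
    have h1 : α * (Φ (R.fld α))⁻¹ ∈ R.PGL := by
      rw [R.mem_PGL_iff_fld, map_mul, map_inv, hfld, mul_inv_cancel]
    have hinv : ∀ (β : MulAut L) (x : L), β x = x → β⁻¹ x = x := by
      intro β x hx
      nth_rw 1 [← hx]
      exact MulAut.inv_apply_self _ _ _
    have h2 := R.fix_four h h1
      (by rw [MulAut.mul_apply, hinv _ _ (by rw [hΦ]; exact hΦa _), hαa])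
      (by rw [MulAut.mul_apply, hinv _ _ (by rw [hΦ]; exact hΦb _), hαb])
    rcases h2 with h2 | h2 | h2 | h2
    · exact ⟨1, Or.inl rfl, by rw [map_one, ← h2, inv_mul_cancel_right]⟩
    · exact ⟨a, Or.inr (Or.inl rfl), by rw [← h2, inv_mul_cancel_right]⟩
    · exact ⟨b, Or.inr (Or.inr (Or.inl rfl)), by rw [← h2, inv_mul_cancel_right]⟩
    · exact ⟨a * b, Or.inr (Or.inr (Or.inr rfl)), by rw [← h2, inv_mul_cancel_right]⟩

end Rep

end Cfsg.Agent.GH.L2Aut
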