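import Cfsg.Agent.GH.L2FourFact

/-!
# GH-L2: `F4` for the alternating group of degree seven
-/

set_option autoImplicit false

open Subgroup
open Cfsg.Agent.GH.L2FourFact

namespace Cfsg.Agent.GH.L2FourAlt

def R : Equiv.Perm (Fin 7) := c[0, 1, 2, 3] * c[4, 5]
def S : Equiv.Perm (Fin 7) := c[0, 2] * c[4, 5]

/-- the dihedral group of order 8 in `S₇` -/
def fn : DihedralGroup 4 → Equiv.Perm (Fin 7)
  | .r i => R ^ i.val
  | .sr i => S * R ^ i.val

theorem fn_mul : ∀ a b : DihedralGroup 4, fn (a * b) = fn a * fn b := by decide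

theorem fn_sign : ∀ a : DihedralGroup 4, Equiv.Perm.sign (fn a) = 1 := by decide

theorem fn_inj : ∀ a : DihedralGroup 4, fn a = 1 → a = 1 := by decide

def hom : DihedralGroup 4 →* ↥(alternatingGroup (Fin 7)) where
  toFun a := ⟨fn a, Equiv.Perm.mem_alternatingGroup.mpr (fn_sign a)⟩
  map_one' := rfl
  map_mul' a b := Subtype.ext (fn_mul a b)

theorem hom_injective : Function.Injective hom := by
  rw [injective_iff_map_eq_one]
  intro a ha
  exact fn_inj a (congrArg Subtype.val ha)

theorem card_alt : Nat.card ↥(alternatingGroup (Fin 7)) = 2520 := by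
  rw [nat_card_alternatingGroup, Nat.card_eq_fintype_card, Fintype.card_fin]
  rfl

theorem index_ne_two (H : Subgroup ↥(alternatingGroup (Fin 7))) : H.index ≠ 2 := by
  intro h
  have hs : IsSimpleGroup ↥(alternatingGroup (Fin 7)) := alternatingGroup.isSimpleGroup (by simp)
  have hn : H.Normal := Subgroup.normal_of_index_eq_two h
  rcases hn.eq_bot_or_eq_top with h1 | h1
  · rw [h1, index_bot, card_alt] at h
    omega
  · rw [h1, index_top] at h
    omega

theorem exists_sylow : ∃ P : Sylow 2 ↥(alternatingGroup (Fin 7)),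
    Nonempty ((P : Subgroup ↥(alternatingGroup (Fin 7))) ≃* DihedralGroup 4) := by
  have : Fact (Nat.Prime 2) := ⟨Nat.prime_two⟩
  have h1 : Nat.card hom.range = 8 := by
    rw [← Nat.card_congr (MonoidHom.ofInjective hom_injective).toEquiv, DihedralGroup.nat_card]
  have h2 : IsPGroup 2 hom.range := by
    rw [IsPGroup.iff_card]
    exact ⟨3, by rw [h1]; norm_num⟩
  obtain ⟨P, hP⟩ := h2.exists_le_sylow
  have h3 : Nat.card (P : Subgroup ↥(alternatingGroup (Fin 7))) ≤ 8 := by
    obtain ⟨n, hn⟩ := IsPGroup.iff_card.mp P.2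
    have h4 : 2 ^ n ∣ 2520 := by
      rw [← card_alt, ← hn]
      exact card_subgroup_dvd_card _
    have h5 : n ≤ 3 := by
      by_contra hlt
      push Not at hlt
      have h6 : 2 ^ 4 ∣ 2520 := (pow_dvd_pow 2 hlt).trans h4
      norm_num at h6
    rw [hn]
    calc 2 ^ n ≤ 2 ^ 3 := Nat.pow_le_pow_right (by norm_num) h5
      _ = 8 := by norm_num
  have h4 : hom.range = (P : Subgroup ↥(alternatingGroup (Fin 7))) :=
    Subgroup.eq_of_le_of_card_ge hP (by rw [h1]; exact h3)
  exact ⟨P, ⟨(MulEquiv.subgroupCongr h4.symm).trans (MonoidHom.ofInjective hom_injective).symm⟩⟩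

theorem f4_alt : F4 ↥(alternatingGroup (Fin 7)) := by
  obtain ⟨P, ⟨e⟩⟩ := exists_sylow
  exact f4_of_dihedral P (by norm_num) e index_ne_two

end Cfsg.Agent.GH.L2FourAlt
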