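import Cfsg.Agent.GH.L2Pair
import Cfsg.Agent.GH.L2FourAlt
import Cfsg.Agent.GH.L2AutFour
import Cfsg.Agent.Lib.ProductSet

/-!
# GH-L2: existence of `Quad`

* `f4_psl2`: `F4` for `PSL₂(F)`, `|F|` odd.
* `f4_lift`: from `F4 (L / O(L))` to four-groups of `L`.
* `exists_quad`: a `VPair X V L` with `F4 (Bar L)` and a four-group `U ≤ L` extend to a `Quad X V L U ρ`.
* `exists_quad_top`: the same from `IsL2odd (STop (KK v))` or `IsAlt 7 (STop (KK v))`.
-/

set_option autoImplicit false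

open Cfsg Subgroup
open Cfsg.Agent.SignalizersComponents Cfsg.Agent.Lib
open Cfsg.Agent.SignalizersComponents.IntrinsicBasic
open Cfsg.Agent.Intrinsic.Basic Cfsg.Agent.Intrinsic.Cen
open Cfsg.Agent.GH.Defs Cfsg.Agent.GH.Comp Cfsg.Agent.GH.L2Tri
open Cfsg.Agent.GH.XSet Cfsg.Agent.GH.L2Pair Cfsg.Agent.GH.L2FourFact
open scoped commutatorElement Pointwise

namespace Cfsg.Agent.GH.L2Quad

/-! ### `PSL₂(F)` -/

theorem f4_psl2 {F : Type*} [Field F] [Fintype F] (hodd : Odd (Fintype.card F)) {X : Type*}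
    [Group X] (e : X ≃* Matrix.ProjectiveSpecialLinearGroup (Fin 2) F) : F4 X := by
  have h2 : (2 : F) ≠ 0 := L2Aut.two_ne_zero_of_odd hodd
  let R : L2Aut.Rep F X := L2Aut.Rep.ofEquiv h2 e
  intro U hU
  obtain ⟨a, ha, ha1⟩ := hU.exists_ne
  obtain ⟨b, hb, hb1, hba⟩ := hU.exists_ne' a
  have hF : L2Aut.Four a b :=
    ⟨hU.sq a ha, hU.sq b hb, ha1, hb1, Ne.symm hba, hU.comm a ha b hb⟩
  constructor
  · intro c hc n _
    have h3 := R.fix_four hF (α := MulAut.conj c) (R.conj_mem_PGL c)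
      (by rw [MulAut.conj_apply, hc a ha, mul_inv_cancel_right])
      (by rw [MulAut.conj_apply, hc b hb, mul_inv_cancel_right])
    rcases h3 with h3 | h3 | h3 | h3
    · rw [R.conj_injective (h3.trans (map_one _).symm)]
      exact U.one_mem
    · rw [R.conj_injective h3]; exact ha
    · rw [R.conj_injective h3]; exact hb
    · rw [R.conj_injective h3]; exact mul_mem ha hb
  · obtain ⟨Φ, y, δ, -, -, -, -, -, -, hya, hyb, -⟩ := R.exists_frame hF
    have hyab : y * (a * b) * y⁻¹ = a := by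
      have e1 : y * (a * b) * y⁻¹ = (y * a * y⁻¹) * (y * b * y⁻¹) := by group
      rw [e1, hya, hyb, hU.comm a ha b hb, ← mul_assoc, hU.sq b hb, one_mul]
    refine ⟨y, ?_, ?_⟩
    · intro u hu
      rcases hU.cases ha hb ha1 hb1 (Ne.symm hba) hu with rfl | rfl | rfl | rfl
      · have e1 : y * 1 * y⁻¹ = 1 := by group
        rw [e1]; exact U.one_mem
      · rw [hya]; exact hb
      · rw [hyb]; exact mul_mem ha hb
      · rw [hyab]; exact ha
    · intro u hu hu1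
      rcases hU.cases ha hb ha1 hb1 (Ne.symm hba) hu with rfl | rfl | rfl | rfl
      · exact absurd rfl hu1
      · rw [hya]; exact hba
      · rw [hyb]; exact fun h => ha1 (mul_eq_right.mp h)
      · rw [hyab]; exact fun h => hb1 (mul_eq_left.mp h.symm)

theorem f4_of_isL2odd {X : Type*} [Group X] (h : IsL2odd X) : F4 X := by
  obtain ⟨F, i, j, h1, -, ⟨e⟩⟩ := h
  exact f4_psl2 h1 e

theorem f4_of_isAlt {X : Type*} [Group X] (h : IsAlt 7 X) : F4 X := by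
  obtain ⟨e⟩ := h
  exact F4.congr e.symm L2FourAlt.f4_alt

/-! ### lifting -/

variable {G : Type*} [Group G] [Finite G]

/-- `U` a subgroup, `C` an odd order subgroup normalized by `U`: `|UC : U|` is odd. -/
theorem odd_relIndex_sup {U C : Subgroup G} (hn : U ≤ normalizer (C : Set G))
    (hodd : Odd (Nat.card C)) : Odd (U.relIndex (U ⊔ C)) := by
  have h1 := ProductSet.card_mul_card_inf U C
  have h2 : ((U : Set G) * (C : Set G)) = ((U ⊔ C : Subgroup G) : Set G) :=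
    (coe_mul_of_left_le_normalizer_right U C hn).symm
  have h3 : Nat.card ((U : Set G) * (C : Set G) : Set G) = Nat.card (U ⊔ C : Subgroup G) := by
    rw [h2]; rfl
  rw [h3] at h1
  have h4 : Nat.card U * U.relIndex (U ⊔ C) = Nat.card (U ⊔ C : Subgroup G) := by
    have h5 := Subgroup.card_mul_index (U.subgroupOf (U ⊔ C))
    rwa [Nat.card_congr (subgroupOfEquivOfLe le_sup_left).toEquiv] at h5
  rw [← h4] at h1
  have h5 : U.relIndex (U ⊔ C) * Nat.card (U ⊓ C : Subgroup G) = Nat.card C := by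
    apply Nat.eq_of_mul_eq_mul_left (Nat.card_pos (α := U))
    rw [← h1]
    ring
  exact hodd.of_dvd_nat (Dvd.intro _ h5)

/-- Lifting of `F4` from `L / O(L)`. -/
theorem f4_lift {L : Subgroup G} (h : F4 (Bar L)) {U : Subgroup G} (hU : Four U) (hUL : U ≤ L) :
    (∀ a ∈ L, (∀ u ∈ U, a * u = u * a) → ∀ n : ℕ, a ^ 2 ^ n = 1 → a ∈ U) ∧
      ∃ ρ ∈ L, (∀ u ∈ U, ρ * u * ρ⁻¹ ∈ U) ∧ ∀ u ∈ U, u ≠ 1 → ρ * u * ρ⁻¹ ≠ u := by
  have : Fact (Nat.Prime 2) := ⟨Nat.prime_two⟩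
  let π : L →* Bar L := QuotientGroup.mk' (oddCore ↥L)
  have hπ : ∀ {x y : L}, π x = π y ↔ (x : G)⁻¹ * y ∈ core L := by
    intro x y
    exact mk_eq_mk_iff
  let φ : U →* Bar L := π.comp (inclusion hUL)
  have hφ : Function.Injective φ := by
    rw [injective_iff_map_eq_one]
    intro u hu
    have h1 : π (inclusion hUL u) = π 1 := by rw [map_one]; exact hu
    have h2 := hπ.mp h1
    have h3 : (u : G)⁻¹ ∈ core L := by
      have e : ((inclusion hUL u : L) : G)⁻¹ * ((1 : L) : G) = (u : G)⁻¹ := by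
        rw [OneMemClass.coe_one, mul_one]; rfl
      rwa [e] at h2
    have h4 := eq_one_of_mem_core_sq h3 (by
      rw [hU.inv u.2]; exact hU.sq u u.2)
    exact Subtype.ext (inv_eq_one.mp h4)
  have hUbar : Four φ.range := by
    refine ⟨?_, ?_, ?_⟩
    · rintro _ ⟨a, rfl⟩ _ ⟨b, rfl⟩
      rw [← map_mul, ← map_mul]
      congr 1
      exact Subtype.ext (hU.comm a a.2 b b.2)
    · rintro _ ⟨a, rfl⟩
      rw [← map_mul, ← map_one φ]
      congr 1
      exact Subtype.ext (hU.sq a a.2)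
    · rw [← Nat.card_congr (MonoidHom.ofInjective hφ).toEquiv, hU.card]
  obtain ⟨h1, y, hy, hy'⟩ := h φ.range hUbar
  constructor
  · intro a ha hc n hn
    have h2 := h1 (π ⟨a, ha⟩) (by
      rintro _ ⟨u, rfl⟩
      change π ⟨a, ha⟩ * π (inclusion hUL u) = π (inclusion hUL u) * π ⟨a, ha⟩
      rw [← map_mul, ← map_mul]
      congr 1
      exact Subtype.ext (hc u u.2)) n (by
      rw [← map_pow, ← map_one π]
      congr 1
      exact Subtype.ext hn)
    obtain ⟨u, hu⟩ := h2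
    have h3 : π (inclusion hUL u) = π ⟨a, ha⟩ := hu
    have h4 : (u : G)⁻¹ * a ∈ core L := hπ.mp h3
    have h5 : ((u : G)⁻¹ * a) ^ 2 ^ (n + 1) = 1 := by
      have h6 : Commute (u : G)⁻¹ a := (hc _ (inv_mem u.2)).symm
      have h7 : (u : G)⁻¹ * (u : G)⁻¹ = 1 := hU.sq _ (inv_mem u.2)
      rw [h6.mul_pow, pow_succ 2 n, pow_mul a, hn, one_pow, mul_one, mul_comm (2 ^ n) 2, pow_mul,
        pow_two, h7, one_pow]
    have h6 := eq_one_of_mem_core h4 h5
    have h7 : a = u := (inv_mul_eq_one.mp h6).symm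
    rw [h7]
    exact u.2
  · obtain ⟨y₀, rfl⟩ := QuotientGroup.mk'_surjective _ y
    -- `y₀ U y₀⁻¹ ≤ U O(L)`
    have hN : U ≤ normalizer (core L : Set G) := hUL.trans (le_normalizer_core L)
    have hle : cj (y₀ : G) U ≤ U ⊔ core L := by
      rintro _ ⟨u, hu, rfl⟩
      change (y₀ : G) * u * (y₀ : G)⁻¹ ∈ U ⊔ core L
      obtain ⟨u', hu'⟩ := hy (φ ⟨u, hu⟩) ⟨_, rfl⟩
      have h2 : π (inclusion hUL u') = π (y₀ * ⟨u, hUL hu⟩ * y₀⁻¹) := by
        rw [map_mul, map_mul, map_inv]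
        exact hu'
      have h3 : (u' : G)⁻¹ * ((y₀ : G) * u * (y₀ : G)⁻¹) ∈ core L := hπ.mp h2
      have e : (y₀ : G) * u * (y₀ : G)⁻¹ = u' * ((u' : G)⁻¹ * ((y₀ : G) * u * (y₀ : G)⁻¹)) := by group
      rw [e]
      exact mul_mem (mem_sup_left u'.2) (mem_sup_right h3)
    obtain ⟨c, hc, hcU⟩ := Quad.conj_into_odd (odd_relIndex_sup hN (odd_card_core L))
      ((isPGroup_four hU).map _ : IsPGroup 2 (cj (y₀ : G) U)) hle
    have hcL : c ∈ L := (sup_le hUL (core_le L)) hc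
    have hmem : ∀ u ∈ U, c⁻¹ * y₀ * u * (c⁻¹ * y₀)⁻¹ ∈ U := by
      intro u hu
      have h2 := hcU _ (conj_mem_cj (g := (y₀ : G)) hu)
      have e : c⁻¹ * ((y₀ : G) * u * (y₀ : G)⁻¹) * c = c⁻¹ * y₀ * u * (c⁻¹ * y₀)⁻¹ := by group
      rwa [e] at h2
    refine ⟨c⁻¹ * y₀, mul_mem (inv_mem hcL) y₀.2, hmem, ?_⟩
    intro u hu hu1 h2
    -- the image of `c` is in `φ.range`
    have hcr : π ⟨c, hcL⟩ ∈ φ.range := by
      have h3 : c ∈ ((U : Set G) * (core L : Set G)) := by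
        rw [← coe_mul_of_left_le_normalizer_right U (core L) hN]
        exact hc
      obtain ⟨w, hw, d, hd, rfl⟩ := Set.mem_mul.mp h3
      refine ⟨⟨w, hw⟩, ?_⟩
      apply hπ.mpr
      change w⁻¹ * (w * d) ∈ core L
      rwa [inv_mul_cancel_left]
    have h3 : π (y₀ * ⟨u, hUL hu⟩ * y₀⁻¹) = π (⟨c, hcL⟩ * ⟨u, hUL hu⟩ * (⟨c, hcL⟩ : L)⁻¹) := by
      congr 1
      apply Subtype.ext
      change (y₀ : G) * u * (y₀ : G)⁻¹ = c * u * c⁻¹
      have e : (y₀ : G) * u * (y₀ : G)⁻¹ = c * (c⁻¹ * y₀ * u * (c⁻¹ * y₀)⁻¹) * c⁻¹ := by group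
      rw [e, h2]
    have h4 : π (⟨c, hcL⟩ * ⟨u, hUL hu⟩ * (⟨c, hcL⟩ : L)⁻¹) = π ⟨u, hUL hu⟩ := by
      rw [map_mul, map_mul, map_inv, hUbar.comm _ hcr (π ⟨u, hUL hu⟩) ⟨⟨u, hu⟩, rfl⟩,
        mul_inv_cancel_right]
    rw [h4, map_mul, map_mul, map_inv] at h3
    refine hy' (φ ⟨u, hu⟩) ⟨_, rfl⟩ ?_ h3
    intro h5
    exact hu1 (congrArg Subtype.val (hφ (h5.trans (map_one φ).symm)))

/-- **Existence of a `Quad`.** -/
theorem exists_quad {X : Set G} {V L : Subgroup G} (p : VPair X V L)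
    (hodd : ∀ y ∈ X, ¬ EvenCenter (KK y)) (hF : F4 (Bar L)) {U : Subgroup G} (hU : Four U)
    (hUL : U ≤ L) : ∃ ρ, Quad X V L U ρ := by
  obtain ⟨h1, ρ, hρ, h2, h3⟩ := f4_lift hF hU hUL
  exact ⟨ρ, p, hodd, hU, hUL, hρ, h2, h3, h1⟩

/-- The tops of 2-components in GH-L2. -/
def IsTop (X : Type*) [Group X] : Prop := IsL2odd X ∨ IsAlt 7 X

theorem f4_of_top {X : Type*} [Group X] (h : IsTop X) : F4 X := by
  rcases h with h | h
  · exact f4_of_isL2odd h
  · exact f4_of_isAlt h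

theorem f4_bar {L : Subgroup G} (hodd : ¬ EvenCenter L) (h : IsTop (STop L)) : F4 (Bar L) :=
  F4.congr (L2FourOC.topEquiv hodd) (f4_of_top h)

theorem VPair.f4 {X : Set G} {V L : Subgroup G} (p : VPair X V L) {v : G} (hv : v ∈ V)
    (hv1 : v ≠ 1) (hF : F4 (Bar (KK v))) : F4 (Bar L) := by
  obtain ⟨e, -⟩ := exists_quotEquiv (p.sup v hv hv1)
  exact F4.congr e.symm hF

theorem exists_quad_top {X : Set G} {V L : Subgroup G} (p : VPair X V L)
    (hodd : ∀ y ∈ X, ¬ EvenCenter (KK y)) (hT : ∀ y ∈ X, IsTop (STop (KK y))) {U : Subgroup G}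
    (hU : Four U) (hUL : U ≤ L) : ∃ ρ, Quad X V L U ρ := by
  obtain ⟨v, hv, hv1⟩ := p.four.exists_ne
  have hvX := p.mem v hv hv1
  exact exists_quad p hodd (VPair.f4 p hv hv1 (f4_bar (hodd v hvX) (hT v hvX))) hU hUL

end Cfsg.Agent.GH.L2Quad
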