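import Cfsg.Agent.GH.L2Frame

/-!
# GH-L2: 2-components of centralisers inside a 2-component

* `exists_isComp_of_surjective`: `f : X → M` surjective with a kernel of odd order, `M` quasisimple with trivial
  core: the subgroup generated by the 2-elements of `X` is a 2-component of `X` mapping onto `M`.
* `exists_comp`: `K` a 2-component of `H`, `P ≤ H ⊓ N(K)` a 2-group, `M` a subnormal quasisimple subgroup of the
  fixed subgroup of `P` in `STop K`: there is a 2-component `J ≤ K` of `H ⊓ C(P)` mapping onto `M`.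
-/

set_option autoImplicit false
set_option linter.unusedSectionVars false

open Cfsg Subgroup
open scoped commutatorElement
open Cfsg.Agent.SignalizersComponents
open Cfsg.Agent.SignalizersComponents.IntrinsicBasic (cj mem_cj)
open Cfsg.Agent.Intrinsic.Basic Cfsg.Agent.GH.Defs Cfsg.Agent.GH.Comp
open Cfsg.Agent.Walter.SylowIn
open Cfsg.Agent.Lib

namespace Cfsg.Agent.GH.L2Frame

variable {G : Type*} [Group G] [Finite G]

/-- 2-elements lift to 2-elements. -/
theorem exists_two_lift {X M : Type*} [Group X] [Finite X] [Group M] {f : X →* M}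
    (hf : Function.Surjective f) {y : M} {n : ℕ} (hy : y ^ 2 ^ n = 1) :
    ∃ x : X, f x = y ∧ ∃ m : ℕ, x ^ 2 ^ m = 1 := by
  have : Fact (Nat.Prime 2) := ⟨Nat.prime_two⟩
  have h1 : IsPGroup 2 (zpowers y) := by
    rintro ⟨z, hz⟩
    obtain ⟨k, rfl⟩ := mem_zpowers_iff.1 hz
    refine ⟨n, Subtype.ext ?_⟩
    change (y ^ k) ^ 2 ^ n = 1
    rw [← zpow_natCast, ← zpow_mul, mul_comm, zpow_mul, zpow_natCast, hy, one_zpow]
  obtain ⟨S, hS⟩ := h1.exists_le_sylow
  obtain ⟨P, rfl⟩ := Sylow.mapSurjective_surjective hf 2 S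
  obtain ⟨x, hx, hxy⟩ := hS (mem_zpowers y)
  obtain ⟨m, hm⟩ := P.2 ⟨x, hx⟩
  exact ⟨x, hxy, m, by simpa using congrArg Subtype.val hm⟩

theorem odd_of_dvd {a b : ℕ} (h : a ∣ b) (hb : Odd b) : Odd a := hb.of_dvd_nat h

/-- A normal subgroup of odd order is in the core. -/
theorem le_oddCore {X : Type*} [Group X] {N : Subgroup X} (hN : N.Normal)
    (h : Odd (Nat.card N)) : N ≤ oddCore X :=
  Cores.le_pPrimeCore hN (Nat.coprime_two_right.2 h)

theorem odd_card_oddCore (X : Type*) [Group X] [Finite X] : Odd (Nat.card (oddCore X)) :=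
  Nat.coprime_two_right.1 (Cores.pPrimeCore_coprime (G := X) 2)

/-- A surjective homomorphism with odd kernel onto a group with trivial core: the kernel is the core. -/
theorem ker_eq_oddCore {X M : Type*} [Group X] [Finite X] [Group M] {f : X →* M}
    (hf : Function.Surjective f) (hker : Odd (Nat.card f.ker)) (hM : oddCore M = ⊥) :
    f.ker = oddCore X := by
  have : Finite M := Finite.of_surjective f hf
  apply le_antisymm (le_oddCore inferInstance hker)
  have h1 : (oddCore X).map f ≤ oddCore M := by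
    refine le_oddCore ((Cores.pPrimeCore_normal (G := X) 2).map f hf) ?_
    exact odd_of_dvd (card_map_dvd (oddCore X) f) (odd_card_oddCore X)
  rw [hM] at h1
  intro x hx
  exact mem_bot.1 (h1 ⟨x, hx, rfl⟩)

theorem exists_isComp_of_surjective {X : Subgroup G} {M : Type*} [Group M] {f : X →* M}
    (hf : Function.Surjective f) (hker : Odd (Nat.card f.ker)) (hq : IsQuasisimple M)
    (hM : oddCore M = ⊥) :
    ∃ (J : Subgroup G) (hJ : J ≤ X), IsComp X J ∧ X ≤ normalizer (J : Set G) ∧
      Function.Surjective (f.comp (inclusion hJ)) ∧ Nonempty (Bar J ≃* M) := by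
  have : Fact (Nat.Prime 2) := ⟨Nat.prime_two⟩
  have : Finite M := Finite.of_surjective f hf
  let J : Subgroup G := PComponents.pElem 2 X
  have hJ : J ≤ X := PComponents.pElem_le X
  have hne : Nontrivial M := ComponentSolvable.quasisimple_nontrivial hq
  have h2 : 2 ∣ Nat.card M := by
    by_contra h
    have h1 : Odd (Nat.card M) := by
      rw [← Nat.not_even_iff_odd]
      exact fun h3 => h h3.two_dvd
    have h3 : (⊤ : Subgroup M) ≤ oddCore M := le_oddCore inferInstance (by rwa [card_top])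
    rw [hM] at h3
    exact top_ne_bot (le_bot_iff.1 h3)
  have hsurj : Function.Surjective (f.comp (inclusion hJ)) := by
    have h1 : (⊤ : Subgroup M) ≤ (f.comp (inclusion hJ)).range := by
      rw [← PComponents.quasisimple_pElem_top (p := 2) hq h2]
      refine (closure_le _).2 ?_
      rintro y ⟨-, n, hn⟩
      obtain ⟨x, rfl, m, hm⟩ := exists_two_lift hf hn
      have hxJ : (x : G) ∈ J := PComponents.mem_pElem x.2 (n := m) (by
        simpa using congrArg Subtype.val hm)
      exact ⟨⟨x, hxJ⟩, rfl⟩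
    intro y
    exact h1 (mem_top y)
  have hker' : Odd (Nat.card (f.comp (inclusion hJ)).ker) := by
    refine odd_of_dvd ?_ hker
    have h1 : (f.comp (inclusion hJ)).ker.map (inclusion hJ) ≤ f.ker := by
      rintro _ ⟨x, hx, rfl⟩
      exact hx
    have h3 := card_dvd_of_le h1
    rwa [card_map_of_injective (inclusion_injective hJ)] at h3
  have hk := ker_eq_oddCore hsurj hker' hM
  have e : Bar J ≃* M :=
    (QuotientGroup.quotientMulEquivOfEq hk.symm).trans
      (QuotientGroup.quotientKerEquivOfSurjective _ hsurj)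
  have hn : X ≤ normalizer (J : Set G) :=
    le_normalizer.trans (PComponents.normalizer_le_normalizer_pElem (p := 2) X)
  refine ⟨J, hJ, ?_, hn, hsurj, ⟨e⟩⟩
  rw [isComp_iff]
  refine ⟨hJ, ?_, PCompQuot.quasisimple_congr e.symm hq, ?_⟩
  · exact (normal_subgroupOf_of_le_normalizer hn).isSubnormal
  · apply le_antisymm (PComponents.pElem_le _)
    refine (closure_le _).2 ?_
    rintro y ⟨hy, n, hn⟩
    exact PComponents.mem_pElem (PComponents.mem_pElem hy hn) hn

/-- The fixed subgroup of `P` in `STop K`. -/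
def fixedTop (K P : Subgroup G) : Subgroup (STop K) where
  carrier := {l | ∀ p : normalizer (K : Set G), (p : G) ∈ P → act K p l = l}
  one_mem' := fun p _ => map_one _
  mul_mem' := by
    intro a b ha hb p hp
    rw [map_mul, ha p hp, hb p hp]
  inv_mem' := by
    intro a ha p hp
    rw [map_inv, ha p hp]

theorem mem_fixedTop {K P : Subgroup G} {l : STop K} :
    l ∈ fixedTop K P ↔ ∀ p : normalizer (K : Set G), (p : G) ∈ P → act K p l = l := Iff.rfl

theorem topMap_mem_fixedTop {K P : Subgroup G} {k : K}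
    (hk : (k : G) ∈ centralizer (P : Set G)) : topMap K k ∈ fixedTop K P := by
  intro p hp
  have h1 : (p : G) * k * (p : G)⁻¹ = k := by
    rw [mul_inv_eq_iff_eq_mul]
    exact mem_centralizer_iff.1 hk _ hp
  have h2 := act_apply p.2 k
  have h3 : (⟨(p : G) * k * (p : G)⁻¹, conj_mem p.2 k.2⟩ : K) = k := Subtype.ext h1
  rw [h3] at h2
  exact h2

theorem exists_of_mem_fixedTop {K P : Subgroup G} (hodd : ¬ EvenCenter K) (hP : IsPGroup 2 P)
    (hPK : P ≤ normalizer (K : Set G)) {l : STop K} (hl : l ∈ fixedTop K P) :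
    ∃ k : K, (k : G) ∈ centralizer (P : Set G) ∧ topMap K k = l := by
  obtain ⟨k, hk, hkl⟩ := exists_fixed hodd hP hPK (l := l) (fun p hp => hl ⟨p, hPK hp⟩ hp)
  exact ⟨k, mem_centralizer_iff.2 hk, hkl⟩

/-- 2-components of `H ⊓ C(P)` inside `K` from quasisimple subnormal subgroups of the fixed subgroup. -/
theorem exists_comp {H K P : Subgroup G} (hK : IsComp H K) (hodd : ¬ EvenCenter K)
    (hP : IsPGroup 2 P) (hPK : P ≤ normalizer (K : Set G))
    {M : Subgroup (STop K)} (hMC : M ≤ fixedTop K P)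
    (hsub : (M.subgroupOf (fixedTop K P)).IsSubnormal) (hq : IsQuasisimple M)
    (hM : oddCore M = ⊥) :
    ∃ J : Subgroup G, IsComp (H ⊓ centralizer (P : Set G)) J ∧ J ≤ K ∧
      (∀ j : K, (j : G) ∈ J → topMap K j ∈ M) ∧
      (∀ m ∈ M, ∃ j : K, (j : G) ∈ J ∧ topMap K j = m) ∧ Nonempty (Bar J ≃* M) := by
  -- `X` = the elements of `C_K(P)` with image in `M`
  let X : Subgroup G := (M.comap (topMap K)).map K.subtype ⊓ centralizer (P : Set G)
  have hXK : X ≤ K := inf_le_left.trans (map_subtype_le _)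
  have hX : ∀ {x : G} (hx : x ∈ X), topMap K ⟨x, hXK hx⟩ ∈ M := by
    intro x hx
    obtain ⟨⟨y, hy, rfl⟩, -⟩ := hx
    exact hy
  have hX2 : ∀ k : K, topMap K k ∈ M → (k : G) ∈ centralizer (P : Set G) → (k : G) ∈ X :=
    fun k hk hc => ⟨⟨k, hk, rfl⟩, hc⟩
  let f : X →* M := ((topMap K).comp (inclusion hXK)).codRestrict M (fun x => hX x.2)
  have hf : Function.Surjective f := by
    rintro ⟨m, hm⟩
    obtain ⟨k, hk, hkm⟩ := exists_of_mem_fixedTop hodd hP hPK (hMC hm)
    exact ⟨⟨k, hX2 k (hkm ▸ hm) hk⟩, Subtype.ext hkm⟩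
  have hker : Odd (Nat.card f.ker) := by
    refine odd_of_dvd ?_ (odd_card_ker hodd)
    have h1 : f.ker.map (inclusion hXK) ≤ (topMap K).ker := by
      rintro _ ⟨x, hx, rfl⟩
      exact congrArg Subtype.val (show f x = 1 from hx)
    have h3 := card_dvd_of_le h1
    rwa [card_map_of_injective (inclusion_injective hXK)] at h3
  obtain ⟨J, hJX, hJ, -, hsurj, hbar⟩ := exists_isComp_of_surjective hf hker hq hM
  -- subnormality
  let B : Subgroup G := K ⊓ centralizer (P : Set G)
  have hXB : X ≤ B := le_inf hXK inf_le_right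
  have hBA : B ≤ H ⊓ centralizer (P : Set G) := inf_le_inf_right _ hK.le
  have h1 : (X.subgroupOf B).IsSubnormal := by
    let g : B →* fixedTop K P := ((topMap K).comp (inclusion (inf_le_left : B ≤ K))).codRestrict _
      (fun x => topMap_mem_fixedTop (k := inclusion (inf_le_left : B ≤ K) x) x.2.2)
    have h2 := hsub.comap g
    have h3 : (M.subgroupOf (fixedTop K P)).comap g = X.subgroupOf B := by
      ext x
      constructor
      · intro hx
        exact mem_subgroupOf.2 (hX2 ⟨x, x.2.1⟩ hx x.2.2)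
      · intro hx
        exact hX (mem_subgroupOf.1 hx)
    rwa [h3] at h2
  have h2 : (B.subgroupOf (H ⊓ centralizer (P : Set G))).IsSubnormal := by
    have h3 := (isComp_iff.1 hK).2.1.comap
      (inclusion (inf_le_left : H ⊓ centralizer (P : Set G) ≤ H))
    have h4 : (K.subgroupOf H).comap
        (inclusion (inf_le_left : H ⊓ centralizer (P : Set G) ≤ H)) =
        B.subgroupOf (H ⊓ centralizer (P : Set G)) := by
      ext x
      constructor
      · intro hx
        exact mem_subgroupOf.2 ⟨hx, x.2.2⟩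
      · intro hx
        exact (mem_subgroupOf.1 hx).1
    rwa [h4] at h3
  refine ⟨J, (hJ.extend hXB h1).extend hBA h2, hJX.trans hXK, ?_, ?_, hbar⟩
  · intro j hj
    exact hX (hJX hj)
  · intro m hm
    obtain ⟨j, hj⟩ := hsurj ⟨m, hm⟩
    exact ⟨⟨j, hXK (hJX j.2)⟩, j.2, congrArg Subtype.val hj⟩

end Cfsg.Agent.GH.L2Frame
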