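import Cfsg.Agent.GH.L2AutDih

/-!
# 2-subgroups of `PGL(2,F)` are cyclic or dihedral
-/

set_option autoImplicit false

namespace Cfsg.Agent.GH.L2Aut

open Matrix Cfsg.Agent.Lib.SL2Mat Cfsg.Agent.Lib.AutSL2 Cfsg.Agent.Lib.AutSL2Out

section mat

variable {F : Type*} [Field F]

local notation "M2" => Matrix (Fin 2) (Fin 2) F

/-- Cayley–Hamilton for `2 × 2` -/
theorem cayley (A : M2) : A * A = A.trace • A - A.det • (1 : M2) := by
  rw [Matrix.trace_fin_two, Matrix.det_fin_two]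
  apply mat_ext
  · rw [mat_mul]; simp; ring
  · rw [mat_mul]; simp; ring
  · rw [mat_mul]; simp; ring
  · rw [mat_mul]; simp; ring

theorem tr_of_anticomm (h2 : (2 : F) ≠ 0) {g h : GL (Fin 2) F} (hg : h.1 * g.1 = -(g.1 * h.1)) :
    h.1.trace = 0 := by
  have h1 : g.1 * h.1 * g⁻¹.1 = -h.1 := by
    have h3 : g.1 * h.1 = -(h.1 * g.1) := by rw [hg, neg_neg]
    rw [h3, Matrix.neg_mul, Matrix.mul_assoc, ← Units.val_mul, mul_inv_cancel, Units.val_one,
      Matrix.mul_one]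
  have h3 : (g.1 * h.1 * g⁻¹.1).trace = h.1.trace := by
    rw [Matrix.trace_mul_comm, ← Matrix.mul_assoc, ← Units.val_mul, inv_mul_cancel, Units.val_one,
      Matrix.one_mul]
  rw [h1, Matrix.trace_neg] at h3
  have h4 : (2 : F) * h.1.trace = 0 := by linear_combination -h3
  exact (mul_eq_zero.1 h4).resolve_left h2

end mat

namespace Rep

variable {F : Type*} [Field F] {L : Type*} [Group L] (R : Rep F L) [Finite F]

local notation "SL2" => Matrix.SpecialLinearGroup (Fin 2) F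
local notation "M2" => Matrix (Fin 2) (Fin 2) F

theorem not_scalar_of_ne {g : GL (Fin 2) F} (h : R.gl g ≠ 1) (c : F) : g.1 ≠ c • (1 : M2) :=
  fun h1 => h (R.gl_eq_one_iff.2 ⟨c, h1⟩)

/-- an involution of `PGL` has trace zero -/
theorem tr_of_inv {g : GL (Fin 2) F} (h : R.gl g ≠ 1) (h1 : R.gl g * R.gl g = 1) :
    g.1.trace = 0 := by
  rw [← map_mul] at h1
  obtain ⟨c, hc⟩ := R.gl_eq_one_iff.1 h1
  rw [Units.val_mul, cayley] at hc
  by_contra h3
  apply h
  rw [R.gl_eq_one_iff]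
  refine ⟨g.1.trace⁻¹ * (c + g.1.det), ?_⟩
  rw [mul_smul, add_smul, ← hc, sub_add_cancel, smul_smul, inv_mul_cancel₀ h3, one_smul]

theorem sq_of_tr {g : GL (Fin 2) F} (h : g.1.trace = 0) : g.1 * g.1 = (-g.1.det) • (1 : M2) := by
  rw [cayley, h, zero_smul, zero_sub, neg_smul]

theorem gl_sq_of_tr {g : GL (Fin 2) F} (h : g.1.trace = 0) : R.gl g * R.gl g = 1 := by
  rw [← map_mul, R.gl_eq_one_iff]
  exact ⟨_, by rw [Units.val_mul]; exact Rep.sq_of_tr h⟩

/-- elements commuting with `gl g` commute or anticommute with `g` -/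
theorem comm_cases {g h : GL (Fin 2) F} (hc : R.gl h * R.gl g = R.gl g * R.gl h) :
    h.1 * g.1 = g.1 * h.1 ∨ h.1 * g.1 = -(g.1 * h.1) := by
  have h1 : R.gl ((g * h)⁻¹ * (h * g)) = 1 := by
    rw [map_mul, map_inv, map_mul, map_mul, hc, inv_mul_cancel]
  obtain ⟨e, he⟩ := R.gl_eq_one_iff.1 h1
  have h2 : h.1 * g.1 = e • (g.1 * h.1) := by
    have h3 : (g * h).1 * ((g * h)⁻¹ * (h * g)).1 = (h * g).1 := by
      rw [← Units.val_mul, mul_inv_cancel_left]
    rw [he, Matrix.mul_smul, Matrix.mul_one, Units.val_mul, Units.val_mul] at h3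
    exact h3.symm
  have h3 := congrArg Matrix.det h2
  rw [Matrix.det_smul, Fintype.card_fin, Matrix.det_mul, Matrix.det_mul, mul_comm h.1.det] at h3
  have hd : g.1.det * h.1.det ≠ 0 := by
    rw [← Matrix.det_mul, ← Units.val_mul]
    exact (Matrix.GeneralLinearGroup.det (g * h)).ne_zero
  have h4 : (e - 1) * (e + 1) = 0 := by
    have h5 : (e ^ 2 - 1) * (g.1.det * h.1.det) = 0 := by linear_combination -h3
    have h6 := (mul_eq_zero.1 h5).resolve_right hd
    linear_combination h6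
  rcases mul_eq_zero.1 h4 with h5 | h5
  · left
    rw [h2, show e = 1 by linear_combination h5, one_smul]
  · right
    rw [h2, show e = -1 by linear_combination h5, neg_one_smul]

theorem gl_comm_of_anticomm {g h : GL (Fin 2) F} (hg : h.1 * g.1 = -(g.1 * h.1)) :
    R.gl h * R.gl g = R.gl g * R.gl h := by
  rw [← map_mul, ← map_mul]
  have h1 : R.gl ((g * h)⁻¹ * (h * g)) = 1 := by
    rw [R.gl_eq_one_iff]
    refine ⟨-1, ?_⟩
    rw [Units.val_mul, Units.val_mul, hg, Matrix.mul_neg, ← Units.val_mul g h, ← Units.val_mul,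
      inv_mul_cancel, Units.val_one, neg_one_smul]
  rw [map_mul, map_inv] at h1
  exact (inv_mul_eq_one.1 h1).symm

theorem anticomm_inv {g h : GL (Fin 2) F} (hg : h.1 * g.1 = -(g.1 * h.1)) :
    R.gl h * R.gl h = 1 := R.gl_sq_of_tr (tr_of_anticomm R.two hg)

/-- an element anticommuting with the trace zero `g` inverts (mod scalars) what commutes with `g` -/
theorem anticomm_conj {g h t : GL (Fin 2) F} (hs : ∀ c : F, g.1 ≠ c • (1 : M2))
    (htr : g.1.trace = 0) (hg : h.1 * g.1 = -(g.1 * h.1)) (ht : g.1 * t.1 = t.1 * g.1) :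
    R.gl h * R.gl t * (R.gl h)⁻¹ = (R.gl t)⁻¹ := by
  obtain ⟨a, b, hab⟩ := exists_ab hs ht
  have h1 : R.gl (h * t * h⁻¹ * t) = 1 := by
    rw [R.gl_eq_one_iff]
    refine ⟨a ^ 2 + b ^ 2 * g.1.det, ?_⟩
    have h2 : h.1 * t.1 = (a • (1 : M2) - b • g.1) * h.1 := by
      rw [hab, Matrix.mul_add, Matrix.mul_smul, Matrix.mul_smul, Matrix.mul_one, hg, Matrix.sub_mul,
        Matrix.smul_mul, Matrix.smul_mul, Matrix.one_mul, smul_neg, sub_eq_add_neg]
    have h3 : (h * t * h⁻¹ * t).1 = h.1 * t.1 * h⁻¹.1 * t.1 := rfl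
    rw [h3, h2, Matrix.mul_assoc _ h.1, ← Units.val_mul, mul_inv_cancel, Units.val_one,
      Matrix.mul_one, hab, Matrix.sub_mul, Matrix.mul_add, Matrix.mul_add, Matrix.smul_mul,
      Matrix.smul_mul, Matrix.smul_mul, Matrix.smul_mul, Matrix.mul_smul, Matrix.mul_smul,
      Matrix.mul_smul, Matrix.mul_smul, Matrix.one_mul, Matrix.one_mul, Matrix.mul_one, sq_of_tr htr]
    module
  rw [map_mul, map_mul, map_mul, map_inv] at h1
  exact eq_inv_of_mul_eq_one_left h1

/-- the only involution of the torus through `g` -/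
theorem torus_inv {g t : GL (Fin 2) F} (hs : ∀ c : F, g.1 ≠ c • (1 : M2)) (htr : g.1.trace = 0)
    (ht : g.1 * t.1 = t.1 * g.1) (h1 : R.gl t * R.gl t = 1) : R.gl t = 1 ∨ R.gl t = R.gl g := by
  by_cases h : R.gl t = 1
  · exact Or.inl h
  right
  obtain ⟨a, b, hab⟩ := exists_ab hs ht
  have h2 := R.tr_of_inv h h1
  rw [hab, Matrix.trace_add, Matrix.trace_smul, Matrix.trace_smul, htr, smul_zero, add_zero,
    Matrix.trace_one, Fintype.card_fin, smul_eq_mul] at h2
  have ha : a = 0 := (mul_eq_zero.1 h2).resolve_right (by exact_mod_cast R.two)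
  rw [ha, zero_smul, zero_add] at hab
  have h3 : R.gl (g⁻¹ * t) = 1 := by
    rw [R.gl_eq_one_iff]
    refine ⟨b, ?_⟩
    rw [Units.val_mul, hab, Matrix.mul_smul, ← Units.val_mul, inv_mul_cancel, Units.val_one]
  rw [map_mul, map_inv] at h3
  exact (inv_mul_eq_one.1 h3).symm

include R in
theorem finite : Finite L := Finite.of_surjective R.π R.surj

/-- **2-subgroups of `PGL(2,F)`** are cyclic or dihedral. -/
theorem pgl_two_group (P : Subgroup (MulAut L)) (hP : IsPGroup 2 P) (hle : P ≤ R.PGL) :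
    (∃ c ∈ P, ∀ x ∈ P, x ∈ Subgroup.zpowers c) ∨ ∃ c r, Dih P c r := by
  have hfin : Finite L := R.finite
  have hfin2 : Finite (MulAut L) :=
    Finite.of_injective (fun e : MulAut L => (e : L → L)) DFunLike.coe_injective
  by_cases hbot : P = ⊥
  · left
    refine ⟨1, one_mem _, fun x hx => ?_⟩
    rw [hbot, Subgroup.mem_bot] at hx
    rw [hx]; exact one_mem _
  -- a central involution
  obtain ⟨z, hzP, hz1, hzz, hzc⟩ : ∃ z ∈ P, z ≠ 1 ∧ z * z = 1 ∧ ∀ x ∈ P, x * z = z * x := by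
    have hnt : Nontrivial P := (Subgroup.nontrivial_iff_ne_bot P).2 hbot
    have h1 : Nontrivial (Subgroup.center P) := hP.center_nontrivial
    have h2 : (2 : ℕ) ∣ Nat.card (Subgroup.center P) := by
      obtain ⟨n, hn⟩ := IsPGroup.iff_card.1 (hP.to_subgroup (Subgroup.center P))
      have h3 : 1 < Nat.card (Subgroup.center P) := Finite.one_lt_card
      rw [hn] at h3 ⊢
      rcases n with _ | n
      · simp at h3
      · exact dvd_pow_self 2 (Nat.succ_ne_zero n)
    obtain ⟨y, hy⟩ := exists_prime_orderOf_dvd_card' 2 h2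
    refine ⟨(y : P), (y : P).2, ?_, ?_, ?_⟩
    · intro h3
      have h4 : y = 1 := Subtype.ext (Subtype.ext h3)
      rw [h4, orderOf_one] at hy
      exact absurd hy (by norm_num)
    · have h3 : y ^ 2 = 1 := by rw [← hy]; exact pow_orderOf_eq_one y
      rw [sq] at h3
      exact congrArg (fun w : Subgroup.center P => ((w : P) : MulAut L)) h3
    · intro x hx
      exact congrArg Subtype.val ((Subgroup.mem_center_iff.1 y.2) ⟨x, hx⟩)
  obtain ⟨g, rfl⟩ := R.mem_PGL.1 (hle hzP)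
  have hs := R.not_scalar_of_ne hz1
  have htr := R.tr_of_inv hz1 hzz
  -- the torus part
  let A : Subgroup (MulAut L) :=
    { carrier := {x | x ∈ P ∧ ∃ t : GL (Fin 2) F, x = R.gl t ∧ g.1 * t.1 = t.1 * g.1}
      one_mem' := ⟨one_mem _, 1, by rw [map_one], by
        rw [Units.val_one, Matrix.mul_one, Matrix.one_mul]⟩
      mul_mem' := by
        rintro x y ⟨hx, t, rfl, ht⟩ ⟨hy, s, rfl, hs⟩
        refine ⟨mul_mem hx hy, t * s, (map_mul _ _ _).symm, ?_⟩
        rw [Units.val_mul, ← Matrix.mul_assoc, ht, Matrix.mul_assoc, hs, Matrix.mul_assoc]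
      inv_mem' := by
        rintro x ⟨hx, t, rfl, ht⟩
        refine ⟨inv_mem hx, t⁻¹, (map_inv _ _).symm, ?_⟩
        have h1 : g * t = t * g := Units.ext ht
        have h2 : g * t⁻¹ = t⁻¹ * g := by
          rw [eq_inv_mul_iff_mul_eq, ← mul_assoc, ← h1, mul_inv_cancel_right]
        exact congrArg Units.val h2 }
  have hAP : A ≤ P := fun x hx => hx.1
  have hcases : ∀ x ∈ P, x ∈ A ∨ ∃ h : GL (Fin 2) F, x = R.gl h ∧ h.1 * g.1 = -(g.1 * h.1) := by
    intro x hx
    obtain ⟨h, rfl⟩ := R.mem_PGL.1 (hle hx)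
    rcases R.comm_cases (hzc _ hx) with h1 | h1
    · exact Or.inl ⟨hx, h, rfl, h1.symm⟩
    · exact Or.inr ⟨h, rfl, h1⟩
  obtain ⟨c, hcA, hc⟩ := exists_zpowers A (hP.to_le hAP) (by
    rintro x ⟨_, t, rfl, ht⟩ y ⟨_, s, rfl, hs'⟩
    obtain ⟨a, b, hab⟩ := exists_ab hs ht
    rw [← map_mul, ← map_mul]
    congr 1
    apply Units.ext
    rw [Units.val_mul, Units.val_mul, hab, Matrix.add_mul, Matrix.mul_add, Matrix.smul_mul,
      Matrix.smul_mul, Matrix.mul_smul, Matrix.mul_smul, Matrix.one_mul, Matrix.mul_one, hs'])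
    (R.gl g) (by
      rintro x ⟨_, t, rfl, ht⟩ h1
      exact R.torus_inv hs htr ht h1)
  have hzA : R.gl g ∈ A := ⟨hzP, g, rfl, rfl⟩
  by_cases hAll : P ≤ A
  · exact Or.inl ⟨c, hAP hcA, fun x hx => hc x (hAll hx)⟩
  right
  obtain ⟨r, hrP, hrA⟩ := Set.not_subset.1 hAll
  have hrA' : r ∉ A := hrA
  obtain ⟨h, rfl, hh⟩ := (hcases r hrP).resolve_left hrA'
  refine ⟨c, R.gl h, hAP hcA, hrP, ?_, ?_, R.anticomm_inv hh, ?_, ?_⟩
  · rintro rfl
    have h1 := hc _ hzA
    rw [Subgroup.zpowers_one_eq_bot, Subgroup.mem_bot] at h1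
    exact hz1 h1
  · intro h1
    apply hrA
    have h2 : Subgroup.zpowers c ≤ A := by rw [Subgroup.zpowers_le]; exact hcA
    exact h2 h1
  · obtain ⟨_, t, rfl, ht⟩ := hcA
    exact R.anticomm_conj hs htr hh ht
  · intro x hx
    rcases hcases x hx with h1 | ⟨k, rfl, hk⟩
    · exact Or.inl (hc x h1)
    · right
      have h1 : R.gl k * R.gl h ∈ A := by
        refine ⟨mul_mem hx hrP, k * h, (map_mul _ _ _).symm, ?_⟩
        have hh' : g.1 * h.1 = -(h.1 * g.1) := by rw [hh, neg_neg]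
        have hk' : g.1 * k.1 = -(k.1 * g.1) := by rw [hk, neg_neg]
        rw [Units.val_mul, ← Matrix.mul_assoc, hk', Matrix.neg_mul, Matrix.mul_assoc, hh',
          Matrix.mul_neg, neg_neg, Matrix.mul_assoc]
      obtain ⟨n, hn⟩ := Subgroup.mem_zpowers_iff.1 (hc _ h1)
      refine ⟨n, ?_⟩
      rw [hn, mul_assoc, R.anticomm_inv hh, mul_one]

end Rep

end Cfsg.Agent.GH.L2Aut
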