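import Cfsg.Agent.GH.Pc

/-!
# The five explicit 2-groups of GH-C2

* `UT34` (order 64, type `L₃(4)`): `a b v₁ v₂ u₁ u₂`, unitriangular 3 × 3 matrices over `F₄`.
* `M22T` (order 128, type `M₂₂`, `L₄(5)`): `t` (field automorphism) and `UT34`.
* `W24` (order 64, type `PSp₄(3)`, `A₈`): the regular wreath product `2 wr V₄`.
* `W8` (order 128, type `L₄(3)`, `A₁₀`): the wreath product `2 wr D₈` on 4 points.
* `G23` (order 64, type `G₂(3)`): `Z₄ × Z₄` extended by a swap and the inversion.
-/

set_option autoImplicit false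

open Subgroup

namespace Cfsg.Agent.GH.PcTypes

open Cfsg.Agent.GH.Pc

/-- `T` is given by the polycyclic presentation `P`. -/
def IsType {n : ℕ} (P : Pres n) (T : Type*) [Group T] : Prop :=
  Nat.card T = 2 ^ n ∧ ∃ x : Fin n → T, Sat P x ∧ closure (Set.range x) = ⊤

/-- Conjugation words: `x i` commutes with `x j` unless a word is given. -/
def cjOf {n : ℕ} (f : ℕ → ℕ → Option (List (Fin n))) (i j : Fin n) : List (Fin n) :=
  (f i.val j.val).getD [j]

/-- `a b v₁ v₂ u₁ u₂` : `[a,v₁] = u₁`, `[a,v₂] = u₂`, `[b,v₁] = u₂`, `[b,v₂] = u₁u₂`. -/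
def UT34 : Pres 6 where
  sq _ := []
  cj := cjOf fun i j => match i, j with
    | 0, 2 => some [2, 4]
    | 0, 3 => some [3, 5]
    | 1, 2 => some [2, 5]
    | 1, 3 => some [3, 4, 5]
    | _, _ => none

/-- `t a b v₁ v₂ u₁ u₂` : `t` centralises `a`, `v₁`, `u₁`, `b ↦ ab`, `v₂ ↦ v₁v₂`, `u₂ ↦ u₁u₂`. -/
def M22T : Pres 7 where
  sq _ := []
  cj := cjOf fun i j => match i, j with
    | 0, 2 => some [1, 2]
    | 0, 4 => some [3, 4]
    | 0, 6 => some [5, 6]
    | 1, 3 => some [3, 5]
    | 1, 4 => some [4, 6]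
    | 2, 3 => some [3, 6]
    | 2, 4 => some [4, 5, 6]
    | _, _ => none

/-- `a b e e_a e_b e_ab`, regular permutation. -/
def W24 : Pres 6 where
  sq _ := []
  cj := cjOf fun i j => match i, j with
    | 0, 2 => some [3]
    | 0, 3 => some [2]
    | 0, 4 => some [5]
    | 0, 5 => some [4]
    | 1, 2 => some [4]
    | 1, 4 => some [2]
    | 1, 3 => some [5]
    | 1, 5 => some [3]
    | _, _ => none

/-- `t a b e₁ e₂ e₃ e₄` with `t = (2 4)`, `a = (1 2)(3 4)`, `b = (1 4)(2 3)`. -/
def W8 : Pres 7 where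
  sq _ := []
  cj := cjOf fun i j => match i, j with
    | 0, 1 => some [2]
    | 0, 2 => some [1]
    | 0, 4 => some [6]
    | 0, 6 => some [4]
    | 1, 3 => some [4]
    | 1, 4 => some [3]
    | 1, 5 => some [6]
    | 1, 6 => some [5]
    | 2, 3 => some [6]
    | 2, 6 => some [3]
    | 2, 4 => some [5]
    | 2, 5 => some [4]
    | _, _ => none

/-- `r s p q p² q²` : `r` interchanges `p` and `q`, `s` inverts. -/
def G23 : Pres 6 where
  sq i := match i.val with
    | 2 => [4]
    | 3 => [5]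
    | _ => []
  cj := cjOf fun i j => match i, j with
    | 0, 2 => some [3]
    | 0, 3 => some [2]
    | 0, 4 => some [5]
    | 0, 5 => some [4]
    | 1, 2 => some [2, 4]
    | 1, 3 => some [3, 5]
    | _, _ => none

theorem UT34_ok : UT34.Ok := by decide

theorem M22T_ok : M22T.Ok := by decide

theorem W24_ok : W24.Ok := by decide

theorem W8_ok : W8.Ok := by decide

theorem G23_ok : G23.Ok := by decide

section

variable {n : ℕ} {P : Pres n} {S T : Type*} [Group S] [Group T]

theorem IsType.congr (e : S ≃* T) (h : IsType P S) : IsType P T := by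
  obtain ⟨h1, x, h2, h3⟩ := h
  refine ⟨by rw [← h1]; exact (Nat.card_congr e.toEquiv).symm, fun i => e (x i),
    h2.map e.toMonoidHom, ?_⟩
  have h4 : Set.range (fun i => e (x i)) = e.toMonoidHom '' Set.range x := by
    rw [← Set.range_comp]; rfl
  rw [h4, ← MonoidHom.map_closure, h3, ← MonoidHom.range_eq_map]
  exact MonoidHom.range_eq_top.2 e.surjective

theorem IsType.nonempty_equiv (hP : P.Ok) (h : IsType P S) (h' : IsType P T) : Nonempty (S ≃* T) := by
  obtain ⟨h1, x, h2, h3⟩ := h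
  obtain ⟨h1', y, h2', h3'⟩ := h'
  obtain ⟨f, -⟩ := exists_equiv hP h2 h2' (by rw [h3, card_top, h1]) (by rw [h3', card_top, h1'])
  exact ⟨(topEquiv.symm.trans (MulEquiv.subgroupCongr h3.symm)).trans
    (f.trans ((MulEquiv.subgroupCongr h3').trans topEquiv))⟩

/-- Identification with a Sylow 2-subgroup of `H`. -/
theorem IsType.exists_sylow (hP : P.Ok) (h : IsType P T) {H : Type*} [Group H] [Finite H]
    {y : Fin n → H} (hy : Sat P y) (hn : ∀ e : Fin n → Bool, nf y e = 1 → e = fun _ => false)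
    (hH : ¬ 2 ^ (n + 1) ∣ Nat.card H) : ∃ S : Sylow 2 H, Nonempty (T ≃* ↥(S : Subgroup H)) := by
  obtain ⟨h1, x, h2, h3⟩ := h
  exact Pc.exists_sylow hP h2 hy h3 h1 hn hH

/-- The type of a subgroup generated by a family. -/
theorem isType_of_closure {G : Type*} [Group G] {x : Fin n → G} (hx : Sat P x) (T : Subgroup G)
    (hT : closure (Set.range x) = T) (hc : Nat.card T = 2 ^ n) : IsType P T := by
  subst hT
  refine ⟨hc, fun i => ⟨x i, subset_closure ⟨i, rfl⟩⟩,
    Sat.of_injective (closure (Set.range x)).subtype (subtype_injective _) hx, ?_⟩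
  apply Subgroup.map_injective (subtype_injective (closure (Set.range x)))
  rw [MonoidHom.map_closure, ← Set.range_comp, ← MonoidHom.range_eq_map, range_subtype]
  rfl

/-- Build `Sat` for a presentation given by `cjOf`, all squares trivial or not. -/
theorem sat_of {x : Fin n → T} (h1 : ∀ i, x i * x i = word x (P.sq i))
    (h2 : ∀ i j, i < j → x i * x j = word x (P.cj i j) * x i) : Sat P x := ⟨h1, h2⟩

end

end Cfsg.Agent.GH.PcTypes
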