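import Cfsg.Agent.GH.L2GlueA

/-!
# GH-L2: the case split of the branch `l2`

`l2_of`: `GType G` from three leaves for ONE maximal 2-component `K` of `C(x)`, `K / O(K)` of type `L₂(q)` or `A₇`,
`T` a Sylow 2-subgroup of `C(x)`, `Q = T ∩ fix K`:
* leaf A (`m_2(Q) ≥ 2`): `L2GlueA.leafA`, up to (T4);
* leaf B (`m_2(Q) = 1`, `|Q| ≥ 4`);
* leaf C (`Q = ⟨x⟩`).
-/

set_option autoImplicit false
set_option linter.unusedSectionVars false

open Cfsg Subgroup
open Cfsg.Agent.SignalizersComponents Cfsg.Agent.Lib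
open Cfsg.Agent.SignalizersComponents.IntrinsicBasic
open Cfsg.Agent.Intrinsic.Basic Cfsg.Agent.Intrinsic.Cen
open Cfsg.Agent.GH.Defs Cfsg.Agent.GH.Comp
open Cfsg.Agent.GH.XSet Cfsg.Agent.GH.L2Tri Cfsg.Agent.GH.L2Pair Cfsg.Agent.GH.L2Quad
open Cfsg.Agent.GH.L2Frame (fix mem_fix)
open Cfsg.Agent.Walter.SylowIn

namespace Cfsg.Agent.GH.L2Main

variable {G : Type*} [Group G] [Finite G]

/-- S1173 for `G`. -/
def St1173 (G : Type*) [Group G] : Prop :=
  oddCore G = ⊥ → ∀ (S : Sylow 2 G) (T : Subgroup G),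
    IsStronglyClosed T (S : Subgroup G) →
    ((⨅ n : ℕ, derivedSeries ↥(centralizer (T : Set G)) n).map
      (centralizer (T : Set G)).subtype).Normal

/-- Leaf (T4) -/
def LeafT4 (G : Type*) [Group G] : Prop :=
  ∀ (X : Set G) (N : ℕ) (V L U : Subgroup G) (ρ : G), XSet X N → Quad X V L U ρ →
    T4 (V ⊔ U) V U ρ → ∃ S : Sylow 2 G, SType ↥(S : Subgroup G)

/-- Leaf B -/
def LeafB (G : Type*) [Group G] : Prop :=
  ∀ (x : G) (K T : Subgroup G), Comp2 x K → IsTop (STop K) → SylIn 2 T (centralizer ({x} : Set G)) →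
    (∀ q ∈ T ⊓ fix K, q * q = 1 → q = 1 ∨ q = x) → 4 ≤ Nat.card ↥(T ⊓ fix K) →
    ∃ S : Sylow 2 G, SType ↥(S : Subgroup G)

/-- Leaf C -/
def LeafC (G : Type*) [Group G] : Prop :=
  ∀ (x : G) (K T : Subgroup G), Comp2 x K → IsTop (STop K) → SylIn 2 T (centralizer ({x} : Set G)) →
    (∀ q ∈ T ⊓ fix K, q = 1 ∨ q = x) → ∃ S : Sylow 2 G, SType ↥(S : Subgroup G)

/-- **Leaf A**, `m_2(Q) ≥ 2` -/
theorem leafA (hG : Hyp G) (ho : AllOdd G) (h1173 : St1173 G) (h4 : LeafT4 G) {x : G}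
    {K : Subgroup G} (hK : L2FourOC.Max2 x K) (hT : IsTop (STop K))
    (ht : ∃ t, orderOf t = 2 ∧ t ≠ x ∧ Commute t x ∧ Fixes t K) :
    ∃ S : Sylow 2 G, SType ↥(S : Subgroup G) := by
  obtain ⟨hx, hD, -⟩ := TOne.sys_of_max hG ho hK hT ht
  have hTX : ∀ y ∈ TOne.richSet K, IsTop (STop (KK y)) := by
    intro y hy
    obtain ⟨e⟩ := TOne.stop_equiv hG ho hK hy.1
    exact L2GlueA.isTop_congr e hT
  obtain ⟨V, L, U, ρ, q, h2 | h2⟩ := L2GlueA.exists_t2_or_t4 hG h1173 hD hTX ⟨x, hx⟩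
  · obtain ⟨S, hS⟩ := L2GlueA.t2_type hG ho hD hTX ⟨x, hx⟩ q h2
    refine ⟨S, ?_⟩
    rcases hS with hS | hS
    · exact Or.inr (Or.inr (Or.inr (Or.inr (Or.inr (Or.inl hS)))))
    · exact Or.inr (Or.inr (Or.inr (Or.inr (Or.inr (Or.inr (Or.inl hS))))))
  · exact h4 _ _ V L U ρ hD.toXSet q h2

theorem mem_sylow_of_central {x : G} (hx : orderOf x = 2) {T : Subgroup G}
    (hT : SylIn 2 T (centralizer ({x} : Set G))) : x ∈ T := by
  have : Fact (Nat.Prime 2) := ⟨Nat.prime_two⟩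
  have h1 : IsPGroup 2 (zpowers x) := by
    apply IsPGroup.of_card (n := 1)
    rw [Nat.card_zpowers, hx, pow_one]
  have hxC : zpowers x ≤ centralizer ({x} : Set G) := by
    rw [zpowers_le, mem_centralizer_singleton_iff]
  obtain ⟨g, hg, h2⟩ := hT.conj_le hxC h1
  have h3 := h2 x (mem_zpowers x)
  have h4 : g * x * g⁻¹ = x := by
    rw [mul_inv_eq_iff_eq_mul]
    exact mem_centralizer_singleton_iff.mp hg
  rwa [h4] at h3

/-- **The branch `l2`** from the leaves. -/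
theorem l2_of (hG : Hyp G) (ho : AllOdd G) (h1173 : St1173 G) (h4 : LeafT4 G) (hB : LeafB G)
    (hC : LeafC G) (hall : ∀ (x : G) (K : Subgroup G), Comp2 x K → IsTop (STop K))
    (hex : ∃ (x : G) (K : Subgroup G), Comp2 x K) : GType G := by
  classical
  have : Fact (Nat.Prime 2) := ⟨Nat.prime_two⟩
  obtain ⟨x₀, K₀, hK₀⟩ := hex
  obtain ⟨x, K, hK⟩ := L2FourOC.exists_max2 hK₀
  have hT' := hall x K hK.comp2
  left
  obtain ⟨T, hT, -⟩ := exists_sylIn_ge (p := 2) (R := ⊥) (H := centralizer ({x} : Set G)) bot_le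
    IsPGroup.of_bot
  have hTx : ∀ t ∈ T, t * x = x * t := fun t ht => mem_centralizer_singleton_iff.mp (hT.le ht)
  by_cases h1 : ∀ q ∈ T ⊓ fix K, q * q = 1 → q = 1 ∨ q = x
  · by_cases h2 : 4 ≤ Nat.card ↥(T ⊓ fix K)
    · exact hB x K T hK.comp2 hT' hT h1 h2
    · refine hC x K T hK.comp2 hT' hT ?_
      have hxf : x ∈ T ⊓ fix K := by
        exact ⟨mem_sylow_of_central hK.comp2.inv hT, mem_fix.mpr
          (fixes_of_comm fun y hy => (mem_centralizer_singleton_iff.mp (hK.comp2.comp.le hy)).symm)⟩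
      have h3 : IsPGroup 2 ↥(T ⊓ fix K) := hT.isPGroup.to_le inf_le_left
      intro q hq
      apply h1 q hq
      obtain ⟨k, hk⟩ := IsPGroup.iff_card.mp h3
      have hk1 : k < 2 := by
        by_contra h5
        apply h2
        rw [hk]
        calc 4 = 2 ^ 2 := by norm_num
          _ ≤ 2 ^ k := Nat.pow_le_pow_right (by norm_num) (by omega)
      have h6 : Nat.card ↥(T ⊓ fix K) ∣ 2 := by
        rw [hk]
        calc 2 ^ k ∣ 2 ^ 1 := pow_dvd_pow 2 (by omega)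
          _ = 2 := pow_one 2
      have h7 : (⟨q, hq⟩ : ↥(T ⊓ fix K)) ^ 2 = 1 :=
        orderOf_dvd_iff_pow_eq_one.mp ((_root_.orderOf_dvd_natCard _).trans h6)
      rw [← pow_two]
      exact congrArg Subtype.val h7
  · push Not at h1
    obtain ⟨t, ht, htt, ht1, htx⟩ := h1
    refine leafA hG ho h1173 h4 hK hT' ⟨t, ?_, htx, hTx t ht.1, mem_fix.mp ht.2⟩
    exact orderOf_eq_prime (by rw [pow_two, htt]) ht1

end Cfsg.Agent.GH.L2Main
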