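import Cfsg.Agent.GH.LemmaS

/-!
# GH-L2: the subgroup `Q` (helper153 #5286 (0), (1), (2))

`X` an `XSet` of involutions.  `LG X Q L`: `Q ≠ 1` is a 2-group all whose involutions are in `X`, `L` is a
2-component of `C(Q)` (hence the only one) covering `KK u / O(KK u)` for all involutions `u` of `Q`.
`LGM X Q L`: moreover `|Q|` is maximal.

* `LG.conj`, `LG.unique`, `LG.le_normalizer`, `LG.mono`, `LG.disjoint`, `exists_lgm`;
* `LGM.le_of_fixes`: a 2-group `A ≤ N(Q)` fixing `L` is in `Q`;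
* `LGM.ti` (0): `A ≤ Q'`, `LG X Q' L'`, `A ≤ N(Q)`, `A ∩ Q ≠ 1` imply `A ≤ Q`;
* `caseOne`, `LGM.caseOne_conj` (1): if `Q` is not normal in `S`: `s ∈ N_S(N_S(Q)) - N(Q)`, `Q ∩ Q^s = 1`, `[Q, Q^s] = 1`;
* `LGM.exists_outside` (2): if `Q` is normal in the Sylow group `S`, `x ∈ Q ∩ Z(S)` an involution: some
  conjugate of `x` is in `S - Q`.
-/

set_option autoImplicit false

open Cfsg Subgroup
open Cfsg.Agent.SignalizersComponents Cfsg.Agent.Lib
open Cfsg.Agent.SignalizersComponents.IntrinsicBasic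
open Cfsg.Agent.Intrinsic.Basic Cfsg.Agent.Intrinsic.Cen
open Cfsg.Agent.GH.Defs Cfsg.Agent.GH.XSet
open Cfsg.Agent.GH.LemmaS (cj_sup cj_centralizer_sub)
open scoped commutatorElement

namespace Cfsg.Agent.GH.L2Q

variable {G : Type*} [Group G]

/-- Central involutions of normal subgroups of 2-groups. -/
theorem exists_central [Finite G] {P R : Subgroup G} (hP : IsPGroup 2 P) (hRP : R ≤ P)
    (hN : P ≤ normalizer (R : Set G)) (hne : R ≠ ⊥) :
    ∃ u ∈ R, orderOf u = 2 ∧ ∀ s ∈ P, Commute s u := by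
  have : Fact (Nat.Prime 2) := ⟨Nat.prime_two⟩
  have h1 : (R.subgroupOf P).Normal := normal_subgroupOf_of_le_normalizer hN
  have h2 : R.subgroupOf P ≠ ⊥ := by
    intro h3
    apply hne
    rw [eq_bot_iff]
    intro y hy
    have h4 : (⟨y, hRP hy⟩ : P) ∈ R.subgroupOf P := hy
    rw [h3, mem_bot] at h4
    exact mem_bot.2 (congrArg Subtype.val h4)
  obtain ⟨z, hz, hzc, hz2⟩ := Transfer.PGroupNormal.exists_mem_inf_center_orderOf hP
    (R.subgroupOf P) h2
  refine ⟨z, hz, ?_, fun s hs => ?_⟩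
  · rw [← hz2]
    exact Subgroup.orderOf_coe z
  · exact congrArg Subtype.val (mem_center_iff.mp hzc ⟨s, hs⟩)

/-- Involutions of nontrivial 2-groups. -/
theorem exists_inv [Finite G] {R : Subgroup G} (hR : IsPGroup 2 R) (hne : R ≠ ⊥) :
    ∃ u ∈ R, orderOf u = 2 ∧ ∀ s ∈ R, Commute s u :=
  exists_central hR le_rfl Subgroup.le_normalizer hne

/-- `L` is a 2-component of `C(Q)` covering `KK u / O(KK u)` for all involutions `u` of the
2-group `Q ≠ 1`, which are all in `X`. -/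
structure LG (X : Set G) (Q L : Subgroup G) : Prop where
  pg : IsPGroup 2 Q
  ne : Q ≠ ⊥
  comp : IsComp (centralizer (Q : Set G)) L
  mem : ∀ u ∈ Q, orderOf u = 2 → u ∈ X
  cov : ∀ u ∈ Q, orderOf u = 2 → L ⊔ core (KK u) = KK u

/-- Moreover `|Q|` is maximal. -/
structure LGM (X : Set G) (Q L : Subgroup G) : Prop extends LG X Q L where
  max : ∀ Q' L' : Subgroup G, LG X Q' L' → Nat.card Q' ≤ Nat.card Q

variable {X : Set G} {Q L : Subgroup G}

theorem LG.commute (hL : LG X Q L) {w l : G} (hw : w ∈ Q) (hl : l ∈ L) : Commute w l :=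
  mem_centralizer_iff.mp (hL.comp.le hl) w hw

theorem LG.fixes_of_mem (hL : LG X Q L) {w : G} (hw : w ∈ Q) : Fixes w L :=
  fixes_of_comm fun _ hk => hL.commute hw hk

theorem LG.le_KK (hL : LG X Q L) {u : G} (hu : u ∈ Q) (hu2 : orderOf u = 2) : L ≤ KK u := by
  rw [← hL.cov u hu hu2]
  exact le_sup_left

theorem LG.ne_bot (hL : LG X Q L) [Finite G] : L ≠ ⊥ := hL.comp.ne_bot

section finite

variable [Finite G] {N : ℕ}

theorem LG.fixes_iff (h : XBase X) (hL : LG X Q L) {y g : G} (hy : y ∈ Q) (hy2 : orderOf y = 2)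
    (hg : g ∈ normalizer (L : Set G)) (hgy : Commute g y) : Fixes g L ↔ Fixes g (KK y) :=
  fixes_iff_of_sup (hL.cov y hy hy2) hg (h.mem_normalizer (hL.mem y hy hy2) hgy)

/-- `y ∈ Q` an involution, `w ∈ C_Q(y)`: `w` fixes `KK y`. -/
theorem LG.fixes_KK (h : XBase X) (hL : LG X Q L) {y w : G} (hy : y ∈ Q) (hy2 : orderOf y = 2)
    (hw : w ∈ Q) (hwy : Commute w y) : Fixes w (KK y) :=
  (hL.fixes_iff h hy hy2 (hL.fixes_of_mem hw).1 hwy).mp (hL.fixes_of_mem hw)

/-- `L` is the only 2-component of `C(Q)`. -/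
theorem LG.unique (h : XBase X) (hL : LG X Q L) {M : Subgroup G}
    (hM : IsComp (centralizer (Q : Set G)) M) : M = L := by
  obtain ⟨y, hy, hy2, hc⟩ := exists_inv hL.pg hL.ne
  have hf : ∀ w ∈ Q, Fixes w (KK y) := fun w hw => hL.fixes_KK h hy hy2 hw (hc w hw)
  rw [h.eq_cenW (hL.mem y hy hy2) hL.pg hy hc hf hM,
    h.eq_cenW (hL.mem y hy hy2) hL.pg hy hc hf hL.comp]

theorem LG.conj (h : XBase X) (hL : LG X Q L) (g : G) : LG X (cj g Q) (cj g L) := by
  refine ⟨hL.pg.map _, ?_, ?_, ?_, ?_⟩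
  · intro h1
    apply hL.ne
    rw [← cj_inv_cj g Q, h1, cj_def, Subgroup.map_bot]
  · rw [← cj_centralizer_sub]
    exact hL.comp.cj g
  · intro u hu hu2
    have h1 := mem_cj.mp hu
    have h2 : orderOf (g⁻¹ * u * g) = 2 := by
      have e : orderOf (MulAut.conj g⁻¹ u) = orderOf u :=
        orderOf_injective (MulAut.conj g⁻¹).toMonoidHom (MulAut.conj g⁻¹).injective u
      rw [MulAut.conj_apply, inv_inv] at e
      rw [e, hu2]
    have h3 := h.conj _ (hL.mem _ h1 h2) g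
    have h4 : g * (g⁻¹ * u * g) * g⁻¹ = u := by group
    rwa [h4] at h3
  · intro u hu hu2
    have h1 := mem_cj.mp hu
    have h2 : orderOf (g⁻¹ * u * g) = 2 := by
      have e : orderOf (MulAut.conj g⁻¹ u) = orderOf u :=
        orderOf_injective (MulAut.conj g⁻¹).toMonoidHom (MulAut.conj g⁻¹).injective u
      rw [MulAut.conj_apply, inv_inv] at e
      rw [e, hu2]
    have h3 := hL.cov _ h1 h2
    have h4 : g * (g⁻¹ * u * g) * g⁻¹ = u := by group
    have h5 := h.cj_KK (hL.mem _ h1 h2) g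
    rw [h4] at h5
    rw [← h5, core_cj, ← cj_sup, h3]

theorem LG.le_normalizer (h : XBase X) (hL : LG X Q L) :
    normalizer (Q : Set G) ≤ normalizer (L : Set G) := by
  intro g hg
  rw [mem_normalizer_iff_cj]
  have h1 := (hL.conj h g).comp
  rw [mem_normalizer_iff_cj.mp hg] at h1
  exact hL.unique h h1

/-- Construction of `LG` pairs. -/
theorem lg_of_central (h : XSet X N) {Q : Subgroup G} (hQ : IsPGroup 2 Q) {y : G} (hy : y ∈ X)
    (hyQ : y ∈ Q) (hc : ∀ w ∈ Q, Commute w y) (hf : ∀ w ∈ Q, Fixes w (KK y)) :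
    LG X Q (cenW (KK y) Q) := by
  have hmem : ∀ u ∈ Q, orderOf u = 2 → u ∈ X := fun u hu hu2 =>
    h.closed y hy u hu2 (hc u hu) (hf u hu)
  refine ⟨hQ, ?_, (h.toXBase.isComp_cenW hy hQ hyQ hf).1, hmem, ?_⟩
  · intro h1
    rw [h1, mem_bot] at hyQ
    exact h.toXBase.ne_one hy hyQ
  · intro u hu hu2
    exact h.toXBase.cenW_sup hy hQ hf (hmem u hu hu2) hu (hc u hu).symm
      (h.fixes_symm hy (hmem u hu hu2) (hc u hu).symm (hf u hu))

/-- Subgroups. -/
theorem LG.mono (h : XSet X N) (hL : LG X Q L) {R : Subgroup G} (hRQ : R ≤ Q) (hR : R ≠ ⊥) :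
    ∃ L', LG X R L' ∧ L ≤ L' ∧ L ⊔ core L' = L' := by
  have hp := hL.pg.to_le hRQ
  obtain ⟨y, hy, hy2, hc⟩ := exists_inv hp hR
  have hyX := hL.mem y (hRQ hy) hy2
  have hf : ∀ w ∈ R, Fixes w (KK y) := fun w hw =>
    hL.fixes_KK h.toXBase (hRQ hy) hy2 (hRQ hw) (hc w hw)
  refine ⟨_, lg_of_central h hp hyX hy hc hf, ?_⟩
  have h1 : L ≤ cenW (KK y) R := by
    have h2 : L ≤ KK y ⊓ centralizer (R : Set G) :=
      le_inf (hL.le_KK (hRQ hy) hy2) (hL.comp.le.trans (Subgroup.centralizer_le hRQ))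
    rw [← hL.comp.pElem_eq]
    exact PComponents.pElem_mono h2
  exact ⟨h1, sup_mid h1 (hL.cov y (hRQ hy) hy2) (h.toXBase.isComp_cenW hyX hp hy hf).2⟩

/-- Existence. -/
theorem exists_lg (h : XSet X N) {x : G} (hx : x ∈ X) :
    LG X (zpowers x) (cenW (KK x) (zpowers x)) := by
  have hxp : IsPGroup 2 (zpowers x) := by
    apply IsPGroup.of_card (n := 1)
    rw [Nat.card_zpowers, h.inv x hx, pow_one]
  refine lg_of_central h hxp hx (mem_zpowers x) ?_ ?_
  · rintro _ ⟨n, rfl⟩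
    exact (Commute.refl x).zpow_left n
  · intro w hw
    have h1 : zpowers x ≤ fixer (KK x) := by
      rw [zpowers_le]
      exact h.toXBase.fixes_self hx
    exact h1 hw

theorem exists_lgm (h : XSet X N) (hne : X.Nonempty) : ∃ Q L : Subgroup G, LGM X Q L := by
  obtain ⟨x, hx⟩ := hne
  obtain ⟨⟨Q, L⟩, hQ, hmax⟩ := Set.exists_max_image
    {p : Subgroup G × Subgroup G | LG X p.1 p.2} (fun p => Nat.card p.1) (Set.toFinite _)
    ⟨(zpowers x, cenW (KK x) (zpowers x)), exists_lg h hx⟩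
  exact ⟨Q, L, hQ, fun Q' L' h' => hmax (Q', L') h'⟩

/-- `|Q|` is at least the order of every 2-group `R ∋ x` centralizing `x ∈ X` and fixing `KK x`. -/
theorem LGM.card_le (h : XSet X N) (hM : LGM X Q L) {R : Subgroup G} (hR : IsPGroup 2 R) {y : G}
    (hy : y ∈ X) (hyR : y ∈ R) (hc : ∀ w ∈ R, Commute w y) (hf : ∀ w ∈ R, Fixes w (KK y)) :
    Nat.card R ≤ Nat.card Q :=
  hM.max _ _ (lg_of_central h hR hy hyR hc hf)

theorem LGM.conj (h : XBase X) (hM : LGM X Q L) (g : G) : LGM X (cj g Q) (cj g L) := by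
  refine ⟨hM.toLG.conj h g, fun Q' L' h' => ?_⟩
  have h1 : Nat.card (cj g Q) = Nat.card Q := card_map_of_injective (MulAut.conj g).injective
  rw [h1]
  exact hM.max Q' L' h'

/-- A 2-group `A ≤ N(Q)` fixing `L` is in `Q`. -/
theorem LGM.le_of_fixes (h : XSet X N) (hM : LGM X Q L) {A : Subgroup G} (hA : IsPGroup 2 A)
    (hAN : A ≤ normalizer (Q : Set G)) (hf : ∀ a ∈ A, Fixes a L) : A ≤ Q := by
  obtain ⟨P, hP⟩ : ∃ P, P = A ⊔ Q := ⟨_, rfl⟩
  have hPp : IsPGroup 2 P := hP ▸ hA.to_sup_of_normal_right' hM.pg hAN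
  have hPN : P ≤ normalizer (Q : Set G) := hP ▸ sup_le hAN Subgroup.le_normalizer
  have hQP : Q ≤ P := hP ▸ le_sup_right
  have hPf : P ≤ fixer L := hP ▸ sup_le (fun a ha => hf a ha) fun a ha => hM.fixes_of_mem ha
  obtain ⟨y, hy, hy2, hc⟩ := exists_central hPp hQP hPN hM.ne
  have h1 : ∀ w ∈ P, Fixes w (KK y) := fun w hw =>
    (hM.fixes_iff h.toXBase hy hy2 (hM.le_normalizer h.toXBase (hPN hw)) (hc w hw)).mp (hPf hw)
  have h2 := hM.card_le h hPp (hM.mem y hy hy2) (hQP hy) hc h1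
  have h3 : Q = P := eq_of_le_of_card_ge hQP h2
  rw [h3, hP]
  exact le_sup_left

theorem LGM.inf_fixer (h : XSet X N) (hM : LGM X Q L) {P : Subgroup G} (hP : IsPGroup 2 P)
    (hQP : Q ≤ P) (hPN : P ≤ normalizer (Q : Set G)) : P ⊓ fixer L = Q :=
  le_antisymm (hM.le_of_fixes h (hP.to_le inf_le_left) (inf_le_left.trans hPN)
    fun _ ha => ha.2) (le_inf hQP fun _ ha => hM.fixes_of_mem ha)

/-- **(0)** TI. -/
theorem LGM.ti (h : XSet X N) (hM : LGM X Q L) {Q' L' A : Subgroup G} (hL' : LG X Q' L')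
    (hAQ' : A ≤ Q') (hAN : A ≤ normalizer (Q : Set G)) (hne : A ⊓ Q ≠ ⊥) : A ≤ Q := by
  have hA : IsPGroup 2 A := hL'.pg.to_le hAQ'
  have key : ∀ y ∈ A, y ∈ Q → orderOf y = 2 → A ⊓ centralizer ({y} : Set G) ≤ Q := by
    intro y hyA hyQ hy2
    refine hM.le_of_fixes h (hA.to_le inf_le_left) (inf_le_left.trans hAN) ?_
    rintro b ⟨hb, hby⟩
    have hby' : Commute b y := mem_centralizer_singleton_iff.mp hby
    have h1 : Fixes b (KK y) := hL'.fixes_KK h.toXBase (hAQ' hyA) hy2 (hAQ' hb) hby'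
    exact (hM.fixes_iff h.toXBase hyQ hy2 (hM.le_normalizer h.toXBase (hAN hb)) hby').mpr h1
  obtain ⟨y, hy, hy2, -⟩ := exists_inv (hA.to_le inf_le_left) hne
  have hAne : A ≠ ⊥ := by
    rintro rfl
    exact hne (bot_inf_eq _)
  obtain ⟨z, hz, hz2, hzc⟩ := exists_inv hA hAne
  have hzQ : z ∈ Q := key y hy.1 hy.2 hy2 ⟨hz, mem_centralizer_singleton_iff.mpr (hzc y hy.1).symm⟩
  exact fun a ha => key z hz hzQ hz2 ⟨ha, mem_centralizer_singleton_iff.mpr (hzc a ha)⟩

/-- **(0)** for conjugates of `Q`. -/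
theorem LGM.ti_conj (h : XSet X N) (hM : LGM X Q L) {g : G}
    (hN : cj g Q ≤ normalizer (Q : Set G)) (hne : cj g Q ⊓ Q ≠ ⊥) : cj g Q = Q := by
  have h1 := hM.ti h (hM.toLG.conj h.toXBase g) le_rfl hN hne
  refine eq_of_le_of_card_ge h1 ?_
  exact (card_map_of_injective (MulAut.conj g).injective).ge

/-- `Q ∩ L = 1` -/
theorem LG.disjoint (h : XBase X) (ho : ∀ y ∈ X, ¬ EvenCenter (KK y)) (hL : LG X Q L) :
    Q ⊓ L = ⊥ := by
  by_contra hne
  obtain ⟨y, hy, hy2, -⟩ := exists_inv (hL.pg.to_le inf_le_left) hne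
  have hyX := hL.mem y hy.1 hy2
  have hyK : y ∈ KK y := hL.le_KK hy.1 hy2 hy.2
  apply ho y hyX
  have h1 : (QuotientGroup.mk' (oddCore ↥(KK y))) ⟨y, hyK⟩ ∈ center (Bar (KK y)) := by
    rw [mem_center_iff]
    intro b
    obtain ⟨b, rfl⟩ := QuotientGroup.mk'_surjective _ b
    rw [← map_mul, ← map_mul]
    congr 1
    exact Subtype.ext (h.comm_of_mem hyX b.2).eq
  have h2 : orderOf ((QuotientGroup.mk' (oddCore ↥(KK y))) ⟨y, hyK⟩) = 2 := by
    have h3 : Fact (Nat.Prime 2) := ⟨Nat.prime_two⟩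
    apply orderOf_eq_prime
    · rw [← map_pow]
      have h4 : (⟨y, hyK⟩ : KK y) ^ 2 = 1 := by
        apply Subtype.ext
        change y ^ 2 = 1
        rw [← hy2, pow_orderOf_eq_one]
      rw [h4, map_one]
    · intro h4
      have h5 := (QuotientGroup.eq_one_iff _).mp h4
      have h6 : y ∈ core (KK y) := (mem_core_iff hyK).mpr h5
      exact h.ne_one hyX (eq_one_of_mem_core_sq h6 (h.sq hyX))
  rw [EvenCenter, even_iff_two_dvd, ← h2]
  have h3 : orderOf (⟨_, h1⟩ : center (Bar (KK y))) =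
      orderOf ((QuotientGroup.mk' (oddCore ↥(KK y))) ⟨y, hyK⟩) :=
    (Subgroup.orderOf_coe (⟨_, h1⟩ : center (Bar (KK y)))).symm
  rw [← h3]
  exact orderOf_dvd_natCard _

/-- **(1)** Case I: `Q` is not normal in `S`. -/
theorem caseOne {S : Subgroup G} (hS : IsPGroup 2 S) (hSN : ¬ S ≤ normalizer (Q : Set G)) :
    ∃ s ∈ S, s ∈ normalizer ((S ⊓ normalizer (Q : Set G) : Subgroup G) : Set G) ∧
      s ∉ normalizer (Q : Set G) := by
  have : Fact (Nat.Prime 2) := ⟨Nat.prime_two⟩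
  have h1 : S ⊓ normalizer (Q : Set G) < S := by
    refine lt_of_le_of_ne inf_le_left fun h1 => hSN ?_
    rw [← h1]
    exact inf_le_right
  have h2 := SmallSimple.SylowMaxInter.lt_inf_normalizer hS h1
  obtain ⟨s, hs, hs'⟩ := SetLike.exists_of_lt h2
  exact ⟨s, hs.1, hs.2, fun h3 => hs' ⟨hs.1, h3⟩⟩

theorem LGM.caseOne_conj (h : XSet X N) (hM : LGM X Q L) {S : Subgroup G}
    (hQS : Q ≤ S) {s : G}
    (hs : s ∈ normalizer ((S ⊓ normalizer (Q : Set G) : Subgroup G) : Set G))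
    (hs' : s ∉ normalizer (Q : Set G)) :
    cj s Q ≤ S ⊓ normalizer (Q : Set G) ∧ S ⊓ normalizer (Q : Set G) ≤ normalizer (cj s Q : Set G) ∧
      Q ⊓ cj s Q = ⊥ ∧ ∀ a ∈ Q, ∀ b ∈ cj s Q, Commute a b := by
  obtain ⟨P, hP⟩ : ∃ P, P = S ⊓ normalizer (Q : Set G) := ⟨_, rfl⟩
  rw [← hP] at hs ⊢
  have hQP : Q ≤ P := hP ▸ le_inf hQS Subgroup.le_normalizer
  have hPN : P ≤ normalizer (Q : Set G) := hP ▸ inf_le_right
  have hsP := mem_normalizer_iff_cj.mp hs
  have h1 : cj s Q ≤ P := by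
    rw [← hsP]
    exact cj_mono hQP
  have h2 : P ≤ normalizer (cj s Q : Set G) := by
    intro p hp
    rw [← hsP] at hp
    have h3 := hPN (mem_cj.mp hp)
    rw [mem_normalizer_iff_cj] at h3 ⊢
    have h4 : cj p (cj s Q) = cj s (cj (s⁻¹ * p * s) Q) := by
      rw [← cj_mul, ← cj_mul]
      congr 1
      group
    rw [h4, h3]
  have h3 : Q ⊓ cj s Q = ⊥ := by
    by_contra hne
    rw [inf_comm] at hne
    have h4 := hM.ti_conj h (h1.trans hPN) hne
    exact hs' (mem_normalizer_iff_cj.mpr h4)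
  refine ⟨h1, h2, h3, fun a ha b hb => ?_⟩
  have h4 : ⁅a, b⁆ ∈ Q ⊓ cj s Q := by
    constructor
    · have e : ⁅a, b⁆ = a * (b * a⁻¹ * b⁻¹) := by rw [commutatorElement_def]; group
      rw [e]
      exact Q.mul_mem ha ((mem_normalizer_iff.mp (hPN (h1 hb)) _).mp (Q.inv_mem ha))
    · rw [commutatorElement_def]
      exact (cj s Q).mul_mem ((mem_normalizer_iff.mp (h2 (hQP ha)) _).mp hb) ((cj s Q).inv_mem hb)
  rw [h3, mem_bot] at h4
  exact commutatorElement_eq_one_iff_commute.mp h4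

/-- `Q` is not strongly closed in a Sylow 2-subgroup. -/
theorem LG.false_of_closed [IsSimpleGroup G] (hna : ∃ a b : G, a * b ≠ b * a)
    (h1173 : oddCore G = ⊥ → ∀ (S : Sylow 2 G) (T : Subgroup G),
      IsStronglyClosed T (S : Subgroup G) →
      ((⨅ n : ℕ, derivedSeries ↥(centralizer (T : Set G)) n).map
        (centralizer (T : Set G)).subtype).Normal)
    (hL : LG X Q L) (S : Sylow 2 G) (hcl : IsStronglyClosed Q (S : Subgroup G)) : False := by
  have hp2 : Fact (Nat.Prime 2) := ⟨Nat.prime_two⟩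
  obtain ⟨x, hx, hx2, -⟩ := exists_inv hL.pg hL.ne
  have hxx : x * x = 1 := by rw [← pow_two, ← hx2, pow_orderOf_eq_one]
  have hx1 : x ≠ 1 := by
    rintro rfl
    simp at hx2
  -- odd core
  have hO : oddCore G = ⊥ := by
    rcases (inferInstance : (oddCore G).Normal).eq_bot_or_eq_top with h1 | h1
    · exact h1
    · exfalso
      have h2 : core (⊤ : Subgroup G) = ⊤ := by
        rw [eq_top_iff]
        intro g _
        rw [mem_core_iff (mem_top g)]
        have h3 := Cores.map_equiv_pPrimeCore (Subgroup.topEquiv (G := G)).symm 2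
        have h4 : (⟨g, mem_top g⟩ : (⊤ : Subgroup G)) ∈ (pPrimeCore 2 G).map
            (Subgroup.topEquiv (G := G)).symm.toMonoidHom := by
          refine ⟨g, ?_, rfl⟩
          have h5 : oddCore G = pPrimeCore 2 G := rfl
          rw [← h5, h1]
          exact mem_top g
        rw [h3] at h4
        exact h4
      have h3 : x ∈ core (⊤ : Subgroup G) := by rw [h2]; exact mem_top x
      exact hx1 (eq_one_of_mem_core_sq h3 hxx)
  have hnorm := h1173 hO S Q hcl
  rw [TwoFusion.CentResidual.map_iInf_derivedSeries] at hnorm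
  have hle : L ≤ TwoFusion.CentResidual.PR (centralizer (Q : Set G)) :=
    TwoFusion.CentResidual.le_PR hL.comp.le (le_of_eq hL.comp.perfect.symm)
  rcases hnorm.eq_bot_or_eq_top with h3 | h3
  · rw [h3, le_bot_iff] at hle
    exact hL.comp.ne_bot hle
  · have h4 : centralizer (Q : Set G) = ⊤ := by
      rw [eq_top_iff, ← h3]
      exact TwoFusion.CentResidual.PR_le _
    have h5 : x ∈ center G := by
      rw [mem_center_iff]
      intro g
      have h6 : g ∈ centralizer (Q : Set G) := by rw [h4]; exact mem_top g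
      exact (mem_centralizer_iff.mp h6 x hx).symm
    rcases (inferInstance : (center G).Normal).eq_bot_or_eq_top with h6 | h6
    · rw [h6, mem_bot] at h5
      exact hx1 h5
    · obtain ⟨a, b, hab⟩ := hna
      apply hab
      have h7 : b ∈ center G := by rw [h6]; exact mem_top b
      exact mem_center_iff.mp h7 a

omit [Finite G] in
/-- `Q` is contained in the Sylow subgroups normalizing it. -/
theorem LG.le_sylow (hL : LG X Q L) (S : Sylow 2 G)
    (hSN : (S : Subgroup G) ≤ normalizer (Q : Set G)) : Q ≤ S := by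
  have h1 : IsPGroup 2 ((S : Subgroup G) ⊔ Q : Subgroup G) :=
    S.2.to_sup_of_normal_right' hL.pg hSN
  have h2 := S.3 h1 le_sup_left
  rw [← h2]
  exact le_sup_right

/-- A 2-group in `C(u)` is conjugate in `C(u)` into a given Sylow 2-subgroup of `C(u)`. -/
theorem exists_sylow_cen {u : G} {A : Subgroup G} (hA : IsPGroup 2 A)
    (hAu : A ≤ centralizer ({u} : Set G)) :
    ∃ R : Subgroup G, IsPGroup 2 R ∧ A ≤ R ∧ R ≤ centralizer ({u} : Set G) ∧
      ∀ B : Subgroup G, IsPGroup 2 B → B ≤ centralizer ({u} : Set G) →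
        ∃ c ∈ centralizer ({u} : Set G), cj c B ≤ R := by
  have hp2 : Fact (Nat.Prime 2) := ⟨Nat.prime_two⟩
  obtain ⟨C, hC⟩ : ∃ C, C = centralizer ({u} : Set G) := ⟨_, rfl⟩
  rw [← hC] at hAu ⊢
  have hA' : IsPGroup 2 (A.subgroupOf C) := hA.comap_of_injective _ C.subtype_injective
  obtain ⟨R, hR⟩ := hA'.exists_le_sylow
  refine ⟨(R : Subgroup C).map C.subtype, R.2.map _, ?_, map_subtype_le _, ?_⟩
  · intro a ha
    exact ⟨⟨a, hAu ha⟩, hR (mem_subgroupOf.mpr ha), rfl⟩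
  · intro B hB hBC
    have hB' : IsPGroup 2 (B.subgroupOf C) := hB.comap_of_injective _ C.subtype_injective
    obtain ⟨T, hT⟩ := hB'.exists_le_sylow
    obtain ⟨c, hc⟩ := MulAction.exists_smul_eq C T R
    refine ⟨c, c.2, ?_⟩
    intro b hb
    have h1 := mem_cj.mp hb
    have hbC : b ∈ C := by
      have h2 : b = (c : G) * ((c : G)⁻¹ * b * c) * (c : G)⁻¹ := by group
      rw [h2]
      exact C.mul_mem (C.mul_mem c.2 (hBC h1)) (C.inv_mem c.2)
    refine ⟨⟨b, hbC⟩, ?_, rfl⟩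
    have h3 : (⟨(c : G)⁻¹ * b * c, hBC h1⟩ : C) ∈ (T : Subgroup C) := hT h1
    rw [← hc]
    change _ ∈ ((c • T : Sylow 2 C) : Subgroup C)
    rw [Sylow.coe_subgroup_smul, Subgroup.mem_pointwise_smul_iff_inv_smul_mem]
    convert h3 using 1
    rw [← map_inv, MulAut.smul_def, MulAut.conj_apply]
    apply Subtype.ext
    simp

/-- **(2)** Case II: `Q` normal in the Sylow 2-subgroup `S`, `x ∈ Q ∩ Z(S)`: some conjugate of `x` is in
`S - Q`. -/
theorem LGM.exists_outside [IsSimpleGroup G] (hna : ∃ a b : G, a * b ≠ b * a)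
    (h1173 : oddCore G = ⊥ → ∀ (S : Sylow 2 G) (T : Subgroup G),
      IsStronglyClosed T (S : Subgroup G) →
      ((⨅ n : ℕ, derivedSeries ↥(centralizer (T : Set G)) n).map
        (centralizer (T : Set G)).subtype).Normal)
    (h : XSet X N) (hM : LGM X Q L) (S : Sylow 2 G)
    (hSN : (S : Subgroup G) ≤ normalizer (Q : Set G)) {x : G} (hx : x ∈ Q) (hx1 : x ≠ 1)
    (hxZ : ∀ s ∈ (S : Subgroup G), Commute s x) :
    ∃ g : G, g * x * g⁻¹ ∈ (S : Subgroup G) ∧ g * x * g⁻¹ ∉ Q := by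
  have hp2 : Fact (Nat.Prime 2) := ⟨Nat.prime_two⟩
  by_contra hcon
  have hH : ∀ g : G, g * x * g⁻¹ ∈ (S : Subgroup G) → g * x * g⁻¹ ∈ Q := by
    intro g hg
    by_contra hno
    exact hcon ⟨g, hg, hno⟩
  have hQS := hM.le_sylow S hSN
  have hcj1 : ∀ g : G, g * x * g⁻¹ ≠ 1 := by
    intro g hg
    apply hx1
    have e : x = g⁻¹ * (g * x * g⁻¹) * g := by group
    rw [e, hg]; group
  -- TI for two elements
  have hti : ∀ (g a b : G), g⁻¹ * a * g ∈ Q → g⁻¹ * b * g ∈ Q → a ∈ (S : Subgroup G) →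
      b ∈ (S : Subgroup G) → a ∈ Q → a ≠ 1 → b ∈ Q := by
    intro g a b ha hb haS hbS haQ ha1
    have h1 := hM.ti h (hM.toLG.conj h.toXBase g) (A := closure {a, b}) ?_ ?_ ?_
    · exact h1 (subset_closure (by simp))
    · rw [closure_le]
      rintro c (rfl | rfl)
      · exact mem_cj.mpr ha
      · exact mem_cj.mpr hb
    · refine le_trans ?_ hSN
      rw [closure_le]
      rintro c (rfl | rfl)
      · exact haS
      · exact hbS
    · intro h2
      have h3 : a ∈ closure {a, b} ⊓ Q := ⟨subset_closure (by simp), haQ⟩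
      rw [h2, mem_bot] at h3
      exact ha1 h3
  refine hM.toLG.false_of_closed hna h1173 S ⟨hQS, ?_⟩
  intro y hy g hgS
  obtain ⟨u, hu⟩ : ∃ u, u = g * y * g⁻¹ := ⟨_, rfl⟩
  rw [← hu] at hgS ⊢
  -- a Sylow 2-subgroup `R` of `C(u)` containing `C_S(u)`
  obtain ⟨R, hR, hSR, hRu, hconj⟩ := exists_sylow_cen (u := u)
    (A := (S : Subgroup G) ⊓ centralizer ({u} : Set G)) (S.2.to_le inf_le_left) inf_le_right
  obtain ⟨T, hT⟩ := hR.exists_le_sylow
  obtain ⟨k, hk⟩ := MulAction.exists_smul_eq G T S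
  have hkR : ∀ r ∈ R, k * r * k⁻¹ ∈ (S : Subgroup G) := by
    intro r hr
    have h1 : r ∈ (T : Subgroup G) := hT hr
    rw [← hk]
    change _ ∈ ((k • T : Sylow 2 G) : Subgroup G)
    rw [Sylow.coe_subgroup_smul]
    exact Subgroup.smul_mem_pointwise_smul r (MulAut.conj k) _ h1
  have huR : u ∈ R := hSR ⟨hgS, mem_centralizer_singleton_iff.mpr rfl⟩
  have hxR : x ∈ R := hSR ⟨hQS hx, mem_centralizer_singleton_iff.mpr (hxZ u hgS).symm⟩
  -- the element `c`
  have hxo : IsPGroup 2 (zpowers (g * x * g⁻¹)) := by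
    have h1 : IsPGroup 2 (zpowers x) := hM.pg.to_le (by rwa [zpowers_le])
    have h2 : zpowers (g * x * g⁻¹) = (zpowers x).map (MulAut.conj g).toMonoidHom := by
      rw [MonoidHom.map_zpowers]
      rfl
    rw [h2]
    exact h1.map _
  have hxu : Commute (g * x * g⁻¹) u := by
    rw [hu]
    have h1 : Commute x y := (hxZ y (hQS hy)).symm
    exact h1.map (MulAut.conj g).toMonoidHom
  obtain ⟨c, hc, hcR⟩ := hconj (zpowers (g * x * g⁻¹)) hxo (by
    rw [zpowers_le]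
    exact mem_centralizer_singleton_iff.mpr hxu)
  have hcu : Commute c u := mem_centralizer_singleton_iff.mp hc
  have hcx : c * (g * x * g⁻¹) * c⁻¹ ∈ R := by
    apply hcR
    exact conj_mem_cj (mem_zpowers _)
  -- `h = k c g`
  have e1 : k * (c * (g * x * g⁻¹) * c⁻¹) * k⁻¹ = (k * c * g) * x * (k * c * g)⁻¹ := by group
  have e2 : k * u * k⁻¹ = (k * c * g) * y * (k * c * g)⁻¹ := by
    have h1 : c * u * c⁻¹ = u := by rw [hcu.eq]; group
    calc k * u * k⁻¹ = k * (c * u * c⁻¹) * k⁻¹ := by rw [h1]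
      _ = (k * c * g) * y * (k * c * g)⁻¹ := by rw [hu]; group
  have h1 : (k * c * g) * x * (k * c * g)⁻¹ ∈ (S : Subgroup G) := e1 ▸ hkR _ hcx
  have h2 : k * u * k⁻¹ ∈ (S : Subgroup G) := hkR _ huR
  have h3 : k * u * k⁻¹ ∈ Q := by
    refine hti (k * c * g) _ _ ?_ ?_ h1 h2 (hH _ h1) (hcj1 _)
    · have e : (k * c * g)⁻¹ * (k * c * g * x * (k * c * g)⁻¹) * (k * c * g) = x := by group
      rwa [e]
    · rw [e2]
      have e : (k * c * g)⁻¹ * (k * c * g * y * (k * c * g)⁻¹) * (k * c * g) = y := by group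
      rwa [e]
  have h4 : k * x * k⁻¹ ∈ Q := hH _ (hkR _ hxR)
  refine hti k⁻¹ x u ?_ ?_ (hQS hx) hgS hx hx1
  · rwa [inv_inv]
  · rwa [inv_inv]

end finite

end Cfsg.Agent.GH.L2Q
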