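import Cfsg.Agent.GH.L2FourOC
import Cfsg.Agent.GH.L2Frame
import Cfsg.Agent.GH.L2Q

/-!
# GH: no 2-component in `C(e)` if `Z(S)` has the only involution `e` (odd centres)

`S` a Sylow 2-subgroup of `G`, `e` the only involution of `Z(S)`, all 2-components of `C(e)` are normal
in `C(e)` and have a centre of odd order (mod core): `C(e)` has no 2-component.
-/

set_option autoImplicit false

open Cfsg Subgroup
open Cfsg.Agent.SignalizersComponents
open Cfsg.Agent.SignalizersComponents.IntrinsicBasic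
open Cfsg.Agent.Intrinsic.Basic Cfsg.Agent.Intrinsic.Cen
open Cfsg.Agent.GH.Defs Cfsg.Agent.GH.Comp Cfsg.Agent.GH.L2Frame
open Cfsg.Agent.Walter.SylowIn

namespace Cfsg.Agent.GH.L2NoComp

variable {G : Type*} [Group G]

/-- A 2-component of `H` containing an involution centralizing it has an even centre. -/
theorem evenCenter_of_mem {K : Subgroup G} {e : G} (he2 : orderOf e = 2) (heK : e ∈ K)
    (hc : ∀ k ∈ K, Commute k e) [Finite G] : EvenCenter K := by
  have hee : e * e = 1 := by rw [← pow_two, ← he2, pow_orderOf_eq_one]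
  have he1 : e ≠ 1 := by
    rintro rfl
    simp at he2
  have h1 : (QuotientGroup.mk' (oddCore ↥K)) ⟨e, heK⟩ ∈ center (Bar K) := by
    rw [mem_center_iff]
    intro b
    obtain ⟨b, rfl⟩ := QuotientGroup.mk'_surjective _ b
    rw [← map_mul, ← map_mul]
    congr 1
    exact Subtype.ext (hc b b.2).eq
  have h2 : orderOf ((QuotientGroup.mk' (oddCore ↥K)) ⟨e, heK⟩) = 2 := by
    have h3 : Fact (Nat.Prime 2) := ⟨Nat.prime_two⟩
    apply orderOf_eq_prime
    · rw [← map_pow]
      have h4 : (⟨e, heK⟩ : K) ^ 2 = 1 := by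
        apply Subtype.ext
        change e ^ 2 = 1
        rw [pow_two, hee]
      rw [h4, map_one]
    · intro h4
      have h5 := (QuotientGroup.eq_one_iff _).mp h4
      have h6 : e ∈ core K := (mem_core_iff heK).mpr h5
      exact he1 (eq_one_of_mem_core_sq h6 hee)
  rw [EvenCenter, even_iff_two_dvd, ← h2]
  have h3 : orderOf (⟨_, h1⟩ : center (Bar K)) =
      orderOf ((QuotientGroup.mk' (oddCore ↥K)) ⟨e, heK⟩) :=
    (Subgroup.orderOf_coe (⟨_, h1⟩ : center (Bar K))).symm
  rw [← h3]
  exact orderOf_dvd_natCard _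

section finite

variable [Finite G]

/-- `e` the only involution of `Z(S)`: `C(e)` has no normal 2-component with odd centre. -/
theorem not_isComp (S : Sylow 2 G) {e : G} (he2 : orderOf e = 2)
    (hce : ∀ s ∈ (S : Subgroup G), Commute s e)
    (hZ : ∀ w ∈ (S : Subgroup G), orderOf w = 2 → (∀ s ∈ (S : Subgroup G), Commute s w) → w = e)
    {K : Subgroup G} (hK : IsComp (centralizer ({e} : Set G)) K) (ho : ¬ EvenCenter K)
    (hn : (S : Subgroup G) ≤ normalizer (K : Set G)) : False := by
  have : Fact (Nat.Prime 2) := ⟨Nat.prime_two⟩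
  have hSC : (S : Subgroup G) ≤ centralizer ({e} : Set G) := fun s hs =>
    mem_centralizer_singleton_iff.mpr (hce s hs)
  have fr : Frame (centralizer ({e} : Set G)) K (S : Subgroup G) :=
    ⟨hK, ho, hn, sylIn_of_sylow S hSC⟩
  have hne : (S : Subgroup G) ⊓ K ≠ ⊥ := by
    intro h1
    have h2 := fr.sylD.not_dvd
    rw [h1, relIndex_bot_left] at h2
    exact h2 hK.even
  have hSn : (S : Subgroup G) ≤ normalizer (((S : Subgroup G) ⊓ K : Subgroup G) : Set G) := by
    intro s hs
    rw [mem_normalizer_iff]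
    intro d
    refine ⟨fun hd => fr.conj_mem_D hs hd, fun hd => ?_⟩
    have h1 := fr.conj_mem_D (inv_mem hs) hd
    have e1 : s⁻¹ * (s * d * s⁻¹) * s⁻¹⁻¹ = d := by group
    rwa [e1] at h1
  obtain ⟨w, hw, hw2, hc⟩ := L2Q.exists_central S.2 inf_le_left hSn hne
  have h1 := hZ w hw.1 hw2 hc
  rw [h1] at hw
  exact ho (evenCenter_of_mem he2 hw.2 fun k hk => mem_centralizer_singleton_iff.mp (hK.le hk))

/-- In the world with odd centres: `e` the only involution of `Z(S)`: `C(e)` has no 2-component. -/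
theorem not_comp2 (h : Hyp G) (ho : AllOdd G) (S : Sylow 2 G) {e : G}
    (hce : ∀ s ∈ (S : Subgroup G), Commute s e)
    (hZ : ∀ w ∈ (S : Subgroup G), orderOf w = 2 → (∀ s ∈ (S : Subgroup G), Commute s w) → w = e)
    {K : Subgroup G} (hK : Comp2 e K) : False :=
  not_isComp S hK.inv hce hZ hK.comp (ho e K hK) fun s hs =>
    L2FourOC.centralizer_le_normalizer h ho hK (mem_centralizer_singleton_iff.mpr (hce s hs))

omit [Finite G] in
theorem pLayer_eq_bot {H : Subgroup G} (h : ∀ K : Subgroup G, ¬ IsComp H K) : pLayer 2 ↥H = ⊥ := by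
  rw [eq_bot_iff]
  refine sSup_le ?_
  intro M hM
  exact absurd (isComp_of_subtype hM) (h _)

/-- The 2-layer of `C(e)` is trivial. -/
theorem pLayer_centralizer (h : Hyp G) (ho : AllOdd G) (S : Sylow 2 G) {e : G} (he2 : orderOf e = 2)
    (hce : ∀ s ∈ (S : Subgroup G), Commute s e)
    (hZ : ∀ w ∈ (S : Subgroup G), orderOf w = 2 → (∀ s ∈ (S : Subgroup G), Commute s w) → w = e) :
    pLayer 2 ↥(centralizer ({e} : Set G)) = ⊥ :=
  pLayer_eq_bot fun _ hK => not_comp2 h ho S hce hZ ⟨he2, hK⟩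

end finite

end Cfsg.Agent.GH.L2NoComp
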