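import Cfsg.Agent.GH.PumpUp
import Cfsg.Agent.S0204

/-!
# GH-0: the case in which all 2-components of centralizers of involutions have odd centre

`Hyp G`, `AllOdd G`: every `C_G(x)` (`x` an involution) has at most one 2-component `K`, it is normal in
`C_G(x)`; if `y` is an involution commuting with `x` and fixing `K`, the 2-component `J` of `C_G(y)` contains
`cen K y`; if moreover `|STop J| ≤ |STop K|` then `J = cen K y · O(J)` and `x` fixes `J`.
-/

set_option autoImplicit false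

open Cfsg Subgroup
open Cfsg.Agent.SignalizersComponents.IntrinsicBasic
open Cfsg.Agent.Intrinsic.Basic Cfsg.Agent.Intrinsic.Cen
open Cfsg.Agent.GH.Defs Cfsg.Agent.GH.Rank Cfsg.Agent.GH.Comp
open scoped commutatorElement

namespace Cfsg.Agent.GH.Odd

variable {G : Type*} [Group G] [Finite G]

/-- A nonabelian simple group has (sectional) 2-rank at least 2. -/
theorem two_le_srank {X : Type*} [Group X] [Finite X] (hs : IsSimpleGroup X)
    (hX : ¬ IsMulCommutative X) : 2 ≤ srank 2 X := by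
  have hc : ¬ IsCyclic X := fun h => hX (IsCyclic.isMulCommutative (α := X))
  obtain ⟨E, hE⟩ := S0204.result hc
  by_contra hlt
  have h1 : SectionalPRankLE 2 1 X := (srank_le_iff (by norm_num)).1 (by omega)
  have h2 := pRankLE h1 E ?_ ?_
  · have h4 : Nat.card E = 4 := hE.card_four
    rw [h4] at h2
    norm_num at h2
  · exact ⟨⟨fun a b => mul_comm_of_exponent_two hE.exponent_two a b⟩⟩
  · intro a ha
    have h3 : (⟨a, ha⟩ : E) * ⟨a, ha⟩ = 1 := by
      have := Monoid.pow_exponent_eq_one (⟨a, ha⟩ : E)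
      rw [hE.exponent_two, pow_two] at this
      exact this
    rw [pow_two]
    exact congrArg Subtype.val h3

theorem two_le_srank_top {H K : Subgroup G} (h : IsComp H K) : 2 ≤ srank 2 (STop K) :=
  two_le_srank (top_simple h) (top_nonComm h)

theorem two_le_srank_comp {H K : Subgroup G} (h : IsComp H K) : 2 ≤ srank 2 K :=
  (two_le_srank_top h).trans (srank_top_le K)

omit [Finite G] in
theorem mem_centralizer_self (x : G) : x ∈ centralizer ({x} : Set G) :=
  mem_centralizer_singleton_iff.mpr rfl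

omit [Finite G] in
theorem fixes_zpowers {x : G} {K : Subgroup G} (h : K ≤ centralizer ({x} : Set G)) :
    ∀ d ∈ zpowers x, Fixes d K := by
  intro d hd
  obtain ⟨n, rfl⟩ := mem_zpowers_iff.mp hd
  apply fixes_self
  intro k hk
  have h3 : Commute k x := mem_centralizer_singleton_iff.mp (h hk)
  exact mem_centralizer_singleton_iff.mpr (h3.zpow_right n)

omit [Finite G] in
/-- `Fixes` is closed under multiplication. -/
theorem fixes_mul {a b : G} {K : Subgroup G} (ha : Fixes a K) (hb : Fixes b K) :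
    Fixes (a * b) K := by
  rw [fixes_iff_conj] at ha hb ⊢
  refine ⟨mul_mem ha.1 hb.1, fun y hy => ?_⟩
  have h1 : b * y * b⁻¹ ∈ K := (mem_normalizer_iff.mp hb.1 y).mp hy
  have h2 := ha.2 _ h1
  have h3 := hb.2 y hy
  have h4 : y⁻¹ * (a * b * y * (a * b)⁻¹) =
      (y⁻¹ * (b * y * b⁻¹)) * ((b * y * b⁻¹)⁻¹ * (a * (b * y * b⁻¹) * a⁻¹)) := by group
  rw [h4]
  exact mul_mem h3 h2

omit [Finite G] in
theorem fixes_one (K : Subgroup G) : Fixes (1 : G) K := by
  rw [fixes_iff_conj]
  refine ⟨one_mem _, fun y hy => ?_⟩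
  simp

omit [Finite G] in
theorem fixes_inv {a : G} {K : Subgroup G} (ha : Fixes a K) : Fixes a⁻¹ K := by
  rw [fixes_iff_conj] at ha ⊢
  refine ⟨inv_mem ha.1, fun y hy => ?_⟩
  have h1 : a⁻¹ * y * a ∈ K := by
    have := (mem_normalizer_iff.mp (inv_mem ha.1) y).mp hy
    simpa using this
  have h2 := ha.2 _ h1
  have h3 := inv_mem h2
  have h4 : ((a⁻¹ * y * a)⁻¹ * (a * (a⁻¹ * y * a) * a⁻¹))⁻¹ = y⁻¹ * (a⁻¹ * y * a) := by group
  rw [h4] at h3
  rwa [inv_inv]

/-- The subgroup of the elements fixing `K`. -/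
def fixer (K : Subgroup G) : Subgroup G where
  carrier := {a | Fixes a K}
  mul_mem' := fixes_mul
  one_mem' := fixes_one K
  inv_mem' := fixes_inv

omit [Finite G] in
theorem mem_fixer {a : G} {K : Subgroup G} : a ∈ fixer K ↔ Fixes a K := Iff.rfl

/-- Two different 2-components of `C(x)`, one of them with odd centre, the other too: `r ≥ 5`. -/
theorem unique_of_odd (h : Hyp G) {x : G} {K₁ K₂ : Subgroup G} (c₁ : Comp2 x K₁)
    (c₂ : Comp2 x K₂) (h₁ : ¬ EvenCenter K₁) (h₂ : ¬ EvenCenter K₂) : K₁ = K₂ := by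
  by_contra hne
  let D : Subgroup G := K₂ ⊔ zpowers x
  have hDC : D ≤ centralizer ({x} : Set G) :=
    sup_le c₂.comp.le (by rw [zpowers_le]; exact mem_centralizer_self x)
  have hDf : ∀ d ∈ D, Fixes d K₁ := by
    have : D ≤ fixer K₁ := by
      refine sup_le (fun a ha => ?_) (fun a ha => ?_)
      · exact c₁.comp.fixes_of_mem c₂.comp hne ha
      · exact fixes_zpowers c₁.comp.le a ha
    exact this
  have e1 := srank_add_le c₁.comp h₁ hDC hDf
  have e2 := srank_add_le (H := D) (K := K₂) (D := zpowers x)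
    (c₂.comp.restrict hDC le_sup_left) h₂ le_sup_right (fixes_zpowers c₂.comp.le)
  rw [srank_zpowers c₂.inv] at e2
  have e3 : srank 2 (centralizer ({x} : Set G)) ≤ 4 :=
    (srank_subgroup_le (by norm_num) _).trans ((srank_le_iff (by norm_num)).2 h.rank4)
  have e4 := two_le_srank_comp c₁.comp
  have e5 := two_le_srank_comp c₂.comp
  omega

/-- AllOdd: the centralizer of an involution has at most one 2-component. -/
theorem unique (h : Hyp G) (ho : AllOdd G) {x : G} {K₁ K₂ : Subgroup G} (c₁ : Comp2 x K₁)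
    (c₂ : Comp2 x K₂) : K₁ = K₂ := unique_of_odd h c₁ c₂ (ho _ _ c₁) (ho _ _ c₂)

omit [Finite G] in
theorem Comp2.cj_of_mem {x : G} {K : Subgroup G} (c : Comp2 x K) {g : G}
    (hg : g ∈ centralizer ({x} : Set G)) : Comp2 x (cj g K) := by
  refine ⟨c.inv, ?_⟩
  have := c.comp.cj g
  rwa [cj_eq_self_of_mem hg] at this

omit [Finite G] in
theorem Comp2.cj {x : G} {K : Subgroup G} (c : Comp2 x K) (g : G) :
    Comp2 (g * x * g⁻¹) (cj g K) := by
  refine ⟨?_, ?_⟩
  · rw [← c.inv]
    exact orderOf_injective (MulAut.conj g).toMonoidHom (MulAut.conj g).injective x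
  · rw [← cj_centralizer]
    exact c.comp.cj g

/-- AllOdd: the 2-component of `C(x)` is normal in `C(x)`. -/
theorem le_normalizer (h : Hyp G) (ho : AllOdd G) {x : G} {K : Subgroup G} (c : Comp2 x K) :
    centralizer ({x} : Set G) ≤ normalizer (K : Set G) := by
  intro g hg
  rw [mem_normalizer_iff_cj]
  exact unique h ho (Comp2.cj_of_mem c hg) c

/-- AllOdd: a 2-component `L` of `C(x) ∩ C(y)` is contained in the 2-component of `C(y)`. -/
theorem pump (h : Hyp G) (ho : AllOdd G) {x y : G} (hx : orderOf x = 2) (hy : orderOf y = 2)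
    (hxy : x * y = y * x) {L : Subgroup G}
    (hL : IsComp (centralizer ({y} : Set G) ⊓ centralizer ({x} : Set G)) L) :
    ∃ J, Comp2 y J ∧ L ≤ J ∧ x ∈ normalizer (J : Set G) ∧
      IsComp (J ⊓ centralizer ({x} : Set G)) L := by
  have hxC : x ∈ centralizer ({y} : Set G) := mem_centralizer_singleton_iff.mpr hxy
  have hx2 : x * x = 1 := by rw [← pow_two, ← hx, pow_orderOf_eq_one]
  obtain ⟨J, hJ, hLJ⟩ := PumpUp.exists_comp hxC hx2 hL
  have c : Comp2 y J := ⟨hy, hJ⟩
  have hxJ := le_normalizer h ho c hxC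
  have e : cj x J = J := mem_normalizer_iff_cj.mp hxJ
  rw [e, sup_idem] at hLJ
  exact ⟨J, c, hLJ, hxJ, hL.restrict (inf_le_inf_right _ hJ.le)
    (le_inf hLJ (hL.le.trans inf_le_right))⟩

/-- AllOdd: pump-up in `C(y)` of the 2-component `K` of `C(x)`, `y` fixing `K`. -/
theorem pump_fixes (h : Hyp G) (ho : AllOdd G) {x y : G} {K : Subgroup G} (c : Comp2 x K)
    (hy : orderOf y = 2) (hxy : x * y = y * x) (hf : Fixes y K) :
    ∃ J, Comp2 y J ∧ cen K y ≤ J ∧ x ∈ normalizer (J : Set G) ∧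
      IsComp (J ⊓ centralizer ({x} : Set G)) (cen K y) := by
  have hy2 : y * y = 1 := by rw [← pow_two, ← hy, pow_orderOf_eq_one]
  have hyC : y ∈ centralizer ({x} : Set G) := mem_centralizer_singleton_iff.mpr hxy.symm
  have h1 := (isComp_cen c.comp hyC hy2 hf).1
  rw [inf_comm] at h1
  exact pump h ho c.inv hy hxy h1

/-- `L ≤ J` 2-components (of different groups); if `|STop J| ≤ |STop L|` then `J = L O(J)`. -/
theorem sup_core_eq {H X L J : Subgroup G} (hL : IsComp H L) (hJ : IsComp X J) (hLJ : L ≤ J)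
    (hcard : Nat.card (STop J) ≤ Nat.card (STop L)) : L ⊔ core J = J := by
  -- the map `L → STop J`
  let f : L →* STop J := (topMap J).comp (inclusion hLJ)
  have hker : f.ker ≤ (topMap L).ker := by
    -- the kernel is normal in `L`
    have hn : f.ker.Normal := inferInstance
    let F : L →* Bar L := QuotientGroup.mk' (oddCore ↥L)
    have hn' : (f.ker.map F).Normal := hn.map F (QuotientGroup.mk'_surjective _)
    rcases SignalizersComponents.Components.quasisimple_normal (quasisimple hL) _ hn' with h1 | h1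
    · -- then `L` would be solvable-ish: `L` is contained in `ker (J → STop J)` mod odd
      exfalso
      -- every 2-element of `L` lies in `f.ker`
      have h2 : ∀ l : L, ∀ n : ℕ, l ^ 2 ^ n = 1 → l ∈ f.ker := by
        intro l n hl
        have h3 : F l ∈ f.ker.map F := by rw [h1]; exact mem_top _
        obtain ⟨k, hk, hkl⟩ := h3
        have h4 : k⁻¹ * l ∈ oddCore ↥L := by
          rw [← QuotientGroup.eq]
          exact hkl
        have h5 : f l ^ 2 ^ n = 1 := by rw [← map_pow, hl, map_one]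
        have h6 : f (k⁻¹ * l) = f l := by
          rw [map_mul, map_inv, (MonoidHom.mem_ker).mp hk, inv_one, one_mul]
        have h7 : f l ^ Nat.card (oddCore ↥L) = 1 := by
          rw [← h6, ← map_pow]
          have h8 := pow_card_eq_one' (x := (⟨k⁻¹ * l, h4⟩ : oddCore ↥L))
          have h9 := congrArg Subtype.val h8
          have h10 : (k⁻¹ * l) ^ Nat.card (oddCore ↥L) = 1 := h9
          rw [h10, map_one]
        have h11 : (Nat.card (oddCore ↥L)).Coprime 2 := Lib.Cores.pPrimeCore_coprime (G := L) 2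
        have h12 := Nat.eq_one_of_dvd_coprimes (Nat.Coprime.pow_right n h11)
          (orderOf_dvd_of_pow_eq_one h7) (orderOf_dvd_of_pow_eq_one h5)
        rw [MonoidHom.mem_ker]
        exact orderOf_eq_one_iff.mp h12
      have h13 : L ≤ f.ker.map L.subtype := by
        apply hL.le_of_two
        intro l hl n hn
        exact ⟨⟨l, hl⟩, h2 ⟨l, hl⟩ n (Subtype.ext (by simpa using hn)), rfl⟩
      have h14 : L ≤ fixer J := by
        intro l hl
        obtain ⟨l', hl', hll⟩ := h13 hl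
        have h15 : (inclusion hLJ l' : J) ∈ (topMap J).ker := hl'
        rw [mem_ker_topMap] at h15
        have h16 : (l' : G) = l := hll
        refine ⟨Subgroup.le_normalizer (hLJ hl), fun y hy => ?_⟩
        have := h15 y hy
        rw [← h16]
        exact this
      -- so `⁅L, L⁆` is odd
      have h17 : ⁅L, L⁆ ≤ core J := by
        rw [commutator_le]
        intro a ha b hb
        exact (h14 ha).2 b (hLJ hb)
      rw [hL.perfect] at h17
      exact hL.not_odd (odd_card_core J) h17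
    · intro l hl
      rw [mem_ker_topMap]
      have h2 : F l ∈ center (Bar L) := h1 ⟨l, hl, rfl⟩
      have h3 : l ∈ (topMap L).ker := by
        rw [MonoidHom.mem_ker]
        exact (QuotientGroup.eq_one_iff _).mpr h2
      exact mem_ker_topMap.mp h3
  -- compare orders: `f` is surjective
  have hcard1 : Nat.card (STop L) ≤ Nat.card f.range := by
    have e1 : Nat.card (STop L) = (topMap L).ker.index := by
      rw [Subgroup.index_ker, MonoidHom.range_eq_top.mpr (topMap_surjective L), Subgroup.card_top]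
    have e2 : Nat.card f.range = f.ker.index := by rw [Subgroup.index_ker]
    rw [e1, e2]
    exact Nat.le_of_dvd (Nat.pos_of_ne_zero Subgroup.index_ne_zero_of_finite)
      (Subgroup.index_dvd_of_le hker)
  have hsurj : f.range = ⊤ := by
    apply Subgroup.eq_top_of_le_card
    exact hcard.trans hcard1
  -- `J = L · ker (topMap J)`, hence `J = L O(J)`
  have hJeq : ∀ j ∈ J, ∃ l ∈ L, ∀ y ∈ J, ⁅l⁻¹ * j, y⁆ ∈ core J := by
    intro j hj
    have h1 : topMap J ⟨j, hj⟩ ∈ f.range := by rw [hsurj]; exact mem_top _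
    obtain ⟨l, hl⟩ := h1
    refine ⟨l, l.2, ?_⟩
    have h2 : ((inclusion hLJ l)⁻¹ * ⟨j, hj⟩ : J) ∈ (topMap J).ker := by
      rw [MonoidHom.mem_ker, map_mul, map_inv, inv_mul_eq_one]
      exact hl
    have h3 := mem_ker_topMap.mp h2
    exact h3
  apply le_antisymm (sup_le hLJ (core_le J))
  have hn : ∀ l ∈ L, l ∈ normalizer (core J : Set G) := fun l hl => le_normalizer_core J (hLJ hl)
  nth_rewrite 1 [← hJ.perfect]
  rw [commutator_le]
  intro a ha b hb
  obtain ⟨l, hl, h1⟩ := hJeq a ha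
  obtain ⟨m, hm, h2⟩ := hJeq b hb
  obtain ⟨u, hu⟩ : ∃ u, u = l⁻¹ * a := ⟨_, rfl⟩
  obtain ⟨v, hv⟩ : ∃ v, v = m⁻¹ * b := ⟨_, rfl⟩
  rw [← hu] at h1
  rw [← hv] at h2
  have huJ : u ∈ J := hu ▸ J.mul_mem (J.inv_mem (hLJ hl)) ha
  have hvJ : v ∈ J := hv ▸ J.mul_mem (J.inv_mem (hLJ hm)) hb
  have ea : a = l * u := by rw [hu]; group
  have eb : b = m * v := by rw [hv]; group
  -- `⁅l u, m v⁆ = l (⁅u, m v⁆) l⁻¹ · ⁅l, m v⁆`, `⁅l, m v⁆ = ⁅l, m⁆ m ⁅l, v⁆ m⁻¹`
  have e1 : ⁅a, b⁆ = (l * ⁅u, m * v⁆ * l⁻¹) * (⁅l, m⁆ * (m * ⁅l, v⁆ * m⁻¹)) := by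
    rw [ea, eb]
    simp only [commutatorElement_def]
    group
  rw [e1]
  have c1 : l * ⁅u, m * v⁆ * l⁻¹ ∈ core J :=
    (mem_normalizer_iff.mp (hn l hl) _).mp (h1 _ (J.mul_mem (hLJ hm) hvJ))
  have c2 : ⁅l, v⁆ ∈ core J := by
    have := h2 l (hLJ hl)
    have h3 := (core J).inv_mem this
    rwa [commutatorElement_inv] at h3
  have c3 : m * ⁅l, v⁆ * m⁻¹ ∈ core J := (mem_normalizer_iff.mp (hn m hm) _).mp c2
  refine mul_mem (mem_sup_right c1) (mul_mem (mem_sup_left ?_) (mem_sup_right c3))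
  exact L.mul_mem (L.mul_mem (L.mul_mem hl hm) (L.inv_mem hl)) (L.inv_mem hm)

omit [Finite G] in
/-- If `x` centralizes `L` and `J = L O(J)`, `x ∈ N(J)`, then `x` fixes `J`. -/
theorem fixes_of_sup {x : G} {L J : Subgroup G} (hL : L ≤ centralizer ({x} : Set G)) (hLJ : L ≤ J)
    (hs : L ⊔ core J = J) (hx : x ∈ normalizer (J : Set G)) : Fixes x J := by
  refine ⟨hx, fun y hy => ?_⟩
  obtain ⟨l, hl, hc⟩ := exists_mul_of_sup hs hy
  have hlJ := hLJ hl
  have h1 : x * l * x⁻¹ = l := by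
    rw [mul_inv_eq_iff_eq_mul]
    exact (mem_centralizer_singleton_iff.mp (hL hl)).symm
  obtain ⟨c, hc'⟩ : ∃ c, c = l⁻¹ * y := ⟨_, rfl⟩
  rw [← hc'] at hc
  have e : y = l * c := by rw [hc']; group
  have h2 : ⁅x, y⁆ = l * ((x * c * x⁻¹) * c⁻¹) * l⁻¹ := by
    rw [e, commutatorElement_def]
    calc x * (l * c) * x⁻¹ * (l * c)⁻¹ = (x * l * x⁻¹) * (x * c * x⁻¹) * c⁻¹ * l⁻¹ := by group
      _ = _ := by rw [h1]; group
  rw [h2]
  have h3 : x * c * x⁻¹ ∈ core J := conj_mem_core hx hc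
  exact conj_mem_core (Subgroup.le_normalizer hlJ) (mul_mem h3 (inv_mem hc))

/-- The tops of `K` and `cen K y` are isomorphic. -/
theorem sTop_cen {x y : G} {K : Subgroup G} (c : Comp2 x K) (hy : y * y = 1)
    (hyC : y ∈ centralizer ({x} : Set G)) (hf : Fixes y K) :
    Nonempty (STop (cen K y) ≃* STop K) := by
  have h1 := isComp_cen c.comp hyC hy hf
  have hle : cen K y ≤ K := cen_le K y
  let F : cen K y →* STop K := (topMap K).comp (inclusion hle)
  have hF : Function.Surjective F := by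
    intro t
    obtain ⟨k, rfl⟩ := topMap_surjective K t
    obtain ⟨l, hl, hc⟩ := exists_mul_of_sup h1.2 k.2
    refine ⟨⟨l, hl⟩, ?_⟩
    have h2 : (⟨l, hle hl⟩ : K)⁻¹ * k ∈ oddCore ↥K := by
      rw [← mem_core_iff (x := ((((⟨l, hle hl⟩ : K)⁻¹ * k : K)) : G)) (SetLike.coe_mem _)]
      exact hc
    have h3 : (QuotientGroup.mk' (oddCore ↥K)) ⟨l, hle hl⟩ = (QuotientGroup.mk' (oddCore ↥K)) k :=
      QuotientGroup.eq.mpr h2
    change (QuotientGroup.mk' (center (Bar K))) ((QuotientGroup.mk' (oddCore ↥K)) ⟨l, hle hl⟩) = _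
    rw [h3]
    rfl
  refine PumpUp.sTop_equiv h1.1 c.comp F hF ?_
  intro a ha
  have h2 : (a : G) ∈ core K := by
    have h3 : (a : G) ∈ core (cen K y) := ⟨a, ha, rfl⟩
    rw [core_cen c.comp hyC hy hf] at h3
    exact h3.2
  rw [MonoidHom.mem_ker]
  have h4 : (inclusion hle a : K) ∈ oddCore ↥K := by
    rw [← mem_core_iff (x := ((inclusion hle a : K) : G)) (SetLike.coe_mem _)]
    exact h2
  change (QuotientGroup.mk' (center (Bar K))) ((QuotientGroup.mk' (oddCore ↥K)) (inclusion hle a)) = 1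
  have h5 : (QuotientGroup.mk' (oddCore ↥K)) (inclusion hle a) = 1 :=
    (QuotientGroup.eq_one_iff _).mpr h4
  rw [h5, map_one]

/-- AllOdd, maximal case: if `|STop J| ≤ |STop K|` for the 2-component `J` of `C(y)`, then
`J = cen K y · O(J)`, `x` fixes `J` and `STop J ≃* STop K`. -/
theorem pump_max (h : Hyp G) (ho : AllOdd G) {x y : G} {K J : Subgroup G} (c : Comp2 x K)
    (d : Comp2 y J) (hxy : x * y = y * x) (hf : Fixes y K)
    (hcard : Nat.card (STop J) ≤ Nat.card (STop K)) :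
    cen K y ≤ J ∧ cen K y ⊔ core J = J ∧ Fixes x J ∧ Nonempty (STop J ≃* STop K) := by
  have hy2 : y * y = 1 := by rw [← pow_two, ← d.inv, pow_orderOf_eq_one]
  have hx2 : x * x = 1 := by rw [← pow_two, ← c.inv, pow_orderOf_eq_one]
  have hyC : y ∈ centralizer ({x} : Set G) := mem_centralizer_singleton_iff.mpr hxy.symm
  have hxC : x ∈ centralizer ({y} : Set G) := mem_centralizer_singleton_iff.mpr hxy
  obtain ⟨J', d', hLJ, hxJ, hLcomp⟩ := pump_fixes h ho c d.inv hxy hf
  obtain rfl := unique h ho d' d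
  obtain ⟨e⟩ := sTop_cen c hy2 hyC hf
  have hcard' : Nat.card (STop J') ≤ Nat.card (STop (cen K y)) := by
    rw [Nat.card_congr e.toEquiv]
    exact hcard
  have hs := sup_core_eq (isComp_cen c.comp hyC hy2 hf).1 d'.comp hLJ hcard'
  have hcx : cen K y ≤ centralizer ({x} : Set G) := (cen_le K y).trans c.comp.le
  have hfx := fixes_of_sup hcx hLJ hs hxJ
  refine ⟨hLJ, hs, hfx, ?_⟩
  -- `STop J ≃* STop (cen K y)`
  let F : cen K y →* STop J' := (topMap J').comp (inclusion hLJ)
  have hF : Function.Surjective F := by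
    intro t
    obtain ⟨k, rfl⟩ := topMap_surjective J' t
    obtain ⟨l, hl, hc⟩ := exists_mul_of_sup hs k.2
    refine ⟨⟨l, hl⟩, ?_⟩
    have h2 : (⟨l, hLJ hl⟩ : J')⁻¹ * k ∈ oddCore ↥J' := by
      rw [← mem_core_iff (x := ((((⟨l, hLJ hl⟩ : J')⁻¹ * k : J')) : G)) (SetLike.coe_mem _)]
      exact hc
    have h3 : (QuotientGroup.mk' (oddCore ↥J')) ⟨l, hLJ hl⟩ =
        (QuotientGroup.mk' (oddCore ↥J')) k := QuotientGroup.eq.mpr h2
    change (QuotientGroup.mk' (center (Bar J'))) ((QuotientGroup.mk' (oddCore ↥J')) ⟨l, hLJ hl⟩) = _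
    rw [h3]
    rfl
  have hker : oddCore ↥(cen K y) ≤ F.ker := by
    intro a ha
    have h3 : (a : G) ∈ core (cen K y) := ⟨a, ha, rfl⟩
    rw [core_of_sup hs] at h3
    rw [MonoidHom.mem_ker]
    have h4 : (inclusion hLJ a : J') ∈ oddCore ↥J' := by
      rw [← mem_core_iff (x := ((inclusion hLJ a : J') : G)) (SetLike.coe_mem _)]
      exact h3.2
    change (QuotientGroup.mk' (center (Bar J')))
      ((QuotientGroup.mk' (oddCore ↥J')) (inclusion hLJ a)) = 1
    have h5 : (QuotientGroup.mk' (oddCore ↥J')) (inclusion hLJ a) = 1 :=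
      (QuotientGroup.eq_one_iff _).mpr h4
    rw [h5, map_one]
  obtain ⟨e'⟩ := PumpUp.sTop_equiv (isComp_cen c.comp hyC hy2 hf).1 d'.comp F hF hker
  exact ⟨e'.symm.trans e⟩

end Cfsg.Agent.GH.Odd
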