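import Mathlib
import Cfsg.Agent.Intrinsic.OddQuot
import Cfsg.Agent.GH.Rank

/-!
# Lifting 2-subgroups and their normalisers through a normal subgroup of odd order
-/

set_option autoImplicit false

namespace Cfsg.Agent.GH.WLift

open Subgroup Cfsg.Agent.SignalizersComponents.CoprimeBasic

variable {C : Type*} [Group C] [Finite C] {N : Subgroup C} [N.Normal]

omit [Finite C] in
/-- The quotient map is injective on 2-subgroups. -/
theorem injOn (hN : Odd (Nat.card N)) {T : Subgroup C} (hT : IsPGroup 2 T) {x y : C} (hx : x ∈ T)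
    (hy : y ∈ T) (h : QuotientGroup.mk' N x = QuotientGroup.mk' N y) : x = y := by
  obtain ⟨n, hn⟩ := hT ⟨x⁻¹ * y, T.mul_mem (T.inv_mem hx) hy⟩
  have h1 : (x⁻¹ * y) ^ 2 ^ n = 1 := congrArg Subtype.val hn
  have h2 := Intrinsic.OddQuot.eq_one_of_mk_eq_one hN h1 (by rw [map_mul, map_inv, h, inv_mul_cancel])
  exact inv_mul_eq_one.mp h2

omit [Finite C] in
theorem card_map (hN : Odd (Nat.card N)) {T : Subgroup C} (hT : IsPGroup 2 T) :
    Nat.card (T.map (QuotientGroup.mk' N)) = Nat.card T := by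
  refine (Nat.card_congr (Equiv.ofBijective
    (fun x : T => (⟨QuotientGroup.mk' N x, x, x.2, rfl⟩ : T.map (QuotientGroup.mk' N))) ?_)).symm
  constructor
  · intro x y hxy
    exact Subtype.ext (injOn hN hT x.2 y.2 (congrArg Subtype.val hxy))
  · rintro ⟨_, x, hx, rfl⟩
    exact ⟨⟨x, hx⟩, rfl⟩

/-- A 2-subgroup of the quotient is the image of a 2-subgroup. -/
theorem exists_lift (hN : Odd (Nat.card N)) {T' : Subgroup (C ⧸ N)} (hT' : IsPGroup 2 T') :
    ∃ T : Subgroup C, IsPGroup 2 T ∧ T.map (QuotientGroup.mk' N) = T' := by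
  have hp : Fact (Nat.Prime 2) := ⟨Nat.prime_two⟩
  let M := T'.comap (QuotientGroup.mk' N)
  obtain ⟨P⟩ : Nonempty (Sylow 2 M) := inferInstance
  have h2 : IsPGroup 2 ((P : Subgroup M).map M.subtype) := P.2.map _
  refine ⟨(P : Subgroup M).map M.subtype, h2, ?_⟩
  have hle : ((P : Subgroup M).map M.subtype).map (QuotientGroup.mk' N) ≤ T' := by
    rintro _ ⟨_, ⟨x, -, rfl⟩, rfl⟩
    exact x.2
  apply eq_of_le_of_card_ge hle
  rw [card_map hN h2, Nat.card_congr ((P : Subgroup M).equivMapOfInjective M.subtype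
    M.subtype_injective).symm.toEquiv]
  -- `|M| = |N| |T'|`
  have hM : Nat.card M = Nat.card N * Nat.card T' := by
    have h3 := Rank.card_comap_of_surjective (QuotientGroup.mk' N) (QuotientGroup.mk'_surjective N) T'
    rwa [QuotientGroup.ker_mk'] at h3
  obtain ⟨n, hn⟩ := hT'.exists_card_eq
  obtain ⟨m, hm⟩ := P.2.exists_card_eq
  have h4 := (P : Subgroup M).card_mul_index
  have h5 : ¬ 2 ∣ (P : Subgroup M).index := P.not_dvd_index
  rw [hM, hm, hn] at h4
  rw [hm, hn]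
  have h6 : 2 ^ n ∣ 2 ^ m * (P : Subgroup M).index := by
    rw [h4]
    exact dvd_mul_left _ _
  have h7 : Nat.Coprime (2 ^ n) (P : Subgroup M).index := by
    refine Nat.Coprime.pow_left _ ?_
    rw [Nat.coprime_comm]
    exact Nat.coprime_two_right.mpr (Nat.not_even_iff_odd.mp fun h => h5 (even_iff_two_dvd.mp h))
  exact Nat.le_of_dvd (by positivity) (h7.dvd_of_dvd_mul_right h6)

/-- Lifting of elements normalising a 2-subgroup. -/
theorem exists_normalizer_lift (hN : Odd (Nat.card N)) {U : Subgroup C} (hU : IsPGroup 2 U)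
    {q : C ⧸ N} (hq : ∀ u ∈ U, ∃ v ∈ U, q * QuotientGroup.mk' N u * q⁻¹ = QuotientGroup.mk' N v) :
    ∃ r : C, QuotientGroup.mk' N r = q ∧ ∀ u ∈ U, r * u * r⁻¹ ∈ U := by
  have hp : Fact (Nat.Prime 2) := ⟨Nat.prime_two⟩
  obtain ⟨r, rfl⟩ := QuotientGroup.mk'_surjective N q
  let M := N ⊔ U
  have hUM : U ≤ M := le_sup_right
  have hNU : U ≤ normalizer (N : Set C) := by
    rw [normalizer_eq_top]
    exact le_top
  let V := U.map (MulAut.conj r).toMonoidHom
  have hVM : V ≤ M := by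
    rintro _ ⟨u, hu, rfl⟩
    obtain ⟨v, hv, h1⟩ := hq u hu
    rw [← map_inv, ← map_mul, ← map_mul] at h1
    have h2 : r * u * r⁻¹ * v⁻¹ ∈ N := by
      rw [← QuotientGroup.eq_one_iff]
      change QuotientGroup.mk' N (r * u * r⁻¹ * v⁻¹) = 1
      rw [map_mul, map_inv, h1, mul_inv_cancel]
    have h3 : r * u * r⁻¹ = (r * u * r⁻¹ * v⁻¹) * v := by group
    change r * u * r⁻¹ ∈ M
    rw [h3]
    exact mul_mem (mem_sup_left h2) (mem_sup_right hv)
  have hcardV : Nat.card V = Nat.card U :=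
    Nat.card_congr (U.equivMapOfInjective _ (MulAut.conj r).injective).symm.toEquiv
  have hdvd : Nat.card M ∣ Nat.card N * Nat.card U := card_sup_dvd hNU
  have key : ∀ W : Subgroup C, W ≤ M → Nat.card W = Nat.card U → ¬ 2 ∣ (W.subgroupOf M).index := by
    intro W hW hc h2
    have h3 : Nat.card (W.subgroupOf M) = Nat.card W :=
      Nat.card_congr (subgroupOfEquivOfLe hW).toEquiv
    have h4 := (W.subgroupOf M).card_mul_index
    rw [h3, hc] at h4
    rw [← h4, mul_comm (Nat.card N)] at hdvd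
    have h5 := Nat.dvd_of_mul_dvd_mul_left Nat.card_pos hdvd
    exact (Nat.not_even_iff_odd.mpr hN) (even_iff_two_dvd.mpr (h2.trans h5))
  have hV : IsPGroup 2 V := hU.map _
  let P : Sylow 2 M := (hU.comap_subtype (K := M)).toSylow (key U hUM rfl)
  let Q : Sylow 2 M := (hV.comap_subtype (K := M)).toSylow (key V hVM hcardV)
  obtain ⟨m, hm⟩ := MulAction.exists_smul_eq M Q P
  obtain ⟨o, ho, u0, hu0, h1⟩ := (mem_sup_iff hNU _).mp m.2
  -- `m = o * u0`
  have hconj : ∀ u ∈ U, (m : C) * (r * u * r⁻¹) * (m : C)⁻¹ ∈ U := by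
    intro u hu
    have h2 : (⟨r * u * r⁻¹, hVM ⟨u, hu, rfl⟩⟩ : M) ∈ (Q : Subgroup M) :=
      (show r * u * r⁻¹ ∈ V from ⟨u, hu, rfl⟩)
    have h3 : m * ⟨r * u * r⁻¹, hVM ⟨u, hu, rfl⟩⟩ * m⁻¹ ∈ (P : Subgroup M) := by
      rw [← hm]
      exact Subgroup.smul_mem_pointwise_smul _ (MulAut.conj m) _ h2
    exact h3
  refine ⟨u0⁻¹ * (m : C) * r, ?_, ?_⟩
  · rw [← h1, map_mul, map_mul, map_mul, map_inv]
    have h2 : QuotientGroup.mk' N o = 1 := (QuotientGroup.eq_one_iff o).mpr ho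
    rw [h2, one_mul, inv_mul_cancel, one_mul]
  · intro u hu
    have h2 : u0⁻¹ * (m : C) * r * u * (u0⁻¹ * (m : C) * r)⁻¹ =
        u0⁻¹ * ((m : C) * (r * u * r⁻¹) * (m : C)⁻¹) * u0 := by group
    rw [h2]
    exact mul_mem (mul_mem (inv_mem hu0) (hconj u hu)) hu0

end Cfsg.Agent.GH.WLift
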