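import Cfsg.Agent.SectRankFour.C2.Par

/-!
# GH-C2: four-groups of subgroups `A₄` lie in `O₂`

`eigen`: three commuting involutory maps `f₁, f₂, f₃ = f₁ f₂` of an abelian group of odd order less than 27,
permuted cyclically by an injective endomorphism, are trivial.

`mem_o2`: `H` solvable of characteristic 2, sectional 2-rank at most 4, `f, θ ∈ H`, `⟨f, f^θ⟩` a four-group
with `f^{θ²} = f f^θ`.  Then `f ∈ O₂(H)`.
-/

set_option autoImplicit false

namespace Cfsg.Agent.GH.AFour

open Subgroup Cfsg Cfsg.Agent.ZN Cfsg.Agent.MinSimple.MinParabolic Cfsg.Agent.MinSimple.VModule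
open Cfsg.Agent.MinSimple.Basic

section abstractpart

variable {A : Type*} [AddCommGroup A] [Finite A]

omit [Finite A] in
theorem eq_zero_of_double (hodd : Odd (Nat.card A)) {a : A} (h : a + a = 0) : a = 0 := by
  have h1 : addOrderOf a ∣ 2 := addOrderOf_dvd_of_nsmul_eq_zero (by rw [two_nsmul]; exact h)
  have h2 : addOrderOf a ∣ Nat.card A := addOrderOf_dvd_natCard a
  have h3 : addOrderOf a = 1 := by
    rcases (Nat.dvd_prime Nat.prime_two).mp h1 with h3 | h3
    · exact h3
    · rw [h3] at h2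
      exact absurd hodd (Nat.not_odd_iff_even.mpr (even_iff_two_dvd.mpr h2))
  exact AddMonoid.addOrderOf_eq_one_iff.mp h3

theorem three_le (hodd : Odd (Nat.card A)) {a : A} (h : a ≠ 0) :
    3 ≤ Nat.card (AddSubgroup.zmultiples a) := by
  have h1 : Nat.card (AddSubgroup.zmultiples a) ∣ Nat.card A := AddSubgroup.card_addSubgroup_dvd_card _
  have h2 : Odd (Nat.card (AddSubgroup.zmultiples a)) := Odd.of_dvd_nat hodd h1
  have h3 : Nat.card (AddSubgroup.zmultiples a) ≠ 1 := by
    intro h4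
    rw [Nat.card_zmultiples, AddMonoid.addOrderOf_eq_one_iff] at h4
    exact h h4
  have h5 : 0 < Nat.card (AddSubgroup.zmultiples a) := Nat.card_pos
  obtain ⟨k, hk⟩ := h2
  omega

theorem eigen (hodd : Odd (Nat.card A)) (h27 : Nat.card A < 27) (f1 f2 f3 θ : A →+ A)
    (h11 : ∀ a, f1 (f1 a) = a) (h22 : ∀ a, f2 (f2 a) = a) (h12 : ∀ a, f1 (f2 a) = f3 a)
    (h21 : ∀ a, f2 (f1 a) = f3 a) (t1 : ∀ a, θ (f1 a) = f2 (θ a)) (t2 : ∀ a, θ (f2 a) = f3 (θ a))
    (t3 : ∀ a, θ (f3 a) = f1 (θ a)) (hθ : ∀ a, θ a = 0 → a = 0) (a : A) : f1 a = a := by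
  have h13 : ∀ a, f1 (f3 a) = f2 a := fun a => by rw [← h12, h11]
  have h31 : ∀ a, f3 (f1 a) = f2 a := fun a => by rw [← h21, h11]
  have h23 : ∀ a, f2 (f3 a) = f1 a := fun a => by rw [← h21, h22]
  have h32 : ∀ a, f3 (f2 a) = f1 a := fun a => by rw [← h12, h22]
  have h33 : ∀ a, f3 (f3 a) = a := fun a => by rw [← h12, h23, h11]
  have d0 : ∀ {a : A}, a + a = 0 → a = 0 := fun h => eq_zero_of_double hodd h
  -- no eigenvector for `(1, -1, -1)`
  have key : ∀ e : A, f1 e = e → f2 e = -e → f3 e = -e → e = 0 := by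
    intro e e1 e2 e3
    by_contra he
    have g1 : f2 (θ e) = θ e := by rw [← t1, e1]
    have g2 : f3 (θ e) = -θ e := by rw [← t2, e2, map_neg]
    have g3 : f1 (θ e) = -θ e := by rw [← t3, e3, map_neg]
    have k1 : f3 (θ (θ e)) = θ (θ e) := by rw [← t2, g1]
    have k2 : f1 (θ (θ e)) = -θ (θ e) := by rw [← t3, g2, map_neg]
    have k3 : f2 (θ (θ e)) = -θ (θ e) := by rw [← t1, g3, map_neg]
    have ne1 : θ e ≠ 0 := fun h => he (hθ _ h)
    have ne2 : θ (θ e) ≠ 0 := fun h => ne1 (hθ _ h)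
    -- multiples
    have m1 : ∀ x ∈ AddSubgroup.zmultiples e, f1 x = x ∧ f2 x = -x := by
      intro x hx
      obtain ⟨n, rfl⟩ := AddSubgroup.mem_zmultiples_iff.mp hx
      rw [map_zsmul, map_zsmul, e1, e2]
      exact ⟨rfl, by rw [zsmul_neg]⟩
    have m2 : ∀ x ∈ AddSubgroup.zmultiples (θ e), f1 x = -x ∧ f2 x = x := by
      intro x hx
      obtain ⟨n, rfl⟩ := AddSubgroup.mem_zmultiples_iff.mp hx
      rw [map_zsmul, map_zsmul, g1, g3]
      exact ⟨by rw [zsmul_neg], rfl⟩
    have m3 : ∀ x ∈ AddSubgroup.zmultiples (θ (θ e)), f1 x = -x ∧ f2 x = -x := by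
      intro x hx
      obtain ⟨n, rfl⟩ := AddSubgroup.mem_zmultiples_iff.mp hx
      rw [map_zsmul, map_zsmul, k2, k3]
      exact ⟨by rw [zsmul_neg], by rw [zsmul_neg]⟩
    have hinj : Function.Injective (fun p : AddSubgroup.zmultiples e ×
        (AddSubgroup.zmultiples (θ e) × AddSubgroup.zmultiples (θ (θ e))) =>
        ((p.1 : A) + ((p.2.1 : A) + (p.2.2 : A)))) := by
      rintro ⟨x, y, z⟩ ⟨x', y', z'⟩ h
      have h0 : (x : A) + (y + z) = x' + (y' + z') := h
      obtain ⟨a1, a2⟩ := m1 _ (AddSubgroup.sub_mem _ x.2 x'.2)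
      obtain ⟨b1, b2⟩ := m2 _ (AddSubgroup.sub_mem _ y.2 y'.2)
      obtain ⟨c1, c2⟩ := m3 _ (AddSubgroup.sub_mem _ z.2 z'.2)
      have s0 : ((x : A) - x') + ((y - y') + (z - z')) = 0 := by
        rw [show ((x : A) - x') + ((y - y') + (z - z')) = (x + (y + z)) - (x' + (y' + z')) by abel,
          h0, sub_self]
      have s1 : ((x : A) - x') + (-(y - y') + -(z - z')) = 0 := by
        have := congrArg f1 s0
        rwa [map_add, map_add, a1, b1, c1, map_zero] at this
      have s2 : -((x : A) - x') + ((y - y') + -(z - z')) = 0 := by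
        have := congrArg f2 s0
        rwa [map_add, map_add, a2, b2, c2, map_zero] at this
      have q1 : (x : A) - x' = 0 := d0 (by
        calc ((x : A) - x') + ((x : A) - x') = (((x : A) - x') + ((y - y') + (z - z'))) +
              (((x : A) - x') + (-(y - y') + -(z - z'))) := by abel
          _ = 0 := by rw [s0, s1, add_zero])
      have q2 : (y : A) - y' = 0 := d0 (by
        calc ((y : A) - y') + ((y : A) - y') = (((x : A) - x') + ((y - y') + (z - z'))) +
              (-((x : A) - x') + ((y - y') + -(z - z'))) := by abel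
          _ = 0 := by rw [s0, s2, add_zero])
      have q3 : (z : A) - z' = 0 := by
        rw [q1, q2, zero_add, zero_add] at s0
        exact s0
      exact Prod.ext (Subtype.ext (sub_eq_zero.mp q1))
        (Prod.ext (Subtype.ext (sub_eq_zero.mp q2)) (Subtype.ext (sub_eq_zero.mp q3)))
    have h1 := Nat.card_le_card_of_injective _ hinj
    rw [Nat.card_prod, Nat.card_prod] at h1
    have h2 : 3 * (3 * 3) ≤ _ := Nat.mul_le_mul (three_le hodd he)
      (Nat.mul_le_mul (three_le hodd ne1) (three_le hodd ne2))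
    omega
  have key2 : ∀ e : A, f2 e = e → f3 e = -e → f1 e = -e → e = 0 := by
    intro e e1 e2 e3
    apply hθ
    apply hθ
    apply key
    · rw [← t3, ← t2, e1]
    · rw [← t1, ← t3, e2, map_neg, map_neg]
    · rw [← t2, ← t1, e3, map_neg, map_neg]
  have key3 : ∀ e : A, f3 e = e → f1 e = -e → f2 e = -e → e = 0 := by
    intro e e1 e2 e3
    apply hθ
    apply key
    · rw [← t3, e1]
    · rw [← t1, e2, map_neg]
    · rw [← t2, e3, map_neg]
  have u1 := key (a + f1 a - f2 a - f3 a) (by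
    rw [map_sub, map_sub, map_add, h11, h12, h13]; abel) (by
    rw [map_sub, map_sub, map_add, h21, h22, h23]; abel) (by
    rw [map_sub, map_sub, map_add, h31, h32, h33]; abel)
  have u2 := key2 (a + f2 a - f1 a - f3 a) (by
    rw [map_sub, map_sub, map_add, h21, h22, h23]; abel) (by
    rw [map_sub, map_sub, map_add, h31, h32, h33]; abel) (by
    rw [map_sub, map_sub, map_add, h11, h12, h13]; abel)
  have u3 := key3 (a + f3 a - f1 a - f2 a) (by
    rw [map_sub, map_sub, map_add, h31, h32, h33]; abel) (by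
    rw [map_sub, map_sub, map_add, h11, h12, h13]; abel) (by
    rw [map_sub, map_sub, map_add, h21, h22, h23]; abel)
  -- `a = f₃ a`
  have v3 : a - f3 a = 0 := d0 (by
    calc (a - f3 a) + (a - f3 a) = (a + f1 a - f2 a - f3 a) + (a + f2 a - f1 a - f3 a) := by abel
      _ = 0 := by rw [u1, u2, add_zero])
  have v2 : a - f2 a = 0 := d0 (by
    calc (a - f2 a) + (a - f2 a) = (a + f1 a - f2 a - f3 a) + (a + f3 a - f1 a - f2 a) := by abel
      _ = 0 := by rw [u1, u3, add_zero])
  have w2 : f2 a = a := (sub_eq_zero.mp v2).symm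
  have w3 : f3 a = a := (sub_eq_zero.mp v3).symm
  have w4 := h32 a
  rw [w2, w3] at w4
  exact w4.symm

end abstractpart

/-- Group form of `eigen`. -/
theorem comm_of_card {X : Type*} [Group X] [Finite X] {E : Subgroup X} (hn : E.Normal)
    (hodd : Odd (Nat.card E)) (h27 : Nat.card E < 27) (hc : ∀ x ∈ E, ∀ y ∈ E, x * y = y * x)
    {f θ : X} (hff : f * f = 1) (h12 : f * (θ * f * θ⁻¹) = θ * f * θ⁻¹ * f)
    (h3 : θ * (θ * f * θ⁻¹) * θ⁻¹ = f * (θ * f * θ⁻¹)) : ∀ e ∈ E, f * e = e * f := by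
  let _ : CommGroup E := { (inferInstance : Group E) with
    mul_comm := fun a b => Subtype.ext (hc a a.2 b b.2) }
  let F : X → (Additive E →+ Additive E) := fun g =>
    { toFun := fun e => Additive.ofMul ⟨g * (e.toMul : X) * g⁻¹, hn.conj_mem _ e.toMul.2 g⟩
      map_zero' := by
        apply Additive.toMul.injective
        apply Subtype.ext
        show g * 1 * g⁻¹ = 1
        group
      map_add' := by
        intro a b
        apply Additive.toMul.injective
        apply Subtype.ext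
        show g * ((a.toMul : X) * b.toMul) * g⁻¹ = (g * a.toMul * g⁻¹) * (g * b.toMul * g⁻¹)
        group }
  have hF : ∀ (g h : X) (a : Additive E), F g (F h a) = F (g * h) a := by
    intro g h a
    apply Additive.toMul.injective
    apply Subtype.ext
    show g * (h * (a.toMul : X) * h⁻¹) * g⁻¹ = (g * h) * a.toMul * (g * h)⁻¹
    group
  have hF1 : ∀ a : Additive E, F 1 a = a := by
    intro a
    apply Additive.toMul.injective
    apply Subtype.ext
    show 1 * (a.toMul : X) * 1⁻¹ = a.toMul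
    group
  have hg : (θ * f * θ⁻¹) * (θ * f * θ⁻¹) = 1 := by
    calc (θ * f * θ⁻¹) * (θ * f * θ⁻¹) = θ * (f * f) * θ⁻¹ := by group
      _ = 1 := by rw [hff]; group
  intro e he
  have h0 := eigen (A := Additive E) hodd h27 (F f) (F (θ * f * θ⁻¹)) (F (f * (θ * f * θ⁻¹))) (F θ)
    (fun a => by rw [hF, hff, hF1]) (fun a => by rw [hF, hg, hF1]) (fun a => by rw [hF])
    (fun a => by rw [hF, ← h12]) (fun a => by rw [hF, hF]; congr 2; group)
    (fun a => by rw [hF, hF, ← h3]; congr 2; group)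
    (fun a => by
      rw [hF, hF]
      congr 2
      calc θ * (f * (θ * f * θ⁻¹)) = (θ * f * θ⁻¹) * (θ * (θ * f * θ⁻¹) * θ⁻¹) * θ := by group
        _ = (θ * f * θ⁻¹) * (θ * f * θ⁻¹ * f) * θ := by rw [h3, h12]
        _ = ((θ * f * θ⁻¹) * (θ * f * θ⁻¹)) * f * θ := by group
        _ = f * θ := by rw [hg, one_mul])
    (fun a ha => by
      have h1 := congrArg (F θ⁻¹) ha
      rwa [hF, inv_mul_cancel, hF1, map_zero] at h1)
    (Additive.ofMul ⟨e, he⟩)
  have h1 : f * e * f⁻¹ = e := congrArg Subtype.val (congrArg Additive.toMul h0)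
  calc f * e = f * e * f⁻¹ * f := by group
    _ = e * f := by rw [h1]

/-- A `p`-group, `p` odd, of order dividing 315 is abelian of order at most 9. -/
theorem comm_of_dvd {X : Type*} [Group X] [Finite X] {p : ℕ} (hp : p.Prime)
    (hP : IsPGroup p X) (h : Nat.card X ∣ 315) :
    Nat.card X < 27 ∧ ∀ x y : X, x * y = y * x := by
  have : Fact p.Prime := ⟨hp⟩
  obtain ⟨n, hn⟩ := IsPGroup.iff_card.mp hP
  rcases Nat.eq_zero_or_pos n with rfl | hn0
  · have h1 : Nat.card X = 1 := by simpa using hn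
    refine ⟨by omega, fun x y => ?_⟩
    have := (Nat.card_eq_one_iff_unique.mp h1).1
    exact Subsingleton.elim _ _
  have hp315 : p ∣ 315 := (Dvd.dvd.trans (dvd_pow_self p (by omega)) (hn ▸ h))
  have h315 : (315 : ℕ) = 3 ^ 2 * 5 * 7 := by norm_num
  have hp' : p = 3 ∨ p = 5 ∨ p = 7 := by
    rw [h315] at hp315
    rcases (Nat.Prime.dvd_mul hp).mp hp315 with h1 | h1
    · rcases (Nat.Prime.dvd_mul hp).mp h1 with h2 | h2
      · exact Or.inl ((Nat.prime_dvd_prime_iff_eq hp Nat.prime_three).mp (hp.dvd_of_dvd_pow h2))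
      · exact Or.inr (Or.inl ((Nat.prime_dvd_prime_iff_eq hp Nat.prime_five).mp h2))
    · exact Or.inr (Or.inr ((Nat.prime_dvd_prime_iff_eq hp (by norm_num)).mp h1))
  have hn2 : n = 1 ∨ (p = 3 ∧ n = 2) := by
    rw [hn] at h
    rcases hp' with rfl | rfl | rfl
    · have : n < 3 := by
        by_contra hc
        have := (pow_dvd_pow 3 (show 3 ≤ n by omega)).trans h
        norm_num at this
      rcases (by omega : n = 1 ∨ n = 2) with h1 | h1
      · exact Or.inl h1
      · exact Or.inr ⟨rfl, h1⟩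
    · have : n < 2 := by
        by_contra hc
        have := (pow_dvd_pow 5 (show 2 ≤ n by omega)).trans h
        norm_num at this
      exact Or.inl (by omega)
    · have : n < 2 := by
        by_contra hc
        have := (pow_dvd_pow 7 (show 2 ≤ n by omega)).trans h
        norm_num at this
      exact Or.inl (by omega)
  rcases hn2 with rfl | ⟨rfl, rfl⟩
  · rw [pow_one] at hn
    refine ⟨by rcases hp' with rfl | rfl | rfl <;> omega, ?_⟩
    have : IsCyclic X := isCyclic_of_prime_card hn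
    intro x y
    have := IsCyclic.isMulCommutative (α := X)
    exact this.is_comm.comm x y
  · refine ⟨by omega, fun x y => ?_⟩
    exact (IsPGroup.isMulCommutative_of_card_eq_prime_sq (p := 3) hn).is_comm.comm x y

variable {G : Type*} [Group G]

/-- **The A₄-lemma.** -/
theorem mem_o2 [Finite G] (hr : SectionalPRankLE 2 4 G) {H : Subgroup G} (hs : Group.IsSolvable H)
    (hc : H ⊓ centralizer (o2 H : Set G) ≤ o2 H) {f θ : G} (hf : f ∈ H) (hθ : θ ∈ H)
    (hff : f * f = 1) (h12 : f * (θ * f * θ⁻¹) = θ * f * θ⁻¹ * f)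
    (h3 : θ * (θ * f * θ⁻¹) * θ⁻¹ = f * (θ * f * θ⁻¹)) : f ∈ o2 H := by
  classical
  have h2 : Fact (Nat.Prime 2) := ⟨Nat.prime_two⟩
  set Q : Subgroup H := pCore 2 H with hQ
  have hQn : Q.Normal := Lib.Cores.pCore_normal 2
  have hQp : IsPGroup 2 Q := Lib.Cores.pCore_isPGroup 2
  let π := QuotientGroup.mk' Q
  have hπ : Function.Surjective π := QuotientGroup.mk'_surjective Q
  have : Group.IsSolvable (H ⧸ Q) := by
    have := hs
    infer_instance
  -- a Sylow 2-subgroup
  obtain ⟨S⟩ : Nonempty (Sylow 2 H) := inferInstance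
  have hd : (S : Subgroup H).index ∣ 315 := by
    have h4 := Cfsg.Agent.SectRankFour.C2.Par.relIndex_dvd hr (S := (S : Subgroup H).map H.subtype)
      (P := H) (S.isPGroup'.map _) (by
        have h5 : (((S : Subgroup H).map H.subtype)).relIndex H = (S : Subgroup H).index := by
          rw [relIndex]
          exact congrArg Subgroup.index (comap_map_eq_self_of_injective H.subtype_injective _)
        rw [h5]
        exact S.not_dvd_index) hc
    have h5 : (((S : Subgroup H).map H.subtype)).relIndex H = (S : Subgroup H).index := by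
      rw [relIndex]
      exact congrArg Subgroup.index (comap_map_eq_self_of_injective H.subtype_injective _)
    rwa [h5] at h4
  -- the image of `f` centralises `F(H/Q)`
  have key : π ⟨f, hf⟩ ∈ centralizer (fittingSubgroup (H ⧸ Q) : Set (H ⧸ Q)) := by
    have h4 : fittingSubgroup (H ⧸ Q) ≤ centralizer {π ⟨f, hf⟩} := by
      rw [Lib.Cores.fittingSubgroup_eq_iSup_pCore]
      refine iSup_le fun p => ?_
      have hp : Fact (p : ℕ).Prime := ⟨p.2⟩
      by_cases hp2 : (p : ℕ) = 2
      · rw [hp2]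
        have h5 : pCore 2 (H ⧸ Q) = ⊥ := Lib.Cores.pCore_quotient_pCore 2
        rw [h5]
        exact bot_le
      · have hEp := Lib.Cores.pCore_isPGroup (G := H ⧸ Q) (p : ℕ)
        have hEn : (pCore (p : ℕ) (H ⧸ Q)).Normal := Lib.Cores.pCore_normal _
        obtain ⟨n, hn⟩ := IsPGroup.iff_card.mp hEp
        have hodd : Nat.Coprime (Nat.card (pCore (p : ℕ) (H ⧸ Q))) 2 := by
          rw [hn]
          exact Nat.Coprime.pow_left n ((Nat.coprime_primes p.2 Nat.prime_two).mpr hp2)
        have hdv : Nat.card (pCore (p : ℕ) (H ⧸ Q)) ∣ 315 := by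
          have h6 : Nat.card (pCore (p : ℕ) (H ⧸ Q)) ∣ Nat.card (H ⧸ Q) := card_subgroup_dvd_card _
          have h7 : Nat.card (H ⧸ Q) ∣ Nat.card H := Subgroup.card_quotient_dvd_card Q
          have h8 := h6.trans h7
          rw [← (S : Subgroup H).card_mul_index] at h8
          obtain ⟨m, hm⟩ := IsPGroup.iff_card.mp S.isPGroup'
          rw [hm] at h8
          exact (Nat.Coprime.dvd_of_dvd_mul_left (Nat.Coprime.pow_right m hodd) h8).trans hd
        obtain ⟨hlt, hcomm⟩ := comm_of_dvd p.2 hEp hdv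
        intro e he
        rw [mem_centralizer_singleton_iff]
        refine (comm_of_card hEn (Nat.coprime_two_right.mp hodd) hlt (fun x hx y hy => ?_)
          (f := π ⟨f, hf⟩) (θ := π ⟨θ, hθ⟩) ?_ ?_ ?_ e he).symm
        · exact congrArg Subtype.val (hcomm ⟨x, hx⟩ ⟨y, hy⟩)
        · rw [← map_mul]
          have : (⟨f, hf⟩ : H) * ⟨f, hf⟩ = 1 := Subtype.ext hff
          rw [this, map_one]
        · rw [← map_inv, ← map_mul, ← map_mul, ← map_mul, ← map_mul]
          congr 1
          exact Subtype.ext h12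
        · rw [← map_inv, ← map_mul, ← map_mul, ← map_mul, ← map_mul, ← map_mul]
          congr 1
          exact Subtype.ext h3
    rw [mem_centralizer_iff]
    intro y hy
    exact mem_centralizer_singleton_iff.mp (h4 hy)
  have h4 := Cfsg.Agent.S0044.result key
  -- `F(H/Q)` has odd order
  have h5 : Nat.Coprime (Nat.card (fittingSubgroup (H ⧸ Q))) 2 := by
    have h6 : fittingSubgroup (H ⧸ Q) ≤ pPrimeCore 2 (H ⧸ Q) := by
      rw [Lib.Cores.fittingSubgroup_eq_iSup_pCore]
      refine iSup_le fun p => ?_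
      have hp : Fact (p : ℕ).Prime := ⟨p.2⟩
      by_cases hp2 : (p : ℕ) = 2
      · rw [hp2, Lib.Cores.pCore_quotient_pCore 2]
        exact bot_le
      · refine Lib.Cores.le_pPrimeCore (Lib.Cores.pCore_normal _) ?_
        obtain ⟨n, hn⟩ := IsPGroup.iff_card.mp (Lib.Cores.pCore_isPGroup (G := H ⧸ Q) (p : ℕ))
        rw [hn]
        exact Nat.Coprime.pow_left n ((Nat.coprime_primes p.2 Nat.prime_two).mpr hp2)
    exact Nat.Coprime.coprime_dvd_left (Subgroup.card_dvd_of_le h6)
      (Lib.Cores.pPrimeCore_coprime (G := H ⧸ Q) 2)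
  have h6 : π ⟨f, hf⟩ = 1 := by
    have h7 : orderOf (π ⟨f, hf⟩) ∣ 2 := orderOf_dvd_of_pow_eq_one (by
      rw [← map_pow]
      have : (⟨f, hf⟩ : H) ^ 2 = 1 := Subtype.ext (by
        show f ^ 2 = 1
        rw [pow_two]; exact hff)
      rw [this, map_one])
    have h8 : orderOf (π ⟨f, hf⟩) ∣ Nat.card (fittingSubgroup (H ⧸ Q)) := by
      have := orderOf_dvd_natCard (⟨π ⟨f, hf⟩, h4⟩ : fittingSubgroup (H ⧸ Q))
      rwa [Subgroup.orderOf_mk] at this
    exact orderOf_eq_one_iff.mp (Nat.eq_one_of_dvd_coprimes h5 h8 h7)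
  have h7 : (⟨f, hf⟩ : H) ∈ Q := (QuotientGroup.eq_one_iff _).mp h6
  exact ⟨⟨f, hf⟩, h7, rfl⟩

end Cfsg.Agent.GH.AFour
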