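import Cfsg.Agent.GH.Defs

/-!
# PROJECT GH (S0500): the statements of the branches

Every branch concludes `Out G`.  `Assembly.lean` puts them together.
-/

set_option autoImplicit false

open Cfsg Subgroup
open Cfsg.Agent.GH.Defs

namespace Cfsg.Agent.GH.Branches

universe u

/-- `PSL₃(3)`. -/
def IsL33 (X : Type*) [Group X] : Prop :=
  ∃ (F : Type) (_ : Field F) (_ : Fintype F), Fintype.card F = 3 ∧
    Nonempty (X ≃* Matrix.ProjectiveSpecialLinearGroup (Fin 3) F)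

/-- `PSU₃(3)`. -/
def IsU33 (X : Type*) [Group X] : Prop :=
  ∃ (F : Type) (_ : Field F) (_ : Fintype F), Fintype.card F = 9 ∧ Nonempty (X ≃* Cfsg.PSU 3 F 3)

/-- Tops of the branch GH-L3. -/
def Top3 (X : Type*) [Group X] : Prop := IsL33 X ∨ IsU33 X ∨ Spor.IsoM11 X

/-- Tops of the branch GH-L2. -/
def Top2 (X : Type*) [Group X] : Prop := IsL2odd X ∨ IsAlt 7 X

/-- All 2-locals are solvable. -/
def LocSolv (G : Type*) [Group G] : Prop := ∀ N : Subgroup G, IsTwoLocal N → Group.IsSolvable N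

/-- The groups of `K4` of 2-rank at least 3 (definitionally `AssemblyK4.K4r`). -/
def K4big (X : Type*) [Group X] : Prop :=
  IsU34 X ∨ K3 X ∨ IsL216 X ∨ IsL34 X ∨ (∃ n, 8 ≤ n ∧ n ≤ 11 ∧ IsAlt n X) ∨
    IsSp4odd X ∨ IsL4odd X ∨ IsU4odd X ∨ IsL5odd X ∨ IsU5odd X ∨
    (IsG2odd X ∧ AllG2 X) ∨ (IsD4odd X ∧ AllG2 X) ∨
    Spor.IsoM12 X ∨ Spor.IsoM22 X ∨ Spor.IsoM23 X ∨ Spor.IsoJ2 X ∨ Spor.IsoJ3 X ∨ HasAltCover X

/-- The conclusion of every branch. -/
def Out (G : Type*) [Group G] : Prop := GType G ∨ K4big G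

/-- [GH-Q + GH-COV] some 2-component of an involution centralizer has even centre -/
def BranchEC : Prop := ∀ (G : Type u) [Group G] [Finite G], Hyp G →
  (∃ (x : G) (K : Subgroup G), Comp2 x K ∧ EvenCenter K) → Out G

/-- [GH-E] -/
def BranchE : Prop := ∀ (G : Type u) [Group G] [Finite G], Hyp G → AllOdd G →
  (∃ (x : G) (K : Subgroup G), Comp2 x K ∧ K3 (STop K)) → Out G

/-- [odd tops] `PSL₃(q)`, `PSU₃(q)` with `q > 3` lead to even centres -/
def BranchTop : Prop := ∀ (G : Type u) [Group G] [Finite G], Hyp G → AllOdd G →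
  ∀ (x : G) (K : Subgroup G), Comp2 x K → SectionalPRankLE 2 3 (STop K) →
    K2 (STop K) → Top2 (STop K) ∨ Top3 (STop K)

/-- [GH-L3] -/
def BranchL3 : Prop := ∀ (G : Type u) [Group G] [Finite G], Hyp G → AllOdd G →
  (∀ (x : G) (K : Subgroup G), Comp2 x K → Top2 (STop K) ∨ Top3 (STop K)) →
  (∃ (x : G) (K : Subgroup G), Comp2 x K ∧ Top3 (STop K)) → Out G

/-- [GH-L2] -/
def BranchL2 : Prop := ∀ (G : Type u) [Group G] [Finite G], Hyp G → AllOdd G →
  (∀ (x : G) (K : Subgroup G), Comp2 x K → Top2 (STop K)) →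
  (∃ (x : G) (K : Subgroup G), Comp2 x K) → Out G

/-- [GH-C2] -/
def BranchC2 : Prop := ∀ (G : Type u) [Group G] [Finite G], Hyp G →
  IsCharacteristicTwoType G → ¬ LocSolv G → Out G

end Cfsg.Agent.GH.Branches
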