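import Mathlib
import Cfsg.Prelude.Def_CaseTheorems
import Cfsg.Prelude.Def_Classical
import Cfsg.Agent.TwoFusion.SectionalRank

/-!
# Lower bounds for the sectional `2`-rank (GH-0, S0500)

`five` : two commuting pairs `x, y` and `u, v` with the same commutator `t` (a central involution of
`⟨x, y, u, v, z⟩`), squares in `{1, t}` and an element `z` commuting with them, `z² ∈ {1, t}`,
`z ∉ {1, t}`: the sectional `2`-rank is at least `5`.
`mat_four`, `mat_five` : the two matrix configurations (in a group of `4 × 4`, resp. `5 × 5` matrices).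
-/

set_option autoImplicit false
set_option maxHeartbeats 400000

namespace Cfsg.Agent.GH.Extra

open Cfsg Subgroup Cfsg.Agent.TwoFusion.SectionalRank

variable {G : Type*} [Group G]

/-- The elements of `C(t)` whose commutator with `b ∈ C(t)` is in `{1, t}`. -/
def comSub (t b : G) (htt : t * t = 1) (hb : b * t = t * b) : Subgroup G where
  carrier := {a | a * t = t * a ∧ (a * b = b * a ∨ a * b = b * a * t)}
  one_mem' := by simp
  mul_mem' := by
    rintro a a' ⟨h1, h2⟩ ⟨h1', h2'⟩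
    refine ⟨by rw [mul_assoc, h1', ← mul_assoc, h1, mul_assoc], ?_⟩
    rcases h2 with h2 | h2 <;> rcases h2' with h2' | h2'
    · left
      rw [mul_assoc, h2', ← mul_assoc, h2, mul_assoc]
    · right
      rw [mul_assoc, h2', ← mul_assoc, ← mul_assoc, h2, mul_assoc b a a']
    · right
      rw [mul_assoc, h2', ← mul_assoc, h2, mul_assoc, ← h1', ← mul_assoc, mul_assoc b a a']
    · left
      calc a * a' * b = a * (a' * b) := mul_assoc _ _ _
        _ = a * (b * a' * t) := by rw [h2']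
        _ = (a * b) * (a' * t) := by group
        _ = (b * a * t) * (a' * t) := by rw [h2]
        _ = b * a * (t * a') * t := by group
        _ = b * a * (a' * t) * t := by rw [h1']
        _ = b * a * a' * (t * t) := by group
        _ = b * (a * a') := by rw [htt]; group
  inv_mem' := by
    rintro a ⟨h1, h2⟩
    have h3 : a⁻¹ * t = t * a⁻¹ := by
      rw [inv_mul_eq_iff_eq_mul, ← mul_assoc, h1, mul_inv_cancel_right]
    refine ⟨h3, ?_⟩
    rcases h2 with h2 | h2
    · left
      rw [inv_mul_eq_iff_eq_mul, ← mul_assoc, h2, mul_inv_cancel_right]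
    · right
      rw [inv_mul_eq_iff_eq_mul]
      calc b = b * a * a⁻¹ := by group
        _ = b * a * (t * t) * a⁻¹ := by rw [htt, mul_one]
        _ = (b * a * t) * (t * a⁻¹) := by group
        _ = (a * b) * (a⁻¹ * t) := by rw [h2, h3]
        _ = a * (b * a⁻¹ * t) := by group

theorem mem_comSub {t b : G} {htt : t * t = 1} {hb : b * t = t * b} {a : G} :
    a ∈ comSub t b htt hb ↔ a * t = t * a ∧ (a * b = b * a ∨ a * b = b * a * t) := Iff.rfl

/-- `{1, t}` for an involution. -/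
def two (t : G) (htt : t * t = 1) : Subgroup G where
  carrier := {a | a = 1 ∨ a = t}
  one_mem' := Or.inl rfl
  mul_mem' := by
    rintro a b (rfl | rfl) (rfl | rfl)
    · left; simp
    · right; simp
    · right; simp
    · left; exact htt
  inv_mem' := by
    rintro a (rfl | rfl)
    · left; simp
    · right; exact inv_eq_of_mul_eq_one_right htt

theorem mem_two {t : G} {htt : t * t = 1} {a : G} : a ∈ two t htt ↔ a = 1 ∨ a = t := Iff.rfl

theorem card_lt_of_lt [Finite G] {A B : Subgroup G} (h : A < B) :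
    2 * Nat.card A ≤ Nat.card B := by
  obtain ⟨k, hk⟩ := card_dvd_of_le h.le
  have h0 : 0 < Nat.card A := Nat.card_pos
  have h1 : k ≠ 0 := by
    rintro rfl
    have : 0 < Nat.card B := Nat.card_pos
    omega
  have h2 : k ≠ 1 := by
    rintro rfl
    rw [mul_one] at hk
    exact h.ne (eq_of_le_of_card_ge h.le hk.le)
  have h3 : 2 ≤ k := by omega
  calc 2 * Nat.card A = Nat.card A * 2 := mul_comm _ _
    _ ≤ Nat.card A * k := Nat.mul_le_mul_left _ h3
    _ = Nat.card B := hk.symm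

theorem lt_sup {A : Subgroup G} {g : G} (h : g ∉ A) : A < A ⊔ zpowers g :=
  lt_of_le_of_ne le_sup_left fun he => h (by
    rw [he]
    exact le_sup_right (a := A) (mem_zpowers g))

theorem sup_le_cent {A : Subgroup G} {g b : G} (h : A ≤ centralizer {b}) (hg : g * b = b * g) :
    A ⊔ zpowers g ≤ centralizer {b} :=
  sup_le h (by
    rw [zpowers_le, mem_centralizer_singleton_iff]
    exact hg)

/-- The criterion: sectional `2`-rank at least five. -/
theorem five [Finite G] (h : SectionalPRankLE 2 4 G) {x y u v z t : G}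
    (htt : t * t = 1) (ht : t ≠ 1)
    (hx : x * t = t * x) (hy : y * t = t * y) (hu : u * t = t * u) (hv : v * t = t * v)
    (hz : z * t = t * z)
    (hxx : x * x = 1 ∨ x * x = t) (hyy : y * y = 1 ∨ y * y = t) (huu : u * u = 1 ∨ u * u = t)
    (hvv : v * v = 1 ∨ v * v = t) (hzz : z * z = 1 ∨ z * z = t)
    (hxy : x * y = y * x * t) (huv : u * v = v * u * t)
    (hxu : x * u = u * x) (hxv : x * v = v * x) (hyu : y * u = u * y) (hyv : y * v = v * y)
    (hxz : x * z = z * x) (hyz : y * z = z * y) (huz : u * z = z * u) (hvz : v * z = z * v)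
    (hz1 : z ≠ 1) (hzt : z ≠ t) : False := by
  have hyx : y * x = x * y * t := by
    rw [hxy, mul_assoc, htt, mul_one]
  have hvu : v * u = u * v * t := by
    rw [huv, mul_assoc, htt, mul_one]
  have nxy : x * y ≠ y * x := by
    intro he
    rw [he] at hxy
    exact ht (left_eq_mul.1 hxy)
  have nuv : u * v ≠ v * u := by
    intro he
    rw [he] at huv
    exact ht (left_eq_mul.1 huv)
  -- the chain
  let K0 : Subgroup G := two t htt
  let K1 := K0 ⊔ zpowers z
  let K2 := K1 ⊔ zpowers x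
  let K3 := K2 ⊔ zpowers y
  let K4 := K3 ⊔ zpowers u
  let K5 := K4 ⊔ zpowers v
  have c0 : ∀ b : G, b * t = t * b → K0 ≤ centralizer {b} := by
    intro b hb a ha
    rw [mem_centralizer_singleton_iff]
    rcases (mem_two.1 ha) with rfl | rfl
    · simp
    · exact hb.symm
  have l1 : K0 < K1 := lt_sup (by
    change ¬ (z = 1 ∨ z = t)
    tauto)
  have l2 : K1 < K2 := lt_sup (by
    intro hm
    have h1 : K1 ≤ centralizer {y} := sup_le_cent (c0 y hy) hyz.symm
    have h2 := mem_centralizer_singleton_iff.1 (h1 hm)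
    exact nxy h2)
  have l3 : K2 < K3 := lt_sup (by
    intro hm
    have h1 : K2 ≤ centralizer {x} := sup_le_cent (sup_le_cent (c0 x hx) hxz.symm) rfl
    have h2 := mem_centralizer_singleton_iff.1 (h1 hm)
    exact nxy h2.symm)
  have l4 : K3 < K4 := lt_sup (by
    intro hm
    have h1 : K3 ≤ centralizer {v} :=
      sup_le_cent (sup_le_cent (sup_le_cent (c0 v hv) hvz.symm) hxv) hyv
    have h2 := mem_centralizer_singleton_iff.1 (h1 hm)
    exact nuv h2)
  have l5 : K4 < K5 := lt_sup (by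
    intro hm
    have h1 : K4 ≤ centralizer {u} :=
      sup_le_cent (sup_le_cent (sup_le_cent (sup_le_cent (c0 u hu) huz.symm) hxu) hyu) rfl
    have h2 := mem_centralizer_singleton_iff.1 (h1 hm)
    exact nuv h2.symm)
  have hgen : ∀ P : Subgroup G, t ∈ P → z ∈ P → x ∈ P → y ∈ P → u ∈ P → v ∈ P → K5 ≤ P := by
    intro P ht' hz' hx' hy' hu' hv'
    refine sup_le (sup_le (sup_le (sup_le (sup_le ?_ ?_) ?_) ?_) ?_) ?_
    · intro a ha
      rcases (mem_two.1 ha) with rfl | rfl
      · exact P.one_mem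
      · exact ht'
    all_goals rw [zpowers_le]; assumption
  -- commutators
  have kt : K5 ≤ comSub t t htt rfl := hgen _ ⟨rfl, Or.inl rfl⟩ ⟨hz, Or.inl hz⟩ ⟨hx, Or.inl hx⟩
    ⟨hy, Or.inl hy⟩ ⟨hu, Or.inl hu⟩ ⟨hv, Or.inl hv⟩
  have kz : K5 ≤ comSub t z htt hz := hgen _ ⟨rfl, Or.inl hz.symm⟩ ⟨hz, Or.inl rfl⟩
    ⟨hx, Or.inl hxz⟩ ⟨hy, Or.inl hyz⟩ ⟨hu, Or.inl huz⟩ ⟨hv, Or.inl hvz⟩
  have kx : K5 ≤ comSub t x htt hx := hgen _ ⟨rfl, Or.inl hx.symm⟩ ⟨hz, Or.inl hxz.symm⟩
    ⟨hx, Or.inl rfl⟩ ⟨hy, Or.inr hyx⟩ ⟨hu, Or.inl hxu.symm⟩ ⟨hv, Or.inl hxv.symm⟩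
  have ky : K5 ≤ comSub t y htt hy := hgen _ ⟨rfl, Or.inl hy.symm⟩ ⟨hz, Or.inl hyz.symm⟩
    ⟨hx, Or.inr hxy⟩ ⟨hy, Or.inl rfl⟩ ⟨hu, Or.inl hyu.symm⟩ ⟨hv, Or.inl hyv.symm⟩
  have ku : K5 ≤ comSub t u htt hu := hgen _ ⟨rfl, Or.inl hu.symm⟩ ⟨hz, Or.inl huz.symm⟩
    ⟨hx, Or.inl hxu⟩ ⟨hy, Or.inl hyu⟩ ⟨hu, Or.inl rfl⟩ ⟨hv, Or.inr hvu⟩
  have kv : K5 ≤ comSub t v htt hv := hgen _ ⟨rfl, Or.inl hv.symm⟩ ⟨hz, Or.inl hvz.symm⟩
    ⟨hx, Or.inl hxv⟩ ⟨hy, Or.inl hyv⟩ ⟨hu, Or.inr huv⟩ ⟨hv, Or.inl rfl⟩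
  have flip : ∀ {a b : G}, (a * b = b * a ∨ a * b = b * a * t) →
      (b * a = a * b ∨ b * a = a * b * t) := by
    intro a b hab
    rcases hab with hab | hab
    · exact Or.inl hab.symm
    · right
      rw [hab, mul_assoc, htt, mul_one]
  have k2 : ∀ a ∈ K5, ∀ b ∈ K5, b * a = a * b ∨ b * a = a * b * t := by
    intro a ha b hb
    have hat : a * t = t * a := (kt ha).1
    have h1 : K5 ≤ comSub t a htt hat := hgen _ ⟨rfl, flip (kt ha).2⟩ ⟨hz, flip (kz ha).2⟩
      ⟨hx, flip (kx ha).2⟩ ⟨hy, flip (ky ha).2⟩ ⟨hu, flip (ku ha).2⟩ ⟨hv, flip (kv ha).2⟩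
    exact (h1 hb).2
  let Q : Subgroup G :=
    { carrier := {a | a ∈ K5 ∧ (a * a = 1 ∨ a * a = t)}
      one_mem' := ⟨K5.one_mem, by simp⟩
      mul_mem' := by
        rintro a b ⟨ha, haa⟩ ⟨hb, hbb⟩
        refine ⟨K5.mul_mem ha hb, ?_⟩
        have hbt : b * t = t * b := (kt hb).1
        have h1 : (a * b) * (a * b) = a * (b * a) * b := by group
        have h2 : a * (a * b) * b = (a * a) * (b * b) := by group
        have h3 : a * (a * b * t) * b = (a * a) * (b * b) * t := by
          calc a * (a * b * t) * b = (a * a) * (b * (t * b)) := by group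
            _ = (a * a) * (b * (b * t)) := by rw [hbt]
            _ = _ := by group
        rw [h1]
        rcases k2 a ha b hb with h4 | h4
        · rw [h4, h2]
          rcases haa with haa | haa <;> rcases hbb with hbb | hbb <;> rw [haa, hbb] <;> simp [htt]
        · rw [h4, h3]
          rcases haa with haa | haa <;> rcases hbb with hbb | hbb <;> rw [haa, hbb] <;> simp [htt]
      inv_mem' := by
        rintro a ⟨ha, haa⟩
        refine ⟨K5.inv_mem ha, ?_⟩
        have h1 : a⁻¹ * a⁻¹ = (a * a)⁻¹ := by group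
        rw [h1]
        rcases haa with haa | haa
        · left
          rw [haa, inv_one]
        · right
          rw [haa]
          exact inv_eq_of_mul_eq_one_right htt }
  have hzK : z ∈ K5 := by
    have h1 : z ∈ K1 := le_sup_right (a := K0) (mem_zpowers z)
    exact l5.le (l4.le (l3.le (l2.le h1)))
  have hxK : x ∈ K5 := by
    have h1 : x ∈ K2 := le_sup_right (a := K1) (mem_zpowers x)
    exact l5.le (l4.le (l3.le h1))
  have hyK : y ∈ K5 := by
    have h1 : y ∈ K3 := le_sup_right (a := K2) (mem_zpowers y)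
    exact l5.le (l4.le h1)
  have huK : u ∈ K5 := by
    have h1 : u ∈ K4 := le_sup_right (a := K3) (mem_zpowers u)
    exact l5.le h1
  have hvK : v ∈ K5 := le_sup_right (a := K4) (mem_zpowers v)
  have htK : t ∈ K5 := l5.le (l4.le (l3.le (l2.le (l1.le (Or.inr rfl)))))
  have hQ : K5 ≤ Q := hgen _ ⟨htK, Or.inl htt⟩ ⟨hzK, hzz⟩ ⟨hxK, hxx⟩ ⟨hyK, hyy⟩ ⟨huK, huu⟩
    ⟨hvK, hvv⟩
  have sec : ElemSection 2 K5 K0 := by
    refine ⟨le_trans l1.le (le_trans l2.le (le_trans l3.le (le_trans l4.le l5.le))), ?_, ?_⟩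
    · intro a ha b hb
      have hat : a * t = t * a := (kt ha).1
      have hbt : b * t = t * b := (kt hb).1
      rcases k2 b hb a ha with h1 | h1
      · left
        rw [h1]
        group
      · right
        rw [h1]
        calc b * a * t * a⁻¹ * b⁻¹ = b * (a * t) * a⁻¹ * b⁻¹ := by group
          _ = b * (t * a) * a⁻¹ * b⁻¹ := by rw [hat]
          _ = b * t * b⁻¹ := by group
          _ = t * b * b⁻¹ := by rw [hbt]
          _ = t := by group
    · intro a ha
      have h1 := (hQ ha).2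
      rw [pow_two]
      exact h1
  have h1 := sectionalPRankLE_iff.1 h K5 K0 sec
  have e1 := card_lt_of_lt l1
  have e2 := card_lt_of_lt l2
  have e3 := card_lt_of_lt l3
  have e4 := card_lt_of_lt l4
  have e5 := card_lt_of_lt l5
  have e0 : 0 < Nat.card K0 := Nat.card_pos
  omega

end Cfsg.Agent.GH.Extra
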