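import Mathlib
import Cfsg.Prelude.Def_Classical
import Cfsg.Agent.GH.Rank
import Cfsg.Agent.GH.Extra

/-!
# Lower bounds for the sectional `2`-rank of simple groups (GH-0, S0500)

`four` : an extraspecial section of order `32` gives sectional `2`-rank at least `4`.
`psl_four`, `psp_four`, `psl_five` (odd characteristic), `psl_two_sixteen`, `psl_three_four`.
-/

set_option autoImplicit false
set_option maxHeartbeats 400000

namespace Cfsg.Agent.GH.LowRank

open Cfsg Subgroup Cfsg.Agent.TwoFusion.SectionalRank Cfsg.Agent.GH.Rank Matrix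

variable {G : Type*} [Group G]

/-- An extraspecial configuration of width two: the sectional `2`-rank is at least `4`. -/
theorem four [Finite G] (h : SectionalPRankLE 2 3 G) {x y u v t : G}
    (htt : t * t = 1) (ht : t ≠ 1)
    (hx : x * t = t * x) (hy : y * t = t * y) (hu : u * t = t * u) (hv : v * t = t * v)
    (hxx : x * x = 1 ∨ x * x = t) (hyy : y * y = 1 ∨ y * y = t) (huu : u * u = 1 ∨ u * u = t)
    (hvv : v * v = 1 ∨ v * v = t)
    (hxy : x * y = y * x * t) (huv : u * v = v * u * t)
    (hxu : x * u = u * x) (hxv : x * v = v * x) (hyu : y * u = u * y) (hyv : y * v = v * y) :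
    False := by
  have h2 : SectionalPRankLE 2 4 (G × Multiplicative (ZMod 2)) := by
    have h3 : srank 2 G ≤ 3 := (srank_le_iff one_lt_two).2 h
    have h4 : srank 2 (Multiplicative (ZMod 2)) ≤ 1 := by
      rw [srank_le_iff one_lt_two]
      apply sectionalPRankLE_of_card_le
      rw [Nat.card_eq_fintype_card]
      exact le_of_eq (ZMod.card 2)
    rw [← srank_le_iff one_lt_two, srank_prod Nat.prime_two]
    omega
  have P : ∀ {a b : G}, a = b → ((a, 1) : G × Multiplicative (ZMod 2)) = (b, 1) := by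
    rintro a b rfl
    rfl
  have Q : ∀ {a b c : G}, (a = b ∨ a = c) →
      (((a, 1) : G × Multiplicative (ZMod 2)) = (b, 1) ∨
        ((a, 1) : G × Multiplicative (ZMod 2)) = (c, 1)) := by
    intro a b c h
    exact h.imp P P
  have R : (Multiplicative.ofAdd (1 : ZMod 2)) * Multiplicative.ofAdd 1 = 1 := by decide
  have R' : Multiplicative.ofAdd (1 : ZMod 2) ≠ 1 := by decide
  have M : ∀ a b : G, ((a, 1) : G × Multiplicative (ZMod 2)) * (b, 1) = (a * b, 1) := by
    intro a b
    rfl
  refine Cfsg.Agent.GH.Extra.five h2 (x := (x, 1)) (y := (y, 1)) (u := (u, 1)) (v := (v, 1))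
    (z := (1, Multiplicative.ofAdd 1)) (t := (t, 1)) (P htt) ?_ (P hx) (P hy) (P hu) (P hv)
    ?_ ?_ ?_ ?_ ?_ ?_ (P hxy) (P huv) (P hxu) (P hxv) (P hyu) (P hyv)
    ?_ ?_ ?_ ?_ ?_ ?_
  · intro h1
    exact ht (congrArg Prod.fst h1)
  · simp
  · rw [M]
    exact Q hxx
  · rw [M]
    exact Q hyy
  · rw [M]
    exact Q huu
  · rw [M]
    exact Q hvv
  · left
    exact Prod.ext (by simp) R
  · simp
  · simp
  · simp
  · simp
  · intro h1
    exact R' (congrArg Prod.snd h1)
  · intro h1
    exact R' (congrArg Prod.snd h1)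

/-- The same in the group modulo the centre. -/
theorem four_of_prod {Q S : Type*} [Group Q] [Group S] [Finite S]
    (h : SectionalPRankLE 2 3 (S ⧸ center S)) (φ : Q × Q →* S) {i j m : Q}
    (hm : m * m = 1) (hii : i * i = m) (hjj : j * j = m) (hij : i * j = j * i * m)
    (hc : φ (m, m) ∈ center S) (hn : φ (m, 1) ∉ center S) : False := by
  have him : i * m = m * i := by rw [← hii, mul_assoc]
  have hjm : j * m = m * j := by rw [← hjj, mul_assoc]
  let f : Q × Q →* S ⧸ center S := (QuotientGroup.mk' (center S)).comp φ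
  have e : f (1, m) = f (m, 1) := by
    have h1 : f (m, m) = 1 := (QuotientGroup.eq_one_iff _).2 hc
    have h2 : ((1, m) : Q × Q) = (m, m) * (m, 1) := by
      refine Prod.ext ?_ ?_
      · simp [hm]
      · simp
    rw [h2, map_mul, h1, one_mul]
  refine four h (x := f (i, 1)) (y := f (j, 1)) (u := f (1, i)) (v := f (1, j)) (t := f (m, 1))
    ?_ ?_ ?_ ?_ ?_ ?_ (Or.inr ?_) (Or.inr ?_) (Or.inr ?_) (Or.inr ?_) ?_ ?_ ?_ ?_ ?_ ?_
  · rw [← map_mul, ← map_one f]
    congr 1
    exact Prod.ext (by simp [hm]) (by simp)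
  · intro h1
    exact hn ((QuotientGroup.eq_one_iff _).1 h1)
  · rw [← map_mul, ← map_mul]
    congr 1
    exact Prod.ext (by simp [him]) (by simp)
  · rw [← map_mul, ← map_mul]
    congr 1
    exact Prod.ext (by simp [hjm]) (by simp)
  · rw [← map_mul, ← map_mul]
    congr 1
    exact Prod.ext (by simp) (by simp)
  · rw [← map_mul, ← map_mul]
    congr 1
    exact Prod.ext (by simp) (by simp)
  · rw [← map_mul]
    congr 1
    exact Prod.ext (by simp [hii]) (by simp)
  · rw [← map_mul]
    congr 1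
    exact Prod.ext (by simp [hjj]) (by simp)
  · rw [← e, ← map_mul]
    congr 1
    exact Prod.ext (by simp) (by simp [hii])
  · rw [← e, ← map_mul]
    congr 1
    exact Prod.ext (by simp) (by simp [hjj])
  · rw [← map_mul, ← map_mul, ← map_mul]
    congr 1
    exact Prod.ext (by simp [hij]) (by simp)
  · rw [← e, ← map_mul, ← map_mul, ← map_mul]
    congr 1
    exact Prod.ext (by simp) (by simp [hij])
  all_goals
    rw [← map_mul, ← map_mul]
    congr 1
    exact Prod.ext (by simp) (by simp)

/-- An elementary abelian subgroup of order `16`. -/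
theorem false_of_card [Finite G] {E : Type*} [CommGroup E] (h : SectionalPRankLE 2 3 G)
    (f : E →* G) (hf : Function.Injective f) (h2 : ∀ e : E, e ^ 2 = 1) (hc : Nat.card E = 16) :
    False := by
  have := card_le_of_homs h f (MonoidHom.id E) (fun e => ⟨e, rfl⟩)
    (fun m hm => (injective_iff_map_eq_one f).1 hf m hm) h2
  omega

section mats

variable {F : Type*} [Field F]

abbrev SL2 (F : Type*) [Field F] := Matrix.SpecialLinearGroup (Fin 2) F

/-- A quaternion pair in `SL(2, F)`, `F` finite. -/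
theorem exists_quat [Finite F] : ∃ i j : SL2 F, i * i = -1 ∧ j * j = -1 ∧ i * j = j * i * -1 := by
  obtain ⟨a, b, hab⟩ : ∃ a b : F, a ^ 2 + b ^ 2 = -1 := by
    obtain ⟨p, hpc⟩ := CharP.exists F
    have : CharP F p := hpc
    have hp : p.Prime := CharP.char_is_prime F p
    have : NeZero p := ⟨hp.ne_zero⟩
    obtain ⟨a, b, hab⟩ := CharP.sq_add_sq F p (-1)
    refine ⟨a, b, ?_⟩
    rw [hab]; push_cast; rfl
  refine ⟨⟨!![0, 1; -1, 0], by simp [Matrix.det_fin_two_of]⟩,
    ⟨!![a, b; b, -a], by simp only [Matrix.det_fin_two_of]; linear_combination -hab⟩, ?_, ?_, ?_⟩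
  · apply Subtype.ext
    change !![0, 1; -1, 0] * !![0, 1; -1, 0] = (-1 : Matrix (Fin 2) (Fin 2) F)
    rw [Matrix.mul_fin_two]
    ext i j
    fin_cases i <;> fin_cases j <;> simp
  · apply Subtype.ext
    change !![a, b; b, -a] * !![a, b; b, -a] = (-1 : Matrix (Fin 2) (Fin 2) F)
    rw [Matrix.mul_fin_two]
    ext i j
    fin_cases i <;> fin_cases j <;> simp
    · linear_combination hab
    · ring
    · ring
    · linear_combination hab
  · apply Subtype.ext
    change !![0, 1; -1, 0] * !![a, b; b, -a] =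
      !![a, b; b, -a] * !![0, 1; -1, 0] * (-1 : Matrix (Fin 2) (Fin 2) F)
    rw [Matrix.mul_fin_two, Matrix.mul_fin_two]
    ext i j
    fin_cases i <;> fin_cases j <;> simp

/-- Block diagonal matrices. -/
def m4 (A B : Matrix (Fin 2) (Fin 2) F) : Matrix (Fin 4) (Fin 4) F :=
  !![A 0 0, A 0 1, 0, 0; A 1 0, A 1 1, 0, 0; 0, 0, B 0 0, B 0 1; 0, 0, B 1 0, B 1 1]

theorem m4_mul (A B A' B' : Matrix (Fin 2) (Fin 2) F) :
    m4 (A * A') (B * B') = m4 A B * m4 A' B' := by
  ext i j
  fin_cases i <;> fin_cases j <;> simp [m4, Matrix.mul_apply, Fin.sum_univ_succ]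

theorem m4_det (A B : Matrix (Fin 2) (Fin 2) F) : (m4 A B).det = A.det * B.det := by
  rw [Matrix.det_fin_two, Matrix.det_fin_two, m4, Matrix.det_succ_row_zero]
  simp [Fin.sum_univ_succ, Matrix.det_fin_three, Matrix.submatrix, Fin.succAbove]
  ring

/-- Block diagonal embedding in `SL(4, F)`. -/
def blk4 : SL2 F × SL2 F →* Matrix.SpecialLinearGroup (Fin 4) F :=
  MonoidHom.mk' (fun x => ⟨m4 x.1.1 x.2.1, by rw [m4_det, x.1.2, x.2.2, one_mul]⟩) (by
    intro x y
    apply Subtype.ext
    exact m4_mul _ _ _ _)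

theorem blk4_coe (x : SL2 F × SL2 F) : (blk4 x).1 = m4 x.1.1 x.2.1 := rfl

/-- Orthogonal sum of two hyperbolic planes. -/
def mS (A B : Matrix (Fin 2) (Fin 2) F) : Matrix (Fin 2 ⊕ Fin 2) (Fin 2 ⊕ Fin 2) F :=
  Matrix.fromBlocks (Matrix.diagonal ![A 0 0, B 0 0]) (Matrix.diagonal ![A 0 1, B 0 1])
    (Matrix.diagonal ![A 1 0, B 1 0]) (Matrix.diagonal ![A 1 1, B 1 1])

theorem mS_mul (A B A' B' : Matrix (Fin 2) (Fin 2) F) :
    mS (A * A') (B * B') = mS A B * mS A' B' := by
  rw [mS, mS, mS, Matrix.fromBlocks_multiply]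
  simp only [Matrix.diagonal_mul_diagonal, Matrix.diagonal_add]
  congr 2 <;> ext i <;> fin_cases i <;> simp [Matrix.mul_apply, Fin.sum_univ_succ]

theorem mS_mem (A B : Matrix (Fin 2) (Fin 2) F) (h1 : A.det = 1) (h2 : B.det = 1) :
    mS A B ∈ Matrix.symplecticGroup (Fin 2) F := by
  rw [Matrix.det_fin_two] at h1 h2
  rw [SymplecticGroup.mem_iff, mS, Matrix.J, Matrix.fromBlocks_transpose,
    Matrix.fromBlocks_multiply, Matrix.fromBlocks_multiply]
  simp only [Matrix.mul_zero, Matrix.mul_one, zero_add, add_zero, Matrix.diagonal_transpose,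
    Matrix.mul_neg, Matrix.neg_mul, Matrix.diagonal_mul_diagonal]
  congr 1
  · ext i j
    fin_cases i <;> fin_cases j <;> simp [Matrix.diagonal] <;> ring
  · ext i j
    fin_cases i <;> fin_cases j <;> simp [Matrix.diagonal]
    · linear_combination -h1
    · linear_combination -h2
  · ext i j
    fin_cases i <;> fin_cases j <;> simp [Matrix.diagonal]
    · linear_combination h1
    · linear_combination h2
  · ext i j
    fin_cases i <;> fin_cases j <;> simp [Matrix.diagonal] <;> ring

/-- The hyperbolic pairs in `Sp(4, F)`. -/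
def blkS : SL2 F × SL2 F →* Matrix.symplecticGroup (Fin 2) F :=
  MonoidHom.mk' (fun x => ⟨mS x.1.1 x.2.1, mS_mem _ _ x.1.2 x.2.2⟩) (by
    intro x y
    apply Subtype.ext
    exact mS_mul _ _ _ _)

theorem blkS_coe (x : SL2 F × SL2 F) : (blkS x).1 = mS x.1.1 x.2.1 := rfl

theorem neg_one_sq : (-1 : SL2 F) * -1 = 1 := by simp

theorem psl_four_not [Finite F] (h2 : (2 : F) ≠ 0) :
    ¬ SectionalPRankLE 2 3 (Matrix.ProjectiveSpecialLinearGroup (Fin 4) F) := by
  intro h
  obtain ⟨i, j, hi, hj, hij⟩ := exists_quat (F := F)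
  have : Finite (Matrix.SpecialLinearGroup (Fin 4) F) := inferInstance
  have h1 : (-1 : F) ≠ 1 := by
    intro h
    apply h2
    linear_combination -h
  refine four_of_prod h blk4 (i := i) (j := j) (m := -1) neg_one_sq hi hj hij ?_ ?_
  · rw [Matrix.SpecialLinearGroup.mem_center_iff]
    refine ⟨-1, by simp; norm_num, ?_⟩
    rw [blk4_coe]
    ext a b
    fin_cases a <;> fin_cases b <;> simp [m4]
  · rw [Matrix.SpecialLinearGroup.mem_center_iff]
    rintro ⟨r, -, hr⟩
    rw [blk4_coe] at hr
    have e0 := congrFun (congrFun hr 0) 0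
    have e2 := congrFun (congrFun hr 2) 2
    simp [m4] at e0 e2
    exact h1 (by rw [← e0, e2])

theorem psp_four_not [Finite F] (h2 : (2 : F) ≠ 0) : ¬ SectionalPRankLE 2 3 (PSp 2 F) := by
  intro h
  obtain ⟨i, j, hi, hj, hij⟩ := exists_quat (F := F)
  have : Finite (Matrix.symplecticGroup (Fin 2) F) := inferInstance
  have h1 : (-1 : F) ≠ 1 := by
    intro h
    apply h2
    linear_combination -h
  refine four_of_prod h blkS (i := i) (j := j) (m := -1) neg_one_sq hi hj hij ?_ ?_
  · rw [Subgroup.mem_center_iff]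
    intro g
    apply Subtype.ext
    have e : (blkS ((-1, -1) : SL2 F × SL2 F)).1 = -1 := by
      rw [blkS_coe]
      ext a b
      rcases a with a | a <;> rcases b with b | b <;> fin_cases a <;> fin_cases b <;> simp [mS]
    change g.1 * (blkS ((-1, -1) : SL2 F × SL2 F)).1 = (blkS ((-1, -1) : SL2 F × SL2 F)).1 * g.1
    rw [e]
    simp
  · rw [Subgroup.mem_center_iff]
    intro hc
    let P : Matrix (Fin 2) (Fin 2) F := !![0, 1; 1, 0]
    have hP : P * Pᵀ = 1 := by
      ext a b
      fin_cases a <;> fin_cases b <;> simp [P, Matrix.mul_apply, Fin.sum_univ_succ]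
    have hw : Matrix.fromBlocks P 0 0 P ∈ Matrix.symplecticGroup (Fin 2) F := by
      rw [SymplecticGroup.mem_iff, Matrix.J, Matrix.fromBlocks_transpose,
        Matrix.fromBlocks_multiply, Matrix.fromBlocks_multiply]
      simp [hP]
    have h3 := congrArg Subtype.val (hc ⟨_, hw⟩)
    change Matrix.fromBlocks P 0 0 P * (blkS ((-1, 1) : SL2 F × SL2 F)).1 =
      (blkS ((-1, 1) : SL2 F × SL2 F)).1 * Matrix.fromBlocks P 0 0 P at h3
    rw [blkS_coe] at h3
    have h4 := congrFun (congrFun h3 (Sum.inl 0)) (Sum.inl 1)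
    simp [mS, P, Matrix.mul_apply, Fin.sum_univ_succ, Matrix.diagonal] at h4
    exact h1 h4.symm

theorem psl_five_not [Finite F] (h2 : (2 : F) ≠ 0) :
    ¬ SectionalPRankLE 2 3 (Matrix.ProjectiveSpecialLinearGroup (Fin 5) F) := by
  intro h
  have : Finite (Matrix.SpecialLinearGroup (Fin 5) F) := inferInstance
  have hsq : ∀ s : ℤˣ, ((s : ℤ) : F) * ((s : ℤ) : F) = 1 := by
    intro s
    rcases Int.units_eq_one_or s with rfl | rfl <;> simp
  let d : (Fin 4 → ℤˣ) → Fin 5 → F := fun s =>
    Fin.cons ((∏ i, s i : ℤˣ) : ℤ) (fun i => ((s i : ℤ) : F))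
  have hd : ∀ s, ∏ i, d s i = 1 := by
    intro s
    rw [Fin.prod_univ_succ]
    simp only [d, Fin.cons_zero, Fin.cons_succ]
    rw [← hsq (∏ i, s i)]
    congr 1
    push_cast
    rfl
  let f : (Fin 4 → ℤˣ) →* Matrix.SpecialLinearGroup (Fin 5) F := MonoidHom.mk'
    (fun s => ⟨Matrix.diagonal (d s), by rw [Matrix.det_diagonal]; exact hd s⟩) (by
      intro s s'
      apply Subtype.ext
      change Matrix.diagonal (d (s * s')) = Matrix.diagonal (d s) * Matrix.diagonal (d s')
      rw [Matrix.diagonal_mul_diagonal]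
      congr 1
      ext i
      refine Fin.cases ?_ (fun i => ?_) i
      · simp only [d, Fin.cons_zero, Pi.mul_apply, Finset.prod_mul_distrib]
        push_cast
        rfl
      · simp only [d, Fin.cons_succ, Pi.mul_apply]
        push_cast
        rfl)
  refine false_of_card h ((QuotientGroup.mk' _).comp f) ?_ ?_ ?_
  · rw [injective_iff_map_eq_one]
    intro s hs
    have h1 : f s ∈ center _ := (QuotientGroup.eq_one_iff _).1 hs
    rw [Matrix.SpecialLinearGroup.mem_center_iff] at h1
    obtain ⟨r, hr, h2'⟩ := h1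
    have h3 : ∀ i, d s i = r := by
      intro i
      have h4 := congrFun (congrFun h2' i) i
      change Matrix.scalar (Fin 5) r i i = Matrix.diagonal (d s) i i at h4
      simpa using h4.symm
    have hrr : r * r = 1 := by
      rw [← h3 1]
      exact hsq _
    have hr1 : r = 1 := by
      have : r ^ 5 = 1 := by simpa using hr
      calc r = r * (r * r) * (r * r) := by rw [hrr]; ring
        _ = r ^ 5 := by ring
        _ = 1 := this
    funext i
    have h5 : ((s i : ℤ) : F) = 1 := by
      have h6 := h3 i.succ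
      simp only [d, Fin.cons_succ] at h6
      rw [h6, hr1]
    rcases Int.units_eq_one_or (s i) with h7 | h7
    · exact h7
    · exfalso
      rw [h7] at h5
      apply h2
      push_cast at h5
      linear_combination -h5
  · intro s
    funext i
    exact Int.units_sq (s i)
  · rw [Nat.card_eq_fintype_card]
    rfl

theorem psl_two_sixteen_not (hc : Nat.card F = 16) :
    ¬ SectionalPRankLE 2 3 (Matrix.ProjectiveSpecialLinearGroup (Fin 2) F) := by
  intro h
  have : Finite F := Nat.finite_of_card_ne_zero (by rw [hc]; norm_num)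
  have : Finite (Matrix.SpecialLinearGroup (Fin 2) F) := inferInstance
  have h2 : (2 : F) = 0 := by
    have h3 : ((Nat.card F : ℕ) : F) = 0 := by
      have := Fintype.ofFinite F
      rw [Nat.card_eq_fintype_card]
      exact FiniteField.cast_card_eq_zero F
    rw [hc] at h3
    have h4 : (2 : F) ^ 4 = 0 := by
      rw [← h3]
      norm_num
    exact pow_eq_zero_iff (by norm_num) |>.1 h4
  let f : Multiplicative F →* Matrix.SpecialLinearGroup (Fin 2) F := MonoidHom.mk'
    (fun a => ⟨!![1, Multiplicative.toAdd a; 0, 1], by simp [Matrix.det_fin_two_of]⟩) (by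
      intro a b
      apply Subtype.ext
      change !![1, Multiplicative.toAdd (a * b); 0, 1] =
        !![1, Multiplicative.toAdd a; 0, 1] * !![1, Multiplicative.toAdd b; 0, 1]
      rw [Matrix.mul_fin_two, toAdd_mul]
      simp [add_comm])
  refine false_of_card h ((QuotientGroup.mk' _).comp f) ?_ ?_ ?_
  · rw [injective_iff_map_eq_one]
    intro a ha
    have h1 : f a ∈ center _ := (QuotientGroup.eq_one_iff _).1 ha
    rw [Matrix.SpecialLinearGroup.mem_center_iff] at h1
    obtain ⟨r, -, hr⟩ := h1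
    have h4 := congrFun (congrFun hr 0) 1
    change Matrix.scalar (Fin 2) r 0 1 = Multiplicative.toAdd a at h4
    simp at h4
    exact Multiplicative.toAdd.injective h4.symm
  · intro a
    apply Multiplicative.toAdd.injective
    change 2 • Multiplicative.toAdd a = 0
    rw [two_nsmul, ← two_mul, h2, zero_mul]
  · rw [← hc]
    rfl

theorem psl_three_four_not (hc : Nat.card F = 4) :
    ¬ SectionalPRankLE 2 3 (Matrix.ProjectiveSpecialLinearGroup (Fin 3) F) := by
  intro h
  have : Finite F := Nat.finite_of_card_ne_zero (by rw [hc]; norm_num)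
  have : Finite (Matrix.SpecialLinearGroup (Fin 3) F) := inferInstance
  have h2 : (2 : F) = 0 := by
    have h3 : ((Nat.card F : ℕ) : F) = 0 := by
      have := Fintype.ofFinite F
      rw [Nat.card_eq_fintype_card]
      exact FiniteField.cast_card_eq_zero F
    rw [hc] at h3
    have h4 : (2 : F) ^ 2 = 0 := by
      rw [← h3]
      norm_num
    exact pow_eq_zero_iff (by norm_num) |>.1 h4
  let f : Multiplicative (F × F) →* Matrix.SpecialLinearGroup (Fin 3) F := MonoidHom.mk'
    (fun a => ⟨!![1, 0, (Multiplicative.toAdd a).1; 0, 1, (Multiplicative.toAdd a).2; 0, 0, 1],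
      by simp [Matrix.det_fin_three]⟩) (by
      intro a b
      apply Subtype.ext
      change !![1, 0, (Multiplicative.toAdd (a * b)).1; 0, 1, (Multiplicative.toAdd (a * b)).2;
          0, 0, 1] =
        !![1, 0, (Multiplicative.toAdd a).1; 0, 1, (Multiplicative.toAdd a).2; 0, 0, 1] *
        !![1, 0, (Multiplicative.toAdd b).1; 0, 1, (Multiplicative.toAdd b).2; 0, 0, 1]
      rw [toAdd_mul]
      ext i j
      fin_cases i <;> fin_cases j <;> simp [Matrix.mul_apply, Fin.sum_univ_succ, add_comm])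
  refine false_of_card h ((QuotientGroup.mk' _).comp f) ?_ ?_ ?_
  · rw [injective_iff_map_eq_one]
    intro a ha
    have h1 : f a ∈ center _ := (QuotientGroup.eq_one_iff _).1 ha
    rw [Matrix.SpecialLinearGroup.mem_center_iff] at h1
    obtain ⟨r, -, hr⟩ := h1
    have h4 := congrFun (congrFun hr 0) 2
    have h5 := congrFun (congrFun hr 1) 2
    change Matrix.scalar (Fin 3) r 0 2 = (Multiplicative.toAdd a).1 at h4
    change Matrix.scalar (Fin 3) r 1 2 = (Multiplicative.toAdd a).2 at h5
    simp at h4 h5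
    exact Multiplicative.toAdd.injective (Prod.ext h4.symm h5.symm)
  · intro a
    apply Multiplicative.toAdd.injective
    change 2 • Multiplicative.toAdd a = 0
    rw [two_nsmul]
    refine Prod.ext ?_ ?_
    · change (Multiplicative.toAdd a).1 + (Multiplicative.toAdd a).1 = 0
      rw [← two_mul, h2, zero_mul]
    · change (Multiplicative.toAdd a).2 + (Multiplicative.toAdd a).2 = 0
      rw [← two_mul, h2, zero_mul]
  · have : Nat.card (Multiplicative (F × F)) = Nat.card (F × F) := rfl
    rw [this, Nat.card_prod, hc]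

end mats

end Cfsg.Agent.GH.LowRank
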