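import Cfsg.Agent.GH.LowRankB
import Cfsg.Agent.GH.Defs

/-!
# Groups with a 2-component `2.A_n`, `n ≥ 8`: the sectional 2-rank is at least 4  (GH-0, S0500)
-/

set_option autoImplicit false

namespace Cfsg.Agent.GH.LowRankAlt

open Cfsg Subgroup Cfsg.Agent.GH.Rank Cfsg.Agent.GH.Defs

theorem isAlt {n : ℕ} (hn : 8 ≤ n) {X : Type*} [Group X] (h : IsAlt n X) :
    ¬ SectionalPRankLE 2 3 X := by
  obtain ⟨e⟩ := h
  have : Finite X := Finite.of_equiv _ e.symm.toEquiv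
  exact fun h => Cfsg.Agent.GH.LowRank.alt_not hn (of_equiv h e)

theorem hasAltCover {X : Type*} [Group X] [Finite X] (h : HasAltCover X) : ¬ SectionalPRankLE 2 3 X := by
  obtain ⟨n, t, K, hn, hc, -, -, ⟨e⟩, -⟩ := h
  intro h'
  refine isAlt hn (X := Bar K ⧸ center (Bar K)) ⟨e⟩ (of_quotient (of_quotient (of_subgroup h' K) _) _)

end Cfsg.Agent.GH.LowRankAlt
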