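import Mathlib
import Cfsg.Prelude.Def_CaseTheorems
import Cfsg.Agent.GH.Rank
import Cfsg.Agent.ClassificationK.GTwoModel
import Cfsg.Agent.J2Sylow.Model

/-!
# Lower bounds for the sectional 2-rank: criterion and model groups  (GH-0, S0500)

* `not_le_three`: four elements normalising `N`, with squares and commutators in `N`, such that no product
  over a nonempty subset lies in `N`.
* `model`: the Sylow 2-subgroup of type `G₂(q)` (in particular of `M₁₂`).
* `modelJ`: the Sylow 2-subgroup of `J₂` and `J₃`.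
-/

set_option autoImplicit false

namespace Cfsg.Agent.GH.LowRankCrit

open Cfsg Subgroup Cfsg.Agent.GH.Rank

variable {G : Type*} [Group G]

/-- An injective homomorphism from an elementary abelian group of order 16 into a section. -/
theorem not_le_three_of_hom [Finite G] {A : Type*} [Group A] (hA : Nat.card A = 16)
    (hc : ∀ a b : A, a * b = b * a) (h2 : ∀ a : A, a * a = 1) (N : Subgroup G)
    (φ : A →* (normalizer (N : Set G) : Subgroup G) ⧸ N.subgroupOf (normalizer (N : Set G)))
    (hφ : Function.Injective φ) : ¬ SectionalPRankLE 2 3 G := by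
  intro h
  have h1 := of_injective (of_quotient (of_subgroup h (normalizer (N : Set G)))
    (N.subgroupOf (normalizer (N : Set G)))) φ hφ
  have : Finite A := Finite.of_injective φ hφ
  have h3 := card_le h1 hc (fun a => by rw [pow_two, h2])
  omega

/-- the homomorphism from `ZMod 2` given by an involution -/
def inv2 {H : Type*} [Group H] (a : H) (ha : a * a = 1) : Multiplicative (ZMod 2) →* H where
  toFun x := if x.toAdd = 0 then 1 else a
  map_one' := if_pos rfl
  map_mul' := by
    intro x y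
    have h : ∀ z : ZMod 2, z = 0 ∨ z = 1 := by decide
    have hx : x = Multiplicative.ofAdd x.toAdd := rfl
    have hy : y = Multiplicative.ofAdd y.toAdd := rfl
    rw [toAdd_mul]
    rcases h x.toAdd with hx | hx <;> rcases h y.toAdd with hy | hy <;> rw [hx, hy]
    · simp
    · simp
    · simp
    · rw [if_pos (by decide), if_neg (by decide), ha]

/-- four commuting involutions -/
theorem exists_hom {H : Type*} [Group H] (a b c d : H) (ha : a * a = 1) (hb : b * b = 1)
    (hc : c * c = 1) (hd : d * d = 1) (hab : a * b = b * a) (hac : a * c = c * a)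
    (had : a * d = d * a) (hbc : b * c = c * b) (hbd : b * d = d * b) (hcd : c * d = d * c) :
    ∃ φ : Multiplicative (ZMod 2) × Multiplicative (ZMod 2) × Multiplicative (ZMod 2) ×
        Multiplicative (ZMod 2) →* H,
      ∀ x y z w : ZMod 2, φ (Multiplicative.ofAdd x, Multiplicative.ofAdd y, Multiplicative.ofAdd z,
        Multiplicative.ofAdd w) = (if x = 0 then 1 else a) * ((if y = 0 then 1 else b) *
          ((if z = 0 then 1 else c) * (if w = 0 then 1 else d))) := by
  have key : ∀ {p q : H} (P : Prop) [Decidable P] (Q : Prop) [Decidable Q], p * q = q * p →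
      Commute (if P then (1 : H) else p) (if Q then (1 : H) else q) := by
    intro p q P _ Q _ h
    split_ifs
    · exact Commute.refl _
    · exact Commute.one_left _
    · exact Commute.one_right _
    · exact h
  let f3 : Multiplicative (ZMod 2) × Multiplicative (ZMod 2) →* H :=
    (inv2 c hc).noncommCoprod (inv2 d hd) (fun x y => key _ _ hcd)
  let f2 : Multiplicative (ZMod 2) × Multiplicative (ZMod 2) × Multiplicative (ZMod 2) →* H :=
    (inv2 b hb).noncommCoprod f3 (fun x y => (key _ _ hbc).mul_right (key _ _ hbd))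
  refine ⟨(inv2 a ha).noncommCoprod f2 (fun x y =>
    (key _ _ hab).mul_right ((key _ _ hac).mul_right (key _ _ had))), ?_⟩
  intro x y z w
  rfl

/-- The criterion. -/
theorem not_le_three [Finite G] (N : Subgroup G) (a b c d : G)
    (na : ∀ n, n ∈ N ↔ a * n * a⁻¹ ∈ N) (nb : ∀ n, n ∈ N ↔ b * n * b⁻¹ ∈ N)
    (nc : ∀ n, n ∈ N ↔ c * n * c⁻¹ ∈ N) (nd : ∀ n, n ∈ N ↔ d * n * d⁻¹ ∈ N)
    (ha : a * a ∈ N) (hb : b * b ∈ N) (hc : c * c ∈ N) (hd : d * d ∈ N)
    (hab : a * b * (b * a)⁻¹ ∈ N) (hac : a * c * (c * a)⁻¹ ∈ N) (had : a * d * (d * a)⁻¹ ∈ N)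
    (hbc : b * c * (c * b)⁻¹ ∈ N) (hbd : b * d * (d * b)⁻¹ ∈ N) (hcd : c * d * (d * c)⁻¹ ∈ N)
    (h : ∀ x y z w : ZMod 2, (if x = 0 then 1 else a) * ((if y = 0 then 1 else b) *
          ((if z = 0 then 1 else c) * (if w = 0 then 1 else d))) ∈ N → x = 0 ∧ y = 0 ∧ z = 0 ∧ w = 0) :
    ¬ SectionalPRankLE 2 3 G := by
  set K : Subgroup G := normalizer (N : Set G) with hK
  let f : K →* K ⧸ N.subgroupOf K := QuotientGroup.mk' _
  have hf : ∀ k : K, f k = 1 ↔ (k : G) ∈ N := fun k => by
    rw [QuotientGroup.mk'_apply, QuotientGroup.eq_one_iff, mem_subgroupOf]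
  have hm : ∀ g : G, (∀ n, n ∈ N ↔ g * n * g⁻¹ ∈ N) → g ∈ K := fun g hg => mem_normalizer_iff.2 hg
  have comm : ∀ p q : K, (p : G) * q * (q * p : G)⁻¹ ∈ N → f p * f q = f q * f p := by
    intro p q hpq
    rw [← map_mul, ← map_mul, ← mul_inv_eq_one, ← map_inv, ← map_mul, hf]
    exact hpq
  have sq : ∀ p : K, (p : G) * p ∈ N → f p * f p = 1 := by
    intro p hp
    rw [← map_mul, hf]
    exact hp
  let A : K := ⟨a, hm a na⟩
  let B : K := ⟨b, hm b nb⟩
  let C : K := ⟨c, hm c nc⟩
  let D : K := ⟨d, hm d nd⟩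
  obtain ⟨φ, hφ⟩ := exists_hom (f A) (f B) (f C) (f D) (sq _ ha) (sq _ hb) (sq _ hc) (sq _ hd)
    (comm _ _ hab) (comm _ _ hac) (comm _ _ had) (comm _ _ hbc) (comm _ _ hbd) (comm _ _ hcd)
  refine not_le_three_of_hom ?_ ?_ ?_ N φ ?_
  · simp only [Nat.card_prod, Nat.card_eq_fintype_card, Fintype.card_multiplicative, ZMod.card]
    norm_num
  · exact mul_comm
  · rintro ⟨x, y, z, w⟩
    have h2 : ∀ t : Multiplicative (ZMod 2), t * t = 1 := by decide
    simp only [Prod.mk_mul_mk, h2]
    rfl
  · rw [injective_iff_map_eq_one]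
    rintro ⟨x, y, z, w⟩ hx
    have h1 := hφ x.toAdd y.toAdd z.toAdd w.toAdd
    have h2 : (if x.toAdd = 0 then 1 else f A) * ((if y.toAdd = 0 then 1 else f B) *
          ((if z.toAdd = 0 then 1 else f C) * (if w.toAdd = 0 then 1 else f D))) =
        f ((if x.toAdd = 0 then 1 else A) * ((if y.toAdd = 0 then 1 else B) *
          ((if z.toAdd = 0 then 1 else C) * (if w.toAdd = 0 then 1 else D)))) := by
      have key : ∀ (P : Prop) [Decidable P] (k : K), (if P then 1 else f k) = f (if P then 1 else k) := by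
        intro P _ k
        split_ifs
        · rw [map_one]
        · rfl
      rw [key, key, key, key, map_mul, map_mul, map_mul]
    have h3 := (hf _).1 (h2.symm.trans (h1.symm.trans hx))
    have key : ∀ (P : Prop) [Decidable P] (k : K), (((if P then 1 else k : K)) : G) =
        if P then 1 else (k : G) := by
      intro P _ k
      split_ifs <;> rfl
    rw [coe_mul, coe_mul, coe_mul, key, key, key, key] at h3
    obtain ⟨e1, e2, e3, e4⟩ := h _ _ _ _ h3
    have e : ∀ t : Multiplicative (ZMod 2), t.toAdd = 0 → t = 1 := by decide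
    rw [e x e1, e y e2, e z e3, e w e4]
    rfl

/-- An elementary abelian subgroup of order 16. -/
theorem not_le_three_of_card [Finite G] {E : Subgroup G} (hE : Nat.card E = 16)
    (hc : ∀ a ∈ E, ∀ b ∈ E, a * b = b * a) (h2 : ∀ a ∈ E, a * a = 1) : ¬ SectionalPRankLE 2 3 G := by
  intro h
  have h1 := of_subgroup h E
  have h3 := card_le h1 (fun a b => Subtype.ext (hc a a.2 b b.2))
    (fun a => Subtype.ext (by rw [pow_two]; exact h2 a a.2))
  omega

/-! ### The model of type `G₂(q)` -/

section model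

open Cfsg.Agent.ClassificationK.GTwoModel

theorem model {m k : ℕ} (hk : 1 ≤ k) (hm : m = 4 * k) : ¬ SectionalPRankLE 2 3 (T m) := by
  subst hm
  have : NeZero (4 * k) := ⟨by omega⟩
  have h4 : (4 * k : ZMod (4 * k)) = 0 := by
    have := ZMod.natCast_self (4 * k)
    push_cast at this
    exact this
  have h2 : (2 * k : ZMod (4 * k)) + 2 * k = 0 := by rw [← h4]; ring
  have hne : (2 * k : ZMod (4 * k)) ≠ 0 := by
    intro h
    have h1 : ((2 * k : ℕ) : ZMod (4 * k)) = 0 := by push_cast; exact h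
    rw [ZMod.natCast_eq_zero_iff] at h1
    have := Nat.le_of_dvd (by omega) h1
    omega
  have hne1 : (k : ZMod (4 * k)) ≠ 0 := fun h => hne (by rw [h, mul_zero])
  have hne2 : (k : ZMod (4 * k)) ≠ 2 * k := fun h => hne1 (by
    have h1 : (2 * k : ZMod (4 * k)) - k = 0 := by rw [← h, sub_self]
    rw [← h1]; ring)
  let Z : T (4 * k) := ⟨2 * k, 2 * k, false, false⟩
  have hZ : Z * Z = 1 := by
    show (⟨_, _, _, _⟩ : T (4 * k)) * ⟨_, _, _, _⟩ = ⟨0, 0, false, false⟩
    rw [T.mul_mk]
    simp [h2]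
  let N : Subgroup (T (4 * k)) :=
    { carrier := {1, Z}
      one_mem' := Or.inl rfl
      mul_mem' := by
        rintro a b (rfl | rfl) (rfl | rfl)
        · left; rw [mul_one]
        · right; rw [one_mul]; rfl
        · right; rw [mul_one]; rfl
        · left; exact hZ
      inv_mem' := by
        rintro a (rfl | rfl)
        · left; rw [inv_one]
        · right; exact inv_eq_of_mul_eq_one_right hZ }
  have hN : ∀ g, g ∈ N ↔ g = 1 ∨ g = Z := fun g => Iff.rfl
  have hneg : (-(2 * k) : ZMod (4 * k)) = 2 * k := neg_eq_of_add_eq_zero_left h2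
  have hZc : ∀ g, g * Z = Z * g := by
    rintro ⟨i, j, e, d⟩
    show (⟨_, _, _, _⟩ : T (4 * k)) * ⟨_, _, _, _⟩ = ⟨_, _, _, _⟩ * ⟨_, _, _, _⟩
    rw [T.mul_mk, T.mul_mk]
    cases e <;> cases d <;> simp [hneg, add_comm]
  have hn : ∀ g n, n ∈ N ↔ g * n * g⁻¹ ∈ N := by
    intro g n
    rw [hN, hN]
    constructor
    · rintro (rfl | rfl)
      · left; group
      · right; rw [hZc, mul_inv_cancel_right]
    · rintro (h | h)
      · left
        rw [mul_inv_eq_one] at h
        exact mul_left_cancel (h.trans (mul_one g).symm)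
      · right
        rw [mul_inv_eq_iff_eq_mul, ← hZc] at h
        exact mul_left_cancel h
  have hcm : ∀ x y, (x * y = y * x ∨ x * y = Z * (y * x)) → x * y * (y * x)⁻¹ ∈ N := by
    rintro x y (h | h)
    · rw [h, mul_inv_cancel]; exact N.one_mem
    · rw [h, mul_inv_cancel_right]; exact Or.inr rfl
  have h22 : (k : ZMod (4 * k)) + k = 2 * k := by ring
  have h24 : (k : ZMod (4 * k)) = 2 * k + -k := by ring
  have h25 : (-k : ZMod (4 * k)) = 2 * k + k := by
    have e : (-k : ZMod (4 * k)) = 2 * k + k - 4 * k := by ring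
    rw [e, h4, sub_zero]
  have h23 : (-k : ZMod (4 * k)) + -k = 2 * k := by rw [← hneg]; ring
  refine not_le_three N ⟨k, k, false, false⟩ ⟨k, -k, false, false⟩ ⟨0, 0, true, false⟩
    ⟨0, 0, false, true⟩ (hn _) (hn _) (hn _) (hn _) ?_ ?_ ?_ ?_ (hcm _ _ ?_) (hcm _ _ ?_) (hcm _ _ ?_)
    (hcm _ _ ?_) (hcm _ _ ?_) (hcm _ _ ?_) ?_
  · right
    rw [T.mul_mk]
    simp [h22, Z]
  · right
    rw [T.mul_mk]
    simp [h22, h23, Z]
  · left
    rw [T.mul_mk, T.one_def]
    simp
  · left
    rw [T.mul_mk, T.one_def]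
    simp
  · left
    rw [T.mul_mk, T.mul_mk]
    simp [add_comm]
  · right
    rw [T.mul_mk, T.mul_mk]
    show _ = (⟨_, _, _, _⟩ : T (4 * k)) * ⟨_, _, _, _⟩
    rw [T.mul_mk]
    simp
    exact h24
  · left
    rw [T.mul_mk, T.mul_mk]
    simp
  · right
    rw [T.mul_mk, T.mul_mk]
    show _ = (⟨_, _, _, _⟩ : T (4 * k)) * ⟨_, _, _, _⟩
    rw [T.mul_mk]
    simp
    exact ⟨h24, h25⟩
  · right
    rw [T.mul_mk, T.mul_mk]
    show _ = (⟨_, _, _, _⟩ : T (4 * k)) * ⟨_, _, _, _⟩
    rw [T.mul_mk]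
    simp
    exact ⟨h24, h25⟩
  · left
    rw [T.mul_mk, T.mul_mk]
    simp
  · have h01 : ∀ x : ZMod 2, x = 0 ∨ x = 1 := by decide
    have h10 : (1 : ZMod 2) ≠ 0 := by decide
    intro x y z w h
    rw [hN] at h
    rcases h01 x with rfl | rfl <;> rcases h01 y with rfl | rfl <;> rcases h01 z with rfl | rfl <;>
      rcases h01 w with rfl | rfl <;>
      simp only [if_true, if_neg h10, one_mul, mul_one, T.mul_mk, T.one_def] at h <;>
      simp [T.ext_iff, Z] at h
    · exact ⟨rfl, rfl, rfl, rfl⟩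
    · exact (h.elim hne1 (fun h => hne2 h.1)).elim
    · exact (h.elim hne1 hne2).elim
    · exfalso
      rw [h22] at h
      rcases h with h | h
      · exact hne h
      · exact hne h.2.symm

end model

/-! ### The model of type `J₂` -/

section modelJ

open Cfsg.Agent.J2Sylow.Model

/-- the elementary abelian subgroup `(a, 0, c)` -/
def EJ : Subgroup T where
  carrier := {g | g.b = 0 ∧ g.s = false}
  one_mem' := ⟨rfl, rfl⟩
  mul_mem' := by
    rintro ⟨a, b, c, s⟩ ⟨a', b', c', s'⟩ ⟨h1, h2⟩ ⟨h3, h4⟩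
    change b = 0 at h1
    change s = false at h2
    change b' = 0 at h3
    change s' = false at h4
    subst h1 h2 h3 h4
    revert a a' c c'
    decide +kernel
  inv_mem' := by
    rintro ⟨a, b, c, s⟩ ⟨h1, h2⟩
    change b = 0 at h1
    change s = false at h2
    subst h1 h2
    revert a c
    decide +kernel

theorem modelJ : ¬ SectionalPRankLE 2 3 T := by
  have : Finite T := Nat.finite_of_card_ne_zero (by rw [T.card_T]; norm_num)
  let e : EJ ≃ F4 × F4 :=
    { toFun := fun g => (g.1.a, g.1.c)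
      invFun := fun p => ⟨⟨p.1, 0, p.2, false⟩, rfl, rfl⟩
      left_inv := by
        rintro ⟨⟨a, b, c, s⟩, h1, h2⟩
        change b = 0 at h1
        change s = false at h2
        subst h1 h2
        rfl
      right_inv := fun _ => rfl }
  refine not_le_three_of_card (E := EJ) ?_ ?_ ?_
  · rw [Nat.card_congr e, Nat.card_prod, Nat.card_eq_fintype_card]
    rfl
  · rintro ⟨a, b, c, s⟩ ⟨h1, h2⟩ ⟨a', b', c', s'⟩ ⟨h3, h4⟩
    change b = 0 at h1
    change s = false at h2
    change b' = 0 at h3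
    change s' = false at h4
    subst h1 h2 h3 h4
    revert a a' c c'
    decide +kernel
  · rintro ⟨a, b, c, s⟩ ⟨h1, h2⟩
    change b = 0 at h1
    change s = false at h2
    subst h1 h2
    revert a c
    decide +kernel

end modelJ

end Cfsg.Agent.GH.LowRankCrit
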