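import Cfsg.Agent.J2Sylow.SporSylow
import Cfsg.Agent.Schreier.JThreeSylow
import Cfsg.Agent.GH.LowRankCrit

/-!
# The sectional 2-rank of `J₂` and `J₃` is at least 4  (GH-0, S0500)
-/

set_option autoImplicit false

namespace Cfsg.Agent.GH.LowRankJanko

open Cfsg Subgroup Cfsg.Agent.GH.Rank Cfsg.Agent.GH.LowRankCrit Cfsg.Agent.J2Sylow.Model

/-- a group with a Sylow 2-subgroup of type `J₂` -/
theorem of_sylow {X : Type*} [Group X] [Finite X] (S : Sylow 2 X)
    (e : Nonempty (T ≃* ↥(S : Subgroup X))) : ¬ SectionalPRankLE 2 3 X := by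
  obtain ⟨e⟩ := e
  exact fun h => modelJ (of_equiv (of_subgroup h (S : Subgroup X)) e.symm)

theorem isoJ2 {X : Type*} [Group X] (h : Spor.IsoJ2 X) : ¬ SectionalPRankLE 2 3 X := by
  obtain ⟨e⟩ := h
  have : Finite Spor.J2 :=
    Nat.finite_of_card_ne_zero (by rw [Cfsg.Agent.J2Sylow.SporSylow.card_J2]; norm_num)
  have : Finite X := Finite.of_equiv _ e.symm.toEquiv
  obtain ⟨S⟩ : Nonempty (Sylow 2 Spor.J2) := inferInstance
  exact fun h => of_sylow S (Cfsg.Agent.J2Sylow.SporSylow.exists_equiv S) (of_equiv h e)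

theorem isoJ3 {X : Type*} [Group X] (h : Spor.IsoJ3 X) : ¬ SectionalPRankLE 2 3 X := by
  obtain ⟨F, _, _, ω, hF, hω, ⟨e⟩⟩ := h
  have H := Cfsg.Agent.J3.Core.good_of_card hF hω
  have : Finite (Spor.J3 F ω) :=
    Nat.finite_of_card_ne_zero (by rw [Cfsg.Agent.J3.Simple.card_J3 hF H]; norm_num)
  have : Finite X := Finite.of_equiv _ e.symm.toEquiv
  obtain ⟨S⟩ : Nonempty (Sylow 2 (Spor.J3 F ω)) := inferInstance
  exact fun h => of_sylow S (Cfsg.Agent.Schreier.JThreeSylow.exists_equiv hF H S) (of_equiv h e)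

end Cfsg.Agent.GH.LowRankJanko
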