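import Cfsg.Prelude.Def_Spor_Mathieu
import Cfsg.Agent.J4Type.CocodeMask
import Cfsg.Agent.MTwelveType.SylowModel
import Cfsg.Agent.GH.LowRankCrit

/-!
# The sectional 2-rank of `M₁₂`, `M₂₂` and `M₂₃` is at least 4  (GH-0, S0500)
-/

set_option autoImplicit false

namespace Cfsg.Agent.GH.LowRankMathieu

open Cfsg Subgroup Cfsg.Agent.GH.Rank Cfsg.Agent.GH.LowRankCrit
open Cfsg.Agent.SporadicA.GolayBase Cfsg.Agent.J4Type.CocodeMask
open Cfsg.Agent.SporadicA.GolayPerm hiding pcomp papp_pcomp

/-! ### `M₂₂` -/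

/-- translations of the 16 points outside an octad -/
def PA : ℕ := 984330238668445353307680420861740096
def PB : ℕ := 984561664131678682933695704404628576
def PC : ℕ := 984365217902686453248235801272398976
def PD : ℕ := 984474077397641743376427032193378496

theorem idx_none : idx (none : GolayPt) = 23 := rfl
theorem idx_zero : idx (some 0 : GolayPt) = 0 := rfl

theorem mem_M22 {P : ℕ} (h : (isPerm P && isAut P) = true) (h1 : papp P 23 = 23) (h2 : papp P 0 = 0) :
    ((mk P h : M24) : Equiv.Perm GolayPt) ∈ Spor.M22 := by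
  refine ⟨⟨(mk P h).2, ?_⟩, ?_⟩
  · show _ ∈ MulAction.stabilizer _ _
    rw [MulAction.mem_stabilizer_iff]
    apply idx_injective
    show idx (((mk P h : M24) : Equiv.Perm GolayPt) none) = idx none
    rw [isTab_mk P h none, idx_none, h1]
  · show _ ∈ MulAction.stabilizer _ _
    rw [MulAction.mem_stabilizer_iff]
    apply idx_injective
    show idx (((mk P h : M24) : Equiv.Perm GolayPt) (some 0)) = idx (some 0)
    rw [isTab_mk P h (some 0), idx_zero, h2]

/-- an element of `M₂₂` with a given table -/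
noncomputable def mk22 (P : ℕ) (h : (isPerm P && isAut P) = true) (h1 : papp P 23 = 23)
    (h2 : papp P 0 = 0) : Spor.M22 := ⟨_, mem_M22 h h1 h2⟩

/-- table of an element of `M₂₂` -/
def IsT (g : Spor.M22) (P : ℕ) : Prop :=
  ∀ p : GolayPt, idx ((g : Equiv.Perm GolayPt) p) = papp P (idx p)

theorem IsT.mul {g h : Spor.M22} {P Q : ℕ} (hg : IsT g P) (hh : IsT h Q) : IsT (g * h) (pcomp P Q) := by
  intro p
  rw [papp_pcomp P Q (idx_lt p), ← hh p, ← hg]
  rfl

theorem isT_one : IsT 1 pone := by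
  intro p
  have h : ∀ p : GolayPt, idx p = papp pone (idx p) := by decide +kernel
  exact h p

theorem IsT.eq {g h : Spor.M22} {P : ℕ} (hg : IsT g P) (hh : IsT h P) : g = h := by
  apply Subtype.ext
  apply Equiv.ext
  intro p
  apply idx_injective
  rw [hg, hh]

theorem isT_mk22 (P : ℕ) (h : (isPerm P && isAut P) = true) (h1 : papp P 23 = 23) (h2 : papp P 0 = 0) :
    IsT (mk22 P h h1 h2) P := isTab_mk P h

noncomputable def gA : Spor.M22 := mk22 PA (by decide +kernel) (by decide +kernel) (by decide +kernel)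
noncomputable def gB : Spor.M22 := mk22 PB (by decide +kernel) (by decide +kernel) (by decide +kernel)
noncomputable def gC : Spor.M22 := mk22 PC (by decide +kernel) (by decide +kernel) (by decide +kernel)
noncomputable def gD : Spor.M22 := mk22 PD (by decide +kernel) (by decide +kernel) (by decide +kernel)

theorem tA : IsT gA PA := isT_mk22 _ _ _ _
theorem tB : IsT gB PB := isT_mk22 _ _ _ _
theorem tC : IsT gC PC := isT_mk22 _ _ _ _
theorem tD : IsT gD PD := isT_mk22 _ _ _ _

theorem IsT.sq {g : Spor.M22} {P : ℕ} (hg : IsT g P) (h : pcomp P P = pone) : g * g = 1 :=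
  (hg.mul hg).eq (by rw [h]; exact isT_one)

theorem IsT.comm {g h : Spor.M22} {P Q : ℕ} (hg : IsT g P) (hh : IsT h Q) (e : pcomp P Q = pcomp Q P) :
    g * h = h * g := (hg.mul hh).eq (by rw [e]; exact hh.mul hg)

theorem isT_ite {g : Spor.M22} {P : ℕ} (hg : IsT g P) (x : ZMod 2) :
    IsT (if x = 0 then 1 else g) (if x = 0 then pone else P) := by
  split_ifs
  · exact isT_one
  · exact hg

theorem indep : ∀ x y z w : ZMod 2, papp (pcomp (if x = 0 then pone else PA) (pcomp (if y = 0 then pone else PB)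
    (pcomp (if z = 0 then pone else PC) (if w = 0 then pone else PD)))) 1 = 1 →
      x = 0 ∧ y = 0 ∧ z = 0 ∧ w = 0 := by
  decide +kernel

instance : Finite Spor.M22 := inferInstance

theorem not_M22 : ¬ SectionalPRankLE 2 3 Spor.M22 := by
  have hn : ∀ g n : Spor.M22, n ∈ (⊥ : Subgroup Spor.M22) ↔ g * n * g⁻¹ ∈ (⊥ : Subgroup Spor.M22) := by
    intro g n
    rw [mem_bot, mem_bot, mul_inv_eq_one]
    constructor
    · rintro rfl; rw [mul_one]
    · intro h; exact mul_left_cancel (h.trans (mul_one g).symm)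
  have hc : ∀ g h : Spor.M22, g * h = h * g → g * h * (h * g)⁻¹ ∈ (⊥ : Subgroup Spor.M22) := by
    intro g h e
    rw [e, mul_inv_cancel]
    exact one_mem _
  refine not_le_three ⊥ gA gB gC gD (hn _) (hn _) (hn _) (hn _)
    (mem_bot.2 (tA.sq (by decide +kernel))) (mem_bot.2 (tB.sq (by decide +kernel)))
    (mem_bot.2 (tC.sq (by decide +kernel))) (mem_bot.2 (tD.sq (by decide +kernel)))
    (hc _ _ (tA.comm tB (by decide +kernel))) (hc _ _ (tA.comm tC (by decide +kernel)))
    (hc _ _ (tA.comm tD (by decide +kernel))) (hc _ _ (tB.comm tC (by decide +kernel)))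
    (hc _ _ (tB.comm tD (by decide +kernel))) (hc _ _ (tC.comm tD (by decide +kernel))) ?_
  intro x y z w h
  rw [mem_bot] at h
  have h1 := (isT_ite tA x).mul ((isT_ite tB y).mul ((isT_ite tC z).mul (isT_ite tD w)))
  rw [h] at h1
  have h2 := h1 (some 1)
  apply indep x y z w
  have e : idx (some 1 : GolayPt) = 1 := by decide +kernel
  rw [e] at h2
  rw [← h2]
  exact e

theorem isoM22 {X : Type*} [Group X] (h : Spor.IsoM22 X) : ¬ SectionalPRankLE 2 3 X := by
  obtain ⟨e⟩ := h
  have : Finite X := Finite.of_equiv _ e.symm.toEquiv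
  exact fun h => not_M22 (of_equiv h e)

/-! ### `M₂₃` -/

theorem isoM23 {X : Type*} [Group X] (h : Spor.IsoM23 X) : ¬ SectionalPRankLE 2 3 X := by
  obtain ⟨e⟩ := h
  have : Finite X := Finite.of_equiv _ e.symm.toEquiv
  have hle : Spor.M22 ≤ Spor.M23 := inf_le_left
  exact fun h => not_M22 (of_le hle (of_equiv h e))

/-! ### `M₁₂` -/

theorem isoM12 {X : Type*} [Group X] (h : Spor.IsoM12 X) : ¬ SectionalPRankLE 2 3 X := by
  obtain ⟨e⟩ := h
  have : Finite X := Finite.of_equiv _ e.symm.toEquiv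
  intro h
  have h1 := of_equiv h e
  obtain ⟨S⟩ : Nonempty (Sylow 2 Spor.M12) := inferInstance
  obtain ⟨f⟩ := Cfsg.Agent.MTwelveType.SylowModel.exists_equiv S
  have : Finite (Cfsg.Agent.ClassificationK.GTwoModel.T (2 * 2)) := Finite.of_equiv _ f.symm.toEquiv
  exact model (m := 2 * 2) (k := 1) le_rfl rfl (of_equiv (of_subgroup h1 (S : Subgroup Spor.M12)) f.symm)

end Cfsg.Agent.GH.LowRankMathieu
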