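import Cfsg.Agent.GH.LowRankGTwo
import Cfsg.Agent.GH.LowRankAlt
import Cfsg.Agent.GH.LowRankJanko
import Cfsg.Agent.GH.LowRankMathieu
import Cfsg.Agent.GH.LowRankLie
import Cfsg.Agent.GH.LowRank

/-!
# The groups of sectional 2-rank at most 3 on the list `K4`  (GH-0, S0500)

`k2_or_k3 : K4 X → SectionalPRankLE 2 3 X → K2 X ∨ K3 X`.
-/

set_option autoImplicit false

namespace Cfsg.Agent.GH.LowRankMain

open Cfsg Subgroup Cfsg.Agent.GH.Rank Cfsg.Agent.GH.Defs

theorem transfer {X Y : Type*} [Group X] [Group Y] [Finite X] (e : X ≃* Y)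
    (hY : ¬ SectionalPRankLE 2 3 Y) : ¬ SectionalPRankLE 2 3 X := fun h => hY (of_equiv h e)

theorem two_ne_zero_of_odd_sq {F : Type} [Field F] [Fintype F] {q : ℕ} (hF : Fintype.card F = q ^ 2)
    (hq : Odd q) : (2 : F) ≠ 0 :=
  LowRankLie.two_ne_zero_of_odd (by rw [hF]; exact hq.pow)

/-- The groups on the list `K4` which are not on the lists `K2`, `K3` have sectional 2-rank at least 4. -/
theorem k2_or_k3 {X : Type*} [Group X] [Finite X] (h : K4 X) (hr : SectionalPRankLE 2 3 X) :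
    K2 X ∨ K3 X := by
  rcases h with h | h | h | h | ⟨n, h1, h2, h⟩ | h | h | h | h | h | ⟨h, h'⟩ | ⟨h, h'⟩ | h |
    h | h | h | h | h
  · exact Or.inl h
  · exact Or.inr h
  · obtain ⟨F, _, _, hF, ⟨e⟩⟩ := h
    exact (transfer e (LowRank.psl_two_sixteen_not (by rw [Nat.card_eq_fintype_card, hF])) hr).elim
  · obtain ⟨F, _, _, hF, ⟨e⟩⟩ := h
    exact (transfer e (LowRank.psl_three_four_not (by rw [Nat.card_eq_fintype_card, hF])) hr).elim
  · exact (LowRankAlt.isAlt h1 h hr).elim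
  · obtain ⟨F, _, _, hF, ⟨e⟩⟩ := h
    exact (transfer e (LowRankLie.psp_four_not_three (LowRankLie.two_ne_zero_of_odd hF)) hr).elim
  · obtain ⟨F, _, _, hF, -, ⟨e⟩⟩ := h
    exact (transfer e (LowRankLie.psl_four_not_three (LowRankLie.two_ne_zero_of_odd hF)) hr).elim
  · obtain ⟨F, _, _, q, hF, hq, -, ⟨e⟩⟩ := h
    exact (transfer e (LowRankLie.psu_four_not_three hq (two_ne_zero_of_odd_sq hF hq)) hr).elim
  · obtain ⟨F, _, _, hF, ⟨e⟩⟩ := h
    exact (transfer e (LowRankLie.psl_five_not_three (LowRankLie.two_ne_zero_of_odd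
      (Nat.odd_iff.2 (by omega)))) hr).elim
  · obtain ⟨F, _, _, q, hF, hq, ⟨e⟩⟩ := h
    have hq' : Odd q := Nat.odd_iff.2 (by omega)
    exact (transfer e (LowRankLie.psu_five_not_three hq' (two_ne_zero_of_odd_sq hF hq')) hr).elim
  · exact (LowRankGTwo.allG2 h' hr).elim
  · exact (LowRankGTwo.allG2 h' hr).elim
  · exact (LowRankMathieu.isoM12 h hr).elim
  · exact (LowRankMathieu.isoM22 h hr).elim
  · exact (LowRankMathieu.isoM23 h hr).elim
  · exact (LowRankJanko.isoJ2 h hr).elim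
  · exact (LowRankJanko.isoJ3 h hr).elim
  · exact (LowRankAlt.hasAltCover h hr).elim

end Cfsg.Agent.GH.LowRankMain
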