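import Cfsg.Agent.GH.Odd
import Cfsg.Agent.GH.Branches
import Cfsg.Agent.GH.LowRankMain
import Cfsg.Agent.S1296
import Cfsg.Agent.SectRankFour.Core

/-!
# GH-0: the assembly of the branches of S0500

`main`: the six branch theorems (`Branches.lean`) give `GType G ∨ K4big G` for every `G` with `Hyp G`.
-/

set_option autoImplicit false

open Cfsg Subgroup
open Cfsg.Agent.SignalizersComponents.IntrinsicBasic
open Cfsg.Agent.Intrinsic.Basic Cfsg.Agent.Intrinsic.Cen
open Cfsg.Agent.GH.Defs Cfsg.Agent.GH.Rank Cfsg.Agent.GH.Comp Cfsg.Agent.GH.Branches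

namespace Cfsg.Agent.GH.Assembly

universe u

theorem exists_comp2 {G : Type*} [Group G] [Finite G] (h : IsComponentType G) :
    ∃ (x : G) (K : Subgroup G), Comp2 x K := by
  have hp : Fact (Nat.Prime 2) := ⟨Nat.prime_two⟩
  obtain ⟨t, ht, C, hC⟩ := h
  obtain ⟨K, hK, -⟩ := Lib.PComponents.exists_pcomp (p := 2) (show IsComponent C from hC)
  exact ⟨t, K.map (centralizer ({t} : Set G)).subtype, ht, isComp_of_subtype hK⟩

theorem no_index_two {G : Type*} [Group G] [Finite G] (h : Hyp G) :
    ∀ N : Subgroup G, N.Normal → N.index ≠ 2 := by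
  intro N hN hi
  have := h.simple
  rcases hN.eq_bot_or_eq_top with rfl | rfl
  · rw [Subgroup.index_bot] at hi
    have : IsCyclic G := isCyclic_of_prime_card (p := 2) (hp := ⟨Nat.prime_two⟩) hi
    exact h.nonComm (IsCyclic.isMulCommutative (α := G))
  · rw [Subgroup.index_top] at hi
    omega

/-- **Assembly of the branches.** -/
theorem main (hec : BranchEC.{u}) (he : BranchE.{u}) (ht : BranchTop.{u}) (hl3 : BranchL3.{u})
    (hl2 : BranchL2.{u}) (hc2 : BranchC2.{u}) (G : Type u) [Group G] [Finite G] (h : Hyp G) :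
    Out G := by
  by_cases hev : ∃ (x : G) (K : Subgroup G), Comp2 x K ∧ EvenCenter K
  · exact hec G h hev
  have ho : AllOdd G := fun x K c he => hev ⟨x, K, c, he⟩
  have hr3 : ∀ (x : G) (K : Subgroup G), Comp2 x K → SectionalPRankLE 2 3 (STop K) :=
    fun x K c => (srank_le_iff (by norm_num)).1 (srank_le_three h c (ho x K c))
  by_cases hE : ∃ (x : G) (K : Subgroup G), Comp2 x K ∧ K3 (STop K)
  · exact he G h ho hE
  have hall : ∀ (x : G) (K : Subgroup G), Comp2 x K → Top2 (STop K) ∨ Top3 (STop K) := by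
    intro x K c
    rcases LowRankMain.k2_or_k3 (k4_top h c) (hr3 x K c) with h1 | h1
    · exact ht G h ho x K c (hr3 x K c) h1
    · exact absurd ⟨x, K, c, h1⟩ hE
  by_cases h3 : ∃ (x : G) (K : Subgroup G), Comp2 x K ∧ Top3 (STop K)
  · exact hl3 G h ho hall h3
  have hall2 : ∀ (x : G) (K : Subgroup G), Comp2 x K → Top2 (STop K) := by
    intro x K c
    rcases hall x K c with h1 | h1
    · exact h1
    · exact absurd ⟨x, K, c, h1⟩ h3
  rcases S1296.result h.even_card (no_index_two h) h.oddCore_eq_bot with h2 | hcomp | hchar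
  · exact absurd h2 h.rank3
  · exact hl2 G h ho hall2 (exists_comp2 hcomp)
  · by_cases hL : LocSolv G
    · have := h.simple
      exact Or.inl (Or.inr (Or.inl
        (SectRankFour.Core.exists_stronglyEmbedded h.nonComm hL h.rank4 h.rank3 hchar)))
    · exact hc2 G h hchar hL

end Cfsg.Agent.GH.Assembly
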