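import Cfsg.Agent.GH.Defs
import Cfsg.Agent.GH.RankLie
import Cfsg.Agent.SectRankFour.Rank
import Cfsg.Agent.SmallSimple.PSLTwoPart
import Cfsg.Agent.S0243
import Cfsg.Agent.S0245
import Cfsg.Agent.S0246

/-!
# GH: from the targets `GType G` to the list `K4 G`

`Inputs G` collects the characterisations of simple groups which are used, for one group `G`, in the
form in which they are (or will be) proved.  `k4_of_gType : Hyp G → Inputs G → GType G → K4 G`.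
-/

set_option autoImplicit false

open Cfsg Subgroup
open Cfsg.Agent.GH.Defs

namespace Cfsg.Agent.GH.AssemblyK4

/-- The statement S1740 for the group `G` (Sylow 2-subgroups of the groups of Bender type, `L₃(2^n)` and
`Sp₄(2^n)`). -/
def St1740 (G : Type*) [Group G] : Prop :=
  ∀ (S : Sylow 2 G) (n : ℕ),
    ((∃ (F : Type) (_ : Field F) (_ : Fintype F), Fintype.card F = 2 ^ n ∧ ((∃ P : Sylow 2 (Matrix.ProjectiveSpecialLinearGroup (Fin 2) F), Nonempty (↥(S : Subgroup G) ≃* ↥(P : Subgroup (Matrix.ProjectiveSpecialLinearGroup (Fin 2) F)))) ∨ (∃ P : Sylow 2 (Matrix.ProjectiveSpecialLinearGroup (Fin 3) F), Nonempty (↥(S : Subgroup G) ≃* ↥(P : Subgroup (Matrix.ProjectiveSpecialLinearGroup (Fin 3) F)))) ∨ (2 ≤ n ∧ (∃ P : Sylow 2 (Cfsg.PSp 2 F), Nonempty (↥(S : Subgroup G) ≃* ↥(P : Subgroup (Cfsg.PSp 2 F))))))) ∨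
      (∃ (F : Type) (_ : Field F) (_ : Fintype F), Fintype.card F = 4 ^ n ∧ (∃ P : Sylow 2 (Cfsg.PSU 3 F (2 ^ n)), Nonempty (↥(S : Subgroup G) ≃* ↥(P : Subgroup (Cfsg.PSU 3 F (2 ^ n)))))) ∨
      (∃ m : ℕ, 1 ≤ m ∧ n = 2 * m + 1 ∧ ∃ (F : Type) (_ : Field F) (_ : Fintype F), Fintype.card F = 2 ^ n ∧ (∃ P : Sylow 2 ↥(Cfsg.Lie.Sz F (2 ^ (m + 1))), Nonempty (↥(S : Subgroup G) ≃* ↥(P : Subgroup ↥(Cfsg.Lie.Sz F (2 ^ (m + 1)))))))) →
    (∃ (F : Type) (_ : Field F) (_ : Fintype F), Fintype.card F = 2 ^ n ∧ (Nonempty (G ≃* Matrix.ProjectiveSpecialLinearGroup (Fin 2) F) ∨ Nonempty (G ≃* Matrix.ProjectiveSpecialLinearGroup (Fin 3) F) ∨ Nonempty (G ≃* Cfsg.PSp 2 F))) ∨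
      (∃ (F : Type) (_ : Field F) (_ : Fintype F), Fintype.card F = 4 ^ n ∧ Nonempty (G ≃* Cfsg.PSU 3 F (2 ^ n))) ∨
      (∃ m : ℕ, 1 ≤ m ∧ n = 2 * m + 1 ∧ ∃ (F : Type) (_ : Field F) (_ : Fintype F), Fintype.card F = 2 ^ n ∧ Nonempty (G ≃* ↥(Cfsg.Lie.Sz F (2 ^ (m + 1))))) ∨
      Cfsg.Lie.IsoRee G ∨ Cfsg.Spor.IsoJ1 G

/-- The characterisations which are used, for one group `G`. -/
structure Inputs (G : Type*) [Group G] : Prop where
  /-- S0222: `StrongEmb.Strong.result` -/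
  strong : ∀ H : Subgroup G, IsStronglyEmbedded H →
    (∃ (F : Type) (_ : Field F) (_ : Fintype F), (∃ n : ℕ, 2 ≤ n ∧ Fintype.card F = 2 ^ n) ∧
          Nonempty (G ≃* Matrix.ProjectiveSpecialLinearGroup (Fin 2) F)) ∨
        Cfsg.Lie.IsoSuzuki G ∨
        (∃ (F : Type) (_ : Field F) (_ : Fintype F) (n : ℕ), 2 ≤ n ∧
          Fintype.card F = (2 ^ n) ^ 2 ∧ Nonempty (G ≃* Cfsg.PSU 3 F (2 ^ n)))
  /-- S0506, at the level of isomorphism: `ClassificationK.WalterIso.iso_of_wType` -/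
  abel : ∀ S : Sylow 2 G, IsMulCommutative ↥(S : Subgroup G) →
    (∃ (F : Type) (_ : Field F) (_ : Fintype F) (n : ℕ), 2 ≤ n ∧ Fintype.card F = 2 ^ n ∧
        Nonempty (G ≃* Matrix.ProjectiveSpecialLinearGroup (Fin 2) F)) ∨
      (∃ (F : Type) (_ : Field F) (_ : Fintype F),
        (Fintype.card F % 8 = 3 ∨ Fintype.card F % 8 = 5) ∧ 5 ≤ Fintype.card F ∧
          Nonempty (G ≃* Matrix.ProjectiveSpecialLinearGroup (Fin 2) F)) ∨
      Lie.IsoRee G ∨ Spor.IsoJ1 G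
  /-- S0503, at the level of isomorphism: `NonConnEnd.exists_setup` and the theorem behind S1776 -/
  nonconn : ∀ S : Sylow 2 G, ¬ IsFourConnected ↥(S : Subgroup G) → Spor.IsoJ2 G ∨ Spor.IsoJ3 G
  /-- S1776 -/
  j2 : ∀ (S : Sylow 2 G) (P : Sylow 2 Spor.J2),
    Nonempty (↥(S : Subgroup G) ≃* ↥(P : Subgroup Spor.J2)) → Spor.IsoJ2 G ∨ Spor.IsoJ3 G
  /-- S1740 -/
  bender : St1740 G
  /-- S0509 -/
  sp4 : ∀ (F : Type) [Field F] [Fintype F], Odd (Fintype.card F) → ∀ (S : Sylow 2 G)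
    (P : Sylow 2 (Cfsg.PSp 2 F)), Nonempty (↥(S : Subgroup G) ≃* ↥(P : Subgroup (Cfsg.PSp 2 F))) →
    (∃ (K : Type) (_ : Field K) (_ : Fintype K), Odd (Fintype.card K) ∧
        Nonempty (G ≃* Cfsg.PSp 2 K)) ∨
      Nonempty (G ≃* alternatingGroup (Fin 8)) ∨ Nonempty (G ≃* alternatingGroup (Fin 9))
  /-- S0510, with `HasAltCover` instead of the order of `McL`, and S1663, S1664 -/
  l4 : ∀ (F : Type) [Field F] [Fintype F], Odd (Fintype.card F) → ∀ (S : Sylow 2 G)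
    (P : Sylow 2 (Matrix.ProjectiveSpecialLinearGroup (Fin 4) F)),
    Nonempty (↥(S : Subgroup G) ≃* ↥(P : Subgroup (Matrix.ProjectiveSpecialLinearGroup (Fin 4) F))) →
    (∃ (K : Type) (_ : Field K) (_ : Fintype K), Odd (Fintype.card K) ∧
        Nonempty (G ≃* Matrix.ProjectiveSpecialLinearGroup (Fin 4) K)) ∨
      (∃ (K : Type) (_ : Field K) (_ : Fintype K) (r : ℕ), Fintype.card K = r ^ 2 ∧ Odd r ∧
        Nonempty (G ≃* Cfsg.PSU 4 K r)) ∨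
      Nonempty (G ≃* alternatingGroup (Fin 10)) ∨ Nonempty (G ≃* alternatingGroup (Fin 11)) ∨
      Spor.IsoM22 G ∨ Spor.IsoM23 G ∨ HasAltCover G
  /-- S0511 -/
  l5 : ∀ (F : Type) [Field F] [Fintype F], Odd (Fintype.card F) → ∀ (S : Sylow 2 G)
    (P : Sylow 2 (Matrix.ProjectiveSpecialLinearGroup (Fin 5) F)),
    Nonempty (↥(S : Subgroup G) ≃* ↥(P : Subgroup (Matrix.ProjectiveSpecialLinearGroup (Fin 5) F))) →
    (∃ (K : Type) (_ : Field K) (_ : Fintype K), Odd (Fintype.card K) ∧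
        Nonempty (G ≃* Matrix.ProjectiveSpecialLinearGroup (Fin 5) K)) ∨
      (∃ (K : Type) (_ : Field K) (_ : Fintype K) (r : ℕ), Fintype.card K = r ^ 2 ∧ Odd r ∧
        Nonempty (G ≃* Cfsg.PSU 5 K r))
  /-- S1742 -/
  g2 : ∀ (F : Type) [Field F] [Fintype F], Odd (Fintype.card F) → ∀ (S : Sylow 2 G)
    (P : Sylow 2 ↥(Cfsg.Lie.chevG2.group F)),
    Nonempty (↥(S : Subgroup G) ≃* ↥(P : Subgroup ↥(Cfsg.Lie.chevG2.group F))) →
    (∃ (E : Type) (_ : Field E) (_ : Fintype E), Odd (Fintype.card E) ∧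
        Nonempty (G ≃* ↥(Cfsg.Lie.chevG2.group E))) ∨
      (∃ (K : Type) (_ : Field K) (_ : Fintype K) (r : ℕ), Odd r ∧ Fintype.card K = r ^ 3 ∧
        Nonempty (G ≃* ↥(Cfsg.Lie.twistedD4 K r))) ∨
      Cfsg.Spor.IsoM12 G

/-- The groups of `K4` of 2-rank at least 3. -/
def K4r (X : Type*) [Group X] : Prop :=
  IsU34 X ∨ K3 X ∨ IsL216 X ∨ IsL34 X ∨ (∃ n, 8 ≤ n ∧ n ≤ 11 ∧ IsAlt n X) ∨
    IsSp4odd X ∨ IsL4odd X ∨ IsU4odd X ∨ IsL5odd X ∨ IsU5odd X ∨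
    (IsG2odd X ∧ AllG2 X) ∨ (IsD4odd X ∧ AllG2 X) ∨
    Spor.IsoM12 X ∨ Spor.IsoM22 X ∨ Spor.IsoM23 X ∨ Spor.IsoJ2 X ∨ Spor.IsoJ3 X ∨ HasAltCover X

theorem K4r.k4 {X : Type*} [Group X] (h : K4r X) : K4 X := by
  rcases h with h | h
  · exact Or.inl (Or.inr (Or.inr (Or.inr (Or.inl h))))
  · exact Or.inr h

section small

variable {G : Type*} [Group G] [Finite G]

/-- A group of order not divisible by 8 has 2-rank at most 2. -/
theorem rank_of_not_dvd (h : ¬ 8 ∣ Nat.card G) : PRankLE 2 2 G := by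
  intro A _ hA
  have hp : IsPGroup 2 A := fun a => ⟨1, by
    rw [pow_one]
    exact Subtype.ext (hA a a.2)⟩
  obtain ⟨k, hk⟩ := (IsPGroup.iff_card (p := 2)).1 hp
  have hd : 2 ^ k ∣ Nat.card G := by
    rw [← hk]
    exact Subgroup.card_subgroup_dvd_card A
  rw [hk]
  by_contra hcon
  have h3 : 2 < k := by
    by_contra hk2
    exact hcon (Nat.pow_le_pow_right (by norm_num) (not_lt.1 hk2))
  exact h ((pow_dvd_pow 2 h3).trans hd)

theorem psl_two_even (h : Hyp G) {F : Type} [Field F] [Fintype F] {n : ℕ} (hn : 2 ≤ n)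
    (hF : Fintype.card F = 2 ^ n) (e : G ≃* Matrix.ProjectiveSpecialLinearGroup (Fin 2) F) : K4r G := by
  have hev : Even (Fintype.card F) := by
    rw [hF]
    exact (Nat.even_pow.2 ⟨even_two, by omega⟩)
  have hch : CharP F 2 := SectRankFour.Rank.char_two_of_even hev
  have hle := SectRankFour.Rank.card_le_psl_two h.rank4 e
  rw [hF] at hle
  have hn4 : n ≤ 4 := (Nat.pow_le_pow_iff_right (by norm_num)).1 hle
  interval_cases n
  · exfalso
    apply h.rank3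
    apply rank_of_not_dvd
    rw [Nat.card_congr e.toEquiv, SmallSimple.PSLTwoPart.card_psl_two_even hev, hF]
    norm_num
  · exact Or.inr (Or.inl (Or.inl ⟨F, _, _, hF, ⟨e⟩⟩))
  · exact Or.inr (Or.inr (Or.inl ⟨F, _, _, hF, ⟨e⟩⟩))

theorem suzuki (h : Hyp G) (hG : Lie.IsoSuzuki G) : K4r G := by
  obtain ⟨F, _, _, m, hm, hF, ⟨e⟩⟩ := hG
  have h1 := SectRankFour.Rank.card_le_sz hF h.rank4 e
  have h2 : 2 * m + 1 ≤ 4 := (Nat.pow_le_pow_iff_right (by norm_num)).1 h1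
  obtain rfl : m = 1 := by omega
  exact Or.inr (Or.inl (Or.inr (Or.inl ⟨F, _, _, hF, ⟨e⟩⟩)))

theorem psu_three (h : Hyp G) {F : Type} [Field F] [Fintype F] {n : ℕ} (hn : 2 ≤ n)
    (hF : Fintype.card F = (2 ^ n) ^ 2) (e : G ≃* PSU 3 F (2 ^ n)) : K4r G := by
  have h1 := SectRankFour.Rank.card_le_psu (by omega) hF h.rank4 e
  rw [← pow_mul] at h1
  have h2 : n * 2 ≤ 4 := (Nat.pow_le_pow_iff_right (by norm_num)).1 h1
  obtain rfl : n = 2 := by omega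
  exact Or.inl ⟨F, _, _, hF, ⟨e⟩⟩

theorem of_strong (h : Hyp G) (I : Inputs G) {H : Subgroup G} (hH : IsStronglyEmbedded H) :
    K4r G := by
  rcases I.strong H hH with ⟨F, _, _, ⟨n, hn, hF⟩, ⟨e⟩⟩ | hs | ⟨F, _, _, n, hn, hF, ⟨e⟩⟩
  · exact psl_two_even h hn hF e
  · exact suzuki h hs
  · exact psu_three h hn hF e

theorem psl_two_odd (h : Hyp G) {F : Type} [Field F] [Fintype F]
    (hF : Fintype.card F % 8 = 3 ∨ Fintype.card F % 8 = 5)
    (e : G ≃* Matrix.ProjectiveSpecialLinearGroup (Fin 2) F) : False := by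
  have hodd : Odd (Fintype.card F) := by
    rw [Nat.odd_iff]
    omega
  apply h.rank3
  apply rank_of_not_dvd
  intro h8
  have h1 := SmallSimple.PSLTwoPart.card_psl_two_odd (F := F) hodd
  rw [← Nat.card_congr e.toEquiv] at h1
  have h16 : 2 ^ 4 ∣ Fintype.card F * (Fintype.card F ^ 2 - 1) := by
    rw [← h1]
    obtain ⟨k, hk⟩ := h8
    exact ⟨k, by rw [hk]; ring⟩
  have h2 : 2 ^ 4 ∣ Fintype.card F ^ 2 - 1 :=
    ((Nat.coprime_two_left.2 hodd).pow_left 4).dvd_of_dvd_mul_left h16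
  generalize Fintype.card F = q at *
  rcases hF with h3 | h3
  · obtain ⟨k, rfl⟩ : ∃ k, q = 8 * k + 3 := ⟨q / 8, by omega⟩
    have h4 : (8 * k + 3) ^ 2 - 1 = 16 * (4 * k ^ 2 + 3 * k) + 8 := by
      have : (8 * k + 3) ^ 2 = 16 * (4 * k ^ 2 + 3 * k) + 8 + 1 := by ring
      omega
    rw [h4] at h2
    omega
  · obtain ⟨k, rfl⟩ : ∃ k, q = 8 * k + 5 := ⟨q / 8, by omega⟩
    have h4 : (8 * k + 5) ^ 2 - 1 = 16 * (4 * k ^ 2 + 5 * k + 1) + 8 := by
      have : (8 * k + 5) ^ 2 = 16 * (4 * k ^ 2 + 5 * k + 1) + 8 + 1 := by ring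
      omega
    rw [h4] at h2
    omega

theorem of_abel (h : Hyp G) (I : Inputs G) (S : Sylow 2 G)
    (hS : IsMulCommutative ↥(S : Subgroup G)) : K4r G := by
  rcases I.abel S hS with ⟨F, _, _, n, hn, hF, ⟨e⟩⟩ | ⟨F, _, _, hF, h5, ⟨e⟩⟩ | hR | hJ
  · exact psl_two_even h hn hF e
  · exact (psl_two_odd h hF e).elim
  · exact Or.inr (Or.inl (Or.inr (Or.inr (Or.inl hR))))
  · exact Or.inr (Or.inl (Or.inr (Or.inr (Or.inr hJ))))

omit [Finite G] in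
theorem of_janko (h : Spor.IsoJ2 G ∨ Spor.IsoJ3 G) : K4r G := by
  iterate 15 right
  rcases h with h | h
  · exact Or.inl h
  · exact Or.inr (Or.inl h)

end small

/-! ### exclusions by the order -/

section order

theorem card_sylow_eq {G : Type*} [Group G] [Finite G] (S : Sylow 2 G) {a m : ℕ} (hm : Odd m)
    (h : Nat.card G = 2 ^ a * m) : Nat.card (S : Subgroup G) = 2 ^ a := by
  have : Fact (Nat.Prime 2) := ⟨Nat.prime_two⟩
  rw [S.card_eq_multiplicity, h, Nat.factorization_mul (by positivity) (by rintro rfl; simp at hm),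
    Nat.prime_two.factorization_pow]
  have h1 : m.factorization 2 = 0 := by
    apply Nat.factorization_eq_zero_of_not_dvd
    intro h2
    exact (Nat.not_even_iff_odd.2 hm) (even_iff_two_dvd.2 h2)
  simp [h1]

theorem card_psl_three {F : Type*} [Field F] [Fintype F] {n : ℕ} (hn : n = 2 ∨ n = 3)
    (hF : Fintype.card F = 2 ^ n) :
    ∃ m, Odd m ∧ Nat.card (Matrix.ProjectiveSpecialLinearGroup (Fin 3) F) = 2 ^ (3 * n) * m := by
  have h := S0243.result hF 3 (by norm_num)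
  rcases hn with rfl | rfl
  · refine ⟨315, by decide, ?_⟩
    have h1 : Nat.gcd 3 (2 ^ 2 - 1) * ((2 ^ 2 - 1) *
        Nat.card (Matrix.ProjectiveSpecialLinearGroup (Fin 3) F)) = 181440 := by
      rw [h]; decide
    have h2 : Nat.gcd 3 (2 ^ 2 - 1) = 3 := by decide
    rw [h2] at h1
    omega
  · refine ⟨32193, by decide, ?_⟩
    have h1 : Nat.gcd 3 (2 ^ 3 - 1) * ((2 ^ 3 - 1) *
        Nat.card (Matrix.ProjectiveSpecialLinearGroup (Fin 3) F)) = (2 ^ 3) ^ 3 * 225351 := by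
      rw [h]; decide
    have h2 : Nat.gcd 3 (2 ^ 3 - 1) = 1 := by decide
    rw [h2] at h1
    omega

theorem card_psp_two {F : Type*} [Field F] [Fintype F] {n : ℕ} (hn : n = 2 ∨ n = 3)
    (hF : Fintype.card F = 2 ^ n) :
    ∃ m, Odd m ∧ Nat.card (Cfsg.PSp 2 F) = 2 ^ (4 * n) * m := by
  have h := S0245.result hF 2
  have hc := S0246.result hF 2 (by norm_num)
  have hq := Subgroup.card_eq_card_quotient_mul_card_subgroup
    (Subgroup.center (Matrix.symplecticGroup (Fin 2) F))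
  rw [h, hc] at hq
  rcases hn with rfl | rfl
  · refine ⟨3825, by decide, ?_⟩
    have h1 : Nat.gcd 2 (2 ^ 2 - 1) = 1 := by decide
    rw [h1, mul_one] at hq
    rw [← hq]
    simp [Finset.prod_range_succ]
  · refine ⟨257985, by decide, ?_⟩
    have h1 : Nat.gcd 2 (2 ^ 3 - 1) = 1 := by decide
    rw [h1, mul_one] at hq
    rw [← hq]
    simp [Finset.prod_range_succ]

theorem card_sz_eight {F : Type*} [Field F] [Fintype F] (hF : Fintype.card F = 8) :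
    Nat.card ↥(Lie.Sz F 4) = 2 ^ 6 * 455 := by
  have h := (S1163.result (F := F) (m := 1) le_rfl (by rw [hF]; norm_num)).1
  have h1 : (2 : ℕ) ^ (1 + 1) = 4 := by norm_num
  rw [h1] at h
  rw [h]
  norm_num

end order

section targets

variable {G : Type*} [Group G] [Finite G]

/-- The conclusion of S1740 for `n = 2, 3` and a Sylow 2-subgroup of order 64. -/
theorem of_bender (h : Hyp G) (S : Sylow 2 G) (hS : Nat.card (S : Subgroup G) = 2 ^ 6) {n : ℕ}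
    (hn : n = 2 ∨ n = 3)
    (hc : (∃ (F : Type) (_ : Field F) (_ : Fintype F), Fintype.card F = 2 ^ n ∧ (Nonempty (G ≃* Matrix.ProjectiveSpecialLinearGroup (Fin 2) F) ∨ Nonempty (G ≃* Matrix.ProjectiveSpecialLinearGroup (Fin 3) F) ∨ Nonempty (G ≃* Cfsg.PSp 2 F))) ∨
      (∃ (F : Type) (_ : Field F) (_ : Fintype F), Fintype.card F = 4 ^ n ∧ Nonempty (G ≃* Cfsg.PSU 3 F (2 ^ n))) ∨
      (∃ m : ℕ, 1 ≤ m ∧ n = 2 * m + 1 ∧ ∃ (F : Type) (_ : Field F) (_ : Fintype F), Fintype.card F = 2 ^ n ∧ Nonempty (G ≃* ↥(Cfsg.Lie.Sz F (2 ^ (m + 1))))) ∨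
      Cfsg.Lie.IsoRee G ∨ Cfsg.Spor.IsoJ1 G) : K4r G := by
  rcases hc with ⟨F, _, _, hF, ⟨⟨e⟩⟩ | ⟨⟨e⟩⟩ | ⟨⟨e⟩⟩⟩ | ⟨F, _, _, hF, ⟨e⟩⟩ |
    ⟨m, hm, hnm, F, _, _, hF, ⟨e⟩⟩ | hR | hJ
  · exact psl_two_even h (by omega) hF e
  · obtain ⟨m, hm, hcard⟩ := card_psl_three hn hF
    have h1 := card_sylow_eq S hm (by rw [Nat.card_congr e.toEquiv, hcard])
    rw [hS] at h1
    have h2 : 6 = 3 * n := Nat.pow_right_injective (le_refl 2) h1
    obtain rfl : n = 2 := by omega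
    exact Or.inr (Or.inr (Or.inr (Or.inl ⟨F, _, _, hF, ⟨e⟩⟩)))
  · exfalso
    obtain ⟨m, hm, hcard⟩ := card_psp_two hn hF
    have h1 := card_sylow_eq S hm (by rw [Nat.card_congr e.toEquiv, hcard])
    rw [hS] at h1
    have h2 : 6 = 4 * n := Nat.pow_right_injective (le_refl 2) h1
    omega
  · refine psu_three h (n := n) (by omega) ?_ e
    rw [hF, ← pow_mul, mul_comm n 2, pow_mul]
    norm_num
  · exact suzuki h ⟨F, _, _, m, hm, by rw [hF, hnm], ⟨e⟩⟩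
  · exact Or.inr (Or.inl (Or.inr (Or.inr (Or.inl hR))))
  · exact Or.inr (Or.inl (Or.inr (Or.inr (Or.inr hJ))))

theorem of_sz (h : Hyp G) (I : Inputs G) (S : Sylow 2 G) (hS : TypeSz8 ↥(S : Subgroup G)) :
    K4r G := by
  obtain ⟨F, _, _, hF, P, ⟨e⟩⟩ := hS
  refine of_bender h S ?_ (Or.inr rfl) (I.bender S 3 ?_)
  · rw [Nat.card_congr e.toEquiv]
    exact card_sylow_eq P (m := 455) (by decide) (card_sz_eight hF)
  · exact Or.inr (Or.inr ⟨1, le_rfl, by norm_num, F, _, _, hF, P, ⟨e⟩⟩)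

theorem of_l34 (h : Hyp G) (I : Inputs G) (S : Sylow 2 G) (hS : TypeL34 ↥(S : Subgroup G)) :
    K4r G := by
  obtain ⟨F, _, _, hF, P, ⟨e⟩⟩ := hS
  refine of_bender h S ?_ (Or.inl rfl) (I.bender S 2 ?_)
  · rw [Nat.card_congr e.toEquiv]
    obtain ⟨m, hm, hcard⟩ := card_psl_three (n := 2) (Or.inl rfl) hF
    exact card_sylow_eq P hm hcard
  · exact Or.inl ⟨F, _, _, hF, Or.inr (Or.inl ⟨P, ⟨e⟩⟩)⟩

omit [Finite G] in
theorem of_sp4 (I : Inputs G) (S : Sylow 2 G) (hS : TypeSp4 ↥(S : Subgroup G)) : K4r G := by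
  obtain ⟨F, _, _, hF, P, ⟨e⟩⟩ := hS
  rcases I.sp4 F hF S P ⟨e⟩ with h | h | h
  · iterate 5 right
    exact Or.inl h
  · iterate 4 right
    exact Or.inl ⟨8, le_rfl, by norm_num, h⟩
  · iterate 4 right
    exact Or.inl ⟨9, by norm_num, by norm_num, h⟩

theorem of_l4 (hG : Hyp G) (I : Inputs G) (S : Sylow 2 G) (hS : TypeL4 ↥(S : Subgroup G)) :
    K4r G := by
  obtain ⟨F, _, _, hF, P, ⟨e⟩⟩ := hS
  rcases I.l4 F hF S P ⟨e⟩ with ⟨K, _, _, hK, ⟨f⟩⟩ | ⟨K, _, _, r, hK, hr, ⟨f⟩⟩ | h | h | h | h | h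
  · iterate 6 right
    exact Or.inl ⟨K, _, _, hK, RankLie.psl_four hG.rank4 f, ⟨f⟩⟩
  · iterate 7 right
    exact Or.inl ⟨K, _, _, r, hK, hr, RankLie.psu_four hG.rank4 hK f, ⟨f⟩⟩
  · iterate 4 right
    exact Or.inl ⟨10, by norm_num, by norm_num, h⟩
  · iterate 4 right
    exact Or.inl ⟨11, by norm_num, by norm_num, h⟩
  · iterate 13 right
    exact Or.inl h
  · iterate 14 right
    exact Or.inl h
  · iterate 17 right
    exact h

theorem of_l5 (hG : Hyp G) (I : Inputs G) (S : Sylow 2 G) (hS : TypeL5 ↥(S : Subgroup G)) :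
    K4r G := by
  obtain ⟨F, _, _, hF, P, ⟨e⟩⟩ := hS
  rcases I.l5 F hF S P ⟨e⟩ with ⟨K, _, _, hK, ⟨f⟩⟩ | ⟨K, _, _, r, hK, hr, ⟨f⟩⟩
  · iterate 8 right
    exact Or.inl ⟨K, _, _, RankLie.psl_five hG.rank4 hK f, ⟨f⟩⟩
  · iterate 9 right
    exact Or.inl ⟨K, _, _, r, hK, RankLie.psu_five hG.rank4 hK hr f, ⟨f⟩⟩

theorem allG2 {S : Sylow 2 G} (hS : TypeG2 ↥(S : Subgroup G)) : AllG2 G := by
  intro T
  have : Fact (Nat.Prime 2) := ⟨Nat.prime_two⟩
  exact hS.congr (S.equiv T)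

theorem of_g2 (I : Inputs G) (S : Sylow 2 G) (hS : TypeG2 ↥(S : Subgroup G)) : K4r G := by
  obtain ⟨F, _, _, hF, P, ⟨e⟩⟩ := id hS
  rcases I.g2 F hF S P ⟨e⟩ with ⟨K, _, _, hK, f⟩ | ⟨K, _, _, r, hr, hK, f⟩ | h
  · iterate 10 right
    exact Or.inl ⟨⟨K, _, _, hK, f⟩, allG2 hS⟩
  · iterate 11 right
    exact Or.inl ⟨⟨K, _, _, r, hr, hK, f⟩, allG2 hS⟩
  · iterate 12 right
    exact Or.inl h

/-- **From the targets to the list.** -/
theorem k4r_of_gType (h : Hyp G) (I : Inputs G) (hG : GType G) : K4r G := by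
  rcases hG with ⟨S, hS⟩ | ⟨H, hH⟩ | hA
  · rcases hS with hS | hS | ⟨P, e⟩ | hS | hS | hS | hS | hS | hS
    · exact of_abel h I S hS
    · exact of_janko (I.nonconn S hS)
    · exact of_janko (I.j2 S P e)
    · exact of_sz h I S hS
    · exact of_l34 h I S hS
    · exact of_sp4 I S hS
    · exact of_l4 h I S hS
    · exact of_l5 h I S hS
    · exact of_g2 I S hS
  · exact of_strong h I hH
  · iterate 17 right
    exact hA

theorem k4_of_gType (h : Hyp G) (I : Inputs G) (hG : GType G) : K4 G :=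
  (k4r_of_gType h I hG).k4

end targets

end Cfsg.Agent.GH.AssemblyK4
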