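import Cfsg.Agent.GH.EMain
import Cfsg.Agent.GH.Branches

/-!
# GH: the branch GH-E

`branchE : Branches.BranchE`, from `E.false_of_k3`.
-/

set_option autoImplicit false

open Cfsg Subgroup
open Cfsg.Agent.GH.Defs

namespace Cfsg.Agent.GH.BranchE

universe u

/-- **The branch GH-E**. -/
theorem branchE : Branches.BranchE.{u} := by
  intro G _ _ h ho he
  obtain ⟨x, K, c, hK⟩ := he
  exact (E.false_of_k3 h c (ho x K c) hK).elim

end Cfsg.Agent.GH.BranchE
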