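import Cfsg.Agent.GH.BranchL2Minf
import Cfsg.Agent.S1173

/-!
# GH: the branch `BranchL2`
-/

set_option autoImplicit false

universe u

namespace Cfsg.Agent.GH.BranchL2

/-- **The branch GH-L2.** -/
theorem branchL2 : Branches.BranchL2.{u} :=
  branchL2_of_1173 fun _ _ _ hO S T hT => Cfsg.Agent.S1173.result hO S T hT

end Cfsg.Agent.GH.BranchL2
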