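import Cfsg.Agent.GH.BranchL2Of
import Cfsg.Agent.GH.L2QTwo.MInFMain

/-!
# GH: the branch `BranchL2` from S1173 only
-/

set_option autoImplicit false

open Cfsg Subgroup
open Cfsg.Agent.GH.Defs

universe u

namespace Cfsg.Agent.GH.BranchL2

theorem mInF (G : Type u) [Group G] [Finite G] : L2LeafC.MInF G := by
  intro x K T S A _ d r c o1 o2 F f s h X hd hf _ _ hc
  exact L2QTwo.MInF.false_of_conj F hd hf hc (C2Five.r4_iff.mpr h.hyp.rank4) X.comm

/-- The branch from the literal statement of S1173. -/
theorem branchL2_of_1173 (h1173 : ∀ (G : Type u) [Group G] [Finite G], L2Main.St1173 G) :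
    Branches.BranchL2.{u} :=
  branchL2_of h1173 fun G _ _ => mInF G

end Cfsg.Agent.GH.BranchL2
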