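import Cfsg.Agent.GH.T4Final
import Cfsg.Agent.GH.L2Main
import Cfsg.Agent.GH.Rank

/-!
# The leaf (T4) of the branch `l2`
-/

set_option autoImplicit false

open Cfsg Subgroup
open Cfsg.Agent.GH.Defs

namespace Cfsg.Agent.GH.T4Leaf

variable {G : Type*} [Group G]

/-- **The leaf (T4)** -/
theorem leafT4 [Finite G] (hG : Hyp G) : L2Main.LeafT4 G := by
  intro X N V L U ρ h q t4
  obtain ⟨S⟩ : Nonempty (Sylow 2 G) := inferInstance
  exact ⟨S, T4Base.sType hG h q (Rank.pRankLE hG.rank4) t4 S⟩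

end Cfsg.Agent.GH.T4Leaf
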