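import Cfsg.Agent.GH.L2LeafC
import Cfsg.Agent.GH.L2One.Main
import Cfsg.Agent.GH.T4Leaf

/-!
# GH-L2: leaves B and (T4), and the branch `l2` from S1173 and the pieces of leaf C
-/

set_option autoImplicit false

open Cfsg Subgroup
open Cfsg.Agent.GH.Defs Cfsg.Agent.GH.L2Quad

namespace Cfsg.Agent.GH.L2Leaves

variable {G : Type*} [Group G] [Finite G]

theorem leafB (hG : Hyp G) (ho : AllOdd G) : L2Main.LeafB G :=
  fun _ _ _ c hL hT hQ h4 => L2One.Main.exists_sType hG ho c hL hT hQ h4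

theorem l2_of_leafC (hG : Hyp G) (ho : AllOdd G) (h1173 : L2Main.St1173 G) (hC : L2Main.LeafC G)
    (hall : ∀ (x : G) (K : Subgroup G), Comp2 x K → IsTop (STop K))
    (hex : ∃ (x : G) (K : Subgroup G), Comp2 x K) : GType G :=
  L2Main.l2_of hG ho h1173 (T4Leaf.leafT4 hG) (leafB hG ho) hC hall hex

theorem l2_of_pieces (hG : Hyp G) (ho : AllOdd G) (h1173 : L2Main.St1173 G)
    (hM : L2LeafC.MInF G)
    (hall : ∀ (x : G) (K : Subgroup G), Comp2 x K → IsTop (STop K))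
    (hex : ∃ (x : G) (K : Subgroup G), Comp2 x K) : GType G :=
  l2_of_leafC hG ho h1173 (L2LeafC.leafC_of hG ho hM) hall hex

end Cfsg.Agent.GH.L2Leaves
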