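import Cfsg.Agent.GH.Branches
import Cfsg.Agent.GH.L2Leaves

/-!
# GH: the branch `BranchL2`

`branchL2_of`: from S1173 and the piece (M-in-f) of leaf C.
-/

set_option autoImplicit false

open Cfsg Subgroup
open Cfsg.Agent.GH.Defs

universe u

namespace Cfsg.Agent.GH.BranchL2

theorem branchL2_of
    (h1173 : ∀ (G : Type u) [Group G] [Finite G], L2Main.St1173 G)
    (hM : ∀ (G : Type u) [Group G] [Finite G], L2LeafC.MInF G) : Branches.BranchL2.{u} := by
  intro G _ _ hG ho hall hex
  exact Or.inl (L2Leaves.l2_of_pieces hG ho (h1173 G) (hM G) hall hex)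

end Cfsg.Agent.GH.BranchL2
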