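import Cfsg.Agent.GH.OddTop
import Cfsg.Agent.GH.Branches
import Cfsg.Agent.S1248

/-!
# GH: the branch [odd tops]

In the odd world the top of a 2-component of the centralizer of an involution, if it lies in `K2`, is
`L₂(q)`, `A₇`, `L₃(3)`, `U₃(3)` or `M₁₁` (`top`, `branchTop : Branches.BranchTop`).
-/

set_option autoImplicit false

open Cfsg Subgroup
open Cfsg.Agent.GH.Defs Cfsg.Agent.GH.Rank Cfsg.Agent.GH.Comp Cfsg.Agent.GH.L2FourOC
open Cfsg.Agent.GH.LiftComp Cfsg.Agent.GH.OddTop

namespace Cfsg.Agent.GH.BranchTop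

universe u

/-- `PSU₃(4)` has sectional 2-rank at least 4. -/
theorem u34_not {F : Type*} [Field F] [Fintype F] (hF : Fintype.card F = 16) :
    ¬ SectionalPRankLE 2 3 (PSU 3 F 4) := by
  intro h
  have S : Sylow 2 (PSU 3 F 4) := default
  obtain ⟨-, -, -, -, h1, h2⟩ := S1248.result hF S
  have h3 : SectionalPRankLE 2 3 ((S : Subgroup (PSU 3 F 4)) ⧸
      Subgroup.center (S : Subgroup (PSU 3 F 4))) := of_quotient (of_subgroup h _) _
  have hcomm : ∀ a b : (S : Subgroup (PSU 3 F 4)) ⧸ Subgroup.center (S : Subgroup (PSU 3 F 4)),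
      a * b = b * a := by
    intro a b
    have ha := h2 a
    have hb := h2 b
    have hab := h2 (a * b)
    rw [pow_two] at ha hb hab
    calc a * b = a * (a * b * (a * b)) * b := by rw [hab]; group
      _ = (a * a) * b * a * (b * b) := by group
      _ = b * a := by rw [ha, hb]; group
  have h4 := card_le h3 hcomm h2
  omega

/-- The branch [odd tops] for one group. -/
theorem top {G : Type*} [Group G] [Finite G] (h : Hyp G) (ho : AllOdd G) {x : G} {K : Subgroup G}
    (c : Comp2 x K) (hr : SectionalPRankLE 2 3 (STop K)) (h2 : K2 (STop K)) :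
    Branches.Top2 (STop K) ∨ Branches.Top3 (STop K) := by
  rcases h2 with h1 | h1 | h1 | h1 | h1 | h1
  · exact Or.inl (Or.inl h1)
  · obtain ⟨F, _, _, hF, ⟨e⟩⟩ := h1
    rcases Nat.lt_or_ge (Fintype.card F) 4 with h4 | h4
    · have h3 : Fintype.card F = 3 := by
        have : 1 < Fintype.card F := Fintype.one_lt_card
        obtain ⟨k, hk⟩ := hF
        omega
      exact Or.inr (Or.inl ⟨F, _, _, h3, ⟨e⟩⟩)
    · exact (false_of_top h ho c (HasInner.congr e.symm
        (hasInner_psl (by rwa [Nat.card_eq_fintype_card]) (by rwa [Nat.card_eq_fintype_card])))).elim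
  · obtain ⟨F, _, _, q, hF, hq, ⟨e⟩⟩ := h1
    rcases Nat.lt_or_ge q 4 with h4 | h4
    · have h5 : 1 < Fintype.card F := Fintype.one_lt_card
      have h6 : q = 3 := by
        obtain ⟨k, hk⟩ := hq
        have : k ≠ 0 := by
          rintro rfl
          rw [hk] at hF
          omega
        omega
      subst h6
      exact Or.inr (Or.inr (Or.inl ⟨F, _, _, by rw [hF]; norm_num, ⟨e⟩⟩))
    · exact (false_of_top h ho c (HasInner.congr e.symm (hasInner_psu hF hq h4))).elim
  · obtain ⟨F, _, _, hF, ⟨e⟩⟩ := h1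
    exact (u34_not hF (of_equiv hr e)).elim
  · exact Or.inl (Or.inr h1)
  · exact Or.inr (Or.inr (Or.inr h1))

/-- **The branch [odd tops].** -/
theorem branchTop : Branches.BranchTop.{u} :=
  fun _ _ _ h ho _ _ c hr h2 => top h ho c hr h2

end Cfsg.Agent.GH.BranchTop
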