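import Mathlib
import Cfsg.Agent.Transfer.ElemAbAut

/-!
# GH-C2: a group `Y` of automorphisms of an elementary abelian group `V` of order at most 16, of order
divisible by 5 and not solvable

* `fix_one` : an element of order 5 acts fixed point freely, `|V| = 16`.
* `card_cent` : its centralizer has order dividing 15.
* `solvable_of_not_dvd` : a normal subgroup of order prime to 5 is solvable.
* `perfect` : the normal closure of an element of order 5 is perfect.
* `exists_inv` : an element of order 5 is inverted by an involution.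
-/

set_option autoImplicit false
set_option maxHeartbeats 800000

namespace Cfsg.Agent.GH.C2Act

open Subgroup

variable {Y V : Type*} [Group Y] [Group V]

/-- the fixed points of `P` -/
def fixed (φ : Y →* MulAut V) (P : Subgroup Y) : Subgroup V where
  carrier := {v | ∀ p ∈ P, φ p v = v}
  one_mem' := fun _ _ => map_one _
  mul_mem' := fun {a b} ha hb p hp => by rw [map_mul, ha p hp, hb p hp]
  inv_mem' := fun {a} ha p hp => by rw [map_inv, ha p hp]

theorem mem_fixed {φ : Y →* MulAut V} {P : Subgroup Y} {v : V} :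
    v ∈ fixed φ P ↔ ∀ p ∈ P, φ p v = v := Iff.rfl

/-- `|U| ≡ |C_U(P)|` modulo `p` for a `p`-group `P` -/
theorem card_modEq [Finite V] (φ : Y →* MulAut V) {p : ℕ} [hp : Fact p.Prime] {P : Subgroup Y}
    (hP : IsPGroup p P) {U : Subgroup V} (hU : ∀ g ∈ P, ∀ u ∈ U, φ g u ∈ U) :
    Nat.card U ≡ Nat.card (U ⊓ fixed φ P : Subgroup V) [MOD p] := by
  classical
  let _ : MulAction P U :=
    { smul := fun g u => ⟨φ g u, hU g g.2 u u.2⟩
      one_smul := fun u => Subtype.ext (by
        show φ ((1 : P) : Y) u = u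
        rw [Subgroup.coe_one, map_one]; rfl)
      mul_smul := fun g h u => Subtype.ext (by
        show φ ((g * h : P) : Y) u = φ g (φ h u)
        rw [Subgroup.coe_mul, map_mul]; rfl) }
  have h1 := hP.card_modEq_card_fixedPoints U
  have h2 : Nat.card (MulAction.fixedPoints P U) = Nat.card (U ⊓ fixed φ P : Subgroup V) := by
    refine Nat.card_congr ⟨fun u => ⟨u.1, u.1.2, fun g hg => congrArg Subtype.val (u.2 ⟨g, hg⟩)⟩,
      fun u => ⟨⟨u, u.2.1⟩, fun g => Subtype.ext (u.2.2 g g.2)⟩, fun u => rfl, fun u => rfl⟩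
  rwa [h2] at h1

variable [Finite V] {φ : Y →* MulAut V} (hφ : Function.Injective φ)
  (hV2 : ∀ v : V, v * v = 1) (hV : Nat.card V ≤ 16)

include hV2 in
theorem exists_pow (U : Subgroup V) : ∃ n : ℕ, Nat.card U = 2 ^ n := by
  have h2 : Fact (Nat.Prime 2) := ⟨Nat.prime_two⟩
  apply IsPGroup.iff_card.mp
  intro u
  refine ⟨1, Subtype.ext ?_⟩
  show (u : V) ^ 2 ^ 1 = 1
  rw [pow_one, pow_two]
  exact hV2 _

theorem five_pgroup {x : Y} (hx : x ^ 5 = 1) : IsPGroup 5 (zpowers x) := by
  rintro ⟨_, n, rfl⟩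
  refine ⟨1, Subtype.ext ?_⟩
  show (x ^ n) ^ 5 ^ 1 = 1
  rw [pow_one, ← zpow_natCast, ← zpow_mul, mul_comm, zpow_mul, zpow_natCast, hx, one_zpow]

omit [Finite V] in
theorem mem_fixed_zpowers {φ : Y →* MulAut V} {x : Y} {v : V} :
    v ∈ fixed φ (zpowers x) ↔ φ x v = v := by
  constructor
  · intro h
    exact h x (mem_zpowers x)
  · rintro h _ ⟨n, rfl⟩
    show φ (x ^ n) v = v
    have h1 : x ∈ (MulAction.stabilizer (MulAut V) v).comap φ := h
    exact Subgroup.zpow_mem _ h1 n

include hφ hV2 hV in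
/-- An element of order 5 acts fixed point freely. -/
theorem fix_one {x : Y} (hx : x ^ 5 = 1) (hx1 : x ≠ 1) :
    Nat.card V = 16 ∧ ∀ v : V, φ x v = v → v = 1 := by
  have : Fact (Nat.Prime 5) := ⟨Nat.prime_five⟩
  obtain ⟨n, hn⟩ := exists_pow hV2 (⊤ : Subgroup V)
  rw [Subgroup.card_top] at hn
  set F := fixed φ (zpowers x) with hF
  obtain ⟨m, hm⟩ := exists_pow hV2 F
  have h1 := card_modEq φ (five_pgroup hx) (U := ⊤) (fun _ _ _ _ => mem_top _)
  rw [top_inf_eq, Subgroup.card_top, ← hF, hn, hm] at h1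
  have hlt : Nat.card F < Nat.card V := by
    rw [← Subgroup.card_top (G := V)]
    refine lt_of_le_of_ne (Subgroup.card_le_of_le le_top) (fun h => ?_)
    have h2 : F = ⊤ := Subgroup.eq_of_le_of_card_ge le_top h.ge
    apply hx1
    apply hφ
    rw [map_one]
    ext v
    have h3 : v ∈ F := by rw [h2]; exact mem_top v
    exact mem_fixed_zpowers.mp h3
  rw [hn, hm] at hlt
  rw [hn] at hV
  have hn4 : n ≤ 4 := by
    by_contra h
    push Not at h
    have := Nat.pow_le_pow_right (show 0 < 2 by norm_num) h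
    omega
  have hmn : m < n := (Nat.pow_lt_pow_iff_right (by norm_num)).mp hlt
  have h4 : n = 4 ∧ m = 0 := by
    unfold Nat.ModEq at h1
    interval_cases n <;> interval_cases m <;> first | (exact ⟨rfl, rfl⟩) | (exfalso; revert h1; decide)
  obtain ⟨rfl, rfl⟩ := h4
  refine ⟨by rw [hn]; norm_num, fun v hv => ?_⟩
  have h5 : F = ⊥ := Subgroup.card_eq_one.mp (by rw [hm, pow_zero])
  have h6 : v ∈ F := mem_fixed_zpowers.mpr hv
  rw [h5] at h6
  exact mem_bot.mp h6

include hφ hV2 hV in
/-- An invariant subgroup is trivial or everything. -/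
theorem inv_sub {x : Y} (hx : x ^ 5 = 1) (hx1 : x ≠ 1) {U : Subgroup V}
    (hU : ∀ u ∈ U, φ x u ∈ U) : U = ⊥ ∨ U = ⊤ := by
  have : Fact (Nat.Prime 5) := ⟨Nat.prime_five⟩
  obtain ⟨h16, hfix⟩ := fix_one hφ hV2 hV hx hx1
  obtain ⟨n, hn⟩ := exists_pow hV2 U
  have hU' : ∀ g ∈ zpowers x, ∀ u ∈ U, φ g u ∈ U := by
    rintro _ ⟨k, rfl⟩ u hu
    -- `x ^ k = x ^ (k mod 5)`
    have e : x ^ k = x ^ (k % 5).toNat := by
      rw [← zpow_natCast, Int.toNat_of_nonneg (Int.emod_nonneg _ (by norm_num))]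
      conv_lhs => rw [← Int.emod_add_mul_ediv k 5]
      rw [zpow_add, zpow_mul, show x ^ (5 : ℤ) = 1 by exact_mod_cast hx, one_zpow, mul_one]
    show φ (x ^ k) u ∈ U
    rw [e]
    generalize (k % 5).toNat = j
    induction j with
    | zero => rw [pow_zero, map_one]; exact hu
    | succ j ih =>
      rw [pow_succ', map_mul]
      exact hU _ ih
  have h1 := card_modEq φ (five_pgroup hx) hU'
  have h2 : U ⊓ fixed φ (zpowers x) = ⊥ := by
    rw [eq_bot_iff]
    intro u hu
    exact mem_bot.mpr (hfix u (mem_fixed_zpowers.mp hu.2))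
  rw [h2, Subgroup.card_bot, hn] at h1
  have hle : Nat.card U ≤ Nat.card V := by
    rw [← Subgroup.card_top (G := V)]
    exact Subgroup.card_le_of_le le_top
  rw [hn, h16] at hle
  have hn4 : n ≤ 4 := by
    by_contra h
    push Not at h
    have := Nat.pow_le_pow_right (show 0 < 2 by norm_num) h
    omega
  have h3 : n = 0 ∨ n = 4 := by
    unfold Nat.ModEq at h1
    interval_cases n <;> first | (left; rfl) | (right; rfl) | (exfalso; revert h1; decide)
  rcases h3 with rfl | rfl
  · left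
    exact Subgroup.card_eq_one.mp (by rw [hn, pow_zero])
  · right
    exact Subgroup.eq_top_of_card_eq U (by rw [hn, h16]; norm_num)

omit [Finite V] in
/-- the fixed points of a subgroup normalised by `x` -/
theorem fixed_inv {P : Subgroup Y} {x : Y} (hx : ∀ p ∈ P, x⁻¹ * p * x ∈ P) {u : V}
    (hu : u ∈ fixed φ P) : φ x u ∈ fixed φ P := by
  intro p hp
  have h1 := hu _ (hx p hp)
  have h2 : p * x = x * (x⁻¹ * p * x) := by group
  calc φ p (φ x u) = φ (p * x) u := by rw [map_mul]; rfl
    _ = φ (x * (x⁻¹ * p * x)) u := by rw [h2]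
    _ = φ x (φ (x⁻¹ * p * x) u) := by rw [map_mul]; rfl
    _ = φ x u := by rw [h1]

include hφ hV2 hV in
/-- A 2-subgroup normalised by an element of order 5 is trivial. -/
theorem two_bot {x : Y} (hx : x ^ 5 = 1) (hx1 : x ≠ 1) {P : Subgroup Y} (hP : IsPGroup 2 P)
    (hxP : ∀ p ∈ P, x⁻¹ * p * x ∈ P) : P = ⊥ := by
  have : Fact (Nat.Prime 2) := ⟨Nat.prime_two⟩
  have h1 := card_modEq φ hP (U := ⊤) (fun _ _ _ _ => mem_top _)
  rw [top_inf_eq, Subgroup.card_top, (fix_one hφ hV2 hV hx hx1).1] at h1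
  rcases inv_sub hφ hV2 hV hx hx1 (U := fixed φ P) (fun u hu => fixed_inv hxP hu) with h2 | h2
  · rw [h2, Subgroup.card_bot] at h1
    exfalso
    revert h1
    unfold Nat.ModEq
    decide
  · rw [eq_bot_iff]
    intro p hp
    rw [mem_bot]
    apply hφ
    rw [map_one]
    ext v
    have h3 : v ∈ fixed φ P := by rw [h2]; exact mem_top v
    exact h3 p hp

include hφ hV2 hV in
/-- An element commuting with an element of order 5 acts fixed point freely. -/
theorem cent_fix {x : Y} (hx : x ^ 5 = 1) (hx1 : x ≠ 1) {c : Y} (hc : x * c = c * x) (hc1 : c ≠ 1)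
    {v : V} (hv : φ c v = v) : v = 1 := by
  rcases inv_sub hφ hV2 hV hx hx1 (U := fixed φ (zpowers c)) (fun u hu => by
    rw [mem_fixed_zpowers] at hu ⊢
    calc φ c (φ x u) = φ (c * x) u := by rw [map_mul]; rfl
      _ = φ (x * c) u := by rw [hc]
      _ = φ x (φ c u) := by rw [map_mul]; rfl
      _ = φ x u := by rw [hu]) with h2 | h2
  · have h3 : v ∈ fixed φ (zpowers c) := mem_fixed_zpowers.mpr hv
    rw [h2] at h3
    exact mem_bot.mp h3
  · exfalso
    apply hc1
    apply hφ
    rw [map_one]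
    ext v
    have h3 : v ∈ fixed φ (zpowers c) := by rw [h2]; exact mem_top v
    exact mem_fixed_zpowers.mp h3

include hφ hV2 hV in
theorem seven_one {x : Y} (hx : x ^ 5 = 1) (hx1 : x ≠ 1) {c : Y} (hc : x * c = c * x)
    (hc7 : c ^ 7 = 1) : c = 1 := by
  have : Fact (Nat.Prime 7) := ⟨by norm_num⟩
  by_contra hc1
  have hP : IsPGroup 7 (zpowers c) := by
    rintro ⟨_, n, rfl⟩
    refine ⟨1, Subtype.ext ?_⟩
    show (c ^ n) ^ 7 ^ 1 = 1
    rw [pow_one, ← zpow_natCast, ← zpow_mul, mul_comm, zpow_mul, zpow_natCast, hc7, one_zpow]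
  have h1 := card_modEq φ hP (U := ⊤) (fun _ _ _ _ => mem_top _)
  have h2 : fixed φ (zpowers c) = ⊥ := by
    rw [eq_bot_iff]
    intro v hv
    exact mem_bot.mpr (cent_fix hφ hV2 hV hx hx1 hc hc1 (mem_fixed_zpowers.mp hv))
  rw [top_inf_eq, Subgroup.card_top, (fix_one hφ hV2 hV hx hx1).1, h2, Subgroup.card_bot] at h1
  revert h1
  unfold Nat.ModEq
  decide

variable [Finite Y]

include hφ hV2 hV in
/-- A group of order 9 does not commute with an element of order 5. -/
theorem no_nine {x : Y} (hx : x ^ 5 = 1) (hx1 : x ≠ 1) {P : Subgroup Y} (hP : Nat.card P = 9)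
    (hc : ∀ p ∈ P, x * p = p * x) : False := by
  classical
  have := Fintype.ofFinite P
  have := Fintype.ofFinite V
  let _ : MulAction P V := MulAction.compHom V (φ.comp P.subtype)
  have hsm : ∀ (p : P) (v : V), p • v = φ p v := fun p v => rfl
  have h1 := MulAction.sum_card_fixedBy_eq_card_orbits_mul_card_group P V
  have h2 : ∀ p : P, Fintype.card (MulAction.fixedBy V p) = if p = 1 then 16 else 1 := by
    intro p
    split_ifs with hp
    · rw [hp]
      have h3 := (fix_one hφ hV2 hV hx hx1).1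
      rw [Nat.card_eq_fintype_card] at h3
      rw [← h3]
      refine Fintype.card_congr ⟨fun v => v.1, fun v => ⟨v, one_smul P v⟩, fun v => rfl, fun v => rfl⟩
    · rw [Fintype.card_eq_one_iff]
      refine ⟨⟨1, ?_⟩, ?_⟩
      · show φ p 1 = 1
        exact map_one _
      · rintro ⟨v, hv⟩
        apply Subtype.ext
        exact cent_fix hφ hV2 hV hx hx1 (hc p p.2) (fun h => hp (Subtype.ext h)) hv
  have h3 : ∑ p : P, Fintype.card (MulAction.fixedBy V p) = 24 := by
    calc ∑ p : P, Fintype.card (MulAction.fixedBy V p)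
        = ∑ p : P, (1 + if p = 1 then 15 else 0) := by
          refine Finset.sum_congr rfl (fun p _ => ?_)
          rw [h2]
          split_ifs <;> rfl
      _ = Fintype.card P + 15 := by
          rw [Finset.sum_add_distrib, Finset.sum_ite_eq' Finset.univ (1 : P) (fun _ => 15),
            if_pos (Finset.mem_univ _), Finset.sum_const, Finset.card_univ, smul_eq_mul, mul_one]
      _ = 24 := by rw [← Nat.card_eq_fintype_card, hP]
  rw [h3, ← Nat.card_eq_fintype_card (α := P), hP] at h1
  omega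

omit [Finite Y] in
include hφ hV2 hV in
theorem card_dvd : Nat.card Y ∣ 20160 := by
  have h2 : Fact (Nat.Prime 2) := ⟨Nat.prime_two⟩
  obtain ⟨n, hn⟩ := exists_pow hV2 (⊤ : Subgroup V)
  rw [Subgroup.card_top] at hn
  have hinv : ∀ v : V, v⁻¹ = v := fun v => inv_eq_of_mul_eq_one_left (hV2 v)
  have hcomm : ∀ v w : V, v * w = w * v := by
    intro v w
    have h1 := hinv (v * w)
    rw [mul_inv_rev, hinv v, hinv w] at h1
    exact h1.symm
  have haut := Transfer.ElemAbAut.card_mulAut (T := V) 2 n hcomm (fun v => by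
    rw [pow_two]; exact hV2 v) hn
  have hn4 : n ≤ 4 := by
    rw [hn] at hV
    by_contra h
    push Not at h
    have := Nat.pow_le_pow_right (show 0 < 2 by norm_num) h
    omega
  refine (Subgroup.card_dvd_of_injective φ hφ).trans (haut ▸ ?_)
  interval_cases n <;> decide

/-- conjugation fixed points: a `p`-group acted on by an element of order 5 -/
theorem card_conj_modEq {x : Y} (hx : x ^ 5 = 1) {P : Subgroup Y} (hxP : ∀ p ∈ P, x * p * x⁻¹ ∈ P) :
    Nat.card P ≡ Nat.card (P ⊓ centralizer ({x} : Set Y) : Subgroup Y) [MOD 5] := by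
  have : Fact (Nat.Prime 5) := ⟨Nat.prime_five⟩
  have hU' : ∀ g ∈ zpowers x, ∀ u ∈ P, MulAut.conj g u ∈ P := by
    rintro _ ⟨k, rfl⟩ u hu
    have e : x ^ k = x ^ (k % 5).toNat := by
      rw [← zpow_natCast, Int.toNat_of_nonneg (Int.emod_nonneg _ (by norm_num))]
      conv_lhs => rw [← Int.emod_add_mul_ediv k 5]
      rw [zpow_add, zpow_mul, show x ^ (5 : ℤ) = 1 by exact_mod_cast hx, one_zpow, mul_one]
    show MulAut.conj (x ^ k) u ∈ P
    rw [e, MulAut.conj_apply]
    generalize (k % 5).toNat = j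
    induction j with
    | zero => simpa using hu
    | succ j ih =>
      have h1 : x ^ (j + 1) * u * (x ^ (j + 1))⁻¹ = x * (x ^ j * u * (x ^ j)⁻¹) * x⁻¹ := by
        rw [pow_succ']; group
      rw [h1]
      exact hxP _ ih
  have h1 := card_modEq (V := Y) MulAut.conj (five_pgroup hx) hU'
  have h2 : P ⊓ fixed (V := Y) MulAut.conj (zpowers x) = P ⊓ centralizer ({x} : Set Y) := by
    ext g
    rw [mem_inf, mem_inf, mem_fixed_zpowers, mem_centralizer_singleton_iff, MulAut.conj_apply]
    refine and_congr_right (fun _ => ?_)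
    rw [mul_inv_eq_iff_eq_mul]
    exact eq_comm
  rwa [h2] at h1


theorem dvd_fifteen {n : ℕ} (h : n ∣ 20160) (h2 : ¬ 2 ∣ n) (h7 : ¬ 7 ∣ n) (h9 : ¬ 9 ∣ n) : n ∣ 15 := by
  have c2 : Nat.Coprime n 64 := by
    rw [show 64 = 2 ^ 6 by norm_num]
    exact Nat.Coprime.pow_right _ ((Nat.Prime.coprime_iff_not_dvd Nat.prime_two).mpr h2).symm
  have c7 : Nat.Coprime n 7 :=
    ((Nat.Prime.coprime_iff_not_dvd (by norm_num : Nat.Prime 7)).mpr h7).symm
  have h1 : n ∣ 64 * 315 := by simpa using h
  have h3 : n ∣ 7 * 45 := by simpa using c2.dvd_of_dvd_mul_left h1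
  have h4 : n ∣ 45 := c7.dvd_of_dvd_mul_left h3
  have h5 : n ≤ 45 := Nat.le_of_dvd (by norm_num) h4
  interval_cases n <;> omega

omit [Finite V] in
theorem card_pow_eq {p n : ℕ} [hp : Fact p.Prime] {P : Subgroup Y} (hP : IsPGroup p P) {N : ℕ}
    (hN : Nat.card P ∣ N) (h1 : p ^ n ∣ Nat.card P) (h2 : ¬ p ^ (n + 1) ∣ N) :
    Nat.card P = p ^ n := by
  obtain ⟨k, hk⟩ := IsPGroup.iff_card.mp hP
  rw [hk] at h1 hN ⊢
  have h3 : n ≤ k := (Nat.pow_dvd_pow_iff_le_right hp.out.one_lt).mp h1
  have h4 : ¬ n + 1 ≤ k := fun h => h2 ((pow_dvd_pow p h).trans hN)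
  have : k = n := by omega
  rw [this]

include hφ hV2 hV in
/-- the centralizer of an element of order 5 -/
theorem card_cent {x : Y} (hx : x ^ 5 = 1) (hx1 : x ≠ 1) :
    Nat.card (centralizer ({x} : Set Y)) ∣ 15 := by
  set C := centralizer ({x} : Set Y) with hC
  have hmem : ∀ c ∈ C, x * c = c * x := fun c hc => (mem_centralizer_singleton_iff.mp hc).symm
  refine dvd_fifteen ((Subgroup.card_subgroup_dvd_card C).trans (card_dvd hφ hV2 hV)) ?_ ?_ ?_
  · intro h
    have : Fact (Nat.Prime 2) := ⟨Nat.prime_two⟩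
    obtain ⟨c, hc⟩ := exists_prime_orderOf_dvd_card' 2 h
    have hc' : orderOf (c : Y) = 2 := by rw [Subgroup.orderOf_coe]; exact hc
    have h1 := two_bot hφ hV2 hV hx hx1 (P := zpowers (c : Y))
      (IsPGroup.of_card (n := 1) (by rw [Nat.card_zpowers, hc', pow_one])) (by
        rintro _ ⟨n, rfl⟩
        have h2 : Commute x ((c : Y) ^ n) := Commute.zpow_right (hmem c c.2) n
        show x⁻¹ * (c : Y) ^ n * x ∈ zpowers (c : Y)
        rw [h2.inv_left.eq, mul_assoc, inv_mul_cancel, mul_one]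
        exact ⟨n, rfl⟩)
    have h2 : (c : Y) = 1 := by
      have := mem_zpowers (c : Y)
      rw [h1] at this
      exact mem_bot.mp this
    rw [h2, orderOf_one] at hc'
    exact absurd hc' (by norm_num)
  · intro h
    have : Fact (Nat.Prime 7) := ⟨by norm_num⟩
    obtain ⟨c, hc⟩ := exists_prime_orderOf_dvd_card' 7 h
    have hc' : orderOf (c : Y) = 7 := by rw [Subgroup.orderOf_coe]; exact hc
    have h2 := seven_one hφ hV2 hV hx hx1 (hmem c c.2) (by rw [← hc']; exact pow_orderOf_eq_one _)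
    rw [h2, orderOf_one] at hc'
    exact absurd hc' (by norm_num)
  · intro h
    have : Fact (Nat.Prime 3) := ⟨Nat.prime_three⟩
    obtain ⟨P, hP⟩ := Sylow.exists_subgroup_card_pow_prime 3 (n := 2) (G := C) (by simpa using h)
    refine no_nine hφ hV2 hV hx hx1 (P := P.map C.subtype) ?_ ?_
    · rw [Subgroup.card_map_of_injective C.subtype_injective, hP]
      norm_num
    · rintro _ ⟨c, -, rfl⟩
      exact hmem c c.2

omit [Finite V] in
/-- Frattini argument -/
theorem exists_norm (h5 : 5 ∣ Nat.card Y) {H : Subgroup Y} (hHn : H.Normal) (hH : ¬ 5 ∣ Nat.card H)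
    {p : ℕ} [Fact p.Prime] (P : Sylow p H) :
    ∃ y : Y, y ^ 5 = 1 ∧ y ≠ 1 ∧ (∀ g ∈ (P : Subgroup H).map H.subtype,
      y * g * y⁻¹ ∈ (P : Subgroup H).map H.subtype) ∧
      ∀ g ∈ (P : Subgroup H).map H.subtype, y⁻¹ * g * y ∈ (P : Subgroup H).map H.subtype := by
  have hp5 : Fact (Nat.Prime 5) := ⟨Nat.prime_five⟩
  set N := normalizer (((P : Subgroup H).map H.subtype : Subgroup Y) : Set Y) with hN
  have h1 : N ⊔ H = ⊤ := Sylow.normalizer_sup_eq_top P
  let f : N →* Y ⧸ H := (QuotientGroup.mk' H).comp N.subtype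
  have hf : Function.Surjective f := by
    intro y
    obtain ⟨y, rfl⟩ := QuotientGroup.mk'_surjective H y
    have h2 : y ∈ N ⊔ H := by rw [h1]; exact mem_top y
    obtain ⟨n, hn, k, hk, rfl⟩ := (Subgroup.mem_sup_of_normal_right).mp h2
    refine ⟨⟨n, hn⟩, ?_⟩
    show QuotientGroup.mk' H n = QuotientGroup.mk' H (n * k)
    rw [map_mul]
    have h3 : QuotientGroup.mk' H k = 1 := by
      rw [QuotientGroup.mk'_apply, QuotientGroup.eq_one_iff]; exact hk
    rw [h3, mul_one]
  have h2 : 5 ∣ Nat.card N := by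
    refine dvd_trans ?_ (Subgroup.card_dvd_of_surjective f hf)
    have h3 := Subgroup.card_mul_index H
    rw [← h3, Subgroup.index_eq_card] at h5
    exact (Nat.prime_five.dvd_mul.mp h5).resolve_left hH
  obtain ⟨y, hy⟩ := exists_prime_orderOf_dvd_card' 5 h2
  have hy5 : y ^ 5 = 1 := by rw [← hy]; exact pow_orderOf_eq_one y
  refine ⟨y, congrArg Subtype.val hy5, ?_, fun g hg => ?_, fun g hg => ?_⟩
  · intro h3
    have h4 : y = 1 := Subtype.ext h3
    rw [h4, orderOf_one] at hy
    exact absurd hy (by norm_num)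
  · exact (mem_normalizer_iff.mp y.2 g).mp hg
  · have := (mem_normalizer_iff.mp (N.inv_mem y.2) g).mp hg
    simpa using this

include hφ hV2 hV in
theorem solvable_of_not_dvd (h5 : 5 ∣ Nat.card Y) {H : Subgroup Y} (hHn : H.Normal)
    (hH : ¬ 5 ∣ Nat.card H) : Group.IsSolvable H := by
  have hd : Nat.card H ∣ 20160 := (Subgroup.card_subgroup_dvd_card H).trans (card_dvd hφ hV2 hV)
  have h2 : ¬ 2 ∣ Nat.card H := by
    intro h
    have : Fact (Nat.Prime 2) := ⟨Nat.prime_two⟩
    obtain ⟨P⟩ : Nonempty (Sylow 2 H) := inferInstance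
    obtain ⟨y, hy, hy1, -, hyP⟩ := exists_norm h5 hHn hH P
    have h1 := two_bot hφ hV2 hV hy hy1 (P.2.map H.subtype) hyP
    have h3 := P.dvd_card_of_dvd_card h
    rw [← Subgroup.card_map_of_injective H.subtype_injective] at h3
    change 2 ∣ Nat.card ((P : Subgroup H).map H.subtype) at h3
    rw [h1, Subgroup.card_bot] at h3
    exact absurd h3 (by norm_num)
  have h7 : ¬ 7 ∣ Nat.card H := by
    intro h
    have : Fact (Nat.Prime 7) := ⟨by norm_num⟩
    obtain ⟨P⟩ : Nonempty (Sylow 7 H) := inferInstance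
    obtain ⟨y, hy, hy1, hyP, -⟩ := exists_norm h5 hHn hH P
    set P' := (P : Subgroup H).map H.subtype with hP'
    have hPc : Nat.card P' = Nat.card P := Subgroup.card_map_of_injective H.subtype_injective
    have h3 : Nat.card P' = 7 ^ 1 := card_pow_eq (P.2.map H.subtype)
      ((Subgroup.card_subgroup_dvd_card P').trans (card_dvd hφ hV2 hV)) (by
        rw [hPc, pow_one]; exact P.dvd_card_of_dvd_card h) (by norm_num)
    have h4 := card_conj_modEq hy hyP
    set D := P' ⊓ centralizer ({y} : Set Y) with hD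
    have h6 : D ≠ ⊥ := by
      intro h7
      rw [h7, Subgroup.card_bot, h3] at h4
      revert h4
      unfold Nat.ModEq
      decide
    obtain ⟨c, hc⟩ := Subgroup.ne_bot_iff_exists_ne_one.mp h6
    apply hc
    apply Subtype.ext
    refine seven_one hφ hV2 hV hy hy1 (mem_centralizer_singleton_iff.mp c.2.2).symm ?_
    have h8 : (⟨c, c.2.1⟩ : P') ^ 7 = 1 := by
      rw [← pow_one 7, ← h3]
      exact pow_card_eq_one'
    exact congrArg Subtype.val h8
  have h9 : ¬ 9 ∣ Nat.card H := by
    intro h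
    have : Fact (Nat.Prime 3) := ⟨Nat.prime_three⟩
    obtain ⟨P⟩ : Nonempty (Sylow 3 H) := inferInstance
    obtain ⟨y, hy, hy1, hyP, -⟩ := exists_norm h5 hHn hH P
    set P' := (P : Subgroup H).map H.subtype with hP'
    have hPc : Nat.card P' = Nat.card P := Subgroup.card_map_of_injective H.subtype_injective
    have h3 : Nat.card P' = 3 ^ 2 := card_pow_eq (P.2.map H.subtype)
      ((Subgroup.card_subgroup_dvd_card P').trans (card_dvd hφ hV2 hV)) (by
        rw [hPc]; exact P.pow_dvd_card_of_pow_dvd_card (by simpa using h)) (by norm_num)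
    have h4 := card_conj_modEq hy hyP
    set D := P' ⊓ centralizer ({y} : Set Y) with hD
    obtain ⟨k, hk⟩ := IsPGroup.iff_card.mp ((P.2.map H.subtype).to_le (inf_le_left : D ≤ P'))
    have hle : Nat.card D ≤ Nat.card P' := Subgroup.card_le_of_le inf_le_left
    rw [h3, hk] at hle
    have hk2 : k ≤ 2 := (Nat.pow_le_pow_iff_right (by norm_num)).mp hle
    rw [h3, hk] at h4
    have hk3 : k = 2 := by
      unfold Nat.ModEq at h4
      interval_cases k <;> first | rfl | (exfalso; revert h4; decide)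
    have h6 : D = P' := Subgroup.eq_of_le_of_card_ge inf_le_left (by rw [h3, hk, hk3])
    refine no_nine hφ hV2 hV hy hy1 (P := P') (by rw [h3]; norm_num) (fun g hg => ?_)
    rw [← h6] at hg
    exact (mem_centralizer_singleton_iff.mp hg.2).symm
  have h15 := dvd_fifteen hd h2 h7 h9
  have h3 : Nat.card H ∣ 3 := by
    have c5 : Nat.Coprime (Nat.card H) 5 :=
      ((Nat.Prime.coprime_iff_not_dvd Nat.prime_five).mpr hH).symm
    exact c5.dvd_of_dvd_mul_left (by simpa using h15)
  rcases (Nat.dvd_prime Nat.prime_three).mp h3 with h4 | h4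
  · have : Subsingleton H := (Nat.card_eq_one_iff_unique.mp h4).1
    infer_instance
  · have : Fact (Nat.Prime 3) := ⟨Nat.prime_three⟩
    have hcyc : IsCyclic H := isCyclic_of_prime_card h4
    exact Group.isSolvable_of_comm (fun a b => (IsCyclic.commGroup (α := H)).mul_comm a b)


include hφ hV2 hV in
/-- the centralizer of an element of order 5 is solvable -/
theorem solvable_cent {x : Y} (hx : x ^ 5 = 1) (hx1 : x ≠ 1) :
    Group.IsSolvable (centralizer ({x} : Set Y)) := by
  have hp5 : Fact (Nat.Prime 5) := ⟨Nat.prime_five⟩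
  set C := centralizer ({x} : Set Y) with hC
  have hxC : x ∈ C := mem_centralizer_singleton_iff.mpr rfl
  have hord : orderOf (⟨x, hxC⟩ : C) = 5 := orderOf_eq_prime (Subtype.ext hx)
    (fun h => hx1 (congrArg Subtype.val h))
  set Z := zpowers (⟨x, hxC⟩ : C) with hZ
  have hZn : Z.Normal := by
    constructor
    rintro _ ⟨n, rfl⟩ g
    have h1 : Commute g ((⟨x, hxC⟩ : C) ^ n) := by
      apply Commute.zpow_right
      exact Subtype.ext (mem_centralizer_singleton_iff.mp g.2)
    show g * (⟨x, hxC⟩ : C) ^ n * g⁻¹ ∈ Z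
    rw [h1.eq, mul_inv_cancel_right]
    exact ⟨n, rfl⟩
  have hcard : Nat.card (C ⧸ Z) ∣ 3 := by
    have h1 := Subgroup.card_mul_index Z
    rw [Subgroup.index_eq_card, hZ, Nat.card_zpowers, hord] at h1
    have h2 := card_cent hφ hV2 hV hx hx1
    rw [← hC, ← h1, show 15 = 5 * 3 by norm_num] at h2
    exact (Nat.mul_dvd_mul_iff_left (by norm_num)).mp h2
  rw [Group.isSolvable_iff_subgroup_quotient Z]
  refine ⟨Group.isSolvable_of_comm (fun a b => (IsCyclic.commGroup (α := Z)).mul_comm a b), ?_⟩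
  rcases (Nat.dvd_prime Nat.prime_three).mp hcard with h4 | h4
  · have : Subsingleton (C ⧸ Z) := (Nat.card_eq_one_iff_unique.mp h4).1
    infer_instance
  · have : Fact (Nat.Prime 3) := ⟨Nat.prime_three⟩
    have hcyc : IsCyclic (C ⧸ Z) := isCyclic_of_prime_card h4
    exact Group.isSolvable_of_comm (fun a b => (IsCyclic.commGroup (α := C ⧸ Z)).mul_comm a b)

include hφ hV2 hV in
/-- the normalizer of a subgroup of order 5 is solvable -/
theorem solvable_norm {x : Y} (hx : x ^ 5 = 1) (hx1 : x ≠ 1) :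
    Group.IsSolvable (normalizer ((zpowers x : Subgroup Y) : Set Y)) := by
  have hp5 : Fact (Nat.Prime 5) := ⟨Nat.prime_five⟩
  set N := normalizer ((zpowers x : Subgroup Y) : Set Y) with hN
  set C := centralizer ({x} : Set Y) with hC
  have hCN : C ≤ N := by
    intro c hc
    rw [hN, mem_normalizer_iff]
    have h1 : ∀ g ∈ zpowers x, c * g * c⁻¹ = g := by
      rintro _ ⟨n, rfl⟩
      have h2 : Commute c (x ^ n) := Commute.zpow_right (mem_centralizer_singleton_iff.mp hc) n
      show c * x ^ n * c⁻¹ = x ^ n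
      rw [h2.eq, mul_inv_cancel_right]
    intro g
    constructor
    · intro hg
      rw [h1 g hg]
      exact hg
    · intro hg
      have h2 : c * g * c⁻¹ = g := by
        have h3 := h1 _ hg
        have h4 : c * g * c⁻¹ = c⁻¹ * (c * (c * g * c⁻¹) * c⁻¹) * c := by group
        rw [h3] at h4
        rw [h4]
        group
      rwa [h2] at hg
  have hcyc : IsCyclic (zpowers x) := inferInstance
  have hsolC := solvable_cent hφ hV2 hV hx hx1
  have hcommA : ∀ a b : MulAut (zpowers x), a * b = b * a := by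
    intro a b
    apply (IsCyclic.mulAutMulEquiv (zpowers x)).injective
    rw [map_mul, map_mul, mul_comm]
  have hsolA : Group.IsSolvable (MulAut (zpowers x)) := Group.isSolvable_of_comm hcommA
  refine Group.isSolvable_of_ker_le_range (Subgroup.inclusion hCN) (zpowers x).normalizerMonoidHom ?_
  rw [Subgroup.normalizerMonoidHom_ker]
  intro g hg
  rw [mem_subgroupOf, mem_centralizer_iff] at hg
  refine ⟨⟨g, mem_centralizer_singleton_iff.mpr (hg x (mem_zpowers x)).symm⟩, rfl⟩

include hφ hV2 hV in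
/-- a subgroup of order 5 is a Sylow subgroup -/
theorem zpowers_sylow {x : Y} (hx : x ^ 5 = 1) (hx1 : x ≠ 1) [Fact (Nat.Prime 5)] :
    ∃ P : Sylow 5 Y, (P : Subgroup Y) = zpowers x := by
  have hord : orderOf x = 5 := orderOf_eq_prime hx hx1
  obtain ⟨P, hP⟩ := (IsPGroup.of_card (n := 1) (by
    rw [Nat.card_zpowers, hord, pow_one]) : IsPGroup 5 (zpowers x)).exists_le_sylow
  refine ⟨P, (Subgroup.eq_of_le_of_card_ge hP ?_).symm⟩
  have h1 : Nat.card P = 5 ^ 1 := card_pow_eq P.2
    ((Subgroup.card_subgroup_dvd_card _).trans (card_dvd hφ hV2 hV)) (by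
      have := Subgroup.card_dvd_of_le hP
      rwa [Nat.card_zpowers, hord] at this) (by norm_num)
  change Nat.card P ≤ _
  rw [h1, Nat.card_zpowers, hord, pow_one]

omit [Finite Y] in
include hφ hV2 hV in
/-- a normal subgroup of order divisible by 5 contains all elements of order 5 -/
theorem mem_of_dvd {x : Y} (hx : x ^ 5 = 1) {D : Subgroup Y} (hDn : D.Normal)
    (hD : 5 ∣ Nat.card D) : x ∈ D := by
  by_contra hxD
  have hp5 : Fact (Nat.Prime 5) := ⟨Nat.prime_five⟩
  have h1 : orderOf (QuotientGroup.mk x : Y ⧸ D) = 5 := by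
    apply orderOf_eq_prime
    · rw [← QuotientGroup.mk_pow, hx]
      rfl
    · rw [Ne, QuotientGroup.eq_one_iff]
      exact hxD
  have h2 : 5 ∣ Nat.card (Y ⧸ D) := by
    rw [← h1]
    exact orderOf_dvd_natCard _
  have h3 : 5 * 5 ∣ Nat.card Y := by
    rw [← Subgroup.card_mul_index D, Subgroup.index_eq_card]
    exact mul_dvd_mul hD h2
  have h4 := h3.trans (card_dvd hφ hV2 hV)
  revert h4
  norm_num

include hφ hV2 hV in
/-- a solvable normal subgroup of order divisible by 5 forces `Y` solvable -/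
theorem solvable_of_mem {x : Y} (hx : x ^ 5 = 1) (hx1 : x ≠ 1) {L : Subgroup Y} (hLn : L.Normal)
    (hxL : x ∈ L) (hL : Group.IsSolvable L) : Group.IsSolvable Y := by
  have hp5 : Fact (Nat.Prime 5) := ⟨Nat.prime_five⟩
  obtain ⟨P, hP⟩ := zpowers_sylow hφ hV2 hV hx hx1
  have h1 : normalizer ((P : Subgroup Y) : Set Y) ⊔ L = ⊤ := Sylow.normalizer_sup_eq_top' P (by
    rw [hP, Subgroup.zpowers_le]
    exact hxL)
  rw [hP] at h1
  have hN := solvable_norm hφ hV2 hV hx hx1
  set N := normalizer ((zpowers x : Subgroup Y) : Set Y) with hNdef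
  let f : N →* Y ⧸ L := (QuotientGroup.mk' L).comp N.subtype
  have hf : Function.Surjective f := by
    intro y
    obtain ⟨y, rfl⟩ := QuotientGroup.mk'_surjective L y
    have h2 : y ∈ N ⊔ L := by rw [h1]; exact mem_top y
    obtain ⟨n, hn, k, hk, rfl⟩ := (Subgroup.mem_sup_of_normal_right).mp h2
    refine ⟨⟨n, hn⟩, ?_⟩
    show QuotientGroup.mk' L n = QuotientGroup.mk' L (n * k)
    rw [map_mul]
    have h3 : QuotientGroup.mk' L k = 1 := by
      rw [QuotientGroup.mk'_apply, QuotientGroup.eq_one_iff]; exact hk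
    rw [h3, mul_one]
  rw [Group.isSolvable_iff_subgroup_quotient L]
  exact ⟨hL, Group.isSolvable_of_surjective hf⟩

include hφ hV2 hV in
/-- the normal closure of an element of order 5 is perfect -/
theorem mem_commutator (hY : ¬ Group.IsSolvable Y) {x : Y} (hx : x ^ 5 = 1) (hx1 : x ≠ 1)
    {L : Subgroup Y} (hLn : L.Normal) (hxL : x ∈ L) : x ∈ ⁅L, L⁆ := by
  have hp5 : Fact (Nat.Prime 5) := ⟨Nat.prime_five⟩
  have h5 : 5 ∣ Nat.card Y := by
    rw [← orderOf_eq_prime hx hx1]
    exact orderOf_dvd_natCard x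
  have hDn : (⁅L, L⁆).Normal := inferInstance
  by_cases hD : 5 ∣ Nat.card (⁅L, L⁆ : Subgroup Y)
  · exact mem_of_dvd hφ hV2 hV hx hDn hD
  · exfalso
    apply hY
    apply solvable_of_mem hφ hV2 hV hx hx1 hLn hxL
    have h1 := solvable_of_not_dvd hφ hV2 hV h5 hDn hD
    have h2 : commutator L = (⁅L, L⁆).subgroupOf L := by
      apply Subgroup.map_injective L.subtype_injective
      rw [_root_.commutator_def, Subgroup.map_commutator, ← MonoidHom.range_eq_map, range_subtype,
        Subgroup.subgroupOf_map_subtype, inf_eq_left.mpr (Subgroup.commutator_le_left L L)]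
    have h3 : Group.IsSolvable (commutator L) := by
      rw [h2]
      exact Group.isSolvable_of_isSolvable_injective
        (f := (Subgroup.subgroupOfEquivOfLe (Subgroup.commutator_le_left L L)).toMonoidHom)
        (Subgroup.subgroupOfEquivOfLe (Subgroup.commutator_le_left L L)).injective
    rw [Group.isSolvable_iff_subgroup_quotient (commutator L)]
    refine ⟨h3, Group.isSolvable_of_comm (fun a b => ?_)⟩
    exact mul_comm (G := Abelianization L) a b

include hφ hV2 hV in
/-- an element of order 5 is inverted by an involution -/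
theorem exists_inv (hY : ¬ Group.IsSolvable Y) {x : Y} (hx : x ^ 5 = 1) (hx1 : x ≠ 1) :
    ∃ a : Y, a * a = 1 ∧ a * x * a⁻¹ = x⁻¹ := by
  have hp5 : Fact (Nat.Prime 5) := ⟨Nat.prime_five⟩
  have hord : orderOf x = 5 := orderOf_eq_prime hx hx1
  have h5 : 5 ∣ Nat.card Y := by
    rw [← hord]
    exact orderOf_dvd_natCard x
  obtain ⟨P, hP⟩ := zpowers_sylow hφ hV2 hV hx hx1
  by_cases hNC : normalizer ((P : Subgroup Y) : Set Y) ≤ centralizer ((P : Subgroup Y) : Set Y)
  · exfalso
    apply hY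
    set K := (MonoidHom.transferSylow P hNC).ker with hK
    have h1 : ¬ 5 ∣ Nat.card K := MonoidHom.not_dvd_card_ker_transferSylow P hNC
    have h2 : Group.IsSolvable K := solvable_of_not_dvd hφ hV2 hV h5 inferInstance h1
    have h3 : Group.IsSolvable (P : Subgroup Y) := by
      rw [hP]
      exact Group.isSolvable_of_comm (fun a b => (IsCyclic.commGroup (α := zpowers x)).mul_comm a b)
    refine Group.isSolvable_of_ker_le_range K.subtype (MonoidHom.transferSylow P hNC) ?_
    rw [range_subtype]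
  · obtain ⟨n, hn, hnC⟩ := SetLike.not_le_iff_exists.mp hNC
    have hnx : ¬ n * x = x * n := by
      intro h
      apply hnC
      rw [hP, mem_centralizer_iff]
      rintro _ ⟨k, rfl⟩
      exact (Commute.zpow_right (show Commute n x from h) k).symm
    have h1 : n * x * n⁻¹ ∈ zpowers x := by
      rw [hP] at hn
      exact (mem_normalizer_iff.mp hn x).mp (mem_zpowers x)
    -- the exponent
    obtain ⟨k, hk5, hk⟩ : ∃ k : ℕ, k < 5 ∧ n * x * n⁻¹ = x ^ k := by
      obtain ⟨k, hk⟩ := mem_zpowers_iff.mp h1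
      refine ⟨(k % 5).toNat, ?_, ?_⟩
      · have := Int.emod_lt_of_pos k (show (0 : ℤ) < 5 by norm_num)
        have := Int.emod_nonneg k (show (5 : ℤ) ≠ 0 by norm_num)
        omega
      · rw [← hk, ← zpow_natCast, Int.toNat_of_nonneg (Int.emod_nonneg _ (by norm_num))]
        conv_lhs => rw [← Int.emod_add_mul_ediv k 5]
        rw [zpow_add, zpow_mul, show x ^ (5 : ℤ) = 1 by exact_mod_cast hx, one_zpow, mul_one]
    have hx4 : x ^ 4 = x⁻¹ := by
      apply eq_inv_of_mul_eq_one_left
      rw [← pow_succ]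
      exact hx
    have hsq : ∀ j : ℕ, n * x * n⁻¹ = x ^ j → (n * n) * x * (n * n)⁻¹ = x ^ (j * j) := by
      intro j hj
      calc (n * n) * x * (n * n)⁻¹ = n * (n * x * n⁻¹) * n⁻¹ := by group
        _ = n * x ^ j * n⁻¹ := by rw [hj]
        _ = (n * x * n⁻¹) ^ j := by rw [conj_pow]
        _ = x ^ (j * j) := by rw [hj, ← pow_mul]
    obtain ⟨b, hb⟩ : ∃ b : Y, b * x * b⁻¹ = x⁻¹ := by
      interval_cases k
      · exfalso
        apply hx1
        rw [pow_zero] at hk
        calc x = n⁻¹ * (n * x * n⁻¹) * n := by group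
          _ = 1 := by rw [hk]; group
      · exfalso
        apply hnx
        rw [pow_one] at hk
        calc n * x = (n * x * n⁻¹) * n := by group
          _ = x * n := by rw [hk]
      · refine ⟨n * n, ?_⟩
        rw [hsq 2 hk, ← hx4]
      · refine ⟨n * n, ?_⟩
        rw [hsq 3 hk, ← hx4, show 3 * 3 = 5 + 4 by norm_num, pow_add, hx, one_mul]
      · exact ⟨n, by rw [hk, hx4]⟩
    have hb2 : b * b ∈ centralizer ({x} : Set Y) := by
      rw [mem_centralizer_singleton_iff]
      have h2 : b * x⁻¹ * b⁻¹ = x := by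
        have := congrArg (·⁻¹) hb
        simpa [mul_assoc] using this
      calc b * b * x = b * (b * x * b⁻¹) * b⁻¹ * (b * b) := by group
        _ = b * x⁻¹ * b⁻¹ * (b * b) := by rw [hb]
        _ = x * (b * b) := by rw [h2]
    have h15 : (b * b) ^ 15 = 1 := by
      have h2 : (⟨b * b, hb2⟩ : centralizer ({x} : Set Y)) ^ 15 = 1 := by
        obtain ⟨c, hc⟩ := card_cent hφ hV2 hV hx hx1
        rw [hc, pow_mul, pow_card_eq_one', one_pow]
      exact congrArg Subtype.val h2
    refine ⟨b ^ 15, ?_, ?_⟩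
    · rw [← pow_add, ← h15, ← pow_two, ← pow_mul]
    · have h3 : b ^ 15 = b * (b * b) ^ 7 := by
        rw [← pow_two, ← pow_mul, ← pow_succ']
      have h4 : Commute ((b * b) ^ 7) x := Commute.pow_left (mem_centralizer_singleton_iff.mp hb2) 7
      rw [h3]
      calc b * (b * b) ^ 7 * x * (b * (b * b) ^ 7)⁻¹ = b * ((b * b) ^ 7 * x) * ((b * b) ^ 7)⁻¹ * b⁻¹ := by
            group
        _ = b * (x * (b * b) ^ 7) * ((b * b) ^ 7)⁻¹ * b⁻¹ := by rw [h4.eq]
        _ = b * x * b⁻¹ := by group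
        _ = x⁻¹ := hb

end Cfsg.Agent.GH.C2Act
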