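import Mathlib
import Cfsg.Prelude.Def_CaseTheorems
import Cfsg.Agent.TwoFusion.SectionalRank
import Cfsg.Agent.SectRankFour.C2.ActFour

/-!
# GH-C2: elementary tools (extension of elementary sections, lifting of elements over a 2-group)
-/

set_option autoImplicit false

namespace Cfsg.Agent.GH.C2Base

open Subgroup Cfsg.Agent.TwoFusion.SectionalRank

variable {X : Type*} [Group X]

/-- `Z = Y ∪ Y b` for `b` normalising `Y` with `b² ∈ Y`. -/
def ext (Y : Subgroup X) (b : X) (hbb : b * b ∈ Y) (hb : ∀ y ∈ Y, b * y * b⁻¹ ∈ Y) : Subgroup X where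
  carrier := {g | g ∈ Y ∨ b⁻¹ * g ∈ Y}
  one_mem' := Or.inl Y.one_mem
  mul_mem' := by
    have hb' : ∀ y ∈ Y, b⁻¹ * y * b ∈ Y := fun y hy => by
      have h1 : b⁻¹ * y * b = (b * b)⁻¹ * (b * y * b⁻¹) * (b * b) := by group
      rw [h1]
      exact Y.mul_mem (Y.mul_mem (Y.inv_mem hbb) (hb y hy)) hbb
    rintro g h (hg | hg) (hh | hh)
    · exact Or.inl (Y.mul_mem hg hh)
    · right
      have h1 : b⁻¹ * (g * h) = (b⁻¹ * g * b) * (b⁻¹ * h) := by group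
      rw [h1]
      exact Y.mul_mem (hb' g hg) hh
    · right
      have h1 : b⁻¹ * (g * h) = (b⁻¹ * g) * h := by group
      rw [h1]
      exact Y.mul_mem hg hh
    · left
      have h1 : g * h = (b * (b⁻¹ * g) * b⁻¹) * (b * b) * (b⁻¹ * h) := by group
      rw [h1]
      exact Y.mul_mem (Y.mul_mem (hb _ hg) hbb) hh
  inv_mem' := by
    have hb' : ∀ y ∈ Y, b⁻¹ * y * b ∈ Y := fun y hy => by
      have h1 : b⁻¹ * y * b = (b * b)⁻¹ * (b * y * b⁻¹) * (b * b) := by group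
      rw [h1]
      exact Y.mul_mem (Y.mul_mem (Y.inv_mem hbb) (hb y hy)) hbb
    rintro g (hg | hg)
    · exact Or.inl (Y.inv_mem hg)
    · right
      have h1 : b⁻¹ * g⁻¹ = b⁻¹ * (b⁻¹ * g)⁻¹ * b * (b * b)⁻¹ := by group
      rw [h1]
      exact Y.mul_mem (hb' _ (Y.inv_mem hg)) (Y.inv_mem hbb)

theorem mem_ext {Y : Subgroup X} {b : X} {hbb : b * b ∈ Y} {hb : ∀ y ∈ Y, b * y * b⁻¹ ∈ Y} {g : X} :
    g ∈ ext Y b hbb hb ↔ g ∈ Y ∨ b⁻¹ * g ∈ Y := Iff.rfl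

/-- Adding an element `b ∉ Y` to an elementary section `Y / N`. -/
theorem exists_ext [Finite X] {Y N : Subgroup X} (h : ElemSection 2 Y N) {b : X} (hbb : b * b ∈ N)
    (hby : ∀ y ∈ Y, b * y * b⁻¹ * y⁻¹ ∈ N) (hbY : b ∉ Y) :
    ∃ Z : Subgroup X, ElemSection 2 Z N ∧ Y ≤ Z ∧ b ∈ Z ∧ Nat.card Z = 2 * Nat.card Y := by
  have hbb' : b * b ∈ Y := h.le hbb
  have hb : ∀ y ∈ Y, b * y * b⁻¹ ∈ Y := fun y hy => by
    have h1 := Y.mul_mem (h.le (hby y hy)) hy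
    simpa using h1
  have hbN : ∀ n ∈ N, b * n * b⁻¹ ∈ N := fun n hn => by
    have h1 := N.mul_mem (hby n (h.le hn)) hn
    simpa using h1
  have hbN' : ∀ n ∈ N, b⁻¹ * n * b ∈ N := fun n hn => by
    have h1 : b⁻¹ * n * b = (b * b)⁻¹ * (b * n * b⁻¹) * (b * b) := by group
    rw [h1]
    exact N.mul_mem (N.mul_mem (N.inv_mem hbb) (hbN n hn)) hbb
  set Z := ext Y b hbb' hb with hZ
  have hYZ : Y ≤ Z := fun y hy => Or.inl hy
  have hbZ : b ∈ Z := by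
    right
    rw [inv_mul_cancel]
    exact Y.one_mem
  -- every element of `Z` normalises `N` and commutes with the generators modulo `N`
  have key : ∀ g ∈ Z, ∀ n ∈ N, g * n * g⁻¹ ∈ N := by
    rintro g (hg | hg) n hn
    · exact h.conj_mem hg hn
    · have h1 : g * n * g⁻¹ = b * ((b⁻¹ * g) * n * (b⁻¹ * g)⁻¹) * b⁻¹ := by group
      rw [h1]
      exact hbN _ (h.conj_mem hg hn)
  have hn : (N.subgroupOf Z).Normal := ⟨fun n hn g => by
    rw [mem_subgroupOf] at hn ⊢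
    exact key g g.2 n hn⟩
  let f : Z →* Z ⧸ N.subgroupOf Z := QuotientGroup.mk' _
  have hf : ∀ g : Z, f g = 1 ↔ (g : X) ∈ N := fun g => by
    rw [QuotientGroup.mk'_apply, QuotientGroup.eq_one_iff, mem_subgroupOf]
  have hfc : ∀ g k : Z, Commute (f g) (f k) ↔ (g * k * g⁻¹ * k⁻¹ : X) ∈ N := by
    intro g k
    have h1 := hf (g * k * g⁻¹ * k⁻¹)
    rw [map_mul, map_mul, map_mul, map_inv, map_inv] at h1
    change f g * f k * (f g)⁻¹ * (f k)⁻¹ = 1 ↔ (g * k * g⁻¹ * k⁻¹ : X) ∈ N at h1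
    rw [← h1, mul_inv_eq_one, mul_inv_eq_iff_eq_mul]
    exact Iff.rfl
  -- every element of `Z` is `y` or `b y`
  have hrep : ∀ g : Z, ∃ y : Z, (y : X) ∈ Y ∧ (g = y ∨ g = ⟨b, hbZ⟩ * y) := by
    rintro ⟨g, hg | hg⟩
    · exact ⟨⟨g, Or.inl hg⟩, hg, Or.inl rfl⟩
    · refine ⟨⟨b⁻¹ * g, hYZ hg⟩, hg, Or.inr (Subtype.ext ?_)⟩
      show g = b * (b⁻¹ * g)
      group
  have cyy : ∀ y y' : Z, (y : X) ∈ Y → (y' : X) ∈ Y → Commute (f y) (f y') := fun y y' hy hy' =>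
    (hfc y y').mpr (h.comm y hy y' hy')
  have cby : ∀ y : Z, (y : X) ∈ Y → Commute (f ⟨b, hbZ⟩) (f y) := fun y hy =>
    (hfc _ y).mpr (hby y hy)
  have hcomm : ∀ g k : Z, Commute (f g) (f k) := by
    intro g k
    obtain ⟨y, hy, rfl | rfl⟩ := hrep g <;> obtain ⟨y', hy', rfl | rfl⟩ := hrep k
    · exact cyy _ _ hy hy'
    · rw [map_mul]
      exact ((cby _ hy).symm).mul_right (cyy _ _ hy hy')
    · rw [map_mul]
      exact (cby _ hy').mul_left (cyy _ _ hy hy')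
    · rw [map_mul, map_mul]
      exact ((Commute.refl _).mul_right (cby _ hy')).mul_left
        (((cby _ hy).symm).mul_right (cyy _ _ hy hy'))
  have hsq : ∀ g : Z, f g ^ 2 = 1 := by
    intro g
    have e1 : ∀ y : Z, (y : X) ∈ Y → f y ^ 2 = 1 := fun y hy => by
      rw [← map_pow, hf]
      exact h.pow y hy
    obtain ⟨y, hy, rfl | rfl⟩ := hrep g
    · exact e1 _ hy
    · rw [map_mul, (cby _ hy).mul_pow, e1 _ hy, mul_one, ← map_pow, hf]
      show b ^ 2 ∈ N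
      rw [pow_two]
      exact hbb
  refine ⟨Z, ⟨h.le.trans hYZ, fun g hg k hk => (hfc ⟨g, hg⟩ ⟨k, hk⟩).mp (hcomm _ _), fun g hg => ?_⟩,
    hYZ, hbZ, ?_⟩
  · have h1 := (hf (⟨g, hg⟩ ^ 2)).mp (by rw [map_pow]; exact hsq _)
    exact h1
  · -- the order
    have h1 : Nat.card Z = Y.relIndex Z * Nat.card Y := card_eq_relIndex_mul Z Y hYZ
    rw [h1]
    congr 1
    show (Y.subgroupOf Z).index = 2
    rw [Subgroup.index_eq_two_iff]
    refine ⟨⟨b, hbZ⟩, fun g => ?_⟩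
    rw [mem_subgroupOf, mem_subgroupOf]
    show Xor (g * b ∈ Y) ((g : X) ∈ Y)
    obtain ⟨g, hg | hg⟩ := g
    · right
      refine ⟨hg, fun h2 => hbY ?_⟩
      have h3 := Y.mul_mem (Y.inv_mem hg) h2
      simpa using h3
    · have h4 : g * b ∈ Y := by
        have h5 : g * b = b * (b⁻¹ * g) * b⁻¹ * (b * b) := by group
        rw [h5]
        exact Y.mul_mem (hb _ hg) hbb'
      left
      refine ⟨h4, fun h2 => hbY ?_⟩
      have h3 := Y.mul_mem h2 (Y.inv_mem hg)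
      have h6 : g * (b⁻¹ * g)⁻¹ = b := by group
      rwa [h6] at h3

/-- `C_Q(x) = 1` for a finite normal subgroup `Q`: every element of `Q x` is `Q`-conjugate to `x`. -/
theorem exists_conj_eq {Q : Subgroup X} [Finite Q] (hQn : Q.Normal) {x y : X}
    (h1 : ∀ q ∈ Q, x * q = q * x → q = 1) (hy : y * x⁻¹ ∈ Q) : ∃ q ∈ Q, q * x * q⁻¹ = y := by
  let f : Q → Q := fun q => ⟨q * x * (q : X)⁻¹ * x⁻¹, by
    have h2 : (q : X) * x * (q : X)⁻¹ * x⁻¹ = q * (x * (q : X)⁻¹ * x⁻¹) := by group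
    rw [h2]
    exact Q.mul_mem q.2 (hQn.conj_mem _ (Q.inv_mem q.2) x)⟩
  have hf : Function.Injective f := by
    intro p q hpq
    have h2 : (p : X) * x * (p : X)⁻¹ * x⁻¹ = q * x * (q : X)⁻¹ * x⁻¹ := congrArg Subtype.val hpq
    have h3 : (p : X) * x * (p : X)⁻¹ = q * x * (q : X)⁻¹ := mul_right_cancel h2
    have h4 := h1 ((q : X)⁻¹ * p) (Q.mul_mem (Q.inv_mem q.2) p.2) (by
      calc x * ((q : X)⁻¹ * p) = (q : X)⁻¹ * (q * x * (q : X)⁻¹) * p := by group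
        _ = (q : X)⁻¹ * (p * x * (p : X)⁻¹) * p := by rw [h3]
        _ = (q : X)⁻¹ * p * x := by group)
    exact Subtype.ext (inv_mul_eq_one.mp h4).symm
  obtain ⟨q, hq⟩ := (Finite.injective_iff_surjective.mp hf) ⟨y * x⁻¹, hy⟩
  refine ⟨q, q.2, ?_⟩
  have h2 : (q : X) * x * (q : X)⁻¹ * x⁻¹ = y * x⁻¹ := congrArg Subtype.val hq
  exact mul_right_cancel h2

end Cfsg.Agent.GH.C2Base
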