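import Mathlib
import Cfsg.Agent.Lib.ProductSet

/-!
# GH-C2, growth, lemma (G) (helper177, helper729; Lean: helper445)

`V` elementary of order 16 with `C_G(V) = V`, `T` a Sylow 2-subgroup of `M = N_G(V)`, `t ∈ N_G(T) - N_G(V)`
with `t z = z t`. If the action of `X = C_M(z)` on `V` is as in `2⁴:S₅ⁿ` / `2⁴:A₆`, then
`R = O₂(C_G(z))` is extraspecial of order 32 and contained in `T`.
-/

set_option autoImplicit false

namespace Cfsg.Agent.GH.C2GrowG

open Subgroup

variable {G : Type*} [Group G]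

/-! ### tools -/

theorem card_sup [Finite G] {K H : Subgroup G} (h : H ≤ normalizer (K : Set G)) :
    Nat.card (H ⊔ K : Subgroup G) * Nat.card (H ⊓ K : Subgroup G) = Nat.card H * Nat.card K := by
  rw [← Lib.ProductSet.card_mul_card_inf H K, ← coe_mul_of_left_le_normalizer_right H K h]
  rfl

theorem mem_normalizer_of {K : Subgroup G} [Finite K] {g : G} (h : ∀ x ∈ K, g * x * g⁻¹ ∈ K) :
    g ∈ normalizer (K : Set G) := by
  rw [mem_normalizer_iff]
  intro x
  refine ⟨h x, fun hx => ?_⟩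
  have hinj : Function.Injective (fun y : K => (⟨g * y * g⁻¹, h y y.2⟩ : K)) := by
    intro a b hab
    have := congrArg Subtype.val hab
    simpa using this
  obtain ⟨y, hy⟩ := (Finite.injective_iff_surjective.1 hinj) ⟨g * x * g⁻¹, hx⟩
  have h2 : (y : G) = x := by
    have := congrArg Subtype.val hy
    simpa using this
  rw [← h2]; exact y.2

theorem conj_mem {K : Subgroup G} {g x : G} (hg : g ∈ normalizer (K : Set G)) (hx : x ∈ K) :
    g * x * g⁻¹ ∈ K := (mem_normalizer_iff.1 hg x).1 hx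

/-- A 2-group `A`, normalised by the 2-group `B`, not contained in `B`, contains an element outside `B`
normalising `B`. -/
theorem exists_mem_normalizer [Finite G] {A B : Subgroup G} (hA : IsPGroup 2 A) (hB : IsPGroup 2 B)
    (hn : B ≤ normalizer (A : Set G)) (hAB : ¬ A ≤ B) :
    ∃ r ∈ A, r ∉ B ∧ r ∈ normalizer (B : Set G) := by
  have hP : IsPGroup 2 (B ⊔ A : Subgroup G) := IsPGroup.to_sup_of_normal_right' hB hA hn
  have hlt : (B.subgroupOf (B ⊔ A)) < ⊤ := by
    rw [lt_top_iff_ne_top, Ne, subgroupOf_eq_top]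
    intro h
    exact hAB (le_trans le_sup_right h)
  have : Fact (Nat.Prime 2) := ⟨Nat.prime_two⟩
  have hnc : NormalizerCondition (B ⊔ A : Subgroup G) := by
    have := hP.isNilpotent
    exact Group.normalizerCondition_of_isNilpotent
  have h1 := hnc _ hlt
  obtain ⟨x, hx, hxB⟩ := SetLike.exists_of_lt h1
  have hxs : (x : G) ∈ ((B ⊔ A : Subgroup G) : Set G) := x.2
  rw [coe_mul_of_left_le_normalizer_right B A hn] at hxs
  obtain ⟨b, hb, a, ha, hba⟩ := Set.mem_mul.1 hxs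
  have hxB' : (x : G) ∉ B := fun h => hxB (mem_subgroupOf.2 h)
  have hxn : (x : G) ∈ normalizer (B : Set G) := by
    refine mem_normalizer_of (fun y hy => ?_)
    have hy' : y ∈ B ⊔ A := mem_sup_left hy
    have := (mem_normalizer_iff.1 hx ⟨y, hy'⟩).1 (mem_subgroupOf.2 hy)
    exact mem_subgroupOf.1 this
  refine ⟨a, ha, fun haB => hxB' ?_, ?_⟩
  · rw [← hba]; exact B.mul_mem hb haB
  · have h2 : a = b⁻¹ * x := by rw [← hba]; group
    rw [h2]
    exact mul_mem (inv_mem (le_normalizer hb)) hxn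

/-- `V` abelian, `[r, V] ≤ Z`: `|V| ≤ |C_V(r)| |Z|`. -/
theorem card_le_mul [Finite G] {V Z : Subgroup G} {r : G} (hV : ∀ v ∈ V, ∀ w ∈ V, v * w = w * v)
    (hZ : Z ≤ V) (h : ∀ v ∈ V, r * v * r⁻¹ * v⁻¹ ∈ Z) :
    ∃ Y : Subgroup G, Y ≤ V ∧ (∀ v ∈ Y, r * v = v * r) ∧ Nat.card V ≤ Nat.card Y * Nat.card Z := by
  let f : V →* Z :=
    { toFun := fun v => ⟨r * v * r⁻¹ * (v : G)⁻¹, h v v.2⟩
      map_one' := by ext; simp
      map_mul' := fun v w => by
        ext
        have h1 := hV v v.2 _ (hZ (h w w.2))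
        have h2 : r * ((v : G) * w) * r⁻¹ * ((v : G) * w)⁻¹ =
          (r * v * r⁻¹ * (v : G)⁻¹) * (v * (r * w * r⁻¹ * (w : G)⁻¹) * (v : G)⁻¹) := by group
        simp only [coe_mul]
        rw [h2, h1]; group }
  refine ⟨f.ker.map V.subtype, ?_, ?_, ?_⟩
  · rintro _ ⟨v, -, rfl⟩; exact v.2
  · rintro _ ⟨v, hv, rfl⟩
    have := congrArg Subtype.val (MonoidHom.mem_ker.1 hv)
    have h2 : r * (v : G) * r⁻¹ * (v : G)⁻¹ = 1 := this
    have h3 := mul_inv_eq_one.1 h2
    exact mul_inv_eq_iff_eq_mul.1 h3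
  · rw [card_map_of_injective (f := V.subtype) V.subtype_injective]
    have h1 : Nat.card V = Nat.card f.ker * f.ker.index := (card_mul_index _).symm
    rw [h1]
    refine Nat.mul_le_mul_left _ ?_
    rw [index_ker]
    exact Nat.card_le_card_of_injective (fun x : f.range => (x : Z)) Subtype.val_injective

/-- Commutators `[g, x]` with `x` fixed that lie in `D`, where `D` is normalised by `R`. -/
def commSet (R D : Subgroup G) (hD : ∀ g ∈ R, ∀ d ∈ D, g * d * g⁻¹ ∈ D) (x : G) : Subgroup G where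
  carrier := {g | g ∈ R ∧ g * x * g⁻¹ * x⁻¹ ∈ D}
  one_mem' := ⟨R.one_mem, by simp⟩
  mul_mem' := by
    rintro a b ⟨ha, ha'⟩ ⟨hb, hb'⟩
    refine ⟨R.mul_mem ha hb, ?_⟩
    have h1 : a * b * x * (a * b)⁻¹ * x⁻¹ = (a * (b * x * b⁻¹ * x⁻¹) * a⁻¹) * (a * x * a⁻¹ * x⁻¹) := by
      group
    rw [h1]
    exact D.mul_mem (hD a ha _ hb') ha'
  inv_mem' := by
    rintro a ⟨ha, ha'⟩
    refine ⟨R.inv_mem ha, ?_⟩
    have h1 : a⁻¹ * x * a⁻¹⁻¹ * x⁻¹ = a⁻¹ * (a * x * a⁻¹ * x⁻¹)⁻¹ * a⁻¹⁻¹ := by group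
    rw [h1]
    exact hD _ (R.inv_mem ha) _ (D.inv_mem ha')

theorem mem_commSet {R D : Subgroup G} {hD : ∀ g ∈ R, ∀ d ∈ D, g * d * g⁻¹ ∈ D} {x g : G} :
    g ∈ commSet R D hD x ↔ g ∈ R ∧ g * x * g⁻¹ * x⁻¹ ∈ D := Iff.rfl

/-! ### the data -/

/-- Action of `X = N_G(V) ∩ C_G(z)` on `V` as in `2⁴:S₅` (orthogonal) or `2⁴:A₆`; `P = O₂(X)`. -/
structure GData (V T P V0 : Subgroup G) (z : G) : Prop where
  cardV : Nat.card V = 16
  sqV : ∀ v ∈ V, v * v = 1
  centV : ∀ g : G, (∀ v ∈ V, g * v = v * g) → g ∈ V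
  T_le : T ≤ normalizer (V : Set G)
  pT : IsPGroup 2 T
  syl : ∀ Q : Subgroup G, Q ≤ normalizer (V : Set G) → IsPGroup 2 Q → T ≤ Q → Q ≤ T
  z_mem : z ∈ V
  z_ne : z ≠ 1
  z_comm : ∀ x ∈ T, x * z = z * x
  VP : V ≤ P
  PT : P ≤ T
  cardP : Nat.card P = 64
  norm2 : ∀ N : Subgroup G, N ≤ normalizer (V : Set G) → (∀ x ∈ N, x * z = z * x) → IsPGroup 2 N →
    (∀ x ∈ normalizer (V : Set G), x * z = z * x → x ∈ normalizer (N : Set G)) → N ≤ P
  cV : ∀ k ∈ P, k ∉ V → ∀ Y : Subgroup G, Y ≤ V → (∀ v ∈ Y, k * v = v * k) → Nat.card Y ≤ 4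
  cP : ∀ v ∈ V, (∀ k ∈ P, k * v = v * k) → v = 1 ∨ v = z
  V0V : V0 ≤ V
  cardV0 : Nat.card V0 = 8
  V0P : ∀ v ∈ V0, ∀ k ∈ P, k * v * k⁻¹ * v⁻¹ ∈ zpowers z
  cV0 : ∀ x ∈ P, (∀ v ∈ V0, x * v = v * x) → x ∈ V
  irrV : ∀ Y : Subgroup G, Y ≤ V → z ∈ Y →
    (∀ x ∈ normalizer (V : Set G), x * z = z * x → x ∈ normalizer (Y : Set G)) →
    Y = zpowers z ∨ Y = V0 ∨ Y = V
  irrP : ∀ Y : Subgroup G, V ≤ Y → Y ≤ P →
    (∀ x ∈ normalizer (V : Set G), x * z = z * x → x ∈ normalizer (Y : Set G)) → Y = V ∨ Y = P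

variable {V T P V0 : Subgroup G} {z : G}

theorem GData.comm (d : GData V T P V0 z) {v w : G} (hv : v ∈ V) (hw : w ∈ V) : v * w = w * v := by
  have h1 := d.sqV _ hv
  have h2 := d.sqV _ hw
  have h3 := d.sqV _ (V.mul_mem hv hw)
  have e1 : v⁻¹ = v := inv_eq_of_mul_eq_one_left h1
  have e2 : w⁻¹ = w := inv_eq_of_mul_eq_one_left h2
  have e3 : (v * w)⁻¹ = v * w := inv_eq_of_mul_eq_one_left h3
  rw [mul_inv_rev, e1, e2] at e3
  exact e3.symm

theorem GData.card_z (d : GData V T P V0 z) : Nat.card (zpowers z) = 2 := by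
  rw [Nat.card_zpowers, orderOf_eq_prime (p := 2) (by rw [pow_two]; exact d.sqV _ d.z_mem) d.z_ne]

theorem comm_of_sq {W : Subgroup G} (hsq : ∀ w ∈ W, w * w = 1) {v w : G} (hv : v ∈ W) (hw : w ∈ W) :
    v * w = w * v := by
  have e1 : v⁻¹ = v := inv_eq_of_mul_eq_one_left (hsq _ hv)
  have e2 : w⁻¹ = w := inv_eq_of_mul_eq_one_left (hsq _ hw)
  have e3 : (v * w)⁻¹ = v * w := inv_eq_of_mul_eq_one_left (hsq _ (W.mul_mem hv hw))
  rw [mul_inv_rev, e1, e2] at e3
  exact e3.symm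

/-- `V` is the only elementary subgroup of order 16 of `P`. -/
theorem GData.eq_V [Finite G] (d : GData V T P V0 z) {W : Subgroup G} (hW : W ≤ P)
    (hc : Nat.card W = 16) (hsq : ∀ w ∈ W, w * w = 1) : W = V := by
  by_contra hne
  have hnle : ¬ W ≤ V := fun h => hne (eq_of_le_of_card_ge h (by rw [hc, d.cardV]))
  obtain ⟨k, hk, hkV⟩ := SetLike.not_le_iff_exists.1 hnle
  have h4 : Nat.card (W ⊓ V : Subgroup G) ≤ 4 :=
    d.cV k (hW hk) hkV _ inf_le_right (fun v hv => comm_of_sq hsq hk (mem_inf.1 hv).1)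
  have hWn : W ≤ normalizer (V : Set G) := hW.trans (d.PT.trans d.T_le)
  have h1 := card_sup hWn
  rw [hc, d.cardV] at h1
  have hle : W ⊔ V ≤ P := sup_le hW d.VP
  have h2 : Nat.card (W ⊔ V : Subgroup G) ≤ 64 := by
    rw [← d.cardP]; exact card_le_of_le hle
  have h3 : Nat.card (W ⊓ V : Subgroup G) = 4 := by nlinarith
  have h5 : Nat.card (W ⊔ V : Subgroup G) = 64 := by rw [h3] at h1; omega
  have h6 : W ⊔ V = P := eq_of_le_of_card_ge hle (by rw [h5, d.cardP])
  have h7 : (W ⊓ V : Subgroup G) ≤ zpowers z := by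
    intro v hv
    obtain ⟨hv1, hv2⟩ := mem_inf.1 hv
    have hP : P ≤ centralizer {v} := by
      rw [← h6]
      refine sup_le (fun w hw => ?_) (fun w hw => ?_)
      · rw [mem_centralizer_singleton_iff]; exact comm_of_sq hsq hw hv1
      · rw [mem_centralizer_singleton_iff]; exact d.comm hw hv2
    rcases d.cP v hv2 (fun k hk => mem_centralizer_singleton_iff.1 (hP hk)) with h | h
    · rw [h]; exact one_mem _
    · rw [h]; exact mem_zpowers z
  have h8 := card_le_of_le h7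
  rw [h3, d.card_z] at h8
  omega

theorem GData.PP [Finite G] (d : GData V T P V0 z) {g h : G} (hg : g ∈ P) (hh : h ∈ P) :
    g * h * g⁻¹ * h⁻¹ ∈ V := by
  have hn : (V.subgroupOf P).Normal :=
    normal_subgroupOf_of_le_normalizer (d.PT.trans d.T_le)
  have hi : (V.subgroupOf P).index = 4 := by
    have h1 := card_mul_index (V.subgroupOf P)
    rw [Nat.card_congr (subgroupOfEquivOfLe d.VP).toEquiv, d.cardV, d.cardP] at h1
    omega
  have hcard : Nat.card (P ⧸ V.subgroupOf P) = 2 ^ 2 := by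
    rw [← index_eq_card, hi]; norm_num
  have : Fact (Nat.Prime 2) := ⟨Nat.prime_two⟩
  have hcomm := IsPGroup.isMulCommutative_of_card_eq_prime_sq hcard
  have h3 : ((⟨g, hg⟩ * ⟨h, hh⟩ * ⟨g, hg⟩⁻¹ * ⟨h, hh⟩⁻¹ : P) : P ⧸ V.subgroupOf P) = 1 := by
    have := hcomm.is_comm.comm (QuotientGroup.mk ⟨g, hg⟩ : P ⧸ V.subgroupOf P) (QuotientGroup.mk ⟨h, hh⟩)
    simp only [QuotientGroup.mk_mul, QuotientGroup.mk_inv]
    rw [this]; group
  have h4 := (QuotientGroup.eq_one_iff _).1 h3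
  exact mem_subgroupOf.1 h4

/-- Conclusion of lemma (G). -/
structure Extra (R T : Subgroup G) (z : G) : Prop where
  card : Nat.card R = 32
  le : R ≤ T
  z_mem : z ∈ R
  comm : ∀ x ∈ R, ∀ y ∈ R, x * y * x⁻¹ * y⁻¹ ∈ zpowers z
  center : ∀ x ∈ R, (∀ y ∈ R, x * y = y * x) → x = 1 ∨ x = z

/-- Lemma (G). -/
theorem main [Finite G] (d : GData V T P V0 z) (R : Subgroup G) (hR : IsPGroup 2 R)
    (hRz : ∀ r ∈ R, r * z = z * r)
    (hRn : ∀ g : G, g * z = z * g → g ∈ normalizer (R : Set G))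
    (hRc : ∀ g : G, g * z = z * g → (∀ r ∈ R, g * r = r * g) → g ∈ R)
    (t : G) (htz : t * z = z * t) (htV : t ∉ normalizer (V : Set G)) : Extra R T z := by
  have hVT : V ≤ T := d.VP.trans d.PT
  have hVz : ∀ v ∈ V, v * z = z * v := fun v hv => d.comm hv d.z_mem
  have hVR : V ≤ normalizer (R : Set G) := fun v hv => hRn v (hVz v hv)
  -- `R ∩ N(V) ≤ T`, `≤ P`
  have hX : ∀ x ∈ normalizer (V : Set G), x * z = z * x →
      x ∈ normalizer ((R ⊓ normalizer (V : Set G) : Subgroup G) : Set G) := by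
    intro x hx hxz
    refine mem_normalizer_of (fun y hy => ?_)
    obtain ⟨h1, h2⟩ := mem_inf.1 hy
    exact mem_inf.2 ⟨conj_mem (hRn x hxz) h1, mul_mem (mul_mem hx h2) (inv_mem hx)⟩
  have hRVp : IsPGroup 2 (R ⊓ normalizer (V : Set G) : Subgroup G) :=
    hR.to_le inf_le_left
  have hRVP : R ⊓ normalizer (V : Set G) ≤ P :=
    d.norm2 _ inf_le_right (fun x hx => hRz x (mem_inf.1 hx).1) hRVp hX
  have hRT : R ⊓ T ≤ P := (inf_le_inf_left R d.T_le).trans hRVP
  -- `R ≤ T`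
  have hconjV : ∀ r : G, r ∉ normalizer (V : Set G) → ∃ v ∈ V, r * v * r⁻¹ ∉ P := by
    intro r hr
    by_contra hall
    push Not at hall
    have hW : V.map (MulAut.conj r).toMonoidHom = V := by
      refine d.eq_V ?_ ?_ ?_
      · rintro _ ⟨v, hv, rfl⟩
        exact hall v hv
      · rw [card_map_of_injective (MulAut.conj r).injective, d.cardV]
      · rintro _ ⟨v, hv, rfl⟩
        rw [← map_mul, d.sqV v hv, map_one]
    refine hr (mem_normalizer_of (fun v hv => ?_))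
    rw [← hW]
    exact ⟨v, hv, rfl⟩
  have hRleT : R ≤ T := by
    by_contra hnle
    obtain ⟨r, hr, hrT, hrn⟩ := exists_mem_normalizer hR d.pT (fun x hx => hRn x (d.z_comm x hx)) hnle
    have hrV : r ∉ normalizer (V : Set G) := fun h => hrT (d.PT (hRVP (mem_inf.2 ⟨hr, h⟩)))
    obtain ⟨v, hv, hvP⟩ := hconjV r hrV
    apply hvP
    have h1 : r * v * r⁻¹ = (r * v * r⁻¹ * v⁻¹) * v := by group
    rw [h1]
    refine P.mul_mem (hRT (mem_inf.2 ⟨?_, ?_⟩)) (d.VP hv)
    · have h2 : r * v * r⁻¹ * v⁻¹ = r * (v * r⁻¹ * v⁻¹) := by group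
      rw [h2]
      exact R.mul_mem hr (conj_mem (hVR hv) (R.inv_mem hr))
    · exact T.mul_mem (conj_mem hrn (hVT hv)) (T.inv_mem (hVT hv))
  have hRP : R ≤ P := fun r hr => hRT (mem_inf.2 ⟨hr, hRleT hr⟩)
  have hnVR : ¬ V ≤ R := by
    intro hle
    obtain ⟨v, hv, hvP⟩ := hconjV t htV
    exact hvP (hRP (conj_mem (hRn t htz) (hle hv)))
  have hzR : z ∈ R := hRc z rfl (fun r hr => (hRz r hr).symm)
  have hcardz := d.card_z
  -- `R ∩ V = V0`
  have hRV : R ⊓ V = V0 := by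
    have hinv : ∀ x ∈ normalizer (V : Set G), x * z = z * x →
        x ∈ normalizer ((R ⊓ V : Subgroup G) : Set G) := by
      intro x hx hxz
      refine mem_normalizer_of (fun y hy => ?_)
      obtain ⟨h1, h2⟩ := mem_inf.1 hy
      exact mem_inf.2 ⟨conj_mem (hRn x hxz) h1, conj_mem hx h2⟩
    rcases d.irrV (R ⊓ V) inf_le_right (mem_inf.2 ⟨hzR, d.z_mem⟩) hinv with h | h | h
    · exfalso
      -- `[R, V] ≤ ⟨z⟩`
      have hRleV : R ≤ V := by
        intro r hr
        by_contra hrV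
        obtain ⟨Y, hY1, hY2, hY3⟩ := card_le_mul (V := V) (Z := zpowers z) (r := r)
          (fun v hv w hw => d.comm hv hw) (by rw [zpowers_le]; exact d.z_mem) (fun v hv => by
            rw [← h]
            refine mem_inf.2 ⟨?_, ?_⟩
            · have h2 : r * v * r⁻¹ * v⁻¹ = r * (v * r⁻¹ * v⁻¹) := by group
              rw [h2]
              exact R.mul_mem hr (conj_mem (hVR hv) (R.inv_mem hr))
            · exact V.mul_mem (conj_mem (d.T_le (hRleT hr)) hv) (V.inv_mem hv))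
        have h4 := d.cV r (hRP hr) hrV Y hY1 hY2
        rw [d.cardV, hcardz] at hY3
        omega
      have hRz' : R = zpowers z := by rw [← h]; exact (inf_eq_left.2 hRleV).symm
      refine hnVR (fun v hv => hRc v (hVz v hv) (fun r hr => ?_))
      exact d.comm hv (hRleV hr)
    · exact h
    · exact absurd (inf_eq_right.1 h) hnVR
  have hV0R : V0 ≤ R := by rw [← hRV]; exact inf_le_left
  have hnRV : ¬ R ≤ V := by
    intro hle
    have h1 : R = V0 := by rw [← hRV]; exact (inf_eq_left.2 hle).symm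
    exact hnVR (fun v hv => hRc v (hVz v hv) (fun r hr => d.comm hv (hle hr)))
  have hRVn : R ≤ normalizer (V : Set G) := hRleT.trans d.T_le
  have hsup : R ⊔ V = P := by
    have hinv : ∀ x ∈ normalizer (V : Set G), x * z = z * x →
        x ∈ normalizer ((R ⊔ V : Subgroup G) : Set G) := by
      intro x hx hxz
      refine mem_normalizer_of (fun y hy => ?_)
      have hy' : y ∈ ((R ⊔ V : Subgroup G) : Set G) := hy
      rw [coe_mul_of_left_le_normalizer_right R V hRVn] at hy'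
      obtain ⟨a, ha, b, hb, rfl⟩ := Set.mem_mul.1 hy'
      have h1 : x * (a * b) * x⁻¹ = (x * a * x⁻¹) * (x * b * x⁻¹) := by group
      rw [h1]
      exact mul_mem_sup (conj_mem (hRn x hxz) ha) (conj_mem hx hb)
    rcases d.irrP (R ⊔ V) le_sup_right (sup_le hRP d.VP) hinv with h | h
    · exact absurd (by rw [← h]; exact le_sup_left) hnRV
    · exact h
  have hcard : Nat.card R = 32 := by
    have h1 := card_sup hRVn
    rw [hsup, hRV, d.cardP, d.cardV0, d.cardV] at h1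
    omega
  have hV0z : ∀ g ∈ R, ∀ v ∈ V0, g * v * g⁻¹ * v⁻¹ ∈ zpowers z :=
    fun g hg v hv => d.V0P v hv g (hRP hg)
  have hRR : ∀ g ∈ R, ∀ h ∈ R, g * h * g⁻¹ * h⁻¹ ∈ V0 := by
    intro g hg h hh
    rw [← hRV]
    exact mem_inf.2 ⟨R.mul_mem (R.mul_mem (R.mul_mem hg hh) (R.inv_mem hg)) (R.inv_mem hh),
      d.PP (hRP hg) (hRP hh)⟩
  refine ⟨hcard, hRleT, hzR, ?_, ?_⟩
  · -- commutators
    by_contra hall
    push Not at hall
    obtain ⟨x, hx, y, hy, hc⟩ := hall
    set c := x * y * x⁻¹ * y⁻¹ with hcdef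
    have hzV0 : z ∈ V0 := by rw [← hRV]; exact mem_inf.2 ⟨hzR, d.z_mem⟩
    have hcV0 : c ∈ V0 := hRR x hx y hy
    have hcc : c * c = 1 := d.sqV _ (d.V0V hcV0)
    let D : Subgroup G := zpowers c ⊔ zpowers z
    have hDV0 : D ≤ V0 := sup_le (by rw [zpowers_le]; exact hcV0) (by rw [zpowers_le]; exact hzV0)
    have hzD : zpowers z ≤ D := le_sup_right
    have hcD : c ∈ D := mem_sup_left (mem_zpowers c)
    have hconjD : ∀ g ∈ R, ∀ e ∈ D, g * e * g⁻¹ ∈ D := by
      intro g hg e he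
      have h1 : g * e * g⁻¹ = (g * e * g⁻¹ * e⁻¹) * e := by group
      rw [h1]
      exact D.mul_mem (hzD (hV0z g hg e (hDV0 he))) he
    have hconjz : ∀ g ∈ R, ∀ e ∈ zpowers z, g * e * g⁻¹ ∈ zpowers z := by
      intro g hg e he
      have h1 : g * e * g⁻¹ = (g * e * g⁻¹ * e⁻¹) * e := by group
      rw [h1]
      exact mul_mem (hV0z g hg e ((zpowers_le.2 hzV0) he)) he
    have hcardD : Nat.card D ≤ 4 := by
      have hn : zpowers c ≤ normalizer (zpowers z : Set G) := by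
        rw [zpowers_le]
        refine mem_normalizer_of (fun e he => ?_)
        exact hconjz c (hV0R hcV0) e he
      have h1 := card_sup hn
      have h2 : Nat.card (zpowers c) ≤ 2 := by
        rw [Nat.card_zpowers]
        exact orderOf_le_of_pow_eq_one (by norm_num) (by rw [pow_two]; exact hcc)
      have h3 : 0 < Nat.card (zpowers c ⊓ zpowers z : Subgroup G) := Nat.card_pos
      rw [hcardz] at h1
      have h5 : Nat.card D ≤ Nat.card D * Nat.card (zpowers c ⊓ zpowers z : Subgroup G) :=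
        Nat.le_mul_of_pos_right _ h3
      have h6 : Nat.card D * Nat.card (zpowers c ⊓ zpowers z : Subgroup G) =
        Nat.card (zpowers c) * 2 := h1
      omega
    -- general principle
    have key : ∀ w ∈ R, (x * w * x⁻¹ * w⁻¹ ∈ D) → (y * w * y⁻¹ * w⁻¹ ∈ D) →
        ∀ g ∈ R, g * w * g⁻¹ * w⁻¹ ∈ D := by
      intro w hw hxw hyw g hg
      -- `A = {g | [g, x] ∈ ⟨z⟩}` has order at least 16 and does not contain `y`
      let A := commSet R (zpowers z) hconjz x
      have hyA : y ∉ A := by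
        intro h
        have h1 := (mem_commSet.1 h).2
        have h2 : c = (y * x * y⁻¹ * x⁻¹)⁻¹ := by rw [hcdef]; group
        exact hc (by rw [h2]; exact inv_mem h1)
      have hxA : x ∈ A := mem_commSet.2 ⟨hx, by simp⟩
      have hV0A : V0 ≤ A := by
        intro v hv
        refine mem_commSet.2 ⟨hV0R hv, ?_⟩
        have h2 : v * x * v⁻¹ * x⁻¹ = (x * v * x⁻¹ * v⁻¹)⁻¹ := by group
        rw [h2]; exact inv_mem (hV0z x hx v hv)
      have hxV0 : x ∉ V0 := by
        intro h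
        have h2 : c = (y * x * y⁻¹ * x⁻¹)⁻¹ := by rw [hcdef]; group
        exact hc (by rw [h2]; exact inv_mem (hV0z y hy x h))
      let C1 := commSet R D hconjD w
      have hV0C : V0 ≤ C1 := by
        intro v hv
        refine mem_commSet.2 ⟨hV0R hv, ?_⟩
        have h2 : v * w * v⁻¹ * w⁻¹ = (w * v * w⁻¹ * v⁻¹)⁻¹ := by group
        rw [h2]; exact hzD (inv_mem (hV0z w hw v hv))
      have hxC : x ∈ C1 := mem_commSet.2 ⟨hx, hxw⟩
      have hyC : y ∈ C1 := mem_commSet.2 ⟨hy, hyw⟩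
      -- `V0 < A ∩ C1 < C1 ≤ R`
      have hle1 : V0 ≤ A ⊓ C1 := le_inf hV0A hV0C
      have hlt1 : V0 ≠ A ⊓ C1 := fun h => hxV0 (by rw [h]; exact mem_inf.2 ⟨hxA, hxC⟩)
      have hle2 : A ⊓ C1 ≤ C1 := inf_le_right
      have hlt2 : A ⊓ C1 ≠ C1 := fun h => hyA (mem_inf.1 (by rw [h]; exact hyC)).1
      have hCR : C1 ≤ R := fun g hg => (mem_commSet.1 hg).1
      have e1 : Nat.card V0 ∣ Nat.card (A ⊓ C1 : Subgroup G) := card_dvd_of_le hle1
      have e2 : Nat.card (A ⊓ C1 : Subgroup G) ∣ Nat.card C1 := card_dvd_of_le hle2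
      have e3 : Nat.card V0 ≠ Nat.card (A ⊓ C1 : Subgroup G) :=
        fun h => hlt1 (eq_of_le_of_card_ge hle1 h.ge)
      have e4 : Nat.card (A ⊓ C1 : Subgroup G) ≠ Nat.card C1 :=
        fun h => hlt2 (eq_of_le_of_card_ge hle2 h.ge)
      have e5 : 0 < Nat.card (A ⊓ C1 : Subgroup G) := Nat.card_pos
      have e6 : 0 < Nat.card C1 := Nat.card_pos
      have h16 : 2 * Nat.card V0 ≤ Nat.card (A ⊓ C1 : Subgroup G) := by
        obtain ⟨k, hk⟩ := e1
        rcases Nat.lt_or_ge k 2 with hk2 | hk2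
        · interval_cases k <;> omega
        · rw [hk]; nlinarith
      have h32 : 2 * Nat.card (A ⊓ C1 : Subgroup G) ≤ Nat.card C1 := by
        obtain ⟨k, hk⟩ := e2
        rcases Nat.lt_or_ge k 2 with hk2 | hk2
        · interval_cases k <;> omega
        · rw [hk]; nlinarith
      rw [d.cardV0] at h16
      have hC : C1 = R := eq_of_le_of_card_ge hCR (by rw [hcard]; omega)
      have hgC : g ∈ C1 := by rw [hC]; exact hg
      exact (mem_commSet.1 hgC).2
    have hsymm : ∀ a b : G, a * b * a⁻¹ * b⁻¹ ∈ D → b * a * b⁻¹ * a⁻¹ ∈ D := by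
      intro a b h
      have h2 : b * a * b⁻¹ * a⁻¹ = (a * b * a⁻¹ * b⁻¹)⁻¹ := by group
      rw [h2]; exact D.inv_mem h
    have hgx : ∀ g ∈ R, g * x * g⁻¹ * x⁻¹ ∈ D :=
      key x hx (by simp) (hsymm _ _ (by rw [← hcdef]; exact hcD))
    have hgy : ∀ g ∈ R, g * y * g⁻¹ * y⁻¹ ∈ D := key y hy (by rw [← hcdef]; exact hcD) (by simp)
    have hgh : ∀ w ∈ R, ∀ g ∈ R, g * w * g⁻¹ * w⁻¹ ∈ D := fun w hw =>
      key w hw (hsymm _ _ (hgx w hw)) (hsymm _ _ (hgy w hw))
    -- the invariant subgroup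
    let Y : Subgroup G := ⁅R, R⁆ ⊔ zpowers z
    have hYD : Y ≤ D := by
      refine sup_le ?_ hzD
      rw [commutator_le]
      intro a ha b hb
      rw [commutatorElement_def]
      exact hgh b hb a ha
    have hYV : Y ≤ V := hYD.trans (hDV0.trans d.V0V)
    have hcY : c ∈ Y := mem_sup_left (by
      have := commutator_mem_commutator hx hy
      rw [commutatorElement_def] at this
      exact this)
    have hinv : ∀ a ∈ normalizer (V : Set G), a * z = z * a → a ∈ normalizer (Y : Set G) := by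
      intro a ha haz
      have h1 : Y.map (MulAut.conj a).toMonoidHom ≤ Y := by
        rw [Subgroup.map_sup, map_commutator]
        have h2 : R.map (MulAut.conj a).toMonoidHom ≤ R := by
          rintro _ ⟨r, hr, rfl⟩
          exact conj_mem (hRn a haz) hr
        have h3 : (zpowers z).map (MulAut.conj a).toMonoidHom ≤ zpowers z := by
          rw [MonoidHom.map_zpowers]
          have h4 : (MulAut.conj a).toMonoidHom z = z := by
            change a * z * a⁻¹ = z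
            rw [haz]; group
          rw [h4]
        exact sup_le_sup (commutator_mono h2 h2) h3
      refine mem_normalizer_of (fun y hy => h1 ⟨y, hy, rfl⟩)
    rcases d.irrV Y hYV (mem_sup_right (mem_zpowers z)) hinv with h | h | h
    · exact hc (by rw [← h]; exact hcY)
    · have h1 := card_le_of_le hYD
      rw [h, d.cardV0] at h1
      omega
    · have h1 := card_le_of_le hYD
      rw [h, d.cardV] at h1
      omega
  · intro x hx hxc
    have hxV : x ∈ V := d.cV0 x (hRP hx) (fun v hv => hxc v (hV0R hv))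
    refine d.cP x hxV (fun k hk => ?_)
    have hP : P ≤ centralizer {x} := by
      rw [← hsup]
      refine sup_le (fun w hw => ?_) (fun w hw => ?_)
      · rw [mem_centralizer_singleton_iff]; exact (hxc w hw).symm
      · rw [mem_centralizer_singleton_iff]; exact d.comm hw hxV
    exact mem_centralizer_singleton_iff.1 (hP hk)

end Cfsg.Agent.GH.C2GrowG
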