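import Cfsg.Prelude.Def_CaseTheorems
import Cfsg.Prelude.Def_ClassificationK
import Cfsg.Prelude.Def_Transfer
import Cfsg.Agent.J2.ExtQuot
import Cfsg.Agent.SignalizersComponents.CharP
import Cfsg.Agent.GH.C2GrowG

/-!
# GH-C2: the output "extraspecial of order 32" (hypotheses of S1759) (helper445)

`Extra32 G`, and the criterion from `O₂(C_G(z))`. An extraspecial 2-group of order at least 32 is of
symplectic type.
-/

set_option autoImplicit false

namespace Cfsg.Agent.GH.C2Extra

open Cfsg Subgroup

/-- For some involution `z`, `F*(C_G(z))` is extraspecial of order 32 (the hypotheses of S1759). -/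
def Extra32 (G : Type*) [Group G] : Prop :=
  ∃ z : G, orderOf z = 2 ∧
    IsOfSymplecticType ↥(generalizedFittingSubgroup ↥(Subgroup.centralizer ({z} : Set G))) ∧
    IsExtraspecial 2 ↥(generalizedFittingSubgroup ↥(Subgroup.centralizer ({z} : Set G))) ∧
    Nat.card ↥(generalizedFittingSubgroup ↥(Subgroup.centralizer ({z} : Set G))) = 32

section ext

variable {Q : Type*} [Group Q]

open Classical in
/-- The transvection with respect to an element `u` with `[Q, u] ≤ ⟨u²⟩`, `u⁴ = 1`. -/
noncomputable def tv (u : Q) (hu : u * u * (u * u) = 1) (hc : ∀ y : Q, y * u = u * y ∨ y * u = u * y * (u * u)) :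
    Q →* Q :=
  { toFun := fun y => if y * u = u * y then y else y * u
    map_one' := by simp
    map_mul' := by
      intro y y'
      have huu : ∀ y : Q, y * (u * u) = (u * u) * y := by
        intro y
        rcases hc y with h | h
        · rw [← mul_assoc, h, mul_assoc, h]; group
        · calc y * (u * u) = (y * u) * u := by group
            _ = (u * y * (u * u)) * u := by rw [h]
            _ = u * (y * u) * (u * u) := by group
            _ = u * (u * y * (u * u)) * (u * u) := by rw [h]
            _ = (u * u) * y * (u * u * (u * u)) := by group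
            _ = _ := by rw [hu, mul_one]
      have hb : ∀ y y' : Q, y * u = u * y * (u * u) → y' * u = u * y' * (u * u) →
          (y * y') * u = u * (y * y') := by
        intro y y' h h'
        calc y * y' * u = y * (y' * u) := by group
          _ = (y * u) * y' * (u * u) := by rw [h']; group
          _ = u * y * ((u * u) * y') * (u * u) := by rw [h]; group
          _ = u * y * (y' * (u * u)) * (u * u) := by rw [huu y']
          _ = u * (y * y') * (u * u * (u * u)) := by group
          _ = _ := by rw [hu, mul_one]
      by_cases h : y * u = u * y <;> by_cases h' : y' * u = u * y'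
      · have h2 : y * y' * u = u * (y * y') := by rw [mul_assoc, h', ← mul_assoc, h]; group
        rw [if_pos h, if_pos h', if_pos h2]
      · have h2 : ¬ (y * y' * u = u * (y * y')) := by
          intro h3
          apply h'
          have h4 : y' = y⁻¹ * (y * y') := by group
          have h5 : y⁻¹ * u = u * y⁻¹ := by
            rw [inv_mul_eq_iff_eq_mul, ← mul_assoc, h]; group
          rw [h4, mul_assoc, h3, ← mul_assoc, h5]; group
        rw [if_pos h, if_neg h', if_neg h2]; group
      · have h2 : ¬ (y * y' * u = u * (y * y')) := by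
          intro h3
          apply h
          have h4 : y = (y * y') * y'⁻¹ := by group
          have h5 : y'⁻¹ * u = u * y'⁻¹ := by
            rw [inv_mul_eq_iff_eq_mul, ← mul_assoc, h']; group
          rw [h4, mul_assoc, h5, ← mul_assoc, h3]; group
        rw [if_neg h, if_pos h', if_neg h2, mul_assoc, h']; group
      · have e1 := (hc y).resolve_left h
        have e2 := (hc y').resolve_left h'
        have h2 := hb y y' e1 e2
        rw [if_neg h, if_neg h', if_pos h2]
        calc y * y' = y * y' * (u * u * (u * u)) := by rw [hu, mul_one]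
          _ = y * (y' * (u * u)) * (u * u) := by group
          _ = y * ((u * u) * y') * (u * u) := by rw [huu y']
          _ = y * u * (u * y' * (u * u)) := by group
          _ = y * u * (y' * u) := by rw [e2] }

theorem tv_tv (u : Q) (hu : u * u * (u * u) = 1) (hc : ∀ y : Q, y * u = u * y ∨ y * u = u * y * (u * u)) :
    Function.Injective (tv u hu hc) := by
  classical
  rw [injective_iff_map_eq_one]
  intro y hy
  change (if y * u = u * y then y else y * u) = 1 at hy
  split_ifs at hy with h
  · exact hy
  · exfalso
    apply h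
    rw [hy]
    have : y = u⁻¹ := eq_inv_of_mul_eq_one_left hy
    rw [this]; group

theorem tv_apply {u : Q} {hu : u * u * (u * u) = 1}
    {hc : ∀ y : Q, y * u = u * y ∨ y * u = u * y * (u * u)} {y : Q} (hy : y * u ≠ u * y) :
    tv u hu hc y = y * u := if_neg hy

/-- An extraspecial 2-group of order at least 16 is of symplectic type. -/
theorem isOfSymplecticType [Finite Q] (h : IsExtraspecial 2 Q) (h8 : 8 < Nat.card Q) :
    IsOfSymplecticType Q := by
  obtain ⟨⟨hp, hfr, hcm⟩, hZ⟩ := h
  have hcomm : ∀ x y : Q, x * y * x⁻¹ * y⁻¹ ∈ center Q := by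
    intro x y
    rw [← hcm, ← commutatorElement_def]
    exact commutator_mem_commutator (mem_top x) (mem_top y)
  have hZ2 : ∀ c ∈ center Q, c * c = 1 := by
    intro c hc
    have h1 : (⟨c, hc⟩ : center Q) ^ 2 = 1 := by rw [← hZ]; exact pow_card_eq_one'
    have h2 := congrArg Subtype.val h1
    rw [pow_two] at h2
    exact h2
  obtain ⟨z, hz, hz1, hzall⟩ : ∃ z ∈ center Q, z ≠ 1 ∧ ∀ c ∈ center Q, c = 1 ∨ c = z := by
    obtain ⟨⟨c, hc⟩, hne⟩ := (Nat.card_eq_two_iff' (1 : center Q)).1 hZ
    refine ⟨c, hc, fun h => hne.1 (Subtype.ext h), fun d hd => ?_⟩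
    by_cases hd1 : d = 1
    · exact Or.inl hd1
    · right
      have := hne.2 ⟨d, hd⟩ (fun h => hd1 (congrArg Subtype.val h))
      exact congrArg Subtype.val this
  have hsq : ∀ x : Q, x * x ∈ center Q := by
    intro x
    rw [mem_center_iff]
    intro y
    -- `[y, x²] = [y, x]² = 1`
    have hk := hcomm y x
    set k := y * x * y⁻¹ * x⁻¹ with hkd
    have e1 : y * x = k * x * y := by rw [hkd]; group
    have e2 : x * k = k * x := (mem_center_iff.1 hk x)
    calc y * (x * x) = (y * x) * x := by group
      _ = (k * x * y) * x := by rw [e1]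
      _ = k * x * (y * x) := by group
      _ = k * x * (k * x * y) := by rw [e1]
      _ = k * (x * k) * x * y := by group
      _ = (k * k) * (x * x) * y := by rw [e2]; group
      _ = x * x * y := by rw [hZ2 k hk, one_mul]
  refine ⟨hp, fun A hA hAc => ?_⟩
  have hAcomm : ∀ a ∈ A, ∀ b ∈ A, a * b = b * a := by
    intro a ha b hb
    have := hAc.is_comm.comm (⟨a, ha⟩ : A) ⟨b, hb⟩
    exact congrArg Subtype.val this
  -- `A` is central
  have hAZ : A ≤ center Q := by
    intro x hx
    by_contra hxZ
    -- elements of order 4 commute with `x`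
    have h4 : ∀ u : Q, u * u ≠ 1 → x * u = u * x := by
      intro u hu
      by_contra hne
      have huu : u * u = z := (hzall _ (hsq u)).resolve_left hu
      have hu4 : u * u * (u * u) = 1 := hZ2 _ (hsq u)
      have hc : ∀ y : Q, y * u = u * y ∨ y * u = u * y * (u * u) := by
        intro y
        have h1 := hcomm y u
        rcases hzall _ h1 with h2 | h2
        · left
          have h3 := mul_inv_eq_one.1 h2
          exact mul_inv_eq_iff_eq_mul.1 h3
        · right
          have h3 : y * u = (y * u * y⁻¹ * u⁻¹) * (u * y) := by group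
          rw [h3, h2, huu]
          exact ((mem_center_iff.1 hz (u * y))).symm
      let e : Q ≃* Q := MulEquiv.ofBijective (tv u hu4 hc)
        (Finite.injective_iff_bijective.1 (tv_tv u hu4 hc))
      have h1 : e x ∈ A := by
        have h2 := hA.fixed e
        have h3 : x ∈ A.comap e.toMonoidHom := by rw [h2]; exact hx
        exact h3
      have h2 : e x = x * u := tv_apply (hu := hu4) (hc := hc) hne
      rw [h2] at h1
      have h3 : u ∈ A := by
        have h4 := A.mul_mem (A.inv_mem hx) h1
        rwa [inv_mul_cancel_left] at h4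
      exact hne (hAcomm x hx u h3)
    -- take `t` not commuting with `x`
    obtain ⟨t, ht⟩ : ∃ t : Q, t * x ≠ x * t := by
      by_contra hall
      push Not at hall
      exact hxZ (mem_center_iff.2 hall)
    have hout : ∀ s : Q, s * x ≠ x * s → s * s = 1 := by
      intro s hs
      by_contra h
      exact hs (h4 s h).symm
    have htt := hout t ht
    -- `t` inverts `C(x)`
    have hinv : ∀ c : Q, c * x = x * c → t * c * t * c = 1 := by
      intro c hc
      have h1 : (t * c) * x ≠ x * (t * c) := by
        intro h2
        apply ht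
        have h3 : c⁻¹ * x = x * c⁻¹ := by
          rw [inv_mul_eq_iff_eq_mul, ← mul_assoc, hc]; group
        have h5 : t = (t * c) * c⁻¹ := by group
        rw [h5, mul_assoc, h3, ← mul_assoc, h2]; group
      have h2 := hout _ h1
      rw [← h2]; group
    -- `C(x)` is abelian
    let C : Subgroup Q := centralizer {x}
    have hC : ∀ c, c ∈ C ↔ c * x = x * c := fun c => mem_centralizer_singleton_iff
    have hti : ∀ c ∈ C, t * c * t = c⁻¹ := by
      intro c hc
      exact eq_inv_of_mul_eq_one_left (hinv c ((hC c).1 hc))
    have htinv : t⁻¹ = t := inv_eq_of_mul_eq_one_left htt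
    have hCab : ∀ c ∈ C, ∀ d ∈ C, c * d = d * c := by
      intro c hc d hd
      have h1 := hti _ (C.mul_mem hc hd)
      have h2 : t * (c * d) * t = (t * c * t) * (t * d * t) * (t * (t * t) * t⁻¹)⁻¹ * (t * t) := by
        rw [show t * (t * t) * t⁻¹ = t * t by group]
        have : t * c * t * (t * d * t) = t * c * (t * t) * d * t := by group
        rw [this, htt]; group
      rw [show t * (t * t) * t⁻¹ = t * t by group, htt, hti c hc, hti d hd, h1] at h2
      have h3 : (c * d)⁻¹ = c⁻¹ * d⁻¹ := by rw [h2]; group
      have h4 := congrArg (fun x => x⁻¹) h3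
      simp only [inv_inv, mul_inv_rev] at h4
      exact h4
    -- commutator homomorphisms
    have hf : ∀ w : Q, ∃ f : Q →* center Q, ∀ y, f y = 1 ↔ y * w = w * y := by
      intro w
      let f : Q →* center Q :=
        { toFun := fun y => ⟨y * w * y⁻¹ * w⁻¹, hcomm y w⟩
          map_one' := by ext; simp
          map_mul' := by
            intro y y'
            ext
            have e1 := mem_center_iff.1 (hcomm y' w) y
            simp only [coe_mul]
            calc y * y' * w * (y * y')⁻¹ * w⁻¹ = y * (y' * w * y'⁻¹ * w⁻¹) * (w * y⁻¹ * w⁻¹) := by group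
              _ = (y' * w * y'⁻¹ * w⁻¹) * (y * w * y⁻¹ * w⁻¹) := by rw [e1]; group
              _ = _ := (mem_center_iff.1 (hcomm y' w) _).symm }
      refine ⟨f, fun y => ?_⟩
      rw [Subtype.ext_iff]
      show y * w * y⁻¹ * w⁻¹ = 1 ↔ _
      rw [mul_inv_eq_one, mul_inv_eq_iff_eq_mul]
    have hidx : ∀ (w : Q) (D : Subgroup Q), Nat.card D ≤ Nat.card (D ⊓ centralizer {w} : Subgroup Q) * 2 := by
      intro w D
      obtain ⟨f, hfw⟩ := hf w
      let g : D →* center Q := f.comp D.subtype
      have h1 := card_mul_index g.ker
      rw [index_ker] at h1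
      have h2 : Nat.card g.range ≤ 2 := by rw [← hZ]; exact Nat.card_le_card_of_injective (fun x : g.range => (x : center Q)) Subtype.val_injective
      have h3 : Nat.card g.ker ≤ Nat.card (D ⊓ centralizer {w} : Subgroup Q) := by
        rw [← card_map_of_injective (f := D.subtype) D.subtype_injective]
        refine card_le_of_le ?_
        rintro _ ⟨y, hy, rfl⟩
        refine mem_inf.2 ⟨y.2, ?_⟩
        rw [mem_centralizer_singleton_iff]
        exact (hfw _).1 (MonoidHom.mem_ker.1 hy)
      rw [← h1]
      exact Nat.mul_le_mul h3 h2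
    have hc1 : Nat.card Q ≤ Nat.card C * 2 := by
      have := hidx x ⊤
      rwa [top_inf_eq, card_top] at this
    have hc2 := hidx t C
    have hle : C ⊓ centralizer {t} ≤ center Q := by
      intro c hc
      obtain ⟨h1, h2⟩ := mem_inf.1 hc
      rw [mem_centralizer_singleton_iff] at h2
      rw [mem_center_iff]
      intro y
      by_cases hy : y ∈ C
      · exact hCab y hy c h1
      · have h3 : t⁻¹ * y ∈ C := by
          obtain ⟨f, hfx⟩ := hf x
          rw [hC, ← hfx, map_mul, map_inv]
          have e1 : f y ≠ 1 := fun h => hy ((hC y).2 ((hfx y).1 h))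
          have e2 : f t ≠ 1 := fun h => ht ((hfx t).1 h)
          have e3 : f y = ⟨z, hz⟩ := Subtype.ext ((hzall _ (f y).2).resolve_left
            (fun h => e1 (Subtype.ext h)))
          have e4 : f t = ⟨z, hz⟩ := Subtype.ext ((hzall _ (f t).2).resolve_left
            (fun h => e2 (Subtype.ext h)))
          rw [e3, e4, inv_mul_cancel]
        have h4 := hCab _ h3 c h1
        have h5 : y = t * (t⁻¹ * y) := by group
        rw [h5, mul_assoc, h4, ← mul_assoc, ← h2]; group
    have hc3 := card_le_of_le hle
    rw [hZ] at hc3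
    omega
  -- a central subgroup is cyclic
  have h2 : Nat.card A ∣ 2 := by rw [← hZ]; exact card_dvd_of_le hAZ
  rcases (Nat.dvd_prime Nat.prime_two).1 h2 with h | h
  · have : Subsingleton A := (Nat.card_eq_one_iff_unique.1 h).1
    exact isCyclic_of_subsingleton
  · have : Fact (Nat.Prime 2) := ⟨Nat.prime_two⟩
    exact isCyclic_of_prime_card h

end ext

/-- From `O₂(C_G(z))` to the hypotheses of S1759. -/
theorem extra32_of {G : Type*} [Group G] [Finite G] {z : G} (hz : orderOf z = 2)
    (hH : IsOfCharacteristicTwo ↥(centralizer ({z} : Set G))) {T : Subgroup G}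
    (h : C2GrowG.Extra ((pCore 2 ↥(centralizer ({z} : Set G))).map (centralizer ({z} : Set G)).subtype)
      T z) : Extra32 G := by
  have : Fact (Nat.Prime 2) := ⟨Nat.prime_two⟩
  set H := centralizer ({z} : Set G) with hHd
  have hF : generalizedFittingSubgroup ↥H = pCore 2 ↥H :=
    SignalizersComponents.CharP.genFitting_eq_pCore_iff.2 hH
  have hcard : Nat.card ↥(pCore 2 ↥H) = 32 := by
    rw [← h.card, card_map_of_injective (f := H.subtype) H.subtype_injective]
  have hE : IsExtraspecial 2 ↥(pCore 2 ↥H) := by
    have hmem : ∀ x : ↥(pCore 2 ↥H), ((x : ↥H) : G) ∈ (pCore 2 ↥H).map H.subtype :=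
      fun x => ⟨(x : ↥H), x.2, rfl⟩
    -- `z` as an element of the core
    obtain ⟨⟨z', hz'⟩, hz'c, hz'z⟩ := h.z_mem
    have hz'z : z' = z := hz'z
    subst hz'z
    let zz : ↥(pCore 2 ↥H) := ⟨⟨z', hz'⟩, hz'c⟩
    have hzz : ∀ x : ↥(pCore 2 ↥H), x = zz ↔ ((x : ↥H) : G) = z' := by
      intro x
      rw [Subtype.ext_iff, Subtype.ext_iff]
    have hzc : zz ∈ center ↥(pCore 2 ↥H) := by
      rw [mem_center_iff]
      intro g
      apply Subtype.ext
      apply Subtype.ext
      exact (mem_centralizer_singleton_iff.1 (g : ↥H).2)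
    have hz1 : zz ≠ 1 := by
      intro h1
      have h2 := congrArg (fun x : ↥(pCore 2 ↥H) => ((x : ↥H) : G)) h1
      have h3 : z' = 1 := h2
      rw [h3, orderOf_one] at hz
      omega
    have hcen : ∀ x ∈ center ↥(pCore 2 ↥H), x = 1 ∨ x = zz := by
      intro x hx
      rcases h.center ((x : ↥H) : G) (hmem x) (by
        rintro _ ⟨y, hy, rfl⟩
        have := mem_center_iff.1 hx ⟨y, hy⟩
        have h2 := congrArg (fun x : ↥(pCore 2 ↥H) => ((x : ↥H) : G)) this
        exact h2.symm) with h1 | h1
      · left
        exact Subtype.ext (Subtype.ext h1)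
      · right
        rw [hzz]; exact h1
    have hcc : Nat.card (center ↥(pCore 2 ↥H)) = 2 := by
      rw [Nat.card_eq_two_iff' (1 : center ↥(pCore 2 ↥H))]
      refine ⟨⟨zz, hzc⟩, fun h1 => hz1 (congrArg Subtype.val h1), ?_⟩
      rintro ⟨x, hx⟩ hx1
      apply Subtype.ext
      rcases hcen x hx with h1 | h1
      · exact absurd (Subtype.ext h1) hx1
      · exact h1
    have hzsq : z' * z' = 1 := by rw [← pow_two, ← hz]; exact pow_orderOf_eq_one z'
    have hcm : ∀ x y : ↥(pCore 2 ↥H), x * y * x⁻¹ * y⁻¹ ∈ center ↥(pCore 2 ↥H) := by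
      intro x y
      have h1 := h.comm _ (hmem x) _ (hmem y)
      obtain ⟨n, hn⟩ := mem_zpowers_iff.1 h1
      have h2 : x * y * x⁻¹ * y⁻¹ = zz ^ n := by
        apply Subtype.ext
        apply Subtype.ext
        exact hn.symm
      rw [h2]
      exact zpow_mem hzc n
    refine J2.ExtQuot.isExtraspecial_two (Lib.Cores.pCore_isPGroup 2) hcc ?_ ?_
    · intro x
      rw [mem_center_iff]
      intro y
      have hk := hcm y x
      set k := y * x * y⁻¹ * x⁻¹ with hkd
      have e1 : y * x = k * x * y := by rw [hkd]; group
      have e2 : x * k = k * x := (mem_center_iff.1 hk x)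
      have e3 : k * k = 1 := by
        rcases hcen k hk with h1 | h1
        · rw [h1, one_mul]
        · rw [h1]
          exact Subtype.ext (Subtype.ext hzsq)
      rw [pow_two]
      calc y * (x * x) = (y * x) * x := by group
        _ = (k * x * y) * x := by rw [e1]
        _ = k * x * (y * x) := by group
        _ = k * x * (k * x * y) := by rw [e1]
        _ = k * (x * k) * x * y := by group
        _ = (k * k) * (x * x) * y := by rw [e2]; group
        _ = x * x * y := by rw [e3, one_mul]
    · by_contra hcon
      push Not at hcon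
      have h1 : center ↥(pCore 2 ↥H) = ⊤ := by
        rw [eq_top_iff]
        intro x _
        rw [mem_center_iff]
        intro y
        exact hcon y x
      rw [h1, card_top, hcard] at hcc
      omega
  refine ⟨z, hz, ?_, ?_, ?_⟩
  · rw [hF]; exact isOfSymplecticType hE (by rw [hcard]; norm_num)
  · rw [hF]; exact hE
  · rw [hF]; exact hcard

end Cfsg.Agent.GH.C2Extra
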