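import Cfsg.Agent.GH.Branches
import Cfsg.Agent.GH.C2Extra
import Cfsg.Agent.LargeExtra.W2.Simple
import Cfsg.Agent.S0822

/-!
# GH-C2: `Extra32 G` gives `K4big G` for simple `G` (S1759 without `PSU₃(3)`)
-/

set_option autoImplicit false

namespace Cfsg.Agent.GH.C2Big

open Subgroup Cfsg Cfsg.Agent.GH.Defs
open Cfsg.Agent.GH.C2Extra (Extra32)
open Cfsg.Agent.Co2Type.Quad Cfsg.Agent.LargeExtra.W2 Cfsg.Agent.LargeExtra.W2.Simple

/-- the conclusion of S1759 for simple groups: `Concl` without `PSU₃(3)` -/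
def ConclS (L : Type*) [Group L] : Prop :=
    (∃ (F : Type) (_ : Field F) (_ : Fintype F), Fintype.card F = 9 ∧ Nonempty (L ≃* Cfsg.PSU 4 F 3)) ∨
      (∃ (F : Type) (_ : Field F) (_ : Fintype F), Fintype.card F = 4 ∧ Nonempty (L ≃* Cfsg.PSU 4 F 2)) ∨
      (∃ (F : Type) (_ : Field F) (_ : Fintype F), Fintype.card F = 3 ∧ (Nonempty (L ≃* Matrix.ProjectiveSpecialLinearGroup (Fin 4) F) ∨
        Nonempty (L ≃* ↥(Cfsg.Lie.chevG2.group F)))) ∨
      Nonempty (L ≃* ↥(alternatingGroup (Fin 8))) ∨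
      Nonempty (L ≃* ↥(alternatingGroup (Fin 9))) ∨
      Cfsg.Spor.IsoM12 L ∨ Cfsg.Spor.IsoJ2 L ∨ Cfsg.Spor.IsoJ3 L

/-- the recognition theorems needed for `G` -/
structure RecogS (G : Type*) [Group G] : Prop where
  F1 : ∀ (Q : Subgroup G) (z i j k l w s : G), CaseF1 Q z i j k l w s → ConclS G
  F2 : ∀ (Q : Subgroup G) (z i j k l v y : G), CaseF2 Q z i j k l v y → ConclS G
  a9 : ∀ (Q : Subgroup G) (z i j k l x₁ x₂ s : G), Case9a Q z i j k l x₁ x₂ s → ConclS G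
  c9 : ∀ (Q : Subgroup G) (z i j k l x₁ x₂ y : G), Case9c Q z i j k l x₁ x₂ y → ConclS G
  aa : ∀ (Q : Subgroup G) (z i j k l x₁ x₂ y s : G), Case9aa Q z i j k l x₁ x₂ y s → ConclS G
  minus : ∀ (Q : Subgroup G) (z i j k l : G), Minus Q z i j k l → ConclS G

/-- **S1759 for simple groups**, modulo the recognition theorems, without `PSU₃(3)`. -/
theorem main {G : Type*} [Group G] [Finite G] [IsSimpleGroup G] (hnc : ¬ IsMulCommutative G) (z : G)
    (hz : orderOf z = 2)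
    (hE : Cfsg.IsExtraspecial 2 ↥(Cfsg.generalizedFittingSubgroup ↥(Subgroup.centralizer ({z} : Set G))))
    (h32 : Nat.card ↥(Cfsg.generalizedFittingSubgroup ↥(Subgroup.centralizer ({z} : Set G))) = 32)
    (R : RecogS G) : ConclS G := by
  have hG : ∀ H : Subgroup G, H.index ≠ 2 := no_index_two hnc
  have h := Cfsg.Agent.LargeExtra.Base.large_of_genFitting z hz hE
  have hcard : Nat.card ((Cfsg.generalizedFittingSubgroup ↥(Subgroup.centralizer ({z} : Set G))).map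
      (Subgroup.centralizer ({z} : Set G)).subtype) = 32 := by
    rw [Subgroup.card_map_of_injective (Subgroup.centralizer ({z} : Set G)).subtype_injective, h32]
  have hO : ∀ N : Subgroup G, (Cfsg.generalizedFittingSubgroup ↥(Subgroup.centralizer ({z} : Set G))).map
      (Subgroup.centralizer ({z} : Set G)).subtype ≤ N → N ≤ Subgroup.centralizer ({z} : Set G) →
      (∀ c ∈ Subgroup.centralizer ({z} : Set G), ∀ n ∈ N, c * n * c⁻¹ ∈ N) → IsPGroup 2 N →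
      N ≤ (Cfsg.generalizedFittingSubgroup ↥(Subgroup.centralizer ({z} : Set G))).map
      (Subgroup.centralizer ({z} : Set G)).subtype := fun N _ h1 h2 h3 => le_of_two z h1 h2 h3
  generalize (Cfsg.generalizedFittingSubgroup ↥(Subgroup.centralizer ({z} : Set G))).map
      (Subgroup.centralizer ({z} : Set G)).subtype = Q at h hcard hO
  clear hE h32
  rcases exists_plus_or_minus h hcard with ⟨i, j, k, l, P⟩ | ⟨i, j, k, l, M⟩
  · rcases Cases.cases_plus hG P hO (OddDead.exists_outer hnc h hcard) with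
      ⟨i, j, k, l, w, s, h1⟩ | ⟨i, j, k, l, v, y, h1⟩ | ⟨i, j, k, l, x₁, x₂, s, h1⟩ |
      ⟨i, j, k, l, x₁, x₂, y, h1⟩ | ⟨i, j, k, l, x₁, x₂, y, s, h1⟩ | ⟨i, j, k, l, x₁, x₂, f, h1, h2⟩
    · exact R.F1 _ _ _ _ _ _ _ _ h1
    · exact R.F2 _ _ _ _ _ _ _ _ h1
    · exact R.a9 _ _ _ _ _ _ _ _ _ h1
    · exact R.c9 _ _ _ _ _ _ _ _ _ h1
    · exact R.aa _ _ _ _ _ _ _ _ _ _ h1
    · exact (CType.case94 hnc h1 h2).elim
  · exact R.minus _ _ _ _ _ _ M

theorem k4big_of_concl {G : Type*} [Group G] (h : ConclS G) : Branches.K4big G := by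
  rcases h with ⟨F, i, j, hF, h⟩ | ⟨F, i, j, hF, ⟨e⟩⟩ | ⟨F, i, j, hF, h | ⟨⟨e⟩⟩⟩ | h | h | h | h | h
  · exact Or.inr (Or.inr (Or.inr (Or.inr (Or.inr (Or.inr (Or.inr (Or.inl
      ⟨F, i, j, 3, by rw [hF]; norm_num, by decide, by decide, h⟩)))))))
  · obtain ⟨e'⟩ := S0822.result (F := F) (K := ZMod 3) hF (ZMod.card 3)
    exact Or.inr (Or.inr (Or.inr (Or.inr (Or.inr (Or.inl
      ⟨ZMod 3, inferInstance, inferInstance, by rw [ZMod.card]; decide, ⟨e.trans e'⟩⟩)))))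
  · exact Or.inr (Or.inr (Or.inr (Or.inr (Or.inr (Or.inr (Or.inl
      ⟨F, i, j, by rw [hF]; decide, by rw [hF]; decide, h⟩))))))
  · have hodd : Odd (Fintype.card F) := by rw [hF]; decide
    refine Or.inr (Or.inr (Or.inr (Or.inr (Or.inr (Or.inr (Or.inr (Or.inr (Or.inr (Or.inr (Or.inl
      ⟨⟨F, i, j, hodd, ⟨e⟩⟩, ?_⟩))))))))))
    intro S
    obtain ⟨T, ⟨f⟩⟩ := sylow_congr e.symm S
    exact ⟨F, i, j, hodd, T, ⟨f.symm⟩⟩
  · exact Or.inr (Or.inr (Or.inr (Or.inr (Or.inl ⟨8, le_rfl, by norm_num, h⟩))))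
  · exact Or.inr (Or.inr (Or.inr (Or.inr (Or.inl ⟨9, by norm_num, by norm_num, h⟩))))
  · exact Or.inr (Or.inr (Or.inr (Or.inr (Or.inr (Or.inr (Or.inr (Or.inr (Or.inr (Or.inr (Or.inr
      (Or.inr (Or.inl h))))))))))))
  · exact Or.inr (Or.inr (Or.inr (Or.inr (Or.inr (Or.inr (Or.inr (Or.inr (Or.inr (Or.inr (Or.inr
      (Or.inr (Or.inr (Or.inr (Or.inr (Or.inl h)))))))))))))))
  · exact Or.inr (Or.inr (Or.inr (Or.inr (Or.inr (Or.inr (Or.inr (Or.inr (Or.inr (Or.inr (Or.inr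
      (Or.inr (Or.inr (Or.inr (Or.inr (Or.inr (Or.inl h))))))))))))))))

theorem k4big_of_extra32 {G : Type*} [Group G] [Finite G] (h : Hyp G) (R : RecogS G)
    (hx : Extra32 G) : Branches.K4big G := by
  have := h.simple
  obtain ⟨z, hz, -, hE, h32⟩ := hx
  exact k4big_of_concl (main h.nonComm z hz hE h32 R)

end Cfsg.Agent.GH.C2Big
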