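import Cfsg.Agent.GH.C2SylUT

/-!
# GH-C2: the Sylow 2-subgroup in the natural cases (N1), (N2), (N3)
-/

set_option autoImplicit false

namespace Cfsg.Agent.GH.C2Syl

open Subgroup Cfsg.Agent.GH.Pc Cfsg.Agent.GH.PcTypes Cfsg.Agent.GH.C2Rel
open Cfsg.Agent.J2Sylow.Model
open Cfsg.Agent.TwoFusion.SectionalRank

variable {X : Type*} [Group X] {V : Subgroup X}

/-! ### from coordinates to the types -/

section coord

variable {A B C : F4 → X}

theorem A0 {Z : F4 → X} (h : ∀ a b, Z a * Z b = Z (a + b)) : Z 0 = 1 := by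
  have h2 := h 0 0
  rw [add_zero] at h2
  exact mul_eq_left.mp h2

theorem sq1 {Z : F4 → X} (h : ∀ a b, Z a * Z b = Z (a + b)) (x : F4) : Z x * Z x = 1 := by
  rw [h, F4.add_self]
  exact A0 h

/-- The group of all `B b * A a * C c`. -/
def T0 (h : UT A B C) : Subgroup X where
  carrier := {g | ∃ a b c, g = B b * A a * C c}
  one_mem' := ⟨0, 0, 0, by rw [A0 h.XX, A0 h.YY, A0 h.ZZ]; group⟩
  mul_mem' := by
    rintro _ _ ⟨a, b, c, rfl⟩ ⟨a', b', c', rfl⟩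
    refine ⟨a + a', b + b', a * b' + c + c', ?_⟩
    rw [← h.XX, ← h.YY, ← h.ZZ, ← h.ZZ]
    calc B b * A a * C c * (B b' * A a' * C c')
        = B b * A a * (C c * B b') * A a' * C c' := by group
      _ = B b * (A a * B b') * (C c * A a') * C c' := by rw [h.ZY]; group
      _ = B b * B b' * A a * (C (a * b') * A a') * C c * C c' := by
          rw [h.XY, h.ZX]; simp only [mul_assoc]
      _ = B b * B b' * (A a * A a') * (C (a * b') * C c * C c') := by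
          rw [h.ZX]; simp only [mul_assoc]
  inv_mem' := by
    rintro _ ⟨a, b, c, rfl⟩
    refine ⟨a, b, a * b + c, ?_⟩
    have e1 : (A a)⁻¹ = A a := inv_eq_of_mul_eq_one_left (sq1 h.XX a)
    have e2 : (B b)⁻¹ = B b := inv_eq_of_mul_eq_one_left (sq1 h.YY b)
    have e3 : (C c)⁻¹ = C c := inv_eq_of_mul_eq_one_left (sq1 h.ZZ c)
    rw [mul_inv_rev, mul_inv_rev, e1, e2, e3, ← h.ZZ, h.XY, ← mul_assoc, h.ZY]
    calc B b * C c * (A a * C (a * b)) = B b * (C c * A a) * C (a * b) := by group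
      _ = B b * A a * (C c * C (a * b)) := by rw [h.ZX]; group
      _ = B b * A a * (C (a * b) * C c) := by rw [h.ZZ, h.ZZ, add_comm]

theorem mem_T0 {h : UT A B C} {g : X} : g ∈ T0 h ↔ ∃ a b c, g = B b * A a * C c := Iff.rfl

theorem A_mem (h : UT A B C) (a : F4) : A a ∈ T0 h :=
  ⟨a, 0, 0, by rw [A0 h.YY, A0 h.ZZ]; group⟩

theorem B_mem (h : UT A B C) (b : F4) : B b ∈ T0 h :=
  ⟨0, b, 0, by rw [A0 h.XX, A0 h.ZZ]; group⟩

theorem C_mem (h : UT A B C) (c : F4) : C c ∈ T0 h :=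
  ⟨0, 0, c, by rw [A0 h.XX, A0 h.YY]; group⟩

/-- `T0 ∪ T0 s`. -/
def TS {s r : X} (h : UT A B C) (k : SR A B C s r) : Subgroup X where
  carrier := {g | g ∈ T0 h ∨ g * s ∈ T0 h}
  one_mem' := Or.inl (T0 h).one_mem
  mul_mem' := by
    have hs : ∀ g ∈ T0 h, s * g * s ∈ T0 h := by
      rintro _ ⟨a, b, c, rfl⟩
      refine ⟨F4.fr a, F4.fr b, F4.fr c, ?_⟩
      calc s * (B b * A a * C c) * s = (s * B b) * A a * C c * s := by group
        _ = B (F4.fr b) * (s * A a) * C c * s := by rw [k.sY]; group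
        _ = B (F4.fr b) * A (F4.fr a) * (s * C c) * s := by rw [k.sX]; group
        _ = B (F4.fr b) * A (F4.fr a) * C (F4.fr c) * (s * s) := by rw [k.sZ]; group
        _ = _ := by rw [k.ss, mul_one]
    have hsi : s⁻¹ = s := inv_eq_of_mul_eq_one_left k.ss
    rintro g g' (hg | hg) (hg' | hg')
    · exact Or.inl (mul_mem hg hg')
    · right
      have := mul_mem hg hg'
      rwa [← mul_assoc] at this
    · right
      have h1 := mul_mem hg (hs _ hg')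
      have h2 : g * s * (s * g' * s) = g * (s * s) * g' * s := by group
      rwa [h2, k.ss, mul_one] at h1
    · left
      have h1 := mul_mem hg (hs _ hg')
      have h2 : g * s * (s * (g' * s) * s) = g * (s * s) * g' * (s * s) := by group
      rwa [h2, k.ss, mul_one, mul_one] at h1
  inv_mem' := by
    have hsi : s⁻¹ = s := inv_eq_of_mul_eq_one_left k.ss
    have hs : ∀ g ∈ T0 h, s * g * s ∈ T0 h := by
      rintro _ ⟨a, b, c, rfl⟩
      refine ⟨F4.fr a, F4.fr b, F4.fr c, ?_⟩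
      calc s * (B b * A a * C c) * s = (s * B b) * A a * C c * s := by group
        _ = B (F4.fr b) * (s * A a) * C c * s := by rw [k.sY]; group
        _ = B (F4.fr b) * A (F4.fr a) * (s * C c) * s := by rw [k.sX]; group
        _ = B (F4.fr b) * A (F4.fr a) * C (F4.fr c) * (s * s) := by rw [k.sZ]; group
        _ = _ := by rw [k.ss, mul_one]
    rintro g (hg | hg)
    · exact Or.inl (inv_mem hg)
    · right
      have h1 := hs _ (inv_mem hg)
      have h2 : s * (g * s)⁻¹ * s = g⁻¹ * s := by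
        rw [mul_inv_rev, hsi, ← mul_assoc, k.ss, one_mul]
      rwa [h2] at h1

theorem mem_TS {s r : X} {h : UT A B C} {k : SR A B C s r} {g : X} :
    g ∈ TS h k ↔ ∃ a b c, g = B b * A a * C c ∨ g = B b * A a * C c * s := by
  constructor
  · rintro (⟨a, b, c, hg⟩ | ⟨a, b, c, hg⟩)
    · exact ⟨a, b, c, Or.inl hg⟩
    · refine ⟨a, b, c, Or.inr ?_⟩
      rw [← hg, mul_assoc, k.ss, mul_one]
  · rintro ⟨a, b, c, hg | hg⟩
    · exact Or.inl ⟨a, b, c, hg⟩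
    · right
      refine ⟨a, b, c, ?_⟩
      rw [hg, mul_assoc, k.ss, mul_one]

theorem s_mem_TS {s r : X} (h : UT A B C) (k : SR A B C s r) : s ∈ TS h k :=
  Or.inr (by rw [k.ss]; exact (T0 h).one_mem)

theorem sat_of_UT (h : UT A B C) : Sat UT34 ![A F4.e, A F4.w, B F4.e, B F4.w, C F4.e, C F4.w] := by
  have xa : ∀ a b, A a * A b = A b * A a := fun a b => by rw [h.XX, h.XX, add_comm]
  have ya : ∀ a b, B a * B b = B b * B a := fun a b => by rw [h.YY, h.YY, add_comm]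
  have za : ∀ a b, C a * C b = C b * C a := fun a b => by rw [h.ZZ, h.ZZ, add_comm]
  have xy : ∀ a b, A a * B b = B b * C (a * b) * A a := fun a b => by
    rw [h.XY, ← h.ZX, ← mul_assoc]
  exact sat_UT34 (sq1 h.XX _) (sq1 h.XX _) (xa _ _) (sq1 h.YY _) (sq1 h.YY _) (sq1 h.ZZ _)
    (sq1 h.ZZ _) (ya _ _) (h.ZY _ _).symm (h.ZY _ _).symm (h.ZY _ _).symm (h.ZY _ _).symm (za _ _)
    (xy F4.e F4.e) (xy F4.e F4.w) (h.ZX _ _).symm (h.ZX _ _).symm (xy F4.w F4.e) (by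
      rw [xy F4.w F4.w, mul_assoc (B F4.w) (C F4.e), h.ZZ]; rfl) (h.ZX _ _).symm (h.ZX _ _).symm

theorem mem_closure_UT (h : UT A B C) {K : Subgroup X} (a1 : A F4.e ∈ K) (a2 : A F4.w ∈ K)
    (b1 : B F4.e ∈ K) (b2 : B F4.w ∈ K) (c1 : C F4.e ∈ K) (c2 : C F4.w ∈ K) : T0 h ≤ K := by
  have key : ∀ {Z : F4 → X}, (∀ a b, Z a * Z b = Z (a + b)) → Z F4.e ∈ K → Z F4.w ∈ K →
      ∀ x, Z x ∈ K := by
    intro Z hZ h1 h2 x
    cases x
    · have := A0 hZ
      change Z 0 ∈ K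
      rw [this]; exact K.one_mem
    · exact h1
    · exact h2
    · have h3 : Z F4.u = Z F4.e * Z F4.w := (hZ F4.e F4.w).symm
      rw [h3]; exact K.mul_mem h1 h2
  rintro _ ⟨a, b, c, rfl⟩
  exact K.mul_mem (K.mul_mem (key h.YY b1 b2 b) (key h.XX a1 a2 a)) (key h.ZZ c1 c2 c)

theorem isType_T0 (h : UT A B C) (hc : Nat.card (T0 h) = 64) : IsType UT34 (T0 h) := by
  refine isType_of_closure (sat_of_UT h) (T0 h) ?_ (by rw [hc]; norm_num)
  have hmem : ∀ i, (![A F4.e, A F4.w, B F4.e, B F4.w, C F4.e, C F4.w] : Fin 6 → X) i ∈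
      closure (Set.range ![A F4.e, A F4.w, B F4.e, B F4.w, C F4.e, C F4.w]) :=
    fun i => subset_closure ⟨i, rfl⟩
  apply le_antisymm
  · rw [closure_le]
    rintro _ ⟨i, rfl⟩
    fin_cases i
    · exact A_mem h _
    · exact A_mem h _
    · exact B_mem h _
    · exact B_mem h _
    · exact C_mem h _
    · exact C_mem h _
  · exact mem_closure_UT h (hmem 0) (hmem 1) (hmem 2) (hmem 3) (hmem 4) (hmem 5)

theorem isType_TS {s r : X} (h : UT A B C) (k : SR A B C s r) (hc : Nat.card (TS h k) = 128) :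
    IsType M22T (TS h k) := by
  have xa : ∀ a b, A a * A b = A b * A a := fun a b => by rw [h.XX, h.XX, add_comm]
  have ya : ∀ a b, B a * B b = B b * B a := fun a b => by rw [h.YY, h.YY, add_comm]
  have za : ∀ a b, C a * C b = C b * C a := fun a b => by rw [h.ZZ, h.ZZ, add_comm]
  have xy : ∀ a b, A a * B b = B b * C (a * b) * A a := fun a b => by
    rw [h.XY, ← h.ZX, ← mul_assoc]
  have sat : Sat M22T ![s, A F4.e, A F4.w, B F4.e, B F4.w, C F4.e, C F4.w] :=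
    sat_M22T k.ss (sq1 h.XX _) (sq1 h.XX _) (xa _ _) (sq1 h.YY _) (sq1 h.YY _) (sq1 h.ZZ _)
    (sq1 h.ZZ _) (ya _ _) (h.ZY _ _).symm (h.ZY _ _).symm (h.ZY _ _).symm (h.ZY _ _).symm (za _ _)
    (xy F4.e F4.e) (xy F4.e F4.w) (h.ZX _ _).symm (h.ZX _ _).symm (xy F4.w F4.e) (by
      rw [xy F4.w F4.w, mul_assoc (B F4.w) (C F4.e), h.ZZ]; rfl) (h.ZX _ _).symm (h.ZX _ _).symm
    (k.sX F4.e) (by rw [k.sX, h.XX]; rfl) (k.sY F4.e) (by rw [k.sY, h.YY]; rfl) (k.sZ F4.e)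
    (by rw [k.sZ, h.ZZ]; rfl)
  refine isType_of_closure sat (TS h k) ?_ (by rw [hc]; norm_num)
  have hmem : ∀ i, (![s, A F4.e, A F4.w, B F4.e, B F4.w, C F4.e, C F4.w] : Fin 7 → X) i ∈
      closure (Set.range ![s, A F4.e, A F4.w, B F4.e, B F4.w, C F4.e, C F4.w]) :=
    fun i => subset_closure ⟨i, rfl⟩
  apply le_antisymm
  · rw [closure_le]
    rintro _ ⟨i, rfl⟩
    fin_cases i
    · exact s_mem_TS h k
    · exact Or.inl (A_mem h _)
    · exact Or.inl (A_mem h _)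
    · exact Or.inl (B_mem h _)
    · exact Or.inl (B_mem h _)
    · exact Or.inl (C_mem h _)
    · exact Or.inl (C_mem h _)
  · have h1 := mem_closure_UT h (hmem 1) (hmem 2) (hmem 3) (hmem 4) (hmem 5) (hmem 6)
    rintro g (hg | hg)
    · exact h1 hg
    · have h2 := mul_mem (h1 hg) (hmem 0)
      change g * s * s ∈ _ at h2
      rwa [mul_assoc, k.ss, mul_one] at h2

end coord

/-! ### the lifted data -/

/-- Natural data at the level of `X`: `a` lies over an involution of the four-group, `d` over the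
element of order three. -/
structure NHyp (V U : Subgroup X) (a d : X) : Prop where
  el : El V
  c16 : Nat.card V = 16
  le : U ≤ V
  card : Nat.card U = 4
  d3 : d * d * d ∈ V
  fpf : ∀ v ∈ V, d * v * d⁻¹ = v → v = 1
  dU : ∀ u ∈ U, d * u * d⁻¹ ∈ U
  aa : a * a ∈ V
  prod : a * (d * a * d⁻¹) * (d * (d * a * d⁻¹) * d⁻¹) ∈ V
  fa : ∀ v ∈ V, a * v * a⁻¹ = v ↔ v ∈ U
  ca : ∀ v ∈ V, a * v * a⁻¹ * v⁻¹ ∈ U
  sur : ∀ u ∈ U, ∃ v ∈ V, a * v * a⁻¹ * v⁻¹ = u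

namespace NHyp

variable {U : Subgroup X} {a d : X}

theorem d3' (H : NHyp V U a d) : d * d * d = 1 := cube_eq_one H.fpf H.d3

theorem dU' [Finite X] (H : NHyp V U a d) : ∀ u, d * u * d⁻¹ ∈ U → u ∈ U := by
  intro u hu
  have h1 := H.dU _ (H.dU _ hu)
  have h2 : d * (d * (d * u * d⁻¹) * d⁻¹) * d⁻¹ = (d * d * d) * u * (d * d * d)⁻¹ := by group
  rw [h2, H.d3', inv_one, mul_one, one_mul] at h1
  exact h1

/-- Conjugation by `d` of the action. -/
theorem fix_conj [Finite X] (H : NHyp V U a d) {g : X} (hg : ∀ v ∈ V, g * v * g⁻¹ = v ↔ v ∈ U) :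
    ∀ v ∈ V, (d * g * d⁻¹) * v * (d * g * d⁻¹)⁻¹ = v ↔ v ∈ U := by
  intro v hv
  have hv' : d⁻¹ * v * d ∈ V := by
    have := H.el.conj d⁻¹ hv
    simpa using this
  have h1 : (d * g * d⁻¹) * v * (d * g * d⁻¹)⁻¹ = d * (g * (d⁻¹ * v * d) * g⁻¹) * d⁻¹ := by group
  have h2 : v = d * (d⁻¹ * v * d) * d⁻¹ := by group
  constructor
  · intro h3
    rw [h1] at h3
    have h4 : g * (d⁻¹ * v * d) * g⁻¹ = d⁻¹ * v * d := by
      have h5 : g * (d⁻¹ * v * d) * g⁻¹ = d⁻¹ * (d * (g * (d⁻¹ * v * d) * g⁻¹) * d⁻¹) * d := by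
        group
      rw [h5, h3]
    rw [h2]
    exact H.dU _ ((hg _ hv').mp h4)
  · intro h3
    have h4 : d⁻¹ * v * d ∈ U := H.dU' _ (by rw [← h2]; exact h3)
    rw [h1, (hg _ hv').mpr h4]
    group

theorem cm_conj (H : NHyp V U a d) {g : X} (hg : ∀ v ∈ V, g * v * g⁻¹ * v⁻¹ ∈ U) :
    ∀ v ∈ V, (d * g * d⁻¹) * v * (d * g * d⁻¹)⁻¹ * v⁻¹ ∈ U := by
  intro v hv
  have hv' : d⁻¹ * v * d ∈ V := by
    have := H.el.conj d⁻¹ hv
    simpa using this
  have h1 : (d * g * d⁻¹) * v * (d * g * d⁻¹)⁻¹ * v⁻¹ =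
      d * (g * (d⁻¹ * v * d) * g⁻¹ * (d⁻¹ * v * d)⁻¹) * d⁻¹ := by group
  rw [h1]
  exact H.dU _ (hg _ hv')

theorem natF [Finite X] (H : NHyp V U a d) : NatF V U a (d * a * d⁻¹) where
  le := H.le
  card := H.card
  fa := H.fa
  fb := H.fix_conj H.fa
  fc := by
    -- `a b` acts as `c⁻¹`
    intro v hv
    have hc := H.fix_conj (H.fix_conj H.fa) v hv
    set b := d * a * d⁻¹ with hb
    set c := d * b * d⁻¹ with hcd
    have h1 : a * b * c ∈ V := H.prod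
    rw [← hc]
    have h2 : a * b * v * (a * b)⁻¹ = c⁻¹ * v * c := by
      have h3 : a * b * v * (a * b)⁻¹ = (a * b * c) * (c⁻¹ * v * c) * (a * b * c)⁻¹ := by group
      have h4 : c⁻¹ * v * c ∈ V := by
        have := H.el.conj c⁻¹ hv
        simpa using this
      rw [h3, H.el.comm h1 h4]; group
    rw [h2]
    constructor
    · intro h5
      have h6 : c * v * c⁻¹ = c * (c⁻¹ * v * c) * c⁻¹ := by rw [h5]
      rw [h6]; group
    · intro h5
      have h6 : c⁻¹ * v * c = c⁻¹ * (c * v * c⁻¹) * c := by rw [h5]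
      rw [h6]; group
  ca := H.ca
  cb := H.cm_conj H.ca

/-- Replacing `a` by `w a`. -/
theorem mul_left [Finite X] (H : NHyp V U a d) {w : X} (hw : w ∈ V) : NHyp V U (w * a) d := by
  have hact : ∀ v ∈ V, (w * a) * v * (w * a)⁻¹ = a * v * a⁻¹ := by
    intro v hv
    have h1 : (w * a) * v * (w * a)⁻¹ = w * (a * v * a⁻¹) * w⁻¹ := by group
    rw [h1, H.el.comm hw (H.el.conj a hv)]; group
  refine ⟨H.el, H.c16, H.le, H.card, H.d3, H.fpf, H.dU, ?_, ?_, ?_, ?_, ?_⟩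
  · have h1 : w * a * (w * a) = w * (a * w * a⁻¹) * (a * a) := by group
    rw [h1]
    exact V.mul_mem (V.mul_mem hw (H.el.conj a hw)) H.aa
  · have h1 : (w * a) * (d * (w * a) * d⁻¹) * (d * (d * (w * a) * d⁻¹) * d⁻¹) =
        w * (a * (d * w * d⁻¹) * a⁻¹) * ((a * (d * a * d⁻¹)) * (d * (d * w * d⁻¹) * d⁻¹) *
          (a * (d * a * d⁻¹))⁻¹) * (a * (d * a * d⁻¹) * (d * (d * a * d⁻¹) * d⁻¹)) := by group
    rw [h1]
    exact V.mul_mem (V.mul_mem (V.mul_mem hw (H.el.conj a (H.el.conj d hw)))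
      (H.el.conj _ (H.el.conj d (H.el.conj d hw)))) H.prod
  · intro v hv
    rw [hact v hv]
    exact H.fa v hv
  · intro v hv
    rw [hact v hv]
    exact H.ca v hv
  · intro u hu
    obtain ⟨v, hv, h1⟩ := H.sur u hu
    exact ⟨v, hv, by rw [hact v hv]; exact h1⟩

theorem exists_inv (H : NHyp V U a d) : ∃ v ∈ V, (v * a) * (v * a) = 1 :=
  exists_invol H.el H.aa fun v hv h1 => H.sur v ((H.fa v hv).mp h1)

theorem exists_notMem (H : NHyp V U a d) : ∃ v ∈ V, v ∉ U := by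
  by_contra hcon
  push Not at hcon
  have h1 : V ≤ U := hcon
  have : Finite U := Nat.finite_of_card_ne_zero (by rw [H.card]; norm_num)
  have h2 := Subgroup.card_le_of_le h1
  rw [H.c16, H.card] at h2
  omega

theorem klein' [Finite X] (H : NHyp V U a d) (haa : a * a = 1) :
    d * (d * a * d⁻¹) * d⁻¹ = a * (d * a * d⁻¹) ∧ a * (d * a * d⁻¹) = (d * a * d⁻¹) * a :=
  klein H.le H.d3' H.fpf H.dU haa H.prod (fun u hu => (H.fa u (H.le hu)).mpr hu) H.ca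

/-- Case (N1). -/
theorem n1 [Finite X] (H : NHyp V U a d) {T : Subgroup X} (hVT : V ≤ T) (haT : a ∈ T)
    (hbT : d * a * d⁻¹ ∈ T)
    (hcov : ∀ g ∈ T, ∃ k ∈ closure ({a, d * a * d⁻¹} : Set X), k⁻¹ * g ∈ V) :
    ∃ (A B C : F4 → X) (h : UT A B C), T = T0 h ∧ (∀ g, g ∈ V ↔ ∃ y z, g = B y * C z) ∧
      (∀ g, g ∈ U ↔ ∃ z, g = C z) ∧
      (∀ x, d * A x = A (F4.w * x) * d) ∧ (∀ x, d * B x = B (F4.w * x) * d) ∧
      (∀ x, d * C x = C (F4.u * x) * d) := by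
  obtain ⟨w, hw, haa⟩ := H.exists_inv
  have H' := H.mul_left hw
  have haT' : w * a ∈ T := T.mul_mem (hVT hw) haT
  have hbT' : d * (w * a) * d⁻¹ ∈ T := by
    have h1 : d * (w * a) * d⁻¹ = (d * w * d⁻¹) * (d * a * d⁻¹) := by group
    rw [h1]
    exact T.mul_mem (hVT (H.el.conj d hw)) hbT
  have e1 : a = w⁻¹ * (w * a) := by group
  have e2 : d * a * d⁻¹ = (d * w⁻¹ * d⁻¹) * (d * (w * a) * d⁻¹) := by group
  generalize w * a = a' at haa H' haT' hbT' e1 e2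
  obtain ⟨hk, hab⟩ := H'.klein' haa
  obtain ⟨v, hv, hvU⟩ := H.exists_notMem
  obtain ⟨hUT, r1, r2, r3, hmV, hmU⟩ := exists_UT H.el H'.natF haa hab hk H.d3' H.fpf H.dU hv hvU
  refine ⟨_, _, _, hUT, ?_, hmV, hmU, r1, r2, r3⟩
  · have hVT0 : V ≤ T0 hUT := by
      intro g hg
      obtain ⟨y, z, rfl⟩ := (hmV g).mp hg
      exact mul_mem (B_mem hUT y) (C_mem hUT z)
    have ha' : a' ∈ T0 hUT := A_mem hUT F4.e
    have hb' : d * a' * d⁻¹ ∈ T0 hUT := A_mem hUT F4.w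
    apply le_antisymm
    · intro g hg
      obtain ⟨k, hk, h1⟩ := hcov g hg
      have h2 : closure ({a, d * a * d⁻¹} : Set X) ≤ T0 hUT := by
        rw [closure_le]
        rintro y (rfl | rfl)
        · rw [e1]; exact mul_mem (hVT0 (V.inv_mem hw)) ha'
        · rw [e2]; exact mul_mem (hVT0 (H.el.conj d (V.inv_mem hw))) hb'
      have h3 := mul_mem (h2 hk) (hVT0 h1)
      rwa [mul_inv_cancel_left] at h3
    · have hAT : ∀ x, orb d a' x ∈ T := by
        intro x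
        cases x
        · exact T.one_mem
        · exact haT'
        · exact hbT'
        · change d * (d * a' * d⁻¹) * d⁻¹ ∈ T
          rw [hk]; exact T.mul_mem haT' hbT'
      rintro _ ⟨x, b, c, rfl⟩
      have hB : orb d v b ∈ V := (hmV _).mpr ⟨b, 0, by rw [A0 hUT.ZZ, mul_one]⟩
      have hC : orb (d * d) (a' * v * a'⁻¹ * v⁻¹) c ∈ V :=
        (hmV _).mpr ⟨0, c, by rw [A0 hUT.YY, one_mul]⟩
      exact T.mul_mem (T.mul_mem (hVT hB) (hAT x)) (hVT hC)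

/-- Case (N2). -/
theorem n2 [Finite X] (H : NHyp V U a d) {t : X} (htt : t * t ∈ V) (htd : t * d * t⁻¹ * d ∈ V)
    (hta : t * a * t⁻¹ * a⁻¹ ∈ V) (ht : ∃ u ∈ U, t * u * t⁻¹ ≠ u) (htU : ∀ u ∈ U, t * u * t⁻¹ ∈ U)
    {T : Subgroup X} (hVT : V ≤ T) (htT : t ∈ T) (haT : a ∈ T) (hbT : d * a * d⁻¹ ∈ T)
    (hcov : ∀ g ∈ T, ∃ k ∈ closure ({t, a, d * a * d⁻¹} : Set X), k⁻¹ * g ∈ V) :
    ∃ (A B C : F4 → X) (s : X) (h : UT A B C) (k : SR A B C s d), T = TS h k ∧ s * t⁻¹ ∈ V ∧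
      (∀ g, g ∈ V ↔ ∃ y z, g = B y * C z) ∧ (∀ g, g ∈ U ↔ ∃ z, g = C z) := by
  -- the lift of `t`
  obtain ⟨s, hst, hss, hsd⟩ := exists_lift H.el (d := d) (d' := d⁻¹) (t₀ := t) H.fpf (by
    intro v hv h1
    apply H.fpf v hv
    have h2 : d * v * d⁻¹ = d * (d⁻¹ * v * d⁻¹⁻¹) * d⁻¹ := by rw [h1]
    rw [h2]; group) (by rw [inv_inv]; exact htd) htt (by
    intro x hx
    have h1 : (x * x) * d * (x * x)⁻¹ = x * (x * d * x⁻¹) * x⁻¹ := by group
    have h2 : x * d⁻¹ * x⁻¹ = (x * d * x⁻¹)⁻¹ := by group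
    rw [h1, hx, h2, hx, inv_inv])
  have hact : ∀ v ∈ V, s * v * s⁻¹ = t * v * t⁻¹ := by
    intro v hv
    have h1 : s * v * s⁻¹ = (s * t⁻¹) * (t * v * t⁻¹) * (s * t⁻¹)⁻¹ := by group
    rw [h1, H.el.comm hst (H.el.conj t hv)]; group
  have hsU : ∀ u ∈ U, s * u * s⁻¹ ∈ U := fun u hu => by
    rw [hact u (H.le hu)]; exact htU u hu
  have hsne : ∃ u ∈ U, s * u * s⁻¹ ≠ u := by
    obtain ⟨u, hu, h1⟩ := ht
    exact ⟨u, hu, by rw [hact u (H.le hu)]; exact h1⟩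
  have hsa : s * a * s⁻¹ * a⁻¹ ∈ V := by
    have h1 : s * a * s⁻¹ * a⁻¹ = (s * t⁻¹) * (t * a * t⁻¹ * a⁻¹) * (a * (s * t⁻¹)⁻¹ * a⁻¹) := by
      group
    rw [h1]
    exact V.mul_mem (V.mul_mem hst hta) (H.el.conj a (V.inv_mem hst))
  have hsT : s ∈ T := by
    have := T.mul_mem (hVT hst) htT
    rwa [inv_mul_cancel_right] at this
  obtain ⟨z, hz, e, he, hz1, hsz, hse, hzc⟩ := exists_fix H.el H.le H.card hss hsU hsne
  -- the involution over `f_a`
  obtain ⟨w, hw, haa⟩ := H.exists_inv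
  have H' := H.mul_left hw
  obtain ⟨u, hu, haa', hsa'⟩ := exists_invol_fix H.el H.le hss he hse hzc haa H'.fa (by
    have h1 : s * (w * a) * s⁻¹ * (w * a)⁻¹ = (s * w * s⁻¹) * (s * a * s⁻¹ * a⁻¹) * w⁻¹ := by group
    rw [h1]
    exact V.mul_mem (V.mul_mem (H.el.conj s hw) hsa) (V.inv_mem hw))
  have H'' := H'.mul_left (H.le hu)
  have hxV : u * w ∈ V := V.mul_mem (H.le hu) hw
  have e1 : a = (u * w)⁻¹ * (u * (w * a)) := by group
  have e2 : d * a * d⁻¹ = (d * (u * w)⁻¹ * d⁻¹) * (d * (u * (w * a)) * d⁻¹) := by group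
  have haT' : u * (w * a) ∈ T := T.mul_mem (hVT (H.le hu)) (T.mul_mem (hVT hw) haT)
  have hbT' : d * (u * (w * a)) * d⁻¹ ∈ T := by
    have h1 : d * (u * (w * a)) * d⁻¹ = (d * (u * w) * d⁻¹) * (d * a * d⁻¹) := by group
    rw [h1]
    exact T.mul_mem (hVT (H.el.conj d hxV)) hbT
  generalize u * (w * a) = a' at haa' hsa' H'' e1 e2 haT' hbT'
  obtain ⟨hk, hab⟩ := H''.klein' haa'
  -- the `s`-fixed element of `V - U`
  have hsa'' : ∀ v : X, a' * (s * v * s⁻¹) * a'⁻¹ * (s * v * s⁻¹)⁻¹ =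
      s * (a' * v * a'⁻¹ * v⁻¹) * s⁻¹ := by
    intro v
    have h1 : a' * (s * v * s⁻¹) * a'⁻¹ * (s * v * s⁻¹)⁻¹ =
        (a' * s) * v * (a' * s)⁻¹ * s * v⁻¹ * s⁻¹ := by group
    rw [h1, ← hsa']; group
  obtain ⟨w₁, hw₁, hw₁z⟩ := H''.sur z hz
  obtain ⟨x₁, hx₁, hx₁t⟩ := adjust H.el H.le hss he hse hzc hw₁ V.one_mem (by group) (by
    rw [mul_one]
    apply (H''.fa _ (V.mul_mem (V.inv_mem hw₁) (H.el.conj s hw₁))).mp
    apply fix_of_cm_eq
    rw [hsa'', hw₁z, hsz])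
  rw [mul_one] at hx₁t
  have hv : w₁ * x₁ ∈ V := V.mul_mem hw₁ (H.le hx₁)
  have hav : a' * (w₁ * x₁) * a'⁻¹ * (w₁ * x₁)⁻¹ = z := by
    rw [cm_mul H.el hw₁ (H.le hx₁), hw₁z,
      mul_inv_eq_one.mpr ((H''.fa _ (H.le hx₁)).mpr hx₁), mul_one]
  generalize w₁ * x₁ = v at hx₁t hv hav
  have hvU : v ∉ U := fun h1 => hz1 (by
    rw [← hav, mul_inv_eq_one]; exact (H''.fa _ hv).mpr h1)
  obtain ⟨hUT, r1, r2, r3, hmV, hmU⟩ := exists_UT H.el H''.natF haa' hab hk H.d3' H.fpf H.dU hv hvU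
  rw [hav] at hUT r3 hmV hmU
  have hsv : s * v = v * s := by rwa [mul_inv_eq_iff_eq_mul] at hx₁t
  have hszz : s * z = z * s := by rwa [mul_inv_eq_iff_eq_mul] at hsz
  have hd3' : (d * d) * (d * d) * (d * d) = 1 := by
    have h1 : (d * d) * (d * d) * (d * d) = (d * d * d) * (d * d * d) := by group
    rw [h1, H.d3', one_mul]
  have hSR : SR (orb d a') (orb d v) (orb (d * d) z) s d :=
    { ss := hss
      sX := orb_s H.d3' hss hsd hsa'
      sY := orb_s H.d3' hss hsd hsv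
      sZ := orb_s hd3' hss (by
        have h1 : s * (d * d) * s⁻¹ = (s * d * s⁻¹) * (s * d * s⁻¹) := by group
        rw [h1, hsd]; group) hszz
      rrr := H.d3'
      rX := r1
      rY := r2
      rZ := r3
      sr := by
        have h1 : s⁻¹ = s := inv_eq_of_mul_eq_one_left hss
        have h2 : d⁻¹ = d * d := (eq_inv_of_mul_eq_one_left H.d3').symm
        rw [← h2, ← hsd, h1] }
  refine ⟨_, _, _, s, hUT, hSR, ?_, hst, hmV, hmU⟩
  have hVT0 : V ≤ T0 hUT := by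
    intro g hg
    obtain ⟨y, z, rfl⟩ := (hmV g).mp hg
    exact mul_mem (B_mem hUT y) (C_mem hUT z)
  have hT0 : T0 hUT ≤ TS hUT hSR := fun g hg => Or.inl hg
  have hVTS : V ≤ TS hUT hSR := hVT0.trans hT0
  have ha' : a' ∈ TS hUT hSR := hT0 (A_mem hUT F4.e)
  have hb' : d * a' * d⁻¹ ∈ TS hUT hSR := hT0 (A_mem hUT F4.w)
  apply le_antisymm
  · intro g hg
    obtain ⟨k, hk, h1⟩ := hcov g hg
    have h2 : closure ({t, a, d * a * d⁻¹} : Set X) ≤ TS hUT hSR := by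
      rw [closure_le]
      rintro y (rfl | rfl | rfl)
      · have h3 := mul_mem (hVTS (V.inv_mem hst)) (s_mem_TS hUT hSR)
        have h4 : (s * y⁻¹)⁻¹ * s = y := by group
        rwa [h4] at h3
      · rw [e1]; exact mul_mem (hVTS (V.inv_mem hxV)) ha'
      · rw [e2]; exact mul_mem (hVTS (H.el.conj d (V.inv_mem hxV))) hb'
    have h3 := mul_mem (h2 hk) (hVTS h1)
    rwa [mul_inv_cancel_left] at h3
  · have hAT : ∀ x, orb d a' x ∈ T := by
      intro x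
      cases x
      · exact T.one_mem
      · exact haT'
      · exact hbT'
      · change d * (d * a' * d⁻¹) * d⁻¹ ∈ T
        rw [hk]; exact T.mul_mem haT' hbT'
    have hT0T : T0 hUT ≤ T := by
      rintro _ ⟨x, b, c, rfl⟩
      have hB : orb d v b ∈ V := (hmV _).mpr ⟨b, 0, by rw [A0 hUT.ZZ, mul_one]⟩
      have hC : orb (d * d) z c ∈ V := (hmV _).mpr ⟨0, c, by rw [A0 hUT.YY, one_mul]⟩
      exact T.mul_mem (T.mul_mem (hVT hB) (hAT x)) (hVT hC)
    rintro g (hg | hg)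
    · exact hT0T hg
    · have h1 := T.mul_mem (hT0T hg) hsT
      rwa [mul_assoc, hss, mul_one] at h1

/-- Case (N3): impossible if the sectional 2-rank is at most 4. -/
theorem n3 [Finite X] (H : NHyp V U a d) {t : X} (htt : t * t ∈ V) (htd : t * d * t⁻¹ * d⁻¹ ∈ V)
    (hta : t * a * t⁻¹ * a⁻¹ ∈ V) (htU : ∀ u ∈ U, t * u * t⁻¹ = u)
    (htF : ∀ k ∈ closure ({a, d * a * d⁻¹} : Set X), k⁻¹ * t ∉ V)
    (hr : ∀ Y N : Subgroup X, ElemSection 2 Y N → Nat.card Y ≤ 16 * Nat.card N) : False := by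
  obtain ⟨s, hst, hss, hsd⟩ := exists_lift H.el (d := d) (d' := d) (t₀ := t) H.fpf H.fpf htd htt (by
    intro x hx
    have h1 : (x * x) * d * (x * x)⁻¹ = x * (x * d * x⁻¹) * x⁻¹ := by group
    rw [h1, hx, hx])
  have hact : ∀ v ∈ V, s * v * s⁻¹ = t * v * t⁻¹ := by
    intro v hv
    have h1 : s * v * s⁻¹ = (s * t⁻¹) * (t * v * t⁻¹) * (s * t⁻¹)⁻¹ := by group
    rw [h1, H.el.comm hst (H.el.conj t hv)]; group
  obtain ⟨w, hw, haa⟩ := H.exists_inv
  have H' := H.mul_left hw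
  have hsa : s * (w * a) * s⁻¹ * (w * a)⁻¹ ∈ V := by
    have h1 : s * (w * a) * s⁻¹ * (w * a)⁻¹ =
        (s * t⁻¹) * (t * w * t⁻¹) * (t * a * t⁻¹ * a⁻¹) * (a * (s * t⁻¹)⁻¹ * a⁻¹) * w⁻¹ := by
      group
    rw [h1]
    exact V.mul_mem (V.mul_mem (V.mul_mem (V.mul_mem hst (H.el.conj t hw)) hta)
      (H.el.conj a (V.inv_mem hst))) (V.inv_mem hw)
  have e1 : w * a ∈ closure ({a, d * a * d⁻¹} : Set X) ⊔ V :=
    mul_mem (mem_sup_right hw) (mem_sup_left (subset_closure (by simp)))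
  have e2 : d * (w * a) * d⁻¹ ∈ closure ({a, d * a * d⁻¹} : Set X) ⊔ V := by
    have h1 : d * (w * a) * d⁻¹ = (d * w * d⁻¹) * (d * a * d⁻¹) := by group
    rw [h1]
    exact mul_mem (mem_sup_right (H.el.conj d hw)) (mem_sup_left (subset_closure (by simp)))
  have hVn := H.el.normal
  have hF : ∀ k ∈ closure ({w * a, d * (w * a) * d⁻¹} : Set X), k⁻¹ * s ∉ V := by
    intro k hk hks
    have h1 : closure ({w * a, d * (w * a) * d⁻¹} : Set X) ≤
        closure ({a, d * a * d⁻¹} : Set X) ⊔ V := by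
      rw [closure_le]
      rintro y (rfl | rfl)
      · exact e1
      · exact e2
    obtain ⟨y, hy, v, hv, h2⟩ := mem_sup_of_normal_right.mp (h1 hk)
    apply htF y hy
    -- `t = (s t⁻¹)⁻¹ s`
    have h3 : y⁻¹ * t = (y⁻¹ * (s * t⁻¹)⁻¹ * y) * (v * (k⁻¹ * s)) := by
      rw [← h2]; group
    rw [h3]
    refine V.mul_mem ?_ (V.mul_mem hv hks)
    have := H.el.conj y⁻¹ (V.inv_mem hst)
    simpa using this
  obtain ⟨hk, hab⟩ := H'.klein' haa
  exact H'.natF.false_of_extra H.el H.c16 H.dU haa hab hss (by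
    rw [mul_inv_eq_iff_eq_mul] at hsd; exact hsd) hsa (fun u hu => by
      rw [hact u (H.le hu)]; exact htU u hu) hF hr

end NHyp

end Cfsg.Agent.GH.C2Syl
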