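import Cfsg.Agent.GH.C2GrowJ2
import Cfsg.Agent.GH.C2SylNat

/-!
# GH-C2, growth of `T` of order 64: the form for coordinates (case (N1))
-/

set_option autoImplicit false

namespace Cfsg.Agent.GH.C2GrowJ2

open Subgroup
open Cfsg.Agent.J2Sylow.Model (F4)

variable {G : Type*} [Group G]

section rel

variable {A B C : F4 → G} (h : C2Rel.UT A B C)

include h

theorem rel_nf {a b c : F4} (e : B b * A a * C c = 1) : a = 0 ∧ b = 0 ∧ c = 0 := by
  have hA0 : A 0 = 1 := C2Syl.A0 h.XX
  have hB0 : B 0 = 1 := C2Syl.A0 h.YY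
  have hsqB := C2Syl.sq1 h.YY
  have hsqA := C2Syl.sq1 h.XX
  -- commute with `B 1`
  have ha : a = 0 := by
    by_contra ha
    apply h.Z1 a ha
    have h1 : A a = B b * C c := by
      have h2 : A a = (B b)⁻¹ * (C c)⁻¹ := by
        calc A a = (B b)⁻¹ * (B b * A a * C c) * (C c)⁻¹ := by group
          _ = (B b)⁻¹ * (C c)⁻¹ := by rw [e]; group
      rw [h2, inv_eq_of_mul_eq_one_left (hsqB b), inv_eq_of_mul_eq_one_left (C2Syl.sq1 h.ZZ c)]
    have h2 : A a * B 1 = B 1 * A a := by
      rw [h1, mul_assoc, h.ZY, ← mul_assoc, h.YY, ← mul_assoc, h.YY, add_comm]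
    have h3 := h.XY a 1
    rw [h2, mul_one a] at h3
    have h4 := mul_left_cancel h3
    exact (mul_eq_left.mp h4.symm)
  subst ha
  rw [hA0, mul_one] at e
  have hb : b = 0 := by
    by_contra hb
    apply h.Z1 b hb
    have h1 : B b = C c := by
      have h2 := eq_inv_of_mul_eq_one_left e
      rwa [inv_eq_of_mul_eq_one_left (C2Syl.sq1 h.ZZ c)] at h2
    have h2 : A 1 * B b = B b * A 1 := by rw [h1, h.ZX]
    have h3 := h.XY 1 b
    rw [h2, one_mul b] at h3
    have h4 := mul_left_cancel h3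
    exact (mul_eq_left.mp h4.symm)
  subst hb
  rw [hB0, one_mul] at e
  refine ⟨rfl, rfl, ?_⟩
  by_contra hc
  exact h.Z1 c hc e

/-- `{A x C z}` -/
def relW : Subgroup G where
  carrier := {g | ∃ x z, g = A x * C z}
  one_mem' := ⟨0, 0, by rw [C2Syl.A0 h.XX, C2Syl.A0 h.ZZ, one_mul]⟩
  mul_mem' := by
    rintro _ _ ⟨x, z, rfl⟩ ⟨x', z', rfl⟩
    refine ⟨x + x', z + z', ?_⟩
    rw [← h.XX, ← h.ZZ]
    calc A x * C z * (A x' * C z') = A x * (C z * A x') * C z' := by group
      _ = A x * A x' * (C z * C z') := by rw [h.ZX]; group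
  inv_mem' := by
    rintro _ ⟨x, z, rfl⟩
    refine ⟨x, z, ?_⟩
    rw [mul_inv_rev, inv_eq_of_mul_eq_one_left (C2Syl.sq1 h.XX x),
      inv_eq_of_mul_eq_one_left (C2Syl.sq1 h.ZZ z), h.ZX]

theorem mem_relW {g : G} : g ∈ relW h ↔ ∃ x z, g = A x * C z := Iff.rfl

theorem ut_of_rel {V T : Subgroup G} (hT : T = C2Syl.T0 h) (hV : ∀ g, g ∈ V ↔ ∃ y z, g = B y * C z) :
    UT V (relW h) T := by
  have sqA := C2Syl.sq1 h.XX
  have sqB := C2Syl.sq1 h.YY
  have sqC := C2Syl.sq1 h.ZZ
  have hA0 : A 0 = 1 := C2Syl.A0 h.XX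
  have hB0 : B 0 = 1 := C2Syl.A0 h.YY
  have hC0 : C 0 = 1 := C2Syl.A0 h.ZZ
  have add0 : ∀ {a b : F4}, a + b = 0 → a = b := by decide
  -- `V ∩ W = {C z}`
  have hVW : ∀ g, g ∈ V ⊓ relW h ↔ ∃ z, g = C z := by
    intro g
    constructor
    · rintro ⟨h1, x, z, h2⟩
      obtain ⟨y, z', rfl⟩ := (hV _).mp h1
      have h3 : B y * A x * C (z' + z) = 1 := by
        have h4 : B y * C z' * (A x * C z)⁻¹ = 1 := by rw [h2, mul_inv_cancel]
        rw [mul_inv_rev, inv_eq_of_mul_eq_one_left (sqA x), inv_eq_of_mul_eq_one_left (sqC z)] at h4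
        rw [← h4, ← h.ZZ]
        calc B y * A x * (C z' * C z) = B y * (A x * (C z' * C z)) := by group
          _ = B y * (C z' * C z * A x) := by rw [h.ZZ, h.ZX]
          _ = B y * C z' * (C z * A x) := by group
      obtain ⟨-, h5, -⟩ := rel_nf h h3
      exact ⟨z', by rw [h5, hB0, one_mul]⟩
    · rintro ⟨z, rfl⟩
      exact ⟨(hV _).mpr ⟨0, z, by rw [hB0, one_mul]⟩, 0, z, by rw [hA0, one_mul]⟩
  have cm : ∀ y z x z', (B y * C z) * (A x * C z') * (B y * C z) * (A x * C z') = C (x * y) := by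
    intro y z x z'
    have e1 : (B y * C z) * (A x * C z') = B y * A x * C (z + z') := by
      rw [← h.ZZ]
      calc (B y * C z) * (A x * C z') = B y * (C z * A x) * C z' := by group
        _ = B y * A x * (C z * C z') := by rw [h.ZX]; group
    have e2 : ∀ c, C c * (B y * A x) = B y * A x * C c := by
      intro c
      calc C c * (B y * A x) = (C c * B y) * A x := by group
        _ = B y * (C c * A x) := by rw [h.ZY]; group
        _ = B y * A x * C c := by rw [h.ZX]; group
    calc (B y * C z) * (A x * C z') * (B y * C z) * (A x * C z')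
        = ((B y * C z) * (A x * C z')) * ((B y * C z) * (A x * C z')) := by group
      _ = B y * A x * (C (z + z') * (B y * A x)) * C (z + z') := by rw [e1]; group
      _ = (B y * A x) * (B y * A x) * (C (z + z') * C (z + z')) := by rw [e2]; group
      _ = B y * (A x * B y) * A x := by rw [sqC, mul_one]; group
      _ = B y * (B y * (A x * C (x * y))) * A x := by rw [h.XY]
      _ = (B y * B y) * A x * (C (x * y) * A x) := by group
      _ = (B y * B y) * (A x * A x) * C (x * y) := by rw [h.ZX]; group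
      _ = C (x * y) := by rw [sqA, sqB, one_mul, one_mul]
  have zz : ∀ {x y : F4}, x * y = 0 → x = 0 ∨ y = 0 := by decide
  refine ⟨fun v hv => ?_, fun w hw => ?_, fun v hv => ?_, fun w hw => ?_, fun x hx => ?_,
    fun v hv w hw => ?_, fun v hv w hw hc => ?_, ?_, ?_, ?_, ?_⟩
  · obtain ⟨y, z, rfl⟩ := (hV _).mp hv
    calc B y * C z * (B y * C z) = B y * (C z * B y) * C z := by group
      _ = (B y * B y) * (C z * C z) := by rw [h.ZY]; group
      _ = 1 := by rw [sqB, sqC, one_mul]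
  · obtain ⟨y, z, rfl⟩ := hw
    calc A y * C z * (A y * C z) = A y * (C z * A y) * C z := by group
      _ = (A y * A y) * (C z * C z) := by rw [h.ZX]; group
      _ = 1 := by rw [sqA, sqC, one_mul]
  · rw [hT]
    obtain ⟨y, z, rfl⟩ := (hV _).mp hv
    exact ⟨0, y, z, by rw [hA0, mul_one]⟩
  · rw [hT]
    obtain ⟨y, z, rfl⟩ := hw
    exact ⟨y, 0, z, by rw [hB0, one_mul]⟩
  · rw [hT] at hx
    obtain ⟨a, b, c, rfl⟩ := hx
    refine ⟨B b, (hV _).mpr ⟨b, 0, by rw [hC0, mul_one]⟩, A a * C c, ⟨a, c, rfl⟩, by group⟩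
  · obtain ⟨y, z, rfl⟩ := (hV _).mp hv
    obtain ⟨x, z', rfl⟩ := hw
    rw [cm]
    exact (hVW _).mpr ⟨_, rfl⟩
  · obtain ⟨y, z, rfl⟩ := (hV _).mp hv
    obtain ⟨x, z', rfl⟩ := hw
    have h1 := cm y z x z'
    have h2 : (B y * C z) * (A x * C z') * (B y * C z) * (A x * C z') = 1 := by
      have sq1 : B y * C z * (B y * C z) = 1 := by
        calc B y * C z * (B y * C z) = B y * (C z * B y) * C z := by group
          _ = (B y * B y) * (C z * C z) := by rw [h.ZY]; group
          _ = 1 := by rw [sqB, sqC, one_mul]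
      have sq2 : A x * C z' * (A x * C z') = 1 := by
        calc A x * C z' * (A x * C z') = A x * (C z' * A x) * C z' := by group
          _ = (A x * A x) * (C z' * C z') := by rw [h.ZX]; group
          _ = 1 := by rw [sqA, sqC, one_mul]
      calc (B y * C z) * (A x * C z') * (B y * C z) * (A x * C z')
          = (B y * C z) * (A x * C z') * ((B y * C z) * (A x * C z')) := by group
        _ = (A x * C z') * (B y * C z) * ((B y * C z) * (A x * C z')) := by rw [hc]
        _ = (A x * C z') * ((B y * C z) * (B y * C z)) * (A x * C z') := by group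
        _ = 1 := by rw [sq1, mul_one, sq2]
    rw [h1] at h2
    have h3 : x * y = 0 := by
      by_contra h3
      exact h.Z1 _ h3 h2
    rcases zz h3 with h4 | h4
    · right
      subst h4
      rw [hA0, one_mul]
      exact ((hVW _).mpr ⟨z', rfl⟩).1
    · left
      subst h4
      rw [hB0, one_mul]
      exact ((hVW _).mpr ⟨z, rfl⟩).2
  · let f : F4 × F4 → V := fun p => ⟨B p.1 * C p.2, (hV _).mpr ⟨p.1, p.2, rfl⟩⟩
    have hf : Function.Bijective f := by
      constructor
      · rintro ⟨y, z⟩ ⟨y', z'⟩ hyz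
        have h1 : B y * C z = B y' * C z' := congrArg Subtype.val hyz
        have h2 : B (y' + y) * A 0 * C (z + z') = 1 := by
          rw [hA0, mul_one, ← h.YY, ← h.ZZ]
          calc B y' * B y * (C z * C z') = B y' * (B y * C z) * C z' := by group
            _ = (B y' * B y') * (C z' * C z') := by rw [h1]; group
            _ = 1 := by rw [sqB, sqC, one_mul]
        obtain ⟨-, h3, h4⟩ := rel_nf h h2
        exact Prod.ext (add0 h3).symm (add0 h4)
      · rintro ⟨g, hg⟩
        obtain ⟨y, z, rfl⟩ := (hV _).mp hg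
        exact ⟨⟨y, z⟩, rfl⟩
    rw [← Nat.card_congr (Equiv.ofBijective f hf), Nat.card_prod, Nat.card_eq_fintype_card]
    decide
  · let f : F4 × F4 → relW h := fun p => ⟨A p.1 * C p.2, ⟨p.1, p.2, rfl⟩⟩
    have hf : Function.Bijective f := by
      constructor
      · rintro ⟨y, z⟩ ⟨y', z'⟩ hyz
        have h1 : A y * C z = A y' * C z' := congrArg Subtype.val hyz
        have h2 : B 0 * A (y' + y) * C (z + z') = 1 := by
          rw [hB0, one_mul, ← h.XX, ← h.ZZ]
          calc A y' * A y * (C z * C z') = A y' * (A y * C z) * C z' := by group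
            _ = (A y' * A y') * (C z' * C z') := by rw [h1]; group
            _ = 1 := by rw [sqA, sqC, one_mul]
        obtain ⟨h3, -, h4⟩ := rel_nf h h2
        exact Prod.ext (add0 h3).symm (add0 h4)
      · rintro ⟨g, y, z, rfl⟩
        exact ⟨⟨y, z⟩, rfl⟩
    rw [← Nat.card_congr (Equiv.ofBijective f hf), Nat.card_prod, Nat.card_eq_fintype_card]
    decide
  · let f : F4 → (V ⊓ relW h : Subgroup G) := fun z => ⟨C z, (hVW _).mpr ⟨z, rfl⟩⟩
    have hf : Function.Bijective f := by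
      constructor
      · intro z z' hzz
        have h1 : C z = C z' := congrArg Subtype.val hzz
        have h2 : B 0 * A 0 * C (z + z') = 1 := by
          rw [hA0, hB0, one_mul, one_mul, ← h.ZZ, h1, sqC]
        exact add0 (rel_nf h h2).2.2
      · rintro ⟨g, hg⟩
        obtain ⟨z, rfl⟩ := (hVW _).mp hg
        exact ⟨z, rfl⟩
    rw [← Nat.card_congr (Equiv.ofBijective f hf), Nat.card_eq_fintype_card]
    decide
  · let f : F4 × F4 × F4 → T := fun p => ⟨B p.1 * A p.2.1 * C p.2.2, by rw [hT]; exact ⟨_, _, _, rfl⟩⟩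
    have hf : Function.Bijective f := by
      constructor
      · rintro ⟨b, a, c⟩ ⟨b', a', c'⟩ e
        have h1 : B b * A a * C c = B b' * A a' * C c' := congrArg Subtype.val e
        have h2 : B (b' + b) * A (a + a') * C (c + c' ) = 1 := by
          rw [← h.YY, ← h.XX, ← h.ZZ]
          calc B b' * B b * (A a * A a') * (C c * C c')
              = B b' * B b * A a * (A a' * (C c * C c')) := by group
            _ = B b' * B b * A a * (C c * C c' * A a') := by rw [h.ZZ, h.ZX]
            _ = B b' * (B b * A a * C c) * C c' * A a' := by group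
            _ = B b' * (B b' * A a' * C c') * C c' * A a' := by rw [h1]
            _ = (B b' * B b') * A a' * (C c' * C c') * A a' := by group
            _ = 1 := by rw [sqB, sqC, mul_one, one_mul, sqA]
        obtain ⟨h3, h4, h5⟩ := rel_nf h h2
        rw [add0 h3, add0 h5, add0 h4]
      · rintro ⟨g, hg⟩
        rw [hT] at hg
        obtain ⟨a, b, c, rfl⟩ := hg
        exact ⟨⟨b, a, c⟩, rfl⟩
    rw [← Nat.card_congr (Equiv.ofBijective f hf), Nat.card_prod, Nat.card_prod,
      Nat.card_eq_fintype_card]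
    decide

theorem rho_of_rel {V T : Subgroup G} (hT : T = C2Syl.T0 h) (hV : ∀ g, g ∈ V ↔ ∃ y z, g = B y * C z)
    {d : G} (d3 : d * d * d = 1) (dA : ∀ x, d * A x = A (F4.w * x) * d)
    (dB : ∀ x, d * B x = B (F4.w * x) * d) (dC : ∀ x, d * C x = C (F4.u * x) * d) :
    Rho V (relW h) T d := by
  have eA : ∀ x, d * A x * d⁻¹ = A (F4.w * x) := fun x => by rw [dA, mul_inv_cancel_right]
  have eB : ∀ x, d * B x * d⁻¹ = B (F4.w * x) := fun x => by rw [dB, mul_inv_cancel_right]
  have eC : ∀ x, d * C x * d⁻¹ = C (F4.u * x) := fun x => by rw [dC, mul_inv_cancel_right]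
  refine ⟨d3, fun v hv => ?_, fun w hw => ?_, fun x hx hc => ?_⟩
  · obtain ⟨y, z, rfl⟩ := (hV _).mp hv
    refine (hV _).mpr ⟨F4.w * y, F4.u * z, ?_⟩
    rw [← eB, ← eC]; group
  · obtain ⟨y, z, rfl⟩ := hw
    refine ⟨F4.w * y, F4.u * z, ?_⟩
    rw [← eA, ← eC]; group
  · rw [hT] at hx
    obtain ⟨a, b, c, rfl⟩ := hx
    have h1 : B (F4.w * b) * A (F4.w * a) * C (F4.u * c) = B b * A a * C c := by
      rw [← eA, ← eB, ← eC]
      calc (d * B b * d⁻¹) * (d * A a * d⁻¹) * (d * C c * d⁻¹) = d * (B b * A a * C c) * d⁻¹ := by group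
        _ = B b * A a * C c := by rw [hc, mul_inv_cancel_right]
    have h2 : B (b + F4.w * b) * A (F4.w * a + a) * C (F4.u * c + c) = 1 := by
      rw [← h.YY, ← h.XX, ← h.ZZ]
      have sqA := C2Syl.sq1 h.XX
      have sqB := C2Syl.sq1 h.YY
      have sqC := C2Syl.sq1 h.ZZ
      calc B b * B (F4.w * b) * (A (F4.w * a) * A a) * (C (F4.u * c) * C c)
          = B b * B (F4.w * b) * A (F4.w * a) * (A a * (C (F4.u * c) * C c)) := by group
        _ = B b * B (F4.w * b) * A (F4.w * a) * (C (F4.u * c) * C c * A a) := by rw [h.ZZ, h.ZX]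
        _ = B b * (B (F4.w * b) * A (F4.w * a) * C (F4.u * c)) * C c * A a := by group
        _ = B b * (B b * A a * C c) * C c * A a := by rw [h1]
        _ = (B b * B b) * A a * (C c * C c) * A a := by group
        _ = 1 := by rw [sqB, sqC, mul_one, one_mul, sqA]
    obtain ⟨h3, h4, h5⟩ := rel_nf h h2
    have k1 : ∀ {x : F4}, F4.w * x + x = 0 → x = 0 := by decide
    have k2 : ∀ {x : F4}, x + F4.w * x = 0 → x = 0 := by decide
    have k3 : ∀ {x : F4}, F4.u * x + x = 0 → x = 0 := by decide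
    rw [k1 h3, k2 h4, k3 h5, C2Syl.A0 h.XX, C2Syl.A0 h.YY, C2Syl.A0 h.ZZ, one_mul, one_mul]

/-- **Growth in case (N1)**, in the coordinates of `C2Syl.NHyp.n1`. -/
theorem sType_n1 [Finite G] [IsSimpleGroup G] (hnc : ¬ IsMulCommutative G) (S : Sylow 2 G)
    {V T : Subgroup G} (hT : T = C2Syl.T0 h) (hV : ∀ g, g ∈ V ↔ ∃ y z, g = B y * C z)
    {d : G} (d3 : d * d * d = 1) (dA : ∀ x, d * A x = A (F4.w * x) * d)
    (dB : ∀ x, d * B x = B (F4.w * x) * d) (dC : ∀ x, d * C x = C (F4.u * x) * d)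
    (hself : ∀ g : G, (∀ v ∈ V, g * v = v * g) → g ∈ V)
    (hsyl : ∀ Q : Subgroup G, IsPGroup 2 Q → T ≤ Q → (∀ x ∈ Q, ∀ v ∈ V, x * v * x⁻¹ ∈ V) → Q ≤ T)
    (hTS : T ≤ S) (hne : T ≠ S) : Defs.SType ↥(S : Subgroup G) := by
  have hu := ut_of_rel h hT hV
  have r := rho_of_rel h hT hV d3 dA dB dC
  have hG : ∀ M : Subgroup G, M.Normal → M.index ≠ 2 := no_index_two hnc
  obtain ⟨e⟩ := main_of_ut hG S hu r hself (max_of_syl (S.isPGroup'.to_le hTS)
    (fun x hx v hv => hu.normV hx hv) hsyl) hTS hne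
  exact Or.inr (Or.inr (Or.inl (sylOf_of_model e)))

end rel

end Cfsg.Agent.GH.C2GrowJ2
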