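import Cfsg.Agent.GH.C2GrowIn
import Cfsg.Agent.GH.L2.Tool
import Cfsg.Agent.Transfer.ThompsonTransfer

/-!
# GH-C2, growth: (N2) data and no subgroup of index 2 give the input of lemma (G) (helper445)
-/

set_option autoImplicit false

namespace Cfsg.Agent.GH.C2GrowN2

open Cfsg Subgroup C2GrowG C2GrowFree C2GrowIn

/-- The (N2) data: `F` a four-group with a 3-element `d`, `[W, f] = C_W(f) = U` for `f ∈ F#`, an involution
`t` inverting `d`, not trivial on `U`, `F⟨t⟩` a Sylow 2-subgroup of order 8. -/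
structure NTwo {Y W : Type*} [Group Y] [Group W] (φ : Y →* MulAut W) (F : Subgroup Y) (U : Subgroup W)
    (d t : Y) (P : Subgroup Y) : Prop where
  sqW : ∀ w : W, w * w = 1
  cardU : Nat.card U = 4
  cardF : Nat.card F = 4
  sqF : ∀ f ∈ F, f * f = 1
  dF : ∀ f ∈ F, d * f * d⁻¹ ∈ F
  dtr : ∀ f ∈ F, ∀ g ∈ F, f ≠ 1 → g ≠ 1 → ∃ n : ℕ, d ^ n * f * (d ^ n)⁻¹ = g
  ddd : d * d * d = 1
  fix : ∀ f ∈ F, f ≠ 1 → ∀ w, φ f w = w ↔ w ∈ U
  onto : ∀ f ∈ F, f ≠ 1 → ∀ u ∈ U, ∃ w, w * φ f w = u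
  tt : t * t = 1
  td : t * d * t⁻¹ = d⁻¹
  tF : ∀ f ∈ F, t * f * t⁻¹ ∈ F
  tU : ∃ u ∈ U, φ t u ≠ u
  P_eq : P = F ⊔ zpowers t
  cardP : Nat.card P = 8

variable {Y W : Type*} [Group Y] [Group W] {φ : Y →* MulAut W} {F : Subgroup Y} {U : Subgroup W}
    {d t : Y} {P : Subgroup Y}

namespace NTwo

theorem commF (h : NTwo φ F U d t P) {f g : Y} (hf : f ∈ F) (hg : g ∈ F) : f * g = g * f :=
  comm_of_sq h.sqF hf hg

theorem commW (h : NTwo φ F U d t P) (v w : W) : v * w = w * v :=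
  comm_of_sq (W := ⊤) (fun w _ => h.sqW w) (mem_top v) (mem_top w)

theorem tinv (h : NTwo φ F U d t P) : t⁻¹ = t := inv_eq_of_mul_eq_one_left h.tt

theorem one_lt (h : NTwo φ F U d t P) : ∃ f ∈ F, f ≠ 1 := by
  by_contra hall
  push Not at hall
  have h1 : F = ⊥ := (eq_bot_iff_forall F).2 hall
  have h2 := h.cardF
  rw [h1, card_bot] at h2
  omega

theorem exists_s (h : NTwo φ F U d t P) : ∃ s ∈ F, t * s ≠ s * t := by
  by_contra hall
  push Not at hall
  obtain ⟨f, hf, hf1⟩ := h.one_lt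
  -- `d` centralises `F`
  have hd : ∀ f ∈ F, d * f * d⁻¹ = f := by
    intro f hf
    have h1 := hall _ (h.dF f hf)
    have h2 : t * (d * f * d⁻¹) * t⁻¹ = d⁻¹ * f * d := by
      have h3 : t * (d * f * d⁻¹) * t⁻¹ = (t * d * t⁻¹) * (t * f * t⁻¹) * (t * d * t⁻¹)⁻¹ := by group
      rw [h3, h.td, hall f hf]; group
    have h4 : d * f * d⁻¹ = d⁻¹ * f * d := by
      rw [← h2, h1]; group
    have h5 : d * (d * f * d⁻¹) * d⁻¹ = f := by rw [h4]; group
    have h6 : d * (d * (d * f * d⁻¹) * d⁻¹) * d⁻¹ = (d * d * d) * f * (d * d * d)⁻¹ := by group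
    rw [h5, h.ddd] at h6
    rw [h6]; group
  have hall2 : ∀ g ∈ F, g ≠ 1 → g = f := by
    intro g hg hg1
    obtain ⟨n, hn⟩ := h.dtr f hf g hg hf1 hg1
    rw [← hn]
    have : ∀ n : ℕ, d ^ n * f * (d ^ n)⁻¹ = f := by
      intro n
      induction n with
      | zero => simp
      | succ n ih =>
        have h7 : d ^ (n + 1) * f * (d ^ (n + 1))⁻¹ = d * (d ^ n * f * (d ^ n)⁻¹) * d⁻¹ := by
          rw [pow_succ']; group
        rw [h7, ih, hd f hf]
    exact this n
  have h1 : (F : Set Y) ⊆ {1, f} := by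
    intro g hg
    by_cases hg1 : g = 1
    · left; exact hg1
    · right; exact hall2 g hg hg1
  have h2 : Nat.card F ≤ 2 := by
    have h3 : Nat.card F = (F : Set Y).ncard := rfl
    rw [h3]
    exact (Set.ncard_le_ncard h1 (by simp)).trans (Set.ncard_insert_le _ _ |>.trans (by simp))
  rw [h.cardF] at h2
  omega

/-- The elements of `P`. -/
theorem mem_P (h : NTwo φ F U d t P) {x : Y} (hx : x ∈ P) : x ∈ F ∨ ∃ f ∈ F, x = t * f := by
  rw [h.P_eq] at hx
  have hn : zpowers t ≤ normalizer (F : Set Y) := by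
    rw [zpowers_le]
    have : Finite F := Nat.finite_of_card_ne_zero (by rw [h.cardF]; norm_num)
    exact mem_normalizer_of h.tF
  have hx' : x ∈ ((zpowers t ⊔ F : Subgroup Y) : Set Y) := by rw [sup_comm]; exact hx
  rw [coe_mul_of_left_le_normalizer_right (zpowers t) F hn] at hx'
  obtain ⟨a, ha, f, hf, rfl⟩ := Set.mem_mul.1 hx'
  obtain ⟨n, rfl⟩ := mem_zpowers_iff.1 ha
  have ht2 : t ^ 2 = 1 := by rw [pow_two]; exact h.tt
  rcases Int.even_or_odd n with ⟨m, rfl⟩ | ⟨m, rfl⟩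
  · left
    have : t ^ (m + m) = 1 := by rw [← two_mul, zpow_mul, zpow_ofNat, ht2, one_zpow]
    simp only [this, one_mul]
    exact hf
  · right
    refine ⟨f, hf, ?_⟩
    have : t ^ (2 * m + 1) = t := by rw [zpow_add, zpow_mul, zpow_ofNat, ht2, one_zpow, one_mul, zpow_one]
    simp only [this]

theorem main (h : NTwo φ F U d t P) [Finite Y] [Finite W] (hP : ∀ Q : Subgroup Y, IsPGroup 2 Q → P ≤ Q → Q ≤ P)
    (hY : ∀ M : Subgroup Y, M.index ≠ 2) : ∃ z v a b y, GIn φ P z v a b y := by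
  have : Fact (Nat.Prime 2) := ⟨Nat.prime_two⟩
  have hFP : F ≤ P := by rw [h.P_eq]; exact le_sup_left
  have htP : t ∈ P := by rw [h.P_eq]; exact mem_sup_right (mem_zpowers t)
  have hpP : IsPGroup 2 P := IsPGroup.of_card (n := 3) (by rw [h.cardP]; norm_num)
  obtain ⟨S, hS⟩ := hpP.exists_le_sylow
  have hSP : (S : Subgroup Y) = P := le_antisymm (hP S S.isPGroup' hS) hS
  -- `s`, `f0`
  obtain ⟨s, hs, hts⟩ := h.exists_s
  obtain ⟨f0, hf0⟩ : ∃ f0, f0 = s * (t * s * t⁻¹) := ⟨_, rfl⟩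
  have hf0F : f0 ∈ F := by rw [hf0]; exact F.mul_mem hs (h.tF s hs)
  have hss := h.sqF s hs
  have hsi : s⁻¹ = s := inv_eq_of_mul_eq_one_left hss
  have hf01 : f0 ≠ 1 := by
    intro h1
    apply hts
    rw [hf0] at h1
    have h2 := eq_inv_of_mul_eq_one_right h1
    rw [hsi] at h2
    exact mul_inv_eq_iff_eq_mul.1 h2
  have htst : t * s * t⁻¹ = s * f0 := by rw [hf0, ← mul_assoc, hss, one_mul]
  have hf0f0 := h.sqF f0 hf0F
  have htf0 : t * f0 = f0 * t := by
    have h1 : t * f0 * t⁻¹ = f0 := by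
      rw [hf0]
      have h2 : t * (s * (t * s * t⁻¹)) * t⁻¹ = (t * s * t⁻¹) * ((t * t) * s * (t * t)⁻¹) := by group
      rw [h2, h.tt, one_mul, inv_one, mul_one]
      exact h.commF (h.tF s hs) hs
    exact mul_inv_eq_iff_eq_mul.1 h1
  have hsf0 : s * f0 = f0 * s := h.commF hs hf0F
  have htF : t ∉ F := fun ht => hts (h.commF ht hs)
  -- transfer
  have hrel : F.relIndex (S : Subgroup Y) = 2 := by
    have h1 := card_mul_index (F.subgroupOf P)
    rw [Nat.card_congr (subgroupOfEquivOfLe hFP).toEquiv, h.cardF, h.cardP] at h1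
    rw [hSP]
    show (F.subgroupOf P).index = 2
    omega
  obtain ⟨g, hg⟩ : ∃ g : Y, g * t * g⁻¹ ∈ F := by
    rcases Transfer.ThompsonTransfer.thompson_transfer S F (by rw [hSP]; exact hFP) hrel t
      (by rw [pow_two]; exact h.tt) with ⟨M, -, hM, -⟩ | h1
    · exact absurd hM (hY M)
    · exact h1
  have ht1 : t ≠ 1 := fun h1 => htF (by rw [h1]; exact F.one_mem)
  have hg1 : g * t * g⁻¹ ≠ 1 := by
    intro h1
    apply ht1
    have h2 : t = g⁻¹ * (g * t * g⁻¹) * g := by group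
    rw [h2, h1]; group
  -- `t` is conjugate to `f0`
  obtain ⟨n, hn⟩ := h.dtr _ hg _ hf0F hg1 hf01
  -- `C(f0)` contains `P`
  have hPC : (S : Subgroup Y) ≤ centralizer {f0} := by
    intro x hx
    rw [mem_centralizer_singleton_iff]
    rw [hSP] at hx
    rcases h.mem_P hx with hx | ⟨f, hf, rfl⟩
    · exact h.commF hx hf0F
    · rw [mul_assoc, h.commF hf hf0F, ← mul_assoc, htf0, mul_assoc]
  -- `g' = d ^ n g`: `t ↦ f0`
  set g' := d ^ n * g with hg'
  have hg't : g' * t * g'⁻¹ = f0 := by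
    rw [← hn, hg']; group
  -- the four-group `⟨t, f0⟩`
  have hFour : IsPGroup 2 (four t f0 h.tt hf0f0 htf0) := by
    have hle : four t f0 h.tt hf0f0 htf0 ≤ P := by
      rintro x (rfl | rfl | rfl | rfl)
      · exact P.one_mem
      · exact htP
      · exact hFP hf0F
      · exact P.mul_mem htP (hFP hf0F)
    exact hpP.to_le hle
  have hconj2 : IsPGroup 2 ((four t f0 h.tt hf0f0 htf0).map (MulAut.conj g').toMonoidHom) := hFour.map _
  obtain ⟨c, hc, hcS⟩ := L2.Tool.conj_into S hPC hconj2 (by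
    rintro _ ⟨x, hx, rfl⟩
    rw [mem_centralizer_singleton_iff]
    show g' * x * g'⁻¹ * f0 = f0 * (g' * x * g'⁻¹)
    have h1 : x * t = t * x := by
      rcases mem_four.1 hx with rfl | rfl | rfl | rfl
      · simp
      · rfl
      · exact htf0.symm
      · rw [mul_assoc, ← htf0]
    rw [← hg't]
    have h2 : g' * x * g'⁻¹ * (g' * t * g'⁻¹) = g' * (x * t) * g'⁻¹ := by group
    rw [h2, h1]; group)
  rw [mem_centralizer_singleton_iff] at hc
  set k := c * g' with hk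
  have hkt : k * t * k⁻¹ = f0 := by
    have h1 : k * t * k⁻¹ = c * (g' * t * g'⁻¹) * c⁻¹ := by rw [hk]; group
    rw [h1, hg't, hc]; group
  have hkf : k * f0 * k⁻¹ ∈ P := by
    have h1 := hcS (g' * f0 * g'⁻¹) ⟨f0, mem_four.2 (Or.inr (Or.inr (Or.inl rfl))), rfl⟩
    have h2 : k * f0 * k⁻¹ = c * (g' * f0 * g'⁻¹) * c⁻¹ := by rw [hk]; group
    rw [h2, ← hSP]; exact h1
  have hkf1 : k * f0 * k⁻¹ ≠ 1 := by
    intro h1
    apply hf01
    have h2 : f0 = k⁻¹ * (k * f0 * k⁻¹) * k := by group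
    rw [h2, h1]; group
  have hkf2 : (k * f0 * k⁻¹) * (k * f0 * k⁻¹) = 1 := by
    have h1 : (k * f0 * k⁻¹) * (k * f0 * k⁻¹) = k * (f0 * f0) * k⁻¹ := by group
    rw [h1, hf0f0]; group
  -- it is not in `F`
  obtain ⟨u, hu, htu⟩ := h.tU
  have hφ : ∀ (x y : Y) (w : W), φ (x * y) w = φ x (φ y w) := fun x y w => by
    rw [map_mul, MulAut.mul_apply]
  have hkF : k * f0 * k⁻¹ ∉ F := by
    intro h1
    apply htu
    have h2 : φ f0 u = u := (h.fix f0 hf0F hf01 u).2 hu
    have h3 : φ (k * f0 * k⁻¹) (φ k u) = φ k u := by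
      rw [← hφ, show k * f0 * k⁻¹ * k = k * f0 by group, hφ, h2]
    have h4 : φ k u ∈ U := (h.fix _ h1 hkf1 _).1 h3
    have h5 : φ f0 (φ k u) = φ k u := (h.fix f0 hf0F hf01 _).2 h4
    have h6 : φ k (φ t u) = φ k u := by
      rw [← hφ, show k * t = (k * t * k⁻¹) * k by group, hkt, hφ, h5]
    exact (φ k).injective h6
  -- hence it is `t` or `t f0`
  have hcase : k * f0 * k⁻¹ = t ∨ k * f0 * k⁻¹ = t * f0 := by
    rcases h.mem_P hkf with h1 | ⟨f, hf, h1⟩
    · exact absurd h1 hkF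
    rw [h1] at hkf2 ⊢
    -- `(t f)² = 1`: `t` commutes with `f`
    have h2 : t * f = f * t := by
      have h3 : t * f * t⁻¹ = f⁻¹ := by
        rw [h.tinv]
        exact eq_inv_of_mul_eq_one_left (by rw [← hkf2]; group)
      rw [inv_eq_of_mul_eq_one_left (h.sqF f hf)] at h3
      exact mul_inv_eq_iff_eq_mul.1 h3
    by_cases hf1 : f = 1
    · left; rw [hf1, mul_one]
    right
    -- `f = f0`, since `F = {1, f0, s, s f0}`
    by_contra hne
    have hff0 : f ≠ f0 := fun h3 => hne (by rw [h3])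
    -- `t` commutes with `⟨f, f0⟩ = F`
    have hle : F ≤ centralizer {t} := by
      have h4 : (F ⊓ centralizer {t} : Subgroup Y) = F := by
        refine eq_of_le_of_card_ge inf_le_left ?_
        rw [h.cardF]
        refine four_le (e := f) (f := f0) (mem_inf.2 ⟨hf, ?_⟩) (mem_inf.2 ⟨hf0F, ?_⟩) hf1 hf01 hff0 ?_
        · rw [mem_centralizer_singleton_iff]; exact h2.symm
        · rw [mem_centralizer_singleton_iff]; exact htf0.symm
        · intro h5
          apply hff0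
          have h6 := eq_inv_of_mul_eq_one_left h5
          rw [inv_eq_of_mul_eq_one_left hf0f0] at h6
          exact h6
      exact inf_eq_left.1 h4
    have h5 := mem_centralizer_singleton_iff.1 (hle hs)
    exact hts h5.symm
  -- the element `y`
  obtain ⟨y, hyt, hyf⟩ : ∃ y : Y, y * t * y⁻¹ = f0 ∧ y * f0 * y⁻¹ = t * f0 := by
    rcases hcase with h1 | h1
    · refine ⟨s * k, ?_, ?_⟩
      · have h2 : s * k * t * (s * k)⁻¹ = s * (k * t * k⁻¹) * s⁻¹ := by group
        rw [h2, hkt, hsf0]; group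
      · have h2 : s * k * f0 * (s * k)⁻¹ = s * (k * f0 * k⁻¹) * s⁻¹ := by group
        rw [h2, h1, hsi]
        -- `s t s = t (t s t) s = t s f0 s = t f0`
        have h3 : s * t * s = (t * t) * s * t * s := by rw [h.tt, one_mul]
        have h4 : (t * t) * s * t * s = t * (t * s * t) * s := by group
        have h5 : t * s * t = s * f0 := by rw [← htst, h.tinv]
        rw [h3, h4, h5, mul_assoc, mul_assoc, ← hsf0, ← mul_assoc s, hss, one_mul]
    · exact ⟨k, hkt, h1⟩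
  -- the vectors
  obtain ⟨v, hv⟩ := h.onto f0 hf0F hf01 u hu
  obtain ⟨z, hz⟩ : ∃ z, z = u * φ t u := ⟨_, rfl⟩
  have hUt : ∀ w ∈ U, φ t w ∈ U := by
    intro w hw
    rw [← h.fix f0 hf0F hf01, ← hφ, ← htf0, hφ, (h.fix f0 hf0F hf01 w).2 hw]
  have hzU : z ∈ U := by rw [hz]; exact U.mul_mem hu (hUt u hu)
  have hz1 : z ≠ 1 := by
    intro h1
    apply htu
    rw [hz] at h1
    have h2 := eq_inv_of_mul_eq_one_right h1
    rw [inv_eq_of_mul_eq_one_left (h.sqW u)] at h2
    exact h2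
  have htz : φ t z = z := by
    rw [hz, map_mul, ← hφ, h.tt, map_one, MulAut.one_apply]
    exact h.commW _ _
  have hf0z : φ f0 z = z := (h.fix f0 hf0F hf01 z).2 hzU
  -- uniqueness of `z`
  have huniq : ∀ w : W, φ f0 w = w → φ t w = w → w = 1 ∨ w = z := by
    intro w hw1 hw2
    by_contra hne
    push Not at hne
    have hwU : w ∈ U := (h.fix f0 hf0F hf01 w).1 hw1
    let U' : Subgroup W :=
      { carrier := {x | x ∈ U ∧ φ t x = x}
        one_mem' := ⟨U.one_mem, map_one _⟩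
        mul_mem' := by
          rintro x x' ⟨h1, h2⟩ ⟨h3, h4⟩
          exact ⟨U.mul_mem h1 h3, by rw [map_mul, h2, h4]⟩
        inv_mem' := by
          rintro x ⟨h1, h2⟩
          exact ⟨U.inv_mem h1, by rw [map_inv, h2]⟩ }
    have hU' : U' ≤ U := fun x hx => hx.1
    have h4 : 4 ≤ Nat.card U' := by
      refine four_le (e := w) (f := z) ⟨hwU, hw2⟩ ⟨hzU, htz⟩ hne.1 hz1 hne.2 ?_
      intro h5
      apply hne.2
      have h6 := eq_inv_of_mul_eq_one_left h5
      rw [inv_eq_of_mul_eq_one_left (h.sqW z)] at h6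
      exact h6
    have h5 : U' = U := eq_of_le_of_card_ge hU' (by rw [h.cardU]; exact h4)
    have h6 : u ∈ U' := by rw [h5]; exact hu
    exact htu h6.2
  refine ⟨z, v, t, f0, y,
    { pP := hpP
      cardP := h.cardP
      syl := hP
      na := ⟨s, hFP hs, t, Or.inl rfl, fun h1 => hts h1.symm⟩
      aP := htP
      bP := hFP hf0F
      a1 := ht1
      aa := h.tt
      bb := hf0f0
      ab := htf0
      ya := hyt
      yb := hyf
      zP := ?_
      yz := ?_
      z_ne := hz1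
      norm := ?_ }⟩
  · intro x hx
    have hFz : ∀ f ∈ F, φ f z = z := by
      intro f hf
      by_cases hf1 : f = 1
      · rw [hf1, map_one, MulAut.one_apply]
      · exact (h.fix f hf hf1 z).2 hzU
    rcases h.mem_P hx with h1 | ⟨f, hf, rfl⟩
    · exact hFz x h1
    · rw [hφ, hFz f hf, htz]
  · have h1 : φ f0 (φ y z) = φ y z := by
      rw [← hφ, show f0 * y = (y * t * y⁻¹) * y by rw [hyt], show y * t * y⁻¹ * y = y * t by group, hφ, htz]
    have h2 : φ t (φ y z) = φ y z := by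
      have h3 : t = (y * f0 * y⁻¹) * f0 := by
        rw [hyf, mul_assoc, hf0f0, mul_one]
      rw [h3, hφ, h1, ← hφ, show y * f0 * y⁻¹ * y = y * f0 by group, hφ, hf0z]
    rcases huniq _ h1 h2 with h3 | h3
    · exfalso
      apply hz1
      exact (map_eq_one_iff (φ y) (φ y).injective).1 h3
    · exact h3
  · have h1 : φ (t * f0) v = φ t (φ f0 v) := hφ _ _ _
    rw [h1, hz, ← hv, map_mul]
    have h2 := h.commW (φ t v) (φ f0 v)
    calc v * φ t v * φ f0 v * φ t (φ f0 v) = v * (φ t v * φ f0 v) * φ t (φ f0 v) := by group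
      _ = v * (φ f0 v * φ t v) * φ t (φ f0 v) := by rw [h2]
      _ = _ := by group

end NTwo

end Cfsg.Agent.GH.C2GrowN2
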