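import Cfsg.Agent.GH.C2Frame
import Cfsg.Agent.GH.C2GrowN2

/-!
# GH-C2, growth: lemma (G) for `MaxLocal M T` (helper445)

* `extra32_of_GIn` : input `GIn` (`S₅` orthogonal, `A₆`, `A₇`), `T < S`.
* `extra32_of_NTwo` : (N2) data, `M / O₂(M)` without subgroup of index 2, `T < S`.
-/

set_option autoImplicit false

namespace Cfsg.Agent.GH.C2GrowLocal

open Cfsg Subgroup C2GrowG C2GrowFree C2GrowIn C2GrowN2 C2Extra C2Frame
open Cfsg.Agent.ZN (o2)

universe u

variable {G : Type u} [Group G] [Finite G] {M T : Subgroup G}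

/-- 2-subgroups of `M` are not larger than `T`. -/
theorem card_le (h : MaxLocal M T) {R : Subgroup G} (hR : IsPGroup 2 R) (hRM : R ≤ M) :
    Nat.card R ≤ Nat.card T := by
  have h2 : Fact (Nat.Prime 2) := ⟨Nat.prime_two⟩
  have hT' : IsPGroup 2 (T.subgroupOf M) := h.pT.comap_of_injective _ M.subtype_injective
  obtain ⟨P, hP⟩ := hT'.exists_le_sylow
  have hTP : (P : Subgroup M).map M.subtype = T := by
    refine h.eq_T (P.isPGroup'.map _) (map_subtype_le _) ?_
    intro t ht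
    exact ⟨⟨t, h.le ht⟩, hP (mem_subgroupOf.2 ht), rfl⟩
  have h1 : IsPGroup 2 (R.subgroupOf M) := hR.comap_of_injective _ M.subtype_injective
  obtain ⟨Q, hQ⟩ := h1.exists_le_sylow
  have h3 : Nat.card R = Nat.card (R.subgroupOf M) :=
    (Nat.card_congr (subgroupOfEquivOfLe hRM).toEquiv).symm
  rw [h3, ← hTP, Subgroup.card_map_of_injective M.subtype_injective]
  exact (Subgroup.card_le_of_le hQ).trans (by rw [Sylow.card_eq_multiplicity, Sylow.card_eq_multiplicity])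

variable {Y : Type*} [Group Y]

/-- Lemma (G) for `MaxLocal`. -/
theorem extra32_of_GIn (hG : IsCharacteristicTwoType G) (h : MaxLocal M T)
    (sq : ∀ v ∈ pCore 2 ↥M, v ^ 2 = 1) (c16 : Nat.card (pCore 2 ↥M) = 16)
    (π : ↥M →* Y) (hπ : Function.Surjective π) (hker : ∀ g, π g = 1 ↔ g ∈ pCore 2 ↥M)
    (φ : Y →* MulAut ↥(pCore 2 ↥M))
    (hφ : ∀ (g : ↥M) (w : ↥(pCore 2 ↥M)), ((φ (π g) w : ↥(pCore 2 ↥M)) : ↥M) = g * w * g⁻¹)
    {P : Subgroup Y} {z v : ↥(pCore 2 ↥M)} {a b y : Y} (hin : GIn φ P z v a b y)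
    {S : Subgroup G} (hS : IsPGroup 2 S) (hTS : T < S) : Extra32 G := by
  have h2 : Fact (Nat.Prime 2) := ⟨Nat.prime_two⟩
  have hY : Finite Y := Finite.of_surjective π hπ
  let e : ↥(pCore 2 ↥M) ≃* ↥(o2 M) := (pCore 2 ↥M).equivMapOfInjective M.subtype M.subtype_injective
  have he : ∀ w : ↥(pCore 2 ↥M), (e w : G) = ((w : ↥M) : G) := fun w => rfl
  have hc16 : Nat.card (o2 M) = 16 := by rw [← c16]; exact (Nat.card_congr e.toEquiv).symm
  refine main' (V := o2 M) (N := M) hG hc16 ?_ ?_ h.eq.symm π hπ ?_ e φ ?_ hin ?_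
  · rintro _ ⟨v, hv, rfl⟩
    have h1 := congrArg M.subtype (sq v hv)
    rw [pow_two, map_mul, map_one] at h1
    exact h1
  · intro g hg
    exact h.cent_le (mem_centralizer_iff.2 fun v hv => (hg v hv).symm)
  · intro g
    rw [hker]
    constructor
    · intro hg
      exact ⟨g, hg, rfl⟩
    · rintro ⟨g', hg', hgg⟩
      have : g' = g := Subtype.ext hgg
      rwa [← this]
  · intro g w
    rw [he, hφ]
    rfl
  · refine ⟨S, hS, ?_⟩
    have h1 : Nat.card T < Nat.card S := by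
      by_contra hcon
      push Not at hcon
      exact hTS.ne (eq_of_le_of_card_ge hTS.le hcon)
    have hT1 : Nat.card ((P.comap π).map M.subtype) = 128 := by
      rw [card_map_of_injective (f := M.subtype) M.subtype_injective, card_comap hπ, hin.cardP]
      have h3 : π.ker = pCore 2 ↥M := by
        ext g
        rw [MonoidHom.mem_ker, hker]
      rw [h3, c16]
    have h3 := card_le h (R := (P.comap π).map M.subtype)
      (IsPGroup.of_card (n := 7) (by rw [hT1]; norm_num)) (map_subtype_le _)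
    omega

/-- (N2), no subgroup of index 2. -/
theorem extra32_of_NTwo (hG : IsCharacteristicTwoType G) (h : MaxLocal M T)
    (sq : ∀ v ∈ pCore 2 ↥M, v ^ 2 = 1) (c16 : Nat.card (pCore 2 ↥M) = 16)
    (π : ↥M →* Y) (hπ : Function.Surjective π) (hker : ∀ g, π g = 1 ↔ g ∈ pCore 2 ↥M)
    (φ : Y →* MulAut ↥(pCore 2 ↥M))
    (hφ : ∀ (g : ↥M) (w : ↥(pCore 2 ↥M)), ((φ (π g) w : ↥(pCore 2 ↥M)) : ↥M) = g * w * g⁻¹)
    {F : Subgroup Y} {U : Subgroup ↥(pCore 2 ↥M)} {d t : Y} (P : Sylow 2 Y)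
    (hN : NTwo φ F U d t (P : Subgroup Y)) (hY : ∀ K : Subgroup Y, K.index ≠ 2)
    {S : Subgroup G} (hS : IsPGroup 2 S) (hTS : T < S) : Extra32 G := by
  have hfY : Finite Y := Finite.of_surjective π hπ
  obtain ⟨z, v, a, b, y, hin⟩ := hN.main
    (fun Q hQ hPQ => (P.is_maximal' hQ hPQ).le) hY
  exact extra32_of_GIn hG h sq c16 π hπ hker φ hφ hin hS hTS

end Cfsg.Agent.GH.C2GrowLocal
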