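import Cfsg.Agent.GH.Defs
import Cfsg.Agent.MinSimple.Basic

/-!
# GH-C2: the frame

* `Hyp2 G` : `Hyp G`, characteristic 2 type.
* `MaxLocal M T` : `M` is a nonsolvable 2-local whose Sylow 2-subgroup `T` is as large as possible, and `M` is
  of maximal order among those; so `M = N_G(O₂(M))`, every 2-local containing a larger 2-subgroup is
  solvable, and `M` is the normalizer of every nontrivial 2-subgroup which it normalises.
* `exists_maxLocal`.
-/

set_option autoImplicit false

namespace Cfsg.Agent.GH.C2Frame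

open Subgroup Cfsg Cfsg.Agent.MinSimple.Basic Cfsg.Agent.MinSimple.VModule
open Cfsg.Agent.ZN (o2)

universe u

variable {G : Type u} [Group G]

/-- The situation of GH-C2. -/
structure Hyp2 (G : Type*) [Group G] : Prop where
  hyp : GH.Defs.Hyp G
  char2 : IsCharacteristicTwoType G

/-- `M` is a nonsolvable 2-local, `T` a Sylow 2-subgroup of `M`, `|T|` and then `|M|` maximal. -/
structure MaxLocal (M T : Subgroup G) : Prop where
  ne : o2 M ≠ ⊥
  eq : normalizer (o2 M : Set G) = M
  ns : ¬ Group.IsSolvable M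
  char2 : M ⊓ centralizer (o2 M : Set G) ≤ o2 M
  le : T ≤ M
  pT : IsPGroup 2 T
  syl : ¬ 2 ∣ T.relIndex M
  /-- 2-locals containing a 2-subgroup larger than `T` are solvable -/
  solv : ∀ U : Subgroup G, IsPGroup 2 U → U ≠ ⊥ → ∀ R : Subgroup G, IsPGroup 2 R →
    R ≤ normalizer (U : Set G) → Nat.card T < Nat.card R → Group.IsSolvable ↥(normalizer (U : Set G))
  /-- `M` is the normalizer of every nontrivial 2-subgroup which it normalises -/
  max : ∀ U : Subgroup G, IsPGroup 2 U → U ≠ ⊥ → M ≤ normalizer (U : Set G) →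
    normalizer (U : Set G) = M

section exists_max

variable [Finite G]

/-- A 2-subgroup of maximal order in `N`. -/
theorem exists_syl (N : Subgroup G) : ∃ T : Subgroup G, T ≤ N ∧ IsPGroup 2 T ∧ ¬ 2 ∣ T.relIndex N ∧
    ∀ R : Subgroup G, IsPGroup 2 R → R ≤ N → Nat.card R ≤ Nat.card T := by
  have h2 : Fact (Nat.Prime 2) := ⟨Nat.prime_two⟩
  obtain ⟨P⟩ : Nonempty (Sylow 2 N) := inferInstance
  refine ⟨(P : Subgroup N).map N.subtype, map_subtype_le _, P.isPGroup'.map _, ?_, ?_⟩
  · have h1 : ((P : Subgroup N).map N.subtype).relIndex N = (P : Subgroup N).index := by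
      rw [Subgroup.relIndex, Subgroup.subgroupOf, Subgroup.comap_map_eq_self_of_injective
        N.subtype_injective]
    rw [h1]
    exact P.not_dvd_index
  · intro R hR hRN
    have h1 : IsPGroup 2 (R.subgroupOf N) := hR.comap_of_injective _ N.subtype_injective
    obtain ⟨Q, hQ⟩ := h1.exists_le_sylow
    have h3 : Nat.card R = Nat.card (R.subgroupOf N) :=
      (Nat.card_congr (subgroupOfEquivOfLe hRN).toEquiv).symm
    rw [h3, Subgroup.card_map_of_injective N.subtype_injective]
    exact (Subgroup.card_le_of_le hQ).trans (by rw [Sylow.card_eq_multiplicity, Sylow.card_eq_multiplicity])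

/-- The maximal choice. -/
theorem exists_maxLocal (hG : IsCharacteristicTwoType G) {N : Subgroup G} (hN : IsTwoLocal N)
    (hns : ¬ Group.IsSolvable N) : ∃ M T : Subgroup G, MaxLocal M T := by
  classical
  have h2 : Fact (Nat.Prime 2) := ⟨Nat.prime_two⟩
  have hfin : Finite (Subgroup G) := inferInstance
  -- the pairs (2-local, 2-subgroup of it)
  let 𝒮 : Set (Subgroup G × Subgroup G) := {p | IsTwoLocal p.1 ∧ ¬ Group.IsSolvable p.1 ∧
    IsPGroup 2 p.2 ∧ p.2 ≤ p.1}
  have hne : 𝒮.Nonempty := ⟨(N, ⊥), hN, hns, IsPGroup.of_bot, bot_le⟩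
  have hfin' : 𝒮.Finite := Set.toFinite _
  obtain ⟨p, hp, hpmax⟩ := Set.exists_max_image 𝒮
    (fun p : Subgroup G × Subgroup G => Nat.card p.2 * (Nat.card G + 1) + Nat.card p.1) hfin' hne
  obtain ⟨M, T⟩ := p
  obtain ⟨hM, hMns, hT, hTM⟩ := hp
  obtain ⟨U₀, hU₀, hU₀1, rfl⟩ := hM
  set M := normalizer (U₀ : Set G) with hMdef
  have hcG : ∀ A : Subgroup G, Nat.card A ≤ Nat.card G := fun A => Subgroup.card_le_card_group A
  have hbig : ∀ U : Subgroup G, IsPGroup 2 U → U ≠ ⊥ → ∀ R : Subgroup G, IsPGroup 2 R →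
      R ≤ normalizer (U : Set G) → ¬ Group.IsSolvable ↥(normalizer (U : Set G)) →
      Nat.card R ≤ Nat.card T := by
    intro U hU hU1 R hR hRU hs
    by_contra hcon
    have h3 := hpmax (normalizer (U : Set G), R) ⟨⟨U, hU, hU1, rfl⟩, hs, hR, hRU⟩
    simp only at h3
    have h4 := hcG M
    have h5 : (Nat.card T + 1) * (Nat.card G + 1) ≤ Nat.card R * (Nat.card G + 1) :=
      Nat.mul_le_mul_right _ (by omega)
    have h6 : (Nat.card T + 1) * (Nat.card G + 1) = Nat.card T * (Nat.card G + 1) + (Nat.card G + 1) := by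
      ring
    omega
  have hmax : ∀ U : Subgroup G, IsPGroup 2 U → U ≠ ⊥ → M ≤ normalizer (U : Set G) →
      normalizer (U : Set G) = M := by
    intro U hU hU1 hMU
    have hs : ¬ Group.IsSolvable ↥(normalizer (U : Set G)) := fun hs =>
      hMns (Group.isSolvable_of_isSolvable_injective (inclusion_injective hMU))
    have h3 := hpmax (normalizer (U : Set G), T) ⟨⟨U, hU, hU1, rfl⟩, hs, hT, hTM.trans hMU⟩
    simp only at h3
    exact (Subgroup.eq_of_le_of_card_ge hMU (by omega)).symm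
  obtain ⟨T', hT'M, hT'p, hT's, hT'm⟩ := exists_syl M
  have hTT' : Nat.card T' = Nat.card T :=
    le_antisymm (hbig U₀ hU₀ hU₀1 T' hT'p hT'M hMns) (hT'm T hT hTM)
  have hU₀M : U₀ ≤ M := le_normalizer
  have hUo : U₀ ≤ o2 M := le_o2 hU₀M hU₀ le_rfl
  have hone : o2 M ≠ ⊥ := fun h => hU₀1 (le_bot_iff.mp (h ▸ hUo))
  have hMo := hmax (o2 M) (o2_isPGroup M) hone (le_normalizer_o2 M)
  refine ⟨M, T', ⟨hone, hMo, hMns, char2_normalizer hG hU₀ hU₀1, hT'M, hT'p, hT's, ?_, hmax⟩⟩
  intro U hU hU1 R hR hRU hlt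
  by_contra hs
  have := hbig U hU hU1 R hR hRU hs
  omega

end exists_max

namespace MaxLocal

variable {M T : Subgroup G}

theorem o2_le_T [Finite G] (h : MaxLocal M T) : o2 M ≤ T := o2_le_of_sylow h.pT h.syl

theorem mem_of_norm (h : MaxLocal M T) {U : Subgroup G} (hU : IsPGroup 2 U) (hU1 : U ≠ ⊥)
    (hMU : M ≤ normalizer (U : Set G)) {g : G} (hg : g ∈ normalizer (U : Set G)) : g ∈ M := by
  rw [← h.max U hU hU1 hMU]; exact hg

/-- A 2-subgroup of `M` containing `T` is `T`. -/
theorem eq_T [Finite G] (h : MaxLocal M T) {R : Subgroup G} (hR : IsPGroup 2 R) (hRM : R ≤ M)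
    (hTR : T ≤ R) : R = T := by
  have h2 : Fact (Nat.Prime 2) := ⟨Nat.prime_two⟩
  have h3 : T.relIndex R ∣ T.relIndex M := by
    rw [← Subgroup.relIndex_mul_relIndex T R M hTR hRM]
    exact dvd_mul_right _ _
  obtain ⟨n, hn⟩ := IsPGroup.iff_card.mp hR
  obtain ⟨k, -, hk⟩ := (Nat.dvd_prime_pow Nat.prime_two).mp
    (hn ▸ (Subgroup.relIndex_dvd_card T R) : T.relIndex R ∣ 2 ^ n)
  rcases Nat.eq_zero_or_pos k with h0 | h0
  · rw [h0, pow_zero] at hk
    exact le_antisymm (Subgroup.relIndex_eq_one.mp hk) hTR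
  · exact absurd ((dvd_pow_self 2 h0.ne').trans (hk ▸ h3)) h.syl

/-- `C_G(O₂(M)) ≤ O₂(M)`. -/
theorem cent_le (h : MaxLocal M T) : centralizer (o2 M : Set G) ≤ o2 M := by
  intro x hx
  refine h.char2 ⟨?_, hx⟩
  rw [← h.eq]
  refine mem_normalizer_iff.mpr fun y => ?_
  constructor
  · intro hy
    have h1 : y * x = x * y := mem_centralizer_iff.mp hx y hy
    have : x * y * x⁻¹ = y := by rw [← h1]; group
    rwa [this]
  · intro hy
    have h1 : x * y * x⁻¹ * x = x * (x * y * x⁻¹) := mem_centralizer_iff.mp hx _ hy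
    have h2 : y = x * y * x⁻¹ := by
      have : x * y = x * (x * y * x⁻¹) := by rw [← h1]; group
      exact mul_left_cancel this
    rw [h2]
    exact hy

/-- If `T` is not a Sylow 2-subgroup of `G` it grows by an element moving `O₂(M)`. -/
theorem exists_grow [Finite G] (h : MaxLocal M T) {S : Subgroup G} (hS : IsPGroup 2 S)
    (hTS : T < S) : ∃ t ∈ S, t ∉ M ∧ t ∈ normalizer (T : Set G) ∧ t ^ 2 ∈ T := by
  have h2 : Fact (Nat.Prime 2) := ⟨Nat.prime_two⟩
  -- `N_S(T) > T`
  have hlt : T.subgroupOf S < ⊤ := by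
    rw [lt_top_iff_ne_top]
    intro h1
    exact hTS.not_ge (Subgroup.subgroupOf_eq_top.mp h1)
  have := hS.isNilpotent
  have h3 := Group.normalizerCondition_of_isNilpotent (G := S) _ hlt
  obtain ⟨t, ht, htT⟩ := SetLike.exists_of_lt h3
  have htN : (t : G) ∈ normalizer (T : Set G) := by
    rw [mem_normalizer_iff]
    intro x
    constructor
    · intro hx
      exact mem_subgroupOf.mp ((mem_normalizer_iff.mp ht ⟨x, hTS.le hx⟩).mp hx)
    · intro hx
      have hxS : x ∈ S := by
        have : x = (t : G)⁻¹ * ((t : G) * x * (t : G)⁻¹) * t := by group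
        rw [this]
        exact mul_mem (mul_mem (inv_mem t.2) (hTS.le hx)) t.2
      exact mem_subgroupOf.mp ((mem_normalizer_iff.mp ht ⟨x, hxS⟩).mpr hx)
  -- a power of `t` outside `T` with square in `T`
  obtain ⟨n, hn⟩ := hS t
  have hex : ∃ m, (t : G) ^ 2 ^ m ∈ T := ⟨n, by
    have : (t : G) ^ 2 ^ n = 1 := congrArg Subtype.val hn
    rw [this]; exact one_mem _⟩
  classical
  have hm := Nat.find_spec hex
  have h0 : Nat.find hex ≠ 0 := by
    intro h4
    rw [h4, pow_zero, pow_one] at hm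
    exact htT (mem_subgroupOf.mpr hm)
  obtain ⟨k, hk⟩ := Nat.exists_eq_succ_of_ne_zero h0
  have hkT : (t : G) ^ 2 ^ k ∉ T := Nat.find_min hex (by omega)
  refine ⟨(t : G) ^ 2 ^ k, pow_mem t.2 _, ?_, pow_mem htN _, ?_⟩
  · intro hM
    -- then `T⟨t'⟩` is a larger 2-subgroup of `M`
    have hz : IsPGroup 2 (T ⊔ zpowers ((t : G) ^ 2 ^ k) : Subgroup G) :=
      hS.to_le (sup_le hTS.le (by rw [zpowers_le]; exact pow_mem t.2 _))
    have h5 := h.eq_T hz (sup_le h.le (by rw [zpowers_le]; exact hM)) le_sup_left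
    exact hkT (h5 ▸ mem_sup_right (mem_zpowers _))
  · rw [← pow_mul, ← pow_succ]
    rwa [hk] at hm

/-- If `N_G(T)` normalises `O₂(M)` then `T` is a Sylow 2-subgroup of `G`. -/
theorem eq_of_norm [Finite G] (h : MaxLocal M T)
    (hn : normalizer (T : Set G) ≤ normalizer (o2 M : Set G)) {S : Subgroup G}
    (hS : IsPGroup 2 S) (hTS : T ≤ S) : T = S := by
  by_contra hne
  obtain ⟨t, -, ht, htN, -⟩ := h.exists_grow hS (lt_of_le_of_ne hTS hne)
  exact ht (h.eq ▸ hn htN)

/-- The centre of a 2-group `S ≥ T` lies in `O₂(M)`. -/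
theorem center_le (h : MaxLocal M T) [Finite G] {S : Subgroup G} (hTS : T ≤ S) {z : G}
    (hz : ∀ x ∈ S, x * z = z * x) : z ∈ o2 M :=
  h.cent_le (mem_centralizer_iff.mpr fun x hx => hz x (hTS (h.o2_le_T hx)))

end MaxLocal

/-! ### Centralizers of involutions -/

theorem mem_zpowers_two {z x : G} (hz : z * z = 1) (hx : x ∈ zpowers z) : x = 1 ∨ x = z := by
  obtain ⟨n, rfl⟩ := mem_zpowers_iff.mp hx
  rcases Int.even_or_odd n with ⟨m, rfl⟩ | ⟨m, rfl⟩
  · left
    rw [← two_mul, zpow_mul, zpow_ofNat, pow_two, hz, one_zpow]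
  · right
    rw [zpow_add, zpow_mul, zpow_ofNat, pow_two, hz, one_zpow, one_mul, zpow_one]

theorem normalizer_zpowers {z : G} (hz : z * z = 1) :
    normalizer ((zpowers z : Subgroup G) : Set G) = centralizer ({z} : Set G) := by
  have hmem : ∀ x : G, x ∈ zpowers z → x = 1 ∨ x = z := fun x hx => mem_zpowers_two hz hx
  ext g
  rw [mem_centralizer_singleton_iff]
  constructor
  · intro hg
    rcases hmem _ ((mem_normalizer_iff.mp hg z).mp (mem_zpowers z)) with h | h
    · have h1 : z = 1 := by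
        have : z = g⁻¹ * (g * z * g⁻¹) * g := by group
        rw [this, h]; group
      rw [h1, mul_one, one_mul]
    · exact mul_inv_eq_iff_eq_mul.mp h
  · intro hg
    have hgz : g * z * g⁻¹ = z := mul_inv_eq_iff_eq_mul.mpr hg
    rw [mem_normalizer_iff]
    intro x
    constructor
    · intro hx
      rcases hmem x hx with rfl | rfl
      · simp
      · rw [hgz]; exact mem_zpowers _
    · intro hx
      have e : x = g⁻¹ * (g * x * g⁻¹) * g := by group
      rcases hmem _ hx with h | h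
      · rw [e, h]; simp
      · have h1 : x = z := by
          rw [e, h]
          nth_rewrite 1 [← hgz]
          group
        rw [h1]
        exact mem_zpowers z

theorem isPGroup_zpowers {z : G} (hz : z * z = 1) : IsPGroup 2 (zpowers z) := by
  rintro ⟨x, hx⟩
  refine ⟨1, Subtype.ext ?_⟩
  show x ^ 2 ^ 1 = 1
  rw [pow_one, pow_two]
  rcases mem_zpowers_two hz hx with rfl | rfl
  · exact one_mul 1
  · exact hz

theorem char2_centralizer (hG : IsCharacteristicTwoType G) {z : G} (hz : z * z = 1) (hz1 : z ≠ 1) :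
    centralizer ({z} : Set G) ⊓ centralizer (o2 (centralizer ({z} : Set G)) : Set G) ≤
      o2 (centralizer ({z} : Set G)) := by
  have h := char2_normalizer hG (isPGroup_zpowers hz) (fun h => hz1 (zpowers_eq_bot.mp h))
  rwa [normalizer_zpowers hz] at h

end Cfsg.Agent.GH.C2Frame
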