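import Mathlib
import Cfsg.Agent.J2Sylow.Model

/-!
# GH-L2, case (T4): coordinates

`UT X Y Z`: coordinates of a group `L = {Y b * X a * Z c}` isomorphic to `UT₃(4)`
(`E = {X a * Z c}`, `F = {Y b * Z c}`, `U = {Z c}`); `F4` is the field of four elements of `J2Sylow.Model`.
-/

set_option autoImplicit false

open Subgroup

namespace Cfsg.Agent.GH.T4Defs

open Cfsg.Agent.J2Sylow.Model Cfsg.Agent.J2Sylow.Model.F4

variable {G : Type*} [Group G]

/-- Coordinates of type `UT₃(4)`. -/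
structure UT (X Y Z : F4 → G) : Prop where
  XX : ∀ a b, X a * X b = X (a + b)
  YY : ∀ a b, Y a * Y b = Y (a + b)
  ZZ : ∀ a b, Z a * Z b = Z (a + b)
  XY : ∀ a b, X a * Y b = Y b * (X a * Z (a * b))
  ZX : ∀ a b, Z a * X b = X b * Z a
  ZY : ∀ a b, Z a * Y b = Y b * Z a
  Z1 : ∀ a, a ≠ 0 → Z a ≠ 1

namespace UT

variable {X Y Z : F4 → G} (h : UT X Y Z)

include h

theorem X0 : X 0 = 1 := by
  have h1 := h.XX 0 0
  rw [add_zero] at h1
  exact mul_eq_right.mp h1

theorem Y0 : Y 0 = 1 := by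
  have h1 := h.YY 0 0
  rw [add_zero] at h1
  exact mul_eq_right.mp h1

theorem Z0 : Z 0 = 1 := by
  have h1 := h.ZZ 0 0
  rw [add_zero] at h1
  exact mul_eq_right.mp h1

theorem Xsq (a : F4) : X a * X a = 1 := by rw [h.XX, F4.add_self, h.X0]

theorem Ysq (a : F4) : Y a * Y a = 1 := by rw [h.YY, F4.add_self, h.Y0]

theorem Zsq (a : F4) : Z a * Z a = 1 := by rw [h.ZZ, F4.add_self, h.Z0]

theorem Xinv (a : F4) : (X a)⁻¹ = X a := inv_eq_of_mul_eq_one_left (h.Xsq a)

theorem Yinv (a : F4) : (Y a)⁻¹ = Y a := inv_eq_of_mul_eq_one_left (h.Ysq a)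

theorem Zinv (a : F4) : (Z a)⁻¹ = Z a := inv_eq_of_mul_eq_one_left (h.Zsq a)

/-- normal form -/
theorem mul_nf (a b c a' b' c' : F4) : (Y b * X a * Z c) * (Y b' * X a' * Z c') =
    Y (b + b') * X (a + a') * Z (c + c' + a * b') := by
  have e1 : (Y b * X a * Z c) * (Y b' * X a' * Z c') =
      Y b * (X a * (Z c * Y b') * X a') * Z c' := by group
  have e2 : X a * (Z c * Y b') * X a' = Y b' * X a * Z (a * b') * (Z c * X a') := by
    rw [h.ZY, ← mul_assoc (X a), h.XY]
    simp only [mul_assoc]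
  have e3 : Z (a * b') * (Z c * X a') = X a' * Z (a * b' + c) := by
    rw [← mul_assoc, h.ZZ, h.ZX]
  rw [e1, e2, mul_assoc (Y b' * X a), e3]
  have e4 : Y b * (Y b' * X a * (X a' * Z (a * b' + c))) * Z c' =
      (Y b * Y b') * (X a * X a') * (Z (a * b' + c) * Z c') := by group
  rw [e4, h.YY, h.XX, h.ZZ]
  congr 2
  ring

theorem inv_nf (a b c : F4) : (Y b * X a * Z c)⁻¹ = Y b * X a * Z (c + a * b) := by
  apply inv_eq_of_mul_eq_one_left
  rw [h.mul_nf, F4.add_self, F4.add_self, h.X0, h.Y0, one_mul, one_mul]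
  have e : c + a * b + c + a * b = (c + a * b) + (c + a * b) := by ring
  rw [e, F4.add_self, h.Z0]

/-- uniqueness of the normal form -/
theorem nf_one {a b c : F4} (he : Y b * X a * Z c = 1) : a = 0 ∧ b = 0 ∧ c = 0 := by
  have key : ∀ x : F4, (∀ y, y * x = 0) → x = 0 := by decide
  have hb : b = 0 := by
    apply key
    intro y
    by_contra hne
    apply h.Z1 _ hne
    have h1 : X y * (Y b * X a * Z c) = (Y b * X a * Z c) * X y := by rw [he, mul_one, one_mul]
    have h2 : (Y 0 * X y * Z 0) * (Y b * X a * Z c) = (Y b * X a * Z c) * (Y 0 * X y * Z 0) := by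
      rw [h.Y0, h.Z0, one_mul, mul_one]; exact h1
    rw [h.mul_nf, h.mul_nf, mul_zero, zero_add, add_zero, add_comm y a] at h2
    have h3 := mul_left_cancel h2
    simp only [add_zero, zero_add] at h3
    rw [← h.ZZ] at h3
    exact mul_eq_left.mp h3
  have ha : a = 0 := by
    apply key
    intro y
    by_contra hne
    apply h.Z1 _ hne
    have h1 : (Y b * X a * Z c) * (Y y * X 0 * Z 0) = (Y y * X 0 * Z 0) * (Y b * X a * Z c) := by
      rw [he, mul_one, one_mul]
    rw [h.mul_nf, h.mul_nf, zero_mul, zero_add, add_zero, add_comm y b] at h1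
    have h3 := mul_left_cancel h1
    simp only [add_zero, zero_add] at h3
    rw [← h.ZZ] at h3
    rw [mul_comm]
    exact mul_eq_left.mp h3
  refine ⟨ha, hb, ?_⟩
  by_contra hc
  rw [ha, hb, h.X0, h.Y0, one_mul, one_mul] at he
  exact h.Z1 c hc he

theorem nf_inj {a b c a' b' c' : F4} (he : Y b * X a * Z c = Y b' * X a' * Z c') :
    a = a' ∧ b = b' ∧ c = c' := by
  have h1 : (Y b * X a * Z c) * (Y b' * X a' * Z c')⁻¹ = 1 := by rw [he, mul_inv_cancel]
  rw [h.inv_nf, h.mul_nf] at h1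
  obtain ⟨h2, h3, h4⟩ := h.nf_one h1
  have ha : a = a' := by
    have := congrArg (· + a') h2
    simpa [add_assoc, F4.add_self] using this
  have hb : b = b' := by
    have := congrArg (· + b') h3
    simpa [add_assoc, F4.add_self] using this
  refine ⟨ha, hb, ?_⟩
  subst ha; subst hb
  have e : c + (c' + a * b) + a * b = (c + c') + (a * b + a * b) := by ring
  rw [e, F4.add_self, add_zero] at h4
  have := congrArg (· + c') h4
  simpa [add_assoc, F4.add_self] using this

theorem X_inj {a a' : F4} (he : X a = X a') : a = a' := by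
  have h1 : Y 0 * X a * Z 0 = Y 0 * X a' * Z 0 := by rw [he]
  exact (h.nf_inj h1).1

theorem Y_inj {a a' : F4} (he : Y a = Y a') : a = a' := by
  have h1 : Y a * X 0 * Z 0 = Y a' * X 0 * Z 0 := by rw [he]
  exact (h.nf_inj h1).2.1

theorem Z_inj {a a' : F4} (he : Z a = Z a') : a = a' := by
  have h1 : Y 0 * X 0 * Z a = Y 0 * X 0 * Z a' := by rw [he]
  exact (h.nf_inj h1).2.2

/-- the subgroup with the given coordinates -/
def L : Subgroup G where
  carrier := {g | ∃ a b c, g = Y b * X a * Z c}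
  one_mem' := ⟨0, 0, 0, by rw [h.X0, h.Y0, h.Z0, one_mul, one_mul]⟩
  mul_mem' := by
    rintro _ _ ⟨a, b, c, rfl⟩ ⟨a', b', c', rfl⟩
    exact ⟨_, _, _, h.mul_nf a b c a' b' c'⟩
  inv_mem' := by
    rintro _ ⟨a, b, c, rfl⟩
    exact ⟨_, _, _, h.inv_nf a b c⟩

theorem mem_L {g : G} : g ∈ h.L ↔ ∃ a b c, g = Y b * X a * Z c := Iff.rfl

theorem card_L : Nat.card h.L = 64 := by
  let f : F4 × F4 × F4 → h.L := fun p => ⟨Y p.2.1 * X p.1 * Z p.2.2, p.1, p.2.1, p.2.2, rfl⟩
  have hf : Function.Bijective f := by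
    constructor
    · rintro ⟨a, b, c⟩ ⟨a', b', c'⟩ he
      have h1 := h.nf_inj (congrArg Subtype.val he)
      simp only [Prod.mk.injEq]
      exact h1
    · rintro ⟨_, a, b, c, rfl⟩
      exact ⟨(a, b, c), rfl⟩
  rw [← Nat.card_congr (Equiv.ofBijective f hf), Nat.card_prod, Nat.card_prod,
    Nat.card_eq_fintype_card]
  decide

end UT

end Cfsg.Agent.GH.T4Defs
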