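import Cfsg.Agent.GH.C2Rel
import Cfsg.Agent.GH.T4Defs
import Cfsg.Agent.GH.C2Base
import Cfsg.Agent.GH.C2GrowG
import Cfsg.Agent.Lib.NormalAbelian

/-!
# GH-C2, growth over `UT₃(4)⟨s⟩`: the group of order 256

If `T = UT₃(4)⟨s⟩ = N_S(V) < S` then `S = UT₃(4)⟨s, t⟩` with an involution `t` which commutes with `r`, `s`, `Z`
and interchanges the two elementary abelian subgroups of order 16.
-/

set_option autoImplicit false

open Subgroup

namespace Cfsg.Agent.GH.C2Grow256Zero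

open Cfsg.Agent.J2Sylow.Model Cfsg.Agent.J2Sylow.Model.F4 Cfsg.Agent.GH.C2Rel

variable {G : Type*} [Group G]

theorem toUT {X Y Z : F4 → G} (h : UT X Y Z) : T4Defs.UT X Y Z :=
  ⟨h.XX, h.YY, h.ZZ, h.XY, h.ZX, h.ZY, h.Z1⟩

theorem card_F4 : Nat.card F4 = 4 := by
  rw [Nat.card_eq_fintype_card]
  decide

theorem fr_fix : ∀ a : F4, fr a = a → a = 0 ∨ a = 1 := by decide

theorem key_ab (a b a' b' : F4) (h1 : fr a = a) (h2 : fr b = b) (h3 : a * b = 0) (h4 : fr a' = a')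
    (h5 : fr b' = b') (h6 : a' * b' = 0) (h7 : a * b' = a' * b) (h8 : ¬ (a' = 0 ∧ b' = 0)) :
    (a = 0 ∧ b = 0) ∨ (a = a' ∧ b = b') := by
  rcases fr_fix a h1 with rfl | rfl <;> rcases fr_fix b h2 with rfl | rfl <;>
    rcases fr_fix a' h4 with rfl | rfl <;> rcases fr_fix b' h5 with rfl | rfl <;>
    revert h1 h2 h3 h4 h5 h6 h7 h8 <;> decide

/-- A subgroup whose elements outside `H` have products in `H`. -/
theorem card_le_two [Finite G] (E H : Subgroup G)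
    (h : ∀ x ∈ E, ∀ y ∈ E, x ∉ H → y ∉ H → x * y ∈ H) :
    Nat.card E ≤ 2 * Nat.card (E ⊓ H : Subgroup G) := by
  by_cases hE : E ≤ H
  · rw [inf_eq_left.mpr hE]
    omega
  · obtain ⟨e, heE, heH⟩ := SetLike.not_le_iff_exists.mp hE
    have h1 : (E : Set G) ⊆ ((E ⊓ H : Subgroup G) : Set G) ∪
        (fun d => e⁻¹ * d) '' ((E ⊓ H : Subgroup G) : Set G) := by
      intro y hy
      by_cases hyH : y ∈ H
      · exact Or.inl ⟨hy, hyH⟩
      · exact Or.inr ⟨e * y, ⟨E.mul_mem heE hy, h e heE y hy heH hyH⟩, by group⟩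
    have h2 : Nat.card E = (E : Set G).ncard := rfl
    have h3 : Nat.card (E ⊓ H : Subgroup G) = ((E ⊓ H : Subgroup G) : Set G).ncard := rfl
    rw [h2, h3]
    calc (E : Set G).ncard ≤ _ := Set.ncard_le_ncard h1 (Set.toFinite _)
      _ ≤ ((E ⊓ H : Subgroup G) : Set G).ncard +
          ((fun d => e⁻¹ * d) '' ((E ⊓ H : Subgroup G) : Set G)).ncard := Set.ncard_union_le _ _
      _ ≤ ((E ⊓ H : Subgroup G) : Set G).ncard + ((E ⊓ H : Subgroup G) : Set G).ncard :=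
          Nat.add_le_add_left (Set.ncard_image_le (Set.toFinite _)) _
      _ = _ := by ring

section

variable {X Y Z : F4 → G} {s r : G} (h : UT X Y Z) (hs : SR X Y Z s r)

/-- general element -/
abbrev nf (X Y Z : F4 → G) (a b c : F4) : G := Y b * X a * Z c

theorem nf_congr {X Y Z : F4 → G} {a b c a' b' c' : F4} (ha : a = a') (hb : b = b') (hc : c = c') :
    nf X Y Z a b c = nf X Y Z a' b' c' := by rw [ha, hb, hc]

include h in
theorem nf_mul (a b c a' b' c' : F4) : nf X Y Z a b c * nf X Y Z a' b' c' =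
    nf X Y Z (a + a') (b + b') (c + c' + a * b') := (toUT h).mul_nf a b c a' b' c'

include hs in
theorem s_nf (a b c : F4) : s * nf X Y Z a b c = nf X Y Z (fr a) (fr b) (fr c) * s := by
  simp only [nf]
  rw [mul_assoc (Y b), ← mul_assoc, hs.sY, mul_assoc (Y (fr b)), ← mul_assoc s, hs.sX, mul_assoc (X (fr a)),
    hs.sZ]
  group

include hs in
theorem r_nf (a b c : F4) : r * nf X Y Z a b c = nf X Y Z (w * a) (w * b) (u * c) * r := by
  simp only [nf]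
  rw [mul_assoc (Y b), ← mul_assoc, hs.rY, mul_assoc (Y (w * b)), ← mul_assoc r, hs.rX, mul_assoc (X (w * a)),
    hs.rZ]
  group

include h in
theorem nf_inj {a b c a' b' c' : F4} (he : nf X Y Z a b c = nf X Y Z a' b' c') :
    a = a' ∧ b = b' ∧ c = c' := (toUT h).nf_inj he

include h in
theorem nf_Z (c : F4) : Z c = nf X Y Z 0 0 c := by
  simp only [nf]
  rw [(toUT h).Y0, (toUT h).X0, one_mul, one_mul]

include h in
theorem nf_X (a : F4) : X a = nf X Y Z a 0 0 := by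
  simp only [nf]
  rw [(toUT h).Y0, (toUT h).Z0, one_mul, mul_one]

include h in
theorem nf_Y (b : F4) : Y b = nf X Y Z 0 b 0 := by
  simp only [nf]
  rw [(toUT h).X0, (toUT h).Z0, mul_one, mul_one]

include h in
theorem nf_one' : (1 : G) = nf X Y Z 0 0 0 := by
  rw [← nf_Z h, (toUT h).Z0]

end

/-- The data. -/
structure Dat (X Y Z : F4 → G) (s r : G) (V T S : Subgroup G) : Prop where
  h : UT X Y Z
  hs : SR X Y Z s r
  hV : ∀ g, g ∈ V ↔ ∃ b c, g = Y b * Z c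
  hT : ∀ g, g ∈ T ↔ ∃ a b c, g = Y b * X a * Z c ∨ g = Y b * X a * Z c * s
  hS : IsPGroup 2 S
  hTS : T ≤ S
  hne : T ≠ S
  hSV : ∀ g ∈ S, (∀ v ∈ V, g * v * g⁻¹ ∈ V) → g ∈ T
  hC : ∀ g, (∀ v ∈ V, g * v = v * g) → g ∈ V
  hcard : ¬ 256 ∣ Nat.card (normalizer (V : Set G))

namespace Dat

variable {X Y Z : F4 → G} {s r : G} {V T S : Subgroup G} (d : Dat X Y Z s r V T S)

include d

theorem mem_V {g : G} : g ∈ V ↔ ∃ b c, g = nf X Y Z 0 b c := by
  rw [d.hV]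
  simp only [nf, (toUT d.h).X0, mul_one]

/-- `V' = {X a Z c}` -/
def W : Subgroup G where
  carrier := {g | ∃ a c, g = nf X Y Z a 0 c}
  one_mem' := ⟨0, 0, nf_one' d.h⟩
  mul_mem' := by
    rintro _ _ ⟨a, c, rfl⟩ ⟨a', c', rfl⟩
    refine ⟨a + a', c + c', ?_⟩
    rw [nf_mul d.h, mul_zero, add_zero, add_zero]
  inv_mem' := by
    rintro _ ⟨a, c, rfl⟩
    refine ⟨a, c, ?_⟩
    have h1 := (toUT d.h).inv_nf a 0 c
    rw [mul_zero, add_zero] at h1
    exact h1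

theorem mem_W {g : G} : g ∈ d.W ↔ ∃ a c, g = nf X Y Z a 0 c := Iff.rfl

theorem nf_mem_V {a b c : F4} : nf X Y Z a b c ∈ V ↔ a = 0 := by
  rw [d.mem_V]
  constructor
  · rintro ⟨b', c', he⟩
    exact (nf_inj d.h he).1
  · rintro rfl
    exact ⟨b, c, rfl⟩

theorem nf_mem_W {a b c : F4} : nf X Y Z a b c ∈ d.W ↔ b = 0 := by
  rw [d.mem_W]
  constructor
  · rintro ⟨a', c', he⟩
    exact (nf_inj d.h he).2.1
  · rintro rfl
    exact ⟨a, c, rfl⟩

/-- `T₀ = UT₃(4)` -/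
def L : Subgroup G := (toUT d.h).L

theorem mem_L {g : G} : g ∈ d.L ↔ ∃ a b c, g = nf X Y Z a b c := Iff.rfl

theorem nf_mem_L (a b c : F4) : nf X Y Z a b c ∈ d.L := ⟨a, b, c, rfl⟩

theorem L_le_T : d.L ≤ T := by
  rintro _ ⟨a, b, c, rfl⟩
  exact (d.hT _).mpr ⟨a, b, c, Or.inl rfl⟩

theorem s_mem_T : s ∈ T := (d.hT _).mpr ⟨0, 0, 0, Or.inr (by
  have h1 := nf_one' d.h
  simp only [nf] at h1
  rw [← h1, one_mul])⟩

theorem V_le_L : V ≤ d.L := by
  intro g hg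
  obtain ⟨b, c, rfl⟩ := d.mem_V.mp hg
  exact d.nf_mem_L _ _ _

theorem W_le_L : d.W ≤ d.L := by
  rintro _ ⟨a, c, rfl⟩
  exact d.nf_mem_L _ _ _

theorem mem_T_or {g : G} (hg : g ∈ T) : g ∈ d.L ∨ ∃ y ∈ d.L, g = y * s := by
  obtain ⟨a, b, c, hg | hg⟩ := (d.hT g).mp hg
  · exact Or.inl ⟨a, b, c, hg⟩
  · exact Or.inr ⟨_, ⟨a, b, c, rfl⟩, hg⟩

theorem s_conj_L {y : G} (hy : y ∈ d.L) : s * y * s⁻¹ ∈ d.L := by
  obtain ⟨a, b, c, rfl⟩ := hy
  have h1 := s_nf d.hs a b c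
  simp only [nf] at h1
  rw [h1, mul_inv_cancel_right]
  exact d.nf_mem_L _ _ _

theorem Z_comm {c : F4} {y : G} (hy : y ∈ d.L) : Z c * y = y * Z c := by
  obtain ⟨a, b, c', rfl⟩ := hy
  have h1 : Z c = nf X Y Z 0 0 c := nf_Z d.h c
  have h2 := nf_mul d.h 0 0 c a b c'
  have h3 := nf_mul d.h a b c' 0 0 c
  rw [← h1] at h2 h3
  simp only [nf] at h2 h3
  rw [h2, h3]
  congr 2
  · rw [zero_add, add_zero]
  · rw [zero_add, add_zero]
  · ring

theorem s_Z (c : F4) {y : G} (hy : y ∈ d.L) : (y * s) * Z c = Z (fr c) * (y * s) := by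
  rw [mul_assoc, d.hs.sZ, ← mul_assoc, ← d.Z_comm hy, mul_assoc]

theorem ys_not_mem {y : G} (hy : y ∈ d.L) : y * s ∉ d.L := by
  intro h1
  have h2 := d.s_Z w hy
  rw [← d.Z_comm h1] at h2
  have h3 := (toUT d.h).Z_inj (mul_right_cancel h2)
  revert h3
  decide

theorem L_norm {g y : G} (hg : g ∈ T) (hy : y ∈ d.L) : g * y * g⁻¹ ∈ d.L := by
  rcases d.mem_T_or hg with hg | ⟨x, hx, rfl⟩
  · exact d.L.mul_mem (d.L.mul_mem hg hy) (d.L.inv_mem hg)
  · have h1 : x * s * y * (x * s)⁻¹ = x * (s * y * s⁻¹) * x⁻¹ := by group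
    rw [h1]
    exact d.L.mul_mem (d.L.mul_mem hx (d.s_conj_L hy)) (d.L.inv_mem hx)

/-- two elements of `T` outside `L` have product in `L` -/
theorem mul_mem_L {x y : G} (hx : x ∈ T) (hy : y ∈ T) (hxL : x ∉ d.L) (hyL : y ∉ d.L) : x * y ∈ d.L := by
  rcases d.mem_T_or hx with hx | ⟨x, hx', rfl⟩
  · exact absurd hx hxL
  rcases d.mem_T_or hy with hy | ⟨y, hy', rfl⟩
  · exact absurd hy hyL
  have h1 : x * s * (y * s) = x * (s * y * s⁻¹) * (s * s) := by group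
  rw [h1, d.hs.ss, mul_one]
  exact d.L.mul_mem hx' (d.s_conj_L hy')

/-! ### elementary abelian subgroups -/

/-- the elements of `L` in an elementary abelian subgroup containing `y s` -/
theorem card_inf_le [Finite G] {E : Subgroup G} (hc : ∀ a ∈ E, ∀ b ∈ E, a * b = b * a)
    (hsq : ∀ a ∈ E, a * a = 1) {e y : G} (hy : y ∈ d.L) (he : e = y * s) (heE : e ∈ E) :
    ∃ p, (p = 1 ∨ (p ∈ E ∧ p ∈ d.L ∧ ∀ c, p ≠ Z c)) ∧
      ((E ⊓ d.L : Subgroup G) : Set G) ⊆ {1, Z 1, p, p * Z 1} := by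
  obtain ⟨a₀, b₀, c₀, rfl⟩ := hy
  have hmod : ∀ a b c, nf X Y Z a b c ∈ E → fr a = a ∧ fr b = b ∧ a * b = 0 := by
    intro a b c hx
    have h1 := hc _ heE _ hx
    have h0 : nf X Y Z a₀ b₀ c₀ * nf X Y Z (fr a) (fr b) (fr c) * s =
        nf X Y Z a b c * nf X Y Z a₀ b₀ c₀ * s := by
      rw [mul_assoc, ← s_nf d.hs, ← mul_assoc, mul_assoc (nf X Y Z a b c), ← he]
      exact h1
    have h2 := mul_right_cancel h0
    rw [nf_mul d.h, nf_mul d.h] at h2
    obtain ⟨h3, h4, -⟩ := nf_inj d.h h2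
    rw [add_comm a a₀] at h3
    rw [add_comm b b₀] at h4
    refine ⟨add_left_cancel h3, add_left_cancel h4, ?_⟩
    have h5 := hsq _ hx
    rw [nf_mul d.h, nf_one' d.h] at h5
    have h6 := (nf_inj d.h h5).2.2
    rwa [add_self, zero_add] at h6
  have hZc : ∀ c, Z c ∈ E → c = 0 ∨ c = 1 := by
    intro c hx
    have h1 := hc _ heE _ hx
    rw [he, d.s_Z c (d.nf_mem_L a₀ b₀ c₀)] at h1
    exact fr_fix c ((toUT d.h).Z_inj (mul_right_cancel h1))
  have hrat : ∀ a b c c', nf X Y Z a b c ∈ E → nf X Y Z a b c' ∈ E →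
      nf X Y Z a b c' = nf X Y Z a b c ∨ nf X Y Z a b c' = nf X Y Z a b c * Z 1 := by
    intro a b c c' h1 h2
    have h3 : nf X Y Z a b c' = nf X Y Z a b c * Z (c + c') := by
      rw [nf_Z d.h (c + c'), nf_mul d.h]
      simp only [add_zero, mul_zero]
      rw [← add_assoc, add_self, zero_add]
    have h4 : Z (c + c') ∈ E := by
      have h5 : Z (c + c') = (nf X Y Z a b c)⁻¹ * nf X Y Z a b c' := by rw [h3]; group
      rw [h5]
      exact E.mul_mem (E.inv_mem h1) h2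
    rcases hZc _ h4 with h5 | h5
    · left; rw [h3, h5, (toUT d.h).Z0, mul_one]
    · right; rw [h3, h5]
  by_cases hex : ∃ x ∈ E ⊓ d.L, ∀ c, x ≠ Z c
  · obtain ⟨p, hp, hpZ⟩ := hex
    refine ⟨p, Or.inr ⟨hp.1, hp.2, hpZ⟩, ?_⟩
    obtain ⟨a', b', c', rfl⟩ := hp.2
    have hp1 := hmod a' b' c' hp.1
    rintro _ ⟨hxE, a, b, c, rfl⟩
    have hx1 := hmod a b c hxE
    have hcm := hc _ hxE _ hp.1
    change nf X Y Z a b c * nf X Y Z a' b' c' = nf X Y Z a' b' c' * nf X Y Z a b c at hcm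
    rw [nf_mul d.h, nf_mul d.h] at hcm
    have hcm2 := (nf_inj d.h hcm).2.2
    rw [add_comm c' c] at hcm2
    have hcm3 := add_left_cancel hcm2
    have hp0 : ¬ (a' = 0 ∧ b' = 0) := by
      rintro ⟨rfl, rfl⟩
      exact hpZ c' (nf_Z d.h c').symm
    rcases key_ab a b a' b' hx1.1 hx1.2.1 hx1.2.2 hp1.1 hp1.2.1 hp1.2.2 hcm3 hp0 with ⟨rfl, rfl⟩ | ⟨rfl, rfl⟩
    · have h1 : Y 0 * X 0 * Z c = Z c := (nf_Z d.h c).symm
      rw [h1] at hxE ⊢
      rcases hZc c hxE with rfl | rfl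
      · left; exact (toUT d.h).Z0
      · right; left; rfl
    · rcases hrat a b c' c hp.1 hxE with h1 | h1
      · right; right; left; exact h1
      · right; right; right; exact h1
  · push Not at hex
    refine ⟨1, Or.inl rfl, ?_⟩
    rintro x hx
    obtain ⟨c, rfl⟩ := hex x hx
    rcases hZc c hx.1 with rfl | rfl
    · left; exact (toUT d.h).Z0
    · right; left; rfl

theorem conj_V {g v : G} (hg : g ∈ T) (hv : v ∈ V) : g * v * g⁻¹ ∈ V := by
  obtain ⟨b', c', rfl⟩ := d.mem_V.mp hv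
  have h0 : ∀ y ∈ d.L, ∀ v ∈ V, y * v * y⁻¹ ∈ V := by
    rintro _ ⟨a, b, c, rfl⟩ v hv
    obtain ⟨b', c', rfl⟩ := d.mem_V.mp hv
    have h1 : nf X Y Z a b c * nf X Y Z 0 b' c' * (nf X Y Z a b c)⁻¹ = nf X Y Z 0 b' (c' + a * b') := by
      rw [mul_inv_eq_iff_eq_mul, nf_mul d.h, nf_mul d.h]
      exact nf_congr (by ring) (by ring) (by ring)
    change nf X Y Z a b c * nf X Y Z 0 b' c' * (nf X Y Z a b c)⁻¹ ∈ V
    rw [h1, d.nf_mem_V]
  rcases d.mem_T_or hg with hg | ⟨y, hy, rfl⟩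
  · exact h0 _ hg _ hv
  · have h1 : s * nf X Y Z 0 b' c' * s⁻¹ = nf X Y Z 0 (fr b') (fr c') := by
      rw [s_nf d.hs, mul_inv_cancel_right]
      rfl
    have h2 : y * s * nf X Y Z 0 b' c' * (y * s)⁻¹ = y * (s * nf X Y Z 0 b' c' * s⁻¹) * y⁻¹ := by group
    rw [h2, h1]
    exact h0 _ hy _ (d.nf_mem_V.mpr rfl)

theorem conj_W {g v : G} (hg : g ∈ T) (hv : v ∈ d.W) : g * v * g⁻¹ ∈ d.W := by
  obtain ⟨a', c', rfl⟩ := hv
  have h0 : ∀ y ∈ d.L, ∀ v ∈ d.W, y * v * y⁻¹ ∈ d.W := by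
    rintro _ ⟨a, b, c, rfl⟩ _ ⟨a', c', rfl⟩
    have h1 : nf X Y Z a b c * nf X Y Z a' 0 c' * (nf X Y Z a b c)⁻¹ = nf X Y Z a' 0 (c' + a' * b) := by
      rw [mul_inv_eq_iff_eq_mul, nf_mul d.h, nf_mul d.h]
      refine nf_congr (by ring) (by ring) ?_
      have e : c' + a' * b + c + a' * b = c + c' + (a' * b + a' * b) := by ring
      rw [e, add_self]
      ring
    change nf X Y Z a b c * nf X Y Z a' 0 c' * (nf X Y Z a b c)⁻¹ ∈ d.W
    rw [h1, d.nf_mem_W]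
  rcases d.mem_T_or hg with hg | ⟨y, hy, rfl⟩
  · exact h0 _ hg _ ⟨a', c', rfl⟩
  · have h1 : s * nf X Y Z a' 0 c' * s⁻¹ = nf X Y Z (fr a') 0 (fr c') := by
      rw [s_nf d.hs, mul_inv_cancel_right]
      rfl
    have h2 : y * s * nf X Y Z a' 0 c' * (y * s)⁻¹ = y * (s * nf X Y Z a' 0 c' * s⁻¹) * y⁻¹ := by group
    change y * s * nf X Y Z a' 0 c' * (y * s)⁻¹ ∈ d.W
    rw [h2, h1]
    exact h0 _ hy _ (d.nf_mem_W.mpr rfl)

/-- `g` interchanges `V` and `V'` -/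
def Sw (g : G) : Prop := (∀ v ∈ V, g * v * g⁻¹ ∈ d.W) ∧ ∀ v ∈ d.W, g * v * g⁻¹ ∈ V

/-- the elements of `S` permuting `V` and `V'` -/
def T1 : Subgroup G := S ⊓ normalizer ((V : Set G) ∪ (d.W : Set G))

theorem T_le_T1 [Finite G] : T ≤ d.T1 := by
  intro g hg
  refine ⟨d.hTS hg, mem_normalizer_fintype ?_⟩
  rintro v (hv | hv)
  · exact Or.inl (d.conj_V hg hv)
  · exact Or.inr (d.conj_W hg hv)

/-- a conjugate of a subgroup in the union -/
theorem le_or_le {g : G} (hg : g ∈ normalizer ((V : Set G) ∪ (d.W : Set G))) {E : Subgroup G}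
    (hE : E ≤ V ∨ E ≤ d.W) : (∀ v ∈ E, g * v * g⁻¹ ∈ V) ∨ ∀ v ∈ E, g * v * g⁻¹ ∈ d.W := by
  have h1 : ((E.map (MulAut.conj g).toMonoidHom : Subgroup G) : Set G) ⊆ (V : Set G) ∪ (d.W : Set G) := by
    rintro _ ⟨v, hv, rfl⟩
    exact (hg v).mp (hE.imp (fun h => h hv) (fun h => h hv))
  rcases SubgroupClass.subset_union.mp h1 with h2 | h2
  · exact Or.inl fun v hv => h2 ⟨v, hv, rfl⟩
  · exact Or.inr fun v hv => h2 ⟨v, hv, rfl⟩

theorem mem_or_sw {g : G} (hg : g ∈ d.T1) : g ∈ T ∨ d.Sw g := by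
  rcases d.le_or_le hg.2 (E := V) (Or.inl le_rfl) with h1 | h1
  · exact Or.inl (d.hSV g hg.1 h1)
  · right
    refine ⟨h1, ?_⟩
    rcases d.le_or_le hg.2 (E := d.W) (Or.inr le_rfl) with h2 | h2
    · exact h2
    · exfalso
      have h3 : Y 1 ∈ V := by rw [nf_Y d.h]; exact d.nf_mem_V.mpr rfl
      have h4 : g⁻¹ * Y 1 * g ∈ (V : Set G) ∪ (d.W : Set G) := by
        rw [hg.2]
        left
        have e : g * (g⁻¹ * Y 1 * g) * g⁻¹ = Y 1 := by group
        rw [e]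
        exact h3
      have h5 : Y 1 ∈ d.W := by
        have e : Y 1 = g * (g⁻¹ * Y 1 * g) * g⁻¹ := by group
        rw [e]
        rcases h4 with h4 | h4
        · exact h1 _ h4
        · exact h2 _ h4
      rw [nf_Y d.h, d.nf_mem_W] at h5
      revert h5
      decide

theorem sw_mul {g k : G} (hg : d.Sw g) (hk : d.Sw k) (h : g * k ∈ S) : g * k ∈ T := by
  apply d.hSV _ h
  intro v hv
  have e : g * k * v * (g * k)⁻¹ = g * (k * v * k⁻¹) * g⁻¹ := by group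
  rw [e]
  exact hg.2 _ (hk.1 v hv)

theorem eq_Z_of_sw {g x : G} (hg : d.Sw g) (hx : x ∈ d.L) (hxx : x * x = 1) (hgx : g * x = x * g) :
    ∃ c, x = Z c := by
  have e : g * x * g⁻¹ = x := by rw [hgx]; group
  obtain ⟨a, b, c, rfl⟩ := hx
  change nf X Y Z a b c * nf X Y Z a b c = 1 at hxx
  rw [nf_mul d.h, nf_one' d.h] at hxx
  have h1 := (nf_inj d.h hxx).2.2
  rw [add_self, zero_add] at h1
  have key : ∀ a b : F4, a * b = 0 → a = 0 ∨ b = 0 := by decide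
  refine ⟨c, ?_⟩
  rcases key a b h1 with rfl | rfl
  · have h2 := hg.1 (nf X Y Z 0 b c) (d.nf_mem_V.mpr rfl)
    change g * nf X Y Z 0 b c * g⁻¹ = nf X Y Z 0 b c at e
    rw [e, d.nf_mem_W] at h2
    subst h2
    exact (nf_Z d.h c).symm
  · have h2 := hg.2 (nf X Y Z a 0 c) (d.nf_mem_W.mpr rfl)
    change g * nf X Y Z a 0 c * g⁻¹ = nf X Y Z a 0 c at e
    rw [e, d.nf_mem_V] at h2
    subst h2
    exact (nf_Z d.h c).symm

/-- An elementary abelian subgroup of `T1` not contained in `L` has order at most 8. -/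
theorem card_le_eight [Finite G] {E : Subgroup G} (hE : E ≤ d.T1)
    (hc : ∀ a ∈ E, ∀ b ∈ E, a * b = b * a) (hsq : ∀ a ∈ E, a * a = 1) (hEL : ¬ E ≤ d.L) :
    Nat.card E ≤ 8 := by
  have hcard : ∀ A : Subgroup G, Nat.card A = (A : Set G).ncard := fun A => rfl
  have hET : Nat.card E ≤ 2 * Nat.card (E ⊓ T : Subgroup G) := by
    apply card_le_two
    intro x hx y hy hxT hyT
    exact d.sw_mul ((d.mem_or_sw (hE hx)).resolve_left hxT) ((d.mem_or_sw (hE hy)).resolve_left hyT)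
      (S.mul_mem (hE hx).1 (hE hy).1)
  by_cases hex : ∃ e ∈ E ⊓ T, e ∉ d.L
  · obtain ⟨e, he, heL⟩ := hex
    obtain ⟨y, hy, hys⟩ := (d.mem_T_or he.2).resolve_left heL
    obtain ⟨p, hp, hsub⟩ := d.card_inf_le hc hsq hy hys he.1
    have hETL : Nat.card (E ⊓ T : Subgroup G) ≤ 2 * Nat.card (E ⊓ T ⊓ d.L : Subgroup G) := by
      apply card_le_two
      intro x hx y hy hxT hyT
      exact d.mul_mem_L hx.2 hy.2 hxT hyT
    have hEL' : (E ⊓ T ⊓ d.L : Subgroup G) = E ⊓ d.L := by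
      rw [inf_assoc, inf_eq_right.mpr d.L_le_T]
    rw [hEL'] at hETL
    by_cases hT : E ≤ T
    · rw [inf_eq_left.mpr hT] at hETL
      have h1 : Nat.card (E ⊓ d.L : Subgroup G) ≤ 4 := by
        rw [hcard]
        refine (Set.ncard_le_ncard hsub (Set.toFinite _)).trans ?_
        calc ({1, Z 1, p, p * Z 1} : Set G).ncard ≤ ({Z 1, p, p * Z 1} : Set G).ncard + 1 :=
              Set.ncard_insert_le _ _
          _ ≤ ({p, p * Z 1} : Set G).ncard + 1 + 1 := Nat.add_le_add_right (Set.ncard_insert_le _ _) _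
          _ ≤ ({p * Z 1} : Set G).ncard + 1 + 1 + 1 :=
              Nat.add_le_add_right (Nat.add_le_add_right (Set.ncard_insert_le _ _) _) _
          _ = 4 := by rw [Set.ncard_singleton]
      omega
    · obtain ⟨g, hgE, hgT⟩ := SetLike.not_le_iff_exists.mp hT
      have hsw := (d.mem_or_sw (hE hgE)).resolve_left hgT
      have hp1 : p = 1 := by
        rcases hp with hp | ⟨hpE, hpL, hpZ⟩
        · exact hp
        · exfalso
          obtain ⟨c, hc'⟩ := d.eq_Z_of_sw hsw hpL (hsq p hpE) (hc g hgE p hpE)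
          exact hpZ c hc'
      subst hp1
      have h1 : Nat.card (E ⊓ d.L : Subgroup G) ≤ 2 := by
        rw [hcard]
        refine (Set.ncard_le_ncard hsub (Set.toFinite _)).trans ?_
        rw [one_mul]
        have h2 : ({1, Z 1, 1, Z 1} : Set G) = {1, Z 1} := by
          ext x; simp only [Set.mem_insert_iff, Set.mem_singleton_iff]; tauto
        rw [h2]
        calc ({1, Z 1} : Set G).ncard ≤ ({Z 1} : Set G).ncard + 1 := Set.ncard_insert_le _ _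
          _ = 2 := by rw [Set.ncard_singleton]
      omega
  · push Not at hex
    have hnT : ¬ E ≤ T := fun h1 => hEL fun x hx => hex x ⟨hx, h1 hx⟩
    obtain ⟨g, hgE, hgT⟩ := SetLike.not_le_iff_exists.mp hnT
    have hsw := (d.mem_or_sw (hE hgE)).resolve_left hgT
    have h1 : ((E ⊓ T : Subgroup G) : Set G) ⊆ Set.range Z := by
      intro x hx
      obtain ⟨c, hc'⟩ := d.eq_Z_of_sw hsw (hex x hx) (hsq x hx.1) (hc g hgE x hx.1)
      exact ⟨c, hc'.symm⟩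
    have h2 : Nat.card (E ⊓ T : Subgroup G) ≤ 4 := by
      rw [hcard]
      refine (Set.ncard_le_ncard h1 (Set.toFinite _)).trans ?_
      rw [← Set.image_univ]
      refine (Set.ncard_image_le (Set.toFinite _)).trans ?_
      rw [Set.ncard_univ, card_F4]
    omega

theorem sq_V {v : G} (hv : v ∈ V) : v * v = 1 := by
  obtain ⟨b, c, rfl⟩ := d.mem_V.mp hv
  rw [nf_mul d.h, nf_one' d.h]
  exact nf_congr (by ring) (add_self _) (by rw [add_self]; ring)

theorem sq_W {v : G} (hv : v ∈ d.W) : v * v = 1 := by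
  obtain ⟨a, c, rfl⟩ := hv
  rw [nf_mul d.h, nf_one' d.h]
  exact nf_congr (add_self _) (by ring) (by rw [add_self]; ring)

theorem comm_V {v v' : G} (hv : v ∈ V) (hv' : v' ∈ V) : v * v' = v' * v := by
  obtain ⟨b, c, rfl⟩ := d.mem_V.mp hv
  obtain ⟨b', c', rfl⟩ := d.mem_V.mp hv'
  rw [nf_mul d.h, nf_mul d.h]
  exact nf_congr (by ring) (by ring) (by ring)

theorem comm_W {v v' : G} (hv : v ∈ d.W) (hv' : v' ∈ d.W) : v * v' = v' * v := by
  obtain ⟨a, c, rfl⟩ := hv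
  obtain ⟨a', c', rfl⟩ := hv'
  rw [nf_mul d.h, nf_mul d.h]
  exact nf_congr (by ring) (by ring) (by ring)

theorem card_V [Finite G] : 16 ≤ Nat.card V := by
  have h1 := Nat.card_le_card_of_injective (fun q : F4 × F4 => (⟨nf X Y Z 0 q.1 q.2, d.nf_mem_V.mpr rfl⟩ : V))
    (by
      rintro ⟨b, c⟩ ⟨b', c'⟩ he
      have h2 := nf_inj d.h (congrArg Subtype.val he)
      exact Prod.ext h2.2.1 h2.2.2)
  rw [Nat.card_prod, card_F4] at h1
  omega

theorem card_W [Finite G] : 16 ≤ Nat.card d.W := by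
  have h1 := Nat.card_le_card_of_injective
    (fun q : F4 × F4 => (⟨nf X Y Z q.1 0 q.2, d.nf_mem_W.mpr rfl⟩ : d.W))
    (by
      rintro ⟨b, c⟩ ⟨b', c'⟩ he
      have h2 := nf_inj d.h (congrArg Subtype.val he)
      exact Prod.ext h2.1 h2.2.2)
  rw [Nat.card_prod, card_F4] at h1
  omega

/-- elementary abelian subgroups of order `≥ 16` in `T1` lie in the union of `V` and `V'` -/
theorem mem_union [Finite G] {E : Subgroup G} (hE : E ≤ d.T1)
    (hc : ∀ a ∈ E, ∀ b ∈ E, a * b = b * a) (hsq : ∀ a ∈ E, a * a = 1) (hcard : 16 ≤ Nat.card E)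
    {x : G} (hx : x ∈ E) : x ∈ (V : Set G) ∪ (d.W : Set G) := by
  have hEL : E ≤ d.L := by
    by_contra h1
    have := d.card_le_eight hE hc hsq h1
    omega
  have hxx := hsq x hx
  obtain ⟨a, b, c, rfl⟩ := hEL hx
  change nf X Y Z a b c * nf X Y Z a b c = 1 at hxx
  rw [nf_mul d.h, nf_one' d.h] at hxx
  have h1 := (nf_inj d.h hxx).2.2
  rw [add_self, zero_add] at h1
  have key : ∀ a b : F4, a * b = 0 → a = 0 ∨ b = 0 := by decide
  rcases key a b h1 with h2 | h2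
  · exact Or.inl (d.nf_mem_V.mpr h2)
  · exact Or.inr (d.nf_mem_W.mpr h2)

theorem conj_union [Finite G] {E : Subgroup G} (hE : E ≤ d.T1)
    (hc : ∀ a ∈ E, ∀ b ∈ E, a * b = b * a) (hsq : ∀ a ∈ E, a * a = 1) (hcard : 16 ≤ Nat.card E)
    {k : G} (hk : k ∈ normalizer (d.T1 : Set G)) {x : G} (hx : x ∈ E) :
    k * x * k⁻¹ ∈ (V : Set G) ∪ (d.W : Set G) := by
  refine d.mem_union (E := E.map (MulAut.conj k).toMonoidHom) ?_ ?_ ?_ ?_ ⟨x, hx, rfl⟩
  · rintro _ ⟨y, hy, rfl⟩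
    exact (mem_normalizer_iff.mp hk y).mp (hE hy)
  · rintro _ ⟨y, hy, rfl⟩ _ ⟨y', hy', rfl⟩
    rw [← map_mul, ← map_mul, hc y hy y' hy']
  · rintro _ ⟨y, hy, rfl⟩
    rw [← map_mul, hsq y hy, map_one]
  · rw [card_map_of_injective (MulAut.conj k).injective]
    exact hcard

theorem T1_eq [Finite G] : d.T1 = S := by
  apply le_antisymm inf_le_left
  by_contra hne
  obtain ⟨k, hkS, hkT, hk⟩ := C2GrowG.exists_mem_normalizer d.hS (d.hS.to_le (inf_le_left : d.T1 ≤ S))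
    (inf_le_left.trans le_normalizer) hne
  apply hkT
  refine ⟨hkS, mem_normalizer_fintype ?_⟩
  have hVT : V ≤ d.T1 := d.V_le_L.trans (d.L_le_T.trans d.T_le_T1)
  have hWT : d.W ≤ d.T1 := d.W_le_L.trans (d.L_le_T.trans d.T_le_T1)
  rintro v (hv | hv)
  · exact d.conj_union hVT (fun a ha b hb => d.comm_V ha hb) (fun a ha => d.sq_V ha) d.card_V hk hv
  · exact d.conj_union hWT (fun a ha b hb => d.comm_W ha hb) (fun a ha => d.sq_W ha) d.card_W hk hv

theorem T_or_sw [Finite G] {g : G} (hg : g ∈ S) : g ∈ T ∨ d.Sw g := by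
  rw [← d.T1_eq] at hg
  exact d.mem_or_sw hg

/-! ### the swap -/

theorem eq_Z {x : G} (hV : x ∈ V) (hW : x ∈ d.W) : ∃ c, x = Z c := by
  obtain ⟨b, c, rfl⟩ := d.mem_V.mp hV
  rw [d.nf_mem_W] at hW
  subst hW
  exact ⟨c, (nf_Z d.h c).symm⟩

theorem Z_mem_V (c : F4) : Z c ∈ V := by rw [nf_Z d.h c]; exact d.nf_mem_V.mpr rfl

theorem Z_mem_W (c : F4) : Z c ∈ d.W := by rw [nf_Z d.h c]; exact d.nf_mem_W.mpr rfl

theorem conj_Z [Finite G] {g : G} (hg : g ∈ S) (c : F4) : ∃ c', g * Z c * g⁻¹ = Z c' := by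
  rcases d.T_or_sw hg with h1 | h1
  · exact d.eq_Z (d.conj_V h1 (d.Z_mem_V c)) (d.conj_W h1 (d.Z_mem_W c))
  · exact d.eq_Z (h1.2 _ (d.Z_mem_W c)) (h1.1 _ (d.Z_mem_V c))

theorem conj_Z_one [Finite G] {g : G} (hg : g ∈ S) : g * Z 1 = Z 1 * g := by
  have : Fact (Nat.Prime 2) := ⟨Nat.prime_two⟩
  have : Group.IsNilpotent S := d.hS.isNilpotent
  have hN : ((V ⊓ d.W).subgroupOf S).Normal := by
    refine ⟨fun y hy k => ?_⟩
    rw [mem_subgroupOf] at hy ⊢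
    obtain ⟨c, hc⟩ := d.eq_Z hy.1 hy.2
    obtain ⟨c', hc'⟩ := d.conj_Z k.2 c
    rw [← hc] at hc'
    change (k : G) * y * (k : G)⁻¹ ∈ V ⊓ d.W
    rw [hc']
    exact ⟨d.Z_mem_V _, d.Z_mem_W _⟩
  have hne : (V ⊓ d.W).subgroupOf S ≠ ⊥ := by
    intro h1
    have h2 : (⟨Z 1, d.hTS (d.L_le_T (d.V_le_L (d.Z_mem_V 1)))⟩ : S) ∈ (V ⊓ d.W).subgroupOf S :=
      mem_subgroupOf.mpr ⟨d.Z_mem_V _, d.Z_mem_W _⟩
    rw [h1, mem_bot] at h2
    exact d.h.Z1 1 (by decide) (congrArg Subtype.val h2)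
  have h3 := Lib.NormalAbelian.normal_inf_center_ne_bot _ hne
  obtain ⟨z, hz1⟩ := Subgroup.ne_bot_iff_exists_ne_one.mp h3
  obtain ⟨hzV, hzc⟩ := z.2
  have hzV' := mem_subgroupOf.mp (show (z : S) ∈ (V ⊓ d.W).subgroupOf S from hzV)
  obtain ⟨c, hc⟩ := d.eq_Z hzV'.1 hzV'.2
  have hcen : ∀ k ∈ S, k * Z c = Z c * k := by
    intro k hk
    rw [← hc]
    exact congrArg Subtype.val (mem_center_iff.mp hzc ⟨k, hk⟩)
  have h4 := hcen s (d.hTS d.s_mem_T)
  rw [d.hs.sZ] at h4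
  rcases fr_fix c ((toUT d.h).Z_inj (mul_right_cancel h4)) with rfl | rfl
  · exfalso
    rw [(toUT d.h).Z0] at hc
    exact hz1 (Subtype.ext (Subtype.ext hc))
  · exact hcen g hg

theorem s_sw [Finite G] {t : G} (hsw : d.Sw t) : d.Sw (t * s) := by
  constructor
  · intro v hv
    have e : t * s * v * (t * s)⁻¹ = t * (s * v * s⁻¹) * t⁻¹ := by group
    rw [e]
    exact hsw.1 _ (d.conj_V d.s_mem_T hv)
  · intro v hv
    have e : t * s * v * (t * s)⁻¹ = t * (s * v * s⁻¹) * t⁻¹ := by group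
    rw [e]
    exact hsw.2 _ (d.conj_W d.s_mem_T hv)

theorem Z_of_two {t : G} (h1 : t * Z 1 = Z 1 * t) (h2 : t * Z w = Z w * t) (c : F4) :
    t * Z c = Z c * t := by
  cases c
  · have e : Z F4.o = 1 := (toUT d.h).Z0
    rw [e, mul_one, one_mul]
  · exact h1
  · exact h2
  · have e : Z F4.u = Z 1 * Z w := by rw [d.h.ZZ]; rfl
    rw [e, ← mul_assoc, h1, mul_assoc, h2, mul_assoc]

theorem exists_t [Finite G] : ∃ t ∈ S, t ∉ T ∧ ∀ c, t * Z c = Z c * t := by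
  obtain ⟨t, htS, htT⟩ : ∃ t ∈ S, t ∉ T := by
    by_contra hcon
    push Not at hcon
    exact d.hne (le_antisymm d.hTS hcon)
  have h1 := d.conj_Z_one htS
  obtain ⟨c, hc⟩ := d.conj_Z htS w
  rw [mul_inv_eq_iff_eq_mul] at hc
  have hc0 : c ≠ 0 := by
    rintro rfl
    rw [(toUT d.h).Z0, one_mul, mul_eq_left] at hc
    exact d.h.Z1 w (by decide) hc
  have hc1 : c ≠ 1 := by
    rintro rfl
    rw [← h1] at hc
    have h2 := (toUT d.h).Z_inj (mul_left_cancel hc)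
    revert h2
    decide
  have key : ∀ c : F4, c ≠ 0 → c ≠ 1 → c = w ∨ c = u := by decide
  rcases key c hc0 hc1 with rfl | rfl
  · exact ⟨t, htS, htT, d.Z_of_two h1 hc⟩
  · refine ⟨t * s, S.mul_mem htS (d.hTS d.s_mem_T), fun h2 => htT ?_, d.Z_of_two ?_ ?_⟩
    · have h3 := T.mul_mem h2 (T.inv_mem d.s_mem_T)
      rwa [mul_inv_cancel_right] at h3
    · rw [mul_assoc, d.hs.sZ]
      change t * (Z 1 * s) = _
      rw [← mul_assoc, h1, mul_assoc]
    · rw [mul_assoc, d.hs.sZ]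
      change t * (Z u * s) = _
      have e : Z u = Z 1 * Z w := by rw [d.h.ZZ]; rfl
      rw [e, ← mul_assoc, ← mul_assoc, h1, mul_assoc (Z 1), hc, ← mul_assoc, d.h.ZZ]
      change Z w * t * s = _
      rw [mul_assoc]

/-- the group of the elements centralising `Z` and `T₀ / Z` -/
def K : Subgroup G where
  carrier := {k | (∀ c, k * Z c * k⁻¹ = Z c) ∧ ∀ y ∈ d.L, ∃ c, k * y * k⁻¹ = y * Z c}
  one_mem' := ⟨fun c => by simp, fun y _ => ⟨0, by simp [(toUT d.h).Z0]⟩⟩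
  mul_mem' := by
    rintro k k' ⟨h1, h2⟩ ⟨h1', h2'⟩
    refine ⟨fun c => ?_, fun y hy => ?_⟩
    · have e : k * k' * Z c * (k * k')⁻¹ = k * (k' * Z c * k'⁻¹) * k⁻¹ := by group
      rw [e, h1', h1]
    · obtain ⟨c', hc'⟩ := h2' y hy
      obtain ⟨c, hc⟩ := h2 y hy
      refine ⟨c + c', ?_⟩
      have e : k * k' * y * (k * k')⁻¹ = k * (k' * y * k'⁻¹) * k⁻¹ := by group
      have e2 : k * (y * Z c') * k⁻¹ = (k * y * k⁻¹) * (k * Z c' * k⁻¹) := by group
      rw [e, hc', e2, hc, h1, mul_assoc, d.h.ZZ]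
  inv_mem' := by
    rintro k ⟨h1, h2⟩
    have h1' : ∀ c, k⁻¹ * Z c * k⁻¹⁻¹ = Z c := by
      intro c
      have e := h1 c
      rw [mul_inv_eq_iff_eq_mul] at e
      rw [mul_inv_eq_iff_eq_mul, inv_mul_eq_iff_eq_mul, ← mul_assoc, e]
      group
    refine ⟨h1', fun y hy => ?_⟩
    obtain ⟨c, hc⟩ := h2 y hy
    refine ⟨c, ?_⟩
    have e : y = k⁻¹ * (k * y * k⁻¹) * k⁻¹⁻¹ := by group
    rw [hc] at e
    have e2 : k⁻¹ * (y * Z c) * k⁻¹⁻¹ = (k⁻¹ * y * k⁻¹⁻¹) * (k⁻¹ * Z c * k⁻¹⁻¹) := by group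
    rw [e2, h1'] at e
    have e3 : y * Z c = (k⁻¹ * y * k⁻¹⁻¹) * Z c * Z c := by rw [← e]
    rw [mul_assoc, d.h.ZZ, add_self, (toUT d.h).Z0, mul_one] at e3
    exact e3.symm

theorem mem_K {k : G} : k ∈ d.K ↔ (∀ c, k * Z c * k⁻¹ = Z c) ∧ ∀ y ∈ d.L, ∃ c, k * y * k⁻¹ = y * Z c := Iff.rfl

/-- test on generators -/
theorem mem_K_of {k : G} (hZ : ∀ c, k * Z c * k⁻¹ = Z c) (hX : ∀ a, ∃ c, k * X a * k⁻¹ = X a * Z c)
    (hY : ∀ b, ∃ c, k * Y b * k⁻¹ = Y b * Z c) : k ∈ d.K := by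
  refine ⟨hZ, ?_⟩
  rintro _ ⟨a, b, c, rfl⟩
  obtain ⟨c1, h1⟩ := hX a
  obtain ⟨c2, h2⟩ := hY b
  refine ⟨c1 + c2, ?_⟩
  have e : k * (Y b * X a * Z c) * k⁻¹ = (k * Y b * k⁻¹) * (k * X a * k⁻¹) * (k * Z c * k⁻¹) := by group
  rw [e, h1, h2, hZ]
  have e2 : Y b * Z c2 * (X a * Z c1) * Z c = Y b * (Z c2 * X a) * (Z c1 * Z c) := by group
  rw [e2, d.h.ZX, d.h.ZZ]
  have e3 : Y b * (X a * Z c2) * Z (c1 + c) = Y b * X a * (Z c2 * Z (c1 + c)) := by group
  rw [e3, d.h.ZZ, mul_assoc (Y b * X a), d.h.ZZ]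
  congr 2
  ring

theorem K_sq {k : G} (hk : k ∈ d.K) : (k * k) * (k * k) = 1 := by
  apply d.sq_V
  apply d.hC
  intro v hv
  obtain ⟨c, hc⟩ := hk.2 v (d.V_le_L hv)
  have e : k * k * v * (k * k)⁻¹ = k * (k * v * k⁻¹) * k⁻¹ := by group
  have e2 : k * (v * Z c) * k⁻¹ = (k * v * k⁻¹) * (k * Z c * k⁻¹) := by group
  rw [hc, e2, hc, hk.1, mul_assoc v, d.h.ZZ, add_self, (toUT d.h).Z0, mul_one] at e
  exact mul_inv_eq_iff_eq_mul.mp e

theorem K_pGroup : IsPGroup 2 d.K := by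
  rintro ⟨k, hk⟩
  refine ⟨2, Subtype.ext ?_⟩
  change k ^ (2 ^ 2) = 1
  have h1 := d.K_sq hk
  rw [show (2 : ℕ) ^ 2 = 4 from rfl, ← h1]
  simp only [pow_succ, pow_zero, one_mul, mul_assoc]

theorem T_norm_K [Finite G] : T ≤ normalizer (d.K : Set G) := by
  intro g hg
  apply mem_normalizer_fintype
  intro k hk
  rw [SetLike.mem_coe] at hk ⊢
  have hgi : g⁻¹ ∈ T := T.inv_mem hg
  refine ⟨fun c => ?_, fun y hy => ?_⟩
  · obtain ⟨c', hc'⟩ := d.conj_Z (d.hTS hgi) c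
    rw [inv_inv] at hc'
    have e : g * k * g⁻¹ * Z c * (g * k * g⁻¹)⁻¹ = g * (k * (g⁻¹ * Z c * g) * k⁻¹) * g⁻¹ := by group
    rw [e, hc', hk.1, ← hc']
    group
  · have h1 := d.L_norm hgi hy
    rw [inv_inv] at h1
    obtain ⟨c, hc⟩ := hk.2 _ h1
    obtain ⟨c', hc'⟩ := d.conj_Z (d.hTS hg) c
    refine ⟨c', ?_⟩
    have e : g * k * g⁻¹ * y * (g * k * g⁻¹)⁻¹ = g * (k * (g⁻¹ * y * g) * k⁻¹) * g⁻¹ := by group
    rw [e, hc, ← hc']
    group

theorem K_norm_V [Finite G] : d.K ≤ normalizer (V : Set G) := by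
  intro k hk
  apply mem_normalizer_fintype
  intro v hv
  obtain ⟨c, hc⟩ := hk.2 v (d.V_le_L hv)
  rw [hc]
  exact V.mul_mem hv (d.Z_mem_V c)

theorem card_T [Finite G] : 128 ≤ Nat.card T := by
  have h1 : Nat.card d.L = 64 := (toUT d.h).card_L
  have h2 : Nat.card d.L ∣ Nat.card T := Subgroup.card_dvd_of_le d.L_le_T
  have h3 : d.L ≠ T := by
    intro h4
    have h5 := d.s_mem_T
    rw [← h4] at h5
    have h6 := d.ys_not_mem d.L.one_mem
    rw [one_mul] at h6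
    exact h6 h5
  have h4 : Nat.card d.L < Nat.card T := by
    have h5 := Set.ncard_lt_ncard (s := (d.L : Set G)) (t := (T : Set G))
      (lt_of_le_of_ne d.L_le_T (fun h6 => h3 (SetLike.coe_injective h6))) (Set.toFinite _)
    exact h5
  rw [h1] at h2 h4
  obtain ⟨m, hm⟩ := h2
  have : 2 ≤ m := by
    by_contra h5
    interval_cases m <;> omega
  omega

theorem K_le_L [Finite G] : d.K ≤ d.L := by
  have hle : d.K ≤ T := by
    by_contra hne
    apply d.hcard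
    have hTp : IsPGroup 2 T := d.hS.to_le d.hTS
    have hP : IsPGroup 2 (T ⊔ d.K : Subgroup G) :=
      IsPGroup.to_sup_of_normal_right' hTp d.K_pGroup d.T_norm_K
    have hTV : T ≤ normalizer (V : Set G) := fun g hg => mem_normalizer_fintype fun v hv => d.conj_V hg hv
    have h1 : T ⊔ d.K ≤ normalizer (V : Set G) := sup_le hTV d.K_norm_V
    refine dvd_trans ?_ (Subgroup.card_dvd_of_le h1)
    have h2 : Nat.card T < Nat.card (T ⊔ d.K : Subgroup G) := by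
      have h5 := Set.ncard_lt_ncard (s := (T : Set G)) (t := ((T ⊔ d.K : Subgroup G) : Set G))
        (lt_of_le_of_ne (le_sup_left : T ≤ T ⊔ d.K) (fun h6 => hne
          (le_trans le_sup_right (SetLike.coe_injective h6).symm.le))) (Set.toFinite _)
      exact h5
    have : Fact (Nat.Prime 2) := ⟨Nat.prime_two⟩
    obtain ⟨n, hn⟩ := IsPGroup.iff_card.mp hP
    have h3 := d.card_T
    rw [hn] at h2 ⊢
    have h4 : 8 ≤ n := by
      by_contra h5
      have h6 : 2 ^ n ≤ 2 ^ 7 := Nat.pow_le_pow_right (by norm_num) (by omega)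
      omega
    exact pow_dvd_pow 2 h4
  intro k hk
  rcases d.mem_T_or (hle hk) with h1 | ⟨y, hy, rfl⟩
  · exact h1
  · exfalso
    have h2 := d.s_Z w hy
    have h3 := mul_inv_eq_iff_eq_mul.mp (hk.1 w)
    rw [h3] at h2
    have h4 := (toUT d.h).Z_inj (mul_right_cancel h2)
    revert h4
    decide

/-! ### the element `r` -/

theorem r_V {v : G} (hv : v ∈ V) : r * v * r⁻¹ ∈ V := by
  obtain ⟨b, c, rfl⟩ := d.mem_V.mp hv
  have h1 : r * nf X Y Z 0 b c * r⁻¹ = nf X Y Z (w * 0) (w * b) (u * c) := by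
    rw [r_nf d.hs, mul_inv_cancel_right]
  rw [h1, d.nf_mem_V]
  rfl

theorem r_W {v : G} (hv : v ∈ d.W) : r * v * r⁻¹ ∈ d.W := by
  obtain ⟨a, c, rfl⟩ := hv
  have h1 : r * nf X Y Z a 0 c * r⁻¹ = nf X Y Z (w * a) (w * 0) (u * c) := by
    rw [r_nf d.hs, mul_inv_cancel_right]
  change r * nf X Y Z a 0 c * r⁻¹ ∈ d.W
  rw [h1, d.nf_mem_W]
  rfl

theorem r_L {v : G} (hv : v ∈ d.L) : r * v * r⁻¹ ∈ d.L := by
  obtain ⟨a, b, c, rfl⟩ := hv
  have h1 : r * nf X Y Z a b c * r⁻¹ = nf X Y Z (w * a) (w * b) (u * c) := by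
    rw [r_nf d.hs, mul_inv_cancel_right]
  change r * nf X Y Z a b c * r⁻¹ ∈ d.L
  rw [h1]
  exact d.nf_mem_L _ _ _

theorem r_fix {y : G} (hy : y ∈ d.L) (hr : r * y = y * r) : y = 1 := by
  obtain ⟨a, b, c, rfl⟩ := hy
  change r * nf X Y Z a b c = nf X Y Z a b c * r at hr
  rw [r_nf d.hs] at hr
  obtain ⟨h1, h2, h3⟩ := nf_inj d.h (mul_right_cancel hr)
  have k1 : ∀ a : F4, w * a = a → a = 0 := by decide
  have k2 : ∀ a : F4, u * a = a → a = 0 := by decide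
  rw [k1 a h1, k1 b h2, k2 c h3]
  exact (nf_one' d.h).symm

/-- the conjugate of `r` by a swap is `r` modulo `T₀` -/
theorem conj_r_mem [Finite G] {t : G} (htS : t ∈ S) (htT : t ∉ T) (htZ : ∀ c, t * Z c = Z c * t) :
    t * r * t⁻¹ * r⁻¹ ∈ d.L := by
  apply d.K_le_L
  have hsw : d.Sw t := (d.T_or_sw htS).resolve_left htT
  have hsw' : d.Sw t⁻¹ := (d.T_or_sw (S.inv_mem htS)).resolve_left fun h1 => htT (by
    have := T.inv_mem h1
    rwa [inv_inv] at this)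
  have htZ' : ∀ c, t⁻¹ * Z c * t = Z c := by
    intro c
    rw [mul_assoc, ← htZ c]
    group
  have hrZ : ∀ c, r * Z c * r⁻¹ = Z (u * c) := by
    intro c
    rw [d.hs.rZ, mul_inv_cancel_right]
  set k := t * r * t⁻¹ with hk
  have hkZ : ∀ c, k * Z c * k⁻¹ = Z (u * c) := by
    intro c
    have e : k * Z c * k⁻¹ = t * (r * (t⁻¹ * Z c * t) * r⁻¹) * t⁻¹ := by rw [hk]; group
    rw [e, htZ', hrZ, htZ, mul_inv_cancel_right]
  have hkV : ∀ v ∈ V, k * v * k⁻¹ ∈ V := by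
    intro v hv
    have e : k * v * k⁻¹ = t * (r * (t⁻¹ * v * t⁻¹⁻¹) * r⁻¹) * t⁻¹ := by rw [hk]; group
    rw [e]
    exact hsw.2 _ (d.r_W (hsw'.1 v hv))
  have hkW : ∀ v ∈ d.W, k * v * k⁻¹ ∈ d.W := by
    intro v hv
    have e : k * v * k⁻¹ = t * (r * (t⁻¹ * v * t⁻¹⁻¹) * r⁻¹) * t⁻¹ := by rw [hk]; group
    rw [e]
    exact hsw.1 _ (d.r_V (hsw'.2 v hv))
  have hX : ∀ a, ∃ a' c', k * X a * k⁻¹ = nf X Y Z a' 0 c' := by
    intro a
    exact hkW (X a) (by rw [nf_X d.h]; exact d.nf_mem_W.mpr rfl)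
  have hY : ∀ b, ∃ b' c', k * Y b * k⁻¹ = nf X Y Z 0 b' c' := by
    intro b
    exact d.mem_V.mp (hkV (Y b) (by rw [nf_Y d.h]; exact d.nf_mem_V.mpr rfl))
  choose A A' hA using hX
  choose B B' hB using hY
  have hrel : ∀ a b, A a * B b = u * (a * b) := by
    intro a b
    have h1 := d.h.XY a b
    have h2 : (k * X a * k⁻¹) * (k * Y b * k⁻¹) =
        (k * Y b * k⁻¹) * ((k * X a * k⁻¹) * (k * Z (a * b) * k⁻¹)) := by
      have e1 : (k * X a * k⁻¹) * (k * Y b * k⁻¹) = k * (X a * Y b) * k⁻¹ := by group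
      rw [e1, h1]
      group
    rw [hA, hB, hkZ, nf_Z d.h (u * (a * b)), nf_mul d.h, nf_mul d.h, nf_mul d.h] at h2
    have h3 := (nf_inj d.h h2).2.2
    have e2 : A' a + B' b + A a * B b = B' b + A' a + (A a * B b) := by ring
    have e3 : B' b + (A' a + u * (a * b) + A a * 0) + 0 * 0 = B' b + A' a + u * (a * b) := by ring
    have e4 : B' b + (A' a + u * (a * b) + A a * 0) + 0 * (0 + 0) = B' b + A' a + u * (a * b) := by ring
    have e5 : B' b + (A' a + u * (a * b) + A a * 0) + 0 * 0 = B' b + A' a + u * (a * b) := by ring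
    rw [e2] at h3
    have h4 : B' b + A' a + A a * B b = B' b + A' a + u * (a * b) := by
      rw [h3]
      ring
    exact add_left_cancel h4
  have hA1 : A 1 ≠ 1 := by
    intro h1
    obtain ⟨b, c, hbc⟩ := d.mem_V.mp (hsw'.2 (X 1) (by rw [nf_X d.h]; exact d.nf_mem_W.mpr rfl))
    have h2 : r * nf X Y Z 0 b c * r⁻¹ = nf X Y Z 0 b c * Z (A' 1) := by
      rw [← hbc]
      have e : r * (t⁻¹ * X 1 * t⁻¹⁻¹) * r⁻¹ = t⁻¹ * (k * X 1 * k⁻¹) * t := by rw [hk]; group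
      rw [e, hA, h1]
      have e2 : nf X Y Z 1 0 (A' 1) = X 1 * Z (A' 1) := by
        rw [nf_X d.h 1, nf_Z d.h (A' 1), nf_mul d.h]
        exact nf_congr (by ring) (by ring) (by ring)
      have e3 : t⁻¹ * (X 1 * Z (A' 1)) * t = (t⁻¹ * X 1 * t) * (t⁻¹ * Z (A' 1) * t) := by group
      rw [e2, e3, htZ']
      group
    rw [mul_inv_eq_iff_eq_mul, r_nf d.hs, nf_Z d.h (A' 1), nf_mul d.h] at h2
    have h3 := (nf_inj d.h (mul_right_cancel h2)).2.1
    rw [add_zero] at h3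
    have k1 : ∀ a : F4, w * a = a → a = 0 := by decide
    have h4 := k1 b h3
    subst h4
    have h5 : X 1 = Z c := by
      have e : X 1 = t * (t⁻¹ * X 1 * t⁻¹⁻¹) * t⁻¹ := by group
      rw [e, hbc]
      change t * nf X Y Z 0 0 c * t⁻¹ = Z c
      rw [← nf_Z d.h, htZ, mul_inv_cancel_right]
    rw [nf_X d.h, nf_Z d.h] at h5
    have h6 := (nf_inj d.h h5).1
    revert h6
    decide
  have hB1 : B 1 ≠ 1 := by
    intro h1
    obtain ⟨a, c, hac⟩ := hsw'.1 (Y 1) (by rw [nf_Y d.h]; exact d.nf_mem_V.mpr rfl)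
    have h2 : r * nf X Y Z a 0 c * r⁻¹ = nf X Y Z a 0 c * Z (B' 1) := by
      rw [← hac]
      have e : r * (t⁻¹ * Y 1 * t⁻¹⁻¹) * r⁻¹ = t⁻¹ * (k * Y 1 * k⁻¹) * t := by rw [hk]; group
      rw [e, hB, h1]
      have e2 : nf X Y Z 0 1 (B' 1) = Y 1 * Z (B' 1) := by
        rw [nf_Y d.h 1, nf_Z d.h (B' 1), nf_mul d.h]
        exact nf_congr (by ring) (by ring) (by ring)
      have e3 : t⁻¹ * (Y 1 * Z (B' 1)) * t = (t⁻¹ * Y 1 * t) * (t⁻¹ * Z (B' 1) * t) := by group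
      rw [e2, e3, htZ']
      group
    rw [mul_inv_eq_iff_eq_mul, r_nf d.hs, nf_Z d.h (B' 1), nf_mul d.h] at h2
    have h3 := (nf_inj d.h (mul_right_cancel h2)).1
    rw [add_zero] at h3
    have k1 : ∀ a : F4, w * a = a → a = 0 := by decide
    have h4 := k1 a h3
    subst h4
    have h5 : Y 1 = Z c := by
      have e : Y 1 = t * (t⁻¹ * Y 1 * t⁻¹⁻¹) * t⁻¹ := by group
      rw [e, hac]
      change t * nf X Y Z 0 0 c * t⁻¹ = Z c
      rw [← nf_Z d.h, htZ, mul_inv_cancel_right]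
    rw [nf_Y d.h, nf_Z d.h] at h5
    have h6 := (nf_inj d.h h5).2.1
    revert h6
    decide
  have hw : A 1 = w ∧ B 1 = w := by
    have h1 := hrel 1 1
    have key : ∀ a b : F4, a * b = u * (1 * 1) → a ≠ 1 → b ≠ 1 → a = w ∧ b = w := by decide
    exact key _ _ h1 hA1 hB1
  have hAa : ∀ a, A a = w * a := by
    intro a
    have h1 := hrel a 1
    rw [hw.2] at h1
    have key : ∀ x a : F4, x * w = u * (a * 1) → x = w * a := by decide
    exact key _ _ h1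
  have hBb : ∀ b, B b = w * b := by
    intro b
    have h1 := hrel 1 b
    rw [hw.1] at h1
    have key : ∀ x a : F4, w * x = u * (1 * a) → x = w * a := by decide
    exact key _ _ h1
  have hri : ∀ v v' : G, r * v = v' * r → r⁻¹ * v' * r⁻¹⁻¹ = v := by
    intro v v' h1
    have e : r⁻¹ * v' * r⁻¹⁻¹ = r⁻¹ * (v' * r) := by group
    rw [e, ← h1]
    group
  have hwu : ∀ a : F4, w * (u * a) = a := by decide
  have huw : ∀ a : F4, u * (w * a) = a := by decide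
  apply d.mem_K_of
  · intro c
    have e : k * r⁻¹ * Z c * (k * r⁻¹)⁻¹ = k * (r⁻¹ * Z c * r⁻¹⁻¹) * k⁻¹ := by group
    have h1 := hri (Z (w * c)) (Z c) (by rw [d.hs.rZ, huw])
    rw [e, h1, hkZ, huw]
  · intro a
    have e : k * r⁻¹ * X a * (k * r⁻¹)⁻¹ = k * (r⁻¹ * X a * r⁻¹⁻¹) * k⁻¹ := by group
    have h1 := hri (X (u * a)) (X a) (by rw [d.hs.rX, hwu])
    refine ⟨A' (u * a), ?_⟩
    rw [e, h1, hA, hAa, hwu, nf_X d.h a, nf_Z d.h (A' (u * a)), nf_mul d.h]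
    exact nf_congr (by ring) (by ring) (by ring)
  · intro b
    have e : k * r⁻¹ * Y b * (k * r⁻¹)⁻¹ = k * (r⁻¹ * Y b * r⁻¹⁻¹) * k⁻¹ := by group
    have h1 := hri (Y (u * b)) (Y b) (by rw [d.hs.rY, hwu])
    refine ⟨B' (u * b), ?_⟩
    rw [e, h1, hB, hBb, hwu, nf_Y d.h b, nf_Z d.h (B' (u * b)), nf_mul d.h]
    exact nf_congr (by ring) (by ring) (by ring)

/-- a swap commuting with `r` -/
theorem exists_t_r [Finite G] : ∃ t ∈ S, t ∉ T ∧ (∀ c, t * Z c = Z c * t) ∧ t * r = r * t := by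
  obtain ⟨t, htS, htT, htZ⟩ := d.exists_t
  have h1 := d.conj_r_mem htS htT htZ
  let f : d.L → d.L := fun q => ⟨q * (r * (q : G)⁻¹ * r⁻¹), d.L.mul_mem q.2 (d.r_L (d.L.inv_mem q.2))⟩
  have hf : Function.Injective f := by
    intro p q hpq
    have h2 : (p : G) * (r * (p : G)⁻¹ * r⁻¹) = q * (r * (q : G)⁻¹ * r⁻¹) := congrArg Subtype.val hpq
    have h3 : (p : G) * r * (p : G)⁻¹ = q * r * (q : G)⁻¹ := by
      have e1 : (p : G) * r * (p : G)⁻¹ = (p : G) * (r * (p : G)⁻¹ * r⁻¹) * r := by group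
      have e2 : (q : G) * r * (q : G)⁻¹ = (q : G) * (r * (q : G)⁻¹ * r⁻¹) * r := by group
      rw [e1, e2, h2]
    have h4 := d.r_fix (y := (q : G)⁻¹ * p) (d.L.mul_mem (d.L.inv_mem q.2) p.2) (by
      calc r * ((q : G)⁻¹ * p) = (q : G)⁻¹ * (q * r * (q : G)⁻¹) * p := by group
        _ = (q : G)⁻¹ * (p * r * (p : G)⁻¹) * p := by rw [h3]
        _ = (q : G)⁻¹ * p * r := by group)
    exact Subtype.ext (inv_mul_eq_one.mp h4).symm
  obtain ⟨q, hq⟩ := (Finite.injective_iff_surjective.mp hf) ⟨_, h1⟩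
  have h2 : (q : G) * (r * (q : G)⁻¹ * r⁻¹) = t * r * t⁻¹ * r⁻¹ := congrArg Subtype.val hq
  have hqT : (q : G) ∈ T := d.L_le_T q.2
  refine ⟨(q : G)⁻¹ * t, S.mul_mem (S.inv_mem (d.hTS hqT)) htS, fun h3 => htT ?_, fun c => ?_, ?_⟩
  · have h4 := T.mul_mem hqT h3
    rwa [mul_inv_cancel_left] at h4
  · rw [mul_assoc, htZ, ← mul_assoc, ← d.Z_comm (d.L.inv_mem q.2), mul_assoc]
  · have h3 : t * r = (q : G) * r * (q : G)⁻¹ * t := by
      have e : (q : G) * r * (q : G)⁻¹ * t = ((q : G) * (r * (q : G)⁻¹ * r⁻¹)) * r * t := by group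
      rw [e, h2]
      group
    rw [mul_assoc, h3]
    group

/-- elements of `T` centralising `Z` and commuting with `r` -/
theorem eq_one_of_T {y : G} (hy : y ∈ T) (hZ : ∀ c, y * Z c = Z c * y) (hr : r * y = y * r) : y = 1 := by
  rcases d.mem_T_or hy with h1 | ⟨x, hx, rfl⟩
  · exact d.r_fix h1 hr
  · exfalso
    have h2 := d.s_Z w hx
    rw [hZ] at h2
    have h4 := (toUT d.h).Z_inj (mul_right_cancel h2)
    revert h4
    decide

theorem main [Finite G] : ∃ (Y' : F4 → G) (t : G), UT X Y' Z ∧ SR X Y' Z s r ∧ Swap X Y' Z s r t ∧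
    (∀ g, g ∈ V ↔ ∃ b c, g = Y' b * Z c) ∧
    ∀ g, g ∈ S ↔ ∃ a b c, g = Y' b * X a * Z c ∨ g = Y' b * X a * Z c * s ∨
      g = Y' b * X a * Z c * t ∨ g = Y' b * X a * Z c * t * s := by
  obtain ⟨t, htS, htT, htZ, htr⟩ := d.exists_t_r
  have hsw : d.Sw t := (d.T_or_sw htS).resolve_left htT
  have hss : s * s = 1 := d.hs.ss
  have hsi : s⁻¹ = s := inv_eq_of_mul_eq_one_left hss
  have hsS : s ∈ S := d.hTS d.s_mem_T
  -- `t² = 1`
  have htt : t * t = 1 := by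
    apply d.eq_one_of_T (d.sw_mul hsw hsw (S.mul_mem htS htS))
    · intro c
      rw [mul_assoc, htZ, ← mul_assoc, htZ, mul_assoc]
    · rw [← mul_assoc, ← htr, mul_assoc, ← htr, mul_assoc]
  have hti : t⁻¹ = t := inv_eq_of_mul_eq_one_left htt
  -- `[t, s] = 1`
  have hsr : s * r = r * r * s := by
    have h1 := d.hs.sr
    rw [← h1, mul_assoc (s * r), hss, mul_one]
  have hsr2 : s * (r * r) = r * s := by
    have h3 : r * r * (r * r) = r := by
      have h4 := d.hs.rrr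
      rw [← mul_assoc, h4, one_mul]
    rw [← mul_assoc, hsr, mul_assoc, hsr, ← mul_assoc, h3]
  have hts4 : t * s * (t * s) = 1 := by
    have hsw2 := d.s_sw hsw
    apply d.eq_one_of_T (d.sw_mul hsw2 hsw2
      (S.mul_mem (S.mul_mem htS hsS) (S.mul_mem htS hsS)))
    · intro c
      have h1 : ∀ c, t * s * Z c = Z (fr c) * (t * s) := by
        intro c
        rw [mul_assoc, d.hs.sZ, ← mul_assoc, htZ, mul_assoc]
      have h2 : ∀ c : F4, fr (fr c) = c := by decide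
      rw [mul_assoc (t * s), h1, ← mul_assoc (t * s), h1, h2, mul_assoc]
    · symm
      have e1 : t * s * (t * s) * r = t * s * t * (s * r) := by group
      have e2 : t * s * t * (r * r * s) = t * s * (t * r) * r * s := by group
      have e3 : t * s * (r * t) * r * s = t * s * r * (t * r) * s := by group
      have e4 : t * s * r * (r * t) * s = t * (s * (r * r)) * t * s := by group
      have e5 : t * (r * s) * t * s = t * r * s * t * s := by group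
      have e6 : r * t * s * t * s = r * (t * s * (t * s)) := by group
      rw [e1, hsr, e2, htr, e3, htr, e4, hsr2, e5, htr, e6]
  have hts : t * s = s * t := by
    have h1 : (t * s)⁻¹ = t * s := inv_eq_of_mul_eq_one_left hts4
    rw [mul_inv_rev, hti, hsi] at h1
    exact h1.symm
  -- the conjugates of `X a`
  have hX : ∀ a, ∃ b c, t * X a * t⁻¹ = nf X Y Z 0 b c := fun a =>
    d.mem_V.mp (hsw.2 (X a) (by rw [nf_X d.h]; exact d.nf_mem_W.mpr rfl))
  choose B C hB using hX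
  have hBr : ∀ a, B (w * a) = w * B a := by
    intro a
    have h1 : t * X (w * a) * t⁻¹ = r * (t * X a * t⁻¹) * r⁻¹ := by
      have e : r * (t * X a * t⁻¹) * r⁻¹ = (r * t) * X a * (r * t)⁻¹ := by group
      have e2 : X (w * a) = r * X a * r⁻¹ := by rw [d.hs.rX, mul_inv_cancel_right]
      rw [e, ← htr, e2]
      group
    rw [hB, hB, r_nf d.hs, mul_inv_cancel_right] at h1
    exact (nf_inj d.h h1).2.1
  have hBs : ∀ a, B (fr a) = fr (B a) := by
    intro a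
    have h1 : t * X (fr a) * t⁻¹ = s * (t * X a * t⁻¹) * s⁻¹ := by
      have e : s * (t * X a * t⁻¹) * s⁻¹ = (s * t) * X a * (s * t)⁻¹ := by group
      have e2 : X (fr a) = s * X a * s⁻¹ := by rw [d.hs.sX, mul_inv_cancel_right]
      rw [e, ← hts, e2]
      group
    rw [hB, hB, s_nf d.hs, mul_inv_cancel_right] at h1
    exact (nf_inj d.h h1).2.1
  have hB1 : B 1 = 1 := by
    rcases fr_fix (B 1) (hBs 1).symm with h1 | h1
    · exfalso
      have h2 := hB 1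
      rw [h1, ← nf_Z d.h, mul_inv_eq_iff_eq_mul, ← htZ] at h2
      have h3 := mul_left_cancel h2
      rw [nf_X d.h, nf_Z d.h] at h3
      have h4 := (nf_inj d.h h3).1
      revert h4
      decide
    · exact h1
  have hBa : ∀ a, B a = a := by
    have h0 : B 0 = 0 := by
      have k1 : ∀ a : F4, a = w * a → a = 0 := by decide
      exact k1 _ (hBr 0)
    have hw : B w = w := by
      have h1 := hBr 1
      rw [hB1] at h1
      exact h1
    have hu : B u = u := by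
      have h1 := hBr w
      rw [hw] at h1
      exact h1
    intro a
    cases a
    · exact h0
    · exact hB1
    · exact hw
    · exact hu
  have hY' : ∀ a, t * X a * t⁻¹ = nf X Y Z 0 a (C a) := by
    intro a
    have h1 := hB a
    rwa [hBa] at h1
  refine ⟨fun a => t * X a * t⁻¹, t, ⟨d.h.XX, fun a b => ?_, d.h.ZZ, fun a b => ?_, d.h.ZX, fun c b => ?_,
    d.h.Z1⟩, ⟨hss, d.hs.sX, fun a => ?_, d.hs.sZ, d.hs.rrr, d.hs.rX, fun a => ?_, d.hs.rZ, d.hs.sr⟩,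
    ⟨htt, fun a => ?_, htZ, hts, htr⟩, fun g => ?_, fun g => ?_⟩
  · have e : t * X a * t⁻¹ * (t * X b * t⁻¹) = t * (X a * X b) * t⁻¹ := by group
    rw [e, d.h.XX]
  · rw [hY', nf_X d.h a, nf_Z d.h (a * b), nf_mul d.h, nf_mul d.h, nf_mul d.h]
    exact nf_congr (by ring) (by ring) (by ring)
  · rw [hY', nf_Z d.h c, nf_mul d.h, nf_mul d.h]
    exact nf_congr (by ring) (by ring) (by ring)
  · change s * (t * X a * t⁻¹) = (t * X (fr a) * t⁻¹) * s
    have e1 : s * (t * X a * t⁻¹) = (s * t) * X a * t⁻¹ := by group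
    have e2 : t * s * X a * t⁻¹ = t * (s * X a) * t⁻¹ := by group
    rw [e1, ← hts, e2, d.hs.sX, hti]
    have e3 : t * (X (fr a) * s) * t = t * X (fr a) * (s * t) := by group
    rw [e3, ← hts]
    group
  · change r * (t * X a * t⁻¹) = (t * X (w * a) * t⁻¹) * r
    have e1 : r * (t * X a * t⁻¹) = (r * t) * X a * t⁻¹ := by group
    have e2 : t * r * X a * t⁻¹ = t * (r * X a) * t⁻¹ := by group
    rw [e1, ← htr, e2, d.hs.rX, hti]
    have e3 : t * (X (w * a) * r) * t = t * X (w * a) * (r * t) := by group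
    rw [e3, ← htr]
    group
  · change t * X a = (t * X a * t⁻¹) * t
    group
  · change g ∈ V ↔ ∃ b c, g = (t * X b * t⁻¹) * Z c
    rw [d.mem_V]
    constructor
    · rintro ⟨b, c, rfl⟩
      refine ⟨b, c + C b, ?_⟩
      rw [hY', nf_Z d.h (c + C b), nf_mul d.h]
      refine nf_congr (by ring) (by ring) ?_
      have e : C b + (c + C b) + 0 * 0 = c + (C b + C b) := by ring
      rw [e, add_self, add_zero]
    · rintro ⟨b, c, rfl⟩
      refine ⟨b, C b + c, ?_⟩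
      rw [hY', nf_Z d.h c, nf_mul d.h]
      exact nf_congr (by ring) (by ring) (by ring)
  · change g ∈ S ↔ ∃ a b c, g = (t * X b * t⁻¹) * X a * Z c ∨ g = (t * X b * t⁻¹) * X a * Z c * s ∨
      g = (t * X b * t⁻¹) * X a * Z c * t ∨ g = (t * X b * t⁻¹) * X a * Z c * t * s
    have hnf : ∀ a b c, (t * X b * t⁻¹) * X a * Z c = nf X Y Z a b (c + C b) := by
      intro a b c
      rw [hY', nf_X d.h a, nf_Z d.h c, nf_mul d.h, nf_mul d.h]
      exact nf_congr (by ring) (by ring) (by ring)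
    have hnf' : ∀ a b c, nf X Y Z a b c = (t * X b * t⁻¹) * X a * Z (c + C b) := by
      intro a b c
      rw [hnf]
      refine nf_congr rfl rfl ?_
      rw [add_assoc, add_self, add_zero]
    have hT' : ∀ g, g ∈ T ↔ ∃ a b c, g = (t * X b * t⁻¹) * X a * Z c ∨
        g = (t * X b * t⁻¹) * X a * Z c * s := by
      intro g
      rw [d.hT]
      constructor
      · rintro ⟨a, b, c, h1⟩
        refine ⟨a, b, c + C b, ?_⟩
        rw [← hnf']
        exact h1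
      · rintro ⟨a, b, c, h1⟩
        refine ⟨a, b, c + C b, ?_⟩
        rw [hnf] at h1
        exact h1
    constructor
    · intro hg
      rcases d.T_or_sw hg with h1 | h1
      · obtain ⟨a, b, c, h2⟩ := (hT' g).mp h1
        refine ⟨a, b, c, ?_⟩
        rcases h2 with h2 | h2
        · exact Or.inl h2
        · exact Or.inr (Or.inl h2)
      · obtain ⟨a, b, c, h2⟩ := (hT' _).mp (d.sw_mul h1 hsw (S.mul_mem hg htS))
        refine ⟨a, b, c, ?_⟩
        have hg' : g = g * t * t := by rw [mul_assoc, htt, mul_one]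
        rcases h2 with h2 | h2
        · right; right; left
          rw [hg', h2]
        · right; right; right
          rw [hg', h2, mul_assoc _ s t, ← hts, ← mul_assoc]
    · rintro ⟨a, b, c, h1⟩
      have h2 : (t * X b * t⁻¹) * X a * Z c ∈ S := d.hTS ((hT' _).mpr ⟨a, b, c, Or.inl rfl⟩)
      rcases h1 with h1 | h1 | h1 | h1
      · rw [h1]; exact h2
      · rw [h1]; exact S.mul_mem h2 hsS
      · rw [h1]; exact S.mul_mem h2 htS
      · rw [h1]; exact S.mul_mem (S.mul_mem h2 htS) hsS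

end Dat

/-- **Step (0) of the group of order 256** (form wanted by `helper130`). -/
theorem exists_swap [Finite G] {X Y Z : F4 → G} {s r : G} (h : UT X Y Z) (hs : SR X Y Z s r)
    {V T S : Subgroup G} (hV : ∀ g, g ∈ V ↔ ∃ b c, g = Y b * Z c)
    (hT : ∀ g, g ∈ T ↔ ∃ a b c, g = Y b * X a * Z c ∨ g = Y b * X a * Z c * s)
    (hS : IsPGroup 2 S) (hTS : T ≤ S) (hne : T ≠ S)
    (hSV : ∀ g ∈ S, (∀ v ∈ V, g * v * g⁻¹ ∈ V) → g ∈ T)
    (hC : ∀ g, (∀ v ∈ V, g * v = v * g) → g ∈ V)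
    (hcard : ¬ 256 ∣ Nat.card (normalizer (V : Set G))) :
    ∃ (Y' : F4 → G) (t : G), UT X Y' Z ∧ SR X Y' Z s r ∧ Swap X Y' Z s r t ∧
      (∀ g, g ∈ V ↔ ∃ b c, g = Y' b * Z c) ∧
      ∀ g, g ∈ S ↔ ∃ a b c, g = Y' b * X a * Z c ∨ g = Y' b * X a * Z c * s ∨
        g = Y' b * X a * Z c * t ∨ g = Y' b * X a * Z c * t * s :=
  Dat.main ⟨h, hs, hV, hT, hS, hTS, hne, hSV, hC, hcard⟩

end Cfsg.Agent.GH.C2Grow256Zero
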