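import Cfsg.Agent.GH.C2GrowTrans
import Cfsg.Agent.GH.C2Grow256Zero
import Cfsg.Agent.GH.C2Frame

/-!
# GH-C2, growth: in the cases (N2) the Sylow 2-subgroup of `M` is a Sylow 2-subgroup of `G`
-/

set_option autoImplicit false

namespace Cfsg.Agent.GH.C2GrowN2Dead

open Subgroup Cfsg Cfsg.Agent.ZN Cfsg.Agent.MinSimple.MinParabolic Cfsg.Agent.MinSimple.VModule
open Cfsg.Agent.MinSimple.Basic
open Cfsg.Agent.J2Sylow.Model Cfsg.Agent.GH.C2Rel Cfsg.Agent.GH.C2Frame

universe u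

variable {G : Type u} [Group G]

/-- A nonabelian simple group has no homomorphism onto `±1`. -/
theorem hom_eq_one (hs : IsSimpleGroup G) (hn : ∃ a b : G, a * b ≠ b * a) (f : G →* ℤˣ) (g : G) :
    f g = 1 := by
  rcases (inferInstance : f.ker.Normal).eq_bot_or_eq_top with h1 | h1
  · exfalso
    obtain ⟨a, b, hab⟩ := hn
    apply hab
    apply (MonoidHom.ker_eq_bot_iff f).mp h1
    rw [map_mul, map_mul, mul_comm]
  · have h2 : g ∈ f.ker := h1 ▸ mem_top g
    exact h2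

theorem card_T_le [Finite G] {X Y Z : F4 → G} {s : G} {T : Subgroup G}
    (hTm : ∀ g, g ∈ T ↔ ∃ a b c, g = Y b * X a * Z c ∨ g = Y b * X a * Z c * s) :
    Nat.card T ≤ 128 := by
  have h1 : Nat.card (F4 × F4 × F4 × Bool) = 128 := by
    rw [Nat.card_eq_fintype_card]; rfl
  rw [← h1]
  let f : F4 × F4 × F4 × Bool → T := fun p =>
    ⟨Y p.2.1 * X p.1 * Z p.2.2.1 * (if p.2.2.2 then s else 1), (hTm _).mpr ⟨p.1, p.2.1, p.2.2.1, by
      cases p.2.2.2
      · left; simp
      · right; simp⟩⟩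
  refine Nat.card_le_card_of_surjective f ?_
  rintro ⟨g, hg⟩
  obtain ⟨a, b, c, rfl | rfl⟩ := (hTm g).mp hg
  · exact ⟨(a, b, c, false), Subtype.ext (by simp [f])⟩
  · exact ⟨(a, b, c, true), Subtype.ext (by simp [f])⟩

/-- (N2), `T < S` is impossible. -/
theorem eq_sylow [Finite G] (hs : IsSimpleGroup G) (hn : ∃ a b : G, a * b ≠ b * a)
    (hr : SectionalPRankLE 2 4 G) (hchar : IsCharacteristicTwoType G) {M T : Subgroup G}
    (hM : MaxLocal M T) {X Y Z : F4 → G} {s r : G} (hu : UT X Y Z) (hsr : SR X Y Z s r)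
    (hVm : ∀ g, g ∈ o2 M ↔ ∃ b c, g = Y b * Z c)
    (hTm : ∀ g, g ∈ T ↔ ∃ a b c, g = Y b * X a * Z c ∨ g = Y b * X a * Z c * s)
    (h5 : 5 ∣ Nat.card M) (S : Sylow 2 G) (hTS : T ≤ S) : T = S := by
  by_contra hne
  have hf : Fact (Nat.Prime 2) := ⟨Nat.prime_two⟩
  have hcT := card_T_le hTm
  have hC : ∀ g, (∀ v ∈ o2 M, g * v = v * g) → g ∈ o2 M := fun g hg =>
    hM.cent_le (mem_centralizer_iff.mpr fun v hv => (hg v hv).symm)
  have hcard : ¬ 256 ∣ Nat.card (normalizer (o2 M : Set G)) := by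
    rw [hM.eq]
    intro h1
    obtain ⟨P⟩ : Nonempty (Sylow 2 M) := inferInstance
    have h2 : 256 ∣ Nat.card (P : Subgroup M) := by
      have := Sylow.pow_dvd_card_of_pow_dvd_card (G := M) (p := 2) (n := 8) P (by
        rw [show 2 ^ 8 = 256 by norm_num]; exact h1)
      rwa [show 2 ^ 8 = 256 by norm_num] at this
    have h3 : IsPGroup 2 (T.subgroupOf M) := hM.pT.comap_of_injective _ M.subtype_injective
    have h4 : Nat.card T = Nat.card (P : Subgroup M) := by
      have h5 : ¬ 2 ∣ (T.subgroupOf M).index := hM.syl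
      have h6 : Nat.card ((h3.toSylow h5 : Sylow 2 M) : Subgroup M) = Nat.card (P : Subgroup M) := by
        rw [Sylow.card_eq_multiplicity, Sylow.card_eq_multiplicity]
      rw [← h6]
      exact (Nat.card_congr (subgroupOfEquivOfLe hM.le).toEquiv).symm
    have h5 := Nat.le_of_dvd Nat.card_pos h2
    omega
  have hsol : ∀ N : Subgroup G, IsTwoLocal N → 256 ∣ Nat.card N → Group.IsSolvable N := by
    rintro _ ⟨U, hU, hU1, rfl⟩ h1
    set N := normalizer (U : Set G) with hN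
    obtain ⟨P⟩ : Nonempty (Sylow 2 N) := inferInstance
    have h2 : 256 ∣ Nat.card (P : Subgroup N) := by
      have := Sylow.pow_dvd_card_of_pow_dvd_card (G := N) (p := 2) (n := 8) P (by
        rw [show 2 ^ 8 = 256 by norm_num]; exact h1)
      rwa [show 2 ^ 8 = 256 by norm_num] at this
    have h3 := Nat.le_of_dvd Nat.card_pos h2
    refine hM.solv U hU hU1 ((P : Subgroup N).map N.subtype) (P.isPGroup'.map _)
      (map_subtype_le _) ?_
    rw [card_map_of_injective N.subtype_injective]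
    omega
  have hSV : ∀ g ∈ (S : Subgroup G), (∀ v ∈ o2 M, g * v * g⁻¹ ∈ o2 M) → g ∈ T := by
    intro g hg hgV
    have hgM : g ∈ M := by
      rw [← hM.eq]
      exact C2GrowG.mem_normalizer_of hgV
    have h1 := hM.eq_T (R := (S : Subgroup G) ⊓ M) (S.isPGroup'.to_le inf_le_left) inf_le_right
      (le_inf hTS hM.le)
    rw [← h1]
    exact mem_inf.mpr ⟨hg, hgM⟩
  obtain ⟨Y', t, hu', hsr', ht, hVm', hSm⟩ := C2Grow256Zero.exists_swap hu hsr hVm hTm S.isPGroup' hTS
    hne hSV hC hcard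
  refine C2Grow256.dead_of_rel S hu' hsr' ht hSm hchar hr (hom_eq_one hs hn) hsol ?_
  exact C2GrowTrans.conj_all hu' hsr' hVm' hC (by rw [hM.eq]; exact h5)

end Cfsg.Agent.GH.C2GrowN2Dead
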