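import Mathlib
import Cfsg.Agent.GH.C2Frame
import Cfsg.Agent.GH.C2GrowG

/-!
# GH-C2, growth of `A₅` in the orthogonal action (case (O1))

`V` elementary of order 16, `T / V` of order 4 and `V` generated by one `T`-class (a free module):
`V` is the only elementary subgroup of order 16 of `T`, so `N_G(T) ≤ N_G(V)` and `T` does not grow.
-/

set_option autoImplicit false

namespace Cfsg.Agent.GH.C2GrowO1

open Subgroup Cfsg Cfsg.Agent.GH.C2GrowG

variable {G : Type*} [Group G] [Finite G]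

omit [Finite G] in
theorem comm_of_sq {V : Subgroup G} (sq : ∀ v ∈ V, v * v = 1) {x y : G} (hx : x ∈ V) (hy : y ∈ V) :
    x * y = y * x := by
  have h1 := sq (x * y) (V.mul_mem hx hy)
  have hx2 := sq x hx
  have hy2 := sq y hy
  calc x * y = x * y * (y * x) * (y * x)⁻¹ := by group
    _ = x * (y * y) * x * (y * x)⁻¹ := by group
    _ = (y * x)⁻¹ := by rw [hy2, mul_one, hx2, one_mul]
    _ = x⁻¹ * y⁻¹ := by group
    _ = y * x := by
      have e1 : x⁻¹ = x := inv_eq_of_mul_eq_one_left hx2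
      have e2 : y⁻¹ = y := inv_eq_of_mul_eq_one_left hy2
      rw [e1, e2]
      have h2 : x * y * (x * y) * (y * x) = y * x := by rw [h1, one_mul]
      have h3 : x * y * (x * y) * (y * x) = x * y := by
        calc x * y * (x * y) * (y * x) = x * y * (x * (y * y) * x) := by group
          _ = x * y := by rw [hy2, mul_one, hx2, mul_one]
      rw [← h3, h2]

omit [Finite G] in
theorem le_norm_of_sq {V A : Subgroup G} (sq : ∀ v ∈ V, v * v = 1) (hA : A ≤ V) {B : Subgroup G} (hB : B ≤ V) :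
    A ≤ normalizer (B : Set G) := by
  intro x hx
  rw [mem_normalizer_iff]
  intro y
  constructor
  · intro hy
    rw [comm_of_sq sq (hA hx) (hB hy), mul_inv_cancel_right]
    exact hy
  · intro hy
    have h1 : y = x⁻¹ * (x * y * x⁻¹) * x := by group
    have h2 : x⁻¹ * (x * y * x⁻¹) = (x * y * x⁻¹) * x⁻¹ :=
      comm_of_sq sq (V.inv_mem (hA hx)) (hB hy)
    rw [h1, h2]
    have h3 : x * y * x⁻¹ * x⁻¹ * x = x * y * x⁻¹ := by group
    rw [h3]
    exact hy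

/-- the order of a product of subgroups of an elementary abelian group -/
theorem card_sup_le {V A B : Subgroup G} (sq : ∀ v ∈ V, v * v = 1) (hA : A ≤ V) (hB : B ≤ V) :
    Nat.card (A ⊔ B : Subgroup G) ≤ Nat.card A * Nat.card B := by
  have h1 := card_sup (le_norm_of_sq sq hA hB)
  have h2 : 0 < Nat.card (A ⊓ B : Subgroup G) := Nat.card_pos
  nlinarith

omit [Finite G] in
theorem card_zpowers_le {V : Subgroup G} (sq : ∀ v ∈ V, v * v = 1) {x : G} (hx : x ∈ V) :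
    Nat.card (zpowers x) ≤ 2 := by
  rw [Nat.card_zpowers]
  exact Nat.le_of_dvd (by norm_num) (orderOf_dvd_of_pow_eq_one (by rw [pow_two]; exact sq x hx))

/-- the homomorphism `v ↦ v (w v w⁻¹)` -/
def comm {V : Subgroup G} (sq : ∀ v ∈ V, v * v = 1) {w : G} (hw : w ∈ normalizer (V : Set G)) : V →* V where
  toFun v := ⟨v * (w * v * w⁻¹), V.mul_mem v.2 (conj_mem hw v.2)⟩
  map_one' := by
    apply Subtype.ext
    change (1 : G) * (w * 1 * w⁻¹) = 1
    group
  map_mul' x y := by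
    apply Subtype.ext
    change (x : G) * y * (w * (x * y) * w⁻¹) = (x * (w * x * w⁻¹)) * (y * (w * y * w⁻¹))
    have h1 : (y : G) * (w * x * w⁻¹) = (w * x * w⁻¹) * y := comm_of_sq sq y.2 (conj_mem hw x.2)
    calc (x : G) * y * (w * (x * y) * w⁻¹) = x * (y * (w * x * w⁻¹)) * (w * y * w⁻¹) := by group
      _ = x * ((w * x * w⁻¹) * y) * (w * y * w⁻¹) := by rw [h1]
      _ = _ := by group

omit [Finite G] in
theorem mem_of_cover {V T : Subgroup G} (hVT : V ≤ T) (hTN : T ≤ normalizer (V : Set G))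
    (cV : Nat.card V = 16) (cT : Nat.card T = 64) {w : G} (hw : w ∈ T) (hwV : w ∉ V) (hw2 : w * w ∈ V) :
    ∃ s ∈ T, ∀ t ∈ T, ∃ v ∈ V, t = v ∨ t = v * w ∨ t = v * s ∨ t = v * w * s := by
  classical
  -- `U = V ⟨w⟩`
  let U : Subgroup G :=
    { carrier := {x | x ∈ V ∨ ∃ v ∈ V, x = v * w}
      one_mem' := Or.inl V.one_mem
      mul_mem' := by
        have hwN := hTN hw
        rintro a b (ha | ⟨v, hv, rfl⟩) (hb | ⟨u, hu, rfl⟩)
        · exact Or.inl (V.mul_mem ha hb)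
        · exact Or.inr ⟨a * u, V.mul_mem ha hu, by group⟩
        · exact Or.inr ⟨v * (w * b * w⁻¹), V.mul_mem hv (conj_mem hwN hb), by group⟩
        · left
          have h1 : v * w * (u * w) = v * (w * u * w⁻¹) * (w * w) := by group
          rw [h1]
          exact V.mul_mem (V.mul_mem hv (conj_mem hwN hu)) hw2
      inv_mem' := by
        have hwN := hTN hw
        rintro a (ha | ⟨v, hv, rfl⟩)
        · exact Or.inl (V.inv_mem ha)
        · right
          refine ⟨w⁻¹ * v⁻¹ * w * (w * w)⁻¹, ?_, by group⟩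
          have h1 : w⁻¹ * v⁻¹ * w ∈ V := by
            have := conj_mem (inv_mem hwN) (V.inv_mem hv)
            rwa [inv_inv] at this
          exact V.mul_mem h1 (V.inv_mem hw2) }
  have hUm : ∀ x, x ∈ U ↔ (x ∈ V ∨ ∃ v ∈ V, x = v * w) := fun x => Iff.rfl
  have hVU : V ≤ U := fun x hx => Or.inl hx
  have hUT : U ≤ T := by
    rintro x (hx | ⟨v, hv, rfl⟩)
    · exact hVT hx
    · exact T.mul_mem (hVT hv) hw
  have hwU : w ∈ U := Or.inr ⟨1, V.one_mem, by group⟩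
  -- `|U| = 32`
  have hi : V.relIndex U = 2 := by
    rw [Subgroup.relIndex_eq_two_iff_exists_notMem_and]
    refine ⟨w⁻¹, U.inv_mem hwU, fun h => hwV (by simpa using V.inv_mem h), ?_⟩
    intro b hb
    rcases hb with hb | ⟨v, hv, rfl⟩
    · exact Or.inr hb
    · left
      rwa [mul_inv_cancel_right]
  have hcU : Nat.card U = 32 := by
    have h1 := Subgroup.relIndex_mul_relIndex ⊥ V U bot_le hVU
    rw [relIndex_bot_left, relIndex_bot_left, hi, cV] at h1
    omega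
  have hiU : U.relIndex T = 2 := by
    have h1 := Subgroup.relIndex_mul_relIndex ⊥ U T bot_le hUT
    rw [relIndex_bot_left, relIndex_bot_left, hcU, cT] at h1
    omega
  obtain ⟨s', hs', hsU, hcov⟩ := Subgroup.relIndex_eq_two_iff_exists_notMem_and.1 hiU
  refine ⟨s'⁻¹, T.inv_mem hs', fun t ht => ?_⟩
  rcases hcov t ht with h1 | h1
  · rcases (hUm _).1 h1 with h2 | ⟨v, hv, h2⟩
    · exact ⟨_, h2, Or.inr (Or.inr (Or.inl (by group)))⟩
    · exact ⟨v, hv, Or.inr (Or.inr (Or.inr (by rw [← h2]; group)))⟩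
  · rcases (hUm _).1 h1 with h2 | ⟨v, hv, h2⟩
    · exact ⟨_, h2, Or.inl rfl⟩
    · exact ⟨v, hv, Or.inr (Or.inl h2)⟩

/-- an involution outside `V` centralises at most 4 elements of `V` -/
theorem card_cent_le {V T : Subgroup G} (hVT : V ≤ T) (hTN : T ≤ normalizer (V : Set G))
    (cV : Nat.card V = 16) (sq : ∀ v ∈ V, v * v = 1) (cT : Nat.card T = 64) {v₀ : G} (hv₀ : v₀ ∈ V)
    (gen : V ≤ closure {x | ∃ t ∈ T, x = t * v₀ * t⁻¹}) {w : G} (hw : w ∈ T) (hwV : w ∉ V)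
    (hw2 : w * w ∈ V) : Nat.card (comm sq (hTN hw)).ker ≤ 4 := by
  obtain ⟨s, hs, hcov⟩ := mem_of_cover hVT hTN cV cT hw hwV hw2
  set f := comm sq (hTN hw) with hf
  have hfv : ∀ v : V, (f v : G) = v * (w * v * w⁻¹) := fun v => rfl
  have h1 : Nat.card f.ker * Nat.card f.range = 16 := by
    rw [← cV, ← Nat.card_congr (QuotientGroup.quotientKerEquivRange f).toEquiv, mul_comm]
    exact (Subgroup.card_eq_card_quotient_mul_card_subgroup f.ker).symm
  set I := f.range.map V.subtype with hI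
  have hIV : I ≤ V := map_subtype_le _
  have hIc : Nat.card I = Nat.card f.range := card_map_of_injective V.subtype_injective
  have hsv : s * v₀ * s⁻¹ ∈ V := conj_mem (hTN hs) hv₀
  have hgenB : V ≤ I ⊔ (zpowers v₀ ⊔ zpowers (s * v₀ * s⁻¹)) := by
    refine gen.trans ((closure_le _).2 ?_)
    have m1 : v₀ ∈ I ⊔ (zpowers v₀ ⊔ zpowers (s * v₀ * s⁻¹)) :=
      mem_sup_right (mem_sup_left (mem_zpowers _))
    have m2 : s * v₀ * s⁻¹ ∈ I ⊔ (zpowers v₀ ⊔ zpowers (s * v₀ * s⁻¹)) :=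
      mem_sup_right (mem_sup_right (mem_zpowers _))
    have m3 : ∀ v ∈ V, v * (w * v * w⁻¹) ∈ I ⊔ (zpowers v₀ ⊔ zpowers (s * v₀ * s⁻¹)) := fun v hv =>
      mem_sup_left ⟨f ⟨v, hv⟩, ⟨⟨v, hv⟩, rfl⟩, rfl⟩
    have m4 : ∀ v ∈ V, v ∈ I ⊔ (zpowers v₀ ⊔ zpowers (s * v₀ * s⁻¹)) →
        w * v * w⁻¹ ∈ I ⊔ (zpowers v₀ ⊔ zpowers (s * v₀ * s⁻¹)) := by
      intro v hv hvB
      have := mul_mem (inv_mem hvB) (m3 v hv)
      rwa [inv_mul_cancel_left] at this
    have hcv : ∀ v ∈ V, ∀ u ∈ V, v * u * v⁻¹ = u := fun v hv u hu => by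
      rw [comm_of_sq sq hv hu, mul_inv_cancel_right]
    rintro _ ⟨t, ht, rfl⟩
    obtain ⟨v, hv, h2 | h2 | h2 | h2⟩ := hcov t ht
    · rw [h2, hcv v hv v₀ hv₀]; exact m1
    · have h3 : t * v₀ * t⁻¹ = v * (w * v₀ * w⁻¹) * v⁻¹ := by rw [h2]; group
      rw [h3, hcv v hv _ (conj_mem (hTN hw) hv₀)]
      exact m4 v₀ hv₀ m1
    · have h3 : t * v₀ * t⁻¹ = v * (s * v₀ * s⁻¹) * v⁻¹ := by rw [h2]; group
      rw [h3, hcv v hv _ hsv]
      exact m2
    · have h3 : t * v₀ * t⁻¹ = v * (w * (s * v₀ * s⁻¹) * w⁻¹) * v⁻¹ := by rw [h2]; group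
      rw [h3, hcv v hv _ (conj_mem (hTN hw) hsv)]
      exact m4 _ hsv m2
  have h2 : 16 ≤ Nat.card I * 4 := by
    rw [← cV]
    refine (Subgroup.card_le_of_le hgenB).trans ?_
    have hz : zpowers v₀ ⊔ zpowers (s * v₀ * s⁻¹) ≤ V := sup_le (zpowers_le.2 hv₀) (zpowers_le.2 hsv)
    refine (card_sup_le sq hIV hz).trans (Nat.mul_le_mul_left _ ?_)
    refine (card_sup_le sq (zpowers_le.2 hv₀) (zpowers_le.2 hsv)).trans ?_
    exact Nat.mul_le_mul (card_zpowers_le sq hv₀) (card_zpowers_le sq hsv)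
  rw [hIc] at h2
  by_contra hcon
  push Not at hcon
  have h3 : 4 ≤ Nat.card f.range := by omega
  nlinarith

/-- **`V` is the only elementary subgroup of order 16 of `T`** -/
theorem uniq {V T : Subgroup G} (hVT : V ≤ T) (hTN : T ≤ normalizer (V : Set G))
    (cV : Nat.card V = 16) (sq : ∀ v ∈ V, v * v = 1) (cT : Nat.card T = 64) {v₀ : G} (hv₀ : v₀ ∈ V)
    (gen : V ≤ closure {x | ∃ t ∈ T, x = t * v₀ * t⁻¹}) {W : Subgroup G} (hWT : W ≤ T)
    (cW : Nat.card W = 16) (sqW : ∀ w ∈ W, w * w = 1) : W = V := by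
  by_contra hne
  obtain ⟨w, hw, hwV⟩ : ∃ w ∈ W, w ∉ V := by
    by_contra hcon
    push Not at hcon
    exact hne (eq_of_le_of_card_ge hcon (by rw [cW, cV]))
  -- orders
  have h1 := card_sup (K := V) (H := W) (hWT.trans hTN)
  rw [cW, cV] at h1
  have h2 : Nat.card (W ⊔ V : Subgroup G) ≤ 64 := by
    rw [← cT]; exact Subgroup.card_le_of_le (sup_le hWT hVT)
  have h3 : 4 ≤ Nat.card (W ⊓ V : Subgroup G) := by
    by_contra hcon
    push Not at hcon
    have : Nat.card (W ⊔ V : Subgroup G) * Nat.card (W ⊓ V : Subgroup G) ≤ 64 * 3 :=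
      Nat.mul_le_mul h2 (by omega)
    omega
  -- for `u ∈ W - V` the intersection is the centraliser of `u` in `V`
  have key : ∀ u (hu : u ∈ W), u ∉ V → ((comm sq (hTN (hWT hu))).ker.map V.subtype) = W ⊓ V ∧
      Nat.card (W ⊓ V : Subgroup G) ≤ 4 := by
    intro u hu huV
    have h4 := card_cent_le hVT hTN cV sq cT hv₀ gen (hWT hu) huV (by rw [sqW u hu]; exact V.one_mem)
    have h5 : W ⊓ V ≤ (comm sq (hTN (hWT hu))).ker.map V.subtype := by
      rintro x ⟨hxW, hxV⟩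
      refine ⟨⟨x, hxV⟩, ?_, rfl⟩
      rw [SetLike.mem_coe, MonoidHom.mem_ker]
      apply Subtype.ext
      change x * (u * x * u⁻¹) = 1
      rw [comm_of_sq sqW hu hxW, mul_inv_cancel_right, sq x hxV]
    have h6 : Nat.card ((comm sq (hTN (hWT hu))).ker.map V.subtype) ≤ 4 := by
      rw [card_map_of_injective V.subtype_injective]; exact h4
    exact ⟨(eq_of_le_of_card_ge h5 (h6.trans h3)).symm, (Subgroup.card_le_of_le h5).trans h6⟩
  have h4 : Nat.card (W ⊓ V : Subgroup G) = 4 := le_antisymm (key w hw hwV).2 h3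
  rw [h4] at h1
  have h5 : W ⊔ V = T := eq_of_le_of_card_ge (sup_le hWT hVT) (by rw [cT]; omega)
  -- all conjugates of `v₀` lie in `(W ∩ V) ⟨v₀⟩`
  have h6 : V ≤ (W ⊓ V) ⊔ zpowers v₀ := by
    refine gen.trans ((closure_le _).2 ?_)
    rintro _ ⟨t, ht, rfl⟩
    rw [← h5, sup_comm] at ht
    obtain ⟨v, hv, u, hu, rfl⟩ : ∃ v ∈ V, ∃ u ∈ W, t = v * u := by
      have : t ∈ ((V ⊔ W : Subgroup G) : Set G) := ht
      rw [Subgroup.coe_mul_of_right_le_normalizer_left V W (hWT.trans hTN)] at this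
      obtain ⟨v, hv, u, hu, h⟩ := this
      exact ⟨v, hv, u, hu, h.symm⟩
    have huN := hTN (hWT hu)
    have h7 : v * u * v₀ * (v * u)⁻¹ = u * v₀ * u⁻¹ := by
      have h8 : v * u * v₀ * (v * u)⁻¹ = v * (u * v₀ * u⁻¹) * v⁻¹ := by group
      rw [h8, comm_of_sq sq hv (conj_mem huN hv₀), mul_inv_cancel_right]
    rw [h7]
    have hv₀m : v₀ ∈ (W ⊓ V) ⊔ zpowers v₀ := mem_sup_right (mem_zpowers _)
    by_cases huV : u ∈ V
    · rw [comm_of_sq sq huV hv₀, mul_inv_cancel_right]; exact hv₀m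
    · have h8 : v₀ * (u * v₀ * u⁻¹) ∈ W ⊓ V := by
        rw [← (key u hu huV).1]
        refine ⟨⟨v₀ * (u * v₀ * u⁻¹), V.mul_mem hv₀ (conj_mem huN hv₀)⟩, ?_, rfl⟩
        rw [SetLike.mem_coe, MonoidHom.mem_ker]
        apply Subtype.ext
        change v₀ * (u * v₀ * u⁻¹) * (u * (v₀ * (u * v₀ * u⁻¹)) * u⁻¹) = 1
        have huu := sqW u hu
        have hui : u⁻¹ = u := inv_eq_of_mul_eq_one_left huu
        have h9 : u * (v₀ * (u * v₀ * u⁻¹)) * u⁻¹ = (u * v₀ * u⁻¹) * v₀ := by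
          calc u * (v₀ * (u * v₀ * u⁻¹)) * u⁻¹ = (u * v₀ * u⁻¹) * ((u * u) * v₀ * (u * u)⁻¹) := by group
            _ = (u * v₀ * u⁻¹) * v₀ := by rw [huu]; group
        rw [h9]
        have h10 := sq _ (conj_mem huN hv₀)
        calc v₀ * (u * v₀ * u⁻¹) * (u * v₀ * u⁻¹ * v₀) = v₀ * ((u * v₀ * u⁻¹) * (u * v₀ * u⁻¹)) * v₀ := by
              group
          _ = 1 := by rw [h10, mul_one, sq v₀ hv₀]
      have h9 : u * v₀ * u⁻¹ = v₀⁻¹ * (v₀ * (u * v₀ * u⁻¹)) := by group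
      rw [h9]
      exact mul_mem (inv_mem hv₀m) (mem_sup_left h8)
  have h7 := (Subgroup.card_le_of_le h6).trans (card_sup_le sq inf_le_right (zpowers_le.2 hv₀))
  have h8 := card_zpowers_le sq hv₀
  rw [cV, h4] at h7
  omega

/-- `N_G(T) ≤ N_G(V)` -/
theorem normalizer_le {V T : Subgroup G} (hVT : V ≤ T) (hTN : T ≤ normalizer (V : Set G))
    (cV : Nat.card V = 16) (sq : ∀ v ∈ V, v * v = 1) (cT : Nat.card T = 64) {v₀ : G} (hv₀ : v₀ ∈ V)
    (gen : V ≤ closure {x | ∃ t ∈ T, x = t * v₀ * t⁻¹}) :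
    normalizer (T : Set G) ≤ normalizer (V : Set G) := by
  intro g hg
  have h1 : V.map (MulAut.conj g).toMonoidHom = V := by
    apply uniq hVT hTN cV sq cT hv₀ gen
    · rintro _ ⟨v, hv, rfl⟩
      exact conj_mem hg (hVT hv)
    · rw [card_map_of_injective (MulAut.conj g).injective, cV]
    · rintro _ ⟨v, hv, rfl⟩
      change (g * v * g⁻¹) * (g * v * g⁻¹) = 1
      calc (g * v * g⁻¹) * (g * v * g⁻¹) = g * (v * v) * g⁻¹ := by group
        _ = 1 := by rw [sq v hv]; group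
  apply mem_normalizer_of
  intro x hx
  rw [← h1]
  exact ⟨x, hx, rfl⟩

/-- **case (O1)**: `T` is a Sylow 2-subgroup of `G` -/
theorem eq_of_free {M T : Subgroup G} (h : C2Frame.MaxLocal M T) (cV : Nat.card (ZN.o2 M) = 16)
    (sq : ∀ v ∈ ZN.o2 M, v * v = 1) (cT : Nat.card T = 64) {v₀ : G} (hv₀ : v₀ ∈ ZN.o2 M)
    (gen : ZN.o2 M ≤ closure {x | ∃ t ∈ T, x = t * v₀ * t⁻¹}) {S : Subgroup G} (hS : IsPGroup 2 S)
    (hTS : T ≤ S) : T = S := by
  refine h.eq_of_norm (normalizer_le h.o2_le_T ?_ cV sq cT hv₀ gen) hS hTS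
  rw [h.eq]
  exact h.le

end Cfsg.Agent.GH.C2GrowO1
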