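import Cfsg.Agent.GH.Models.PSL45
import Cfsg.Agent.GH.Models.PSL43
import Cfsg.Agent.GH.Models.PSp43
import Cfsg.Agent.GH.Models.UT34
import Cfsg.Agent.GH.Models.G23

/-!
# GH-C2: the explicit 2-groups are targets (`SType`)
-/

set_option autoImplicit false

namespace Cfsg.Agent.GH.C2Types

open Cfsg.Agent.GH.PcTypes Cfsg.Agent.GH.Defs

variable {S : Type*} [Group S]

theorem sType_UT34 (h : IsType UT34 S) : SType S :=
  Or.inr (Or.inr (Or.inr (Or.inr (Or.inl (Models.UT34.typeL34 h)))))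

theorem sType_W24 (h : IsType W24 S) : SType S :=
  Or.inr (Or.inr (Or.inr (Or.inr (Or.inr (Or.inl (Models.PSp43.typeSp4 h))))))

theorem sType_W8 (h : IsType W8 S) : SType S :=
  Or.inr (Or.inr (Or.inr (Or.inr (Or.inr (Or.inr (Or.inl (Models.PSL43.typeL4 h)))))))

theorem sType_M22T (h : IsType M22T S) : SType S :=
  Or.inr (Or.inr (Or.inr (Or.inr (Or.inr (Or.inr (Or.inl (Models.PSL45.typeL4 h)))))))

theorem sType_G23 (h : IsType G23 S) : SType S :=
  Or.inr (Or.inr (Or.inr (Or.inr (Or.inr (Or.inr (Or.inr (Or.inr (Models.G23.typeG2 h))))))))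

theorem sType_J2 (h : SylOf S Cfsg.Spor.J2) : SType S := Or.inr (Or.inr (Or.inl h))

end Cfsg.Agent.GH.C2Types
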