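import Cfsg.Agent.GH.C2GrowFree
import Cfsg.Agent.GH.C2Extra

/-!
# GH-C2, growth, lemma (G): final form (helper445)

`G` of characteristic 2 type, `V` elementary of order 16 with `C_G(V) = V`, `N_G(V)/V ≅ Y` acting on `V`
as `S₅` (orthogonal) or `A₆`: if the Sylow 2-subgroups of `G` have order greater than 128, then
`F*(C_G(z))` is extraspecial of order 32 for some involution `z`.
-/

set_option autoImplicit false

namespace Cfsg.Agent.GH.C2GrowIn

open Cfsg Subgroup C2GrowG C2GrowFree C2Extra

/-- The action. `P` a Sylow 2-subgroup of `Y` (dihedral of order 8), `a, b ∈ P` generate a four-group,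
permuted by `y`; the module is free over `⟨a, b⟩`, with generator `v` of norm `z`. -/
structure GIn {Y W : Type*} [Group Y] [Group W] (φ : Y →* MulAut W) (P : Subgroup Y) (z v : W)
    (a b y : Y) : Prop where
  pP : IsPGroup 2 P
  cardP : Nat.card P = 8
  syl : ∀ Q : Subgroup Y, IsPGroup 2 Q → P ≤ Q → Q ≤ P
  na : ∃ c ∈ P, ∃ k : Y, (k = a ∨ k = b) ∧ c * k ≠ k * c
  aP : a ∈ P
  bP : b ∈ P
  a1 : a ≠ 1
  aa : a * a = 1
  bb : b * b = 1
  ab : a * b = b * a
  ya : y * a * y⁻¹ = b
  yb : y * b * y⁻¹ = a * b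
  zP : ∀ x ∈ P, φ x z = z
  yz : φ y z = z
  z_ne : z ≠ 1
  norm : v * φ a v * φ b v * φ (a * b) v = z

section

variable {G : Type*} [Group G]

theorem normalizer_zpowers_eq {z : G} (hz : z * z = 1) :
    normalizer ((zpowers z : Subgroup G) : Set G) = centralizer ({z} : Set G) := by
  have hz2 : z ^ 2 = 1 := by rw [pow_two]; exact hz
  apply le_antisymm
  · intro g hg
    rw [mem_centralizer_singleton_iff]
    by_cases h1 : z = 1
    · rw [h1]; simp
    have h2 := (mem_normalizer_iff.mp hg z).mp (mem_zpowers z)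
    have h3 : g * z * g⁻¹ = 1 ∨ g * z * g⁻¹ = z := by
      obtain ⟨k, hk⟩ := mem_zpowers_iff.mp h2
      rcases Int.even_or_odd k with ⟨m, hm⟩ | ⟨m, hm⟩
      · left
        rw [← hk, hm, ← two_mul, zpow_mul, zpow_ofNat, hz2, one_zpow]
      · right
        rw [← hk, hm, zpow_add, zpow_mul, zpow_one, zpow_ofNat, hz2, one_zpow, one_mul]
    rcases h3 with h3 | h3
    · exfalso
      apply h1
      have : z = g⁻¹ * (g * z * g⁻¹) * g := by group
      rw [this, h3]; group
    · exact mul_inv_eq_iff_eq_mul.1 h3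
  · intro g hg
    rw [mem_centralizer_singleton_iff] at hg
    rw [mem_normalizer_iff]
    intro x
    have hc : ∀ y ∈ zpowers z, g * y = y * g := by
      intro y hy
      obtain ⟨k, rfl⟩ := mem_zpowers_iff.1 hy
      exact (Commute.zpow_right (show Commute g z from hg) k)
    constructor
    · intro hx
      rw [hc x hx]
      simpa using hx
    · intro hx
      have h1 := hc _ hx
      have h2 : x = g⁻¹ * (g * x * g⁻¹) * g := by group
      have h3 : x = g * x * g⁻¹ := by
        have h4 : g⁻¹ * (g * x * g⁻¹) * g = g * x * g⁻¹ := by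
          rw [mul_assoc, ← h1]; group
        exact h2.trans h4
      rw [h3]; exact hx

theorem isPGroup_zpowers {z : G} (hz : z * z = 1) : IsPGroup 2 ↥(zpowers z) := by
  rintro ⟨x, hx⟩
  refine ⟨1, ?_⟩
  obtain ⟨k, rfl⟩ := mem_zpowers_iff.mp hx
  apply Subtype.ext
  change (z ^ k) ^ (2 ^ 1) = 1
  have hz2 : z ^ 2 = 1 := by rw [pow_two]; exact hz
  rw [pow_one, ← zpow_natCast, ← zpow_mul, mul_comm, zpow_mul, zpow_natCast, hz2, one_zpow]

/-- Centralizers of involutions have characteristic 2. -/
theorem char2_centralizer (hG : IsCharacteristicTwoType G) {z : G} (hz : z * z = 1) (hz1 : z ≠ 1) :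
    IsOfCharacteristicTwo ↥(centralizer ({z} : Set G)) := by
  have h1 := hG.2 (zpowers z) (isPGroup_zpowers hz) (by rw [Ne, zpowers_eq_bot]; exact hz1)
  rw [← normalizer_zpowers_eq hz]
  exact h1

variable [Finite G] {V T P : Subgroup G} {z v a b y : G}

/-- Lemma (G), the form with elements. -/
theorem main_of_FData (hG : IsCharacteristicTwoType G) (d : FData V T P z v a b y)
    (hS : ∃ S : Subgroup G, IsPGroup 2 S ∧ 128 < Nat.card S) : Extra32 G := by
  have : Fact (Nat.Prime 2) := ⟨Nat.prime_two⟩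
  have hzz : z * z = 1 := d.sqV z d.z_mem
  have hzo : orderOf z = 2 := orderOf_eq_prime (by rw [pow_two]; exact hzz) d.z_ne
  have hH := char2_centralizer hG hzz d.z_ne
  -- `T` is not a Sylow 2-subgroup
  obtain ⟨t, ht, htT, S'', htS, hTS⟩ : ∃ t ∈ normalizer (T : Set G), t ∉ T ∧ ∃ S : Sylow 2 G,
      t ∈ (S : Subgroup G) ∧ T ≤ S := by
    obtain ⟨S, hS2, hSc⟩ := hS
    obtain ⟨S', hS'⟩ := hS2.exists_le_sylow
    obtain ⟨S'', hS''⟩ := d.pT.exists_le_sylow
    have h1 : 128 < Nat.card S'' := by
      have h2 := card_le_of_le hS'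
      have h3 : Nat.card S' = Nat.card S'' := Sylow.card_eq_multiplicity S' ▸ (Sylow.card_eq_multiplicity S'').symm
      omega
    have hlt : (T.subgroupOf (S'' : Subgroup G)) < ⊤ := by
      rw [lt_top_iff_ne_top, Ne, subgroupOf_eq_top]
      intro h
      have h2 := card_le_of_le h
      rw [d.cardT] at h2
      have h3 : Nat.card S'' = Nat.card (S'' : Subgroup G) := rfl
      omega
    have hnc : NormalizerCondition (S'' : Subgroup G) := by
      have := S''.isPGroup'.isNilpotent
      exact Group.normalizerCondition_of_isNilpotent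
    obtain ⟨x, hx, hxT⟩ := SetLike.exists_of_lt (hnc _ hlt)
    refine ⟨x, mem_normalizer_of (fun w hw => ?_), fun h => hxT (mem_subgroupOf.2 h), S'', x.2, hS''⟩
    have h5 := (mem_normalizer_iff.1 hx ⟨w, hS'' hw⟩).1 (mem_subgroupOf.2 hw)
    exact mem_subgroupOf.1 h5
  -- `t` centralises `z`
  have hcen : ∀ x ∈ T, (∀ w ∈ T, w * x = x * w) → x = 1 ∨ x = z := by
    intro x hx hxc
    have hxV : x ∈ V := d.centV x (fun w hw => (hxc w (d.VT hw)).symm)
    refine d.cP hxV (fun k hk => ?_)
    rw [hxc k (d.PT hk)]; group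
  have htz : t * z = z * t := by
    have h1 : t * z * t⁻¹ ∈ T := conj_mem ht (d.VT d.z_mem)
    have h2 : ∀ w ∈ T, w * (t * z * t⁻¹) = (t * z * t⁻¹) * w := by
      intro w hw
      have h3 : t⁻¹ * w * t⁻¹⁻¹ ∈ T := conj_mem (inv_mem ht) hw
      have h4 := d.z_comm _ h3
      have h5 : w * (t * z * t⁻¹) = t * ((t⁻¹ * w * t⁻¹⁻¹) * z) * t⁻¹ := by group
      rw [h5, h4]; group
    rcases hcen _ h1 h2 with h3 | h3
    · exfalso
      apply d.z_ne
      have h4 : z = t⁻¹ * (t * z * t⁻¹) * t := by group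
      rw [h4, h3]; group
    · exact mul_inv_eq_iff_eq_mul.1 h3
  have htV : t ∉ normalizer (V : Set G) := by
    intro h
    apply htT
    have hz : IsPGroup 2 (zpowers t ⊔ T : Subgroup G) :=
      S''.isPGroup'.to_le (sup_le (by rw [zpowers_le]; exact htS) hTS)
    have h1 := d.syl (zpowers t ⊔ T) (sup_le (by rw [zpowers_le]; exact h) d.T_le) hz le_sup_right
    exact h1 (mem_sup_left (mem_zpowers t))
  -- the core
  set H := centralizer ({z} : Set G) with hHd
  set R := (pCore 2 ↥H).map H.subtype with hR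
  refine extra32_of (T := T) hzo hH (main d.toGData R ?_ ?_ ?_ ?_ t htz htV)
  · exact (Lib.Cores.pCore_isPGroup 2).map _
  · rintro _ ⟨r, -, rfl⟩
    exact mem_centralizer_singleton_iff.1 r.2
  · intro g hg
    have hgH : g ∈ H := mem_centralizer_singleton_iff.2 hg
    refine mem_normalizer_of ?_
    rintro _ ⟨r, hr, rfl⟩
    exact ⟨⟨g, hgH⟩ * r * ⟨g, hgH⟩⁻¹, (Lib.Cores.pCore_normal 2).conj_mem r hr _, rfl⟩
  · intro g hg hgr
    have hgH : g ∈ H := mem_centralizer_singleton_iff.2 hg
    refine ⟨⟨g, hgH⟩, hH ?_, rfl⟩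
    rw [mem_centralizer_iff]
    intro r hr
    apply Subtype.ext
    exact (hgr r ⟨r, hr, rfl⟩).symm

theorem card_comap {N Y : Type*} [Group N] [Group Y] [Finite N] {π : N →* Y}
    (hπ : Function.Surjective π) (F : Subgroup Y) :
    Nat.card (F.comap π) = Nat.card π.ker * Nat.card F := by
  have : Finite Y := Finite.of_surjective π hπ
  have h1 := card_mul_index (F.comap π)
  have h2 := card_mul_index F
  have h3 := card_mul_index π.ker
  rw [index_comap_of_surjective F hπ] at h1
  rw [index_ker, MonoidHom.range_eq_top.2 hπ, card_top] at h3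
  have h4 : 0 < F.index := Nat.pos_of_ne_zero FiniteIndex.index_ne_zero
  have h5 : Nat.card (F.comap π) * F.index = Nat.card π.ker * Nat.card F * F.index := by
    rw [h1, ← h3, ← h2]; ring
  exact Nat.eq_of_mul_eq_mul_right h4 h5

/-- The four-group. -/
def four {Y : Type*} [Group Y] (a b : Y) (aa : a * a = 1) (bb : b * b = 1) (ab : a * b = b * a) :
    Subgroup Y where
  carrier := {x | x = 1 ∨ x = a ∨ x = b ∨ x = a * b}
  one_mem' := Or.inl rfl
  mul_mem' := by
    have e1 : a * (a * b) = b := by rw [← mul_assoc, aa, one_mul]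
    have e2 : b * a = a * b := ab.symm
    have e3 : b * (a * b) = a := by rw [ab, ← mul_assoc, bb, one_mul]
    have e4 : a * b * a = b := by rw [ab, mul_assoc, aa, mul_one]
    have e5 : a * b * b = a := by rw [mul_assoc, bb, mul_one]
    have e6 : a * b * (a * b) = 1 := by rw [mul_assoc, e3, aa]
    rintro x y (rfl | rfl | rfl | rfl) (rfl | rfl | rfl | rfl) <;>
      simp [aa, bb, e1, e2, e3, e4, e5, e6]
  inv_mem' := by
    have e1 : a⁻¹ = a := inv_eq_of_mul_eq_one_left aa
    have e2 : b⁻¹ = b := inv_eq_of_mul_eq_one_left bb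
    rintro x (rfl | rfl | rfl | rfl)
    · simp
    · simp [e1]
    · simp [e2]
    · right; right; right
      rw [mul_inv_rev, e1, e2, ab]

theorem mem_four {Y : Type*} [Group Y] {a b : Y} {aa : a * a = 1} {bb : b * b = 1}
    {ab : a * b = b * a} {x : Y} : x ∈ four a b aa bb ab ↔ x = 1 ∨ x = a ∨ x = b ∨ x = a * b :=
  Iff.rfl

/-- **Lemma (G)**. -/
theorem main' {G : Type*} [Group G] [Finite G] (hG : IsCharacteristicTwoType G) {V : Subgroup G}
    (cardV : Nat.card V = 16) (sqV : ∀ v ∈ V, v * v = 1)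
    (centV : ∀ g : G, (∀ v ∈ V, g * v = v * g) → g ∈ V)
    {N : Subgroup G} (hN : N = normalizer (V : Set G))
    {Y W : Type*} [Group Y] [Group W] (π : ↥N →* Y) (hπ : Function.Surjective π)
    (hker : ∀ g, π g = 1 ↔ (g : G) ∈ V) (e : W ≃* V) (φ : Y →* MulAut W)
    (hφ : ∀ g w, (e (φ (π g) w) : G) = g * e w * (g : G)⁻¹)
    {P : Subgroup Y} {z v : W} {a b y : Y} (h : GIn φ P z v a b y)
    (hS : ∃ S : Subgroup G, IsPGroup 2 S ∧ 128 < Nat.card S) : Extra32 G := by
  obtain ⟨a', ha'⟩ := hπ a
  obtain ⟨b', hb'⟩ := hπ b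
  obtain ⟨y', hy'⟩ := hπ y
  obtain ⟨c, hc, k, hk, hck⟩ := h.na
  obtain ⟨c', hc'⟩ := hπ c
  obtain ⟨k', hk'⟩ := hπ k
  have hVN : V ≤ N := by rw [hN]; exact le_normalizer
  have hkerV : π.ker.map N.subtype = V := by
    ext x
    constructor
    · rintro ⟨g, hg, rfl⟩
      exact (hker g).1 (MonoidHom.mem_ker.1 hg)
    · intro hx
      exact ⟨⟨x, hVN hx⟩, MonoidHom.mem_ker.2 ((hker _).2 hx), rfl⟩
  have hker16 : Nat.card π.ker = 16 := by
    rw [← cardV, ← hkerV, card_map_of_injective (f := N.subtype) N.subtype_injective]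
  let F : Subgroup Y := four a b h.aa h.bb h.ab
  -- `a, b, a b` are different from 1
  have b1 : b ≠ 1 := by
    intro hb
    apply h.a1
    have h1 := h.ya
    rw [hb, mul_inv_eq_one] at h1
    have h2 : a = y⁻¹ * (y * a) := by group
    rw [h2, h1]; group
  have ab1 : a * b ≠ 1 := by
    intro hab
    apply b1
    have h1 := h.yb
    rw [hab, mul_inv_eq_one] at h1
    have h2 : b = y⁻¹ * (y * b) := by group
    rw [h2, h1]; group
  have hab : a ≠ b := by
    intro h1
    apply ab1
    rw [h1, h.bb]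
  have hF4 : Nat.card F = 4 := by
    have h1 : 4 ≤ Nat.card F := by
      have : Finite Y := Finite.of_surjective π hπ
      exact four_le (mem_four.2 (Or.inr (Or.inl rfl))) (mem_four.2 (Or.inr (Or.inr (Or.inl rfl)))) h.a1 b1
        hab ab1
    have h2 : Nat.card F ≤ 4 := by
      have h3 : ((F : Subgroup Y) : Set Y) = {1, a, b, a * b} := by
        ext x
        exact mem_four
      have h4 : Nat.card F = ({1, a, b, a * b} : Set Y).ncard := by
        rw [← h3]; rfl
      rw [h4]
      refine (Set.ncard_insert_le _ _).trans ?_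
      refine Nat.succ_le_succ ((Set.ncard_insert_le _ _).trans ?_)
      refine Nat.succ_le_succ ((Set.ncard_insert_le _ _).trans ?_)
      rw [Set.ncard_singleton]
    omega
  let T : Subgroup G := (P.comap π).map N.subtype
  let PP : Subgroup G := (F.comap π).map N.subtype
  have hcT : Nat.card T = 128 := by
    rw [card_map_of_injective (f := N.subtype) N.subtype_injective, card_comap hπ, hker16, h.cardP]
  have hcP : Nat.card PP = 64 := by
    rw [card_map_of_injective (f := N.subtype) N.subtype_injective, card_comap hπ, hker16, hF4]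
  have hFP : F ≤ P := by
    rintro x (rfl | rfl | rfl | rfl)
    · exact P.one_mem
    · exact h.aP
    · exact h.bP
    · exact P.mul_mem h.aP h.bP
  have hact : ∀ (g : N) (w : W), (g : G) * e w * (g : G)⁻¹ = e (φ (π g) w) := fun g w => (hφ g w).symm
  have hcomm : ∀ (g : N) (w : W), φ (π g) w = w → (g : G) * e w = e w * g := by
    intro g w hw
    have h1 := hact g w
    rw [hw] at h1
    exact mul_inv_eq_iff_eq_mul.1 h1
  have d : FData V T PP (e z : G) (e v) a' b' y' :=
    { cardV := cardV
      sqV := sqV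
      centV := centV
      T_le := by
        rw [← hN]
        rintro _ ⟨g, -, rfl⟩
        exact g.2
      pT := IsPGroup.of_card (n := 7) (by rw [hcT]; norm_num)
      syl := by
        intro Q hQN hQ hTQ
        rw [← hN] at hQN
        have h1 : P ≤ (Q.subgroupOf N).map π := by
          intro p hp
          obtain ⟨g, rfl⟩ := hπ p
          exact ⟨g, mem_subgroupOf.2 (hTQ ⟨g, hp, rfl⟩), rfl⟩
        have h2 : IsPGroup 2 ((Q.subgroupOf N).map π) :=
          ((hQ.comap_subtype (K := N))).map π
        have h3 := h.syl _ h2 h1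
        intro q hq
        exact ⟨⟨q, hQN hq⟩, h3 ⟨⟨q, hQN hq⟩, mem_subgroupOf.2 hq, rfl⟩, rfl⟩
      cardT := hcT
      z_ne := by
        intro h1
        apply h.z_ne
        have h2 : e z = 1 := Subtype.ext h1
        exact (map_eq_one_iff e e.injective).1 h2
      z_comm := by
        rintro _ ⟨g, hg, rfl⟩
        exact hcomm g z (h.zP _ hg)
      VP := by
        intro x hx
        refine ⟨⟨x, hVN hx⟩, ?_, rfl⟩
        show π _ ∈ F
        rw [(hker _).2 hx]
        exact F.one_mem
      PT := by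
        rintro _ ⟨g, hg, rfl⟩
        exact ⟨g, hFP hg, rfl⟩
      cardP := hcP
      na := by
        refine ⟨c', ⟨c', by show π c' ∈ P; rw [hc']; exact hc, rfl⟩, k', ⟨k', ?_, rfl⟩, ?_⟩
        · show π k' ∈ F
          rw [hk']
          rcases hk with rfl | rfl
          · exact mem_four.2 (Or.inr (Or.inl rfl))
          · exact mem_four.2 (Or.inr (Or.inr (Or.inl rfl)))
        · intro h1
          apply hck
          have h2 : π (c' * k' * c'⁻¹ * k'⁻¹) = 1 := (hker _).2 h1
          rw [map_mul, map_mul, map_mul, map_inv, map_inv, hc', hk', mul_inv_eq_one,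
            mul_inv_eq_iff_eq_mul] at h2
          exact h2
      aP := ⟨a', by show π a' ∈ F; rw [ha']; exact mem_four.2 (Or.inr (Or.inl rfl)), rfl⟩
      bP := ⟨b', by show π b' ∈ F; rw [hb']; exact mem_four.2 (Or.inr (Or.inr (Or.inl rfl))), rfl⟩
      aa := (hker (a' * a')).1 (by rw [map_mul, ha', h.aa])
      bb := (hker (b' * b')).1 (by rw [map_mul, hb', h.bb])
      cov := by
        rintro _ ⟨g, hg, rfl⟩
        have hg' : π g ∈ F := hg
        rcases mem_four.1 hg' with h1 | h1 | h1 | h1
        · left; exact (hker g).1 h1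
        · right; left
          exact (hker (a'⁻¹ * g)).1 (by rw [map_mul, map_inv, ha', h1, inv_mul_cancel])
        · right; right; left
          exact (hker (b'⁻¹ * g)).1 (by rw [map_mul, map_inv, hb', h1, inv_mul_cancel])
        · right; right; right
          exact (hker ((a' * b')⁻¹ * g)).1 (by rw [map_mul, map_inv, map_mul, ha', hb', h1, inv_mul_cancel])
      vV := (e v).2
      norm := by
        have h1 := hact a' v
        have h2 := hact b' v
        have h3 := hact (a' * b') v
        have h4 := congrArg (fun w => (e w : G)) h.norm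
        simp only [map_mul e, coe_mul] at h4
        rw [ha'] at h1
        rw [hb'] at h2
        rw [map_mul π, ha', hb'] at h3
        rw [← h4]
        show (e v : G) * (a' * e v * (a' : G)⁻¹) * (b' * e v * (b' : G)⁻¹) *
          (((a' * b' : N) : G) * e v * ((a' * b' : N) : G)⁻¹) = _
        rw [h1, h2, h3]
      yV := hN ▸ y'.2
      yz := hcomm y' z (by rw [hy']; exact h.yz)
      ya := (hker (b'⁻¹ * (y' * a' * y'⁻¹))).1 (by
        rw [map_mul, map_mul, map_mul, map_inv, map_inv, ha', hb', hy', h.ya, inv_mul_cancel])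
      yb := (hker ((a' * b')⁻¹ * (y' * b' * y'⁻¹))).1 (by
        rw [map_mul, map_mul, map_mul, map_inv, map_inv, map_mul, ha', hb', hy', h.yb, inv_mul_cancel]) }
  exact main_of_FData hG d hS

/-- The stabiliser of a vector. -/
def fixW {Y W : Type*} [Group Y] [Group W] (φ : Y →* MulAut W) (w : W) : Subgroup Y where
  carrier := {y | φ y w = w}
  one_mem' := by simp
  mul_mem' := by
    intro x y (hx : φ x w = w) (hy : φ y w = w)
    show φ (x * y) w = w
    rw [map_mul, MulAut.mul_apply, hy, hx]
  inv_mem' := by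
    intro x (hx : φ x w = w)
    show φ x⁻¹ w = w
    apply (φ x).injective
    rw [map_inv, MulAut.apply_inv_self, hx]

/-- If `C_Y(w)` is not solvable then `C_G(w)` is not solvable (`A₇`). -/
theorem not_isSolvable {G : Type*} [Group G] {V N : Subgroup G}
    {Y W : Type*} [Group Y] [Group W] (π : ↥N →* Y) (hπ : Function.Surjective π)
    (e : W ≃* V) (φ : Y →* MulAut W)
    (hφ : ∀ g w, (e (φ (π g) w) : G) = g * e w * (g : G)⁻¹) (w : W)
    (hw : ¬ Group.IsSolvable ↥(fixW φ w)) :
    ¬ Group.IsSolvable ↥(centralizer ({(e w : G)} : Set G)) := by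
  intro hs
  apply hw
  -- `C_N(w) → C_Y(w)` is surjective
  let C : Subgroup N := (fixW φ w).comap π
  have hC : ∀ g : N, g ∈ C → (g : G) ∈ centralizer ({(e w : G)} : Set G) := by
    intro g hg
    rw [mem_centralizer_singleton_iff]
    have h1 := hφ g w
    have h2 : φ (π g) w = w := hg
    rw [h2] at h1
    exact (mul_inv_eq_iff_eq_mul.1 h1.symm)
  let i : C →* ↥(centralizer ({(e w : G)} : Set G)) :=
    { toFun := fun g => ⟨(g : N), hC g g.2⟩
      map_one' := rfl
      map_mul' := fun _ _ => rfl }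
  have hi : Function.Injective i := by
    intro g g' h
    have h1 := congrArg Subtype.val h
    exact Subtype.ext (Subtype.ext h1)
  have h1 : Group.IsSolvable C := Group.isSolvable_of_isSolvable_injective hi
  have hsurj : Function.Surjective (π.subgroupComap (fixW φ w)) := by
    rintro ⟨y, hy⟩
    obtain ⟨g, rfl⟩ := hπ y
    exact ⟨⟨g, hy⟩, rfl⟩
  exact Group.isSolvable_of_surjective hsurj

end

end Cfsg.Agent.GH.C2GrowIn
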