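import Cfsg.Agent.GH.C2Syl

/-!
# GH-C2: the permutation module (`A₅`, `S₅` orthogonal): `2 wr V₄`, `2 wr D₈`
-/

set_option autoImplicit false

namespace Cfsg.Agent.GH.C2Syl

open Subgroup Cfsg.Agent.GH.Pc Cfsg.Agent.GH.PcTypes

variable {X : Type*} [Group X] {V : Subgroup X}

theorem sat_W24 {a b e₀ e₁ e₂ e₃ : X} (ha : a * a = 1) (hb : b * b = 1) (hab : a * b = b * a)
    (h0 : e₀ * e₀ = 1) (h1 : e₁ * e₁ = 1) (h2 : e₂ * e₂ = 1) (h3 : e₃ * e₃ = 1)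
    (c1 : e₀ * e₁ = e₁ * e₀) (c2 : e₀ * e₂ = e₂ * e₀) (c3 : e₀ * e₃ = e₃ * e₀)
    (c4 : e₁ * e₂ = e₂ * e₁) (c5 : e₁ * e₃ = e₃ * e₁) (c6 : e₂ * e₃ = e₃ * e₂)
    (a0 : a * e₀ = e₁ * a) (a1 : a * e₁ = e₀ * a) (a2 : a * e₂ = e₃ * a) (a3 : a * e₃ = e₂ * a)
    (b0 : b * e₀ = e₂ * b) (b1 : b * e₁ = e₃ * b) (b2 : b * e₂ = e₀ * b) (b3 : b * e₃ = e₁ * b) :
    Sat W24 ![a, b, e₀, e₁, e₂, e₃] where
  sq i := by fin_cases i <;> (simp [W24]; assumption)
  cj i j hij := by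
    fin_cases i <;> fin_cases j <;> first
      | (exfalso; revert hij; decide)
      | (simp [W24, cjOf]; assumption)

theorem sat_W8 {t a b e₁ e₂ e₃ e₄ : X} (ht : t * t = 1) (ha : a * a = 1) (hb : b * b = 1)
    (hab : a * b = b * a)
    (h1 : e₁ * e₁ = 1) (h2 : e₂ * e₂ = 1) (h3 : e₃ * e₃ = 1) (h4 : e₄ * e₄ = 1)
    (c1 : e₁ * e₂ = e₂ * e₁) (c2 : e₁ * e₃ = e₃ * e₁) (c3 : e₁ * e₄ = e₄ * e₁)
    (c4 : e₂ * e₃ = e₃ * e₂) (c5 : e₂ * e₄ = e₄ * e₂) (c6 : e₃ * e₄ = e₄ * e₃)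
    (a1 : a * e₁ = e₂ * a) (a2 : a * e₂ = e₁ * a) (a3 : a * e₃ = e₄ * a) (a4 : a * e₄ = e₃ * a)
    (b1 : b * e₁ = e₄ * b) (b2 : b * e₂ = e₃ * b) (b3 : b * e₃ = e₂ * b) (b4 : b * e₄ = e₁ * b)
    (t0 : t * a = b * t) (t0' : t * b = a * t)
    (t1 : t * e₁ = e₁ * t) (t2 : t * e₂ = e₄ * t) (t3 : t * e₃ = e₃ * t) (t4 : t * e₄ = e₂ * t) :
    Sat W8 ![t, a, b, e₁, e₂, e₃, e₄] where
  sq i := by fin_cases i <;> (simp [W8]; assumption)
  cj i j hij := by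
    fin_cases i <;> fin_cases j <;> first
      | (exfalso; revert hij; decide)
      | (simp [W8, cjOf]; assumption)

/-- `e₀, e₁, e₂, e₃` is a basis of `V`. -/
structure PB (V : Subgroup X) (e : Fin 4 → X) : Prop where
  mem : ∀ i, e i ∈ V
  card : Nat.card V = 16
  gen : V ≤ closure (Set.range e)

/-- The elementary abelian group with 4 generators. -/
def E4 : Pres 4 := ⟨fun _ => [], fun _ j => [j]⟩

theorem E4_ok : E4.Ok := by decide

namespace PB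

variable {e : Fin 4 → X}

theorem sat (hV : El V) (h : PB V e) : Sat E4 e where
  sq i := by simpa [E4] using hV.sq _ (h.mem i)
  cj i j _ := by simpa [E4] using hV.comm (h.mem i) (h.mem j)

theorem closure_eq (h : PB V e) : closure (Set.range e) = V := by
  apply le_antisymm
  · rw [closure_le]
    rintro _ ⟨i, rfl⟩
    exact h.mem i
  · exact h.gen

/-- The element with coordinates `s`. -/
def pt (e : Fin 4 → X) (s : Fin 4 → ZMod 2) : X :=
  e 0 ^ (s 0).val * (e 1 ^ (s 1).val * (e 2 ^ (s 2).val * e 3 ^ (s 3).val))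

theorem pt_mem (h : PB V e) (s : Fin 4 → ZMod 2) : pt e s ∈ V :=
  V.mul_mem (V.pow_mem (h.mem 0) _) (V.mul_mem (V.pow_mem (h.mem 1) _)
    (V.mul_mem (V.pow_mem (h.mem 2) _) (V.pow_mem (h.mem 3) _)))

theorem exists_pt (hV : El V) (h : PB V e) {v : X} (hv : v ∈ V) : ∃ s, v = pt e s := by
  rw [← h.closure_eq] at hv
  obtain ⟨s, hs⟩ := exists_nf E4_ok (h.sat hV) hv
  refine ⟨fun i => if s i then 1 else 0, ?_⟩
  rw [hs]
  unfold nf pt
  rw [show List.finRange 4 = [0, 1, 2, 3] from rfl]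
  cases h0 : s 0 <;> cases h1 : s 1 <;> cases h2 : s 2 <;> cases h3 : s 3 <;>
    simp [h0, h1, h2, h3, ZMod.val_one]

theorem pow_add (hV : El V) {x : X} (hx : x ∈ V) (s t : ZMod 2) :
    x ^ (s + t).val = x ^ s.val * x ^ t.val := by
  have h : ∀ s : ZMod 2, s = 0 ∨ s = 1 := by decide
  have e : (1 + 1 : ZMod 2) = 0 := by decide
  rcases h s with rfl | rfl <;> rcases h t with rfl | rfl
  · simp
  · simp
  · simp
  · rw [e]
    simp [ZMod.val_one, hV.sq x hx]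

theorem pt_add (hV : El V) (h : PB V e) (s t : Fin 4 → ZMod 2) :
    pt e (s + t) = pt e s * pt e t := by
  have c : ∀ i j (m n : ℕ), Commute (e i ^ m) (e j ^ n) := fun i j m n =>
    (Commute.pow_pow (hV.comm (h.mem i) (h.mem j)) m n)
  unfold pt
  simp only [Pi.add_apply, pow_add hV (h.mem _)]
  generalize hx0 : e 0 ^ (s 0).val = x0
  generalize hx1 : e 1 ^ (s 1).val = x1
  generalize hx2 : e 2 ^ (s 2).val = x2
  generalize hx3 : e 3 ^ (s 3).val = x3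
  generalize hy0 : e 0 ^ (t 0).val = y0
  generalize hy1 : e 1 ^ (t 1).val = y1
  generalize hy2 : e 2 ^ (t 2).val = y2
  generalize hy3 : e 3 ^ (t 3).val = y3
  have c01 : Commute y0 x1 := by rw [← hy0, ← hx1]; exact c _ _ _ _
  have c02 : Commute y0 x2 := by rw [← hy0, ← hx2]; exact c _ _ _ _
  have c03 : Commute y0 x3 := by rw [← hy0, ← hx3]; exact c _ _ _ _
  have c12 : Commute y1 x2 := by rw [← hy1, ← hx2]; exact c _ _ _ _
  have c13 : Commute y1 x3 := by rw [← hy1, ← hx3]; exact c _ _ _ _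
  have c23 : Commute y2 x3 := by rw [← hy2, ← hx3]; exact c _ _ _ _
  calc x0 * y0 * (x1 * y1 * (x2 * y2 * (x3 * y3)))
      = x0 * (y0 * x1) * y1 * x2 * (y2 * x3) * y3 := by simp only [mul_assoc]
    _ = x0 * x1 * y0 * (y1 * x2) * x3 * y2 * y3 := by rw [c01.eq, c23.eq]; simp only [mul_assoc]
    _ = x0 * x1 * (y0 * x2) * (y1 * x3) * y2 * y3 := by rw [c12.eq]; simp only [mul_assoc]
    _ = x0 * x1 * x2 * (y0 * x3) * y1 * y2 * y3 := by rw [c02.eq, c13.eq]; simp only [mul_assoc]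
    _ = x0 * (x1 * (x2 * x3)) * (y0 * (y1 * (y2 * y3))) := by rw [c03.eq]; simp only [mul_assoc]

theorem pt_injective (hV : El V) (h : PB V e) : Function.Injective (pt e) := by
  let f : (Fin 4 → ZMod 2) → V := fun s => ⟨pt e s, h.pt_mem s⟩
  have hs : Function.Surjective f := by
    rintro ⟨g, hg⟩
    obtain ⟨s, hs⟩ := exists_pt hV h hg
    exact ⟨s, Subtype.ext hs.symm⟩
  have : Finite V := Nat.finite_of_card_ne_zero (by rw [h.card]; norm_num)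
  have hb : Function.Bijective f := by
    refine (Nat.bijective_iff_surjective_and_card f).2 ⟨hs, ?_⟩
    rw [h.card]
    simp
  intro s t hst
  exact hb.1 (Subtype.ext hst)

theorem pt_zero : pt e 0 = 1 := by simp [pt]

theorem pt_single (i : Fin 4) (c : ZMod 2) : pt e (Pi.single i c) = e i ^ c.val := by
  fin_cases i <;> simp [pt]

theorem pt_single_one (i : Fin 4) : pt e (Pi.single i 1) = e i := by
  rw [pt_single]
  simp [ZMod.val_one]

/-- `τ` is an involution (in the form needed). -/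
def Good (τ : Fin 4 → Fin 4) : Prop := ∀ s : Fin 4 → ZMod 2,
  Pi.single (τ 0) (s 0) + (Pi.single (τ 1) (s 1) + (Pi.single (τ 2) (s 2) + Pi.single (τ 3) (s 3))) =
    s ∘ τ

theorem pt_conj (hV : El V) (h : PB V e) {g : X} {τ : Fin 4 → Fin 4} (hτ : Good τ)
    (hg : ∀ i, g * e i * g⁻¹ = e (τ i)) (s : Fin 4 → ZMod 2) :
    g * pt e s * g⁻¹ = pt e (s ∘ τ) := by
  rw [← hτ s]
  simp only [pt_add hV h, pt_single]
  rw [← hg, ← hg, ← hg, ← hg]
  simp only [conj_pow]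
  unfold pt
  group

/-- If the involution `τ` is free then fixed points are commutators. -/
theorem exists_cm (hV : El V) (h : PB V e) {g : X} {τ : Fin 4 → Fin 4} (hτ : Good τ)
    (hg : ∀ i, g * e i * g⁻¹ = e (τ i))
    (hfree : ∀ s : Fin 4 → ZMod 2, s ∘ τ = s → ∃ u : Fin 4 → ZMod 2, u ∘ τ + u = s) :
    ∀ v ∈ V, g * v * g⁻¹ = v → ∃ w ∈ V, g * w * g⁻¹ * w⁻¹ = v := by
  intro v hv hfix
  obtain ⟨s, rfl⟩ := exists_pt hV h hv
  rw [pt_conj hV h hτ hg] at hfix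
  obtain ⟨u, hu⟩ := hfree s (pt_injective hV h hfix)
  refine ⟨pt e u, h.pt_mem u, ?_⟩
  rw [pt_conj hV h hτ hg, hV.inv (h.pt_mem u), ← pt_add hV h, hu]

end PB

open PB

/-- `(0 1)(2 3)` -/
def τa : Fin 4 → Fin 4 := ![1, 0, 3, 2]

/-- `(0 2)(1 3)` -/
def τb : Fin 4 → Fin 4 := ![2, 3, 0, 1]

/-- `(0 3)(1 2)` -/
def τc : Fin 4 → Fin 4 := ![3, 2, 1, 0]

/-- `(1 3)` -/
def τt : Fin 4 → Fin 4 := ![0, 3, 2, 1]

theorem good_a : Good τa := by unfold Good; decide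

theorem good_b : Good τb := by unfold Good; decide

theorem good_c : Good τc := by unfold Good; decide

theorem good_t : Good τt := by unfold Good; decide

theorem free_a : ∀ s : Fin 4 → ZMod 2, s ∘ τa = s → ∃ u : Fin 4 → ZMod 2, u ∘ τa + u = s := by
  decide

theorem free_b : ∀ s : Fin 4 → ZMod 2, s ∘ τb = s → ∃ u : Fin 4 → ZMod 2, u ∘ τb + u = s := by
  decide

theorem free_c : ∀ s : Fin 4 → ZMod 2, s ∘ τc = s → ∃ u : Fin 4 → ZMod 2, u ∘ τc + u = s := by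
  decide

/-- The square of a product of two involutions of commuting cosets. -/
theorem sq_fix (hV : El V) {a b : X} (haa : a * a = 1) (hbb : b * b = 1)
    (hab : a * b * a⁻¹ * b⁻¹ ∈ V) : (a * b) * (a * b) ∈ V ∧
      a * ((a * b) * (a * b)) * a⁻¹ = (a * b) * (a * b) ∧
      b * ((a * b) * (a * b)) * b⁻¹ = (a * b) * (a * b) := by
  have ha : a⁻¹ = a := inv_eq_of_mul_eq_one_left haa
  have hb : b⁻¹ = b := inv_eq_of_mul_eq_one_left hbb
  have h1 : (a * b) * (a * b) ∈ V := by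
    have h2 : (a * b) * (a * b) = a * b * a⁻¹ * b⁻¹ := by rw [ha, hb]; group
    rw [h2]; exact hab
  have h2 : (a * b) * (a * b) = b * a * (b * a) := by
    have h3 := hV.inv h1
    rw [← h3]
    rw [mul_inv_rev, mul_inv_rev, ha, hb]
  refine ⟨h1, ?_, ?_⟩
  · have h3 : a * ((a * b) * (a * b)) * a⁻¹ = (a * a) * (b * a * (b * a⁻¹)) := by group
    rw [h3, haa, one_mul, ha, ← h2]
  · conv_lhs => rw [h2]
    have h3 : b * (b * a * (b * a)) * b⁻¹ = (b * b) * (a * b * (a * b⁻¹)) := by group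
    rw [h3, hbb, one_mul, hb]

theorem pt_ones_or {a b : X} {τ₁ τ₂ : Fin 4 → Fin 4} (hV : El V) {e : Fin 4 → X} (h : PB V e)
    (g1 : Good τ₁) (g2 : Good τ₂) (ha : ∀ i, a * e i * a⁻¹ = e (τ₁ i))
    (hb : ∀ i, b * e i * b⁻¹ = e (τ₂ i))
    (hdec : ∀ s : Fin 4 → ZMod 2, s ∘ τ₁ = s → s ∘ τ₂ = s → s = 0 ∨ s = fun _ => 1) {v : X}
    (hv : v ∈ V) (h1 : a * v * a⁻¹ = v) (h2 : b * v * b⁻¹ = v) :
    v = 1 ∨ v = pt e fun _ => 1 := by
  obtain ⟨s, rfl⟩ := exists_pt hV h hv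
  rw [pt_conj hV h g1 ha] at h1
  rw [pt_conj hV h g2 hb] at h2
  rcases hdec s (pt_injective hV h h1) (pt_injective hV h h2) with h3 | h3
  · left
    rw [h3, pt_zero]
  · right
    rw [h3]

/-- The square of `a (m b)`. -/
theorem sq_twist (a b m : X) : (a * (m * b)) * (a * (m * b)) =
    (a * m * a⁻¹) * (a * (b * (a * m * a⁻¹) * b⁻¹) * a⁻¹) * ((a * b) * (a * b)) := by group

theorem mem_of_act {e : Fin 4 → X} (hC : ∀ g : X, (∀ i, g * e i * g⁻¹ = e i) → g ∈ V) {g h : X}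
    {τ : Fin 4 → Fin 4} (hg : ∀ i, g * e i * g⁻¹ = e (τ i)) (hh : ∀ i, h * e i * h⁻¹ = e (τ i)) :
    g⁻¹ * h ∈ V := by
  apply hC
  intro i
  have h1 : g⁻¹ * h * e i * (g⁻¹ * h)⁻¹ = g⁻¹ * (h * e i * h⁻¹) * g := by group
  rw [h1, hh, ← hg]; group

theorem act_mul {e : Fin 4 → X} {g h : X} {τ σ : Fin 4 → Fin 4}
    (hg : ∀ i, g * e i * g⁻¹ = e (τ i)) (hh : ∀ i, h * e i * h⁻¹ = e (σ i)) (i : Fin 4) :
    (g * h) * e i * (g * h)⁻¹ = e (τ (σ i)) := by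
  have h1 : (g * h) * e i * (g * h)⁻¹ = g * (h * e i * h⁻¹) * g⁻¹ := by group
  rw [h1, hh, hg]

theorem act_V (hV : El V) {e : Fin 4 → X} (h : PB V e) {g v : X} (hv : v ∈ V) {τ : Fin 4 → Fin 4}
    (hg : ∀ i, g * e i * g⁻¹ = e (τ i)) (i : Fin 4) :
    (v * g) * e i * (v * g)⁻¹ = e (τ i) := by
  have h1 : (v * g) * e i * (v * g)⁻¹ = v * (g * e i * g⁻¹) * v⁻¹ := by group
  rw [h1, hg, hV.comm hv (h.mem _)]; group

/-- An involution with the given free action. -/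
theorem exists_invol_act (hV : El V) {e : Fin 4 → X} (h : PB V e)
    (hC : ∀ g : X, (∀ i, g * e i * g⁻¹ = e i) → g ∈ V) {a₀ : X} {τ : Fin 4 → Fin 4} (hτ : Good τ)
    (hττ : ∀ i, τ (τ i) = i)
    (hfree : ∀ s : Fin 4 → ZMod 2, s ∘ τ = s → ∃ u : Fin 4 → ZMod 2, u ∘ τ + u = s)
    (ha : ∀ i, a₀ * e i * a₀⁻¹ = e (τ i)) :
    ∃ v ∈ V, (v * a₀) * (v * a₀) = 1 ∧ ∀ i, (v * a₀) * e i * (v * a₀)⁻¹ = e (τ i) := by
  obtain ⟨v, hv, h1⟩ := exists_invol hV (a₀ := a₀) (hC _ fun i => by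
    rw [act_mul ha ha, hττ]) (exists_cm hV h hτ ha hfree)
  exact ⟨v, hv, h1, act_V hV h hv ha⟩

theorem cjw {g x y : X} (h : g * x * g⁻¹ = y) : g * x = y * g := by rw [← h]; group

/-- Case (O1): `2 wr V₄`. -/
theorem isType_W24 (hV : El V) {e : Fin 4 → X} (h : PB V e)
    (hC : ∀ g : X, (∀ i, g * e i * g⁻¹ = e i) → g ∈ V) {a₀ b₀ : X}
    (ha₀ : ∀ i, a₀ * e i * a₀⁻¹ = e (τa i)) (hb₀ : ∀ i, b₀ * e i * b₀⁻¹ = e (τb i))
    {T : Subgroup X} (hT : Nat.card T = 64) (hVT : V ≤ T) (haT : a₀ ∈ T) (hbT : b₀ ∈ T)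
    (hcov : ∀ g ∈ T, ∃ k ∈ closure ({a₀, b₀} : Set X), k⁻¹ * g ∈ V) : IsType W24 T := by
  obtain ⟨v, hv, haa, ha⟩ := exists_invol_act hV h hC good_a (by decide) free_a ha₀
  obtain ⟨v', hv', hbb, hb⟩ := exists_invol_act hV h hC good_b (by decide) free_b hb₀
  have haT' : v * a₀ ∈ T := T.mul_mem (hVT hv) haT
  have hbT' : v' * b₀ ∈ T := T.mul_mem (hVT hv') hbT
  have ea : a₀ = v⁻¹ * (v * a₀) := by group
  have eb : b₀ = v'⁻¹ * (v' * b₀) := by group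
  generalize v * a₀ = a at haa ha haT' ea
  generalize v' * b₀ = b at hbb hb hbT' eb
  -- commuting involutions
  obtain ⟨c, hc, hcT, hcc, hcact, hac⟩ : ∃ c : X, b * c⁻¹ ∈ V ∧ c ∈ T ∧ c * c = 1 ∧
      (∀ i, c * e i * c⁻¹ = e (τb i)) ∧ a * c = c * a := by
    have hcomm : a * b * a⁻¹ * b⁻¹ ∈ V := by
      have h1 : ∀ i, (a * b) * e i * (a * b)⁻¹ = e ((τa ∘ τb) i) := fun i => act_mul ha hb i
      have h2 : ∀ i, (b * a) * e i * (b * a)⁻¹ = e ((τa ∘ τb) i) := by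
        intro i
        rw [act_mul hb ha]
        congr 1
        revert i
        decide
      have h3 := hV.conj (b * a) (mem_of_act hC h2 h1)
      have h4 : b * a * ((b * a)⁻¹ * (a * b)) * (b * a)⁻¹ = a * b * a⁻¹ * b⁻¹ := by group
      rwa [h4] at h3
    obtain ⟨h1, h2, h3⟩ := sq_fix hV haa hbb hcomm
    have ha' : a⁻¹ = a := inv_eq_of_mul_eq_one_left haa
    have hb' : b⁻¹ = b := inv_eq_of_mul_eq_one_left hbb
    rcases pt_ones_or hV h good_a good_b ha hb (by decide) h1 h2 h3 with h4 | h4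
    · refine ⟨b, by simp, hbT', hbb, hb, ?_⟩
      have h5 : a * b = (a * b)⁻¹ := (inv_eq_of_mul_eq_one_left h4).symm
      rw [mul_inv_rev, ha', hb'] at h5
      exact h5
    · set m := pt e ![1, 0, 1, 0] with hm
      have hmV : m ∈ V := h.pt_mem _
      have h5 : (a * (m * b)) * (a * (m * b)) = 1 := by
        rw [sq_twist, h4, hm, pt_conj hV h good_a ha, pt_conj hV h good_b hb,
          pt_conj hV h good_a ha, ← pt_add hV h, ← pt_add hV h]
        rw [show ((![1, 0, 1, 0] : Fin 4 → ZMod 2) ∘ τa + (((![1, 0, 1, 0] : Fin 4 → ZMod 2) ∘ τa) ∘ τb) ∘ τa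
          + fun _ => 1) = 0 by decide]
        exact pt_zero
      have h6 : (m * b) * (m * b) = 1 := by
        have h7 : (m * b) * (m * b) = m * (b * m * b⁻¹) * (b * b) := by group
        rw [h7, hbb, mul_one, hm, pt_conj hV h good_b hb, ← pt_add hV h]
        rw [show ((![1, 0, 1, 0] : Fin 4 → ZMod 2) + (![1, 0, 1, 0] : Fin 4 → ZMod 2) ∘ τb) = 0 by
          decide]
        exact pt_zero
      refine ⟨m * b, ?_, T.mul_mem (hVT hmV) hbT', h6, act_V hV h hmV hb, ?_⟩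
      · rw [mul_inv_rev]
        have := V.inv_mem hmV
        simpa using this
      · have h8 : (a * (m * b)) = (a * (m * b))⁻¹ := (inv_eq_of_mul_eq_one_left h5).symm
        rw [mul_inv_rev, ha', inv_eq_of_mul_eq_one_left h6] at h8
        exact h8
  have sat : Sat W24 ![a, c, e 0, e 1, e 2, e 3] :=
    sat_W24 haa hcc hac (hV.sq _ (h.mem _)) (hV.sq _ (h.mem _)) (hV.sq _ (h.mem _))
      (hV.sq _ (h.mem _)) (hV.comm (h.mem _) (h.mem _)) (hV.comm (h.mem _) (h.mem _))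
      (hV.comm (h.mem _) (h.mem _)) (hV.comm (h.mem _) (h.mem _)) (hV.comm (h.mem _) (h.mem _))
      (hV.comm (h.mem _) (h.mem _)) (cjw (ha 0)) (cjw (ha 1)) (cjw (ha 2)) (cjw (ha 3))
      (cjw (hcact 0)) (cjw (hcact 1)) (cjw (hcact 2)) (cjw (hcact 3))
  refine isType_of_closure sat T ?_ (by rw [hT]; norm_num)
  have hmem : ∀ i, (![a, c, e 0, e 1, e 2, e 3] : Fin 6 → X) i ∈
      closure (Set.range ![a, c, e 0, e 1, e 2, e 3]) := fun i => subset_closure ⟨i, rfl⟩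
  set K := closure (Set.range ![a, c, e 0, e 1, e 2, e 3]) with hK
  have k0 : a ∈ K := hmem 0
  have k1 : c ∈ K := hmem 1
  have hVK : V ≤ K := h.gen.trans (by
    rw [closure_le]
    rintro _ ⟨i, rfl⟩
    fin_cases i
    · exact hmem 2
    · exact hmem 3
    · exact hmem 4
    · exact hmem 5)
  apply closure_eq_of_cover (V := V) _ hVK
  · intro g hg
    obtain ⟨k', hk, h1⟩ := hcov g hg
    refine ⟨k', ?_, h1⟩
    have h2 : closure ({a₀, b₀} : Set X) ≤ K := by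
      rw [closure_le]
      rintro y (rfl | rfl)
      · rw [ea]; exact K.mul_mem (K.inv_mem (hVK hv)) k0
      · rw [eb]
        refine K.mul_mem (K.inv_mem (hVK hv')) ?_
        have h3 := K.mul_mem (hVK hc) k1
        rwa [inv_mul_cancel_right] at h3
    exact h2 hk
  · intro i
    fin_cases i
    · exact haT'
    · exact hcT
    · exact hVT (h.mem _)
    · exact hVT (h.mem _)
    · exact hVT (h.mem _)
    · exact hVT (h.mem _)

/-- Case (O2): `2 wr D₈`. -/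
theorem isType_W8 (hV : El V) {e : Fin 4 → X} (h : PB V e)
    (hC : ∀ g : X, (∀ i, g * e i * g⁻¹ = e i) → g ∈ V) {t₀ a₀ d : X}
    (ht₀ : ∀ i, t₀ * e i * t₀⁻¹ = e (τt i)) (ha₀ : ∀ i, a₀ * e i * a₀⁻¹ = e (τa i))
    (hdt : d * t₀ * d⁻¹ * t₀⁻¹ ∈ V)
    (hd : ∀ v ∈ V, t₀ * v * t₀⁻¹ = v → (d * v * d⁻¹ * v⁻¹ = 1 ∨ d * v * d⁻¹ * v⁻¹ = e 1 * e 3) →
      v = 1 ∨ v = e 1 * e 3)
    {T : Subgroup X} (hT : Nat.card T = 128) (hVT : V ≤ T) (htT : t₀ ∈ T) (haT : a₀ ∈ T)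
    (hcov : ∀ g ∈ T, ∃ k ∈ closure ({t₀, a₀} : Set X), k⁻¹ * g ∈ V) : IsType W8 T := by
  -- the transposition lifts to an involution
  have h13 : e 1 * e 3 = pt e ![0, 1, 0, 1] := by simp [pt, ZMod.val_one]
  have h13V : e 1 * e 3 ∈ V := V.mul_mem (h.mem _) (h.mem _)
  have htcm : ∀ v ∈ V, t₀ * v * t₀⁻¹ * v⁻¹ = 1 ∨ t₀ * v * t₀⁻¹ * v⁻¹ = e 1 * e 3 := by
    intro v hv
    obtain ⟨s, rfl⟩ := exists_pt hV h hv
    rw [pt_conj hV h good_t ht₀, hV.inv (h.pt_mem s), ← pt_add hV h, h13]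
    have h1 : ∀ s : Fin 4 → ZMod 2, s ∘ τt + s = 0 ∨ s ∘ τt + s = ![0, 1, 0, 1] := by decide
    rcases h1 s with h2 | h2 <;> rw [h2]
    · exact Or.inl pt_zero
    · exact Or.inr rfl
  have htV : t₀ * t₀ ∈ V := hC _ fun i => by
    rw [act_mul ht₀ ht₀]
    congr 1
    revert i
    decide
  obtain ⟨v, hv, htt, ht⟩ : ∃ v ∈ V, (v * t₀) * (v * t₀) = 1 ∧
      ∀ i, (v * t₀) * e i * (v * t₀)⁻¹ = e (τt i) := by
    have h1 : t₀ * t₀ = 1 ∨ t₀ * t₀ = e 1 * e 3 := by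
      apply hd _ htV (by group)
      set q := d * t₀ * d⁻¹ * t₀⁻¹ with hq
      have h2 : d * (t₀ * t₀) * d⁻¹ = q * (t₀ * q * t₀⁻¹) * (t₀ * t₀) := by rw [hq]; group
      have h3 : d * (t₀ * t₀) * d⁻¹ * (t₀ * t₀)⁻¹ = t₀ * q * t₀⁻¹ * q⁻¹ := by
        rw [h2, mul_inv_cancel_right, hV.inv hdt, hV.comm hdt (hV.conj _ hdt)]
      rw [h3]
      exact htcm q hdt
    rcases h1 with h2 | h2
    · exact ⟨1, V.one_mem, by simpa using h2, by simpa using ht₀⟩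
    · refine ⟨e 1, h.mem 1, ?_, act_V hV h (h.mem 1) ht₀⟩
      have h3 : e 1 * t₀ * (e 1 * t₀) = e 1 * (t₀ * e 1 * t₀⁻¹) * (t₀ * t₀) := by group
      rw [h3, ht₀, h2]
      exact hV.sq _ h13V
  have htT' : v * t₀ ∈ T := T.mul_mem (hVT hv) htT
  have et : t₀ = v⁻¹ * (v * t₀) := by group
  generalize v * t₀ = t at htt ht htT' et
  obtain ⟨v', hv', haa, ha⟩ := exists_invol_act hV h hC good_a (by decide) free_a ha₀
  have haT' : v' * a₀ ∈ T := T.mul_mem (hVT hv') haT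
  have ea : a₀ = v'⁻¹ * (v' * a₀) := by group
  generalize v' * a₀ = a at haa ha haT' ea
  have ha' : a⁻¹ = a := inv_eq_of_mul_eq_one_left haa
  -- `b = t a t⁻¹`
  have key : ∀ t : X, t * t = 1 → (∀ i, t * e i * t⁻¹ = e (τt i)) →
      (t * a * t⁻¹) * (t * a * t⁻¹) = 1 ∧ (∀ i, (t * a * t⁻¹) * e i * (t * a * t⁻¹)⁻¹ = e (τc i)) ∧
      ((a * (t * a * t⁻¹)) * (a * (t * a * t⁻¹)) = 1 ∨
        (a * (t * a * t⁻¹)) * (a * (t * a * t⁻¹)) = pt e fun _ => 1) := by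
    intro t htt ht
    have ht' : t⁻¹ = t := inv_eq_of_mul_eq_one_left htt
    have hbb : (t * a * t⁻¹) * (t * a * t⁻¹) = 1 := by
      have h1 : (t * a * t⁻¹) * (t * a * t⁻¹) = t * (a * a) * t⁻¹ := by group
      rw [h1, haa]; group
    have hb : ∀ i, (t * a * t⁻¹) * e i * (t * a * t⁻¹)⁻¹ = e (τc i) := by
      intro i
      rw [ht', act_mul (act_mul ht ha) ht]
      congr 1
      revert i
      decide
    refine ⟨hbb, hb, ?_⟩
    have hcomm : a * (t * a * t⁻¹) * a⁻¹ * (t * a * t⁻¹)⁻¹ ∈ V := by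
      generalize t * a * t⁻¹ = b at hbb hb
      have h1 : ∀ i, (a * b) * e i * (a * b)⁻¹ = e ((τa ∘ τc) i) := fun i => act_mul ha hb i
      have h2 : ∀ i, (b * a) * e i * (b * a)⁻¹ = e ((τa ∘ τc) i) := by
        intro i
        rw [act_mul hb ha]
        congr 1
        revert i
        decide
      have h3 := hV.conj (b * a) (mem_of_act hC h2 h1)
      have h4 : b * a * ((b * a)⁻¹ * (a * b)) * (b * a)⁻¹ = a * b * a⁻¹ * b⁻¹ := by group
      rwa [h4] at h3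
    obtain ⟨h1, h2, h3⟩ := sq_fix hV haa hbb hcomm
    exact pt_ones_or hV h good_a good_c ha hb (by decide) h1 h2 h3
  obtain ⟨c, hc, hcT, hcc, hcact, hac⟩ : ∃ c : X, t * c⁻¹ ∈ V ∧ c ∈ T ∧ c * c = 1 ∧
      (∀ i, c * e i * c⁻¹ = e (τt i)) ∧ (a * (c * a * c⁻¹)) * (a * (c * a * c⁻¹)) = 1 := by
    obtain ⟨h1, h2, h3⟩ := key t htt ht
    rcases h3 with h4 | h4
    · exact ⟨t, by simp, htT', htt, ht, h4⟩
    · have ht' : t⁻¹ = t := inv_eq_of_mul_eq_one_left htt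
      have te0 : t * e 0 = e 0 * t := cjw (ht 0)
      have e00 : e 0 * e 0 = 1 := hV.sq _ (h.mem 0)
      have e0i : (e 0)⁻¹ = e 0 := inv_eq_of_mul_eq_one_left e00
      refine ⟨e 0 * t, ?_, T.mul_mem (hVT (h.mem 0)) htT', ?_, act_V hV h (h.mem 0) ht, ?_⟩
      · rw [mul_inv_rev, mul_inv_cancel_left]
        exact V.inv_mem (h.mem 0)
      · have h5 : e 0 * t * (e 0 * t) = e 0 * (t * e 0) * t := by group
        rw [h5, te0]
        have h6 : e 0 * (e 0 * t) * t = (e 0 * e 0) * (t * t) := by group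
        rw [h6, e00, htt, one_mul]
      · set m := pt e ![1, 0, 0, 1] with hm
        have h5 : e 0 * t * a * (e 0 * t)⁻¹ = m * (t * a * t⁻¹) := by
          have h6 : e 0 * t * a * (e 0 * t)⁻¹ =
              e 0 * ((t * a * t⁻¹) * (e 0) * (t * a * t⁻¹)⁻¹)⁻¹ * (t * a * t⁻¹) := by group
          rw [h6, h2]
          congr 1
          rw [hV.inv (h.mem _), hm]
          simp [pt, τc, ZMod.val_one]
        rw [h5, sq_twist, h4, hm, pt_conj hV h good_a ha, pt_conj hV h good_c h2,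
          pt_conj hV h good_a ha, ← pt_add hV h, ← pt_add hV h]
        rw [show ((![1, 0, 0, 1] : Fin 4 → ZMod 2) ∘ τa + (((![1, 0, 0, 1] : Fin 4 → ZMod 2) ∘ τa) ∘ τc) ∘ τa
          + fun _ => 1) = 0 by decide]
        exact pt_zero
  obtain ⟨hbb, hb, -⟩ := key c hcc hcact
  have hc' : c⁻¹ = c := inv_eq_of_mul_eq_one_left hcc
  have hca : c * a = (c * a * c⁻¹) * c := by group
  have hcb : c * (c * a * c⁻¹) = a * c := by
    have h1 : c * (c * a * c⁻¹) = (c * c) * a * c⁻¹ := by group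
    rw [h1, hcc, one_mul, hc']
  have hbT' : c * a * c⁻¹ ∈ T := T.mul_mem (T.mul_mem hcT haT') (T.inv_mem hcT)
  generalize c * a * c⁻¹ = b at hac hbb hb hca hcb hbT'
  have hb' : b⁻¹ = b := inv_eq_of_mul_eq_one_left hbb
  have hab : a * b = b * a := by
    have h5 : a * b = (a * b)⁻¹ := (inv_eq_of_mul_eq_one_left hac).symm
    rw [mul_inv_rev, ha', hb'] at h5
    exact h5
  have sat : Sat W8 ![c, a, b, e 0, e 1, e 2, e 3] :=
    sat_W8 hcc haa hbb hab (hV.sq _ (h.mem _)) (hV.sq _ (h.mem _)) (hV.sq _ (h.mem _))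
      (hV.sq _ (h.mem _)) (hV.comm (h.mem _) (h.mem _)) (hV.comm (h.mem _) (h.mem _))
      (hV.comm (h.mem _) (h.mem _)) (hV.comm (h.mem _) (h.mem _)) (hV.comm (h.mem _) (h.mem _))
      (hV.comm (h.mem _) (h.mem _)) (cjw (ha 0)) (cjw (ha 1)) (cjw (ha 2)) (cjw (ha 3))
      (cjw (hb 0)) (cjw (hb 1)) (cjw (hb 2)) (cjw (hb 3)) hca hcb
      (cjw (hcact 0)) (cjw (hcact 1)) (cjw (hcact 2)) (cjw (hcact 3))
  refine isType_of_closure sat T ?_ (by rw [hT]; norm_num)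
  have hmem : ∀ i, (![c, a, b, e 0, e 1, e 2, e 3] : Fin 7 → X) i ∈
      closure (Set.range ![c, a, b, e 0, e 1, e 2, e 3]) := fun i => subset_closure ⟨i, rfl⟩
  set K := closure (Set.range ![c, a, b, e 0, e 1, e 2, e 3]) with hK
  have k0 : c ∈ K := hmem 0
  have k1 : a ∈ K := hmem 1
  have hVK : V ≤ K := h.gen.trans (by
    rw [closure_le]
    rintro _ ⟨i, rfl⟩
    fin_cases i
    · exact hmem 3
    · exact hmem 4
    · exact hmem 5
    · exact hmem 6)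
  apply closure_eq_of_cover (V := V) _ hVK
  · intro g hg
    obtain ⟨k', hk, h1⟩ := hcov g hg
    refine ⟨k', ?_, h1⟩
    have h2 : closure ({t₀, a₀} : Set X) ≤ K := by
      rw [closure_le]
      rintro y (rfl | rfl)
      · rw [et]
        refine K.mul_mem (K.inv_mem (hVK hv)) ?_
        have h3 := K.mul_mem (hVK hc) k0
        rwa [inv_mul_cancel_right] at h3
      · rw [ea]; exact K.mul_mem (K.inv_mem (hVK hv')) k1
    exact h2 hk
  · intro i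
    fin_cases i
    · exact hcT
    · exact haT'
    · exact hbT'
    · exact hVT (h.mem _)
    · exact hVT (h.mem _)
    · exact hVT (h.mem _)
    · exact hVT (h.mem _)

end Cfsg.Agent.GH.C2Syl
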