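import Cfsg.Agent.GH.C2SylNat
import Cfsg.Agent.GH.C2SylPerm

/-!
# GH-C2: from the action of `X / V` on `V` to the Sylow 2-subgroups of `X`
-/

set_option autoImplicit false

namespace Cfsg.Agent.GH.C2SylGlue

open scoped Pointwise

open Subgroup Cfsg.Agent.GH.Pc Cfsg.Agent.GH.PcTypes Cfsg.Agent.GH.C2Rel Cfsg.Agent.GH.C2Syl
open Cfsg.Agent.TwoFusion.SectionalRank Cfsg.Agent.J2Sylow.Model

variable {X : Type*} [Group X] {V : Subgroup X}

/-- `π : X → Y` with kernel `V`, `φ` the action of `Y` on `V`. -/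
structure Act {Y : Type*} [Group Y] (V : Subgroup X) (π : X →* Y) (φ : Y →* MulAut V) : Prop where
  surj : Function.Surjective π
  ker : ∀ g, π g = 1 ↔ g ∈ V
  act : ∀ (g : X) (v : V), (φ (π g) v : X) = g * v * g⁻¹

/-- The action of `X / V` on `V`. -/
def actQ (V : Subgroup X) [V.Normal] (hV : ∀ v ∈ V, v * v = 1) : X ⧸ V →* MulAut V :=
  QuotientGroup.lift V MulAut.conjNormal (by
    intro g hg
    have hEl : El V := ⟨inferInstance, hV⟩
    ext v
    rw [MulAut.conjNormal_apply]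
    change g * v * g⁻¹ = v
    rw [hEl.comm hg v.2]; group)

theorem act_actQ [V.Normal] (hV : ∀ v ∈ V, v * v = 1) :
    Act V (QuotientGroup.mk' V) (actQ V hV) where
  surj := QuotientGroup.mk'_surjective V
  ker g := QuotientGroup.eq_one_iff g
  act g v := by
    change (MulAut.conjNormal g v : X) = _
    rw [MulAut.conjNormal_apply]

theorem actQ_injective [V.Normal] (hV : ∀ v ∈ V, v * v = 1)
    (hC : ∀ g : X, (∀ v ∈ V, g * v = v * g) → g ∈ V) : Function.Injective (actQ V hV) := by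
  rw [injective_iff_map_eq_one]
  intro y hy
  obtain ⟨g, rfl⟩ := QuotientGroup.mk'_surjective V y
  rw [QuotientGroup.mk'_apply, QuotientGroup.eq_one_iff]
  apply hC
  intro v hv
  have h1 := (act_actQ hV).act g ⟨v, hv⟩
  rw [hy] at h1
  change v = g * v * g⁻¹ at h1
  rw [eq_comm, mul_inv_eq_iff_eq_mul] at h1
  exact h1

namespace Act

variable {Y : Type*} [Group Y] {π : X →* Y} {φ : Y →* MulAut V}

theorem ker_eq (h : Act V π φ) : π.ker = V := by
  ext g
  rw [MonoidHom.mem_ker, h.ker]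

theorem mem_iff (h : Act V π φ) {g k : X} : π g = π k ↔ k⁻¹ * g ∈ V := by
  rw [← h.ker, map_mul, map_inv, inv_mul_eq_one, eq_comm]

theorem mem_iff' (h : Act V π φ) {g k : X} : π g = π k ↔ g * k⁻¹ ∈ V := by
  rw [← h.ker, map_mul, map_inv, mul_inv_eq_one]

/-- The preimage of a Sylow 2-subgroup is a Sylow 2-subgroup. -/
theorem exists_sylow [Finite X] (h : Act V π φ) (hV : El V) (P : Sylow 2 Y) :
    ∃ T : Sylow 2 X, (T : Subgroup X) = (P : Subgroup Y).comap π := by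
  have hk : IsPGroup 2 π.ker := by
    rw [h.ker_eq]
    intro v
    refine ⟨1, Subtype.ext ?_⟩
    have := hV.sq v v.2
    rw [pow_one, pow_two]
    exact this
  refine ⟨Sylow.comapOfKerIsPGroup P π hk ?_, rfl⟩
  intro y _
  exact h.surj y

/-- The order of the preimage. -/
theorem card_comap [Finite X] (h : Act V π φ) (P : Subgroup Y) :
    Nat.card (P.comap π) = Nat.card V * Nat.card P := by
  have hs : Function.Surjective (π.subgroupComap P) :=
    MonoidHom.subgroupComap_surjective_of_surjective π P h.surj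
  have h1 := Subgroup.card_eq_card_quotient_mul_card_subgroup (π.subgroupComap P).ker
  have h2 : Nat.card (P.comap π ⧸ (π.subgroupComap P).ker) = Nat.card P :=
    Nat.card_congr (QuotientGroup.quotientKerEquivOfSurjective _ hs).toEquiv
  have h3 : Nat.card (π.subgroupComap P).ker = Nat.card V := by
    refine Nat.card_congr ⟨fun g => ⟨g.1, ?_⟩, fun v => ⟨⟨v, ?_⟩, ?_⟩, fun g => rfl, fun v => rfl⟩
    · have h4 := g.2
      rw [MonoidHom.mem_ker] at h4
      exact (h.ker _).mp (congrArg Subtype.val h4)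
    · rw [mem_comap, (h.ker _).mpr v.2]
      exact P.one_mem
    · rw [MonoidHom.mem_ker]
      exact Subtype.ext ((h.ker _).mpr v.2)
  rw [h1, h2, h3, mul_comm]

/-- Coset representatives from generators. -/
theorem exists_rep (h : Act V π φ) {S : Set X} {P : Subgroup Y} (hP : P = closure (π '' S))
    {g : X} (hg : g ∈ P.comap π) : ∃ k ∈ closure S, k⁻¹ * g ∈ V := by
  rw [mem_comap, hP, ← MonoidHom.map_closure] at hg
  obtain ⟨k, hk, h1⟩ := hg
  exact ⟨k, hk, h.mem_iff.mp h1.symm⟩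

end Act

/-- The natural data on `Y` (`F` a four-group, `U = C_V(F) = [V, F]`, `d` of order three). -/
structure Nat5 {Y : Type*} [Group Y] (φ : Y →* MulAut V) (U : Subgroup V) (f d : Y) : Prop where
  cardU : Nat.card U = 4
  ff : f * f = 1
  ddd : d * d * d = 1
  prod : f * (d * f * d⁻¹) * (d * (d * f * d⁻¹) * d⁻¹) = 1
  fpf : ∀ v, φ d v = v → v = 1
  dU : ∀ u ∈ U, φ d u ∈ U
  fix : ∀ v, φ f v = v ↔ v ∈ U
  cm : ∀ v, φ f v * v⁻¹ ∈ U
  sur : ∀ u ∈ U, ∃ v, φ f v * v⁻¹ = u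

section lift

variable {Y : Type*} [Group Y] {π : X →* Y} {φ : Y →* MulAut V}

/-- Lifting the natural data. -/
theorem Nat5.lift (h : Act V π φ) (hV : El V) (h16 : Nat.card V = 16) {U : Subgroup V} {f d : Y}
    (H : Nat5 φ U f d) {a b : X} (ha : π a = f) (hb : π b = d) :
    NHyp V (U.map V.subtype) a b := by
  have act : ∀ (g : X) (v : X) (hv : v ∈ V), g * v * g⁻¹ = φ (π g) ⟨v, hv⟩ := fun g v hv =>
    (h.act g ⟨v, hv⟩).symm
  have cact : ∀ (g : X) (v : X) (hv : v ∈ V), g * v * g⁻¹ * v⁻¹ =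
      ((φ (π g) ⟨v, hv⟩ * (⟨v, hv⟩ : V)⁻¹ : V) : X) := fun g v hv => by
    rw [act g v hv]; rfl
  have memU : ∀ (v : V), (v : X) ∈ U.map V.subtype ↔ v ∈ U := by
    intro v
    constructor
    · rintro ⟨w, hw, h1⟩
      rwa [← Subtype.ext (show (w : X) = v from h1)]
    · intro hv
      exact ⟨v, hv, rfl⟩
  refine ⟨hV, h16, ?_, ?_, ?_, ?_, ?_, ?_, ?_, ?_, ?_, ?_⟩
  · rintro _ ⟨v, -, rfl⟩
    exact v.2
  · rw [Nat.card_congr (U.equivMapOfInjective V.subtype V.subtype_injective).symm.toEquiv]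
    exact H.cardU
  · rw [← h.ker, map_mul, map_mul, hb, H.ddd]
  · intro v hv h1
    have h2 := H.fpf ⟨v, hv⟩ (Subtype.ext (by rw [← hb, ← act b v hv]; exact h1))
    exact congrArg Subtype.val h2
  · rintro _ ⟨u, hu, rfl⟩
    change b * (u : X) * b⁻¹ ∈ _
    rw [act b u u.2, memU, hb]
    exact H.dU u hu
  · rw [← h.ker, map_mul, ha, H.ff]
  · rw [← h.ker]
    simp only [map_mul, map_inv, ha, hb]
    exact H.prod
  · intro v hv
    have h1 := H.fix ⟨v, hv⟩
    rw [← memU] at h1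
    rw [← h1, act a v hv, ha]
    constructor
    · intro h2
      exact Subtype.ext h2
    · intro h2
      exact congrArg Subtype.val h2
  · intro v hv
    rw [cact a v hv, memU, ha]
    exact H.cm _
  · rintro _ ⟨u, hu, rfl⟩
    obtain ⟨v, hv⟩ := H.sur u hu
    refine ⟨v, v.2, ?_⟩
    rw [cact a v v.2, ha]
    exact congrArg Subtype.val hv

theorem le_comap (h : Act V π φ) (P : Subgroup Y) : V ≤ P.comap π := by
  intro v hv
  rw [mem_comap, (h.ker v).mpr hv]
  exact P.one_mem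

/-- Case (N1): the Sylow 2-subgroup of `Y` is the four-group. -/
theorem n1 [Finite X] (h : Act V π φ) (hV : El V) (h16 : Nat.card V = 16) {U : Subgroup V}
    {f d : Y} (H : Nat5 φ U f d) {P : Subgroup Y} (hP : P = closure {f, d * f * d⁻¹}) :
    ∃ (A B C : F4 → X) (r : X) (k : UT A B C), P.comap π = T0 k ∧
      (∀ g, g ∈ V ↔ ∃ y z, g = B y * C z) ∧ r * r * r = 1 ∧
      (∀ x, r * A x = A (F4.w * x) * r) ∧ (∀ x, r * B x = B (F4.w * x) * r) ∧
      (∀ x, r * C x = C (F4.u * x) * r) ∧ π r = d := by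
  obtain ⟨a, ha⟩ := h.surj f
  obtain ⟨b, hb⟩ := h.surj d
  have N := H.lift h hV h16 ha hb
  have hfP : f ∈ P := by rw [hP]; exact subset_closure (by simp)
  have hgP : d * f * d⁻¹ ∈ P := by rw [hP]; exact subset_closure (by simp)
  obtain ⟨A, B, C, k, h1, h2, -, h4, h5, h6⟩ := N.n1 (T := P.comap π) (le_comap h P)
    (by rw [mem_comap, ha]; exact hfP)
    (by rw [mem_comap, map_mul, map_mul, map_inv, ha, hb]; exact hgP)
    (fun g hg => h.exists_rep (S := {a, b * a * b⁻¹}) (by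
      rw [hP, Set.image_pair]
      simp only [map_mul, map_inv, ha, hb]) hg)
  exact ⟨A, B, C, b, k, h1, h2, N.d3', h4, h5, h6, hb⟩

/-- Case (N2): the Sylow 2-subgroup of `Y` has order 8. -/
theorem n2 [Finite X] (h : Act V π φ) (hV : El V) (h16 : Nat.card V = 16) {U : Subgroup V}
    {f d t : Y} (H : Nat5 φ U f d) (htt : t * t = 1) (htd : t * d * t⁻¹ = d⁻¹)
    (htf : t * f * t⁻¹ = f) (htU : ∃ u ∈ U, φ t u ≠ u)
    {P : Subgroup Y} (hP : P = closure {t, f, d * f * d⁻¹}) :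
    ∃ (A B C : F4 → X) (s r : X) (k : UT A B C) (l : SR A B C s r), P.comap π = TS k l ∧
      (∀ g, g ∈ V ↔ ∃ y z, g = B y * C z) ∧ π s = t ∧ π r = d := by
  obtain ⟨a, ha⟩ := h.surj f
  obtain ⟨b, hb⟩ := h.surj d
  obtain ⟨c, hc⟩ := h.surj t
  have N := H.lift h hV h16 ha hb
  have htP : t ∈ P := by rw [hP]; exact subset_closure (by simp)
  have hfP : f ∈ P := by rw [hP]; exact subset_closure (by simp)
  have hgP : d * f * d⁻¹ ∈ P := by rw [hP]; exact subset_closure (by simp)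
  have hU : ∀ u ∈ U, φ t u ∈ U := by
    intro u hu
    rw [← H.fix]
    have h1 : φ f (φ t u) = φ (f * t) u := by rw [map_mul]; rfl
    have h2 : f * t = t * f := by
      rw [mul_inv_eq_iff_eq_mul] at htf
      exact htf.symm
    rw [h1, h2, map_mul]
    change φ t (φ f u) = φ t u
    rw [(H.fix u).mpr hu]
  obtain ⟨A, B, C, s, k, l, h1, h2, h3, -⟩ := N.n2 (t := c)
    (by rw [← h.ker, map_mul, hc, htt])
    (by rw [← h.ker]; simp only [map_mul, map_inv, hb, hc]; rw [htd, inv_mul_cancel])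
    (by rw [← h.ker]; simp only [map_mul, map_inv, ha, hc]; rw [htf, mul_inv_cancel])
    (by
      obtain ⟨u, hu, h4⟩ := htU
      refine ⟨u, ⟨u, hu, rfl⟩, fun h5 => h4 (Subtype.ext ?_)⟩
      rw [← hc, h.act c u]
      exact h5)
    (by
      rintro _ ⟨u, hu, rfl⟩
      change c * (u : X) * c⁻¹ ∈ _
      rw [← h.act c u, hc]
      exact ⟨_, hU u hu, rfl⟩)
    (T := P.comap π) (le_comap h P)
    (by rw [mem_comap, hc]; exact htP)
    (by rw [mem_comap, ha]; exact hfP)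
    (by rw [mem_comap, map_mul, map_mul, map_inv, ha, hb]; exact hgP)
    (fun g hg => h.exists_rep (S := {c, a, b * a * b⁻¹}) (by
      rw [hP, Set.image_insert_eq, Set.image_pair]
      simp only [map_mul, map_inv, ha, hb, hc]) hg)
  refine ⟨A, B, C, s, b, k, l, h1, h3, ?_, hb⟩
  rw [← hc]
  exact h.mem_iff'.mpr h2

/-- Case (N3) is impossible. -/
theorem n3 [Finite X] (h : Act V π φ) (hV : El V) (h16 : Nat.card V = 16) {U : Subgroup V}
    {f d t : Y} (H : Nat5 φ U f d) (htt : t * t = 1) (htd : t * d = d * t)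
    (htf : t * f = f * t) (htU : ∀ u ∈ U, φ t u = u) (ht : t ∉ closure {f, d * f * d⁻¹})
    (hr : ∀ Y N : Subgroup X, ElemSection 2 Y N → Nat.card Y ≤ 16 * Nat.card N) : False := by
  obtain ⟨a, ha⟩ := h.surj f
  obtain ⟨b, hb⟩ := h.surj d
  obtain ⟨c, hc⟩ := h.surj t
  have N := H.lift h hV h16 ha hb
  refine N.n3 (t := c)
    (by rw [← h.ker, map_mul, hc, htt])
    (by
      rw [← h.ker]; simp only [map_mul, map_inv, hb, hc]
      rw [htd, mul_inv_cancel_right, mul_inv_cancel])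
    (by
      rw [← h.ker]; simp only [map_mul, map_inv, ha, hc]
      rw [htf, mul_inv_cancel_right, mul_inv_cancel])
    (by
      rintro _ ⟨u, hu, rfl⟩
      change c * (u : X) * c⁻¹ = u
      rw [← h.act c u, hc, htU u hu])
    ?_ hr
  intro k hk hkV
  apply ht
  rw [← h.mem_iff, hc] at hkV
  rw [hkV]
  have h1 : π k ∈ (closure ({a, b * a * b⁻¹} : Set X)).map π := mem_map_of_mem π hk
  rw [MonoidHom.map_closure, Set.image_pair] at h1
  simpa only [map_mul, map_inv, ha, hb] using h1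

/-- The basis at the level of `X`. -/
theorem pb_of {e : Fin 4 → V} (h16 : Nat.card V = 16) (he : closure (Set.range e) = ⊤) :
    PB V fun i => (e i : X) where
  mem i := (e i).2
  card := h16
  gen := by
    have h1 : (closure (Set.range e)).map V.subtype = closure (Set.range fun i => (e i : X)) := by
      rw [MonoidHom.map_closure, ← Set.range_comp]; rfl
    rw [← h1, he, ← MonoidHom.range_eq_map, range_subtype]

theorem hC_of (h : Act V π φ) (hφ : Function.Injective φ) {e : Fin 4 → V}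
    (he : closure (Set.range e) = ⊤) :
    ∀ g : X, (∀ i, g * (e i : X) * g⁻¹ = e i) → g ∈ V := by
  intro g hg
  rw [← h.ker]
  apply hφ
  rw [map_one]
  have h1 : (⊤ : Subgroup V) ≤ (φ (π g)).toMonoidHom.eqLocus (MonoidHom.id V) := by
    rw [← he, closure_le]
    rintro _ ⟨i, rfl⟩
    change φ (π g) (e i) = e i
    apply Subtype.ext
    rw [h.act]
    exact hg i
  ext v
  exact congrArg Subtype.val (h1 (mem_top v))

/-- Case (O1): `A₅` on the orthogonal module. -/
theorem o1 [Finite X] (h : Act V π φ) (hφ : Function.Injective φ) (hV : El V)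
    (h16 : Nat.card V = 16) {e : Fin 4 → V} (he : closure (Set.range e) = ⊤) {a b : Y}
    (ha : ∀ i, φ a (e i) = e (τa i)) (hb : ∀ i, φ b (e i) = e (τb i))
    {P : Subgroup Y} (hP : P = closure {a, b}) (hP4 : Nat.card P = 4) :
    IsType W24 (P.comap π) := by
  obtain ⟨a', ha'⟩ := h.surj a
  obtain ⟨b', hb'⟩ := h.surj b
  refine isType_W24 hV (pb_of h16 he) (hC_of h hφ he) (a₀ := a') (b₀ := b') ?_ ?_ ?_
    (le_comap h P) ?_ ?_ ?_
  · intro i
    rw [← h.act, ha', ha]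
  · intro i
    rw [← h.act, hb', hb]
  · rw [h.card_comap, h16, hP4]
  · rw [mem_comap, ha', hP]; exact subset_closure (by simp)
  · rw [mem_comap, hb', hP]; exact subset_closure (by simp)
  · intro g hg
    exact h.exists_rep (S := {a', b'}) (by rw [hP, Set.image_pair, ha', hb']) hg

/-- Case (O2): `S₅` on the orthogonal module. -/
theorem o2 [Finite X] (h : Act V π φ) (hφ : Function.Injective φ) (hV : El V)
    (h16 : Nat.card V = 16) {e : Fin 4 → V} (he : closure (Set.range e) = ⊤) {t a d : Y}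
    (ht : ∀ i, φ t (e i) = e (τt i)) (ha : ∀ i, φ a (e i) = e (τa i)) (hdt : d * t = t * d)
    (hd : ∀ v, φ t v = v → (φ d v * v⁻¹ = 1 ∨ φ d v * v⁻¹ = e 1 * e 3) → v = 1 ∨ v = e 1 * e 3)
    {P : Subgroup Y} (hP : P = closure {t, a}) (hP8 : Nat.card P = 8) :
    IsType W8 (P.comap π) := by
  obtain ⟨a', ha'⟩ := h.surj a
  obtain ⟨t', ht'⟩ := h.surj t
  obtain ⟨d', hd'⟩ := h.surj d
  refine isType_W8 hV (pb_of h16 he) (hC_of h hφ he) (t₀ := t') (a₀ := a') (d := d') ?_ ?_ ?_ ?_ ?_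
    (le_comap h P) ?_ ?_ ?_
  · intro i
    rw [← h.act, ht', ht]
  · intro i
    rw [← h.act, ha', ha]
  · rw [← h.ker]
    simp only [map_mul, map_inv, ht', hd']
    rw [hdt, mul_inv_cancel_right, mul_inv_cancel]
  · intro v hv h1 h2
    have h3 := hd ⟨v, hv⟩ (Subtype.ext (by rw [← ht', h.act]; exact h1)) (by
      have h4 : ((φ d ⟨v, hv⟩ * (⟨v, hv⟩ : V)⁻¹ : V) : X) = d' * v * d'⁻¹ * v⁻¹ := by
        rw [coe_mul, ← hd', h.act]; rfl
      rcases h2 with h2 | h2
      · left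
        exact Subtype.ext (h4.trans h2)
      · right
        exact Subtype.ext (h4.trans h2))
    rcases h3 with h3 | h3
    · exact Or.inl (congrArg Subtype.val h3)
    · exact Or.inr (congrArg Subtype.val h3)
  · rw [h.card_comap, h16, hP8]
  · rw [mem_comap, ht', hP]; exact subset_closure (by simp)
  · rw [mem_comap, ha', hP]; exact subset_closure (by simp)
  · intro g hg
    exact h.exists_rep (S := {t', a'}) (by rw [hP, Set.image_pair, ha', ht']) hg

end lift

/-! ### the final form -/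

section final

variable {Y W : Type*} [Group Y] [Group W]

/-- natural data for `φ : Y →* MulAut W` -/
structure NatF5 (φ : Y →* MulAut W) (U : Subgroup W) (f d : Y) : Prop where
  cardU : Nat.card U = 4
  ff : f * f = 1
  ddd : d * d * d = 1
  prod : f * (d * f * d⁻¹) * (d * (d * f * d⁻¹) * d⁻¹) = 1
  fpf : ∀ v, φ d v = v → v = 1
  dU : ∀ u ∈ U, φ d u ∈ U
  fix : ∀ v, φ f v = v ↔ v ∈ U
  cm : ∀ v, φ f v * v⁻¹ ∈ U
  sur : ∀ u ∈ U, ∃ v, φ f v * v⁻¹ = u

/-- (N1): `A₅`, `3 × A₅` natural. -/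
def N1 (φ : Y →* MulAut W) : Prop :=
  ∃ U f d, NatF5 φ U f d ∧ ∃ P : Sylow 2 Y, Nat.card P = 4 ∧
    (P : Subgroup Y) = closure {f, d * f * d⁻¹}

/-- (N2): `S₅`, `(3 × A₅):2`, `A₆`, `A₇` natural. -/
def N2 (φ : Y →* MulAut W) : Prop :=
  ∃ U f d t, NatF5 φ U f d ∧ t * t = 1 ∧ t * d * t⁻¹ = d⁻¹ ∧ t * f * t⁻¹ = f ∧
    (∃ u ∈ U, φ t u ≠ u) ∧ ∃ P : Sylow 2 Y, Nat.card P = 8 ∧
    (P : Subgroup Y) = closure {t, f, d * f * d⁻¹}

/-- (N3): `S₆`, `A₈`. -/
def N3 (φ : Y →* MulAut W) : Prop :=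
  ∃ U f d t, NatF5 φ U f d ∧ t * t = 1 ∧ t * d = d * t ∧ t * f = f * t ∧
    (∀ u ∈ U, φ t u = u) ∧ t ∉ closure {f, d * f * d⁻¹}

/-- (O1): `A₅` orthogonal. -/
def O1 (φ : Y →* MulAut W) : Prop :=
  ∃ (e : Fin 4 → W) (a b : Y), closure (Set.range e) = ⊤ ∧ (∀ i, φ a (e i) = e (τa i)) ∧
    (∀ i, φ b (e i) = e (τb i)) ∧ ∃ P : Sylow 2 Y, Nat.card P = 4 ∧
    (P : Subgroup Y) = closure {a, b}

/-- (O2): `S₅` orthogonal. -/
def O2 (φ : Y →* MulAut W) : Prop :=
  ∃ (e : Fin 4 → W) (t a d : Y), closure (Set.range e) = ⊤ ∧ (∀ i, φ t (e i) = e (τt i)) ∧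
    (∀ i, φ a (e i) = e (τa i)) ∧ d * t = t * d ∧
    (∀ v, φ t v = v → (φ d v * v⁻¹ = 1 ∨ φ d v * v⁻¹ = e 1 * e 3) → v = 1 ∨ v = e 1 * e 3) ∧
    ∃ P : Sylow 2 Y, Nat.card P = 8 ∧ (P : Subgroup Y) = closure {t, a}

end final

section main

variable {Y : Type*} [Group Y] {π : X →* Y} {φ : Y →* MulAut V}

theorem nat5_of {U : Subgroup V} {f d : Y} (H : NatF5 φ U f d) : Nat5 φ U f d :=
  ⟨H.cardU, H.ff, H.ddd, H.prod, H.fpf, H.dU, H.fix, H.cm, H.sur⟩

/-- The coordinates of `T` in case (N1). -/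
def Out1 (V T : Subgroup X) : Prop :=
  ∃ (A B C : F4 → X) (r : X) (k : UT A B C), T = T0 k ∧
    (∀ g, g ∈ V ↔ ∃ y z, g = B y * C z) ∧ r * r * r = 1 ∧
    (∀ x, r * A x = A (F4.w * x) * r) ∧ (∀ x, r * B x = B (F4.w * x) * r) ∧
    (∀ x, r * C x = C (F4.u * x) * r)

/-- The coordinates of `T` in case (N2). -/
def Out2 (V T : Subgroup X) : Prop :=
  ∃ (A B C : F4 → X) (s r : X) (k : UT A B C) (l : SR A B C s r), T = TS k l ∧
    (∀ g, g ∈ V ↔ ∃ y z, g = B y * C z)

theorem conjF (g : X) {Z Z' : F4 → X} (h : ∀ x, Z' x = g * Z x * g⁻¹) {r : X} {ω : F4}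
    (hr : ∀ x, r * Z x = Z (ω * x) * r) (x : F4) :
    (g * r * g⁻¹) * Z' x = Z' (ω * x) * (g * r * g⁻¹) := by
  rw [h, h]
  have h1 : g * r * g⁻¹ * (g * Z x * g⁻¹) = g * (r * Z x) * g⁻¹ := by group
  rw [h1, hr]; group

theorem conjUT {A B C : F4 → X} (g : X) (k : UT A B C) :
    UT (fun x => g * A x * g⁻¹) (fun x => g * B x * g⁻¹) (fun x => g * C x * g⁻¹) where
  XX a b := by rw [← k.XX]; group
  YY a b := by rw [← k.YY]; group
  ZZ a b := by rw [← k.ZZ]; group
  XY a b := by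
    have h1 : g * A a * g⁻¹ * (g * B b * g⁻¹) = g * (A a * B b) * g⁻¹ := by group
    rw [h1, k.XY]; group
  ZX c a := by
    have h1 : g * C c * g⁻¹ * (g * A a * g⁻¹) = g * (C c * A a) * g⁻¹ := by group
    rw [h1, k.ZX]; group
  ZY c b := by
    have h1 : g * C c * g⁻¹ * (g * B b * g⁻¹) = g * (C c * B b) * g⁻¹ := by group
    rw [h1, k.ZY]; group
  Z1 c hc h1 := by
    rw [mul_inv_eq_one, mul_eq_left] at h1
    exact k.Z1 c hc h1

theorem conjSR {A B C : F4 → X} {s r : X} (g : X) (l : SR A B C s r) :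
    SR (fun x => g * A x * g⁻¹) (fun x => g * B x * g⁻¹) (fun x => g * C x * g⁻¹)
      (g * s * g⁻¹) (g * r * g⁻¹) where
  ss := by
    have h1 : g * s * g⁻¹ * (g * s * g⁻¹) = g * (s * s) * g⁻¹ := by group
    rw [h1, l.ss]; group
  sX a := by
    have h1 : g * s * g⁻¹ * (g * A a * g⁻¹) = g * (s * A a) * g⁻¹ := by group
    rw [h1, l.sX]; group
  sY a := by
    have h1 : g * s * g⁻¹ * (g * B a * g⁻¹) = g * (s * B a) * g⁻¹ := by group
    rw [h1, l.sY]; group
  sZ a := by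
    have h1 : g * s * g⁻¹ * (g * C a * g⁻¹) = g * (s * C a) * g⁻¹ := by group
    rw [h1, l.sZ]; group
  rrr := by
    have h1 : g * r * g⁻¹ * (g * r * g⁻¹) * (g * r * g⁻¹) = g * (r * r * r) * g⁻¹ := by group
    rw [h1, l.rrr]; group
  rX a := by
    have h1 : g * r * g⁻¹ * (g * A a * g⁻¹) = g * (r * A a) * g⁻¹ := by group
    rw [h1, l.rX]; group
  rY a := by
    have h1 : g * r * g⁻¹ * (g * B a * g⁻¹) = g * (r * B a) * g⁻¹ := by group
    rw [h1, l.rY]; group
  rZ a := by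
    have h1 : g * r * g⁻¹ * (g * C a * g⁻¹) = g * (r * C a) * g⁻¹ := by group
    rw [h1, l.rZ]; group
  sr := by
    have h1 : g * s * g⁻¹ * (g * r * g⁻¹) * (g * s * g⁻¹) = g * (s * r * s) * g⁻¹ := by group
    rw [h1, l.sr]; group

theorem mem_conj_iff {g x : X} {T : Subgroup X} : x ∈ (MulAut.conj g • T : Subgroup X) ↔
    g⁻¹ * x * g ∈ T := by
  rw [mem_pointwise_smul_iff_inv_smul_mem, ← map_inv, MulAut.smul_def, MulAut.conj_apply, inv_inv]

/-- Conjugates of `T` have the same description. -/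
theorem Out1.conj (hV : El V) {T : Subgroup X} (h : Out1 V T) (g : X) :
    Out1 V (MulAut.conj g • T) := by
  obtain ⟨A, B, C, r, k, h1, h2, h3, h4, h5, h6⟩ := h
  refine ⟨_, _, _, g * r * g⁻¹, conjUT g k, ?_, ?_, ?_, conjF g (fun _ => rfl) h4,
    conjF g (fun _ => rfl) h5, conjF g (fun _ => rfl) h6⟩
  · ext x
    rw [mem_conj_iff, h1, mem_T0, mem_T0]
    constructor
    · rintro ⟨a, b, c, e⟩
      refine ⟨a, b, c, ?_⟩
      have e1 : x = g * (g⁻¹ * x * g) * g⁻¹ := by group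
      rw [e1, e]; group
    · rintro ⟨a, b, c, e⟩
      exact ⟨a, b, c, by rw [e]; group⟩
  · intro x
    have e1 : x ∈ V ↔ g⁻¹ * x * g ∈ V := by
      constructor
      · intro hx
        have := hV.conj g⁻¹ hx
        simpa using this
      · intro hx
        have := hV.conj g hx
        have e2 : g * (g⁻¹ * x * g) * g⁻¹ = x := by group
        rwa [e2] at this
    rw [e1, h2]
    constructor
    · rintro ⟨y, z, e⟩
      refine ⟨y, z, ?_⟩
      have e1 : x = g * (g⁻¹ * x * g) * g⁻¹ := by group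
      rw [e1, e]; group
    · rintro ⟨y, z, e⟩
      exact ⟨y, z, by rw [e]; group⟩
  · have e1 : g * r * g⁻¹ * (g * r * g⁻¹) * (g * r * g⁻¹) = g * (r * r * r) * g⁻¹ := by group
    rw [e1, h3]; group

theorem Out2.conj (hV : El V) {T : Subgroup X} (h : Out2 V T) (g : X) :
    Out2 V (MulAut.conj g • T) := by
  obtain ⟨A, B, C, s, r, k, l, h1, h2⟩ := h
  refine ⟨_, _, _, _, _, conjUT g k, conjSR g l, ?_, ?_⟩
  · ext x
    rw [mem_conj_iff, h1, mem_TS, mem_TS]
    constructor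
    · rintro ⟨a, b, c, e | e⟩
      · refine ⟨a, b, c, Or.inl ?_⟩
        have e1 : x = g * (g⁻¹ * x * g) * g⁻¹ := by group
        rw [e1, e]; group
      · refine ⟨a, b, c, Or.inr ?_⟩
        have e1 : x = g * (g⁻¹ * x * g) * g⁻¹ := by group
        rw [e1, e]; group
    · rintro ⟨a, b, c, e | e⟩
      · exact ⟨a, b, c, Or.inl (by rw [e]; group)⟩
      · exact ⟨a, b, c, Or.inr (by rw [e]; group)⟩
  · intro x
    have e1 : x ∈ V ↔ g⁻¹ * x * g ∈ V := by
      constructor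
      · intro hx
        have := hV.conj g⁻¹ hx
        simpa using this
      · intro hx
        have := hV.conj g hx
        have e2 : g * (g⁻¹ * x * g) * g⁻¹ = x := by group
        rwa [e2] at this
    rw [e1, h2]
    constructor
    · rintro ⟨y, z, e⟩
      refine ⟨y, z, ?_⟩
      have e1 : x = g * (g⁻¹ * x * g) * g⁻¹ := by group
      rw [e1, e]; group
    · rintro ⟨y, z, e⟩
      exact ⟨y, z, by rw [e]; group⟩

/-- **Final form**: the Sylow 2-subgroups of `X` from the action of `Y = X / V` on `V`. -/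
theorem main [Finite X] (h : Act V π φ) (hφ : Function.Injective φ) (hV : El V)
    (h16 : Nat.card V = 16) (hD : N1 φ ∨ N2 φ ∨ N3 φ ∨ O1 φ ∨ O2 φ)
    (hr : ∀ Y N : Subgroup X, ElemSection 2 Y N → Nat.card Y ≤ 16 * Nat.card N) (T : Sylow 2 X) :
    (IsType UT34 T ∧ Nat.card T = 64 ∧ Out1 V T ∧ N1 φ) ∨
    (IsType M22T T ∧ Nat.card T = 128 ∧ Out2 V T ∧ N2 φ) ∨
    (IsType W24 T ∧ Nat.card T = 64 ∧ O1 φ) ∨
    (IsType W8 T ∧ Nat.card T = 128 ∧ O2 φ) := by
  have hcard : ∀ T' : Sylow 2 X, Nat.card T = Nat.card T' := fun T' =>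
    Nat.card_congr (Sylow.equiv T T').toEquiv
  rcases hD with hD | hD | hD | hD | hD
  · left
    have hD' := hD
    obtain ⟨U, f, d, H, P, hP4, hP⟩ := hD
    obtain ⟨T', hT'⟩ := h.exists_sylow hV P
    obtain ⟨A, B, C, r, k, h1, h2, h3, h4, h5, h6, -⟩ := n1 h hV h16 (nat5_of H) hP
    have hc : Nat.card T' = 64 := by
      change Nat.card (T' : Subgroup X) = 64
      rw [hT', h.card_comap, h16, hP4]
    have ho : Out1 V (T' : Subgroup X) :=
      ⟨A, B, C, r, k, hT'.trans h1, h2, h3, h4, h5, h6⟩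
    have hty : IsType UT34 (T' : Subgroup X) := by
      have h7 := isType_T0 k (by rw [← h1, ← hT']; exact hc)
      exact h7.congr (MulEquiv.subgroupCongr (hT'.trans h1).symm)
    refine ⟨hty.congr (Sylow.equiv T' T), by rw [hcard T', hc], ?_, hD'⟩
    obtain ⟨g, rfl⟩ := MulAction.exists_smul_eq X T' T
    exact ho.conj hV g
  · right; left
    have hD' := hD
    obtain ⟨U, f, d, t, H, htt, htd, htf, htU, P, hP8, hP⟩ := hD
    obtain ⟨T', hT'⟩ := h.exists_sylow hV P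
    obtain ⟨A, B, C, s, r, k, l, h1, h2, -, -⟩ := n2 h hV h16 (nat5_of H) htt htd htf htU hP
    have hc : Nat.card T' = 128 := by
      change Nat.card (T' : Subgroup X) = 128
      rw [hT', h.card_comap, h16, hP8]
    have ho : Out2 V (T' : Subgroup X) := ⟨A, B, C, s, r, k, l, hT'.trans h1, h2⟩
    have hty : IsType M22T (T' : Subgroup X) := by
      have h7 := isType_TS k l (by rw [← h1, ← hT']; exact hc)
      exact h7.congr (MulEquiv.subgroupCongr (hT'.trans h1).symm)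
    refine ⟨hty.congr (Sylow.equiv T' T), by rw [hcard T', hc], ?_, hD'⟩
    obtain ⟨g, rfl⟩ := MulAction.exists_smul_eq X T' T
    exact ho.conj hV g
  · exfalso
    obtain ⟨U, f, d, t, H, htt, htd, htf, htU, ht⟩ := hD
    exact n3 h hV h16 (nat5_of H) htt htd htf htU ht hr
  · right; right; left
    have hD' := hD
    obtain ⟨e, a, b, he, ha, hb, P, hP4, hP⟩ := hD
    obtain ⟨T', hT'⟩ := h.exists_sylow hV P
    have hty := o1 h hφ hV h16 he ha hb hP hP4
    rw [← hT'] at hty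
    refine ⟨hty.congr (Sylow.equiv T' T), ?_, hD'⟩
    rw [hcard T']
    change Nat.card (T' : Subgroup X) = 64
    rw [hT', h.card_comap, h16, hP4]
  · right; right; right
    have hD' := hD
    obtain ⟨e, t, a, d, he, ht, ha, hdt, hd, P, hP8, hP⟩ := hD
    obtain ⟨T', hT'⟩ := h.exists_sylow hV P
    have hty := o2 h hφ hV h16 he ht ha hdt hd hP hP8
    rw [← hT'] at hty
    refine ⟨hty.congr (Sylow.equiv T' T), ?_, hD'⟩
    rw [hcard T']
    change Nat.card (T' : Subgroup X) = 128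
    rw [hT', h.card_comap, h16, hP8]

end main

end Cfsg.Agent.GH.C2SylGlue
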