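import Cfsg.Agent.GH.GL4Main
import Cfsg.Agent.GH.C2SylGlue
import Cfsg.Agent.GH.C2GrowIn

/-!
# GH-C2, `GL(4,2)`: the output in the form of `C2SylGlue` and of `C2GrowIn` (helper871)
-/

set_option autoImplicit false

namespace Cfsg.Agent.GH.GL4

open Subgroup

variable {Y V : Type*} [Group Y] [Group V] {φ : Y →* MulAut V}

theorem NatD.natF5 {U : Subgroup V} {a d : Y} (h : NatD φ U a d) : C2SylGlue.NatF5 φ U a d :=
  ⟨h.cardU, h.aa, h.d3, h.prod, h.fpf, h.dU, h.fa, h.ca, h.sur⟩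

theorem N1.glue (h : N1 φ) : C2SylGlue.N1 φ := by
  obtain ⟨U, a, d, hn, hc, P, hP⟩ := h
  refine ⟨U, a, d, hn.natF5, P, ?_, hP⟩
  have h5 : Nat.card P = Nat.card (P : Subgroup Y) := rfl
  rw [h5, hP, hc]

theorem N2.glue (h : N2 φ) : C2SylGlue.N2 φ := by
  obtain ⟨U, a, d, t, hn, hc, htt, htd, hta, h1, h2, P, hP, hP8⟩ := h
  exact ⟨U, a, d, t, hn.natF5, htt, htd, by rw [hta, mul_inv_cancel_right], h1, P, hP8, hP⟩

theorem N3.glue (h : N3 φ) : C2SylGlue.N3 φ := by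
  obtain ⟨U, a, d, t, hn, hc, htt, htd, hta, h1, h2⟩ := h
  exact ⟨U, a, d, t, hn.natF5, htt, htd, hta, h1, h2⟩

theorem O1.glue (h : O1 φ) : C2SylGlue.O1 φ := by
  obtain ⟨e, a, b, h1, h2, h3, -, -, -, -, P, hP, hc⟩ := h
  exact ⟨e, a, b, h1, h2, h3, P, hc, hP⟩

theorem O2.glue (h : O2 φ) : C2SylGlue.O2 φ := by
  obtain ⟨e, t, a, b, d, y, h1, h2, h3, h4, -, -, -, -, -, -, h5, -, h6, -, -, -, -, -, P, hP, hc⟩ := h
  exact ⟨e, t, a, d, h1, h2, h3, h5, h6, P, hc, hP⟩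

/-- The theorem in the form of `C2SylGlue`. -/
theorem gl4_five' [Finite Y] (hφ : Function.Injective φ) (hV : Nat.card V = 16) (hsq : ∀ v : V, v * v = 1)
    (hns : ¬ Group.IsSolvable Y) (h5 : 5 ∣ Nat.card Y) :
    C2SylGlue.N1 φ ∨ C2SylGlue.N2 φ ∨ C2SylGlue.N3 φ ∨ C2SylGlue.O1 φ ∨ C2SylGlue.O2 φ := by
  rcases gl4_five hφ hV hsq hns h5 with h | h | h | h | h
  · exact Or.inl h.glue
  · exact Or.inr (Or.inl h.glue)
  · exact Or.inr (Or.inr (Or.inl h.glue))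
  · exact Or.inr (Or.inr (Or.inr (Or.inl h.glue)))
  · exact Or.inr (Or.inr (Or.inr (Or.inr h.glue)))

/-- The data for the growth lemma (G) in case (O2) [`S₅` orthogonal]. -/
theorem O2.gin [Finite Y] (hsq : ∀ v : V, v * v = 1) (h : O2 φ) :
    ∃ (P : Sylow 2 Y) (z v : V) (a b y : Y), C2GrowIn.GIn φ (P : Subgroup Y) z v a b y := by
  obtain ⟨e, t, a, b, d, y, -, ht, ha, hb, htt, haa, hbb, hab, hta, hbm, -, -, -, hya, hyb, hz1, hyz, -, P, hP, hc⟩ := h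
  have hcm := mul_comm_of_sq hsq
  have a0 : φ a (e 0) = e 1 := ha 0
  have a1 : φ a (e 1) = e 0 := ha 1
  have a2 : φ a (e 2) = e 3 := ha 2
  have a3 : φ a (e 3) = e 2 := ha 3
  have b0 : φ b (e 0) = e 2 := hb 0
  have t0 : φ t (e 0) = e 0 := ht 0
  have t1 : φ t (e 1) = e 3 := ht 1
  have t2 : φ t (e 2) = e 2 := ht 2
  have t3 : φ t (e 3) = e 1 := ht 3
  have haP : a ∈ (P : Subgroup Y) := by rw [hP]; exact subset_closure (Or.inr rfl)
  have htP : t ∈ (P : Subgroup Y) := by rw [hP]; exact subset_closure (Or.inl rfl)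
  have hbP : b ∈ (P : Subgroup Y) := by rw [hP]; exact hbm
  refine ⟨P, e 0 * e 1 * e 2 * e 3, e 0, a, b, y, ?_⟩
  refine ⟨P.isPGroup', hc, fun Q hQ hPQ => ?_, ⟨t, htP, a, Or.inl rfl, hta⟩, haP, hbP, ?_, haa, hbb, hab, hya,
    hyb, ?_, hyz, hz1, ?_⟩
  · obtain ⟨P', hP'⟩ := hQ.exists_le_sylow
    have h1 : P = P' := Sylow.ext (by
      have h2 := P.3 P'.isPGroup' (hPQ.trans hP')
      exact h2.symm)
    rw [h1]
    exact hP'
  · rintro rfl
    exact hta (by rw [mul_one, one_mul])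
  · intro x hx
    rw [hP] at hx
    have hfix : closure ({t, a} : Set Y) ≤ (MulAction.stabilizer (MulAut V) (e 0 * e 1 * e 2 * e 3)).comap φ := by
      rw [closure_le]
      rintro g (rfl | rfl)
      · show φ g (e 0 * e 1 * e 2 * e 3) = e 0 * e 1 * e 2 * e 3
        rw [map_mul, map_mul, map_mul, t0, t1, t2, t3]
        calc e 0 * e 3 * e 2 * e 1 = e 0 * (e 3 * e 2 * e 1) := by group
          _ = e 0 * (e 1 * (e 2 * e 3)) := by rw [hcm (e 3 * e 2) (e 1), hcm (e 3) (e 2)]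
          _ = _ := by group
      · show φ g (e 0 * e 1 * e 2 * e 3) = e 0 * e 1 * e 2 * e 3
        rw [map_mul, map_mul, map_mul, a0, a1, a2, a3]
        calc e 1 * e 0 * e 3 * e 2 = (e 1 * e 0) * (e 3 * e 2) := by group
          _ = (e 0 * e 1) * (e 2 * e 3) := by rw [hcm (e 1) (e 0), hcm (e 3) (e 2)]
          _ = _ := by group
    exact hfix hx
  · show e 0 * φ a (e 0) * φ b (e 0) * φ (a * b) (e 0) = _
    rw [map_mul, MulAut.mul_apply, a0, b0, a2]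

end Cfsg.Agent.GH.GL4
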