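import Cfsg.Agent.GH.C2FiveMax
import Cfsg.Agent.GH.GL4Glue
import Cfsg.Agent.GH.C2GrowJ2N
import Cfsg.Agent.GH.C2GrowN2Dead
import Cfsg.Agent.GH.C2GrowO1
import Cfsg.Agent.GH.C2GrowLocal
import Cfsg.Agent.GH.C2Types

/-!
# GH-C2, the five-side: the final theorem

`MaxLocal M T`, `5 ∣ |M|`, characteristic 2 type: `GType G` or `Extra32 G`.
-/

set_option autoImplicit false

namespace Cfsg.Agent.GH.C2FiveMain

open Subgroup Cfsg
open Cfsg.Agent.GH.C2FiveMax Cfsg.Agent.GH.C2Extra Cfsg.Agent.GH.C2Frame Cfsg.Agent.GH.C2Five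
open Cfsg.Agent.GH.C2SylGlue Cfsg.Agent.GH.C2Syl Cfsg.Agent.GH.C2Rel Cfsg.Agent.GH.PcTypes
open Cfsg.Agent.TwoFusion.SectionalRank Cfsg.Agent.J2Sylow.Model
open Cfsg.Agent.ZN (o2)

universe u

variable {G : Type u} [Group G]

/-! ### `T` as a Sylow 2-subgroup of `M`, `O₂(M)` inside `M` -/

section basic

variable {M T : Subgroup G}

/-- `T` as a Sylow 2-subgroup of `M`. -/
theorem exists_sylow [Finite G] (h : MaxLocal M T) :
    ∃ P : Sylow 2 M, (P : Subgroup M) = T.subgroupOf M := by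
  have h2 : Fact (Nat.Prime 2) := ⟨Nat.prime_two⟩
  have hT' : IsPGroup 2 (T.subgroupOf M) := h.pT.comap_of_injective _ M.subtype_injective
  obtain ⟨P, hP⟩ := hT'.exists_le_sylow
  refine ⟨P, le_antisymm ?_ hP⟩
  have hTP : (P : Subgroup M).map M.subtype = T := by
    refine h.eq_T (P.isPGroup'.map _) (map_subtype_le _) ?_
    intro t ht
    exact ⟨⟨t, h.le ht⟩, hP (mem_subgroupOf.2 ht), rfl⟩
  intro x hx
  rw [mem_subgroupOf, ← hTP]
  exact ⟨x, hx, rfl⟩

/-- Another Sylow 2-subgroup of `M`. -/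
theorem change [Finite G] (h : MaxLocal M T) (P : Sylow 2 M) :
    MaxLocal M ((P : Subgroup M).map M.subtype) := by
  have h2 : Fact (Nat.Prime 2) := ⟨Nat.prime_two⟩
  have hc : Nat.card ((P : Subgroup M).map M.subtype) = Nat.card T := by
    obtain ⟨P₀, hP₀⟩ := exists_sylow h
    rw [Subgroup.card_map_of_injective M.subtype_injective]
    have h1 : Nat.card T = Nat.card (P₀ : Subgroup M) := by
      rw [hP₀]
      exact (Nat.card_congr (subgroupOfEquivOfLe h.le).toEquiv).symm
    rw [h1]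
    exact Nat.card_congr (Sylow.equiv P P₀).toEquiv
  refine ⟨h.ne, h.eq, h.ns, h.char2, map_subtype_le _, P.isPGroup'.map _, ?_, ?_, h.max⟩
  · have h1 : ((P : Subgroup M).map M.subtype).relIndex M = (P : Subgroup M).index := by
      rw [Subgroup.relIndex, Subgroup.subgroupOf, Subgroup.comap_map_eq_self_of_injective
        M.subtype_injective]
    rw [h1]
    exact P.not_dvd_index
  · intro U hU hU1 R hR hRU hlt
    exact h.solv U hU hU1 R hR hRU (hc ▸ hlt)

theorem mem_o2 {x : M} : (x : G) ∈ o2 M ↔ x ∈ pCore 2 M := by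
  constructor
  · rintro ⟨y, hy, hxy⟩
    rwa [← Subtype.ext (show (y : G) = x from hxy)]
  · intro hx
    exact ⟨x, hx, rfl⟩

theorem card_o2 : Nat.card (o2 M) = Nat.card (pCore 2 M) :=
  Subgroup.card_map_of_injective M.subtype_injective

theorem sq' (h : Five M T (o2 M)) : ∀ v ∈ pCore 2 M, v * v = 1 := fun v hv =>
  Subtype.ext (h.sq v (mem_o2.mpr hv))

theorem card' (h : Five M T (o2 M)) : Nat.card (pCore 2 M) = 16 := by
  rw [← card_o2]
  exact h.card

theorem el (h : Five M T (o2 M)) : El (pCore 2 M) := ⟨inferInstance, sq' h⟩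

theorem cent' (h : Five M T (o2 M)) : ∀ g : M, (∀ v ∈ pCore 2 M, g * v = v * g) → g ∈ pCore 2 M := by
  intro g hg
  rw [← mem_o2]
  apply h.cent
  rintro _ ⟨v, hv, rfl⟩
  exact congrArg Subtype.val (hg v hv)

theorem not_solvable (h : Five M T (o2 M)) : ¬ Group.IsSolvable (↥M ⧸ pCore 2 M) := by
  intro hs
  apply h.ml.ns
  have h3 : Group.IsSolvable (pCore 2 M) := Group.isSolvable_of_comm (fun a b => by
    have e : ∀ v : pCore 2 M, v⁻¹ = v := fun v =>
      inv_eq_of_mul_eq_one_left (Subtype.ext (sq' h v v.2))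
    have h2 := e (a * b)
    rw [mul_inv_rev, e a, e b] at h2
    exact h2.symm)
  refine Group.isSolvable_of_ker_le_range (pCore 2 M).subtype (QuotientGroup.mk' (pCore 2 M)) ?_
  rw [QuotientGroup.ker_mk', range_subtype]

theorem five_dvd (h : Five M T (o2 M)) : 5 ∣ Nat.card (↥M ⧸ pCore 2 M) := by
  have h1 := Subgroup.card_eq_card_quotient_mul_card_subgroup (pCore 2 M)
  have h2 : 5 ∣ Nat.card (↥M ⧸ pCore 2 M) * Nat.card (pCore 2 M) := by rw [← h1]; exact h.five
  rcases Nat.prime_five.dvd_mul.mp h2 with h3 | h3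
  · exact h3
  · exfalso
    rw [card' h] at h3
    revert h3
    norm_num

end basic

/-! ### coordinates -/

section coord

variable {X : Type*} [Group X]

theorem ut_map {A B C : F4 → X} (k : UT A B C) (f : X →* G) (hf : Function.Injective f) :
    UT (fun a => f (A a)) (fun a => f (B a)) (fun a => f (C a)) where
  XX a b := by rw [← map_mul, k.XX]
  YY a b := by rw [← map_mul, k.YY]
  ZZ a b := by rw [← map_mul, k.ZZ]
  XY a b := by rw [← map_mul, k.XY, map_mul, map_mul]
  ZX c a := by rw [← map_mul, k.ZX, map_mul]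
  ZY c b := by rw [← map_mul, k.ZY, map_mul]
  Z1 c hc h1 := k.Z1 c hc (hf (by rw [h1, map_one]))

theorem sr_map {A B C : F4 → X} {s r : X} (k : SR A B C s r) (f : X →* G) :
    SR (fun a => f (A a)) (fun a => f (B a)) (fun a => f (C a)) (f s) (f r) where
  ss := by rw [← map_mul, k.ss, map_one]
  sX a := by rw [← map_mul, k.sX, map_mul]
  sY a := by rw [← map_mul, k.sY, map_mul]
  sZ a := by rw [← map_mul, k.sZ, map_mul]
  rrr := by rw [← map_mul, ← map_mul, k.rrr, map_one]
  rX a := by rw [← map_mul, k.rX, map_mul]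
  rY a := by rw [← map_mul, k.rY, map_mul]
  rZ a := by rw [← map_mul, k.rZ, map_mul]
  sr := by rw [← map_mul, ← map_mul, k.sr, map_mul]

theorem t0_map {A B C : F4 → X} (k : UT A B C) (f : X →* G) (hf : Function.Injective f) :
    (T0 k).map f = T0 (ut_map k f hf) := by
  ext g
  constructor
  · rintro ⟨x, ⟨a, b, c, rfl⟩, rfl⟩
    exact ⟨a, b, c, by rw [map_mul, map_mul]⟩
  · rintro ⟨a, b, c, rfl⟩
    exact ⟨B b * A a * C c, ⟨a, b, c, rfl⟩, by rw [map_mul, map_mul]⟩

theorem ts_map {A B C : F4 → X} {s r : X} (k : UT A B C) (l : SR A B C s r) (f : X →* G)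
    (hf : Function.Injective f) :
    (TS k l).map f = TS (ut_map k f hf) (sr_map l f) := by
  ext g
  rw [mem_TS, mem_map]
  constructor
  · rintro ⟨x, hx, rfl⟩
    obtain ⟨a, b, c, rfl | rfl⟩ := mem_TS.mp hx
    · exact ⟨a, b, c, Or.inl (by rw [map_mul, map_mul])⟩
    · exact ⟨a, b, c, Or.inr (by rw [map_mul, map_mul, map_mul])⟩
  · rintro ⟨a, b, c, rfl | rfl⟩
    · exact ⟨B b * A a * C c, mem_TS.mpr ⟨a, b, c, Or.inl rfl⟩, by rw [map_mul, map_mul]⟩
    · exact ⟨B b * A a * C c * s, mem_TS.mpr ⟨a, b, c, Or.inr rfl⟩, by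
        rw [map_mul, map_mul, map_mul]⟩

end coord

section cases

variable [Finite G] {M T : Subgroup G} (h : Five M T (o2 M))

/-- `V` in coordinates, in `G`. -/
theorem mem_V {B C : F4 → M} (hV : ∀ g, g ∈ pCore 2 M ↔ ∃ y z, g = B y * C z) (g : G) :
    g ∈ o2 M ↔ ∃ y z, g = M.subtype (B y) * M.subtype (C z) := by
  constructor
  · rintro ⟨x, hx, rfl⟩
    obtain ⟨y, z, rfl⟩ := (hV x).mp hx
    exact ⟨y, z, by rw [map_mul]⟩
  · rintro ⟨y, z, rfl⟩
    exact ⟨B y * C z, (hV _).mpr ⟨y, z, rfl⟩, by rw [map_mul]⟩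

include h

/-- Case (N1). -/
theorem case_n1 (hG : Defs.Hyp G)
    (hN : C2SylGlue.N1 (actQ (pCore 2 M) (sq' h))) : Defs.GType G := by
  have h2 : Fact (Nat.Prime 2) := ⟨Nat.prime_two⟩
  have := hG.simple
  obtain ⟨U, f, d, H, P, hP4, hP⟩ := hN
  have hA := act_actQ (sq' h)
  obtain ⟨A, B, C, r, k, h1, h2, h3, h4, h5, h6, -⟩ := n1 hA (el h) (card' h) (nat5_of H) hP
  obtain ⟨T', hT'⟩ := hA.exists_sylow (el h) P
  have hml := change h.ml T'
  have hT0 : (T' : Subgroup M).map M.subtype = T0 (ut_map k M.subtype M.subtype_injective) := by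
    rw [hT', h1, t0_map k M.subtype M.subtype_injective]
  have hc : Nat.card (T0 (ut_map k M.subtype M.subtype_injective)) = 64 := by
    rw [← hT0, Subgroup.card_map_of_injective M.subtype_injective, hT', hA.card_comap, card' h]
    have h7 : Nat.card (P : Subgroup (↥M ⧸ pCore 2 M)) = 4 := hP4
    rw [h7]
  have hmT : MaxLocal M (T0 (ut_map k M.subtype M.subtype_injective)) := by
    rw [← hT0]; exact hml
  obtain ⟨S, hS⟩ := hmT.pT.exists_le_sylow
  left
  refine ⟨S, ?_⟩
  by_cases hne : T0 (ut_map k M.subtype M.subtype_injective) = (S : Subgroup G)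
  · exact C2Types.sType_UT34 ((isType_T0 _ hc).congr (MulEquiv.subgroupCongr hne))
  · refine C2GrowJ2.sType_n1 (ut_map k M.subtype M.subtype_injective) hG.nonComm S rfl
      (mem_V h2) (d := M.subtype r) ?_ ?_ ?_ ?_ (fun g hg => h.cent hg) ?_ hS hne
    · rw [← map_mul, ← map_mul, h3, map_one]
    · intro x; rw [← map_mul, h4, map_mul]
    · intro x; rw [← map_mul, h5, map_mul]
    · intro x; rw [← map_mul, h6, map_mul]
    · intro Q hQ hTQ hQV
      refine (hmT.eq_T hQ ?_ hTQ).le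
      intro x hx
      rw [← h.ml.eq]
      exact C2GrowG.mem_normalizer_of fun v hv => hQV x hx v hv

/-- Case (N2). -/
theorem case_n2 (hG : Defs.Hyp G) (hchar : IsCharacteristicTwoType G)
    (hN : C2SylGlue.N2 (actQ (pCore 2 M) (sq' h))) : Defs.GType G := by
  have h2 : Fact (Nat.Prime 2) := ⟨Nat.prime_two⟩
  have := hG.simple
  obtain ⟨U, f, d, t, H, htt, htd, htf, htU, P, hP8, hP⟩ := hN
  have hA := act_actQ (sq' h)
  obtain ⟨A, B, C, s, r, k, l, h1, h2, -, -⟩ :=
    n2 hA (el h) (card' h) (nat5_of H) htt htd htf htU hP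
  obtain ⟨T', hT'⟩ := hA.exists_sylow (el h) P
  have hml := change h.ml T'
  have hT0 : (T' : Subgroup M).map M.subtype =
      TS (ut_map k M.subtype M.subtype_injective) (sr_map l M.subtype) := by
    rw [hT', h1, ts_map k l M.subtype M.subtype_injective]
  have hc : Nat.card (TS (ut_map k M.subtype M.subtype_injective) (sr_map l M.subtype)) = 128 := by
    rw [← hT0, Subgroup.card_map_of_injective M.subtype_injective, hT', hA.card_comap, card' h]
    have h7 : Nat.card (P : Subgroup (↥M ⧸ pCore 2 M)) = 8 := hP8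
    rw [h7]
  have hmT : MaxLocal M (TS (ut_map k M.subtype M.subtype_injective) (sr_map l M.subtype)) := by
    rw [← hT0]; exact hml
  obtain ⟨S, hS⟩ := hmT.pT.exists_le_sylow
  left
  refine ⟨S, ?_⟩
  have heq := C2GrowN2Dead.eq_sylow hG.simple hG.exists_not_comm hG.rank4 hchar hmT
    (ut_map k M.subtype M.subtype_injective) (sr_map l M.subtype) (mem_V h2)
    (fun g => mem_TS) h.five S hS
  exact C2Types.sType_M22T ((isType_TS _ _ hc).congr (MulEquiv.subgroupCongr heq))

/-- Case (O1). -/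
theorem case_o1 (hφ : Function.Injective (actQ (pCore 2 M) (sq' h)))
    (hN : C2SylGlue.O1 (actQ (pCore 2 M) (sq' h))) : Defs.GType G := by
  have h2 : Fact (Nat.Prime 2) := ⟨Nat.prime_two⟩
  obtain ⟨e, a, b, he, ha, hb, P, hP4, hP⟩ := hN
  have hA := act_actQ (sq' h)
  have hty := o1 hA hφ (el h) (card' h) he ha hb hP hP4
  obtain ⟨T', hT'⟩ := hA.exists_sylow (el h) P
  have hml := change h.ml T'
  rw [← hT'] at hty
  have hc : Nat.card ((T' : Subgroup M).map M.subtype) = 64 := by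
    rw [Subgroup.card_map_of_injective M.subtype_injective, hT', hA.card_comap, card' h]
    have h7 : Nat.card (P : Subgroup (↥M ⧸ pCore 2 M)) = 4 := hP4
    rw [h7]
  have hty' : IsType W24 ((T' : Subgroup M).map M.subtype) :=
    hty.congr ((T' : Subgroup M).equivMapOfInjective M.subtype M.subtype_injective)
  obtain ⟨S, hS⟩ := hml.pT.exists_le_sylow
  left
  refine ⟨S, ?_⟩
  have heq : (T' : Subgroup M).map M.subtype = S := by
    refine C2GrowO1.eq_of_free hml h.card h.sq hc (v₀ := ((e 0 : M) : G)) (mem_o2.mpr (e 0).2) ?_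
      S.isPGroup' hS
    -- the `e i` are conjugates of `e 0`
    have haP : a ∈ (P : Subgroup (↥M ⧸ pCore 2 M)) := by rw [hP]; exact subset_closure (Or.inl rfl)
    have hbP : b ∈ (P : Subgroup (↥M ⧸ pCore 2 M)) := by rw [hP]; exact subset_closure (Or.inr rfl)
    obtain ⟨a', ha'⟩ := hA.surj a
    obtain ⟨b', hb'⟩ := hA.surj b
    have haT : a' ∈ (T' : Subgroup M) := by rw [hT', mem_comap, ha']; exact haP
    have hbT : b' ∈ (T' : Subgroup M) := by rw [hT', mem_comap, hb']; exact hbP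
    have key : ∀ i, ∃ t ∈ (T' : Subgroup M), ((e i : M)) = t * (e 0 : M) * t⁻¹ := by
      intro i
      fin_cases i
      · exact ⟨1, one_mem _, by simp⟩
      · refine ⟨a', haT, ?_⟩
        rw [← hA.act, ha', ha]; rfl
      · refine ⟨b', hbT, ?_⟩
        rw [← hA.act, hb', hb]; rfl
      · refine ⟨a' * b', mul_mem haT hbT, ?_⟩
        rw [← hA.act, map_mul, ha', hb', map_mul, MulAut.mul_apply, hb, ha]; rfl
    rintro _ ⟨v, hv, rfl⟩
    have h1 : (⟨v, hv⟩ : pCore 2 M) ∈ closure (Set.range e) := by rw [he]; exact mem_top _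
    have h3 : closure (Set.range e) ≤ (closure {x | ∃ t ∈ (T' : Subgroup M).map M.subtype,
        x = t * ((e 0 : M) : G) * t⁻¹}).comap (M.subtype.comp (pCore 2 M).subtype) := by
      rw [closure_le]
      rintro _ ⟨i, rfl⟩
      obtain ⟨t, ht, hti⟩ := key i
      refine subset_closure ⟨t, ⟨t, ht, rfl⟩, ?_⟩
      exact congrArg Subtype.val hti
    exact h3 h1
  exact C2Types.sType_W24 (hty'.congr (MulEquiv.subgroupCongr heq))

/-- Case (O2). -/
theorem case_o2 (hchar : IsCharacteristicTwoType G)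
    (hφ : Function.Injective (actQ (pCore 2 M) (sq' h)))
    (hN : GL4.O2 (actQ (pCore 2 M) (sq' h))) : Defs.GType G ∨ Extra32 G := by
  have h2 : Fact (Nat.Prime 2) := ⟨Nat.prime_two⟩
  have hA := act_actQ (sq' h)
  obtain ⟨e, t, a, d, he, ht, ha, hdt, hd, P, hP8, hP⟩ := hN.glue
  have hty := o2 hA hφ (el h) (card' h) he ht ha hdt hd hP hP8
  obtain ⟨T', hT'⟩ := hA.exists_sylow (el h) P
  have hml := change h.ml T'
  rw [← hT'] at hty
  have hty' : IsType W8 ((T' : Subgroup M).map M.subtype) :=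
    hty.congr ((T' : Subgroup M).equivMapOfInjective M.subtype M.subtype_injective)
  obtain ⟨S, hS⟩ := hml.pT.exists_le_sylow
  by_cases hne : (T' : Subgroup M).map M.subtype = S
  · left; left
    exact ⟨S, C2Types.sType_W8 (hty'.congr (MulEquiv.subgroupCongr hne))⟩
  · right
    obtain ⟨P', z, v, a, b, y, hin⟩ := hN.gin (fun v : ↥(pCore 2 ↥M) => Subtype.ext (sq' h v v.2))
    refine C2GrowLocal.extra32_of_GIn hchar hml ?_ (card' h) (QuotientGroup.mk' (pCore 2 M))
      hA.surj hA.ker (actQ (pCore 2 M) (sq' h)) hA.act hin S.isPGroup' (lt_of_le_of_ne hS hne)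
    intro v hv
    rw [pow_two]
    exact sq' h v hv

end cases

/-- **The five-side of GH-C2.** -/
theorem main [Finite G] (hG : Defs.Hyp G) (hchar : IsCharacteristicTwoType G) {M T : Subgroup G}
    (h : MaxLocal M T) (h5 : 5 ∣ Nat.card M) : Defs.GType G ∨ Extra32 G := by
  rcases exists_five hG.rank4 hchar h h5 with hf | h1
  · have hinj := actQ_injective (sq' hf) (cent' hf)
    rcases GL4.gl4_five hinj (card' hf) (fun v => Subtype.ext (sq' hf v v.2)) (not_solvable hf)
      (five_dvd hf) with h1 | h1 | h1 | h1 | h1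
    · exact Or.inl (case_n1 hf hG h1.glue)
    · exact Or.inl (case_n2 hf hG hchar h1.glue)
    · exfalso
      obtain ⟨U, f, d, t, H, htt, htd, htf, htU, ht⟩ := h1.glue
      exact n3 (act_actQ (sq' hf)) (el hf) (card' hf) (nat5_of H) htt htd htf htU ht
        (r4_iff.mpr (GH.Rank.of_subgroup hG.rank4 M))
    · exact Or.inl (case_o1 hf hinj h1.glue)
    · exact case_o2 hf hchar hinj h1
  · exact Or.inr h1

end Cfsg.Agent.GH.C2FiveMain
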