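import Mathlib
import Cfsg.Agent.GH.C2Five

/-!
# GH-C2 (T3): natural modules of order 8 for `X / Q = L₃(2)`

Coordinates in `𝔽₂³`, the representation of `X` on a normal elementary abelian subgroup `V` of order 8,
realisation of all matrices, elements of order 3.
-/

set_option autoImplicit false
set_option maxHeartbeats 800000

namespace Cfsg.Agent.GH.C2ThreeNat

open Subgroup Cfsg.Agent.TwoFusion.SectionalRank Cfsg.Agent.GH.C2Base Cfsg.Agent.GH.C2Five
open Cfsg.Agent.SectRankFour.C2

theorem z2 (a : ZMod 2) : a = 0 ∨ a = 1 := by revert a; decide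

/-- `𝔽₂³` -/
abbrev T3 := ZMod 2 × ZMod 2 × ZMod 2

abbrev e1 : T3 := (1, 0, 0)
abbrev e2 : T3 := (0, 1, 0)
abbrev e3 : T3 := (0, 0, 1)

/-- matrices, given by the images of the three basis vectors -/
abbrev M3 := T3 × T3 × T3

/-- the linear map -/
def lin (m : M3) (p : T3) : T3 :=
  (p.1 * m.1.1 + p.2.1 * m.2.1.1 + p.2.2 * m.2.2.1,
   p.1 * m.1.2.1 + p.2.1 * m.2.1.2.1 + p.2.2 * m.2.2.2.1,
   p.1 * m.1.2.2 + p.2.1 * m.2.1.2.2 + p.2.2 * m.2.2.2.2)

def idm : M3 := (e1, e2, e3)

def cmp (m n : M3) : M3 := (lin m n.1, lin m n.2.1, lin m n.2.2)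

/-- invertible matrices -/
def IsBas (m : M3) : Prop :=
  m.1 ≠ 0 ∧ m.2.1 ≠ 0 ∧ m.2.1 ≠ m.1 ∧ m.2.2 ≠ 0 ∧ m.2.2 ≠ m.1 ∧ m.2.2 ≠ m.2.1 ∧ m.2.2 ≠ m.1 + m.2.1

instance (m : M3) : Decidable (IsBas m) := by unfold IsBas; infer_instance

theorem lin_add (m : M3) (p q : T3) : lin m (p + q) = lin m p + lin m q := by
  simp only [lin, Prod.fst_add, Prod.snd_add, Prod.mk_add_mk]
  refine Prod.ext ?_ (Prod.ext ?_ ?_) <;> simp only <;> ring

theorem lin_cmp (m n : M3) (p : T3) : lin (cmp m n) p = lin m (lin n p) := by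
  simp only [lin, cmp]
  refine Prod.ext ?_ (Prod.ext ?_ ?_) <;> simp only <;> ring

theorem lin_zero (m : M3) : lin m 0 = 0 := by
  simp [lin]

theorem lin_idm (p : T3) : lin idm p = p := by
  simp [lin, idm]

theorem lin_e1 (m : M3) : lin m e1 = m.1 := by simp [lin]

theorem lin_e2 (m : M3) : lin m e2 = m.2.1 := by simp [lin]

theorem lin_e3 (m : M3) : lin m e3 = m.2.2 := by simp [lin]

theorem ext_lin {m n : M3} (h : ∀ p, lin m p = lin n p) : m = n := by
  have h1 := h e1
  have h2 := h e2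
  have h3 := h e3
  rw [lin_e1, lin_e1] at h1
  rw [lin_e2, lin_e2] at h2
  rw [lin_e3, lin_e3] at h3
  exact Prod.ext h1 (Prod.ext h2 h3)

theorem add_self (p : T3) : p + p = 0 := by revert p; decide

theorem lin_inj {m : M3} (hm : IsBas m) {p : T3} (h : lin m p = 0) : p = 0 := by
  revert m p
  decide +kernel

theorem eq_lin {L : T3 → T3} (hL : ∀ a b, L (a + b) = L a + L b) (p : T3) :
    L p = lin (L e1, L e2, L e3) p := by
  have h0 : L 0 = 0 := by
    have := hL 0 0
    rw [add_zero] at this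
    exact left_eq_add.mp this
  have h1 : ∀ a : ZMod 2, L (a, 0, 0) = (a * (L e1).1, a * (L e1).2.1, a * (L e1).2.2) := by
    intro a
    rcases z2 a with rfl | rfl
    · have h5 : L (0, 0, 0) = 0 := h0
      rw [h5]
      simp only [zero_mul]
      rfl
    · simp
  have h2 : ∀ a : ZMod 2, L (0, a, 0) = (a * (L e2).1, a * (L e2).2.1, a * (L e2).2.2) := by
    intro a
    rcases z2 a with rfl | rfl
    · have h5 : L (0, 0, 0) = 0 := h0
      rw [h5]
      simp only [zero_mul]
      rfl
    · simp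
  have h3 : ∀ a : ZMod 2, L (0, 0, a) = (a * (L e3).1, a * (L e3).2.1, a * (L e3).2.2) := by
    intro a
    rcases z2 a with rfl | rfl
    · have h5 : L (0, 0, 0) = 0 := h0
      rw [h5]
      simp only [zero_mul]
      rfl
    · simp
  have h4 : p = (p.1, 0, 0) + (0, p.2.1, 0) + (0, 0, p.2.2) := by
    simp
  conv_lhs => rw [h4]
  rw [hL, hL, h1, h2, h3]
  simp only [lin, Prod.mk_add_mk]

theorem card_bas : Fintype.card {m : M3 // IsBas m} = 168 := by decide +kernel


theorem comm_of_sq_one {X : Type*} [Group X] {V : Subgroup X} (h : ∀ v ∈ V, v * v = 1) :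
    ∀ v ∈ V, ∀ w ∈ V, v * w = w * v :=
  comm_of_sq (fun v hv => by rw [pow_two]; exact h v hv)

variable {X : Type*} [Group X]

/-- `w` is a coordinate system of the elementary abelian subgroup `V` of order 8. -/
structure Coord (V : Subgroup X) (w : T3 → X) : Prop where
  mul : ∀ a b, w (a + b) = w a * w b
  inj : ∀ a, w a = 1 → a = 0
  mem : ∀ v, v ∈ V ↔ ∃ a, w a = v

namespace Coord

variable {V : Subgroup X} {w : T3 → X} (h : Coord V w)

include h

theorem zero : w 0 = 1 := by
  have := h.mul 0 0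
  rw [add_zero] at this
  exact left_eq_mul.mp this

theorem mem_w (a : T3) : w a ∈ V := (h.mem _).2 ⟨a, rfl⟩

theorem sq (a : T3) : w a * w a = 1 := by rw [← h.mul, add_self, h.zero]

theorem inv (a : T3) : (w a)⁻¹ = w a := inv_eq_of_mul_eq_one_left (h.sq a)

theorem comm (a b : T3) : w a * w b = w b * w a := by rw [← h.mul, ← h.mul, add_comm]

theorem injective : Function.Injective w := by
  intro a b hab
  have h1 : w (a + b) = 1 := by rw [h.mul, hab, h.sq]
  have h2 := h.inj _ h1
  have h3 : a = a + b + b := by rw [add_assoc, add_self, add_zero]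
  rw [h3, h2, zero_add]

theorem sq_mem {v : X} (hv : v ∈ V) : v * v = 1 := by
  obtain ⟨a, rfl⟩ := (h.mem v).1 hv
  exact h.sq a

theorem comm_mem {v u : X} (hv : v ∈ V) (hu : u ∈ V) : v * u = u * v := by
  obtain ⟨a, rfl⟩ := (h.mem v).1 hv
  obtain ⟨b, rfl⟩ := (h.mem u).1 hu
  exact h.comm a b

theorem card : Nat.card V = 8 := by
  have e : T3 ≃ V := Equiv.ofBijective (fun a => (⟨w a, h.mem_w a⟩ : V)) ⟨fun a b hab =>
    h.injective (congrArg Subtype.val hab), fun v => by
      obtain ⟨a, ha⟩ := (h.mem v).1 v.2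
      exact ⟨a, Subtype.ext ha⟩⟩
  rw [← Nat.card_congr e, Nat.card_eq_fintype_card]
  decide

/-- change of coordinates -/
theorem change {m : M3} (hm : IsBas m) : Coord V (fun p => w (lin m p)) where
  mul a b := by simp only [lin_add, h.mul]
  inj a ha := lin_inj hm (h.inj _ ha)
  mem v := by
    rw [h.mem]
    constructor
    · rintro ⟨a, rfl⟩
      have hs : Function.Surjective (lin m) := by
        apply Finite.injective_iff_surjective.mp
        intro a b hab
        have h1 : lin m (a + b) = 0 := by rw [lin_add, hab, add_self]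
        have h2 := lin_inj hm h1
        have h3 : a = a + b + b := by rw [add_assoc, add_self, add_zero]
        rw [h3, h2, zero_add]
      obtain ⟨b, rfl⟩ := hs a
      exact ⟨b, rfl⟩
    · rintro ⟨a, rfl⟩
      exact ⟨_, rfl⟩

end Coord

theorem exists_coord {V : Subgroup X} (hV : ∀ v ∈ V, v * v = 1) (hc : Nat.card V = 8) :
    ∃ w, Coord V w := by
  have hfin : Finite V := Nat.finite_of_card_ne_zero (by rw [hc]; norm_num)
  have hcm := comm_of_sq_one hV
  have hpow : ∀ v ∈ V, ∀ a b : ZMod 2, v ^ (a + b).val = v ^ a.val * v ^ b.val := by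
    intro v hv a b
    have h2 := hV v hv
    rcases z2 a with rfl | rfl <;> rcases z2 b with rfl | rfl
    · simp
    · simp
    · simp
    · have h3 : ((1 : ZMod 2) + 1).val = 0 := by decide
      have h4 : (1 : ZMod 2).val = 1 := by decide
      rw [h3, h4, pow_zero, pow_one, h2]
  have hne : ∀ S : Finset V, S.card < 8 → ∃ v : V, v ∉ S := by
    intro S hS
    by_contra hcon
    push Not at hcon
    have : Fintype V := Fintype.ofFinite V
    have h1 : S = Finset.univ := Finset.eq_univ_iff_forall.2 hcon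
    rw [h1, Finset.card_univ, ← Nat.card_eq_fintype_card, hc] at hS
    omega
  classical
  obtain ⟨e, he⟩ := hne {1} (by simp)
  obtain ⟨f, hf⟩ := hne {1, e} (lt_of_le_of_lt Finset.card_le_two (by norm_num))
  obtain ⟨g, hg⟩ := hne {1, e, f, e * f} (lt_of_le_of_lt Finset.card_le_four (by norm_num))
  simp only [Finset.mem_insert, Finset.mem_singleton, not_or] at he hf hg
  let w : T3 → X := fun p => (e : X) ^ p.1.val * (f : X) ^ p.2.1.val * (g : X) ^ p.2.2.val
  have hmul : ∀ a b, w (a + b) = w a * w b := by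
    intro a b
    have c1 : ∀ (i j : ℕ), (f : X) ^ i * (e : X) ^ j = (e : X) ^ j * (f : X) ^ i := fun i j =>
      hcm _ (V.pow_mem f.2 i) _ (V.pow_mem e.2 j)
    have c2 : ∀ (i j : ℕ), (g : X) ^ i * (e : X) ^ j = (e : X) ^ j * (g : X) ^ i := fun i j =>
      hcm _ (V.pow_mem g.2 i) _ (V.pow_mem e.2 j)
    have c3 : ∀ (i j : ℕ), (g : X) ^ i * (f : X) ^ j = (f : X) ^ j * (g : X) ^ i := fun i j =>
      hcm _ (V.pow_mem g.2 i) _ (V.pow_mem f.2 j)
    show (e : X) ^ (a.1 + b.1).val * (f : X) ^ (a.2.1 + b.2.1).val * (g : X) ^ (a.2.2 + b.2.2).val = _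
    rw [hpow _ e.2, hpow _ f.2, hpow _ g.2]
    show _ = (e : X) ^ a.1.val * (f : X) ^ a.2.1.val * (g : X) ^ a.2.2.val *
      ((e : X) ^ b.1.val * (f : X) ^ b.2.1.val * (g : X) ^ b.2.2.val)
    calc _ = (e : X) ^ a.1.val * ((e : X) ^ b.1.val * (f : X) ^ a.2.1.val) * (f : X) ^ b.2.1.val *
          (g : X) ^ a.2.2.val * (g : X) ^ b.2.2.val := by group
      _ = (e : X) ^ a.1.val * (f : X) ^ a.2.1.val * (e : X) ^ b.1.val *
          ((f : X) ^ b.2.1.val * (g : X) ^ a.2.2.val) * (g : X) ^ b.2.2.val := by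
        rw [← c1]; group
      _ = (e : X) ^ a.1.val * (f : X) ^ a.2.1.val * ((e : X) ^ b.1.val *
          (g : X) ^ a.2.2.val) * (f : X) ^ b.2.1.val * (g : X) ^ b.2.2.val := by
        rw [← c3]; group
      _ = _ := by rw [← c2]; group
  have hinj : ∀ a, w a = 1 → a = 0 := by
    have h1 : ∀ {u v : V}, (u : X) * v = 1 → v = u := by
      intro u v huv
      apply Subtype.ext
      have h2 := hV u u.2
      exact mul_left_cancel (huv.trans h2.symm)
    rintro ⟨a, b, c⟩ ha
    simp only [w] at ha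
    have h4 : (1 : ZMod 2).val = 1 := by decide
    rcases z2 a with rfl | rfl <;> rcases z2 b with rfl | rfl <;> rcases z2 c with rfl | rfl <;>
      simp only [h4, ZMod.val_zero, pow_zero, pow_one, one_mul, mul_one] at ha
    · rfl
    · exact absurd (Subtype.ext ha) hg.1
    · exact absurd (Subtype.ext ha) hf.1
    · exact absurd (h1 ha) hg.2.2.1
    · exact absurd (Subtype.ext ha) he
    · exact absurd (h1 ha) hg.2.1
    · exact absurd (h1 ha) hf.2
    · exact absurd (h1 (u := e * f) (v := g) ha) hg.2.2.2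
  have hmemw : ∀ a, w a ∈ V := fun a =>
    V.mul_mem (V.mul_mem (V.pow_mem e.2 _) (V.pow_mem f.2 _)) (V.pow_mem g.2 _)
  refine ⟨w, hmul, hinj, fun v => ⟨fun hv => ?_, fun ⟨a, ha⟩ => ha ▸ hmemw a⟩⟩
  have hin : Function.Injective (fun a => (⟨w a, hmemw a⟩ : V)) := by
    intro a b hab
    have hab' : w a = w b := congrArg Subtype.val hab
    have h1 : w (a + b) = 1 := by rw [hmul, hab', hV _ (hmemw b)]
    have h2 := hinj _ h1
    have h3 : a = a + b + b := by rw [add_assoc, add_self, add_zero]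
    rw [h3, h2, zero_add]
  have hbij : Function.Bijective (fun a => (⟨w a, hmemw a⟩ : V)) := by
    apply (Nat.bijective_iff_injective_and_card _).2 ⟨hin, ?_⟩
    rw [hc, Nat.card_eq_fintype_card]
    decide
  obtain ⟨a, ha⟩ := hbij.2 ⟨v, hv⟩
  exact ⟨a, congrArg Subtype.val ha⟩

/-- `x` acts on `V` by the matrix `m`. -/
def Acts (w : T3 → X) (x : X) (m : M3) : Prop := ∀ p, x * w p * x⁻¹ = w (lin m p)

namespace Acts

variable {w : T3 → X} {x y : X} {m n : M3}

theorem mul (hx : Acts w x m) (hy : Acts w y n) : Acts w (x * y) (cmp m n) := by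
  intro p
  rw [lin_cmp, ← hx, ← hy]
  group

theorem one (w : T3 → X) : Acts w 1 idm := by
  intro p
  rw [lin_idm]
  group

theorem unique {V : Subgroup X} (h : Coord V w) (hx : Acts w x m) (hy : Acts w x n) : m = n :=
  ext_lin fun p => h.injective (by rw [← hx, ← hy])

theorem inv (hx : Acts w x m) (hmn : cmp m n = idm) : Acts w x⁻¹ n := by
  intro p
  have h1 := hx (lin n p)
  rw [← lin_cmp, hmn, lin_idm] at h1
  rw [← h1]
  group

theorem comm_iff (hx : Acts w x m) {V : Subgroup X} (h : Coord V w) {p : T3} :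
    x * w p = w p * x ↔ lin m p = p := by
  rw [← mul_inv_eq_iff_eq_mul, hx]
  exact h.injective.eq_iff

end Acts

theorem exists_acts {V : Subgroup X} {w : T3 → X} (h : Coord V w) {x : X}
    (hx : ∀ v ∈ V, x * v * x⁻¹ ∈ V) : ∃ m, IsBas m ∧ Acts w x m := by
  have h1 : ∀ p, ∃ q, w q = x * w p * x⁻¹ := fun p => (h.mem _).1 (hx _ (h.mem_w p))
  choose L hL using h1
  have hadd : ∀ a b, L (a + b) = L a + L b := by
    intro a b
    apply h.injective
    rw [hL, h.mul, h.mul, hL, hL]
    group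
  have hinj : ∀ a, L a = 0 → a = 0 := by
    intro a ha
    apply h.inj
    have h2 := hL a
    rw [ha, h.zero] at h2
    have h3 : w a = x⁻¹ * 1 * x := by rw [h2]; group
    simpa using h3
  refine ⟨(L e1, L e2, L e3), ?_, fun p => ?_⟩
  · have key : ∀ a b : T3, a ≠ b → L a ≠ L b := by
      intro a b hab hL2
      apply hab
      have h3 : L (a + b) = 0 := by rw [hadd, hL2, add_self]
      have h4 := hinj _ h3
      have h5 : a = a + b + b := by rw [add_assoc, add_self, add_zero]
      rw [h5, h4, zero_add]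
    have h0 : L 0 = 0 := by
      have := hadd 0 0
      rw [add_zero] at this
      exact left_eq_add.mp this
    refine ⟨?_, ?_, ?_, ?_, ?_, ?_, ?_⟩
    · exact fun hh => absurd (hinj _ hh) (by decide)
    · exact fun hh => absurd (hinj _ hh) (by decide)
    · exact key _ _ (by decide)
    · exact fun hh => absurd (hinj _ hh) (by decide)
    · exact key _ _ (by decide)
    · exact key _ _ (by decide)
    · rw [← hadd]
      exact key _ _ (by decide)
  · rw [← eq_lin hadd, hL]

/-- `X / Q` is simple of order 168, `Q` a 2-group. -/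
structure L32 (Q : Subgroup X) : Prop where
  normal : Q.Normal
  two : IsPGroup 2 Q
  index : Q.index = 168
  simple : ∀ N : Subgroup X, N.Normal → Q ≤ N → N = Q ∨ N = ⊤

/-- `V` is a natural module for `X / Q`. -/
structure NatMod (Q V : Subgroup X) (w : T3 → X) : Prop where
  normal : V.Normal
  le : V ≤ Q
  coord : Coord V w
  cent : ∀ x : X, (∀ v ∈ V, x * v = v * x) ↔ x ∈ Q
  real : ∀ m, IsBas m → ∃ x, Acts w x m

/-- An element of odd order lies in a normal subgroup of 2-power index. -/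
theorem mem_of_pow {N : Subgroup X} [N.Normal] {y : X} {n k : ℕ} (hy : y ^ n = 1) (hn : Odd n)
    (hN : N.index = 2 ^ k) : y ∈ N := by
  have h1 : y ^ (2 ^ k) ∈ N := by
    rw [← hN]
    exact N.pow_index_mem y
  have hcop : Nat.Coprime n (2 ^ k) := Nat.Coprime.pow_right k (Nat.coprime_two_right.2 hn)
  have h2 := Nat.gcd_eq_gcd_ab n (2 ^ k)
  rw [hcop.gcd_eq_one] at h2
  have h3 : y = y ^ (1 : ℤ) := (zpow_one y).symm
  rw [h3]
  have h4 : (1 : ℤ) = n * Nat.gcdA n (2 ^ k) + ((2 ^ k : ℕ) : ℤ) * Nat.gcdB n (2 ^ k) := by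
    exact_mod_cast h2
  rw [h4, zpow_add, zpow_mul, zpow_natCast, hy, one_zpow, one_mul, zpow_mul, zpow_natCast]
  exact N.zpow_mem h1 _

/-- The basic theorem on natural modules. -/
theorem natMod_of [Finite X] {Q V : Subgroup X} {w : T3 → X} (hQ : L32 Q) (hVn : V.Normal)
    (hVQ : V ≤ Q) (hV : Coord V w) {y : X} (hy : y ^ 7 = 1) (hne : ∃ v ∈ V, y * v ≠ v * y) :
    NatMod Q V w := by
  have hQn := hQ.normal
  set C : Subgroup X := centralizer (V : Set X) with hC
  have hmemC : ∀ x, x ∈ C ↔ ∀ v ∈ V, x * v = v * x := by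
    intro x
    rw [hC, mem_centralizer_iff]
    exact ⟨fun h v hv => (h v hv).symm, fun h v hv => (h v hv).symm⟩
  have hCn : C.Normal := by
    rw [hC]
    infer_instance
  have hyC : y ∉ C := fun h => by
    obtain ⟨v, hv, hv2⟩ := hne
    exact hv2 ((hmemC y).1 h v hv)
  have hCQ : C ≤ Q := by
    have hn : (C ⊔ Q).Normal := inferInstance
    rcases hQ.simple _ hn le_sup_right with h1 | h1
    · exact h1 ▸ le_sup_left
    · exfalso
      have h2 : ∃ k, C.index = 2 ^ k := by
        have h3 : C.relIndex Q * Q.relIndex ⊤ = C.relIndex Q * Q.index := by rw [relIndex_top_right]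
        have h4 : C.relIndex (C ⊔ Q) = C.relIndex Q := relIndex_sup_left _ _
        rw [h1, relIndex_top_right] at h4
        obtain ⟨k, hk⟩ := hQ.two.index (C.subgroupOf Q)
        exact ⟨k, by rw [h4]; exact hk⟩
      obtain ⟨k, hk⟩ := h2
      exact hyC (mem_of_pow hy (by decide) hk)
  -- the matrix of `x`
  have hact : ∀ x : X, ∃ m, IsBas m ∧ Acts w x m := fun x =>
    exists_acts hV fun v hv => hVn.conj_mem v hv x
  choose μ hμb hμ using hact
  have hμC : ∀ x z : X, μ x = μ z ↔ x⁻¹ * z ∈ C := by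
    intro x z
    rw [hmemC]
    constructor
    · intro h v hv
      obtain ⟨p, rfl⟩ := (hV.mem v).1 hv
      have h1 := hμ x p
      have h2 := hμ z p
      rw [← h, ← h1] at h2
      calc x⁻¹ * z * w p = x⁻¹ * (z * w p * z⁻¹) * z := by group
        _ = x⁻¹ * (x * w p * x⁻¹) * z := by rw [h2]
        _ = w p * (x⁻¹ * z) := by group
    · intro h
      apply ext_lin
      intro p
      apply hV.injective
      rw [← hμ, ← hμ]
      have h1 := h _ (hV.mem_w p)
      calc x * w p * x⁻¹ = x * (w p * (x⁻¹ * z)) * z⁻¹ := by group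
        _ = x * (x⁻¹ * z * w p) * z⁻¹ := by rw [h1]
        _ = z * w p * z⁻¹ := by group
  -- injective map `X / C → matrices`
  let F : X ⧸ C → {m : M3 // IsBas m} := fun q => Quotient.liftOn' q (fun x => ⟨μ x, hμb x⟩)
    (fun a b hab => Subtype.ext ((hμC a b).2 (QuotientGroup.leftRel_apply.1 hab)))
  have hF : Function.Injective F := by
    intro a b
    refine Quotient.inductionOn₂' a b ?_
    intro a b hab
    have h1 : μ a = μ b := congrArg Subtype.val hab
    exact QuotientGroup.eq.2 ((hμC a b).1 h1)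
  have hle : C.index ≤ 168 := by
    have h1 := Nat.card_le_card_of_injective F hF
    rw [Nat.card_eq_fintype_card (α := {m : M3 // IsBas m}), card_bas] at h1
    exact h1
  have hrel : C.relIndex Q * 168 = C.index := by
    rw [← hQ.index]
    exact relIndex_mul_index hCQ
  have hr1 : C.relIndex Q = 1 := by
    have h1 : C.relIndex Q ≠ 0 := by
      intro h0
      rw [h0, zero_mul] at hrel
      exact (index_ne_zero_of_finite (H := C)) hrel.symm
    have h2 : C.relIndex Q * 168 ≤ 168 := by rw [hrel]; exact hle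
    omega
  have hQC : Q = C := le_antisymm (relIndex_eq_one.1 hr1) hCQ
  have hsurj : Function.Surjective F := by
    apply (Nat.bijective_iff_injective_and_card F).2 ⟨hF, ?_⟩ |>.2
    rw [Nat.card_eq_fintype_card (α := {m : M3 // IsBas m}), card_bas]
    have : Nat.card (X ⧸ C) = C.index := rfl
    rw [this, ← hrel, hr1]
  refine ⟨hVn, hVQ, hV, fun x => by rw [← hmemC x, ← hQC], fun m hm => ?_⟩
  obtain ⟨q, hq⟩ := hsurj ⟨m, hm⟩
  obtain ⟨x, rfl⟩ := QuotientGroup.mk_surjective q
  refine ⟨x, ?_⟩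
  have h1 : μ x = m := congrArg Subtype.val hq
  rw [← h1]
  exact hμ x

/-! ### Explicit matrices -/

/-- transvections with centre `e1` -/
def mR (i j : ZMod 2) : M3 := (e1, (i, 1, 0), (j, 0, 1))

/-- order 3, fixing `e1` -/
def md : M3 := (e1, e3, (0, 1, 1))

/-- order 4 -/
def mc : M3 := (e1, (1, 1, 0), (0, 1, 1))

/-- the transvection `e3 ↦ e2 + e3` -/
def mt : M3 := (e1, e2, (0, 1, 1))

/-- order 3, cycling `e1, e2, e1 + e2` -/
def md2 : M3 := (e2, (1, 1, 0), e3)

theorem mR_bas (i j : ZMod 2) : IsBas (mR i j) := by revert i j; decide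

theorem md_bas : IsBas md := by decide

theorem mc_bas : IsBas mc := by decide

theorem mt_bas : IsBas mt := by decide

theorem md2_bas : IsBas md2 := by decide

theorem md_cube : cmp md (cmp md md) = idm := by decide

theorem md2_cube : cmp md2 (cmp md2 md2) = idm := by decide

theorem mc_sq : cmp mc mc = mR 0 1 := by decide

theorem md_conj (i j : ZMod 2) : cmp md (cmp (mR i j) (cmp md md)) = mR (i + j) i := by
  revert i j; decide

theorem mR_mul (i j k l : ZMod 2) : cmp (mR i j) (mR k l) = mR (i + k) (j + l) := by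
  revert i j k l; decide

theorem mR_zero : mR 0 0 = idm := rfl

def PT (m n : M3) : Prop := IsBas n ∧ cmp m n = cmp n (mR 0 1)

instance (m n : M3) : Decidable (PT m n) := by unfold PT; infer_instance

def PI (m : M3) : Prop := IsBas m ∧ cmp m m = idm ∧ m ≠ idm

instance (m : M3) : Decidable (PI m) := by unfold PI; infer_instance

theorem exists_transvection_aux : ∀ m : M3, ¬ PI m ∨ ∃ n : M3, PT m n := by
  decide +kernel

theorem exists_transvection (m : M3) (h1 : IsBas m) (h2 : cmp m m = idm) (h3 : m ≠ idm) :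
    ∃ n, IsBas n ∧ cmp m n = cmp n (mR 0 1) := (exists_transvection_aux m).resolve_left (not_not.2 ⟨h1, h2, h3⟩)

theorem lin_surj {m : M3} (hm : IsBas m) : Function.Surjective (lin m) := by
  apply Finite.injective_iff_surjective.mp
  intro a b hab
  have h1 : lin m (a + b) = 0 := by rw [lin_add, hab, add_self]
  have h2 := lin_inj hm h1
  have h3 : a = a + b + b := by rw [add_assoc, add_self, add_zero]
  rw [h3, h2, zero_add]

theorem exists_inv_mat (m : M3) (h : IsBas m) : ∃ k, IsBas k ∧ cmp m k = idm := by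
  obtain ⟨a, ha⟩ := lin_surj h e1
  obtain ⟨b, hb⟩ := lin_surj h e2
  obtain ⟨c, hc⟩ := lin_surj h e3
  refine ⟨(a, b, c), ⟨?_, ?_, ?_, ?_, ?_, ?_, ?_⟩, Prod.ext ha (Prod.ext hb hc)⟩
  · rintro (rfl : a = 0)
    rw [lin_zero] at ha
    exact absurd ha (by decide)
  · rintro (rfl : b = 0)
    rw [lin_zero] at hb
    exact absurd hb (by decide)
  · rintro (rfl : b = a)
    rw [ha] at hb
    exact absurd hb (by decide)
  · rintro (rfl : c = 0)
    rw [lin_zero] at hc
    exact absurd hc (by decide)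
  · rintro (rfl : c = a)
    rw [ha] at hc
    exact absurd hc (by decide)
  · rintro (rfl : c = b)
    rw [hb] at hc
    exact absurd hc (by decide)
  · rintro (rfl : c = a + b)
    rw [lin_add, ha, hb] at hc
    exact absurd hc (by decide)

namespace NatMod

variable {Q V : Subgroup X} {w : T3 → X} (h : NatMod Q V w)

include h

theorem change {m : M3} (hm : IsBas m) : NatMod Q V (fun p => w (lin m p)) where
  normal := h.normal
  le := h.le
  coord := h.coord.change hm
  cent := h.cent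
  real n hn := by
    have h1 : ∃ k, IsBas k ∧ cmp k m = cmp m n := by
      obtain ⟨k, hk, hk2⟩ := exists_inv_mat m hm
      have hbas : ∀ a b : M3, IsBas a → IsBas b → IsBas (cmp a b) := by
        intro a b ha hb
        have inj : ∀ p q, lin a p = lin a q → p = q := fun p q hpq => by
          have h3 : lin a (p + q) = 0 := by rw [lin_add, hpq, add_self]
          have h4 := lin_inj ha h3
          have h5 : p = p + q + q := by rw [add_assoc, add_self, add_zero]
          rw [h5, h4, zero_add]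
        obtain ⟨b1, b2, b3, b4, b5, b6, b7⟩ := hb
        refine ⟨fun h0 => b1 (lin_inj ha h0), fun h0 => b2 (lin_inj ha h0), fun h0 => b3 (inj _ _ h0),
          fun h0 => b4 (lin_inj ha h0), fun h0 => b5 (inj _ _ h0), fun h0 => b6 (inj _ _ h0),
          fun h0 => b7 (inj _ _ ?_)⟩
        rw [lin_add]
        exact h0
      have hk3 : cmp k m = idm := by
        apply ext_lin
        intro p
        have hs : ∀ p, lin m (lin k p) = p := fun p => by rw [← lin_cmp, hk2, lin_idm]
        have h3 := hs (lin m p)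
        rw [lin_cmp, lin_idm]
        have h4 : lin m (lin k (lin m p) + p) = 0 := by rw [lin_add, h3, add_self]
        have h5 := lin_inj hm h4
        have h6 : lin k (lin m p) = lin k (lin m p) + p + p := by rw [add_assoc, add_self, add_zero]
        rw [h6, h5, zero_add]
      refine ⟨cmp m (cmp n k), hbas _ _ hm (hbas _ _ hn hk), ?_⟩
      apply ext_lin
      intro p
      rw [lin_cmp, lin_cmp, lin_cmp, lin_cmp, ← lin_cmp k m, hk3, lin_idm]
    obtain ⟨k, hk, hk2⟩ := h1
    obtain ⟨x, hx⟩ := h.real k hk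
    refine ⟨x, fun p => ?_⟩
    rw [hx, ← lin_cmp, hk2, lin_cmp]

theorem acts (x : X) : ∃ m, IsBas m ∧ Acts w x m :=
  exists_acts h.coord fun v hv => h.normal.conj_mem v hv x

theorem mem_iff {x : X} {m : M3} (hx : Acts w x m) : x ∈ Q ↔ m = idm := by
  rw [← h.cent]
  constructor
  · intro h1
    apply ext_lin
    intro p
    rw [lin_idm]
    exact (hx.comm_iff h.coord).1 (h1 _ (h.coord.mem_w p))
  · rintro rfl v hv
    obtain ⟨p, rfl⟩ := (h.coord.mem v).1 hv
    exact (hx.comm_iff h.coord).2 (lin_idm p)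

theorem acts_of_mem {x : X} (hx : x ∈ Q) : Acts w x idm := by
  obtain ⟨m, -, hm⟩ := h.acts x
  rwa [(h.mem_iff hm).1 hx] at hm

theorem comm_of_mem {x : X} (hx : x ∈ Q) (p : T3) : x * w p = w p * x :=
  (h.cent x).2 hx _ (h.coord.mem_w p)

theorem same {x y : X} {m : M3} (hx : Acts w x m) (hy : Acts w y m) : x * y⁻¹ ∈ Q := by
  rw [← h.cent]
  intro v hv
  obtain ⟨p, rfl⟩ := (h.coord.mem v).1 hv
  obtain ⟨q, hq⟩ : ∃ q, w q = y⁻¹ * w p * y := (h.coord.mem _).1 (by
    have := h.normal.conj_mem _ (h.coord.mem_w p) y⁻¹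
    simpa using this)
  have h1 : w p = y * w q * y⁻¹ := by rw [hq]; group
  rw [hy] at h1
  have h2 := hx q
  calc x * y⁻¹ * w p = x * (y⁻¹ * w p * y) * y⁻¹ := by group
    _ = x * w q * y⁻¹ := by rw [hq]
    _ = (x * w q * x⁻¹) * x * y⁻¹ := by group
    _ = w (lin m q) * x * y⁻¹ := by rw [h2]
    _ = w p * (x * y⁻¹) := by rw [h1]; group

theorem bas_of_acts {x : X} {m : M3} (hx : Acts w x m) : IsBas m := by
  obtain ⟨n, hn, hn2⟩ := h.acts x
  rwa [hx.unique h.coord hn2]

theorem acts_mul_left {x q : X} {m : M3} (hx : Acts w x m) (hq : q ∈ Q) : Acts w (q * x) m := by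
  have h1 := (h.acts_of_mem hq).mul hx
  have h2 : cmp idm m = m := ext_lin fun p => by rw [lin_cmp, lin_idm]
  rwa [h2] at h1

theorem acts_mul_right {x q : X} {m : M3} (hx : Acts w x m) (hq : q ∈ Q) : Acts w (x * q) m := by
  have h1 := hx.mul (h.acts_of_mem hq)
  have h2 : cmp m idm = m := ext_lin fun p => by rw [lin_cmp, lin_idm]
  rwa [h2] at h1

/-- A lift of order 3. -/
theorem exists_ord3 [Finite X] (hQ : IsPGroup 2 Q) {m : M3} (hm : IsBas m)
    (h3 : cmp m (cmp m m) = idm) : ∃ d, d ^ 3 = 1 ∧ Acts w d m := by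
  obtain ⟨x, hx⟩ := h.real m hm
  have hx3 : x * (x * x) ∈ Q := (h.mem_iff (hx.mul (hx.mul hx))).2 h3
  obtain ⟨n, hn⟩ := hQ ⟨_, hx3⟩
  have hn' : (x * (x * x)) ^ 2 ^ n = 1 := by
    have := congrArg Subtype.val hn
    simpa using this
  have hx4 : x ^ 3 = x * (x * x) := by rw [pow_succ, pow_two, mul_assoc]
  refine ⟨x ^ (4 ^ n), ?_, ?_⟩
  · have e2 : (x ^ 4 ^ n) ^ 3 = ((x * (x * x)) ^ 2 ^ n) ^ 2 ^ n := by
      rw [← hx4, ← pow_mul, ← pow_mul, ← pow_mul]
      congr 1
      have : (4 : ℕ) ^ n = 2 ^ n * 2 ^ n := by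
        rw [← mul_pow]
        norm_num
      rw [this]
      ring
    rw [e2, hn', one_pow]
  · have key : ∀ k : ℕ, Acts w (x ^ (3 * k + 1)) m := by
      intro k
      induction k with
      | zero => simpa using hx
      | succ k ih =>
        have h4 : x ^ (3 * (k + 1) + 1) = x ^ (3 * k + 1) * (x * (x * x)) := by
          rw [show 3 * (k + 1) + 1 = (3 * k + 1) + 3 by ring, pow_add x (3 * k + 1) 3, hx4]
        rw [h4]
        exact h.acts_mul_right ih hx3
    obtain ⟨k, hk⟩ : ∃ k, 4 ^ n = 3 * k + 1 := by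
      refine ⟨(4 ^ n - 1) / 3, ?_⟩
      have h5 : 4 ^ n % 3 = 1 := by
        rw [Nat.pow_mod]
        simp
      generalize 4 ^ n = N at h5 ⊢
      omega
    rw [hk]
    exact key k

/-- An element outside `Q` with square in `Q` acts as the standard transvection in suitable
coordinates. -/
theorem exists_adapt {x : X} (hx : x * x ∈ Q) (hxQ : x ∉ Q) :
    ∃ n, IsBas n ∧ Acts (fun p => w (lin n p)) x (mR 0 1) := by
  obtain ⟨m, hm, hm2⟩ := h.acts x
  obtain ⟨n, hn, hn2⟩ := exists_transvection m hm ((h.mem_iff (hm2.mul hm2)).1 hx)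
    (fun h0 => hxQ ((h.mem_iff hm2).2 h0))
  refine ⟨n, hn, fun p => ?_⟩
  show x * w (lin n p) * x⁻¹ = w (lin n (lin (mR 0 1) p))
  rw [hm2, ← lin_cmp, hn2, lin_cmp]

end NatMod

end Cfsg.Agent.GH.C2ThreeNat
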