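import Mathlib
import Cfsg.Agent.GH.C2ThreeNat

/-!
# GH-C2 (T3): the case `Q = V` natural of order 8, and tools
-/

set_option autoImplicit false
set_option maxHeartbeats 800000

namespace Cfsg.Agent.GH.C2ThreeK0

open Subgroup Cfsg.Agent.TwoFusion.SectionalRank Cfsg.Agent.GH.C2Base Cfsg.Agent.GH.C2Five
open Cfsg.Agent.GH.C2ThreeNat

variable {X : Type*} [Group X]

theorem mem_or_of_card [Finite X] {Y Z : Subgroup X} {b : X} (hYZ : Y ≤ Z) (hb : b ∈ Z) (hbY : b ∉ Y)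
    (hc : Nat.card Z = 2 * Nat.card Y) {z : X} (hz : z ∈ Z) : z ∈ Y ∨ b⁻¹ * z ∈ Y := by
  have h1 : (Y.subgroupOf Z).index = 2 := by
    have h2 : Nat.card Z = Y.relIndex Z * Nat.card Y := card_eq_relIndex_mul Z Y hYZ
    rw [hc] at h2
    exact (Nat.eq_of_mul_eq_mul_right Nat.card_pos h2).symm
  have h2 := Subgroup.mul_mem_iff_of_index_two h1 (a := (⟨b, hb⟩ : Z)⁻¹) (b := ⟨z, hz⟩)
  simp only [mem_subgroupOf] at h2
  by_cases h3 : z ∈ Y
  · exact Or.inl h3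
  · right
    have h4 : ¬ ((⟨b, hb⟩ : Z)⁻¹ : Z).1 ∈ Y := by
      intro h5
      exact hbY (by simpa using Y.inv_mem h5)
    exact h2.2 ⟨fun h5 => absurd h5 h4, fun h5 => absurd h5 h3⟩

/-- An elementary section of order 8 extended by two elements. -/
theorem five [Finite X] (hr : R4 X) {Y N : Subgroup X} (h : ElemSection 2 Y N)
    (hc : 8 * Nat.card N ≤ Nat.card Y) {x1 x2 : X} (h11 : x1 * x1 ∈ N) (h22 : x2 * x2 ∈ N)
    (h1 : ∀ y ∈ Y, x1 * y * x1⁻¹ * y⁻¹ ∈ N) (h2 : ∀ y ∈ Y, x2 * y * x2⁻¹ * y⁻¹ ∈ N)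
    (h21 : x2 * x1 * x2⁻¹ * x1⁻¹ ∈ N) (hx1 : x1 ∉ Y) (hx2 : x2 ∉ Y) (hx12 : x1⁻¹ * x2 ∉ Y) :
    False := by
  obtain ⟨Z1, hZ1, hY1, hb1, hc1⟩ := exists_ext h h11 h1 hx1
  have hmem : ∀ z ∈ Z1, z ∈ Y ∨ x1⁻¹ * z ∈ Y := fun z hz => mem_or_of_card hY1 hb1 hx1 hc1 hz
  obtain ⟨Z2, hZ2, -, -, hc2⟩ := exists_ext hZ1 h22 (fun y hy => by
    rcases hmem y hy with h3 | h3
    · exact h2 y h3
    · have h4 : x2 * y * x2⁻¹ * y⁻¹ = (x2 * x1 * x2⁻¹ * x1⁻¹) *
          (x1 * (x2 * (x1⁻¹ * y) * x2⁻¹ * (x1⁻¹ * y)⁻¹) * x1⁻¹) := by group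
      rw [h4]
      exact N.mul_mem h21 (hZ1.conj_mem hb1 (h2 _ h3))) (fun h3 => by
    rcases hmem _ h3 with h4 | h4
    · exact hx2 h4
    · exact hx12 h4)
  have h3 := hr _ _ hZ2
  have h4 : 0 < Nat.card N := Nat.card_pos
  omega

/-! ### `L32` passes to quotients -/

theorem L32.map {Q : Subgroup X} (hQ : L32 Q) (N : Subgroup X) [hN : N.Normal] (hNQ : N ≤ Q) :
    L32 (Q.map (QuotientGroup.mk' N)) := by
  have hQn := hQ.normal
  have hker : (QuotientGroup.mk' N).ker ≤ Q := by rw [QuotientGroup.ker_mk']; exact hNQ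
  refine ⟨hQn.map _ (QuotientGroup.mk'_surjective N), hQ.two.map _, ?_, ?_⟩
  · rw [index_map_eq _ (QuotientGroup.mk'_surjective N) hker, hQ.index]
  · intro M hM hQM
    have h1 := hQ.simple (M.comap (QuotientGroup.mk' N)) (hM.comap _) (map_le_iff_le_comap.1 hQM)
    rcases h1 with h1 | h1
    · left
      rw [← h1, map_comap_eq_self_of_surjective (QuotientGroup.mk'_surjective N)]
    · right
      rw [← map_comap_eq_self_of_surjective (QuotientGroup.mk'_surjective N) M, h1,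
        map_top_of_surjective _ (QuotientGroup.mk'_surjective N)]

theorem mk_mem_zpowers {N : Subgroup X} [N.Normal] {x e : X}
    (h : (x : X ⧸ N) ∈ zpowers (e : X ⧸ N)) : x ∈ N ⊔ zpowers e := by
  obtain ⟨k, hk⟩ := mem_zpowers_iff.1 h
  have h1 : ((e ^ k : X) : X ⧸ N) = x := by
    rw [QuotientGroup.mk_zpow]
    exact hk
  have h2 : (e ^ k)⁻¹ * x ∈ N := QuotientGroup.eq.1 h1
  have h3 : x = e ^ k * ((e ^ k)⁻¹ * x) := by group
  rw [h3]
  exact mul_mem (mem_sup_right (zpow_mem (mem_zpowers e) k)) (mem_sup_left h2)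

/-! ### The case `Q = V` -/

section K0

variable {Q : Subgroup X} {w : T3 → X}

theorem mem_zpowers_w {V : Subgroup X} (h : Coord V w) {p : T3} {v : X} :
    v ∈ zpowers (w p) ↔ v = 1 ∨ v = w p := by
  constructor
  · intro hv
    obtain ⟨k, rfl⟩ := mem_zpowers_iff.1 hv
    rcases Int.even_or_odd' k with ⟨l, rfl | rfl⟩
    · left
      rw [zpow_mul]
      have : w p ^ (2 : ℤ) = 1 := by
        rw [zpow_ofNat, pow_two, h.sq]
      rw [this, one_zpow]
    · right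
      rw [zpow_add, zpow_mul, zpow_one]
      have : w p ^ (2 : ℤ) = 1 := by
        rw [zpow_ofNat, pow_two, h.sq]
      rw [this, one_zpow, one_mul]
  · rintro (rfl | rfl)
    · exact one_mem _
    · exact mem_zpowers _

theorem w_mem_zpowers {V : Subgroup X} (h : Coord V w) {p q : T3} :
    w q ∈ zpowers (w p) ↔ q = 0 ∨ q = p := by
  rw [mem_zpowers_w h, ← h.zero, h.injective.eq_iff, h.injective.eq_iff]

variable (h : NatMod Q Q w)

include h

theorem k0_a0 {x : X} (hx : Acts w x (mR 0 1)) : x * x ∈ zpowers (w e1) := by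
  obtain ⟨y, hy⟩ := h.real mc mc_bas
  have hy2 : Acts w (y * y) (mR 0 1) := by
    have := hy.mul hy
    rwa [mc_sq] at this
  have hq := h.same hx hy2
  obtain ⟨p, hp⟩ := (h.coord.mem _).1 hq
  have hy4 : y * y * (y * y) ∈ Q := by
    rw [h.mem_iff (hy2.mul hy2), mR_mul]
    decide
  obtain ⟨r, hr⟩ := (h.coord.mem _).1 hy4
  have hr1 : lin mc r = r := by
    rw [← hy.comm_iff h.coord, hr]
    group
  have hx1 : x = w p * (y * y) := by rw [hp]; group
  have hxx : x * x = w (p + lin (mR 0 1) p + r) := by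
    rw [h.coord.mul, h.coord.mul, ← hy2 p, hr, hx1]
    generalize y * y = t
    group
  rw [hxx, w_mem_zpowers h.coord]
  clear hxx hx1 hr hp
  revert p r
  decide

theorem k0_sq {x : X} {i j : ZMod 2} (hx : Acts w x (mR i j)) [Finite X] (hQ : IsPGroup 2 Q) :
    x * x ∈ zpowers (w e1) := by
  obtain ⟨d, hd3, hd⟩ := h.exists_ord3 hQ md_bas md_cube
  have hdi : Acts w d⁻¹ (cmp md md) := hd.inv md_cube
  have hde : d * w e1 * d⁻¹ = w e1 := by
    rw [hd]
    rfl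
  have hconj : ∀ {x : X} {i j : ZMod 2}, Acts w x (mR i j) → Acts w (d * x * d⁻¹) (mR (i + j) i) := by
    intro x i j hx
    have h1 := (hd.mul (hx.mul hdi))
    rw [md_conj] at h1
    rwa [← mul_assoc] at h1
  have hback : ∀ {x : X}, (d * x * d⁻¹) * (d * x * d⁻¹) ∈ zpowers (w e1) → x * x ∈ zpowers (w e1) := by
    intro x hx
    have h1 : (d * x * d⁻¹) * (d * x * d⁻¹) = d * (x * x) * d⁻¹ := by group
    rw [h1, mem_zpowers_w h.coord] at hx
    rw [mem_zpowers_w h.coord]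
    rcases hx with hx | hx
    · left
      have : x * x = d⁻¹ * (d * (x * x) * d⁻¹) * d := by group
      rw [this, hx]
      group
    · right
      have : x * x = d⁻¹ * (d * (x * x) * d⁻¹) * d := by group
      rw [this, hx]
      nth_rw 1 [← hde]
      group
  rcases z2 i with rfl | rfl <;> rcases z2 j with rfl | rfl
  · have hxQ : x ∈ Q := (h.mem_iff hx).2 rfl
    rw [h.coord.sq_mem hxQ]
    exact one_mem _
  · exact k0_a0 h hx
  · have h1 := hconj (hconj hx)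
    have h2 : ((1 : ZMod 2) + 0 + 1) = 0 := by decide
    rw [h2] at h1
    exact hback (hback (k0_a0 h h1))
  · have h1 := hconj hx
    have h2 : ((1 : ZMod 2) + 1) = 0 := by decide
    rw [h2] at h1
    exact hback (k0_a0 h h1)

theorem comm_e1 {x : X} {i j : ZMod 2} (hx : Acts w x (mR i j)) : x * w e1 = w e1 * x :=
  (hx.comm_iff h.coord).2 (by clear hx; revert i j; decide)

theorem k0_comm {x y : X} {i j k l : ZMod 2} (hx : Acts w x (mR i j)) (hy : Acts w y (mR k l))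
    [Finite X] (hQ : IsPGroup 2 Q) : x * y * x⁻¹ * y⁻¹ ∈ zpowers (w e1) := by
  have h1 := k0_sq h hx hQ
  have h2 := k0_sq h hy hQ
  have hxy := hx.mul hy
  rw [mR_mul] at hxy
  have h3 := k0_sq h hxy hQ
  have h4 : x * y * x⁻¹ * y⁻¹ = (x * y * (x * y)) * (y⁻¹ * (x * x)⁻¹ * y) * (y * y)⁻¹ := by group
  rw [h4]
  have h5 : y⁻¹ * (x * x)⁻¹ * y = (x * x)⁻¹ := by
    have h6 : (x * x)⁻¹ ∈ zpowers (w e1) := inv_mem h1
    rcases (mem_zpowers_w h.coord).1 h6 with h7 | h7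
    · rw [h7]; group
    · rw [h7, mul_assoc, ← comm_e1 h hy]; group
  rw [h5]
  exact mul_mem (mul_mem h3 (inv_mem h1)) (inv_mem h2)

theorem k0_inv : ∃ x, Acts w x (mR 0 1) ∧ x * x = 1 := by
  obtain ⟨x, hx⟩ := h.real (mR 0 1) (mR_bas 0 1)
  rcases (mem_zpowers_w h.coord).1 (k0_a0 h hx) with h1 | h1
  · exact ⟨x, hx, h1⟩
  · refine ⟨x * w e3, h.acts_mul_right hx (h.coord.mem_w e3), ?_⟩
    have h2 : x * w e3 * (x * w e3) = (x * x) * ((x⁻¹ * w e3 * x) * w e3) := by group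
    have h3 : x⁻¹ * w e3 * x = w (e1 + e3) := by
      have h4 := hx (e1 + e3)
      have h5 : lin (mR 0 1) (e1 + e3) = e3 := by decide
      rw [h5] at h4
      rw [← h4]
      group
    rw [h2, h3, h1, ← h.coord.mul, ← h.coord.mul]
    have h6 : e1 + (e1 + e3 + e3) = 0 := by decide
    rw [h6, h.coord.zero]

theorem k0_prod {x d : X} (hd : Acts w d md) (hd3 : d ^ 3 = 1) (hx : Acts w x (mR 0 1)) :
    x * (d * x * d⁻¹) * (d * (d * x * d⁻¹) * d⁻¹) ∈ zpowers (w e1) := by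
  have hdi : Acts w d⁻¹ (cmp md md) := hd.inv md_cube
  have hx2 : Acts w (d * x * d⁻¹) (mR 1 0) := by
    have h1 := (hd.mul (hx.mul hdi))
    rw [md_conj] at h1
    rwa [← mul_assoc] at h1
  have hx3 : Acts w (d * (d * x * d⁻¹) * d⁻¹) (mR 1 1) := by
    have h1 := (hd.mul (hx2.mul hdi))
    rw [md_conj] at h1
    rwa [← mul_assoc] at h1
  set u := x * (d * x * d⁻¹) * (d * (d * x * d⁻¹) * d⁻¹) with hu
  have huQ : u ∈ Q := by
    rw [h.mem_iff ((hx.mul hx2).mul hx3)]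
    decide
  obtain ⟨p, hp⟩ := (h.coord.mem u).1 huQ
  have h4 : d * u * d⁻¹ = x⁻¹ * u * x := by
    have h5 : d * (d * (d * x * d⁻¹) * d⁻¹) * d⁻¹ = x := by
      calc d * (d * (d * x * d⁻¹) * d⁻¹) * d⁻¹ = d ^ 3 * x * (d ^ 3)⁻¹ := by
            rw [pow_succ, pow_two]; group
        _ = x := by rw [hd3]; group
    calc d * u * d⁻¹ = (d * x * d⁻¹) * (d * (d * x * d⁻¹) * d⁻¹) *
          (d * (d * (d * x * d⁻¹) * d⁻¹) * d⁻¹) := by rw [hu]; group
      _ = (d * x * d⁻¹) * (d * (d * x * d⁻¹) * d⁻¹) * x := by rw [h5]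
      _ = x⁻¹ * u * x := by rw [hu]; group
  have h6 : x * (d * w p * d⁻¹) * x⁻¹ = w p := by
    rw [hp, h4]
    group
  rw [hd, hx] at h6
  have h7 := h.coord.injective h6
  rw [← hp, w_mem_zpowers h.coord]
  clear h6 hp
  revert p
  decide

end K0

end Cfsg.Agent.GH.C2ThreeK0
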