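import Mathlib
import Cfsg.Agent.GH.C2ThreeK0

/-!
# GH-C2 (T3): minimal noncentral normal subgroups
-/

set_option autoImplicit false
set_option maxHeartbeats 800000

namespace Cfsg.Agent.GH.C2ThreeMin

open Subgroup Cfsg.Agent.TwoFusion.SectionalRank Cfsg.Agent.GH.C2Base Cfsg.Agent.GH.C2Five
open Cfsg.Agent.GH.C2ThreeNat Cfsg.Agent.GH.C2ThreeK0 Cfsg.Agent.SectRankFour.C2

variable {X : Type*} [Group X]

/-- `W` is minimal among the `X`-normal subgroups of `Q` not centralised by `y`. -/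
structure Minc (Q W : Subgroup X) (y : X) : Prop where
  normal : W.Normal
  le : W ≤ Q
  ne : ∃ v ∈ W, y * v ≠ v * y
  min : ∀ N : Subgroup X, N.Normal → N ≤ W → N ≠ W → ∀ v ∈ N, y * v = v * y

theorem exists_minc [Finite X] {Q U : Subgroup X} {y : X} (hU : U.Normal) (hUQ : U ≤ Q)
    (hne : ∃ v ∈ U, y * v ≠ v * y) : ∃ W, Minc Q W y ∧ W ≤ U := by
  obtain ⟨W, hW⟩ := (Set.toFinite {W : Subgroup X | W.Normal ∧ W ≤ U ∧ ∃ v ∈ W, y * v ≠ v * y}).exists_minimal
    ⟨U, hU, le_rfl, hne⟩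
  refine ⟨W, ⟨hW.1.1, hW.1.2.1.trans hUQ, hW.1.2.2, fun N hN hNW hne2 v hv => ?_⟩, hW.1.2.1⟩
  by_contra h1
  exact hne2 (le_antisymm hNW (hW.2 ⟨hN, hNW.trans hW.1.2.1, v, hv, h1⟩ hNW))

/-- If `y` (of order 7) centralises `[y, q]` (a 2-element), then `[y, q] = 1`. -/
theorem comm_of_comm {Q : Subgroup X} (hQ : IsPGroup 2 Q) {y q : X} (hy : y ^ 7 = 1)
    (hc : y * q * y⁻¹ * q⁻¹ ∈ Q) (h : y * (y * q * y⁻¹ * q⁻¹) = (y * q * y⁻¹ * q⁻¹) * y) :
    y * q = q * y := by
  set c := y * q * y⁻¹ * q⁻¹ with hcdef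
  have h1 : ∀ n : ℕ, y ^ n * q * (y ^ n)⁻¹ = c ^ n * q := by
    intro n
    induction n with
    | zero => simp
    | succ n ih =>
      have h2 : y * c ^ n = c ^ n * y := (Commute.pow_right (show Commute y c from h) n).eq
      calc y ^ (n + 1) * q * (y ^ (n + 1))⁻¹ = y * (y ^ n * q * (y ^ n)⁻¹) * y⁻¹ := by
            rw [pow_succ' y n]; group
        _ = y * (c ^ n * q) * y⁻¹ := by rw [ih]
        _ = (y * c ^ n) * (q * y⁻¹) := by simp only [mul_assoc]
        _ = c ^ n * (y * q * y⁻¹) := by rw [h2]; simp only [mul_assoc]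
        _ = c ^ n * (c * q) := by
            have e : y * q * y⁻¹ = c * q := by rw [hcdef, inv_mul_cancel_right]
            rw [e]
        _ = c ^ (n + 1) * q := by rw [pow_succ]; exact (mul_assoc _ _ _).symm
  have h2 := h1 7
  rw [hy] at h2
  have h3 : c ^ 7 = 1 := by
    have h4 : c ^ 7 * q = 1 * q := by rw [← h2]; group
    exact mul_right_cancel h4
  obtain ⟨n, hn⟩ := hQ ⟨c, hc⟩
  have hn' : c ^ 2 ^ n = 1 := by
    have := congrArg Subtype.val hn
    simpa using this
  have h4 : c = 1 := by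
    have h5 : orderOf c ∣ 7 := orderOf_dvd_of_pow_eq_one h3
    have h6 : orderOf c ∣ 2 ^ n := orderOf_dvd_of_pow_eq_one hn'
    have h7 : Nat.Coprime 7 (2 ^ n) := Nat.Coprime.pow_right n (by norm_num)
    have h8 := Nat.Coprime.eq_one_of_dvd (Nat.Coprime.coprime_dvd_left h5 h7) h6
    exact orderOf_eq_one_iff.1 h8
  have h5 : y * q * y⁻¹ * q⁻¹ = 1 := h4
  calc y * q = (y * q * y⁻¹ * q⁻¹) * (q * y) := by group
    _ = q * y := by rw [h5, one_mul]

/-- The same modulo a normal subgroup. -/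
theorem mem_of_comm_mem {Q N : Subgroup X} [hN : N.Normal] (hQ : IsPGroup 2 Q) {y q : X}
    (hy : y ^ 7 = 1) (hc : y * q * y⁻¹ * q⁻¹ ∈ Q)
    (h : y * (y * q * y⁻¹ * q⁻¹) * y⁻¹ * (y * q * y⁻¹ * q⁻¹)⁻¹ ∈ N) : y * q * y⁻¹ * q⁻¹ ∈ N := by
  have h1 := comm_of_comm (hQ.map (QuotientGroup.mk' N)) (y := (y : X ⧸ N)) (q := (q : X ⧸ N))
    (by rw [← QuotientGroup.mk_pow, hy]; rfl) ⟨_, hc, rfl⟩ (by
      have h2 : ((y * (y * q * y⁻¹ * q⁻¹) * y⁻¹ * (y * q * y⁻¹ * q⁻¹)⁻¹ : X) : X ⧸ N) = 1 :=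
        (QuotientGroup.eq_one_iff _).2 h
      have h3 : (y : X ⧸ N) * ((y : X ⧸ N) * q * (y : X ⧸ N)⁻¹ * (q : X ⧸ N)⁻¹) * (y : X ⧸ N)⁻¹ *
        ((y : X ⧸ N) * q * (y : X ⧸ N)⁻¹ * (q : X ⧸ N)⁻¹)⁻¹ = 1 := h2
      rw [mul_inv_eq_one, mul_inv_eq_iff_eq_mul] at h3
      exact h3)
  rw [← QuotientGroup.eq_one_iff]
  have h2 : (y : X ⧸ N) * q * (y : X ⧸ N)⁻¹ * (q : X ⧸ N)⁻¹ = 1 := by rw [h1]; group
  exact h2

/-! ### The elementary abelian case -/

theorem orbit_card [Finite X] (v : X) :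
    Nat.card {u : X // ∃ x : X, x * v * x⁻¹ = u} = (centralizer ({v} : Set X)).index := by
  have h1 : (MulAction.stabilizer (ConjAct X) v).index = (MulAction.orbit (ConjAct X) v).ncard :=
    MulAction.index_stabilizer _ _
  rw [ConjAct.stabilizer_eq_centralizer] at h1
  have h2 : (centralizer ({ConjAct.toConjAct v} : Set (ConjAct X))).index =
      (centralizer ({v} : Set X)).index := rfl
  rw [h2] at h1
  rw [h1, Set.ncard, ← Set.ncard_def, ← Nat.card_coe_set_eq]
  apply Nat.card_congr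
  apply Equiv.subtypeEquivRight
  intro u
  constructor
  · rintro ⟨x, hx⟩
    exact ⟨ConjAct.toConjAct x, hx⟩
  · rintro ⟨x, hx⟩
    exact ⟨ConjAct.ofConjAct x, hx⟩

theorem exists_fixed [Finite X] {T W : Subgroup X} (hT : IsPGroup 2 T) (hWn : W.Normal)
    (h2 : 2 ∣ Nat.card W) : ∃ v ∈ W, v ≠ 1 ∧ ∀ t ∈ T, t * v = v * t := by
  let _ : MulAction T W := MulAction.compHom W ((MulAut.conjNormal (H := W)).comp T.subtype)
  have hact : ∀ (t : T) (v : W), ((t • v : W) : X) = t * v * (t : X)⁻¹ := fun t v => by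
    show ((MulAut.conjNormal (t : X) v : W) : X) = _
    rw [MulAut.conjNormal_apply]
  have h1 := hT.card_modEq_card_fixedPoints W
  have h3 : 2 ∣ Nat.card (MulAction.fixedPoints T W) := by
    rw [Nat.ModEq] at h1
    rw [Nat.dvd_iff_mod_eq_zero] at h2 ⊢
    omega
  have h4 : 0 < Nat.card (MulAction.fixedPoints T W) := by
    have : Nonempty (MulAction.fixedPoints T W) := ⟨⟨1, fun t => Subtype.ext (by
      rw [hact]
      simp)⟩⟩
    exact Nat.card_pos
  have h5 : 1 < Nat.card (MulAction.fixedPoints T W) := by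
    have := Nat.le_of_dvd h4 h3
    omega
  have h6 : Nontrivial (MulAction.fixedPoints T W) := Finite.one_lt_card_iff_nontrivial.1 h5
  obtain ⟨⟨v, hv⟩, hne⟩ := exists_ne (⟨1, fun t => Subtype.ext (by
      rw [hact]
      simp)⟩ : MulAction.fixedPoints T W)
  refine ⟨v, v.2, fun h0 => hne (Subtype.ext (Subtype.ext h0)), fun t ht => ?_⟩
  have h7 := congrArg Subtype.val (hv ⟨t, ht⟩)
  rw [hact] at h7
  exact mul_inv_eq_iff_eq_mul.1 h7

/-- The index of a Sylow 2-subgroup divides 21. -/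
theorem sylow_index_dvd [Finite X] {Q : Subgroup X} (hQ : L32 Q) (T : Sylow 2 X) :
    Q ≤ T ∧ (T : Subgroup X).index ∣ 21 := by
  have hQn := hQ.normal
  have hQT : Q ≤ T := by
    obtain ⟨S, hS⟩ := hQ.two.exists_le_sylow
    obtain ⟨g, hg⟩ := MulAction.exists_smul_eq X S T
    rw [← hg]
    intro q hq
    have h1 : g⁻¹ * q * g ∈ (S : Subgroup X) := hS (by
      have := hQn.conj_mem q hq g⁻¹
      simpa using this)
    exact ⟨g⁻¹ * q * g, h1, by
      show g * (g⁻¹ * q * g) * g⁻¹ = q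
      group⟩
  refine ⟨hQT, ?_⟩
  have h1 : (T : Subgroup X).index ∣ 168 := by
    rw [← hQ.index]
    exact index_dvd_of_le hQT
  have h2 : ¬ 2 ∣ (T : Subgroup X).index := T.not_dvd_index
  have h3 : Nat.Coprime (T : Subgroup X).index 8 := by
    have : Nat.Coprime 2 (T : Subgroup X).index := (Nat.prime_two.coprime_iff_not_dvd).2 h2
    have h4 : Nat.Coprime (2 ^ 3) (T : Subgroup X).index := Nat.Coprime.pow_left 3 this
    exact h4.symm
  have h4 : (168 : ℕ) = 21 * 8 := by norm_num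
  rw [h4] at h1
  exact h3.dvd_of_dvd_mul_right h1

section Elem

variable [Finite X] {Q W : Subgroup X} {y : X}

/-- The shape of an elementary abelian minimal noncentral normal subgroup. -/
theorem shape (hr : R4 X) (hQ : L32 Q) (hy : y ^ 7 = 1) (hW : Minc Q W y)
    (hsq : ∀ v ∈ W, v * v = 1) :
    (Nat.card W = 8 ∧ ∀ v ∈ W, y * v = v * y → v = 1) ∨
    (Nat.card W = 16 ∧ ∃ c ∈ W, c ≠ 1 ∧ (∀ x : X, x * c = c * x) ∧
      ∀ v ∈ W, y * v = v * y → v = 1 ∨ v = c) := by
  have hWn := hW.normal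
  have hsq' : ∀ v ∈ W, v ^ 2 = 1 := fun v hv => by rw [pow_two]; exact hsq v hv
  have hcm := comm_of_sq_one hsq
  have h16 : Nat.card W ≤ 16 := by
    have := hr W ⊥ (elem_bot hsq')
    simpa using this
  have h7 := ActFour.seven hsq' h16 hy (fun v hv => hWn.conj_mem v hv y) (fun h => by
    obtain ⟨v, hv, hne⟩ := hW.ne
    exact hne (mem_centralizer_singleton_iff.mp (h hv)).symm)
  have hpos : 0 < Nat.card (W ⊓ centralizer ({y} : Set X) : Subgroup X) := Nat.card_pos
  have hcc : Nat.card (W ⊓ centralizer ({y} : Set X) : Subgroup X) = 1 ∨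
      Nat.card (W ⊓ centralizer ({y} : Set X) : Subgroup X) = 2 := by omega
  rcases hcc with hcc | hcc
  · left
    refine ⟨by omega, fun v hv hc => ?_⟩
    have h1 := Subgroup.card_eq_one.mp hcc
    have h2 : v ∈ W ⊓ centralizer ({y} : Set X) := ⟨hv, mem_centralizer_singleton_iff.mpr hc.symm⟩
    rw [h1] at h2
    exact mem_bot.mp h2
  right
  refine ⟨by omega, ?_⟩
  -- the fixed vector of `y`
  obtain ⟨c, hc1, hc2⟩ : ∃ c ∈ W ⊓ centralizer ({y} : Set X), c ≠ 1 := by
    by_contra hcon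
    push Not at hcon
    have : W ⊓ centralizer ({y} : Set X) = ⊥ := (eq_bot_iff_forall _).2 hcon
    rw [this] at hcc
    simp at hcc
  have hcW : c ∈ W := hc1.1
  have hcy : y * c = c * y := (mem_centralizer_singleton_iff.1 hc1.2).symm
  have hfix : ∀ v ∈ W, y * v = v * y → v = 1 ∨ v = c := by
    intro v hv hvy
    have h3 : v ∈ W ⊓ centralizer ({y} : Set X) := ⟨hv, mem_centralizer_singleton_iff.mpr hvy.symm⟩
    by_contra hcon
    push Not at hcon
    obtain ⟨p, q, hpq, huniv⟩ := Nat.card_eq_two_iff.1 hcc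
    have k1 : (1 : (W ⊓ centralizer ({y} : Set X) : Subgroup X)) ∈ ({p, q} : Set _) := by
      rw [huniv]; trivial
    have k2 : (⟨c, hc1⟩ : (W ⊓ centralizer ({y} : Set X) : Subgroup X)) ∈ ({p, q} : Set _) := by
      rw [huniv]; trivial
    have k3 : (⟨v, h3⟩ : (W ⊓ centralizer ({y} : Set X) : Subgroup X)) ∈ ({p, q} : Set _) := by
      rw [huniv]; trivial
    have n1 : (⟨c, hc1⟩ : (W ⊓ centralizer ({y} : Set X) : Subgroup X)) ≠ 1 := fun h =>
      hc2 (congrArg Subtype.val h)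
    have n2 : (⟨v, h3⟩ : (W ⊓ centralizer ({y} : Set X) : Subgroup X)) ≠ 1 := fun h =>
      hcon.1 (congrArg Subtype.val h)
    have n3 : (⟨v, h3⟩ : (W ⊓ centralizer ({y} : Set X) : Subgroup X)) ≠ ⟨c, hc1⟩ := fun h =>
      hcon.2 (congrArg Subtype.val h)
    rcases k1 with k1 | k1 <;> rcases k2 with k2 | k2 <;> rcases k3 with k3 | k3
    · exact n1 (k2.trans k1.symm)
    · exact n1 (k2.trans k1.symm)
    · exact n2 (k3.trans k1.symm)
    · exact n3 (k3.trans k2.symm)
    · exact n3 (k3.trans k2.symm)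
    · exact n2 (k3.trans k1.symm)
    · exact n1 (k2.trans k1.symm)
    · exact n1 (k2.trans k1.symm)
  refine ⟨c, hcW, hc2, ?_, hfix⟩
  -- a vector fixed by a Sylow 2-subgroup
  obtain ⟨T⟩ : Nonempty (Sylow 2 X) := inferInstance
  obtain ⟨hQT, hTi⟩ := sylow_index_dvd hQ T
  obtain ⟨v, hvW, hv1, hvT⟩ := exists_fixed T.2 hWn (by omega)
  have hTc : (T : Subgroup X) ≤ centralizer ({v} : Set X) := fun t ht =>
    mem_centralizer_singleton_iff.2 (hvT t ht)
  classical
  let _ : CommGroup W := { (inferInstance : Group W) with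
    mul_comm := fun a b => Subtype.ext (hcm _ a.2 _ b.2) }
  have : Fintype W := Fintype.ofFinite W
  let φ : X → (W ≃* W) := fun x => MulAut.conjNormal (H := W) x
  have hφ : ∀ x (u : W), ((φ x u : W) : X) = x * u * x⁻¹ := fun x u => by
    rw [MulAut.conjNormal_apply]
  let S : Finset W := Finset.univ.filter fun u => ∃ x : X, x * v * x⁻¹ = u
  have hSmem : ∀ u : W, u ∈ S ↔ ∃ x : X, x * v * x⁻¹ = u := fun u => by simp [S]
  have hSW : ∀ u : X, (∃ x : X, x * v * x⁻¹ = u) → u ∈ W := by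
    rintro u ⟨x, rfl⟩
    exact hWn.conj_mem v hvW x
  have hSc : S.card ∣ 21 := by
    have h1 : Nat.card S = Nat.card {u : X // ∃ x : X, x * v * x⁻¹ = u} := Nat.card_congr
      { toFun := fun u => ⟨u.1.1, (hSmem u.1).1 u.2⟩
        invFun := fun u => ⟨⟨u.1, hSW _ u.2⟩, (hSmem _).2 u.2⟩
        left_inv := fun u => rfl
        right_inv := fun u => rfl }
    rw [Nat.card_eq_fintype_card, Fintype.card_coe] at h1
    rw [h1, orbit_card]
    exact (index_dvd_of_le hTc).trans hTi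
  have hS1 : (1 : W) ∉ S := by
    rw [hSmem]
    rintro ⟨x, hx⟩
    apply hv1
    have : v = x⁻¹ * ((1 : W) : X) * x := by rw [← hx]; group
    rw [this]
    simp
  have hScard : S.card ≤ 15 := by
    have h1 : (insert 1 S).card ≤ Fintype.card W := Finset.card_le_univ _
    rw [Finset.card_insert_of_notMem hS1, ← Nat.card_eq_fintype_card] at h1
    omega
  have hvS : (⟨v, hvW⟩ : W) ∈ S := (hSmem _).2 ⟨1, by simp⟩
  -- the action of `X` on `S`
  have hSφ : ∀ (x : X) (u : W), u ∈ S → φ x u ∈ S := by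
    intro x u hu
    obtain ⟨z, hz⟩ := (hSmem u).1 hu
    refine (hSmem _).2 ⟨x * z, ?_⟩
    rw [hφ, ← hz]
    group
  let f : Function.End S := fun u => ⟨φ y u.1, hSφ y u.1 u.2⟩
  have hfp : ∀ (n : ℕ) (u : S), (((f ^ n) u : S) : W) = φ (y ^ n) u.1 := by
    intro n
    induction n with
    | zero =>
      intro u
      apply Subtype.ext
      rw [hφ]
      simp
      rfl
    | succ n ih =>
      intro u
      rw [pow_succ']
      show φ y ((f ^ n) u : S).1 = _
      rw [ih]
      apply Subtype.ext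
      rw [hφ, hφ, hφ, pow_succ' y]
      group
  have hf7 : f ^ 7 ^ 1 = 1 := by
    funext u
    apply Subtype.ext
    apply Subtype.ext
    rw [pow_one, hfp, hy, hφ]
    simp
    rfl
  have : Fact (Nat.Prime 7) := ⟨by norm_num⟩
  have hmod := Equiv.Perm.card_fixedPoints_modEq (f := f) (p := 7) (n := 1) hf7
  have hfixc : ∀ u : S, f u = u → (u.1 : X) = c ∧ y * (u.1 : X) = u.1 * y := by
    intro u hu
    have h1 : φ y u.1 = u.1 := congrArg Subtype.val hu
    have h2 : y * (u.1 : X) * y⁻¹ = u.1 := by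
      rw [← hφ, h1]
    have h3 : y * (u.1 : X) = u.1 * y := mul_inv_eq_iff_eq_mul.1 h2
    rcases hfix _ u.1.2 h3 with h4 | h4
    · exfalso
      apply hS1
      have h5 : u.1 = (1 : W) := Subtype.ext h4
      rw [← h5]
      exact u.2
    · exact ⟨h4, h3⟩
  have hfle : Fintype.card (Function.fixedPoints f) ≤ 1 := by
    rw [Fintype.card_le_one_iff]
    rintro ⟨a, ha⟩ ⟨b, hb⟩
    apply Subtype.ext
    apply Subtype.ext
    apply Subtype.ext
    rw [(hfixc a ha).1, (hfixc b hb).1]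
  rw [Fintype.card_coe, Nat.ModEq] at hmod
  have h17 : S.card = 1 ∨ S.card = 7 := by
    obtain ⟨k, hk⟩ := hSc
    have h1 : S.card ≤ 15 := hScard
    generalize S.card = n at *
    have hk' : k ≤ 21 := by
      by_contra hcon
      have : 0 < n := by
        rcases Nat.eq_zero_or_pos n with h0 | h0
        · rw [h0] at hk; omega
        · exact h0
      have : 22 ≤ n * k := by nlinarith
      omega
    interval_cases n <;> omega
  rcases h17 with h17 | h17
  · have h1 : ∀ x : X, x * v = v * x := by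
      intro x
      obtain ⟨u, hu⟩ := Finset.card_eq_one.1 h17
      rw [hu, Finset.mem_singleton] at hvS
      have h2 := hSφ x _ ((hSmem ⟨v, hvW⟩).2 ⟨1, by simp⟩)
      rw [hu, Finset.mem_singleton, ← hvS] at h2
      have h3 := congrArg Subtype.val h2
      rw [hφ] at h3
      exact mul_inv_eq_iff_eq_mul.1 h3
    rcases hfix v hvW (h1 y) with h2 | h2
    · exact absurd h2 hv1
    · rw [← h2]
      exact h1
  -- no fixed points
  have hnof : ∀ u : W, u ∈ S → y * (u : X) ≠ u * y := by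
    intro u hu hcon
    have h1 : (⟨u, hu⟩ : S) ∈ Function.fixedPoints f := by
      show f ⟨u, hu⟩ = ⟨u, hu⟩
      apply Subtype.ext
      apply Subtype.ext
      show ((φ y u : W) : X) = u
      rw [hφ, hcon]
      group
    have h2 : 0 < Fintype.card (Function.fixedPoints f) := Fintype.card_pos_iff.2 ⟨⟨_, h1⟩⟩
    rw [h17] at hmod
    omega
  let π : W := ∏ u ∈ S, u
  have hπ : ∀ x : X, φ x π = π := by
    intro x
    rw [map_prod]
    apply Finset.prod_bij (fun u _ => φ x u)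
    · intro u hu
      exact hSφ x u hu
    · intro u _ u' _ h
      exact (φ x).injective h
    · intro u hu
      refine ⟨φ x⁻¹ u, hSφ _ _ hu, ?_⟩
      apply Subtype.ext
      rw [hφ, hφ]
      group
    · intro u _
      rfl
  have hπc : ∀ x : X, x * (π : X) = π * x := by
    intro x
    have h1 := congrArg Subtype.val (hπ x)
    rw [hφ] at h1
    exact mul_inv_eq_iff_eq_mul.1 h1
  rcases hfix π π.2 (hπc y) with h1 | h1
  swap
  · rw [← h1]
    exact hπc
  exfalso
  -- the norm map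
  let N : W →* W :=
    { toFun := fun u => ∏ i ∈ Finset.range 7, φ (y ^ i) u
      map_one' := by simp
      map_mul' := fun a b => by simp [Finset.prod_mul_distrib] }
  have hNS : ∀ u : W, u ∈ S → N u = π := by
    intro u hu
    show ∏ i ∈ Finset.range 7, φ (y ^ i) u = ∏ u ∈ S, u
    have hinj : Set.InjOn (fun i => φ (y ^ i) u) (Finset.range 7 : Finset ℕ) := by
      have key : ∀ i j : ℕ, i < j → j < 7 → φ (y ^ i) u ≠ φ (y ^ j) u := by
        intro i j hij hj h2
        have h3 := congrArg Subtype.val h2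
        rw [hφ, hφ] at h3
        obtain ⟨k, rfl⟩ := Nat.exists_eq_add_of_lt hij
        have h4 : y ^ (k + 1) * (u : X) = u * y ^ (k + 1) := by
          rw [show i + k + 1 = i + (k + 1) by ring, pow_add] at h3
          calc y ^ (k + 1) * (u : X) = (y ^ i)⁻¹ * (y ^ i * y ^ (k + 1) * u * (y ^ i * y ^ (k + 1))⁻¹) *
                (y ^ i) * y ^ (k + 1) := by group
            _ = (y ^ i)⁻¹ * (y ^ i * u * (y ^ i)⁻¹) * (y ^ i) * y ^ (k + 1) := by rw [h3]
            _ = u * y ^ (k + 1) := by group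
        apply hnof u hu
        obtain ⟨m, hm⟩ : ∃ m : ℕ, (y ^ (k + 1)) ^ m = y := by
          have hk6 : k < 6 := by omega
          clear h4 h3 h2 hj hij
          have h6 : ∀ m n : ℕ, m = 7 * n + 1 → y ^ m = y := by
            intro m n hmn
            rw [hmn, pow_add, pow_mul, hy, one_pow, one_mul, pow_one]
          have h7 : ∃ m n : ℕ, (k + 1) * m = 7 * n + 1 := by
            interval_cases k
            · exact ⟨1, 0, rfl⟩
            · exact ⟨4, 1, rfl⟩
            · exact ⟨5, 2, rfl⟩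
            · exact ⟨2, 1, rfl⟩
            · exact ⟨3, 2, rfl⟩
            · exact ⟨6, 5, rfl⟩
          obtain ⟨m, n, hmn⟩ := h7
          exact ⟨m, by rw [← pow_mul]; exact h6 _ n hmn⟩
        have h6 : Commute ((y ^ (k + 1)) ^ m) (u : X) := Commute.pow_left h4 m
        rw [hm] at h6
        exact h6
      intro i hi j hj h2
      rw [Finset.mem_coe, Finset.mem_range] at hi hj
      rcases lt_trichotomy i j with h3 | h3 | h3
      · exact absurd h2 (key i j h3 hj)
      · exact h3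
      · exact absurd h2.symm (key j i h3 hi)
    have himg : (Finset.range 7).image (fun i => φ (y ^ i) u) = S := by
      apply Finset.eq_of_subset_of_card_le
      · intro a ha
        obtain ⟨i, -, rfl⟩ := Finset.mem_image.1 ha
        exact hSφ _ _ hu
      · rw [Finset.card_image_of_injOn hinj, h17]
        simp
    rw [← himg, Finset.prod_image hinj]
  have hNc : N ⟨c, hcW⟩ ≠ 1 := by
    have h2 : N ⟨c, hcW⟩ = ⟨c, hcW⟩ := by
      show ∏ i ∈ Finset.range 7, φ (y ^ i) ⟨c, hcW⟩ = ⟨c, hcW⟩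
      have h3 : ∀ i ∈ Finset.range 7, φ (y ^ i) ⟨c, hcW⟩ = ⟨c, hcW⟩ := by
        intro i _
        apply Subtype.ext
        rw [hφ]
        have : Commute (y ^ i) c := Commute.pow_left hcy i
        rw [this.eq]
        group
      rw [Finset.prod_congr rfl h3, Finset.prod_const, Finset.card_range]
      apply Subtype.ext
      show c ^ 7 = c
      have h4 := hsq c hcW
      calc c ^ 7 = (c * c) * (c * c) * (c * c) * c := by
            simp only [pow_succ, pow_zero, one_mul, mul_assoc]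
        _ = c := by rw [h4]; simp
    rw [h2]
    exact fun h => hc2 (congrArg Subtype.val h)
  have hD : normalClosure ({v} : Set X) ≤ (N.ker).map W.subtype := by
    rw [normalClosure, closure_le]
    intro u hu
    obtain ⟨a, ha, hau⟩ := Group.mem_conjugatesOfSet_iff.1 hu
    rw [Set.mem_singleton_iff] at ha
    subst ha
    obtain ⟨x, hx⟩ := isConj_iff.1 hau
    have h2 : (⟨u, hSW u ⟨x, hx⟩⟩ : W) ∈ S := (hSmem _).2 ⟨x, hx⟩
    refine ⟨⟨u, hSW u ⟨x, hx⟩⟩, ?_, rfl⟩
    show N _ = 1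
    rw [hNS _ h2]
    exact Subtype.ext h1
  have hDW : normalClosure ({v} : Set X) ≤ W := by
    apply normalClosure_le_normal
    rintro u rfl
    exact hvW
  have hDne : normalClosure ({v} : Set X) ≠ W := by
    intro h2
    rw [← h2] at hcW
    obtain ⟨u, hu, hu2⟩ := hD hcW
    apply hNc
    have h3 : u = ⟨c, h2 ▸ hcW⟩ := Subtype.ext hu2
    rw [← h3]
    exact hu
  have h2 := hW.min _ inferInstance hDW hDne v (subset_normalClosure rfl)
  exact hnof _ hvS h2

end Elem

end Cfsg.Agent.GH.C2ThreeMin
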