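import Mathlib
import Cfsg.Agent.GH.C2ThreeMin

/-!
# GH-C2 (T3): a minimal noncentral normal subgroup is elementary abelian
-/

set_option autoImplicit false
set_option maxHeartbeats 800000

namespace Cfsg.Agent.GH.C2ThreeMinE

open Subgroup Cfsg.Agent.TwoFusion.SectionalRank Cfsg.Agent.GH.C2Base Cfsg.Agent.GH.C2Five
open Cfsg.Agent.GH.C2ThreeNat Cfsg.Agent.GH.C2ThreeK0 Cfsg.Agent.GH.C2ThreeMin

open scoped commutatorElement

variable {X : Type*} [Group X]

/-- matrices of order 7 -/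
def P7 (m : M3) : Prop := IsBas m ∧ m ≠ idm ∧ cmp m (cmp m (cmp m (cmp m (cmp m (cmp m m))))) = idm

instance (m : M3) : Decidable (P7 m) := by unfold P7; infer_instance

def PA (m : M3) (p : T3) : Prop := lin m (lin m (lin m p)) = lin m p + p

instance (m : M3) (p : T3) : Decidable (PA m p) := by unfold PA; infer_instance

def PB (m : M3) (p : T3) : Prop := lin m (lin m (lin m p)) = lin m (lin m p) + p

instance (m : M3) (p : T3) : Decidable (PB m p) := by unfold PB; infer_instance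

theorem p7_rel : ∀ m : M3, ¬ P7 m ∨ (PA m e1 ∧ PA m e2 ∧ PA m e3) ∨ (PB m e1 ∧ PB m e2 ∧ PB m e3) := by
  decide +kernel

theorem eq_of_basis {L L' : T3 → T3} (h : ∀ a b, L (a + b) = L a + L b)
    (h' : ∀ a b, L' (a + b) = L' a + L' b) (h1 : L e1 = L' e1) (h2 : L e2 = L' e2) (h3 : L e3 = L' e3)
    (p : T3) : L p = L' p := by
  rw [eq_lin h, eq_lin h', h1, h2, h3]

theorem p7_cases {m : M3} (hm : P7 m) :
    (∀ p, lin m (lin m (lin m p)) = lin m p + p) ∨
    (∀ p, lin m (lin m (lin m p)) = lin m (lin m p) + p) := by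
  rcases p7_rel m with h | h
  · exact absurd hm h
  rcases h with ⟨h1, h2, h3⟩ | ⟨h1, h2, h3⟩
  · left
    apply eq_of_basis
    · intro a b; simp only [lin_add]
    · intro a b; simp only [lin_add]; abel
    · exact h1
    · exact h2
    · exact h3
  · right
    apply eq_of_basis
    · intro a b; simp only [lin_add]
    · intro a b; simp only [lin_add]; abel
    · exact h1
    · exact h2
    · exact h3

def PS (m : M3) (p q : T3) : Prop := q = 0 ∨ q = p ∨ q = lin m p ∨ q = lin m (lin m p) ∨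
  q = p + lin m p ∨ q = p + lin m (lin m p) ∨ q = lin m p + lin m (lin m p) ∨
  q = p + lin m p + lin m (lin m p)

instance (m : M3) (p q : T3) : Decidable (PS m p q) := by unfold PS; infer_instance

theorem p7_span : ∀ m : M3, ¬ P7 m ∨ ∀ p : T3, p = 0 ∨ ∀ q : T3, PS m p q := by
  decide +kernel


section

variable [Finite X] {Q W : Subgroup X} {y : X}

/-- A nontrivial finite 2-group has a subgroup of index 2. -/
theorem exists_index_two {G : Type*} [Group G] [Finite G] (hG : IsPGroup 2 G) (h1 : Nat.card G ≠ 1) :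
    ∃ H : Subgroup G, H.index = 2 := by
  have : Fact (Nat.Prime 2) := ⟨Nat.prime_two⟩
  obtain ⟨n, hn⟩ := IsPGroup.iff_card.1 hG
  obtain ⟨k, rfl⟩ : ∃ k, n = k + 1 := by
    rcases n with _ | k
    · rw [pow_zero] at hn
      exact absurd hn h1
    · exact ⟨k, rfl⟩
  obtain ⟨H, hH⟩ := Sylow.exists_subgroup_card_pow_prime 2 (G := G) (n := k) (by
    rw [hn]; exact pow_dvd_pow 2 (Nat.le_succ k))
  refine ⟨H, ?_⟩
  have h2 := H.card_mul_index
  rw [hH, hn, pow_succ] at h2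
  exact Nat.eq_of_mul_eq_mul_left (pow_pos (by norm_num) k) h2

/-- The squares of the elements of a nontrivial finite 2-group generate a proper subgroup. -/
theorem exists_sq_le (hW : IsPGroup 2 W) (h1 : W ≠ ⊥) :
    ∃ H : Subgroup X, H ≤ W ∧ H ≠ W ∧ ∀ v ∈ W, v * v ∈ H := by
  obtain ⟨H, hH⟩ := exists_index_two hW (fun h => h1 (Subgroup.card_eq_one.1 h))
  refine ⟨H.map W.subtype, map_subtype_le H, fun h => ?_, fun v hv => ?_⟩
  · have h2 : H = ⊤ := by
      rw [eq_top_iff]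
      intro v _
      have h3 : (v : X) ∈ H.map W.subtype := by rw [h]; exact v.2
      obtain ⟨u, hu, hu2⟩ := h3
      have h4 : u = v := Subtype.ext hu2
      rw [← h4]
      exact hu
    rw [h2, index_top] at hH
    omega
  · refine ⟨⟨v, hv⟩ * ⟨v, hv⟩, ?_, rfl⟩
    exact Subgroup.mul_self_mem_of_index_two hH _

omit [Finite X] in
/-- Proper normal subgroups inside `W` centralise `W`. -/
theorem comm_of_proper (hQ : L32 Q) (hy : y ^ 7 = 1) (hW : Minc Q W y) {N : Subgroup X}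
    (hN : N.Normal) (hNW : N ≤ W) (hne : N ≠ W) : ∀ n ∈ N, ∀ v ∈ W, n * v = v * n := by
  have hWn := hW.normal
  have hW2 : IsPGroup 2 W := hQ.two.to_le hW.le
  set K : Subgroup X := normalClosure ({y} : Set X) with hK
  have hcent : ∀ M : Subgroup X, M.Normal → (∀ v ∈ M, y * v = v * y) → ⁅M, K⁆ = ⊥ := by
    intro M hM h
    rw [commutator_eq_bot_iff_le_centralizer, le_centralizer_iff]
    have : (centralizer (M : Set X)).Normal := inferInstance
    apply normalClosure_le_normal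
    rintro x rfl
    exact mem_centralizer_iff.2 fun v hv => (h v hv).symm
  have hWK : ⁅W, K⁆ = W := by
    have hle : ⁅W, K⁆ ≤ W := commutator_le_left _ _
    by_contra hcon
    have h1 := hW.min _ inferInstance hle hcon
    obtain ⟨v, hv, hvy⟩ := hW.ne
    apply hvy
    have h2 : y * v * y⁻¹ * v⁻¹ ∈ ⁅W, K⁆ := by
      have h3 : ⁅v, y⁆ ∈ ⁅W, K⁆ := commutator_mem_commutator hv (subset_normalClosure rfl)
      have h4 : y * v * y⁻¹ * v⁻¹ = (⁅v, y⁆)⁻¹ := by
        rw [commutatorElement_def]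
        simp only [mul_inv_rev, inv_inv, mul_assoc]
      rw [h4]
      exact inv_mem h3
    exact comm_of_comm hW2 hy (hle h2) (h1 _ h2)
  have h1 : ⁅N, K⁆ = ⊥ := hcent N hN (hW.min N hN hNW hne)
  have h2 : ⁅⁅K, N⁆, W⁆ = ⊥ := by rw [commutator_comm K N, h1, commutator_bot_left]
  have h3 : ⁅⁅N, W⁆, K⁆ = ⊥ := by
    rw [eq_bot_iff, ← h1]
    exact commutator_mono (commutator_le_left _ _) le_rfl
  have h4 := commutator_commutator_eq_bot_of_rotate h2 h3
  rw [hWK] at h4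
  intro n hn v hv
  rw [commutator_comm, commutator_eq_bot_iff_le_centralizer] at h4
  exact (mem_centralizer_iff.1 (h4 hn) v hv).symm

/-- The squares of the elements of `W` generate a proper `X`-normal subgroup. -/
theorem sq_proper (hQ : L32 Q) (hW : Minc Q W y) : ∃ N : Subgroup X, N.Normal ∧ N ≤ W ∧ N ≠ W ∧
    ∀ v ∈ W, v * v ∈ N := by
  have hWn := hW.normal
  have hW2 : IsPGroup 2 W := hQ.two.to_le hW.le
  obtain ⟨H, hHW, hHne, hH⟩ := exists_sq_le hW2 (fun h => by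
    obtain ⟨v, hv, hne⟩ := hW.ne
    rw [h, mem_bot] at hv
    apply hne
    rw [hv]
    simp)
  have hle : normalClosure {u : X | ∃ v ∈ W, v * v = u} ≤ H := by
    rw [normalClosure, closure_le]
    intro u hu
    obtain ⟨a, ⟨v, hv, rfl⟩, hau⟩ := Group.mem_conjugatesOfSet_iff.1 hu
    obtain ⟨x, rfl⟩ := isConj_iff.1 hau
    have h1 : x * (v * v) * x⁻¹ = (x * v * x⁻¹) * (x * v * x⁻¹) := by group
    rw [h1]
    exact hH _ (hWn.conj_mem v hv x)
  refine ⟨normalClosure {u : X | ∃ v ∈ W, v * v = u}, inferInstance, hle.trans hHW, fun h => ?_,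
    fun v hv => subset_normalClosure ⟨v, hv, rfl⟩⟩
  exact hHne (le_antisymm hHW (h ▸ hle))

omit [Finite X] in
/-- Quotient of a `Minc` by a proper normal subgroup. -/
theorem Minc.map (hQ : L32 Q) (hy : y ^ 7 = 1) (hW : Minc Q W y) {N : Subgroup X} [hN : N.Normal]
    (hNW : N ≤ W) (hne : N ≠ W) :
    Minc (Q.map (QuotientGroup.mk' N)) (W.map (QuotientGroup.mk' N)) (y : X ⧸ N) := by
  have hWn := hW.normal
  have hW2 : IsPGroup 2 W := hQ.two.to_le hW.le
  have hs := QuotientGroup.mk'_surjective N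
  have hker : (QuotientGroup.mk' N).ker = N := QuotientGroup.ker_mk' N
  refine ⟨hWn.map _ hs, map_mono hW.le, ?_, ?_⟩
  · by_contra hcon
    push Not at hcon
    obtain ⟨v, hv, hvy⟩ := hW.ne
    apply hvy
    have h1 : y * v * y⁻¹ * v⁻¹ ∈ N := by
      rw [← QuotientGroup.eq_one_iff]
      have h2 := hcon (v : X ⧸ N) ⟨v, hv, rfl⟩
      show (y : X ⧸ N) * v * (y : X ⧸ N)⁻¹ * (v : X ⧸ N)⁻¹ = 1
      rw [h2]
      group
    exact comm_of_comm hW2 hy (hNW h1) (hW.min N hN hNW hne _ h1)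
  · intro M hM hMW hMne v hv
    have h1 : M.comap (QuotientGroup.mk' N) ≤ W := by
      intro x hx
      obtain ⟨u, hu, hu2⟩ := hMW hx
      have h2 : u⁻¹ * x ∈ N := QuotientGroup.eq.1 hu2
      have h3 : x = u * (u⁻¹ * x) := by group
      rw [h3]
      exact W.mul_mem hu (hNW h2)
    have h2 : M.comap (QuotientGroup.mk' N) ≠ W := by
      intro h3
      apply hMne
      rw [← h3, map_comap_eq_self_of_surjective hs]
    obtain ⟨x, rfl⟩ := hs v
    have h3 := hW.min _ (hM.comap _) h1 h2 x hv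
    show (y : X ⧸ N) * (x : X ⧸ N) = (x : X ⧸ N) * (y : X ⧸ N)
    rw [← QuotientGroup.mk_mul, h3, QuotientGroup.mk_mul]

omit [Finite X] in
theorem pow_acts {w : T3 → X} {m : M3} (h : Acts w y m) {V : Subgroup X} (hV : Coord V w)
    (hy : y ^ 7 = 1) (hne : ∃ v ∈ V, y * v ≠ v * y) (hn : V.Normal) : P7 m := by
  refine ⟨?_, ?_, ?_⟩
  · obtain ⟨n, hn, hn2⟩ := exists_acts hV (x := y) fun v hv => hn.conj_mem v hv y
    rwa [h.unique hV hn2]
  · rintro rfl
    obtain ⟨v, hv, hvy⟩ := hne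
    obtain ⟨p, rfl⟩ := (hV.mem v).1 hv
    exact hvy ((h.comm_iff hV).2 (lin_idm p))
  · have h1 := h.mul (h.mul (h.mul (h.mul (h.mul (h.mul h)))))
    have h2 : y * (y * (y * (y * (y * (y * y))))) = 1 := by
      rw [← hy]
      simp only [pow_succ, pow_zero, one_mul, mul_assoc]
    rw [h2] at h1
    exact h1.unique hV (Acts.one w)

/-- A minimal noncentral normal subgroup is abelian. -/
theorem minc_comm (hr : R4 X) (hQ : L32 Q) (hy : y ^ 7 = 1) (hW : Minc Q W y) :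
    ∀ v ∈ W, ∀ u ∈ W, v * u = u * v := by
  have hWn := hW.normal
  have hW2 : IsPGroup 2 W := hQ.two.to_le hW.le
  set Z : Subgroup X := W ⊓ centralizer (W : Set X) with hZ
  have hZn : Z.Normal := by
    have : (centralizer (W : Set X)).Normal := inferInstance
    infer_instance
  have hZW : Z ≤ W := inf_le_left
  have hZc : ∀ z ∈ Z, ∀ v ∈ W, z * v = v * z := fun z hz v hv =>
    (mem_centralizer_iff.1 hz.2 v hv).symm
  have hmemZ : ∀ z ∈ W, (∀ v ∈ W, z * v = v * z) → z ∈ Z := fun z hz h =>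
    ⟨hz, mem_centralizer_iff.2 fun v hv => (h v hv).symm⟩
  by_contra hcon
  have hZne : Z ≠ W := by
    intro h
    apply hcon
    intro v hv u hu
    exact hZc v (h ▸ hv) u hu
  -- squares are central
  obtain ⟨N, hN, hNW, hNne, hNsq⟩ := sq_proper hQ hW
  have hsqZ : ∀ v ∈ W, v * v ∈ Z := fun v hv =>
    hmemZ _ (hNW (hNsq v hv)) (comm_of_proper hQ hy hW hN hNW hNne _ (hNsq v hv))
  -- the quotient
  have hMZ := Minc.map hQ hy hW hZW hZne
  have hsqm : ∀ v ∈ W.map (QuotientGroup.mk' Z), v * v = 1 := by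
    rintro v ⟨u, hu, rfl⟩
    exact (QuotientGroup.eq_one_iff _).2 (hsqZ u hu)
  have hym : (y : X ⧸ Z) ^ 7 = 1 := by rw [← QuotientGroup.mk_pow, hy]; rfl
  have hQZ := L32.map hQ Z (hZW.trans hW.le)
  have hsh := shape (r4_quotient hr Z) hQZ hym hMZ hsqm
  have hc8 : Nat.card (W.map (QuotientGroup.mk' Z)) = 8 := by
    rcases hsh with h | ⟨h16, c, hcW, hc1, hcc, -⟩
    · exact h.1
    exfalso
    have hn : (zpowers c).Normal := ⟨fun g hg x => by
      obtain ⟨k, rfl⟩ := mem_zpowers_iff.1 hg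
      have : Commute x (c ^ k) := Commute.zpow_right (hcc x) k
      rw [this.eq]
      simp only [mul_inv_cancel_right]
      exact zpow_mem (mem_zpowers c) k⟩
    have hcW' : zpowers c ≤ W.map (QuotientGroup.mk' Z) := by rwa [zpowers_le]
    have h1 : (zpowers c).comap (QuotientGroup.mk' Z) ≤ W := by
      intro x hx
      obtain ⟨u, hu, hu2⟩ := hcW' hx
      have h2 : u⁻¹ * x ∈ Z := QuotientGroup.eq.1 hu2
      have h3 : x = u * (u⁻¹ * x) := by group
      rw [h3]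
      exact W.mul_mem hu (hZW h2)
    have h2 : (zpowers c).comap (QuotientGroup.mk' Z) ≠ W := by
      intro h3
      have h4 : zpowers c = W.map (QuotientGroup.mk' Z) := by
        rw [← h3, map_comap_eq_self_of_surjective (QuotientGroup.mk'_surjective Z)]
      have h5 : Nat.card (zpowers c) = 16 := by rw [h4, h16]
      rw [Nat.card_zpowers] at h5
      have h6 : orderOf c ∣ 2 := orderOf_dvd_of_pow_eq_one (by rw [pow_two]; exact hsqm c hcW)
      rw [h5] at h6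
      omega
    have h3 := comm_of_proper hQ hy hW (hn.comap _) h1 h2
    obtain ⟨u, hu, rfl⟩ := hcW
    apply hc1
    have h4 : u ∈ (zpowers ((QuotientGroup.mk' Z) u)).comap (QuotientGroup.mk' Z) :=
      mem_zpowers _
    exact (QuotientGroup.eq_one_iff _).2 (hmemZ u hu (h3 u h4))
  obtain ⟨w, hw⟩ := exists_coord hsqm hc8
  obtain ⟨m, hmb, hm⟩ := exists_acts hw (x := (y : X ⧸ Z)) fun v hv => hMZ.normal.conj_mem v hv _
  have hm7 : P7 m := pow_acts hm hw hym hMZ.ne hMZ.normal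
  -- commutators in `W`
  obtain ⟨N', hN', hN'W, hN'ne, hcomN⟩ : ∃ N' : Subgroup X, N'.Normal ∧ N' ≤ W ∧ N' ≠ W ∧
      ∀ a ∈ W, ∀ b ∈ W, a * b * a⁻¹ * b⁻¹ ∈ N' := by
    refine ⟨N, hN, hNW, hNne, fun a ha b hb => ?_⟩
    have h1 : a * b * a⁻¹ * b⁻¹ = (a * b * (a * b)) * (b⁻¹ * (a * a)⁻¹ * b⁻¹⁻¹) * (b * b)⁻¹ := by group
    rw [h1]
    exact N.mul_mem (N.mul_mem (hNsq _ (W.mul_mem ha hb))
      (hN.conj_mem _ (N.inv_mem (hNsq a ha)) _)) (N.inv_mem (hNsq b hb))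
  have hcomZ : ∀ a ∈ W, ∀ b ∈ W, a * b * a⁻¹ * b⁻¹ ∈ Z := fun a ha b hb =>
    hmemZ _ (hN'W (hcomN a ha b hb)) (comm_of_proper hQ hy hW hN' hN'W hN'ne _ (hcomN a ha b hb))
  let B : X → X → X := fun a b => a * b * a⁻¹ * b⁻¹
  have Bdef : ∀ a b, B a b = a * b * a⁻¹ * b⁻¹ := fun _ _ => rfl
  have Bmul : ∀ a ∈ W, ∀ b ∈ W, ∀ c ∈ W, B a (b * c) = B a b * B a c := by
    intro a ha b hb c hc
    have h1 := hZc _ (hcomZ a ha c hc) b⁻¹ (W.inv_mem hb)
    calc B a (b * c) = a * b * a⁻¹ * ((a * c * a⁻¹ * c⁻¹) * b⁻¹) := by rw [Bdef]; group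
      _ = a * b * a⁻¹ * (b⁻¹ * (a * c * a⁻¹ * c⁻¹)) := by rw [h1]
      _ = B a b * B a c := by rw [Bdef, Bdef]; group
  have Bz : ∀ a ∈ W, ∀ z ∈ Z, B a z = 1 := by
    intro a ha z hz
    rw [Bdef, ← hZc z hz a ha]
    group
  have Bself : ∀ a, B a a = 1 := fun a => by rw [Bdef]; group
  have Binv : ∀ a b, B b a = (B a b)⁻¹ := fun a b => by rw [Bdef, Bdef]; group
  have Bsq : ∀ a ∈ W, ∀ b ∈ W, B a b * B a b = 1 := by
    intro a ha b hb
    rw [← Bmul a ha b hb b hb]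
    exact Bz a ha _ (hsqZ b hb)
  have Bsymm : ∀ a ∈ W, ∀ b ∈ W, B b a = B a b := by
    intro a ha b hb
    rw [Binv]
    exact inv_eq_of_mul_eq_one_left (Bsq a ha b hb)
  have By : ∀ a ∈ W, ∀ b ∈ W, B (y * a * y⁻¹) (y * b * y⁻¹) = B a b := by
    intro a ha b hb
    have h1 := hW.min N' hN' hN'W hN'ne _ (hcomN a ha b hb)
    calc B (y * a * y⁻¹) (y * b * y⁻¹) = y * (a * b * a⁻¹ * b⁻¹) * y⁻¹ := by rw [Bdef]; group
      _ = a * b * a⁻¹ * b⁻¹ := by rw [h1]; group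
  have Bcongr : ∀ a ∈ W, ∀ b ∈ W, ∀ c ∈ W, (b : X ⧸ Z) = (c : X ⧸ Z) → B a b = B a c := by
    intro a ha b hb c hc h
    have h1 : b⁻¹ * c ∈ Z := QuotientGroup.eq.1 h
    have h2 : c = b * (b⁻¹ * c) := by group
    rw [h2, Bmul a ha b hb _ (hZW h1), Bz a ha _ h1, mul_one]
  -- `[u, y u y⁻¹] = 1 = [u, y² u y⁻²]`
  have hrep : ∀ u ∈ W, ∃ p, w p = (u : X ⧸ Z) := fun u hu => (hw.mem _).1 ⟨u, hu, rfl⟩
  have hkey : ∀ u ∈ W, B u (y * u * y⁻¹) = 1 ∧ B u (y * (y * u * y⁻¹) * y⁻¹) = 1 := by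
    intro u hu
    have h1 : y * u * y⁻¹ ∈ W := hWn.conj_mem u hu y
    have h2 : y * (y * u * y⁻¹) * y⁻¹ ∈ W := hWn.conj_mem _ h1 y
    have h3 : y * (y * (y * u * y⁻¹) * y⁻¹) * y⁻¹ ∈ W := hWn.conj_mem _ h2 y
    obtain ⟨p, hp⟩ := hrep u hu
    have e1 : w (lin m p) = ((y * u * y⁻¹ : X) : X ⧸ Z) := by
      rw [← hm, hp]; rfl
    have e2 : w (lin m (lin m p)) = ((y * (y * u * y⁻¹) * y⁻¹ : X) : X ⧸ Z) := by
      rw [← hm, e1]; rfl
    have e3 : w (lin m (lin m (lin m p))) = ((y * (y * (y * u * y⁻¹) * y⁻¹) * y⁻¹ : X) : X ⧸ Z) := by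
      rw [← hm, e2]; rfl
    set u1 := y * u * y⁻¹ with hu1
    set u2 := y * u1 * y⁻¹ with hu2
    set u3 := y * u2 * y⁻¹ with hu3
    have s12 : B u1 u2 = B u u1 := By u hu u1 h1
    have s23 : B u2 u3 = B u u1 := (By u1 h1 u2 h2).trans s12
    have s13 : B u1 u3 = B u u2 := By u hu u2 h2
    rcases p7_cases hm7 with hc | hc
    · have e4 : (u3 : X ⧸ Z) = ((u1 * u : X) : X ⧸ Z) := by
        rw [← e3, hc, hw.mul, e1, hp]; rfl
      have t1 : B u1 u3 = B u1 u1 * B u1 u := by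
        rw [Bcongr u1 h1 u3 h3 _ (W.mul_mem h1 hu) e4, Bmul u1 h1 u1 h1 u hu]
      have t2 : B u2 u3 = B u2 u1 * B u2 u := by
        rw [Bcongr u2 h2 u3 h3 _ (W.mul_mem h1 hu) e4, Bmul u2 h2 u1 h1 u hu]
      rw [s13, Bself, one_mul, Bsymm u hu u1 h1] at t1
      rw [s23, Bsymm u1 h1 u2 h2, s12, Bsymm u hu u2 h2] at t2
      have h4 : B u u2 = 1 := (left_eq_mul.1 t2)
      exact ⟨t1 ▸ h4, h4⟩
    · have e4 : (u3 : X ⧸ Z) = ((u2 * u : X) : X ⧸ Z) := by
        rw [← e3, hc, hw.mul, e2, hp]; rfl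
      have t1 : B u1 u3 = B u1 u2 * B u1 u := by
        rw [Bcongr u1 h1 u3 h3 _ (W.mul_mem h2 hu) e4, Bmul u1 h1 u2 h2 u hu]
      have t2 : B u2 u3 = B u2 u2 * B u2 u := by
        rw [Bcongr u2 h2 u3 h3 _ (W.mul_mem h2 hu) e4, Bmul u2 h2 u2 h2 u hu]
      rw [s13, s12, Bsymm u hu u1 h1, Bsq u hu u1 h1] at t1
      rw [s23, Bself, one_mul, Bsymm u hu u2 h2] at t2
      exact ⟨t2.trans t1, t1⟩
  apply hcon
  intro a ha b hb
  -- `b` is a product of `a`, `y a y⁻¹`, `y² a y⁻²` modulo `Z`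
  have hab : B a b = 1 := by
    have h1 : y * a * y⁻¹ ∈ W := hWn.conj_mem a ha y
    have h2 : y * (y * a * y⁻¹) * y⁻¹ ∈ W := hWn.conj_mem _ h1 y
    obtain ⟨p, hp⟩ := hrep a ha
    obtain ⟨q, hq⟩ := hrep b hb
    have e1 : w (lin m p) = ((y * a * y⁻¹ : X) : X ⧸ Z) := by
      rw [← hm, hp]; rfl
    have e2 : w (lin m (lin m p)) = ((y * (y * a * y⁻¹) * y⁻¹ : X) : X ⧸ Z) := by
      rw [← hm, e1]; rfl
    obtain ⟨k1, k2⟩ := hkey a ha
    set a1 := y * a * y⁻¹ with ha1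
    set a2 := y * a1 * y⁻¹ with ha2
    rcases (p7_span m).resolve_left (not_not.2 hm7) p with h0 | hs
    · rw [h0, hw.zero] at hp
      have h3 : a ∈ Z := (QuotientGroup.eq_one_iff _).1 hp.symm
      rw [Bdef, hZc a h3 b hb]
      group
    · rcases hs q with h | h | h | h | h | h | h | h
      · rw [h, hw.zero] at hq
        exact Bz a ha b ((QuotientGroup.eq_one_iff _).1 hq.symm)
      · rw [Bcongr a ha b hb a ha (by rw [← hq, h, hp]), Bself]
      · rw [Bcongr a ha b hb a1 h1 (by rw [← hq, h, e1]), k1]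
      · rw [Bcongr a ha b hb a2 h2 (by rw [← hq, h, e2]), k2]
      · rw [Bcongr a ha b hb (a * a1) (W.mul_mem ha h1)
          (by rw [← hq, h, hw.mul, hp, e1]; rfl), Bmul a ha a ha a1 h1, Bself, k1, mul_one]
      · rw [Bcongr a ha b hb (a * a2) (W.mul_mem ha h2)
          (by rw [← hq, h, hw.mul, hp, e2]; rfl), Bmul a ha a ha a2 h2, Bself, k2, mul_one]
      · rw [Bcongr a ha b hb (a1 * a2) (W.mul_mem h1 h2)
          (by rw [← hq, h, hw.mul, e1, e2]; rfl), Bmul a ha a1 h1 a2 h2, k1, k2, mul_one]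
      · rw [Bcongr a ha b hb (a * a1 * a2) (W.mul_mem (W.mul_mem ha h1) h2)
          (by rw [← hq, h, hw.mul, hw.mul, hp, e1, e2]; rfl),
          Bmul a ha _ (W.mul_mem ha h1) a2 h2, Bmul a ha a ha a1 h1, Bself, k1, k2, mul_one, mul_one]
  have h3 : a * b * a⁻¹ * b⁻¹ = 1 := hab
  calc a * b = (a * b * a⁻¹ * b⁻¹) * (b * a) := by group
    _ = b * a := by rw [h3, one_mul]

/-- A minimal noncentral normal subgroup is elementary abelian. -/
theorem minc_sq (hr : R4 X) (hQ : L32 Q) (hy : y ^ 7 = 1) (hW : Minc Q W y) :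
    ∀ v ∈ W, v * v = 1 := by
  have hWn := hW.normal
  have hW2 : IsPGroup 2 W := hQ.two.to_le hW.le
  have hcm := minc_comm hr hQ hy hW
  obtain ⟨N, hN, hNW, hNne, hNsq⟩ := sq_proper hQ hW
  let Ω : Subgroup X :=
    { carrier := {v | v ∈ W ∧ v * v = 1}
      one_mem' := ⟨W.one_mem, mul_one 1⟩
      mul_mem' := by
        rintro a b ⟨ha, ha2⟩ ⟨hb, hb2⟩
        refine ⟨W.mul_mem ha hb, ?_⟩
        calc a * b * (a * b) = a * (b * a) * b := by group
          _ = a * (a * b) * b := by rw [hcm b hb a ha]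
          _ = (a * a) * (b * b) := by group
          _ = 1 := by rw [ha2, hb2, one_mul]
      inv_mem' := by
        rintro a ⟨ha, ha2⟩
        refine ⟨W.inv_mem ha, ?_⟩
        rw [← mul_inv_rev, ha2, inv_one] }
  have hΩn : Ω.Normal := ⟨fun v hv x => ⟨hWn.conj_mem v hv.1 x, by
    calc x * v * x⁻¹ * (x * v * x⁻¹) = x * (v * v) * x⁻¹ := by group
      _ = 1 := by rw [hv.2]; group⟩⟩
  have hΩW : Ω ≤ W := fun v hv => hv.1
  by_contra hcon
  have hne : Ω ≠ W := by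
    intro h
    apply hcon
    intro v hv
    rw [← h] at hv
    exact hv.2
  obtain ⟨v, hv, hvy⟩ := hW.ne
  apply hvy
  have h1 : y * v * y⁻¹ ∈ W := hWn.conj_mem v hv y
  have h2 : y * v * y⁻¹ * v⁻¹ ∈ Ω := by
    refine ⟨W.mul_mem h1 (W.inv_mem hv), ?_⟩
    have h3 := hW.min N hN hNW hNne _ (hNsq v hv)
    calc y * v * y⁻¹ * v⁻¹ * (y * v * y⁻¹ * v⁻¹) = y * v * y⁻¹ * (v⁻¹ * (y * v * y⁻¹)) * v⁻¹ := by group
      _ = y * v * y⁻¹ * ((y * v * y⁻¹) * v⁻¹) * v⁻¹ := by rw [hcm v⁻¹ (W.inv_mem hv) _ h1]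
      _ = (y * (v * v) * y⁻¹) * (v * v)⁻¹ := by group
      _ = 1 := by rw [h3]; group
  exact comm_of_comm hW2 hy (hΩW h2) (hW.min Ω hΩn hΩW hne _ h2)

end

end Cfsg.Agent.GH.C2ThreeMinE
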