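import Mathlib
import Cfsg.Agent.GH.C2ThreeMinE

/-!
# GH-C2 (T3): two natural chief factors one above the other: the squaring map
-/

set_option autoImplicit false
set_option maxHeartbeats 800000

namespace Cfsg.Agent.GH.C2ThreeSq

open Subgroup Cfsg.Agent.TwoFusion.SectionalRank Cfsg.Agent.GH.C2Base Cfsg.Agent.GH.C2Five
open Cfsg.Agent.GH.C2ThreeNat Cfsg.Agent.GH.C2ThreeK0 Cfsg.Agent.GH.C2ThreeMin Cfsg.Agent.GH.C2ThreeMinE

variable {X : Type*} [Group X]

def PTr (m : M3) (p q : T3) : Prop := q = p ∨ q = lin m p ∨ q = lin m (lin m p) ∨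
  q = lin m (lin m (lin m p)) ∨ q = lin m (lin m (lin m (lin m p))) ∨
  q = lin m (lin m (lin m (lin m (lin m p)))) ∨ q = lin m (lin m (lin m (lin m (lin m (lin m p)))))

instance (m : M3) (p q : T3) : Decidable (PTr m p q) := by unfold PTr; infer_instance

theorem p7_trans_aux : ∀ m : M3, ¬ P7 m ∨ ∀ p : T3, p = 0 ∨ ∀ q : T3, q = 0 ∨ PTr m p q := by
  decide +kernel

theorem p7_trans {m : M3} (hm : P7 m) {p q : T3} (hp : p ≠ 0) (hq : q ≠ 0) :
    ∃ k < 7, q = (lin m)^[k] p := by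
  have h := (((p7_trans_aux m).resolve_left (not_not.2 hm) p).resolve_left hp q).resolve_left hq
  rcases h with h | h | h | h | h | h | h
  · exact ⟨0, by norm_num, h⟩
  · exact ⟨1, by norm_num, h⟩
  · exact ⟨2, by norm_num, h⟩
  · exact ⟨3, by norm_num, h⟩
  · exact ⟨4, by norm_num, h⟩
  · exact ⟨5, by norm_num, h⟩
  · exact ⟨6, by norm_num, h⟩

def PReg (m : M3) (p : T3) : Prop := lin m p ≠ p ∧ lin m (lin m p) ≠ p ∧
  lin m (lin m (lin m p)) ≠ p ∧ lin m (lin m (lin m (lin m p))) ≠ p ∧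
  lin m (lin m (lin m (lin m (lin m p)))) ≠ p ∧ lin m (lin m (lin m (lin m (lin m (lin m p))))) ≠ p

instance (m : M3) (p : T3) : Decidable (PReg m p) := by unfold PReg; infer_instance

theorem p7_reg_aux : ∀ m : M3, ¬ P7 m ∨ ∀ p : T3, p = 0 ∨ PReg m p := by
  decide +kernel

theorem p7_reg {m : M3} (hm : P7 m) {p : T3} (hp : p ≠ 0) {k : ℕ} (hk : k < 7)
    (h : (lin m)^[k] p = p) : k = 0 := by
  obtain ⟨h1, h2, h3, h4, h5, h6⟩ := ((p7_reg_aux m).resolve_left (not_not.2 hm) p).resolve_left hp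
  interval_cases k
  · rfl
  · exact absurd h h1
  · exact absurd h h2
  · exact absurd h h3
  · exact absurd h h4
  · exact absurd h h5
  · exact absurd h h6

def PAx (m : M3) (p q : T3) : Prop := IsBas m ∧ lin m p = p ∧ lin m q = q ∧
  ∀ r : T3, lin m r = r → r = 0 ∨ r = p ∨ r = q ∨ r = p + q

instance (m : M3) (p q : T3) : Decidable (PAx m p q) := by unfold PAx; infer_instance

/-- the transvection with a given axis -/
theorem exists_axis_aux : ∀ p q : T3, p = 0 ∨ q = 0 ∨ p = q ∨ ∃ m : M3, PAx m p q := by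
  decide +kernel

theorem iter_add (m : M3) (k : ℕ) (p q : T3) : (lin m)^[k] (p + q) = (lin m)^[k] p + (lin m)^[k] q := by
  induction k with
  | zero => rfl
  | succ k ih => rw [Function.iterate_succ_apply', ih, lin_add, ← Function.iterate_succ_apply' (lin m),
      ← Function.iterate_succ_apply' (lin m)]

theorem iter_zero (m : M3) (k : ℕ) : (lin m)^[k] 0 = 0 := by
  induction k with
  | zero => rfl
  | succ k ih => rw [Function.iterate_succ_apply', ih, lin_zero]

/-- The squaring map between two natural chief factors. -/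
theorem sq_lemma {Q U V Z : Subgroup X} {w : T3 → X} {y : X} [hZn : Z.Normal]
    (hV : NatMod Q V w) (hVZ : V ≤ Z) (hZU : Z ≤ U)
    (hZ2 : ∀ z ∈ Z, z * z = 1) (hZc : ∀ z ∈ Z, ∀ u ∈ U, z * u = u * z) (hU2 : ∀ u ∈ U, u * u ∈ V)
    {w2 : T3 → X ⧸ Z} (hU : NatMod (Q.map (QuotientGroup.mk' Z)) (U.map (QuotientGroup.mk' Z)) w2)
    (hy : y ^ 7 = 1) (hyV : ∃ v ∈ V, y * v ≠ v * y)
    (hyU : ∃ v ∈ U.map (QuotientGroup.mk' Z), (y : X ⧸ Z) * v ≠ v * (y : X ⧸ Z))
    (hne : ∃ u ∈ U, u * u ≠ 1) :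
    (∀ a ∈ U, ∀ b ∈ U, a * b = b * a) ∧
    ∃ w3, NatMod (Q.map (QuotientGroup.mk' Z)) (U.map (QuotientGroup.mk' Z)) w3 ∧
      ∀ l ∈ U, ∀ p, (l : X ⧸ Z) = w3 p → l * l = w p := by
  have hUn : ∀ u ∈ U, ∀ x : X, x * u * x⁻¹ ∈ U := by
    intro u hu x
    have h1 := hU.normal.conj_mem (u : X ⧸ Z) ⟨u, hu, rfl⟩ (x : X ⧸ Z)
    obtain ⟨u', hu', h2⟩ := h1
    have h3 : u'⁻¹ * (x * u * x⁻¹) ∈ Z := QuotientGroup.eq.1 h2
    have h4 : x * u * x⁻¹ = u' * (u'⁻¹ * (x * u * x⁻¹)) := by group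
    rw [h4]
    exact U.mul_mem hu' (hZU h3)
  have h0 : ∀ p, ∃ l ∈ U, (l : X ⧸ Z) = w2 p := fun p => by
    obtain ⟨l, hl, hl2⟩ := hU.coord.mem_w p
    exact ⟨l, hl, hl2⟩
  choose l hlU hl using h0
  have h0 : ∀ p, ∃ q, w q = l p * l p := fun p => (hV.coord.mem _).1 (hU2 _ (hlU p))
  choose σ hσ using h0
  -- well defined
  have hwd : ∀ u ∈ U, ∀ p, (u : X ⧸ Z) = w2 p → u * u = w (σ p) := by
    intro u hu p h
    have h1 : (l p)⁻¹ * u ∈ Z := QuotientGroup.eq.1 ((hl p).trans h.symm)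
    set z := (l p)⁻¹ * u with hz
    have h2 : u = l p * z := by rw [hz]; group
    rw [h2, hσ]
    calc l p * z * (l p * z) = l p * (z * l p) * z := by group
      _ = l p * (l p * z) * z := by rw [hZc z h1 _ (hlU p)]
      _ = l p * l p * (z * z) := by group
      _ = l p * l p := by rw [hZ2 z h1, mul_one]
  have heqv : ∀ (x : X) (m n : M3), Acts w x m → Acts w2 (x : X ⧸ Z) n → ∀ p,
      σ (lin n p) = lin m (σ p) := by
    intro x m n hx hx2 p
    apply hV.coord.injective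
    have h1 : ((x * l p * x⁻¹ : X) : X ⧸ Z) = w2 (lin n p) := by
      rw [← hx2, ← hl]; rfl
    rw [← hx, hσ p, ← hwd _ (hUn _ (hlU p) x) _ h1]
    simp only [mul_assoc, inv_mul_cancel_left]
  -- the matrices of `y`
  obtain ⟨m, hmb, hm⟩ := hV.acts y
  obtain ⟨n, hnb, hn⟩ := hU.acts (y : X ⧸ Z)
  have hm7 : P7 m := pow_acts hm hV.coord hy hyV hV.normal
  have hn7 : P7 n := pow_acts hn hU.coord (by rw [← QuotientGroup.mk_pow, hy]; rfl) hyU hU.normal
  have hy1 := heqv y m n hm hn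
  have hit : ∀ (k : ℕ) (p : T3), σ ((lin n)^[k] p) = (lin m)^[k] (σ p) := by
    intro k
    induction k with
    | zero => intro p; rfl
    | succ k ih => intro p; rw [Function.iterate_succ_apply', hy1, ih, ← Function.iterate_succ_apply' (lin m)]
  have hσ0 : σ 0 = 0 := by
    apply hV.coord.injective
    rw [← hwd 1 U.one_mem 0 (by rw [hU.coord.zero]; rfl), hV.coord.zero, mul_one]
  have hσne : ∀ p, p ≠ 0 → σ p ≠ 0 := by
    intro p hp hp2
    obtain ⟨u, hu, hu2⟩ := hne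
    obtain ⟨q, hq⟩ := (hU.coord.mem (u : X ⧸ Z)).1 ⟨u, hu, rfl⟩
    apply hu2
    rw [hwd u hu q hq.symm]
    by_cases hq0 : q = 0
    · rw [hq0, hσ0, hV.coord.zero]
    · obtain ⟨k, -, rfl⟩ := p7_trans hn7 hp hq0
      rw [hit, hp2, iter_zero, hV.coord.zero]
  have hσinj : ∀ p q, p ≠ 0 → q ≠ 0 → σ p = σ q → p = q := by
    intro p q hp hq h
    obtain ⟨k, hk, rfl⟩ := p7_trans hn7 hp hq
    rw [hit] at h
    rw [p7_reg hm7 (hσne p hp) hk h.symm]
    rfl
  have hσinj' : ∀ p q, σ p = σ q → p = q := by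
    intro p q h
    by_cases hp : p = 0
    · by_cases hq : q = 0
      · rw [hp, hq]
      · rw [hp, hσ0] at h
        exact absurd h.symm (hσne q hq)
    · by_cases hq : q = 0
      · rw [hq, hσ0] at h
        exact absurd h (hσne p hp)
      · exact hσinj p q hp hq h
  have hσsurj : Function.Surjective σ := Finite.injective_iff_surjective.1 (fun p q h => hσinj' p q h)
  have hadd : ∀ p q, σ (p + q) = σ p + σ q := by
    intro p q
    rcases exists_axis_aux p q with h | h | h | ⟨a, hab, hap, haq, har⟩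
    · rw [h, zero_add, hσ0, zero_add]
    · rw [h, add_zero, hσ0, add_zero]
    · rw [h, add_self, hσ0, add_self]
    by_cases hp : p = 0
    · rw [hp, zero_add, hσ0, zero_add]
    by_cases hq : q = 0
    · rw [hq, add_zero, hσ0, add_zero]
    by_cases hpq : p = q
    · rw [hpq, add_self, hσ0, add_self]
    obtain ⟨x', hx'⟩ := hU.real a hab
    obtain ⟨x, rfl⟩ := QuotientGroup.mk_surjective x'
    obtain ⟨b, hbb, hb⟩ := hV.acts x
    have h1 := heqv x b a hb hx'
    obtain ⟨r, hr⟩ := hσsurj (σ p + σ q)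
    have h2 : lin b (σ p) = σ p := by rw [← h1, hap]
    have h3 : lin b (σ q) = σ q := by rw [← h1, haq]
    have h4 : σ (lin a r) = σ r := by rw [h1, hr, lin_add, h2, h3]
    have h5 := har r (hσinj' _ _ h4)
    rcases h5 with h5 | h5 | h5 | h5
    · exfalso
      rw [h5, hσ0] at hr
      have h6 : σ p = σ q := by
        have h7 : σ p = σ p + σ q + σ q := by rw [add_assoc, add_self, add_zero]
        rw [h7, ← hr, zero_add]
      exact hpq (hσinj' _ _ h6)
    · exfalso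
      rw [h5] at hr
      have h6 : σ q = 0 := left_eq_add.1 hr
      exact hσne q hq h6
    · exfalso
      rw [h5] at hr
      have h6 : σ p = 0 := right_eq_add.1 hr
      exact hσne p hp h6
    · rw [← hr, h5]
  constructor
  · intro a ha b hb
    obtain ⟨p, hp⟩ := (hU.coord.mem (a : X ⧸ Z)).1 ⟨a, ha, rfl⟩
    obtain ⟨q, hq⟩ := (hU.coord.mem (b : X ⧸ Z)).1 ⟨b, hb, rfl⟩
    have h1 : a * b * (a * b) = a * a * (b * b) := by
      rw [hwd a ha p hp.symm, hwd b hb q hq.symm, ← hV.coord.mul, ← hadd]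
      apply hwd _ (U.mul_mem ha hb)
      rw [hU.coord.mul, hp, hq]
      rfl
    have h2 : a * (b * a) * b = a * (a * b) * b := by
      calc a * (b * a) * b = a * b * (a * b) := by group
        _ = a * a * (b * b) := h1
        _ = a * (a * b) * b := by group
    exact (mul_left_cancel (mul_right_cancel h2)).symm
  · -- new coordinates
    set t : M3 := (σ e1, σ e2, σ e3) with ht
    have hσt : ∀ p, σ p = lin t p := fun p => eq_lin hadd p
    have htb : IsBas t := by
      have h1 : ∀ p q, p ≠ q → σ p ≠ σ q := fun p q h h2 => h (hσinj' p q h2)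
      refine ⟨hσne _ (by decide), hσne _ (by decide), h1 _ _ (by decide), hσne _ (by decide),
        h1 _ _ (by decide), h1 _ _ (by decide), ?_⟩
      show σ e3 ≠ σ e1 + σ e2
      rw [← hadd]
      exact h1 _ _ (by decide)
    obtain ⟨k, hk, hk2⟩ := exists_inv_mat t htb
    refine ⟨fun p => w2 (lin k p), hU.change hk, fun a ha p h => ?_⟩
    rw [hwd a ha _ h, hσt, ← lin_cmp, hk2, lin_idm]

end Cfsg.Agent.GH.C2ThreeSq
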