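import Mathlib
import Cfsg.Agent.GH.C2ThreeSq

/-!
# GH-C2 (T3): natural modules aligned by squaring
-/

set_option autoImplicit false
set_option maxHeartbeats 800000

namespace Cfsg.Agent.GH.C2ThreeAl

open Subgroup Cfsg.Agent.TwoFusion.SectionalRank Cfsg.Agent.GH.C2Base Cfsg.Agent.GH.C2Five
open Cfsg.Agent.GH.C2ThreeNat Cfsg.Agent.GH.C2ThreeK0 Cfsg.Agent.GH.C2ThreeMin Cfsg.Agent.GH.C2ThreeMinE
open Cfsg.Agent.GH.C2ThreeSq

variable {X : Type*} [Group X]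

/-- Two natural modules `V` and `U / Z` aligned by squaring. -/
structure Al (Q V U Z : Subgroup X) [Z.Normal] (w : T3 → X) (w3 : T3 → X ⧸ Z) : Prop where
  hV : NatMod Q V w
  hU : NatMod (Q.map (QuotientGroup.mk' Z)) (U.map (QuotientGroup.mk' Z)) w3
  ZU : Z ≤ U
  sq : ∀ l ∈ U, ∀ p, (l : X ⧸ Z) = w3 p → l * l = w p

namespace Al

variable {Q V U Z : Subgroup X} [hZn : Z.Normal] {w : T3 → X} {w3 : T3 → X ⧸ Z}

theorem conj_mem (h : Al Q V U Z w w3) {u : X} (hu : u ∈ U) (x : X) : x * u * x⁻¹ ∈ U := by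
  have h1 := h.hU.normal.conj_mem (u : X ⧸ Z) ⟨u, hu, rfl⟩ (x : X ⧸ Z)
  obtain ⟨u', hu', h2⟩ := h1
  have h3 : u'⁻¹ * (x * u * x⁻¹) ∈ Z := QuotientGroup.eq.1 h2
  have h4 : x * u * x⁻¹ = u' * (u'⁻¹ * (x * u * x⁻¹)) := by group
  rw [h4]
  exact U.mul_mem hu' (h.ZU h3)

theorem exists_rep (h : Al Q V U Z w w3) (p : T3) : ∃ l ∈ U, (l : X ⧸ Z) = w3 p := by
  obtain ⟨l, hl, hl2⟩ := h.hU.coord.mem_w p
  exact ⟨l, hl, hl2⟩

theorem exists_cls (h : Al Q V U Z w w3) {l : X} (hl : l ∈ U) : ∃ p, (l : X ⧸ Z) = w3 p ∧ l * l = w p := by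
  obtain ⟨p, hp⟩ := (h.hU.coord.mem (l : X ⧸ Z)).1 ⟨l, hl, rfl⟩
  exact ⟨p, hp.symm, h.sq l hl p hp.symm⟩

theorem mem_iff (h : Al Q V U Z w w3) {l : X} (hl : l ∈ U) : l ∈ Z ↔ l * l = 1 := by
  obtain ⟨p, hp, hp2⟩ := h.exists_cls hl
  rw [hp2, ← h.hV.coord.zero, h.hV.coord.injective.eq_iff, ← QuotientGroup.eq_one_iff, hp,
    ← h.hU.coord.zero, h.hU.coord.injective.eq_iff]

theorem acts (h : Al Q V U Z w w3) {x : X} {m : M3} (hx : Acts w x m) : Acts w3 (x : X ⧸ Z) m := by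
  intro p
  obtain ⟨l, hl, hl2⟩ := h.exists_rep p
  have h1 := h.sq l hl p hl2
  obtain ⟨q, hq, hq2⟩ := h.exists_cls (h.conj_mem hl x)
  have h3 : w q = w (lin m p) := by
    rw [← hx, ← h1, ← hq2]
    simp only [mul_assoc, inv_mul_cancel_left]
  rw [← hl2, ← h.hV.coord.injective h3, ← hq]
  rfl

theorem acts_iff (h : Al Q V U Z w w3) {x : X} {m : M3} :
    Acts w x m ↔ Acts w3 (x : X ⧸ Z) m := by
  refine ⟨h.acts, fun hx => ?_⟩
  obtain ⟨n, -, hn⟩ := h.hV.acts x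
  rwa [hx.unique h.hU.coord (h.acts hn)]

theorem change (h : Al Q V U Z w w3) {m : M3} (hm : IsBas m) :
    Al Q V U Z (fun p => w (lin m p)) (fun p => w3 (lin m p)) :=
  ⟨h.hV.change hm, h.hU.change hm, h.ZU, fun l hl _ hp => h.sq l hl _ hp⟩

end Al

theorem lin_mR_e2 (j : ZMod 2) : lin (mR 1 j) e2 = e2 + e1 := by revert j; decide

/-- Transvections move an element over the centre only by the centre. -/
theorem ptrick {Q V U : Subgroup X} [hVn : V.Normal] {w : T3 → X} {w3 : T3 → X ⧸ V}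
    (h : Al Q V U V w w3) (hab : ∀ a ∈ U, ∀ b ∈ U, a * b = b * a) {x : X} {i j : ZMod 2}
    (hx : Acts w x (mR i j)) (hij : i ≠ 0 ∨ j ≠ 0) (hxx : ∀ u ∈ U, x * x * u = u * (x * x))
    {p : X} (hp : p ∈ U) (hp1 : (p : X ⧸ V) = w3 e1) : x * p * x⁻¹ * p⁻¹ ∈ zpowers (w e1) := by
  obtain ⟨a, ha⟩ : ∃ a : T3, lin (mR i j) a = a + e1 := by
    rcases z2 i with rfl | rfl
    · rcases z2 j with rfl | rfl
      · exact absurd hij (by simp)
      · exact ⟨e3, by decide⟩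
    · exact ⟨e2, lin_mR_e2 j⟩
  obtain ⟨c, hc, hc2⟩ := h.exists_rep a
  have h1 : ((x * c * x⁻¹ : X) : X ⧸ V) = ((c * p : X) : X ⧸ V) := by
    have h2 := h.acts hx a
    rw [ha, h.hU.coord.mul, ← hc2, ← hp1] at h2
    exact h2
  have hvV : (c * p)⁻¹ * (x * c * x⁻¹) ∈ V := QuotientGroup.eq.1 h1.symm
  obtain ⟨b, hb⟩ := (h.hV.coord.mem _).1 hvV
  have h3 : x * c * x⁻¹ = c * p * w b := by rw [hb]; group
  have h4 : x * (x * c * x⁻¹) * x⁻¹ = c := by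
    calc x * (x * c * x⁻¹) * x⁻¹ = (x * x) * c * (x * x)⁻¹ := by group
      _ = c := by rw [hxx c hc]; group
  rw [h3] at h4
  have h5 : x * (c * p * w b) * x⁻¹ = (x * c * x⁻¹) * (x * p * x⁻¹) * (x * w b * x⁻¹) := by group
  rw [h5, h3, hx b] at h4
  have hVU : ∀ q, w q ∈ U := fun q => h.ZU (h.hV.coord.mem_w q)
  have hpx : x * p * x⁻¹ ∈ U := h.conj_mem hp x
  set p' := x * p * x⁻¹ with hp'
  have h6 : p' * p * (w b * w (lin (mR i j) b)) = 1 := by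
    have h7 : c * (p' * p * (w b * w (lin (mR i j) b))) = c * 1 := by
      calc c * (p' * p * (w b * w (lin (mR i j) b))) = c * (p' * p) * w b * w (lin (mR i j) b) := by group
        _ = c * (p * p') * w b * w (lin (mR i j) b) := by rw [hab p' hpx p hp]
        _ = c * p * (p' * w b) * w (lin (mR i j) b) := by group
        _ = c * p * (w b * p') * w (lin (mR i j) b) := by rw [hab p' hpx _ (hVU b)]
        _ = c * p * w b * p' * w (lin (mR i j) b) := by group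
        _ = c * 1 := by rw [h4, mul_one]
    exact mul_left_cancel h7
  have h8 : p' * p⁻¹ = w (b + lin (mR i j) b + e1) := by
    have hpp := h.sq p hp e1 hp1
    rw [h.hV.coord.mul, h.hV.coord.mul]
    have h9 : p' * p⁻¹ = (p' * p) * (p * p)⁻¹ := by group
    have h10 : p' * p = (w b * w (lin (mR i j) b))⁻¹ := eq_inv_of_mul_eq_one_left h6
    rw [h9, h10, hpp, h.hV.coord.inv, ← h.hV.coord.mul, h.hV.coord.inv]
  rw [h8, w_mem_zpowers h.hV.coord]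
  clear h8 h6 h4 h5 h3 hb hx hij ha
  revert i j b
  decide

end Cfsg.Agent.GH.C2ThreeAl
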