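import Mathlib
import Cfsg.Agent.GH.C2ThreeAl

/-!
# GH-C2 (T3): statement TWO, case B: `U` abelian of type `(4,4,4)` and of index 2 in `Q`
-/

set_option autoImplicit false
set_option maxHeartbeats 800000

namespace Cfsg.Agent.GH.C2ThreeB

open Subgroup Cfsg.Agent.TwoFusion.SectionalRank Cfsg.Agent.GH.C2Base Cfsg.Agent.GH.C2Five
open Cfsg.Agent.GH.C2ThreeNat Cfsg.Agent.GH.C2ThreeK0 Cfsg.Agent.GH.C2ThreeMin Cfsg.Agent.GH.C2ThreeMinE
open Cfsg.Agent.GH.C2ThreeSq Cfsg.Agent.GH.C2ThreeAl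

variable {X : Type*} [Group X]

theorem two_iff {Q U : Subgroup X} (hrel : U.relIndex Q = 2) {a b : X} (ha : a ∈ Q) (hb : b ∈ Q) :
    a * b ∈ U ↔ (a ∈ U ↔ b ∈ U) :=
  Subgroup.mul_mem_iff_of_index_two (H := U.subgroupOf Q) hrel (a := ⟨a, ha⟩) (b := ⟨b, hb⟩)

theorem exists_out {Q U : Subgroup X} (hrel : U.relIndex Q = 2) : ∃ q ∈ Q, q ∉ U := by
  by_contra hcon
  push Not at hcon
  have h1 : U.relIndex Q = 1 := relIndex_eq_one.2 hcon
  omega

theorem fix_R : ∀ p : T3, lin (mR 0 1) p = p → lin (mR 1 0) p = p → p = 0 ∨ p = e1 := by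
  decide

theorem fix_mc : ∀ p : T3, lin mc p = p → p = 0 ∨ p = e1 := by decide

theorem add_R : ∀ p : T3, p + lin (mR 0 1) p = 0 ∨ p + lin (mR 0 1) p = e1 := by decide

def PCol (m : M3) (p : T3) : Prop := IsBas m ∧ lin m e1 = p

instance (m : M3) (p : T3) : Decidable (PCol m p) := by unfold PCol; infer_instance

theorem exists_col_aux : ∀ p : T3, p = 0 ∨ ∃ m : M3, PCol m p := by decide +kernel

/-- A map commuting with all matrices is zero or the identity. -/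
theorem equiv_cases {τ : T3 → T3} (h : ∀ m, IsBas m → ∀ p, τ (lin m p) = lin m (τ p))
    (h0 : τ 0 = 0) : (∀ p, τ p = 0) ∨ (∀ p, τ p = p) := by
  have h1 := h (mR 0 1) (mR_bas 0 1) e1
  have h2 := h (mR 1 0) (mR_bas 1 0) e1
  rw [lin_e1] at h1 h2
  rcases fix_R _ h1.symm h2.symm with h3 | h3
  · left
    intro p
    rcases exists_col_aux p with rfl | ⟨m, hm, hm2⟩
    · exact h0
    · rw [← hm2, h m hm, h3, lin_zero]
  · right
    intro p
    rcases exists_col_aux p with rfl | ⟨m, hm, hm2⟩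
    · exact h0
    · rw [← hm2, h m hm, h3]

section

variable {Q V U : Subgroup X} [hVn : V.Normal] {w : T3 → X} {w3 : T3 → X ⧸ V}

/-- `l ∈ U` over `0` or `e1`. -/
def E1 (V U : Subgroup X) [V.Normal] (w3 : T3 → X ⧸ V) (l : X) : Prop :=
  l ∈ U ∧ ((l : X ⧸ V) = w3 0 ∨ (l : X ⧸ V) = w3 e1)

theorem E1.mul (h : Al Q V U V w w3) {a b : X} (ha : E1 V U w3 a) (hb : E1 V U w3 b) :
    E1 V U w3 (a * b) := by
  refine ⟨U.mul_mem ha.1 hb.1, ?_⟩
  have key : ∀ p q : T3, (a : X ⧸ V) = w3 p → (b : X ⧸ V) = w3 q → ((a * b : X) : X ⧸ V) = w3 (p + q) := by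
    intro p q hp hq
    rw [h.hU.coord.mul, ← hp, ← hq]
    rfl
  rcases ha.2 with h1 | h1 <;> rcases hb.2 with h2 | h2
  · left
    rw [key _ _ h1 h2, add_zero]
  · right
    rw [key _ _ h1 h2, zero_add]
  · right
    rw [key _ _ h1 h2, add_zero]
  · left
    rw [key _ _ h1 h2, add_self]

/-- Elements of `U` commuting with `y` are trivial. -/
theorem fix_U (h : Al Q V U V w w3) {y : X} (hy : y ^ 7 = 1) (hyQ : y ∉ Q) {u : X} (hu : u ∈ U)
    (hc : y * u = u * y) : u = 1 := by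
  obtain ⟨m, hmb, hm⟩ := h.hV.acts y
  have hyV : ∃ v ∈ V, y * v ≠ v * y := by
    by_contra hcon
    push Not at hcon
    exact hyQ ((h.hV.cent y).1 hcon)
  have hm7 : P7 m := pow_acts hm h.hV.coord hy hyV h.hV.normal
  have hfix : ∀ p, lin m p = p → p = 0 := by
    intro p hp
    by_contra hp0
    have := p7_reg hm7 hp0 (k := 1) (by norm_num) hp
    omega
  obtain ⟨p, hp, hp2⟩ := h.exists_cls hu
  have h1 : p = 0 := by
    apply hfix
    apply h.hV.coord.injective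
    rw [← hm, ← hp2]
    calc y * (u * u) * y⁻¹ = (y * u * y⁻¹) * (y * u * y⁻¹) := by group
      _ = u * u := by rw [hc, mul_inv_cancel_right]
  have huV : u ∈ V := by rw [h.mem_iff hu, hp2, h1, h.hV.coord.zero]
  obtain ⟨q, rfl⟩ := (h.hV.coord.mem u).1 huV
  rw [hfix q ((hm.comm_iff h.hV.coord).1 hc), h.hV.coord.zero]

theorem exists_w0 [Finite X] (hQ : L32 Q) (h : Al Q V U V w w3) (hUn : U.Normal) (hUQ : U ≤ Q)
    (hrel : U.relIndex Q = 2) {y : X} (hy : y ^ 7 = 1) (hyQ : y ∉ Q) :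
    ∃ w0 ∈ Q, w0 ∉ U ∧ w0 * w0 = 1 ∧ y * w0 = w0 * y := by
  have hQn := hQ.normal
  obtain ⟨q, hq, hqU⟩ := exists_out hrel
  have h1 : y * q * y⁻¹ ∉ U := by
    intro h2
    have h3 := hUn.conj_mem _ h2 y⁻¹
    apply hqU
    have h4 : y⁻¹ * (y * q * y⁻¹) * y⁻¹⁻¹ = q := by group
    rwa [h4] at h3
  have h2 : q * y * q⁻¹ * y⁻¹ ∈ U := by
    have h3 : q * y * q⁻¹ * y⁻¹ = q * (y * q⁻¹ * y⁻¹) := by group
    have h4 : y * q⁻¹ * y⁻¹ ∈ Q := hQn.conj_mem _ (Q.inv_mem hq) y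
    rw [h3, two_iff hrel hq h4]
    constructor
    · exact fun h5 => absurd h5 hqU
    · intro h5
      exfalso
      apply h1
      have := U.inv_mem h5
      have h6 : (y * q⁻¹ * y⁻¹)⁻¹ = y * q * y⁻¹ := by group
      rwa [h6] at this
  obtain ⟨u, hu, hu2⟩ := exists_conj_eq (Q := U) hUn (x := y) (y := q * y * q⁻¹)
    (fun u hu hc => fix_U h hy hyQ hu hc) h2
  have h3 : u⁻¹ * q ∈ Q := Q.mul_mem (Q.inv_mem (hUQ hu)) hq
  have h4 : u⁻¹ * q ∉ U := fun h5 => hqU (by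
    have := U.mul_mem hu h5
    rwa [mul_inv_cancel_left] at this)
  have h5 : y * (u⁻¹ * q) = u⁻¹ * q * y := by
    calc y * (u⁻¹ * q) = u⁻¹ * (u * y * u⁻¹) * q := by group
      _ = u⁻¹ * (q * y * q⁻¹) * q := by rw [hu2]
      _ = u⁻¹ * q * y := by group
  refine ⟨u⁻¹ * q, h3, h4, ?_, h5⟩
  have h6 : Commute y (u⁻¹ * q) := h5
  apply fix_U h hy hyQ _ (h6.mul_right h6).eq
  rw [two_iff hrel h3 h3]

theorem conj_out (hQ : L32 Q) (hUn : U.Normal) (hrel : U.relIndex Q = 2) {w0 : X} (hw0 : w0 ∈ Q)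
    (hw0U : w0 ∉ U) (x : X) : w0⁻¹ * (x * w0 * x⁻¹) ∈ U := by
  have hQn := hQ.normal
  rw [two_iff hrel (Q.inv_mem hw0) (hQn.conj_mem _ hw0 x)]
  constructor
  · intro h1
    exact absurd (by simpa using U.inv_mem h1) hw0U
  · intro h1
    exfalso
    apply hw0U
    have h2 := hUn.conj_mem _ h1 x⁻¹
    have h3 : x⁻¹ * (x * w0 * x⁻¹) * x⁻¹⁻¹ = w0 := by group
    rwa [h3] at h2

theorem tau (hQ : L32 Q) (h : Al Q V U V w w3) (hUn : U.Normal)
    (hab : ∀ a ∈ U, ∀ b ∈ U, a * b = b * a) (hrel : U.relIndex Q = 2)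
    {w0 : X} (hw0 : w0 ∈ Q) (hw0U : w0 ∉ U) :
    (∀ l ∈ U, w0 * l = l * w0) ∨ (∀ l ∈ U, ∀ p, (l : X ⧸ V) = w3 p → w0 * l * w0⁻¹ = w p * l) := by
  have hQn := hQ.normal
  have hcl : ∀ l ∈ U, ∃ a, w a = w0 * l * w0⁻¹ * l⁻¹ := by
    intro l hl
    apply (h.hV.coord.mem _).1
    rw [← QuotientGroup.eq_one_iff]
    have h1 := (h.hU.cent (w0 : X ⧸ V)).2 ⟨w0, hw0, rfl⟩ (l : X ⧸ V) ⟨l, hl, rfl⟩
    show (w0 : X ⧸ V) * l * (w0 : X ⧸ V)⁻¹ * (l : X ⧸ V)⁻¹ = 1
    rw [h1]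
    group
  have hwd : ∀ l ∈ U, ∀ l' ∈ U, (l : X ⧸ V) = l' → w0 * l * w0⁻¹ * l⁻¹ = w0 * l' * w0⁻¹ * l'⁻¹ := by
    intro l hl l' hl' he
    have h1 : l⁻¹ * l' ∈ V := QuotientGroup.eq.1 he
    set v := l⁻¹ * l' with hv
    have h2 : l' = l * v := by rw [hv]; group
    have h3 : Commute v w0 := ((h.hV.cent w0).2 hw0 v h1).symm
    have h4 : v * w0⁻¹ = w0⁻¹ * v := h3.inv_right.eq
    rw [h2]
    symm
    calc w0 * (l * v) * w0⁻¹ * (l * v)⁻¹ = w0 * l * (v * w0⁻¹) * v⁻¹ * l⁻¹ := by group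
      _ = w0 * l * (w0⁻¹ * v) * v⁻¹ * l⁻¹ := by rw [h4]
      _ = w0 * l * w0⁻¹ * l⁻¹ := by group
  have h0 := fun p => h.exists_rep p
  choose l hlU hl using h0
  have h0 : ∀ p, ∃ a, w a = w0 * l p * w0⁻¹ * (l p)⁻¹ := fun p => hcl _ (hlU p)
  choose τ hτ using h0
  have hτ2 : ∀ l' ∈ U, ∀ p, (l' : X ⧸ V) = w3 p → w (τ p) = w0 * l' * w0⁻¹ * l'⁻¹ := by
    intro l' hl' p hp
    rw [hτ]
    exact hwd _ (hlU p) _ hl' ((hl p).trans hp.symm)
  have heq : ∀ m, IsBas m → ∀ p, τ (lin m p) = lin m (τ p) := by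
    intro m hm p
    obtain ⟨x, hx⟩ := h.hV.real m hm
    apply h.hV.coord.injective
    have h1 : ((x * l p * x⁻¹ : X) : X ⧸ V) = w3 (lin m p) := by
      rw [← h.acts hx, ← hl]
      rfl
    rw [hτ2 _ (h.conj_mem (hlU p) x) _ h1, ← hx, hτ]
    have hu := conj_out hQ hUn hrel hw0 hw0U x
    set u := w0⁻¹ * (x * w0 * x⁻¹) with hudef
    have h2 : x * w0 * x⁻¹ = w0 * u := by rw [hudef]; group
    have h3 : u * (x * l p * x⁻¹) = (x * l p * x⁻¹) * u := hab _ hu _ (h.conj_mem (hlU p) x)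
    calc w0 * (x * l p * x⁻¹) * w0⁻¹ * (x * l p * x⁻¹)⁻¹
        = w0 * ((x * l p * x⁻¹) * u) * u⁻¹ * w0⁻¹ * (x * l p * x⁻¹)⁻¹ := by group
      _ = w0 * (u * (x * l p * x⁻¹)) * u⁻¹ * w0⁻¹ * (x * l p * x⁻¹)⁻¹ := by rw [h3]
      _ = (w0 * u) * (x * l p * x⁻¹) * (w0 * u)⁻¹ * (x * l p * x⁻¹)⁻¹ := by group
      _ = (x * w0 * x⁻¹) * (x * l p * x⁻¹) * (x * w0 * x⁻¹)⁻¹ * (x * l p * x⁻¹)⁻¹ := by rw [h2]
      _ = x * (w0 * l p * w0⁻¹ * (l p)⁻¹) * x⁻¹ := by group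
  have hτ0 : τ 0 = 0 := by
    apply h.hV.coord.inj
    rw [hτ2 1 U.one_mem 0 (by rw [h.hU.coord.zero]; rfl)]
    group
  rcases equiv_cases heq hτ0 with h5 | h5
  · left
    intro l' hl'
    obtain ⟨p, hp, -⟩ := h.exists_cls hl'
    have h6 := hτ2 l' hl' p hp
    rw [h5, h.hV.coord.zero] at h6
    calc w0 * l' = (w0 * l' * w0⁻¹ * l'⁻¹) * (l' * w0) := by group
      _ = l' * w0 := by rw [← h6, one_mul]
  · right
    intro l' hl' p hp
    have h6 := hτ2 l' hl' p hp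
    rw [h5] at h6
    rw [h6]
    group

/-- Inversion is impossible. -/
theorem no_inv (h : Al Q V U V w w3)
    (hab : ∀ a ∈ U, ∀ b ∈ U, a * b = b * a) {w0 : X}
    (hinv : ∀ l ∈ U, ∀ p, (l : X ⧸ V) = w3 p → w0 * l * w0⁻¹ = w p * l)
    {x : X} (hx : Acts w x (mR 0 1)) (hxx : w0⁻¹ * (x * x) ∈ U) : False := by
  obtain ⟨l, hl, hl2⟩ := h.exists_rep e2
  have h1 : ((x * l * x⁻¹ : X) : X ⧸ V) = w3 e2 := by
    have h2 := h.acts hx e2
    rw [← hl2] at h2
    exact h2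
  have h2 : l⁻¹ * (x * l * x⁻¹) ∈ V := QuotientGroup.eq.1 (hl2.trans h1.symm)
  obtain ⟨b, hb⟩ := (h.hV.coord.mem _).1 h2
  have h3 : x * l * x⁻¹ = l * w b := by rw [hb]; group
  set u := w0⁻¹ * (x * x) with hu
  have h4 : x * x = w0 * u := by rw [hu]; group
  have h5 : x * x * l * (x * x)⁻¹ = w e2 * l := by
    rw [← hinv l hl e2 hl2, h4]
    calc w0 * u * l * (w0 * u)⁻¹ = w0 * (u * l) * u⁻¹ * w0⁻¹ := by group
      _ = w0 * (l * u) * u⁻¹ * w0⁻¹ := by rw [hab u hxx l hl]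
      _ = w0 * l * w0⁻¹ := by group
  have h6 : x * x * l * (x * x)⁻¹ = l * w (b + lin (mR 0 1) b) := by
    calc x * x * l * (x * x)⁻¹ = x * (x * l * x⁻¹) * x⁻¹ := by group
      _ = x * (l * w b) * x⁻¹ := by rw [h3]
      _ = (x * l * x⁻¹) * (x * w b * x⁻¹) := by group
      _ = l * w b * w (lin (mR 0 1) b) := by rw [h3, hx]
      _ = l * w (b + lin (mR 0 1) b) := by rw [h.hV.coord.mul, mul_assoc]
  have h7 : w e2 * l = l * w e2 := hab _ (h.ZU (h.hV.coord.mem_w _)) _ hl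
  rw [h5, h7] at h6
  have h8 := h.hV.coord.injective (mul_left_cancel h6)
  rcases add_R b with h9 | h9
  · rw [h9] at h8
    exact absurd h8 (by decide)
  · rw [h9] at h8
    exact absurd h8 (by decide)

/-- If `C(w0)` has index 8, then an element commuting with `w0` whose square lies in `Q` lies in `Q`. -/
theorem mem_of_cent [Finite X] (hQ : L32 Q) {w0 : X} (hQc : Q ≤ centralizer ({w0} : Set X))
    (hi : (centralizer ({w0} : Set X)).index = 8) {t : X} (ht : t * w0 = w0 * t) (htt : t * t ∈ Q) :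
    t ∈ Q := by
  have hQn := hQ.normal
  have h1 := relIndex_mul_index hQc
  rw [hQ.index, hi] at h1
  have h2 : Q.relIndex (centralizer ({w0} : Set X)) = 21 := by omega
  have ht2 : t ∈ centralizer ({w0} : Set X) := mem_centralizer_singleton_iff.2 ht
  have h3 : (⟨t, ht2⟩ : centralizer ({w0} : Set X)) ^ 21 ∈ Q.subgroupOf (centralizer ({w0} : Set X)) := by
    rw [← h2]
    exact Subgroup.pow_index_mem _ _
  have h4 : t ^ 21 ∈ Q := h3
  have h5 : t = t ^ 21 * ((t * t) ^ 10)⁻¹ := by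
    rw [← pow_two, ← pow_mul]
    group
  rw [h5]
  exact Q.mul_mem h4 (Q.inv_mem (Q.pow_mem htt 10))

/-- Case B of statement TWO. -/
theorem caseB [Finite X] (hQ : L32 Q) (h : Al Q V U V w w3) (hUn : U.Normal)
    (hab : ∀ a ∈ U, ∀ b ∈ U, a * b = b * a) (hUQ : U ≤ Q) (hrel : U.relIndex Q = 2)
    {y : X} (hy : y ^ 7 = 1) (hyQ : y ∉ Q)
    (hcen : ∀ N : Subgroup X, N.Normal → N ≤ Q → (∀ n ∈ N, y * n = n * y) → N = ⊥)
    (htr : ∃ x : X, x * x ∈ Q ∧ x * x ∉ U) : False := by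
  have hQn := hQ.normal
  obtain ⟨w0, hw0, hw0U, hw0s, hw0y⟩ := exists_w0 hQ h hUn hUQ hrel hy hyQ
  obtain ⟨x, hxx, hxxU⟩ := htr
  have hxQ : x ∉ Q := fun hx => hxxU ((two_iff hrel hx hx).2 Iff.rfl)
  have hinv : w0⁻¹ = w0 := inv_eq_of_mul_eq_one_left hw0s
  -- adapted coordinates
  obtain ⟨n, hn, hx⟩ := h.hV.exists_adapt hxx hxQ
  have h' := h.change hn
  clear h
  generalize hw : (fun p => w (lin n p)) = w' at h' hx
  generalize hw3 : (fun p => w3 (lin n p)) = w3' at h'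
  have h := h'
  have hxx2 : w0⁻¹ * (x * x) ∈ U := by
    rw [two_iff hrel (Q.inv_mem hw0) hxx]
    constructor
    · intro h1
      exact absurd (by simpa using U.inv_mem h1) hw0U
    · exact fun h1 => absurd h1 hxxU
  have hw0c : ∀ l ∈ U, w0 * l = l * w0 := by
    rcases tau hQ h hUn hab hrel hw0 hw0U with h1 | h1
    · exact h1
    · exact (no_inv h hab h1 hx hxx2).elim
  have hVU : V ≤ U := h.ZU
  have hVQ : V ≤ Q := hVU.trans hUQ
  -- `Q` is abelian
  have dec : ∀ g ∈ Q, g ∈ U ∨ ∃ u ∈ U, g = w0 * u := by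
    intro g hg
    by_cases hgU : g ∈ U
    · exact Or.inl hgU
    · right
      refine ⟨w0⁻¹ * g, ?_, by group⟩
      rw [two_iff hrel (Q.inv_mem hw0) hg]
      constructor
      · intro h1
        exact absurd (by simpa using U.inv_mem h1) hw0U
      · exact fun h1 => absurd h1 hgU
  have hw0C : ∀ l ∈ U, Commute w0 l := hw0c
  have hQc : ∀ a ∈ Q, Commute w0 a := by
    intro a ha
    rcases dec a ha with h1 | ⟨u, hu, rfl⟩
    · exact hw0C a h1
    · exact (Commute.refl w0).mul_right (hw0C u hu)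
  have hQab : ∀ a ∈ Q, ∀ b ∈ Q, a * b = b * a := by
    intro a ha b hb
    rcases dec a ha with h1 | ⟨u, hu, rfl⟩
    · rcases dec b hb with h2 | ⟨u', hu', rfl⟩
      · exact hab a h1 b h2
      · have k1 : Commute a u' := hab a h1 u' hu'
        exact ((hQc a ha).symm.mul_right k1).eq
    · have k2 : Commute u b := by
        rcases dec b hb with h2 | ⟨u', hu', rfl⟩
        · exact hab u hu b h2
        · have k1 : Commute u u' := hab u hu u' hu'
          exact (hw0C u hu).symm.mul_right k1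
      exact ((hQc b hb).mul_left k2).eq
  -- conjugates of `w0`
  have hconj : ∀ z : X, ∃ p, z * w0 * z⁻¹ = w0 * w' p := by
    intro z
    have hu := conj_out hQ hUn hrel hw0 hw0U z
    set u := w0⁻¹ * (z * w0 * z⁻¹) with hudef
    have h1 : z * w0 * z⁻¹ = w0 * u := by rw [hudef]; group
    have h2 : (w0 * u) * (w0 * u) = 1 := by
      rw [← h1]
      calc z * w0 * z⁻¹ * (z * w0 * z⁻¹) = z * (w0 * w0) * z⁻¹ := by group
        _ = 1 := by rw [hw0s]; group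
    have h3 : u * u = 1 := by
      calc u * u = (w0 * w0) * (u * u) := by rw [hw0s, one_mul]
        _ = w0 * (w0 * u) * u := by group
        _ = w0 * (u * w0) * u := by rw [hw0c u hu]
        _ = (w0 * u) * (w0 * u) := by group
        _ = 1 := h2
    have h4 : u ∈ V := (h.mem_iff hu).2 h3
    obtain ⟨p, hp⟩ := (h.hV.coord.mem u).1 h4
    exact ⟨p, by rw [h1, hp]⟩
  -- the matrix of `y`
  obtain ⟨m, hmb, hm⟩ := h.hV.acts y
  have hyV : ∃ v ∈ V, y * v ≠ v * y := by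
    by_contra hcon
    push Not at hcon
    exact hyQ ((h.hV.cent y).1 hcon)
  have hm7 : P7 m := pow_acts hm h.hV.coord hy hyV h.hV.normal
  -- the orbit of `w0`
  have hmv : ∃ z : X, z * w0 ≠ w0 * z := by
    by_contra hcon
    push Not at hcon
    have h1 : (zpowers w0).Normal := ⟨fun a ha g => by
      obtain ⟨k, rfl⟩ := mem_zpowers_iff.1 ha
      have h2 : Commute g (w0 ^ k) := Commute.zpow_right (hcon g) k
      rw [h2.eq, mul_inv_cancel_right]
      exact ha⟩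
    have h2 := hcen _ h1 (zpowers_le.2 hw0) (fun a ha => by
      obtain ⟨k, rfl⟩ := mem_zpowers_iff.1 ha
      exact (Commute.zpow_right (show Commute y w0 from hw0y) k).eq)
    have h3 : w0 ∈ (⊥ : Subgroup X) := h2 ▸ mem_zpowers w0
    rw [mem_bot] at h3
    exact hw0U (h3 ▸ U.one_mem)
  have horb : ∀ p, ∃ z : X, z * w0 * z⁻¹ = w0 * w' p := by
    obtain ⟨z, hz⟩ := hmv
    obtain ⟨p0, hp0⟩ := hconj z
    have hp00 : p0 ≠ 0 := by
      rintro rfl
      rw [h.hV.coord.zero, mul_one] at hp0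
      exact hz (mul_inv_eq_iff_eq_mul.1 hp0)
    have hit : ∀ k : ℕ, (y ^ k * z) * w0 * (y ^ k * z)⁻¹ = w0 * w' ((lin m)^[k] p0) := by
      intro k
      induction k with
      | zero => simpa using hp0
      | succ k ih =>
        rw [Function.iterate_succ_apply', ← hm]
        calc y ^ (k + 1) * z * w0 * (y ^ (k + 1) * z)⁻¹
            = y * (y ^ k * z * w0 * (y ^ k * z)⁻¹) * y⁻¹ := by rw [pow_succ' y k]; group
          _ = y * (w0 * w' ((lin m)^[k] p0)) * y⁻¹ := by rw [ih]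
          _ = (y * w0) * w' ((lin m)^[k] p0) * y⁻¹ := by group
          _ = (w0 * y) * w' ((lin m)^[k] p0) * y⁻¹ := by rw [hw0y]
          _ = w0 * (y * w' ((lin m)^[k] p0) * y⁻¹) := by group
    intro p
    by_cases hp : p = 0
    · refine ⟨1, ?_⟩
      rw [hp, h.hV.coord.zero]
      group
    · obtain ⟨k, -, rfl⟩ := p7_trans hm7 hp00 hp
      exact ⟨_, hit k⟩
  have hidx : (centralizer ({w0} : Set X)).index = 8 := by
    rw [← orbit_card]
    have e : T3 ≃ {u : X // ∃ z : X, z * w0 * z⁻¹ = u} := Equiv.ofBijective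
      (fun p => ⟨w0 * w' p, horb p⟩) ⟨fun a b hab' =>
        h.hV.coord.injective (mul_left_cancel (congrArg Subtype.val hab')), fun ⟨u, z, hz⟩ => by
          obtain ⟨p, hp⟩ := hconj z
          exact ⟨p, Subtype.ext (hp.symm.trans hz)⟩⟩
    rw [← Nat.card_congr e, Nat.card_eq_fintype_card]
    decide
  have hQC : Q ≤ centralizer ({w0} : Set X) := fun a ha =>
    mem_centralizer_singleton_iff.2 (hQab a ha w0 hw0)
  have hfixQ : ∀ (t : X) (p : T3), t * t ∈ Q → t * (w0 * w' p) = (w0 * w' p) * t → t ∈ Q := by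
    intro t p htt ht
    obtain ⟨z, hz⟩ := horb p
    have h1 : z⁻¹ * t * z ∈ Q := by
      apply mem_of_cent hQ hQC hidx
      · rw [← hz] at ht
        calc z⁻¹ * t * z * w0 = z⁻¹ * (t * (z * w0 * z⁻¹)) * z := by group
          _ = z⁻¹ * ((z * w0 * z⁻¹) * t) * z := by rw [ht]
          _ = w0 * (z⁻¹ * t * z) := by group
      · have h2 := hQn.conj_mem _ htt z⁻¹
        have h3 : z⁻¹ * (t * t) * z⁻¹⁻¹ = z⁻¹ * t * z * (z⁻¹ * t * z) := by group
        rwa [h3] at h2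
    have h2 := hQn.conj_mem _ h1 z
    have h3 : z * (z⁻¹ * t * z) * z⁻¹ = t := by group
    rwa [h3] at h2
  -- the shape of `x * x`
  obtain ⟨c, hc⟩ := h.hV.real mc mc_bas
  have hc2 : Acts w' (c * c) (mR 0 1) := by
    have := hc.mul hc
    rwa [mc_sq] at this
  have hqQ : x * (c * c)⁻¹ ∈ Q := h.hV.same hx hc2
  have hcls : ∀ g ∈ U, ∀ (z : X) (k : M3), Acts w' z k → ∀ p, (g : X ⧸ V) = w3' p →
      ((z * g * z⁻¹ : X) : X ⧸ V) = w3' (lin k p) := by
    intro g hg z k hz p hp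
    rw [← h.acts hz, ← hp]
    rfl
  have hmodV : ∀ v ∈ V, ((v : X) : X ⧸ V) = 1 := fun v hv => (QuotientGroup.eq_one_iff v).2 hv
  have hκ : c * c * (c * c) ∈ Q := by
    rw [h.hV.mem_iff (hc2.mul hc2)]
    decide
  have hκE : (c * c * (c * c) ∈ U ∧ E1 V U w3' (c * c * (c * c))) ∨
      ∃ l, E1 V U w3' l ∧ c * c * (c * c) = w0 * l := by
    set κ := c * c * (c * c) with hκdef
    have hcκ : c * κ * c⁻¹ = κ := by rw [hκdef]; group
    rcases dec κ hκ with h1 | ⟨l, hl, hl2⟩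
    · left
      refine ⟨h1, h1, ?_⟩
      obtain ⟨p, hp, -⟩ := h.exists_cls h1
      have h2 := hcls κ h1 c mc hc p hp
      rw [hcκ, hp] at h2
      rcases fix_mc p (h.hU.coord.injective h2).symm with rfl | rfl
      · exact Or.inl hp
      · exact Or.inr hp
    · right
      refine ⟨l, ⟨hl, ?_⟩, hl2⟩
      obtain ⟨p, hp, -⟩ := h.exists_cls hl
      obtain ⟨b, hb⟩ := hconj c
      have h3 : w' b * (c * l * c⁻¹) = l := by
        apply mul_left_cancel (a := w0)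
        calc w0 * (w' b * (c * l * c⁻¹)) = (w0 * w' b) * (c * l * c⁻¹) := by group
          _ = (c * w0 * c⁻¹) * (c * l * c⁻¹) := by rw [hb]
          _ = c * (w0 * l) * c⁻¹ := by group
          _ = w0 * l := by rw [← hl2, hcκ]
      have h2 := hcls l hl c mc hc p hp
      have h4 : ((w' b * (c * l * c⁻¹) : X) : X ⧸ V) = ((c * l * c⁻¹ : X) : X ⧸ V) := by
        show ((w' b : X) : X ⧸ V) * ((c * l * c⁻¹ : X) : X ⧸ V) = _
        rw [hmodV _ (h.hV.coord.mem_w b), one_mul]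
      rw [h3, h2, hp] at h4
      rcases fix_mc p (h.hU.coord.injective h4).symm with rfl | rfl
      · exact Or.inl hp
      · exact Or.inr hp
  have hqE : ∀ g ∈ Q, ∀ z : X, Acts w' z (mR 0 1) → E1 V U w3' (g * (z * g * z⁻¹)) := by
    have key : ∀ g ∈ U, ∀ z : X, Acts w' z (mR 0 1) → E1 V U w3' (g * (z * g * z⁻¹)) := by
      intro g hg z hz
      refine ⟨U.mul_mem hg (h.conj_mem hg z), ?_⟩
      obtain ⟨p, hp, -⟩ := h.exists_cls hg
      have h2 := hcls g hg z _ hz p hp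
      have h3 : ((g * (z * g * z⁻¹) : X) : X ⧸ V) = w3' (p + lin (mR 0 1) p) := by
        rw [h.hU.coord.mul, ← hp, ← h2]
        rfl
      rw [h3]
      rcases add_R p with h4 | h4
      · left; rw [h4]
      · right; rw [h4]
    intro g hg z hz
    rcases dec g hg with h1 | ⟨l, hl, rfl⟩
    · exact key g h1 z hz
    · obtain ⟨b, hb⟩ := hconj z
      have hbU : w' b ∈ U := hVU (h.hV.coord.mem_w b)
      have h2 : w0 * l * (z * (w0 * l) * z⁻¹) = w' b * (l * (z * l * z⁻¹)) := by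
        calc w0 * l * (z * (w0 * l) * z⁻¹) = w0 * l * ((z * w0 * z⁻¹) * (z * l * z⁻¹)) := by group
          _ = w0 * l * (w0 * w' b * (z * l * z⁻¹)) := by rw [hb]
          _ = w0 * (l * w0) * w' b * (z * l * z⁻¹) := by group
          _ = w0 * (w0 * l) * w' b * (z * l * z⁻¹) := by rw [hw0c l hl]
          _ = (w0 * w0) * (l * w' b) * (z * l * z⁻¹) := by group
          _ = w' b * l * (z * l * z⁻¹) := by rw [hw0s, one_mul, hab l hl _ hbU]
          _ = w' b * (l * (z * l * z⁻¹)) := by group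
      rw [h2]
      apply E1.mul h _ (key l hl z hz)
      refine ⟨hbU, Or.inl ?_⟩
      rw [hmodV _ (h.hV.coord.mem_w b), h.hU.coord.zero]
  obtain ⟨l, hlE, hl⟩ : ∃ l, E1 V U w3' l ∧ x * x = w0 * l := by
    set q := x * (c * c)⁻¹ with hq
    have h1 : x * x = (q * ((c * c) * q * (c * c)⁻¹)) * (c * c * (c * c)) := by
      rw [hq]
      group
    have h2 := hqE q hqQ (c * c) hc2
    rcases hκE with ⟨h3, -⟩ | ⟨l, hl, hl2⟩
    · exact absurd (h1 ▸ U.mul_mem h2.1 h3) hxxU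
    · refine ⟨_, E1.mul h h2 hl, ?_⟩
      have h4 := hw0c _ h2.1
      generalize q * (c * c * q * (c * c)⁻¹) = g at h1 h4
      rw [h1, hl2, ← mul_assoc, ← mul_assoc, h4]
  -- the end
  obtain ⟨b, hb⟩ := hconj x
  have hb2 : w' b ∈ zpowers (w' e1) := by
    have h1 : x * (w0 * l) * x⁻¹ = w0 * l := by
      rw [← hl]
      group
    have h2 : w' b * (x * l * x⁻¹) = l := by
      apply mul_left_cancel (a := w0)
      calc w0 * (w' b * (x * l * x⁻¹)) = (w0 * w' b) * (x * l * x⁻¹) := by group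
        _ = (x * w0 * x⁻¹) * (x * l * x⁻¹) := by rw [hb]
        _ = x * (w0 * l) * x⁻¹ := by group
        _ = w0 * l := h1
    have h3 : w' b = (x * l * x⁻¹ * l⁻¹)⁻¹ := by
      rw [mul_inv_rev, inv_inv]
      exact eq_mul_inv_of_mul_eq h2
    rw [h3]
    apply inv_mem
    rcases hlE.2 with h4 | h4
    · have h5 : l ∈ V := by
        rw [h.hU.coord.zero] at h4
        exact (QuotientGroup.eq_one_iff l).1 h4
      obtain ⟨p, rfl⟩ := (h.hV.coord.mem l).1 h5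
      rw [hx, h.hV.coord.inv, ← h.hV.coord.mul, w_mem_zpowers h.hV.coord, add_comm]
      exact add_R p
    · exact ptrick h hab hx (Or.inr one_ne_zero) (fun u hu => hQab _ hxx u (hUQ hu)) hlE.1 h4
  rcases (w_mem_zpowers h.hV.coord).1 hb2 with rfl | rfl
  · apply hxQ
    apply hfixQ x 0 hxx
    rw [h.hV.coord.zero, mul_one] at hb ⊢
    exact mul_inv_eq_iff_eq_mul.1 hb
  · apply hxQ
    apply hfixQ x e3 hxx
    apply mul_inv_eq_iff_eq_mul.1
    have h1 := hx e3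
    have h2 : lin (mR 0 1) e3 = e1 + e3 := by decide
    rw [h2] at h1
    calc x * (w0 * w' e3) * x⁻¹ = (x * w0 * x⁻¹) * (x * w' e3 * x⁻¹) := by group
      _ = w0 * w' e1 * w' (e1 + e3) := by rw [hb, h1]
      _ = w0 * (w' e1 * w' e1) * w' e3 := by rw [h.hV.coord.mul]; group
      _ = w0 * w' e3 := by rw [h.hV.coord.sq, mul_one]

end

end Cfsg.Agent.GH.C2ThreeB
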