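import Mathlib
import Cfsg.Agent.GH.C2ThreeAl

/-!
# GH-C2 (T3): homocyclic `4³` is impossible
-/

set_option autoImplicit false
set_option maxHeartbeats 800000

namespace Cfsg.Agent.GH.C2ThreeFour

open Subgroup Cfsg.Agent.TwoFusion.SectionalRank Cfsg.Agent.GH.C2Base Cfsg.Agent.GH.C2Five
open Cfsg.Agent.GH.C2ThreeNat Cfsg.Agent.GH.C2ThreeK0 Cfsg.Agent.GH.C2ThreeMin Cfsg.Agent.GH.C2ThreeMinE
open Cfsg.Agent.GH.C2ThreeSq Cfsg.Agent.GH.C2ThreeAl

variable {X : Type*} [Group X]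

theorem mR_ne' : ∀ i j : ZMod 2, (i = 0 ∧ j = 0) ∨ mR i j ≠ idm := by decide

theorem mR_ne (i j : ZMod 2) (h : i ≠ 0 ∨ j ≠ 0) : mR i j ≠ idm := by
  rcases mR_ne' i j with h1 | h1
  · rcases h with h | h
    · exact absurd h1.1 h
    · exact absurd h1.2 h
  · exact h1

theorem pfix : ∀ a : T3, lin (mR 1 0) a ≠ a ∨ lin (mR 0 1) (lin md a) ≠ lin md a ∨ lin (mR 0 1) a ≠ a ∨
    (a = 0 ∨ a = e1) ∧ (lin md a = 0 ∨ lin md a = e1) := by decide

/-- The section `R / ⟨e⟩` of order 8. -/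
theorem exists_R [Finite X] {Q V : Subgroup X} [hVn : V.Normal]
    {w : T3 → X} {w3 : T3 → X ⧸ V} (h : Al Q V Q V w w3)
    (hab : ∀ a ∈ Q, ∀ b ∈ Q, a * b = b * a) :
    ∃ R : Subgroup X, ElemSection 2 R (zpowers (w e1)) ∧ Nat.card R = 16 ∧ R ≤ Q ∧
      (∀ {z : X} {i j : ZMod 2}, Acts w z (mR i j) → (i ≠ 0 ∨ j ≠ 0) → ∀ r ∈ R,
        z * r * z⁻¹ * r⁻¹ ∈ zpowers (w e1)) ∧
      ∀ z : X, (z : X ⧸ V) ∈ zpowers (w3 e1) → z ∈ R := by
  have hwm := fun p => h.hV.coord.mem_w p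
  have hVQ := h.hV.le
  obtain ⟨p, hp, hp1⟩ := h.exists_rep e1
  have hpp := h.sq p hp e1 hp1
  have hxQ : ∀ {z : X} {i j : ZMod 2}, Acts w z (mR i j) → z * z ∈ Q := by
    intro z i j hz
    rw [h.hV.mem_iff (hz.mul hz), mR_mul]
    clear hz
    rcases z2 i with rfl | rfl <;> rcases z2 j with rfl | rfl <;> decide
  have hpt : ∀ {z : X} {i j : ZMod 2}, Acts w z (mR i j) → (i ≠ 0 ∨ j ≠ 0) →
      z * p * z⁻¹ * p⁻¹ ∈ zpowers (w e1) := fun {z i j} hz hij =>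
    ptrick h hab hz hij (fun u hu => hab _ (hxQ hz) u hu) hp hp1
  have hvt : ∀ {z : X} {i j : ZMod 2}, Acts w z (mR i j) → ∀ v ∈ V,
      z * v * z⁻¹ * v⁻¹ ∈ zpowers (w e1) := by
    intro z i j hz v hv
    obtain ⟨b, rfl⟩ := (h.hV.coord.mem v).1 hv
    rw [hz, h.hV.coord.inv, ← h.hV.coord.mul, w_mem_zpowers h.hV.coord]
    clear hz hv
    revert i j b
    decide
  -- the section `R / ⟨e⟩`
  have hF2 : Nat.card (zpowers (w e1)) = 2 := by
    rw [Nat.card_zpowers]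
    apply orderOf_eq_prime
    · rw [pow_two, h.hV.coord.sq]
    · intro h0
      exact absurd (h.hV.coord.inj _ h0) (by decide)
  have hFV : zpowers (w e1) ≤ V := by
    rw [zpowers_le]
    exact hwm e1
  have hsec : ElemSection 2 V (zpowers (w e1)) := by
    refine ⟨hFV, fun a ha b hb => ?_, fun a ha => ?_⟩
    · have h1 : a * b * a⁻¹ * b⁻¹ = 1 := by
        rw [h.hV.coord.comm_mem ha hb]
        group
      rw [h1]
      exact one_mem _
    · rw [pow_two, h.hV.coord.sq_mem ha]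
      exact one_mem _
  have hpV : p ∉ V := by
    rw [h.mem_iff hp, hpp]
    intro h0
    exact absurd (h.hV.coord.inj _ h0) (by decide)
  obtain ⟨R, hR, hVR, hpR, hcR⟩ := exists_ext hsec (b := p) (by rw [hpp]; exact mem_zpowers _)
    (fun y hy => by
      have h1 : p * y * p⁻¹ * y⁻¹ = 1 := by
        rw [hab p hp y (hVQ hy)]
        group
      rw [h1]
      exact one_mem _) hpV
  have hRmem : ∀ z ∈ R, z ∈ V ∨ p⁻¹ * z ∈ V := fun z hz => mem_or_of_card hVR hpR hpV hcR hz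
  have hRQ : R ≤ Q := by
    intro z hz
    rcases hRmem z hz with h1 | h1
    · exact hVQ h1
    · have : z = p * (p⁻¹ * z) := by group
      rw [this]
      exact Q.mul_mem hp (hVQ h1)
  refine ⟨R, hR, by rw [hcR, h.hV.coord.card], hRQ, ?_, ?_⟩
  · intro z i j hz hij r hr'
    rcases hRmem r hr' with h1 | h1
    · exact hvt hz r h1
    · set v := p⁻¹ * r with hv
      have h2 : r = p * v := by rw [hv]; group
      have h3 := hpt hz hij
      have h4 := hvt hz v h1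
      have h5 : z * r * z⁻¹ * r⁻¹ = (z * p * z⁻¹ * p⁻¹) * (p * (z * v * z⁻¹ * v⁻¹) * p⁻¹) := by
        rw [h2]; group
      rw [h5]
      refine mul_mem h3 ?_
      have h6 : p * (z * v * z⁻¹ * v⁻¹) * p⁻¹ = z * v * z⁻¹ * v⁻¹ := by
        rw [hab p hp _ (hVQ (hFV h4))]
        group
      rw [h6]
      exact h4
  · intro z hz
    rw [← hp1] at hz
    have h3 := mk_mem_zpowers hz
    have h4 : V ⊔ zpowers p ≤ R := sup_le hVR ((zpowers_le).2 hpR)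
    exact h4 h3

theorem comm_F {V : Subgroup X} {w : T3 → X} (hw : Coord V w) {z : X} {i j : ZMod 2}
    (hz : Acts w z (mR i j)) {f : X} (hf : f ∈ zpowers (w e1)) : z * f = f * z := by
  have h1 : z * w e1 = w e1 * z := by
    have h2 : z * w e1 * z⁻¹ = w e1 := by rw [hz e1, lin_e1]; rfl
    calc z * w e1 = z * w e1 * z⁻¹ * z := by group
      _ = w e1 * z := by rw [h2]
  rcases (mem_zpowers_w hw).1 hf with h2 | h2
  · rw [h2]; simp
  · rw [h2, h1]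

/-- The three products: `(x x₂)² x₃² ∈ ⟨e⟩`. -/
theorem prod_mem {Q R V : Subgroup X} {w : T3 → X} (hw : Coord V w)
    (hab : ∀ a ∈ Q, ∀ b ∈ Q, a * b = b * a) (hR : ElemSection 2 R (zpowers (w e1))) (hRQ : R ≤ Q)
    {x x2 x3 : X} {i j : ZMod 2} (hx3 : Acts w x3 (mR i j)) (hζ : x * x2 * x3 ∈ R)
    (hRt : ∀ r ∈ R, x3 * r * x3⁻¹ * r⁻¹ ∈ zpowers (w e1)) :
    x * x2 * (x * x2) * (x3 * x3) ∈ zpowers (w e1) := by
  have hFR := hR.1
  set ζ := x * x2 * x3 with hζdef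
  have hζ2 : ζ * ζ ∈ zpowers (w e1) := by
    have := hR.pow ζ hζ
    rwa [pow_two] at this
  have h1 := hRt ζ hζ
  have hζx3 : x3⁻¹ * ζ * x3 * ζ⁻¹ ∈ zpowers (w e1) := by
    have h2 : x3⁻¹ * ζ * x3 * ζ⁻¹ = x3⁻¹ * (x3 * ζ * x3⁻¹ * ζ⁻¹)⁻¹ * x3 := by
      have h3 : (x3 * ζ * x3⁻¹ * ζ⁻¹) * (ζ * x3) = x3 * ζ := by group
      have h4 : (x3 * ζ * x3⁻¹ * ζ⁻¹) * ζ = ζ * (x3 * ζ * x3⁻¹ * ζ⁻¹) :=
        hab _ (hRQ (hFR h1)) ζ (hRQ hζ)
      set f := x3 * ζ * x3⁻¹ * ζ⁻¹ with hf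
      have h5 : x3 * f = f * x3 := comm_F hw hx3 h1
      have h6 : ζ * x3 = x3 * (f⁻¹ * ζ) := by
        have h7 : f * (ζ * x3) = f * (x3 * (f⁻¹ * ζ)) := by
          calc f * (ζ * x3) = x3 * ζ := h3
            _ = (x3 * f) * (f⁻¹ * ζ) := by group
            _ = f * (x3 * (f⁻¹ * ζ)) := by rw [h5]; group
        exact mul_left_cancel h7
      calc x3⁻¹ * ζ * x3 * ζ⁻¹ = x3⁻¹ * (ζ * x3) * ζ⁻¹ := by group
        _ = f⁻¹ := by rw [h6]; group
        _ = x3⁻¹ * (x3 * f⁻¹) := by group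
        _ = x3⁻¹ * (f⁻¹ * x3) := by rw [comm_F hw hx3 (inv_mem h1)]
        _ = x3⁻¹ * f⁻¹ * x3 := by group
    rw [h2]
    have h3 := comm_F hw hx3 (inv_mem h1)
    have h4 : x3⁻¹ * (x3 * ζ * x3⁻¹ * ζ⁻¹)⁻¹ * x3 = (x3 * ζ * x3⁻¹ * ζ⁻¹)⁻¹ := by
      rw [mul_assoc, ← h3]
      group
    rw [h4]
    exact inv_mem h1
  have h1 : x * x2 * (x * x2) * (x3 * x3) = ζ * (x3⁻¹ * ζ * x3 * ζ⁻¹) * ζ := by
    rw [hζdef]
    group
  have h2 : ζ * (x3⁻¹ * ζ * x3 * ζ⁻¹) = (x3⁻¹ * ζ * x3 * ζ⁻¹) * ζ :=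
    hab ζ (hRQ hζ) _ (hRQ (hFR hζx3))
  rw [h1, h2, mul_assoc]
  exact mul_mem hζx3 hζ2

/-- The squares lie in `⟨e⟩`. -/
theorem sq_mem_F {Q V : Subgroup X} {w : T3 → X} (hV : NatMod Q V w)
    {x x2 : X} {a : T3} (hx : Acts w x (mR 0 1)) (hx2 : Acts w x2 (mR 1 0)) (ha : x * x = w a)
    (ha2 : x2 * x2 = w (lin md a))
    (hp : x * x2 * (x * x2) * w (lin md (lin md a)) ∈ zpowers (w e1)) :
    x * x ∈ zpowers (w e1) ∧ x2 * x2 ∈ zpowers (w e1) ∧ x2 * x * x2⁻¹ * x⁻¹ ∈ zpowers (w e1) := by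
  have hVn := hV.normal
  have hw := hV.coord
  have hwm := fun p => hw.mem_w p
  have hFV : zpowers (w e1) ≤ V := by
    rw [zpowers_le]
    exact hwm e1
  set ε := x * x2 * x⁻¹ * x2⁻¹ with hεdef
  have hεQ : x * x2 * (x * x2) = (x * ε⁻¹ * x⁻¹) * (x * x) * (x2 * x2) := by
    rw [hεdef]
    group
  have hεV : ε ∈ V := by
    have h1 : x * ε⁻¹ * x⁻¹ = (x * x2 * (x * x2) * w (lin md (lin md a))) * (w (lin md (lin md a)))⁻¹ *
        (x2 * x2)⁻¹ * (x * x)⁻¹ := by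
      rw [hεQ]
      group
    have h2 : x * ε⁻¹ * x⁻¹ ∈ V := by
      rw [h1]
      refine mul_mem (mul_mem (mul_mem (hFV hp) (V.inv_mem (hwm _))) (V.inv_mem ?_)) (V.inv_mem ?_)
      · rw [ha2]; exact hwm _
      · rw [ha]; exact hwm _
    have h3 := hVn.conj_mem _ h2 x⁻¹
    have h4 : x⁻¹ * (x * ε⁻¹ * x⁻¹) * x⁻¹⁻¹ = ε⁻¹ := by group
    rw [h4] at h3
    exact inv_mem_iff.1 h3
  obtain ⟨c, hc⟩ := (hw.mem _).1 hεV
  have hεF : ε ∈ zpowers (w e1) := by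
    have h1 : x * x2 * (x * x2) * w (lin md (lin md a)) =
        w (lin (mR 0 1) c + a + lin md a + lin md (lin md a)) := by
      rw [hεQ, ← hc, hw.inv, hx, ha, ha2]
      simp only [hw.mul]
    rw [h1, w_mem_zpowers hw] at hp
    rw [← hc, w_mem_zpowers hw]
    clear * - hp
    revert a c
    decide
  have hxF := comm_F hw hx hεF
  have hx2F := comm_F hw hx2 hεF
  have hεε : ε * ε = 1 := hw.sq_mem hεV
  have hxc : x * x2 = ε * (x2 * x) := by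
    rw [hεdef]; group
  have hcomm1 : x * x * x2 = x2 * (x * x) := by
    calc x * x * x2 = x * (x * x2) := by group
      _ = x * (ε * (x2 * x)) := by rw [hxc]
      _ = (x * ε) * (x2 * x) := by group
      _ = (ε * x) * (x2 * x) := by rw [hxF]
      _ = ε * (x * x2) * x := by group
      _ = ε * (ε * (x2 * x)) * x := by rw [hxc]
      _ = (ε * ε) * (x2 * (x * x)) := by group
      _ = x2 * (x * x) := by rw [hεε, one_mul]
  have hcomm2 : x2 * x2 * x = x * (x2 * x2) := by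
    have h1 : x2 * x = ε * (x * x2) := by
      rw [hxc, ← mul_assoc, hεε, one_mul]
    calc x2 * x2 * x = x2 * (x2 * x) := by group
      _ = x2 * (ε * (x * x2)) := by rw [h1]
      _ = (x2 * ε) * (x * x2) := by group
      _ = (ε * x2) * (x * x2) := by rw [hx2F]
      _ = ε * (x2 * x) * x2 := by group
      _ = ε * (ε * (x * x2)) * x2 := by rw [h1]
      _ = (ε * ε) * (x * (x2 * x2)) := by group
      _ = x * (x2 * x2) := by rw [hεε, one_mul]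
  have h1 : lin (mR 1 0) a = a := by
    apply hw.injective
    rw [← hx2, ← ha]
    calc x2 * (x * x) * x2⁻¹ = (x * x * x2) * x2⁻¹ := by rw [hcomm1]
      _ = x * x := by group
  have h2 : lin (mR 0 1) (lin md a) = lin md a := by
    apply hw.injective
    rw [← hx, ← ha2]
    calc x * (x2 * x2) * x⁻¹ = (x2 * x2 * x) * x⁻¹ := by rw [hcomm2]
      _ = x2 * x2 := by group
  have h3 : lin (mR 0 1) a = a := by
    apply hw.injective
    rw [← hx, ← ha]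
    group
  have h4 : (a = 0 ∨ a = e1) ∧ (lin md a = 0 ∨ lin md a = e1) := by
    rcases pfix a with h4 | h4 | h4 | h4
    · exact absurd h1 h4
    · exact absurd h2 h4
    · exact absurd h3 h4
    · exact h4
  refine ⟨?_, ?_, ?_⟩
  · rw [ha, w_mem_zpowers hw]; exact h4.1
  · rw [ha2, w_mem_zpowers hw]; exact h4.2
  · have h5 : x2 * x * x2⁻¹ * x⁻¹ = ε⁻¹ := by rw [hεdef]; group
    rw [h5]
    exact inv_mem hεF

/-- `Q = 4³` is impossible. -/
theorem caseA [Finite X] (hr : R4 X) {Q V : Subgroup X} [hVn : V.Normal] (hQ : IsPGroup 2 Q)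
    {w : T3 → X} {w3 : T3 → X ⧸ V} (h : Al Q V Q V w w3)
    (hab : ∀ a ∈ Q, ∀ b ∈ Q, a * b = b * a) : False := by
  have hVQ := h.hV.le
  have hw := h.hV.coord
  obtain ⟨x', hx', hx2⟩ := k0_inv h.hU
  obtain ⟨x, rfl⟩ := QuotientGroup.mk_surjective x'
  have hx : Acts w x (mR 0 1) := h.acts_iff.2 hx'
  obtain ⟨d, hd3, hd⟩ := h.hV.exists_ord3 hQ md_bas md_cube
  have hdi : Acts w d⁻¹ (cmp md md) := hd.inv md_cube
  have hconj : ∀ {x : X} {i j : ZMod 2}, Acts w x (mR i j) → Acts w (d * x * d⁻¹) (mR (i + j) i) := by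
    intro x i j hx
    have h1 := (hd.mul (hx.mul hdi))
    rw [md_conj] at h1
    rwa [← mul_assoc] at h1
  have hy0 := hconj hx
  have hy1 : Acts w (d * x * d⁻¹) (mR 1 0) := hy0
  have hy2 : Acts w (d * (d * x * d⁻¹) * d⁻¹) (mR 1 1) := hconj hy1
  -- squares
  have hσV : x * x ∈ V := (QuotientGroup.eq_one_iff _).1 hx2
  obtain ⟨a, ha⟩ := (hw.mem _).1 hσV
  have ha' : x * x = w a := ha.symm
  have ha2 : (d * x * d⁻¹) * (d * x * d⁻¹) = w (lin md a) := by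
    rw [← hd, ha]
    group
  have ha3 : (d * (d * x * d⁻¹) * d⁻¹) * (d * (d * x * d⁻¹) * d⁻¹) = w (lin md (lin md a)) := by
    rw [← hd (lin md a), ← ha2]
    group
  obtain ⟨R, hR, hcR, hRQ, hRt, hRz⟩ := exists_R h hab
  have hζ : x * (d * x * d⁻¹) * (d * (d * x * d⁻¹) * d⁻¹) ∈ R :=
    hRz _ (k0_prod h.hU (h.acts hd) (by rw [← QuotientGroup.mk_pow, hd3]; rfl) (h.acts hx))
  have h1 := prod_mem hw hab hR hRQ hy2 hζ (hRt hy2 (Or.inl (by decide)))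
  rw [ha3] at h1
  obtain ⟨hσ, hσ2, hx21⟩ := sq_mem_F h.hV hx hy1 ha' ha2 h1
  have hnQ : ∀ {z : X} {i j : ZMod 2}, Acts w z (mR i j) → (i ≠ 0 ∨ j ≠ 0) → z ∉ R := by
    intro z i j hz hij hzR
    exact mR_ne i j hij ((h.hV.mem_iff hz).1 (hRQ hzR))
  have hx12 : Acts w (x⁻¹ * (d * x * d⁻¹)) (mR 1 1) := by
    have h1 : Acts w x⁻¹ (mR 0 1) := hx.inv (by decide)
    have h2 := h1.mul hy1
    rwa [mR_mul, zero_add, add_zero] at h2
  have hF2 : Nat.card (zpowers (w e1)) = 2 := by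
    rw [Nat.card_zpowers]
    apply orderOf_eq_prime
    · rw [pow_two, hw.sq]
    · intro h0
      exact absurd (hw.inj _ h0) (by decide)
  refine five hr hR ?_ hσ hσ2 (hRt hx (Or.inr (by decide))) (hRt hy1 (Or.inl (by decide))) hx21
    (hnQ hx (Or.inr (by decide))) (hnQ hy1 (Or.inl (by decide))) (hnQ hx12 (Or.inl (by decide)))
  rw [hF2, hcR]

end Cfsg.Agent.GH.C2ThreeFour
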