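import Cfsg.Agent.SylowSp4.ExtTransfer
import Cfsg.Agent.S0215

/-!
# GH-C2, `M / O₂(M) = L₃(2)`, `T = S`: the two final contradictions

`G` finite simple nonabelian, `T` a Sylow 2-subgroup of `M = N_G(V)`.

* `Weak V T`: `V ≤ T` and every conjugate of `V` contained in `T` is `V`.  Then `T` is a Sylow
  2-subgroup of `G` (`Weak.exists_sylow`), and `N_G(V)` controls the fusion of elements centralised by `V`
  (`Weak.fusion`).
* `false_of_index_two` (X1, Thompson transfer): there are no subgroup `M0 ≤ M` of index 2 and involution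
  `v ∈ V`, `v ∉ M0`, if `V` is abelian.
* `false_of_isolated` (15 involutions, `Z*`): if all involutions of `T` are in `V`, `V` elementary abelian,
  then no involution of `V` is centralised by `M`.
-/

set_option autoImplicit false

namespace Cfsg.Agent.GH.C2KillT3

open Subgroup

variable {G : Type*} [Group G]

/-- `V ≤ T` and every conjugate of `V` contained in `T` is contained in `V`. -/
structure Weak (V T : Subgroup G) : Prop where
  le : V ≤ T
  weak : ∀ g : G, (∀ v ∈ V, g * v * g⁻¹ ∈ T) → ∀ v ∈ V, g * v * g⁻¹ ∈ V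

/-- An element normalises a finite subgroup as soon as it conjugates it into itself. -/
theorem mem_normalizer_of {K : Subgroup G} [Finite K] {g : G} (h : ∀ x ∈ K, g * x * g⁻¹ ∈ K) :
    g ∈ normalizer (K : Set G) := by
  rw [mem_normalizer_iff]
  intro x
  refine ⟨h x, fun hx => ?_⟩
  have hinj : Function.Injective (fun y : K => (⟨g * y * g⁻¹, h y y.2⟩ : K)) := by
    intro a b hab
    have := congrArg Subtype.val hab
    simpa using this
  obtain ⟨y, hy⟩ := (Finite.injective_iff_surjective.1 hinj) ⟨g * x * g⁻¹, hx⟩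
  have h2 : (y : G) = x := by
    have h3 := congrArg Subtype.val hy
    simpa using h3
  rw [← h2]
  exact y.2

theorem Weak.mem_normalizer [Finite G] {V T : Subgroup G} (h : Weak V T) {g : G}
    (hg : ∀ v ∈ V, g * v * g⁻¹ ∈ T) : g ∈ normalizer (V : Set G) :=
  mem_normalizer_of (h.weak g hg)

/-- All involutions of `T` lie in the elementary abelian subgroup `V ≤ T`. -/
theorem Weak.of_involutions {V T : Subgroup G} (hVT : V ≤ T) (hV : ∀ v ∈ V, v * v = 1)
    (hT : ∀ t ∈ T, t * t = 1 → t ∈ V) : Weak V T :=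
  ⟨hVT, fun g hg v hv => hT _ (hg v hv) (by
    have e : g * v * g⁻¹ * (g * v * g⁻¹) = g * (v * v) * g⁻¹ := by group
    rw [e, hV v hv, mul_one, mul_inv_cancel])⟩

/-- `V` is the only elementary abelian subgroup of its order in `T`. -/
theorem Weak.of_unique {V T : Subgroup G} (hVT : V ≤ T) (hV : ∀ v ∈ V, v * v = 1)
    (hT : ∀ W : Subgroup G, W ≤ T → (∀ w ∈ W, w * w = 1) → Nat.card W = Nat.card V → W ≤ V) :
    Weak V T :=
  ⟨hVT, fun g hg v hv => by
    refine hT (V.map (MulAut.conj g).toMonoidHom) ?_ ?_ ?_ ⟨v, hv, rfl⟩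
    · rintro _ ⟨w, hw, rfl⟩
      exact hg w hw
    · rintro _ ⟨w, hw, rfl⟩
      rw [← map_mul, hV w hw, map_one]
    · exact card_map_of_injective (MulAut.conj g).injective⟩

/-- If `T` is a maximal 2-subgroup of `N_G(V)`, then it is a Sylow 2-subgroup of `G`. -/
theorem Weak.exists_sylow [Finite G] {V T : Subgroup G} (h : Weak V T) (hT : IsPGroup 2 T)
    (hmax : ∀ P : Subgroup G, IsPGroup 2 P → T ≤ P → P ≤ normalizer (V : Set G) → P ≤ T) :
    ∃ S : Sylow 2 G, (S : Subgroup G) = T := by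
  have h2 : Fact (Nat.Prime 2) := ⟨Nat.prime_two⟩
  obtain ⟨S, hS⟩ := hT.exists_le_sylow
  refine ⟨S, ?_⟩
  by_contra hne
  have hlt : T < (S : Subgroup G) := lt_of_le_of_ne hS (Ne.symm hne)
  have hnil : Group.IsNilpotent (S : Subgroup G) := S.isPGroup'.isNilpotent
  have h1 : T.subgroupOf (S : Subgroup G) < ⊤ := by
    rw [lt_top_iff_ne_top, Ne, Subgroup.subgroupOf_eq_top]
    exact not_le_of_gt hlt
  have h3 := Group.normalizerCondition_of_isNilpotent (G := (S : Subgroup G)) _ h1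
  obtain ⟨y, hy, hyT⟩ := SetLike.exists_of_lt h3
  -- `y` normalises `T`
  have hyn : ∀ t ∈ T, (y : G) * t * (y : G)⁻¹ ∈ T := by
    intro t ht
    rw [Subgroup.mem_normalizer_iff] at hy
    have h4 := (hy ⟨t, hlt.le ht⟩).1 (by rw [Subgroup.mem_subgroupOf]; exact ht)
    rw [Subgroup.mem_subgroupOf] at h4
    exact h4
  have hyN : (y : G) ∈ normalizer (T : Set G) := mem_normalizer_of hyn
  have hyV : (y : G) ∈ normalizer (V : Set G) :=
    h.mem_normalizer fun v hv => hyn v (h.le hv)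
  have hTV : T ≤ normalizer (V : Set G) := fun t ht =>
    h.mem_normalizer fun v hv => T.mul_mem (T.mul_mem ht (h.le hv)) (T.inv_mem ht)
  -- the 2-group `⟨y⟩ T` lies in `N_G(V)`
  have hP : IsPGroup 2 (T ⊔ zpowers (y : G) : Subgroup G) := by
    refine S.isPGroup'.to_le (sup_le hlt.le ?_)
    rw [zpowers_le]
    exact y.2
  have h5 := hmax _ hP le_sup_left (sup_le hTV (by rw [zpowers_le]; exact hyV))
  exact hyT (by
    rw [Subgroup.mem_subgroupOf]
    exact h5 (le_sup_right (a := T) (mem_zpowers (y : G))))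

/-- Burnside: fusion of elements centralised by `V` is controlled by `N_G(V)`. -/
theorem Weak.fusion [Finite G] {V : Subgroup G} {S : Sylow 2 G} (h : Weak V (S : Subgroup G)) {a b g : G}
    (ha : ∀ v ∈ V, v * a = a * v) (hb : ∀ v ∈ V, v * b = b * v) (hg : g * a * g⁻¹ = b) :
    ∃ n ∈ normalizer (V : Set G), n * a * n⁻¹ = b := by
  have h2 : Fact (Nat.Prime 2) := ⟨Nat.prime_two⟩
  set C : Subgroup G := centralizer ({b} : Set G) with hC
  have hVC : V ≤ C := fun v hv => mem_centralizer_singleton_iff.2 (hb v hv)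
  have hV2 : IsPGroup 2 V := S.isPGroup'.to_le h.le
  set W : Subgroup G := V.map (MulAut.conj g).toMonoidHom with hW
  have hWC : W ≤ C := by
    rintro _ ⟨v, hv, rfl⟩
    rw [hC, mem_centralizer_singleton_iff]
    show g * v * g⁻¹ * b = b * (g * v * g⁻¹)
    rw [← hg]
    calc g * v * g⁻¹ * (g * a * g⁻¹) = g * (v * a) * g⁻¹ := by group
      _ = g * (a * v) * g⁻¹ := by rw [ha v hv]
      _ = g * a * g⁻¹ * (g * v * g⁻¹) := by group
  have hW2 : IsPGroup 2 W := hV2.map _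
  -- Sylow subgroups of `C` containing them
  obtain ⟨P, hP⟩ := (show IsPGroup 2 (V.subgroupOf C) from hV2.comap_subtype).exists_le_sylow
  obtain ⟨Q, hQ⟩ := (show IsPGroup 2 (W.subgroupOf C) from hW2.comap_subtype).exists_le_sylow
  obtain ⟨c, hc⟩ := MulAction.exists_smul_eq C Q P
  -- everything inside `S^k`
  have hPm : IsPGroup 2 ((P : Subgroup C).map C.subtype) := P.isPGroup'.map _
  obtain ⟨R, hR⟩ := hPm.exists_le_sylow
  obtain ⟨k, hk⟩ := MulAction.exists_smul_eq G R S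
  have hkR : ∀ x ∈ (P : Subgroup C), k * (x : G) * k⁻¹ ∈ (S : Subgroup G) := by
    intro x hx
    have h3 : (x : G) ∈ (R : Subgroup G) := hR ⟨x, hx, rfl⟩
    have h4 : k * (x : G) * k⁻¹ ∈ ((k • R : Sylow 2 G) : Subgroup G) := by
      rw [Sylow.coe_subgroup_smul]
      exact ⟨x, h3, rfl⟩
    rwa [hk] at h4
  have hkV : k ∈ normalizer (V : Set G) :=
    h.mem_normalizer fun v hv => hkR ⟨v, hVC hv⟩ (hP (by
      rw [Subgroup.mem_subgroupOf]
      exact hv))
  have hkc : k * ((c : G) * g) ∈ normalizer (V : Set G) := by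
    refine h.mem_normalizer fun v hv => ?_
    have h3 : g * v * g⁻¹ ∈ W := ⟨v, hv, rfl⟩
    have h4 : (⟨g * v * g⁻¹, hWC h3⟩ : C) ∈ (Q : Subgroup C) := hQ (by
      rw [Subgroup.mem_subgroupOf]
      exact h3)
    have h5 : c * ⟨g * v * g⁻¹, hWC h3⟩ * c⁻¹ ∈ ((c • Q : Sylow 2 C) : Subgroup C) := by
      rw [Sylow.coe_subgroup_smul]
      exact ⟨_, h4, rfl⟩
    rw [hc] at h5
    have h6 := hkR _ h5
    have e : k * ((c * ⟨g * v * g⁻¹, hWC h3⟩ * c⁻¹ : C) : G) * k⁻¹ =
        k * ((c : G) * g) * v * (k * ((c : G) * g))⁻¹ := by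
      push_cast
      group
    rwa [e] at h6
  refine ⟨(c : G) * g, ?_, ?_⟩
  · have h7 := mul_mem (inv_mem hkV) hkc
    rwa [inv_mul_cancel_left] at h7
  · have h8 := mem_centralizer_singleton_iff.1 c.2
    calc (c : G) * g * a * ((c : G) * g)⁻¹ = c * (g * a * g⁻¹) * (c : G)⁻¹ := by group
      _ = c * b * (c : G)⁻¹ := by rw [hg]
      _ = b := by rw [h8]; group

/-- Homomorphisms of a nonabelian simple group to `±1`. -/
theorem hom_eq_one [IsSimpleGroup G] (hG : ¬ IsMulCommutative G) (f : G →* ℤˣ) (x : G) : f x = 1 := by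
  rcases (inferInstance : f.ker.Normal).eq_bot_or_eq_top with hk | hk
  · exfalso
    refine hG ⟨⟨fun a b => ?_⟩⟩
    apply (MonoidHom.ker_eq_bot_iff f).mp hk
    rw [map_mul, map_mul, mul_comm]
  · have : x ∈ f.ker := hk ▸ Subgroup.mem_top x
    exact this

/-- **X1** (Thompson transfer). -/
theorem false_of_index_two [Finite G] [IsSimpleGroup G] (hG : ¬ IsMulCommutative G)
    {V T M0 : Subgroup G} (h : Weak V T) (hT : IsPGroup 2 T)
    (hmax : ∀ P : Subgroup G, IsPGroup 2 P → T ≤ P → P ≤ normalizer (V : Set G) → P ≤ T)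
    (hV : ∀ a ∈ V, ∀ b ∈ V, a * b = b * a) (hidx : M0.relIndex (normalizer (V : Set G)) = 2)
    {v : G} (hv : v ∈ V) (hvM : v ∉ M0) (hvv : v * v = 1) : False := by
  have h2 : Fact (Nat.Prime 2) := ⟨Nat.prime_two⟩
  obtain ⟨S, hS⟩ := h.exists_sylow hT hmax
  subst hS
  have hVN : V ≤ normalizer (V : Set G) := le_normalizer
  have hTV : (S : Subgroup G) ≤ normalizer (V : Set G) := fun t ht =>
    h.mem_normalizer fun v hv => mul_mem (mul_mem ht (h.le hv)) (inv_mem ht)
  have hn : (M0.subgroupOf (normalizer (V : Set G))).Normal := normal_of_index_eq_two hidx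
  -- the index of `M0 ⊓ S` in `S`
  have hmul : ∀ a ∈ normalizer (V : Set G), ∀ b ∈ normalizer (V : Set G),
      (a * b ∈ M0 ↔ (a ∈ M0 ↔ b ∈ M0)) := fun a ha b hb =>
    Subgroup.mul_mem_iff_of_index_two (a := (⟨a, ha⟩ : normalizer (V : Set G)))
      (b := ⟨b, hb⟩) hidx
  have hi : (M0 ⊓ (S : Subgroup G)).relIndex (S : Subgroup G) = 2 := by
    show ((M0 ⊓ (S : Subgroup G)).subgroupOf (S : Subgroup G)).index = 2
    rw [Subgroup.index_eq_two_iff]
    refine ⟨⟨v, h.le hv⟩, fun s => ?_⟩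
    have h3 := hmul s (hTV s.2) v (hVN hv)
    rw [Subgroup.mem_subgroupOf, Subgroup.mem_subgroupOf]
    simp only [mem_inf, coe_mul, s.2, and_true]
    have h4 : (s : G) * v ∈ (S : Subgroup G) := mul_mem s.2 (h.le hv)
    simp only [h4, and_true]
    by_cases h5 : (s : G) ∈ M0
    · right
      exact ⟨h5, fun h6 => hvM ((h3.1 h6).1 h5)⟩
    · left
      exact ⟨h3.2 ⟨fun h6 => absurd h6 h5, fun h6 => absurd h6 hvM⟩, h5⟩
  obtain ⟨g, hg1, hg2⟩ := SylowSp4.ExtTransfer.exists_extremal S (M0 ⊓ (S : Subgroup G)) inf_le_right hi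
    v hvv (fun f => hom_eq_one hG f v) V (S.isPGroup'.to_le h.le) (fun r hr => hV r hr v hv)
  have hgN : g ∈ normalizer (V : Set G) := h.mem_normalizer hg2
  -- `g v g⁻¹ ∈ M0` with `g ∈ M`
  apply hvM
  have h3 := hn.conj_mem (⟨g * v * g⁻¹, mul_mem (mul_mem hgN (hVN hv)) (inv_mem hgN)⟩ :
    normalizer (V : Set G)) (by
      rw [Subgroup.mem_subgroupOf]
      exact (mem_inf.1 hg1).1) ⟨g⁻¹, inv_mem hgN⟩
  rw [Subgroup.mem_subgroupOf] at h3
  have e : g⁻¹ * (g * v * g⁻¹) * g⁻¹⁻¹ = v := by group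
  have h4 : g⁻¹ * (g * v * g⁻¹) * g⁻¹⁻¹ ∈ M0 := h3
  rwa [e] at h4

/-- An involution of `S` which is isolated in `S` does not exist in a nonabelian simple group (`Z*`). -/
theorem false_of_z_star [Finite G] [IsSimpleGroup G] (hG : ¬ IsMulCommutative G) (S : Sylow 2 G) {z : G}
    (hz : orderOf z = 2) (hzS : z ∈ S) (hiso : ∀ g : G, g * z * g⁻¹ ∈ S → g * z * g⁻¹ = z) : False := by
  obtain ⟨N, hN, hodd, hc⟩ := Cfsg.Agent.S0215.result S z hz hzS hiso
  rcases hN.eq_bot_or_eq_top with h | h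
  · -- `z` central
    have hz1 : z ∈ center G := by
      rw [mem_center_iff]
      intro g
      have h1 := hc g
      rw [h, mem_bot] at h1
      have h2 : z * g = g * z := by
        have h3 := mul_eq_one_iff_eq_inv.1 h1
        rw [inv_inv] at h3
        have h4 := mul_inv_eq_iff_eq_mul.1 h3
        exact h4
      exact h2.symm
    rcases (inferInstance : (center G).Normal).eq_bot_or_eq_top with h1 | h1
    · rw [h1, mem_bot] at hz1
      rw [hz1, orderOf_one] at hz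
      norm_num at hz
    · refine hG ⟨⟨fun a b => ?_⟩⟩
      have h2 : b ∈ center G := h1 ▸ mem_top b
      exact (mem_center_iff.1 h2 a)
  · rw [h, card_top] at hodd
    have h1 : 2 ∣ Nat.card G := hz ▸ orderOf_dvd_natCard z
    exact (Nat.not_even_iff_odd.2 hodd) (even_iff_two_dvd.2 h1)

/-- **15 involutions** (`Z*`). -/
theorem false_of_isolated [Finite G] [IsSimpleGroup G] (hG : ¬ IsMulCommutative G)
    {V T : Subgroup G} (h : Weak V T) (hT : IsPGroup 2 T)
    (hmax : ∀ P : Subgroup G, IsPGroup 2 P → T ≤ P → P ≤ normalizer (V : Set G) → P ≤ T)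
    (hV : ∀ v ∈ V, v * v = 1) (hinv : ∀ t ∈ T, t * t = 1 → t ∈ V)
    {z : G} (hzV : z ∈ V) (hz : z ≠ 1)
    (hM : ∀ m ∈ normalizer (V : Set G), m * z * m⁻¹ = z) : False := by
  obtain ⟨S, hS⟩ := h.exists_sylow hT hmax
  subst hS
  have hcomm : ∀ a ∈ V, ∀ b ∈ V, a * b = b * a := by
    intro a ha b hb
    have h1 := hV _ (V.mul_mem ha hb)
    have e1 : a⁻¹ = a := inv_eq_of_mul_eq_one_left (hV a ha)
    have e2 : b⁻¹ = b := inv_eq_of_mul_eq_one_left (hV b hb)
    have e3 : (a * b)⁻¹ = a * b := inv_eq_of_mul_eq_one_left h1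
    rw [mul_inv_rev, e1, e2] at e3
    exact e3.symm
  refine false_of_z_star hG S (orderOf_eq_prime (p := 2) (by rw [pow_two]; exact hV z hzV) hz)
    (h.le hzV) fun g hg => ?_
  have hgg : g * z * g⁻¹ * (g * z * g⁻¹) = 1 := by
    have e : g * z * g⁻¹ * (g * z * g⁻¹) = g * (z * z) * g⁻¹ := by group
    rw [e, hV z hzV, mul_one, mul_inv_cancel]
  have hb := hinv _ hg hgg
  obtain ⟨n, hn, hnz⟩ := h.fusion (a := z) (b := g * z * g⁻¹) (g := g)
    (fun v hv => hcomm v hv z hzV) (fun v hv => hcomm v hv _ hb) rfl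
  rw [← hnz]
  exact hM n hn

/-- **15 involutions**, stated for the maximal 2-local `M`: `M` normalises `V = Ω₁(T)`, `M = N_G(V)` by
maximality. -/
theorem false_of_fifteen [Finite G] [IsSimpleGroup G] (hG : ¬ IsMulCommutative G)
    {M V T : Subgroup G} (hMV : normalizer (V : Set G) = M) (hVT : V ≤ T) (hT : IsPGroup 2 T)
    (hmax : ∀ P : Subgroup G, IsPGroup 2 P → T ≤ P → P ≤ M → P ≤ T)
    (hV : ∀ v ∈ V, v * v = 1) (hinv : ∀ t ∈ T, t * t = 1 → t ∈ V)
    {z : G} (hzV : z ∈ V) (hz : z ≠ 1) (hM : ∀ m ∈ M, m * z * m⁻¹ = z) : False := by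
  subst hMV
  exact false_of_isolated hG (Weak.of_involutions hVT hV hinv) hT hmax hV hinv hzV hz hM

/-- **X1**, stated for `M = N_G(V)`, `V` the only elementary abelian subgroup of order 16 of `T`. -/
theorem false_of_X1 [Finite G] [IsSimpleGroup G] (hG : ¬ IsMulCommutative G)
    {M M0 V T : Subgroup G} (hMV : normalizer (V : Set G) = M) (hVT : V ≤ T) (hT : IsPGroup 2 T)
    (hmax : ∀ P : Subgroup G, IsPGroup 2 P → T ≤ P → P ≤ M → P ≤ T)
    (hV : ∀ v ∈ V, v * v = 1)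
    (huniq : ∀ W : Subgroup G, W ≤ T → (∀ w ∈ W, w * w = 1) → Nat.card W = Nat.card V → W ≤ V)
    (hidx : M0.relIndex M = 2) {v : G} (hv : v ∈ V) (hvM : v ∉ M0) : False := by
  subst hMV
  have hcomm : ∀ a ∈ V, ∀ b ∈ V, a * b = b * a := by
    intro a ha b hb
    have h1 := hV _ (V.mul_mem ha hb)
    have e1 : a⁻¹ = a := inv_eq_of_mul_eq_one_left (hV a ha)
    have e2 : b⁻¹ = b := inv_eq_of_mul_eq_one_left (hV b hb)
    have e3 : (a * b)⁻¹ = a * b := inv_eq_of_mul_eq_one_left h1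
    rw [mul_inv_rev, e1, e2] at e3
    exact e3.symm
  exact false_of_index_two hG (Weak.of_unique hVT hV huniq) hT hmax hcomm hidx hv hvM (hV v hv)

/-- **X1**, second form: `W ≤ V` normal in `M = N_G(V)`, `V` the only elementary abelian subgroup of its
order in `T`, `T0` of index 2 in `T` with `T0 ∩ V ≤ W < V`. -/
theorem false_of_X1' [Finite G] [IsSimpleGroup G] (hG : ¬ IsMulCommutative G)
    {M V T T0 W : Subgroup G} (hMV : normalizer (V : Set G) = M) (hVT : V ≤ T) (hT : IsPGroup 2 T)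
    (hmax : ∀ P : Subgroup G, IsPGroup 2 P → T ≤ P → P ≤ M → P ≤ T)
    (hV : ∀ v ∈ V, v * v = 1)
    (huniq : ∀ W : Subgroup G, W ≤ T → (∀ w ∈ W, w * w = 1) → Nat.card W = Nat.card V → W ≤ V)
    (hT0 : T0 ≤ T) (hidx : T0.relIndex T = 2) (hW : ∀ m ∈ M, ∀ w ∈ W, m * w * m⁻¹ ∈ W)
    (hT0V : ∀ x ∈ T0, x ∈ V → x ∈ W) {v : G} (hv : v ∈ V) (hvW : v ∉ W) : False := by
  subst hMV
  have h := Weak.of_unique hVT hV huniq
  obtain ⟨S, hS⟩ := h.exists_sylow hT hmax
  subst hS
  have hcomm : ∀ a ∈ V, ∀ b ∈ V, a * b = b * a := by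
    intro a ha b hb
    have h1 := hV _ (V.mul_mem ha hb)
    have e1 : a⁻¹ = a := inv_eq_of_mul_eq_one_left (hV a ha)
    have e2 : b⁻¹ = b := inv_eq_of_mul_eq_one_left (hV b hb)
    have e3 : (a * b)⁻¹ = a * b := inv_eq_of_mul_eq_one_left h1
    rw [mul_inv_rev, e1, e2] at e3
    exact e3.symm
  obtain ⟨g, hg1, hg2⟩ := SylowSp4.ExtTransfer.exists_extremal S T0 hT0 hidx
    v (hV v hv) (fun f => hom_eq_one hG f v) V (S.isPGroup'.to_le h.le) (fun r hr => hcomm r hr v hv)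
  have hgN : g ∈ normalizer (V : Set G) := h.mem_normalizer hg2
  have h1 : g * v * g⁻¹ ∈ W := hT0V _ hg1 ((mem_normalizer_iff.1 hgN v).1 hv)
  have h2 := hW g⁻¹ (inv_mem hgN) _ h1
  have e : g⁻¹ * (g * v * g⁻¹) * g⁻¹⁻¹ = v := by group
  rw [e] at h2
  exact hvW h2

end Cfsg.Agent.GH.C2KillT3
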