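import Mathlib
import Cfsg.Agent.Transfer.PGroupNormal
import Cfsg.Agent.Lib.ProductSet
import Cfsg.Agent.TwoFusion.SectionalRank

/-!
# GH-C2, `M/Q = L₃(2)`: the natural module in elements

`Nat3 M Q V`: `V ≤ Q ≤ M`, `V` elementary abelian of order 8 and normal in `M`, `Q` abelian and normal in `M`,
`M/Q` acts faithfully on `V` and as the full linear group (transitively on triples of independent elements).
-/

set_option autoImplicit false
set_option maxHeartbeats 800000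

namespace Cfsg.Agent.GH.C2SevenBase

open Subgroup Pointwise

variable {G : Type*} [Group G]

/-- Independent triples of an elementary abelian 2-group. -/
def Ind (a b c : G) : Prop :=
  a ≠ 1 ∧ b ≠ 1 ∧ b ≠ a ∧ c ≠ 1 ∧ c ≠ a ∧ c ≠ b ∧ c ≠ a * b

/-- `V` is a natural module of order 8 for `M / Q`. -/
structure Nat3 (M Q V : Subgroup G) : Prop where
  QM : Q ≤ M
  VQ : V ≤ Q
  normQ : ∀ g ∈ M, ∀ x ∈ Q, g * x * g⁻¹ ∈ Q
  normV : ∀ g ∈ M, ∀ x ∈ V, g * x * g⁻¹ ∈ V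
  comm : ∀ x ∈ Q, ∀ y ∈ Q, x * y = y * x
  cardV : Nat.card V = 8
  sqV : ∀ v ∈ V, v * v = 1
  cent : ∀ g ∈ M, (∀ v ∈ V, g * v = v * g) → g ∈ Q
  tri : ∀ a ∈ V, ∀ b ∈ V, ∀ c ∈ V, ∀ a' ∈ V, ∀ b' ∈ V, ∀ c' ∈ V, Ind a b c → Ind a' b' c' →
    ∃ g ∈ M, g * a * g⁻¹ = a' ∧ g * b * g⁻¹ = b' ∧ g * c * g⁻¹ = c'

theorem ncard_le_two (a b : G) : ({a, b} : Set G).ncard ≤ 2 := by
  calc ({a, b} : Set G).ncard ≤ ({b} : Set G).ncard + 1 := Set.ncard_insert_le _ _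
    _ ≤ 2 := by rw [Set.ncard_singleton]

theorem ncard_le_four (a b c d : G) : ({a, b, c, d} : Set G).ncard ≤ 4 := by
  calc ({a, b, c, d} : Set G).ncard ≤ ({b, c, d} : Set G).ncard + 1 := Set.ncard_insert_le _ _
    _ ≤ (({c, d} : Set G).ncard + 1) + 1 := by
        have := Set.ncard_insert_le b ({c, d} : Set G)
        omega
    _ ≤ 4 := by
        have := ncard_le_two c d
        omega

theorem card_le_of_subset {V : Subgroup G} {s : Set G} (hs : s.Finite) (h : (V : Set G) ⊆ s) {n : ℕ}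
    (hn : s.ncard ≤ n) : Nat.card V ≤ n := by
  have h1 : Nat.card V = (V : Set G).ncard := rfl
  rw [h1]
  exact (Set.ncard_le_ncard h hs).trans hn

/-- A subgroup of order more than 4 contains an element outside `{a, b, c, d}`. -/
theorem exists_out {V : Subgroup G} (h : 4 < Nat.card V) (a b c d : G) :
    ∃ x ∈ V, x ≠ a ∧ x ≠ b ∧ x ≠ c ∧ x ≠ d := by
  by_contra hc
  push Not at hc
  have h1 : (V : Set G) ⊆ {a, b, c, d} := by
    intro x hx
    by_cases h1 : x = a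
    · exact Or.inl h1
    by_cases h2 : x = b
    · exact Or.inr (Or.inl h2)
    by_cases h3 : x = c
    · exact Or.inr (Or.inr (Or.inl h3))
    · exact Or.inr (Or.inr (Or.inr (hc x hx h1 h2 h3)))
  have h2 := card_le_of_subset (Set.toFinite _) h1 (ncard_le_four a b c d)
  omega

/-- A subgroup of order more than 2 contains an element outside `{a, b}`. -/
theorem exists_out_two {V : Subgroup G} (h : 2 < Nat.card V) (a b : G) :
    ∃ x ∈ V, x ≠ a ∧ x ≠ b := by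
  by_contra hc
  push Not at hc
  have h1 : (V : Set G) ⊆ {a, b} := by
    intro x hx
    by_cases h1 : x = a
    · exact Or.inl h1
    · exact Or.inr (hc x hx h1)
  have h2 := card_le_of_subset (Set.toFinite _) h1 (ncard_le_two a b)
  omega

namespace Nat3

variable {M Q V : Subgroup G} (h : Nat3 M Q V)

include h in
theorem commV {v w : G} (hv : v ∈ V) (hw : w ∈ V) : v * w = w * v :=
  h.comm v (h.VQ hv) w (h.VQ hw)

include h in
theorem inv_eq {v : G} (hv : v ∈ V) : v⁻¹ = v := inv_eq_of_mul_eq_one_left (h.sqV v hv)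

include h in
/-- the stabilizer of `v` is transitive on the elements outside `⟨v⟩` -/
theorem two {v w w' : G} (hv : v ∈ V) (hw : w ∈ V) (hw' : w' ∈ V) (hv1 : v ≠ 1) (hw1 : w ≠ 1)
    (hwv : w ≠ v) (hw1' : w' ≠ 1) (hwv' : w' ≠ v) :
    ∃ g ∈ M, g * v * g⁻¹ = v ∧ g * w * g⁻¹ = w' := by
  obtain ⟨c, hc, c1, c2, c3, c4⟩ := exists_out (by rw [h.cardV]; norm_num) 1 v w (v * w)
  obtain ⟨c', hc', c1', c2', c3', c4'⟩ := exists_out (by rw [h.cardV]; norm_num) 1 v w' (v * w')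
  obtain ⟨g, hg, g1, g2, -⟩ := h.tri v hv w hw c hc v hv w' hw' c' hc'
    ⟨hv1, hw1, hwv, c1, c2, c3, c4⟩ ⟨hv1, hw1', hwv', c1', c2', c3', c4'⟩
  exact ⟨g, hg, g1, g2⟩

end Nat3

/-- One step in a 2-group `T` normalizing `Z < V ≤ T`. -/
theorem exists_step [Finite G] {T Z V : Subgroup G} (hT : IsPGroup 2 T) (hVT : V ≤ T) (hZV : Z ≤ V)
    (hne : ¬ V ≤ Z) (hV : ∀ x ∈ T, ∀ y ∈ V, x * y * x⁻¹ ∈ V) (hZ : ∀ x ∈ T, ∀ y ∈ Z, x * y * x⁻¹ ∈ Z) :
    ∃ W : Subgroup G, Z ≤ W ∧ W ≤ V ∧ Nat.card W = Nat.card Z * 2 ∧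
      ∀ x ∈ T, ∀ y ∈ W, x * y * x⁻¹ ∈ W := by
  have : Fact (Nat.Prime 2) := ⟨Nat.prime_two⟩
  have hVn : (V.subgroupOf T).Normal := ⟨fun y hy x => hV x x.2 y hy⟩
  have hZn : (Z.subgroupOf T).Normal := ⟨fun y hy x => hZ x x.2 y hy⟩
  obtain ⟨W, hWn, h1, h2, h3⟩ := Transfer.PGroupNormal.exists_normal_step hT hZn hVn
    (lt_of_le_not_ge (subgroupOf_mono T hZV) (fun hc => hne (fun x hx => hc (x := ⟨x, hVT hx⟩) hx)))
  refine ⟨W.map T.subtype, ?_, ?_, ?_, ?_⟩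
  · intro z hz
    exact ⟨⟨z, hVT (hZV hz)⟩, h1 hz, rfl⟩
  · rintro _ ⟨w, hw, rfl⟩
    exact h2 hw
  · rw [card_map_of_injective T.subtype_injective, h3,
      Nat.card_congr (Subgroup.subgroupOfEquivOfLe (hZV.trans hVT)).toEquiv]
  · rintro x hx _ ⟨w, hw, rfl⟩
    exact ⟨_, hWn.conj_mem w hw ⟨x, hx⟩, rfl⟩

/-- Product decomposition by counting. -/
theorem exists_mul [Finite G] {D V Q : Subgroup G} (hD : D ≤ Q) (hV : V ≤ Q)
    (hc : Nat.card Q * Nat.card (D ⊓ V : Subgroup G) ≤ Nat.card D * Nat.card V) :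
    ∀ x ∈ Q, ∃ d ∈ D, ∃ v ∈ V, x = d * v := by
  have h1 := Lib.ProductSet.card_mul_card_inf D V
  have h2 : 0 < Nat.card (D ⊓ V : Subgroup G) := Nat.card_pos
  have h3 : ((D : Set G) * (V : Set G)) ⊆ Q := by
    rintro _ ⟨d, hd, v, hv, rfl⟩
    exact Q.mul_mem (hD hd) (hV hv)
  have h4 : (Q : Set G).ncard ≤ ((D : Set G) * (V : Set G)).ncard := by
    have e1 : (Q : Set G).ncard = Nat.card Q := rfl
    have e2 : ((D : Set G) * (V : Set G)).ncard = Nat.card ((D : Set G) * (V : Set G) : Set G) := rfl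
    rw [e1, e2]
    rw [← h1] at hc
    exact Nat.le_of_mul_le_mul_right hc h2
  have h5 := Set.eq_of_subset_of_ncard_le h3 h4 (Set.toFinite _)
  intro x hx
  have h6 : x ∈ ((D : Set G) * (V : Set G)) := by rw [h5]; exact hx
  obtain ⟨d, hd, v, hv, e⟩ := h6
  exact ⟨d, hd, v, hv, e.symm⟩

/-- If `f : P → α` separates the cosets of `D ≤ P` then `|P| ≤ |α| |D|`. -/
theorem card_le_mul [Finite G] {P D : Subgroup G} (hD : D ≤ P) {α : Type*} [Finite α] (f : P → α)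
    (hf : ∀ x y : P, f x = f y → (x : G)⁻¹ * y ∈ D) : Nat.card P ≤ Nat.card α * Nat.card D := by
  have h1 := (D.subgroupOf P).card_eq_card_quotient_mul_card_subgroup
  have h2 : Nat.card (D.subgroupOf P) = Nat.card D :=
    Nat.card_congr (Subgroup.subgroupOfEquivOfLe hD).toEquiv
  rw [h1, h2]
  refine Nat.mul_le_mul_right _ ?_
  refine Nat.card_le_card_of_injective (fun q : P ⧸ D.subgroupOf P => f q.out) ?_
  intro p q hpq
  have h3 := hf _ _ hpq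
  rw [← p.out_eq', ← q.out_eq']
  exact QuotientGroup.eq.mpr h3

/-- A section of exponent 2 is elementary abelian. -/
theorem elem_of_sq {R N : Subgroup G} (hNR : N ≤ R) (hN : ∀ x ∈ R, ∀ n ∈ N, x * n * x⁻¹ ∈ N)
    (hsq : ∀ x ∈ R, x * x ∈ N) : TwoFusion.SectionalRank.ElemSection 2 R N where
  le := hNR
  pow a ha := by rw [pow_two]; exact hsq a ha
  comm a ha b hb := by
    have e : a * b * a⁻¹ * b⁻¹ = (a * b) * (a * b) * (b⁻¹ * (a * a)⁻¹ * (b⁻¹)⁻¹) * (b * b)⁻¹ := by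
      simp only [mul_inv_rev, inv_inv]
      group
    rw [e]
    exact N.mul_mem (N.mul_mem (hsq _ (R.mul_mem ha hb)) (hN _ (R.inv_mem hb) _
      (N.inv_mem (hsq a ha)))) (N.inv_mem (hsq b hb))

theorem sup_mem [Finite G] {Q P : Subgroup G} (hn : ∀ p ∈ P, ∀ x ∈ Q, p * x * p⁻¹ ∈ Q) :
    P ≤ normalizer (Q : Set G) := by
  intro p hp
  refine mem_normalizer_iff.mpr fun x => ⟨hn p hp x, fun hx => ?_⟩
  have h1 := hn p⁻¹ (P.inv_mem hp) _ hx
  have h2 : p⁻¹ * (p * x * p⁻¹) * (p⁻¹)⁻¹ = x := by group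
  rwa [h2] at h1

theorem exists_mem_sup [Finite G] {Q P : Subgroup G} (hn : ∀ p ∈ P, ∀ x ∈ Q, p * x * p⁻¹ ∈ Q) {r : G}
    (hr : r ∈ Q ⊔ P) : ∃ x ∈ Q, ∃ p ∈ P, r = x * p := by
  have h1 := coe_mul_of_right_le_normalizer_left Q P (sup_mem hn)
  have h2 : r ∈ ((Q ⊔ P : Subgroup G) : Set G) := hr
  rw [h1] at h2
  obtain ⟨x, hx, p, hp, e⟩ := h2
  exact ⟨x, hx, p, hp, e.symm⟩

theorem card_sup_mul [Finite G] {Q P : Subgroup G} (hn : ∀ p ∈ P, ∀ x ∈ Q, p * x * p⁻¹ ∈ Q) :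
    Nat.card (Q ⊔ P : Subgroup G) * Nat.card (Q ⊓ P : Subgroup G) = Nat.card Q * Nat.card P := by
  have h1 := Lib.ProductSet.card_mul_card_inf Q P
  rw [← coe_mul_of_right_le_normalizer_left Q P (sup_mem hn)] at h1
  exact h1

end Cfsg.Agent.GH.C2SevenBase
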