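import Mathlib
import Cfsg.Agent.GH.C2SevenBase

/-!
# GH-C2: `Nat3 M Q V` from `|M : Q| = 168`

`M` acts on the 168 independent triples of `V ≅ 2³` with stabilizers `C_M(V) ≤ Q`.
-/

set_option autoImplicit false
set_option maxHeartbeats 800000

namespace Cfsg.Agent.GH.C2SevenNat

open Subgroup Cfsg.Agent.GH.C2SevenBase

variable {G : Type*} [Group G] [Finite G]

section count

variable {V : Subgroup G} (hV : Nat.card V = 8) (hsq : ∀ v ∈ V, v * v = 1)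

omit [Finite G] in
theorem ncard_coe (V : Subgroup G) : (V : Set G).ncard = Nat.card V := rfl

include hV hsq

theorem card_one : Nat.card {a : G // a ∈ V ∧ a ≠ 1} = 7 := by
  have h1 : {a : G | a ∈ V ∧ a ≠ 1} = (V : Set G) \ {1} := by
    ext a; simp
  have h2 : Nat.card {a : G // a ∈ V ∧ a ≠ 1} = ({a : G | a ∈ V ∧ a ≠ 1} : Set G).ncard := rfl
  rw [h2, h1, Set.ncard_diff (by simpa using one_mem V) (Set.toFinite _), ncard_coe, hV,
    Set.ncard_singleton]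

theorem card_two {a : G} (ha : a ∈ V) (ha1 : a ≠ 1) :
    Nat.card {b : G // b ∈ V ∧ b ≠ 1 ∧ b ≠ a} = 6 := by
  have h1 : {b : G | b ∈ V ∧ b ≠ 1 ∧ b ≠ a} = (V : Set G) \ {1, a} := by
    ext b; simp
  have h2 : Nat.card {b : G // b ∈ V ∧ b ≠ 1 ∧ b ≠ a} =
    ({b : G | b ∈ V ∧ b ≠ 1 ∧ b ≠ a} : Set G).ncard := rfl
  rw [h2, h1, Set.ncard_diff (by
    rintro x (rfl | rfl)
    exacts [one_mem V, ha]) (Set.toFinite _), ncard_coe, hV, Set.ncard_pair (Ne.symm ha1)]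

theorem card_three {a b : G} (ha : a ∈ V) (hb : b ∈ V) (ha1 : a ≠ 1) (hb1 : b ≠ 1) (hba : b ≠ a) :
    Nat.card {c : G // c ∈ V ∧ c ≠ 1 ∧ c ≠ a ∧ c ≠ b ∧ c ≠ a * b} = 4 := by
  have h1 : {c : G | c ∈ V ∧ c ≠ 1 ∧ c ≠ a ∧ c ≠ b ∧ c ≠ a * b} = (V : Set G) \ {1, a, b, a * b} := by
    ext b; simp
  have h2 : Nat.card {c : G // c ∈ V ∧ c ≠ 1 ∧ c ≠ a ∧ c ≠ b ∧ c ≠ a * b} =
    ({c : G | c ∈ V ∧ c ≠ 1 ∧ c ≠ a ∧ c ≠ b ∧ c ≠ a * b} : Set G).ncard := rfl
  have e12 : a * b ≠ 1 := fun hc => hba (by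
    rw [eq_inv_of_mul_eq_one_right hc]
    exact inv_eq_of_mul_eq_one_left (hsq a ha))
  have e1 : a * b ≠ b := fun hc => ha1 (by simpa using hc)
  have e2 : a * b ≠ a := fun hc => hb1 (by simpa using hc)
  have h3 : ({1, a, b, a * b} : Set G).ncard = 4 := by
    rw [Set.ncard_insert_of_notMem (by
        rintro (hc | hc | hc)
        exacts [ha1 hc.symm, hb1 hc.symm, e12 hc.symm]),
      Set.ncard_insert_of_notMem (by
        rintro (hc | hc)
        exacts [hba hc.symm, e2 hc.symm]),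
      Set.ncard_pair (fun hc => e1 hc.symm)]
  rw [h2, h1, Set.ncard_diff (by
    rintro x (rfl | rfl | rfl | rfl)
    exacts [one_mem V, ha, hb, V.mul_mem ha hb]) (Set.toFinite _), ncard_coe, hV, h3]

/-- the type of independent triples -/
abbrev Tri (V : Subgroup G) : Type _ :=
  Σ a : {a : G // a ∈ V ∧ a ≠ 1}, Σ b : {b : G // b ∈ V ∧ b ≠ 1 ∧ b ≠ a.1},
    {c : G // c ∈ V ∧ c ≠ 1 ∧ c ≠ a.1 ∧ c ≠ b.1 ∧ c ≠ a.1 * b.1}

theorem card_tri : Nat.card (Tri V) = 168 := by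
  classical
  have := Fintype.ofFinite G
  rw [Nat.card_sigma]
  have h1 : ∀ a : {a : G // a ∈ V ∧ a ≠ 1}, Nat.card (Σ b : {b : G // b ∈ V ∧ b ≠ 1 ∧ b ≠ a.1},
    {c : G // c ∈ V ∧ c ≠ 1 ∧ c ≠ a.1 ∧ c ≠ b.1 ∧ c ≠ a.1 * b.1}) = 24 := by
    intro a
    rw [Nat.card_sigma]
    have h2 : ∀ b : {b : G // b ∈ V ∧ b ≠ 1 ∧ b ≠ a.1},
        Nat.card {c : G // c ∈ V ∧ c ≠ 1 ∧ c ≠ a.1 ∧ c ≠ b.1 ∧ c ≠ a.1 * b.1} = 4 := fun b =>
      card_three hV hsq a.2.1 b.2.1 a.2.2 b.2.2.1 b.2.2.2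
    rw [Finset.sum_congr rfl (fun b _ => h2 b), Finset.sum_const, Finset.card_univ,
      ← Nat.card_eq_fintype_card, card_two hV hsq a.2.1 a.2.2]
    rfl
  rw [Finset.sum_congr rfl (fun a _ => h1 a), Finset.sum_const, Finset.card_univ,
    ← Nat.card_eq_fintype_card, card_one hV hsq]
  rfl

end count

/-- A subgroup `V` is generated by an independent triple, centralizer form. -/
theorem cent_of_tri {V : Subgroup G} (hV : Nat.card V = 8) (hsq : ∀ v ∈ V, v * v = 1) {a b c p : G}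
    (ha : a ∈ V) (hb : b ∈ V) (hc : c ∈ V) (hi : Ind a b c) (pa : p * a = a * p) (pb : p * b = b * p)
    (pc : p * c = c * p) : ∀ v ∈ V, p * v = v * p := by
  obtain ⟨a1, b1, ba, c1, ca, cb, cab⟩ := hi
  have hmem : ∀ u ∈ V, p * u = u * p → u ∈ V ⊓ centralizer {p} := fun u hu hc =>
    ⟨hu, mem_centralizer_singleton_iff.mpr hc.symm⟩
  have e12 : a * b ≠ 1 := fun hc => ba (by
    rw [eq_inv_of_mul_eq_one_right hc]
    exact inv_eq_of_mul_eq_one_left (hsq a ha))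
  have e1 : a * b ≠ b := fun hc => a1 (by simpa using hc)
  have e2 : a * b ≠ a := fun hc => b1 (by simpa using hc)
  have h5 : ({1, a, b, a * b, c} : Set G) ⊆ (V ⊓ centralizer {p} : Subgroup G) := by
    rintro y (rfl | rfl | rfl | rfl | rfl)
    · exact one_mem _
    · exact hmem _ ha pa
    · exact hmem _ hb pb
    · exact mul_mem (hmem _ ha pa) (hmem _ hb pb)
    · exact hmem _ hc pc
  have h6 := Set.ncard_le_ncard h5 (Set.toFinite _)
  have h8 : ({1, a, b, a * b, c} : Set G).ncard = 5 := by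
    rw [Set.ncard_insert_of_notMem (by
        rintro (hc | hc | hc | hc)
        exacts [a1 hc.symm, b1 hc.symm, e12 hc.symm, c1 hc.symm]),
      Set.ncard_insert_of_notMem (by
        rintro (hc | hc | hc)
        exacts [ba hc.symm, e2 hc.symm, ca hc.symm]),
      Set.ncard_insert_of_notMem (by
        rintro (hc | hc)
        exacts [e1 hc.symm, cb hc.symm]),
      Set.ncard_pair (fun hc => cab hc.symm)]
  have hdiv : Nat.card (V ⊓ centralizer {p} : Subgroup G) ∣ 8 := by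
    rw [← hV]
    exact card_dvd_of_le inf_le_left
  rw [h8, ncard_coe] at h6
  have h9 : Nat.card (V ⊓ centralizer {p} : Subgroup G) = 8 := by
    have h7 := Nat.le_of_dvd (by norm_num) hdiv
    interval_cases hcard : Nat.card (V ⊓ centralizer {p} : Subgroup G) <;> omega
  have h7 : V ⊓ centralizer {p} = V :=
    Subgroup.eq_of_le_of_card_ge inf_le_left (by rw [h9, hV])
  exact fun v hv => (mem_centralizer_singleton_iff.mp ((inf_eq_left.mp h7) hv)).symm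

omit [Finite G] in
theorem ind_conj {a b c g : G} (hi : Ind a b c) : Ind (g * a * g⁻¹) (g * b * g⁻¹) (g * c * g⁻¹) := by
  obtain ⟨a1, b1, ba, c1, ca, cb, cab⟩ := hi
  have key : ∀ x y : G, g * x * g⁻¹ = g * y * g⁻¹ → x = y := fun x y h => by simpa using h
  have key1 : ∀ x : G, g * x * g⁻¹ = 1 → x = 1 := fun x h => key x 1 (by rw [h]; group)
  refine ⟨fun h => a1 (key1 _ h), fun h => b1 (key1 _ h), fun h => ba (key _ _ h),
    fun h => c1 (key1 _ h), fun h => ca (key _ _ h), fun h => cb (key _ _ h), fun h => cab (key _ _ ?_)⟩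
  rw [h]; group

/-- Transitivity on independent triples. -/
theorem tri_of_card {M Q V : Subgroup G} (normV : ∀ g ∈ M, ∀ x ∈ V, g * x * g⁻¹ ∈ V)
    (hV : Nat.card V = 8) (hsq : ∀ v ∈ V, v * v = 1) (hQM : Q ≤ M)
    (cent : ∀ g ∈ M, (∀ v ∈ V, g * v = v * g) → g ∈ Q) (hc : 168 * Nat.card Q ≤ Nat.card M) :
    ∀ a ∈ V, ∀ b ∈ V, ∀ c ∈ V, ∀ a' ∈ V, ∀ b' ∈ V, ∀ c' ∈ V, Ind a b c → Ind a' b' c' →
      ∃ g ∈ M, g * a * g⁻¹ = a' ∧ g * b * g⁻¹ = b' ∧ g * c * g⁻¹ = c' := by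
  classical
  intro a ha b hb c hc' a' ha' b' hb' c' hc'' hi hi'
  let X : Set (G × G × G) := {x | x.1 ∈ V ∧ x.2.1 ∈ V ∧ x.2.2 ∈ V ∧ Ind x.1 x.2.1 x.2.2}
  let Y : Set (G × G × G) := {x | ∃ g ∈ M, x = (g * a * g⁻¹, g * b * g⁻¹, g * c * g⁻¹)}
  have hYX : Y ⊆ X := by
    rintro x ⟨g, hg, rfl⟩
    exact ⟨normV g hg a ha, normV g hg b hb, normV g hg c hc', ind_conj hi⟩
  have hX : X.ncard ≤ 168 := by
    rw [← card_tri hV hsq]
    change Nat.card X ≤ _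
    refine Nat.card_le_card_of_injective (fun x : X =>
      (⟨⟨x.1.1, x.2.1, x.2.2.2.2.1⟩, ⟨x.1.2.1, x.2.2.1, x.2.2.2.2.2.1, x.2.2.2.2.2.2.1⟩,
        ⟨x.1.2.2, x.2.2.2.1, x.2.2.2.2.2.2.2.1, x.2.2.2.2.2.2.2.2.1, x.2.2.2.2.2.2.2.2.2.1,
          x.2.2.2.2.2.2.2.2.2.2⟩⟩ : Tri V)) ?_
    rintro ⟨⟨x1, x2, x3⟩, hx⟩ ⟨⟨y1, y2, y3⟩, hy⟩ hxy
    simp only [Sigma.mk.injEq, Subtype.mk.injEq] at hxy
    obtain ⟨rfl, h2⟩ := hxy
    have h3 := eq_of_heq h2
    simp only [Sigma.mk.injEq, Subtype.mk.injEq] at h3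
    obtain ⟨rfl, h4⟩ := h3
    have h5 := eq_of_heq h4
    simp only [Subtype.mk.injEq] at h5
    subst h5
    rfl
  have hY : 168 ≤ Y.ncard := by
    have h1 := card_le_mul (P := M) (D := Q) hQM (α := Y)
      (fun g => ⟨((g : G) * a * (g : G)⁻¹, (g : G) * b * (g : G)⁻¹, (g : G) * c * (g : G)⁻¹), g, g.2, rfl⟩)
      (by
        intro x y hxy
        have h0 := congrArg Subtype.val hxy
        simp only [Prod.mk.injEq] at h0
        obtain ⟨e1, e2, e3⟩ := h0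
        have key : ∀ u : G, (x : G) * u * (x : G)⁻¹ = y * u * (y : G)⁻¹ →
            (x : G)⁻¹ * y * u = u * ((x : G)⁻¹ * y) := by
          intro u he
          calc (x : G)⁻¹ * y * u = (x : G)⁻¹ * (y * u * (y : G)⁻¹) * y := by group
            _ = (x : G)⁻¹ * (x * u * (x : G)⁻¹) * y := by rw [he]
            _ = u * ((x : G)⁻¹ * y) := by group
        exact cent _ (M.mul_mem (M.inv_mem x.2) y.2)
          (cent_of_tri hV hsq ha hb hc' hi (key a e1) (key b e2) (key c e3)))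
    have h2 : 168 * Nat.card Q ≤ Nat.card Y * Nat.card Q := hc.trans h1
    exact Nat.le_of_mul_le_mul_right h2 Nat.card_pos
  have hYX' := Set.eq_of_subset_of_ncard_le hYX (hX.trans hY) (Set.toFinite _)
  have hm : (a', b', c') ∈ Y := by
    rw [hYX']
    exact ⟨ha', hb', hc'', hi'⟩
  obtain ⟨g, hg, e⟩ := hm
  simp only [Prod.mk.injEq] at e
  exact ⟨g, hg, e.1.symm, e.2.1.symm, e.2.2.symm⟩

end Cfsg.Agent.GH.C2SevenNat
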