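import Cfsg.Agent.GH.C2SevenGrow
import Cfsg.Agent.GH.C2SevenNat
import Cfsg.Agent.GH.C2Frame
import Cfsg.Agent.GH.C2KillT3
import Cfsg.Agent.GH.C2ThreeNat

/-!
# GH-C2, `M / O₂(M) = L₃(2)`: the growth contradictions in the frame `MaxLocal M T`, `T < S`

* `kill_center`: `O₂(M)` abelian, `Ω₁(O₂(M)) = W × ⟨c⟩`, `c` central in `M`.
* `kill_fixed`: `W = O₂(M)` of type `1\3`.
* `kill_three_one`: `W < O₂(M)` of order 16, `M` transitive on `O₂(M) - W`.
-/

set_option autoImplicit false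
set_option maxHeartbeats 800000

namespace Cfsg.Agent.GH.C2SevenKill

open Subgroup Cfsg.Agent.GH.C2SevenBase Cfsg.Agent.GH.C2SevenGrow Cfsg.Agent.GH.C2Frame
open Cfsg.Agent.GH.C2ThreeNat Cfsg.Agent.GH.C2Five
open Cfsg.Agent.ZN (o2)
open Cfsg.Agent.MinSimple.VModule (le_normalizer_o2)

variable {G : Type*} [Group G]

/-- basis from independent triple -/
theorem isBas_of_ind {V : Subgroup G} {w : T3 → G} (hw : Coord V w) {p q r : T3}
    (h : Ind (w p) (w q) (w r)) : IsBas (p, q, r) := by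
  obtain ⟨h1, h2, h3, h4, h5, h6, h7⟩ := h
  refine ⟨fun h => h1 ?_, fun h => h2 ?_, fun h => h3 ?_, fun h => h4 ?_, fun h => h5 ?_,
    fun h => h6 ?_, fun h => h7 ?_⟩
  · simp only at h; rw [h, hw.zero]
  · simp only at h; rw [h, hw.zero]
  · simp only at h; rw [h]
  · simp only at h; rw [h, hw.zero]
  · simp only at h; rw [h]
  · simp only at h; rw [h]
  · simp only at h; rw [h, hw.mul]

/-- The module in elements, from helper388's `NatMod`. -/
theorem nat3_of_natMod {M : Subgroup G} {Q W : Subgroup M} {w : T3 → M} (h : NatMod Q W w)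
    (hQn : Q.Normal) (hcomm : ∀ x ∈ Q, ∀ y ∈ Q, x * y = y * x) :
    Nat3 M (Q.map M.subtype) (W.map M.subtype) where
  QM := map_subtype_le _
  VQ := map_mono h.le
  normQ := by
    rintro g hg _ ⟨x, hx, rfl⟩
    exact ⟨⟨g, hg⟩ * x * ⟨g, hg⟩⁻¹, hQn.conj_mem x hx _, rfl⟩
  normV := by
    rintro g hg _ ⟨x, hx, rfl⟩
    exact ⟨⟨g, hg⟩ * x * ⟨g, hg⟩⁻¹, h.normal.conj_mem x hx _, rfl⟩
  comm := by
    rintro _ ⟨x, hx, rfl⟩ _ ⟨y, hy, rfl⟩
    exact congrArg Subtype.val (hcomm x hx y hy)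
  cardV := by
    rw [card_map_of_injective M.subtype_injective]
    exact h.coord.card
  sqV := by
    rintro _ ⟨x, hx, rfl⟩
    exact congrArg Subtype.val (h.coord.sq_mem hx)
  cent := by
    intro g hg hgV
    have h1 : (⟨g, hg⟩ : M) ∈ Q := (h.cent _).1 fun v hv =>
      Subtype.ext (hgV v ⟨v, hv, rfl⟩)
    exact ⟨_, h1, rfl⟩
  tri := by
    rintro _ ⟨a, ha, rfl⟩ _ ⟨b, hb, rfl⟩ _ ⟨c, hc, rfl⟩ _ ⟨a', ha', rfl⟩ _ ⟨b', hb', rfl⟩
      _ ⟨c', hc', rfl⟩ hi hi'
    obtain ⟨p, rfl⟩ := (h.coord.mem _).1 ha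
    obtain ⟨q, rfl⟩ := (h.coord.mem _).1 hb
    obtain ⟨r, rfl⟩ := (h.coord.mem _).1 hc
    obtain ⟨p', rfl⟩ := (h.coord.mem _).1 ha'
    obtain ⟨q', rfl⟩ := (h.coord.mem _).1 hb'
    obtain ⟨r', rfl⟩ := (h.coord.mem _).1 hc'
    have hind : ∀ {x y z : M}, Ind (x : G) (y : G) (z : G) → Ind x y z := by
      rintro x y z ⟨h1, h2, h3, h4, h5, h6, h7⟩
      exact ⟨fun h => h1 (congrArg Subtype.val h), fun h => h2 (congrArg Subtype.val h),
        fun h => h3 (congrArg Subtype.val h), fun h => h4 (congrArg Subtype.val h),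
        fun h => h5 (congrArg Subtype.val h), fun h => h6 (congrArg Subtype.val h),
        fun h => h7 (congrArg Subtype.val h)⟩
    obtain ⟨x, hx⟩ := h.real _ (isBas_of_ind h.coord (hind hi))
    obtain ⟨y, hy⟩ := h.real _ (isBas_of_ind h.coord (hind hi'))
    have hx1 := hx e1
    have hx2 := hx e2
    have hx3 := hx e3
    have hy1 := hy e1
    have hy2 := hy e2
    have hy3 := hy e3
    rw [lin_e1] at hx1 hy1
    rw [lin_e2] at hx2 hy2
    rw [lin_e3] at hx3 hy3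
    simp only at hx1 hx2 hx3 hy1 hy2 hy3
    refine ⟨((y * x⁻¹ : M) : G), (y * x⁻¹).2, ?_, ?_, ?_⟩
    · have : (y * x⁻¹) * w p * (y * x⁻¹)⁻¹ = w p' := by
        rw [← hx1, ← hy1]; group
      exact congrArg Subtype.val this
    · have : (y * x⁻¹) * w q * (y * x⁻¹)⁻¹ = w q' := by
        rw [← hx2, ← hy2]; group
      exact congrArg Subtype.val this
    · have : (y * x⁻¹) * w r * (y * x⁻¹)⁻¹ = w r' := by
        rw [← hx3, ← hy3]; group
      exact congrArg Subtype.val this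

variable [Finite G] {M T S : Subgroup G}

theorem map_o2 (M : Subgroup G) : ((o2 M).subgroupOf M).map M.subtype = o2 M := by
  rw [subgroupOf_map_subtype]
  exact inf_eq_left.mpr (map_subtype_le _)

/-- The growing element. -/
theorem exists_grow (h : MaxLocal M T) (hS : IsPGroup 2 S) (hTS : T < S) :
    ∃ t, Grow M (o2 M) T t := by
  obtain ⟨t, -, htM, htN, htt⟩ := h.exists_grow hS hTS
  refine ⟨t, ⟨?_, ?_, h.pT, h.le, h.o2_le_T, ?_, by rwa [pow_two] at htt, htM⟩⟩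
  · intro g hg
    rw [← h.eq]
    exact C2KillT3.mem_normalizer_of hg
  · intro g hg
    refine h.cent_le (mem_centralizer_iff.mpr fun x hx => (hg x hx).symm)
  · intro x hx
    exact (mem_normalizer_iff.mp htN x).mp hx

/-- The centralizer of a central involution is `M`. -/
theorem mem_iff_comm (h : MaxLocal M T) {c : G} (hcc : c * c = 1) (hc1 : c ≠ 1)
    (hcM : ∀ x ∈ M, x * c = c * x) (x : G) : x ∈ M ↔ x * c = c * x := by
  refine ⟨hcM x, fun hx => ?_⟩
  refine h.mem_of_norm (C2Frame.isPGroup_zpowers hcc) (fun h0 => hc1 (zpowers_eq_bot.mp h0)) ?_ ?_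
  · intro y hy
    rw [C2Frame.normalizer_zpowers hcc, mem_centralizer_singleton_iff]
    exact hcM y hy
  · rw [C2Frame.normalizer_zpowers hcc, mem_centralizer_singleton_iff]
    exact hx

/-- **(III)(a)** `Ω₁(O₂(M)) = W × ⟨c⟩`, `c` central in `M`. -/
theorem kill_center (h : MaxLocal M T) (hS : IsPGroup 2 S) (hTS : T < S) {Q W : Subgroup M} {w : T3 → M}
    (hQ : Q = (o2 M).subgroupOf M) (hr : R4 G) (hN : NatMod Q W w)
    (hcomm : ∀ x ∈ Q, ∀ y ∈ Q, x * y = y * x) {c : M} (hcQ : c ∈ Q) (hcW : c ∉ W) (hcc : c * c = 1)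
    (hc : ∀ x : M, x * c = c * x) (hinv : ∀ x ∈ Q, x * x = 1 → x ∈ W ∨ x * c ∈ W)
    (hk : (∀ x ∈ Q, x * x = 1) ∨ ((∃ d ∈ Q, d * d = c) ∧ ∀ x ∈ Q, x * x = 1 ∨ x * x = c)) :
    False := by
  obtain ⟨t, g⟩ := exists_grow h hS hTS
  have hQn : Q.Normal := by
    rw [hQ]
    refine ⟨fun x hx y => ?_⟩
    rw [mem_subgroupOf] at hx ⊢
    exact (mem_normalizer_iff.mp (le_normalizer_o2 M y.2) x).mp hx
  have hn := nat3_of_natMod hN hQn hcomm
  have hQe : Q.map M.subtype = o2 M := by rw [hQ, map_o2]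
  rw [hQe] at hn
  have hmemQ : ∀ x : G, x ∈ o2 M → ∃ y ∈ Q, (y : G) = x := by
    intro x hx
    rw [← hQe] at hx
    exact hx
  have hc1 : (c : G) ≠ 1 := fun h0 => hcW (by
    have : c = 1 := Subtype.ext h0
    rw [this]; exact one_mem _)
  have hcc' : (c : G) * c = 1 := congrArg Subtype.val hcc
  refine false_of_center (c := (c : G)) hn g
    (mem_iff_comm h hcc' hc1 fun x hx => congrArg Subtype.val (hc ⟨x, hx⟩)) ?_ ?_ hcc' ?_ ?_
  · rw [← hQe]; exact ⟨c, hcQ, rfl⟩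
  · rintro ⟨y, hy, he⟩
    exact hcW ((Subtype.ext he : y = c) ▸ hy)
  · intro x hx hxx
    obtain ⟨y, hy, rfl⟩ := hmemQ x hx
    rcases hinv y hy (Subtype.ext hxx) with h1 | h1
    · exact Or.inl ⟨y, h1, rfl⟩
    · exact Or.inr ⟨y * c, h1, rfl⟩
  · rcases hk with hk | ⟨⟨d, hd, hdd⟩, hk⟩
    · refine Or.inl ⟨hr, fun x hx => ?_⟩
      obtain ⟨y, hy, rfl⟩ := hmemQ x hx
      exact congrArg Subtype.val (hk y hy)
    · refine Or.inr ⟨1, le_rfl, ⟨d, ?_, ?_⟩, fun x hx => ?_⟩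
      · rw [← hQe]; exact ⟨d, hd, rfl⟩
      · rw [pow_one, pow_two]
        exact congrArg Subtype.val hdd
      · obtain ⟨y, hy, rfl⟩ := hmemQ x hx
        rw [pow_one, pow_two]
        rcases hk y hy with h1 | h1
        · exact Or.inl (congrArg Subtype.val h1)
        · exact Or.inr (congrArg Subtype.val h1)

/-- If `x ∈ M` interchanges `u` and `u c`, `c` central in `M`, then `u` is not centralised by a Sylow
2-subgroup of `M`. -/
theorem not_fixed {M T : Subgroup G} (hTM : T ≤ M) (hT : ¬ 2 ∣ T.relIndex M) {u c : G}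
    (hcM : ∀ x ∈ M, x * c = c * x) (hcc : c * c = 1) (hc1 : c ≠ 1) {x : G} (hx : x ∈ M)
    (hxu : x * u * x⁻¹ = u * c) (hTu : ∀ y ∈ T, y * u = u * y) : False := by
  have hcx : ∀ g ∈ M, g * c * g⁻¹ = c := fun g hg => by rw [hcM g hg]; group
  have hcan : u ≠ u * c := fun h0 => hc1 (by simpa using h0)
  let C : Subgroup G := M ⊓ centralizer {u}
  let P : Subgroup G :=
    { carrier := {g | g ∈ M ∧ (g * u * g⁻¹ = u ∨ g * u * g⁻¹ = u * c)}
      one_mem' := ⟨one_mem _, Or.inl (by group)⟩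
      mul_mem' := by
        rintro a b ⟨ha, ha'⟩ ⟨hb, hb'⟩
        refine ⟨M.mul_mem ha hb, ?_⟩
        have e : a * b * u * (a * b)⁻¹ = a * (b * u * b⁻¹) * a⁻¹ := by group
        rw [e]
        rcases hb' with hb' | hb'
        · rw [hb']; exact ha'
        · rw [hb']
          have e2 : a * (u * c) * a⁻¹ = (a * u * a⁻¹) * (a * c * a⁻¹) := by group
          rw [e2, hcx a ha]
          rcases ha' with ha' | ha'
          · rw [ha']; exact Or.inr rfl
          · rw [ha', mul_assoc, hcc, mul_one]; exact Or.inl rfl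
      inv_mem' := by
        rintro a ⟨ha, ha'⟩
        refine ⟨M.inv_mem ha, ?_⟩
        have hc' := hcx _ (M.inv_mem ha)
        rcases ha' with ha' | ha'
        · left
          calc a⁻¹ * u * a⁻¹⁻¹ = a⁻¹ * (a * u * a⁻¹) * a := by rw [ha']; group
            _ = u := by group
        · right
          have e1 : u = (a⁻¹ * u * a⁻¹⁻¹) * (a⁻¹ * c * a⁻¹⁻¹) := by
            calc u = a⁻¹ * (a * u * a⁻¹) * a := by group
              _ = a⁻¹ * (u * c) * a := by rw [ha']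
              _ = _ := by group
          rw [hc'] at e1
          calc a⁻¹ * u * a⁻¹⁻¹ = (a⁻¹ * u * a⁻¹⁻¹) * c * c := by rw [mul_assoc _ c c, hcc, mul_one]
            _ = u * c := by rw [← e1] }
  have hmemC : ∀ g, g ∈ C ↔ g ∈ M ∧ g * u = u * g := fun g => by
    rw [mem_inf, mem_centralizer_singleton_iff]
  have hmemP : ∀ g, g ∈ P ↔ g ∈ M ∧ (g * u * g⁻¹ = u ∨ g * u * g⁻¹ = u * c) := fun g => Iff.rfl
  have hCP : C ≤ P := by
    intro g hg
    rw [hmemC] at hg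
    rw [hmemP]
    exact ⟨hg.1, Or.inl (by rw [hg.2]; group)⟩
  have hPM : P ≤ M := fun g hg => hg.1
  have hTC : T ≤ C := fun y hy => (hmemC y).2 ⟨hTM hy, hTu y hy⟩
  have hidx : C.relIndex P = 2 := by
    show (C.subgroupOf P).index = 2
    rw [Subgroup.index_eq_two_iff]
    refine ⟨⟨x, (hmemP x).2 ⟨hx, Or.inr hxu⟩⟩, fun s => ?_⟩
    rw [mem_subgroupOf, mem_subgroupOf, hmemC, hmemC]
    obtain ⟨s, hs⟩ := s
    obtain ⟨hsM, hs'⟩ := (hmemP s).1 hs
    simp only [coe_mul]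
    have h1 : ∀ g : G, g * u = u * g ↔ g * u * g⁻¹ = u := fun g => mul_inv_eq_iff_eq_mul.symm
    rw [h1, h1]
    have e : s * x * u * (s * x)⁻¹ = (s * u * s⁻¹) * c := by
      calc s * x * u * (s * x)⁻¹ = s * (x * u * x⁻¹) * s⁻¹ := by group
        _ = (s * u * s⁻¹) * (s * c * s⁻¹) := by rw [hxu]; group
        _ = _ := by rw [hcx s hsM]
    rw [e]
    rcases hs' with hs' | hs'
    · right
      refine ⟨⟨hsM, hs'⟩, fun h0 => hcan ?_⟩
      rw [hs'] at h0
      exact h0.2.symm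
    · left
      refine ⟨⟨M.mul_mem hsM hx, by rw [hs', mul_assoc, hcc, mul_one]⟩, fun h0 => hcan ?_⟩
      rw [hs'] at h0
      exact h0.2.symm
  apply hT
  have h1 : C.relIndex P * P.relIndex M = C.relIndex M := relIndex_mul_relIndex C P M hCP hPM
  have h2 : T.relIndex C * C.relIndex M = T.relIndex M :=
    relIndex_mul_relIndex T C M hTC (hCP.trans hPM)
  rw [← h2, ← h1, hidx]
  exact Dvd.intro (T.relIndex C * P.relIndex M) (by ring)

/-- **(III)(b)** `O₂(M)` has a central involution `c` of `M` and every other involution `u` of `O₂(M)` is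
conjugate to `u c` in `M`. -/
theorem kill_move (h : MaxLocal M T) (hS : IsPGroup 2 S) (hTS : T < S) {Q : Subgroup M}
    (hQ : Q = (o2 M).subgroupOf M) {c : M} (hc1 : c ≠ 1) (hcc : c * c = 1)
    (hc : ∀ x : M, x * c = c * x)
    (hmove : ∀ u ∈ Q, u * u = 1 → u ≠ 1 → u ≠ c → ∃ x : M, x * u * x⁻¹ = u * c) : False := by
  obtain ⟨t, g⟩ := exists_grow h hS hTS
  have hQe : Q.map M.subtype = o2 M := by rw [hQ, map_o2]
  have hc1' : (c : G) ≠ 1 := fun h0 => hc1 (Subtype.ext h0)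
  have hcc' : (c : G) * c = 1 := congrArg Subtype.val hcc
  have hcM : ∀ x ∈ M, x * (c : G) = c * x := fun x hx => congrArg Subtype.val (hc ⟨x, hx⟩)
  refine false_of_fixed (c := (c : G)) g (fun x hx => (mem_iff_comm h hcc' hc1' hcM x).2 hx)
    (fun x hx => hcM x (h.le hx)) hc1' hcc' ?_
  intro x hx hxx hTx
  by_contra hcon
  push Not at hcon
  rw [← hQe] at hx
  obtain ⟨u, hu, rfl⟩ := hx
  obtain ⟨y, hy⟩ := hmove u hu (Subtype.ext hxx) (fun h0 => hcon.1 (by rw [h0]; rfl))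
    (fun h0 => hcon.2 (by rw [h0]; rfl))
  exact not_fixed h.le h.syl hcM hcc' hc1' y.2 (congrArg Subtype.val hy) hTx

section min

variable {X : Type*} [Group X]

theorem comm_of_pow_seven {y n : X} (hy : y ^ 7 = 1) {k : ℕ} (hk0 : 0 < k) (hk : k < 7)
    (h : y ^ k * n = n * y ^ k) : y * n = n * y := by
  have h1 : y ^ k ∈ centralizer ({n} : Set X) := mem_centralizer_singleton_iff.2 h
  have h2 : y ∈ centralizer ({n} : Set X) := by
    have e : ∀ a b c : ℕ, a * b = 7 * c + 1 → (y ^ a) ^ b = y := by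
      intro a b c habc
      rw [← pow_mul, habc, pow_succ, pow_mul, hy, one_pow, one_mul]
    interval_cases k
    · rw [← e 1 1 0 rfl]; exact pow_mem h1 _
    · rw [← e 2 4 1 rfl]; exact pow_mem h1 _
    · rw [← e 3 5 2 rfl]; exact pow_mem h1 _
    · rw [← e 4 2 1 rfl]; exact pow_mem h1 _
    · rw [← e 5 3 2 rfl]; exact pow_mem h1 _
    · rw [← e 6 6 5 rfl]; exact pow_mem h1 _
  exact mem_centralizer_singleton_iff.1 h2

theorem conj_pow_inj {y n : X} (hy : y ^ 7 = 1) (hn : y * n ≠ n * y) {i j : ℕ} (hi : i < 7) (hj : j < 7)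
    (h : y ^ i * n * (y ^ i)⁻¹ = y ^ j * n * (y ^ j)⁻¹) : i = j := by
  wlog hij : i < j with H
  · rcases Nat.lt_or_ge i j with h1 | h1
    · exact H hy hn hi hj h h1
    rcases h1.eq_or_lt with h2 | h2
    · exact h2.symm
    · exact (H hy hn hj hi h.symm h2).symm
  exfalso
  apply hn
  refine comm_of_pow_seven hy (k := j - i) (by omega) (by omega) ?_
  have e : y ^ j = y ^ i * y ^ (j - i) := by rw [← pow_add]; congr 1; omega
  rw [e] at h
  have h1 : n = y ^ (j - i) * n * (y ^ (j - i))⁻¹ := by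
    calc n = (y ^ i)⁻¹ * (y ^ i * n * (y ^ i)⁻¹) * y ^ i := by group
      _ = (y ^ i)⁻¹ * (y ^ i * y ^ (j - i) * n * (y ^ i * y ^ (j - i))⁻¹) * y ^ i := by rw [h]
      _ = _ := by group
  exact (mul_inv_eq_iff_eq_mul.1 h1.symm)

/-- Elements of order 7 on elementary abelian groups of order 16. -/
theorem exists_range [Finite X] {W : Subgroup X} (hW16 : Nat.card W = 16) (hsq : ∀ v ∈ W, v * v = 1)
    {c y : X} (hyW : ∀ v ∈ W, y * v * y⁻¹ ∈ W) (hcW : c ∈ W) (hyc : y * c = c * y) (hc1 : c ≠ 1)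
    (hy : y ^ 7 = 1) (hne : ∃ v ∈ W, y * v ≠ v * y) :
    ∃ N : Subgroup X, N ≤ W ∧ Nat.card N = 8 ∧ c ∉ N ∧ (∀ n ∈ N, y * n = n * y → n = 1) ∧
      (∀ v ∈ W, v ∉ N → v * c ∈ N) ∧
      ∀ n ∈ N, n ≠ 1 → ∀ m ∈ N, m ≠ 1 → ∃ i : ℕ, m = y ^ i * n * (y ^ i)⁻¹ := by
  have hcomm := comm_of_sq_one hsq
  let φ : W →* W :=
    { toFun := fun v => ⟨y * v * y⁻¹ * (v : X)⁻¹, W.mul_mem (hyW v v.2) (W.inv_mem v.2)⟩
      map_one' := Subtype.ext (by simp)
      map_mul' := by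
        intro a b
        apply Subtype.ext
        simp only [coe_mul]
        have h1 := hcomm _ (W.mul_mem (hyW b b.2) (W.inv_mem b.2)) _ (W.inv_mem a.2)
        calc y * ((a : X) * b) * y⁻¹ * ((a : X) * b)⁻¹
            = (y * a * y⁻¹) * ((y * b * y⁻¹ * (b : X)⁻¹) * (a : X)⁻¹) := by group
          _ = (y * a * y⁻¹) * ((a : X)⁻¹ * (y * b * y⁻¹ * (b : X)⁻¹)) := by rw [h1]
          _ = _ := by group }
  have hφ : ∀ v : W, (φ v : X) = y * v * y⁻¹ * (v : X)⁻¹ := fun _ => rfl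
  let N : Subgroup X := φ.range.map W.subtype
  have hNW : N ≤ W := map_subtype_le _
  have hmemN : ∀ n, n ∈ N ↔ ∃ v ∈ W, n = y * v * y⁻¹ * v⁻¹ := by
    intro n
    constructor
    · rintro ⟨_, ⟨v, rfl⟩, rfl⟩
      exact ⟨v, v.2, rfl⟩
    · rintro ⟨v, hv, rfl⟩
      exact ⟨_, ⟨⟨v, hv⟩, rfl⟩, rfl⟩
  -- no fixed points
  have hfix : ∀ n ∈ N, y * n = n * y → n = 1 := by
    intro n hn hyn
    obtain ⟨v, hv, e⟩ := (hmemN n).1 hn
    have h1 : y * v * y⁻¹ = n * v := by rw [e]; group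
    have h2 : ∀ k : ℕ, y ^ k * v * (y ^ k)⁻¹ = n ^ k * v := by
      intro k
      induction k with
      | zero => simp
      | succ k ih =>
        have hy' : y * n ^ k * y⁻¹ = n ^ k := by
          have : Commute y (n ^ k) := (show Commute y n from hyn).pow_right k
          rw [this.eq]; group
        calc y ^ (k + 1) * v * (y ^ (k + 1))⁻¹ = y * (y ^ k * v * (y ^ k)⁻¹) * y⁻¹ := by
              rw [pow_succ']; group
          _ = (y * n ^ k * y⁻¹) * (y * v * y⁻¹) := by rw [ih]; group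
          _ = n ^ k * (n * v) := by rw [hy', h1]
          _ = n ^ (k + 1) * v := by rw [pow_succ]; group
    have h3 := h2 7
    rw [hy] at h3
    have h4 : n ^ 7 = 1 := by
      have : v = n ^ 7 * v := by simpa using h3
      exact (right_eq_mul.mp this)
    have h5 : n * n = 1 := hsq n (hNW hn)
    calc n = n ^ 7 * ((n * n) * (n * n) * (n * n))⁻¹ := by group
      _ = 1 := by rw [h4, h5]; group
  have hyN : ∀ n ∈ N, y * n * y⁻¹ ∈ N := by
    intro n hn
    obtain ⟨v, hv, rfl⟩ := (hmemN n).1 hn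
    exact (hmemN _).2 ⟨y * v * y⁻¹, hyW v hv, by group⟩
  have hyNk : ∀ k : ℕ, ∀ n ∈ N, y ^ k * n * (y ^ k)⁻¹ ∈ N := by
    intro k
    induction k with
    | zero => intro n hn; simpa using hn
    | succ k ih =>
      intro n hn
      have := hyN _ (ih n hn)
      have e : y ^ (k + 1) * n * (y ^ (k + 1))⁻¹ = y * (y ^ k * n * (y ^ k)⁻¹) * y⁻¹ := by
        rw [pow_succ']; group
      rwa [e]
  have hcN : c ∉ N := fun hc => hc1 (hfix c hc hyc)
  -- the orbit of a nontrivial element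
  have horb : ∀ n ∈ N, n ≠ 1 → (Set.range fun i : Fin 7 => y ^ (i : ℕ) * n * (y ^ (i : ℕ))⁻¹) ⊆
      (N : Set X) \ {1} := by
    rintro n hn hn1 _ ⟨i, rfl⟩
    refine ⟨hyNk _ _ hn, fun h0 => hn1 ?_⟩
    have h0' : y ^ (i : ℕ) * n * (y ^ (i : ℕ))⁻¹ = 1 := h0
    calc n = (y ^ (i : ℕ))⁻¹ * (y ^ (i : ℕ) * n * (y ^ (i : ℕ))⁻¹) * y ^ (i : ℕ) := by group
      _ = 1 := by rw [h0']; group
  have hcardorb : ∀ n ∈ N, n ≠ 1 →
      (Set.range fun i : Fin 7 => y ^ (i : ℕ) * n * (y ^ (i : ℕ))⁻¹).ncard = 7 := by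
    intro n hn hn1
    rw [← Set.image_univ, Set.ncard_image_of_injective, Set.ncard_univ, Nat.card_eq_fintype_card,
      Fintype.card_fin]
    intro i j hij
    exact Fin.ext (conj_pow_inj hy (fun h0 => hn1 (hfix n hn h0)) i.2 j.2 hij)
  have hdiff : ((N : Set X) \ {1}).ncard = Nat.card N - 1 := by
    rw [Set.ncard_sdiff (by simpa using one_mem N) (Set.toFinite _), Set.ncard_singleton]
    rfl
  -- the order of `N`
  have hN1 : ∃ n ∈ N, n ≠ 1 := by
    obtain ⟨v, hv, hv'⟩ := hne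
    refine ⟨_, (hmemN _).2 ⟨v, hv, rfl⟩, fun h0 => hv' ?_⟩
    exact mul_inv_eq_iff_eq_mul.1 (mul_inv_eq_one.1 h0)
  have hN8 : 8 ≤ Nat.card N := by
    obtain ⟨n, hn, hn1⟩ := hN1
    have h1 := Set.ncard_le_ncard (horb n hn hn1) (Set.toFinite _)
    rw [hcardorb n hn hn1, hdiff] at h1
    omega
  have hNne : Nat.card N ≠ 16 := by
    intro h0
    have : N = W := Subgroup.eq_of_le_of_card_ge hNW (by rw [h0, hW16])
    exact hcN (this ▸ hcW)
  have hNdvd : Nat.card N ∣ 16 := hW16 ▸ card_dvd_of_le hNW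
  have hNc : Nat.card N = 8 := by
    have h1 := Nat.le_of_dvd (by norm_num) hNdvd
    interval_cases hcN : Nat.card N <;> omega
  refine ⟨N, hNW, hNc, hcN, hfix, ?_, ?_⟩
  · intro v hv hvN
    exact mul_mem_of_card hNW (by rw [hW16, hNc]) hv hcW hvN hcN
  · intro n hn hn1 m hm hm1
    have h1 := Set.eq_of_subset_of_ncard_le (horb n hn hn1)
      (by rw [hcardorb n hn hn1, hdiff, hNc]) (Set.toFinite _)
    have h2 : m ∈ (N : Set X) \ {1} := ⟨hm, hm1⟩
    rw [← h1] at h2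
    obtain ⟨i, hi⟩ := h2
    exact ⟨i, hi.symm⟩

/-- In type `1\3` every element of `W - ⟨c⟩` is conjugate to its product with `c`. -/
theorem move_of_min [Finite X] {W : Subgroup X} (hWn : W.Normal) (hW16 : Nat.card W = 16)
    (hsq : ∀ v ∈ W, v * v = 1) {c y : X} (hcW : c ∈ W) (hc : ∀ x, x * c = c * x) (hc1 : c ≠ 1)
    (hy : y ^ 7 = 1) (hne : ∃ v ∈ W, y * v ≠ v * y)
    (hmin : ∀ N : Subgroup X, N.Normal → N ≤ W → N ≠ W → ∀ n ∈ N, y * n = n * y)
    {u : X} (hu : u ∈ W) (hu1 : u ≠ 1) (huc : u ≠ c) : ∃ x, x * u * x⁻¹ = u * c := by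
  obtain ⟨N, hNW, hN8, hcN, hfix, hcos, horb⟩ := exists_range hW16 hsq
    (fun v hv => hWn.conj_mem v hv y) hcW (hc y) hc1 hy hne
  have hcc := hsq c hcW
  have hcx : ∀ x : X, x * c * x⁻¹ = c := fun x => by rw [hc x]; group
  by_contra hcon
  push Not at hcon
  -- the representative in `N`
  obtain ⟨n, hn, hn1, hnc⟩ : ∃ n ∈ N, n ≠ 1 ∧ ∀ x, x * n * x⁻¹ ≠ n * c := by
    by_cases huN : u ∈ N
    · exact ⟨u, huN, hu1, hcon⟩
    · refine ⟨u * c, hcos u hu huN, fun h0 => huc ?_, fun x h0 => hcon x ?_⟩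
      · calc u = u * c * c := by rw [mul_assoc, hcc, mul_one]
          _ = c := by rw [h0, one_mul]
      · have e : x * (u * c) * x⁻¹ = (x * u * x⁻¹) * c := by
          calc x * (u * c) * x⁻¹ = (x * u * x⁻¹) * (x * c * x⁻¹) := by group
            _ = _ := by rw [hcx]
        rw [e, mul_assoc u, hcc, mul_one] at h0
        calc x * u * x⁻¹ = (x * u * x⁻¹) * c * c := by rw [mul_assoc _ c c, hcc, mul_one]
          _ = u * c := by rw [h0]
  have hcl : ∀ x : X, x * n * x⁻¹ ∈ N := by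
    intro x
    by_contra hm
    have h1 := hcos _ (hWn.conj_mem n (hNW hn) x) hm
    have h2 : x * n * x⁻¹ * c ≠ 1 := by
      intro h0
      have h3 : x * n * x⁻¹ = c := by
        calc x * n * x⁻¹ = x * n * x⁻¹ * c * c := by rw [mul_assoc _ c c, hcc, mul_one]
          _ = c := by rw [h0, one_mul]
      have h4 : n = c := by
        calc n = x⁻¹ * (x * n * x⁻¹) * x := by group
          _ = x⁻¹ * c * x := by rw [h3]
          _ = c := by
            have := hcx x⁻¹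
            rwa [inv_inv] at this
      exact hcN (h4 ▸ hn)
    obtain ⟨i, hi⟩ := horb n hn hn1 _ h1 h2
    refine hnc ((y ^ i)⁻¹ * x) ?_
    have h5 : x * n * x⁻¹ = y ^ i * n * (y ^ i)⁻¹ * c := by
      calc x * n * x⁻¹ = x * n * x⁻¹ * c * c := by rw [mul_assoc _ c c, hcc, mul_one]
        _ = _ := by rw [hi]
    calc (y ^ i)⁻¹ * x * n * ((y ^ i)⁻¹ * x)⁻¹ = (y ^ i)⁻¹ * (x * n * x⁻¹) * y ^ i := by group
      _ = (y ^ i)⁻¹ * (y ^ i * n * (y ^ i)⁻¹ * c) * y ^ i := by rw [h5]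
      _ = n * ((y ^ i)⁻¹ * c * y ^ i) := by group
      _ = n * c := by
        have := hcx (y ^ i)⁻¹
        rw [inv_inv] at this
        rw [this]
  have hNn : N.Normal := by
    refine ⟨fun m hm x => ?_⟩
    by_cases hm1 : m = 1
    · rw [hm1]; simpa using one_mem N
    obtain ⟨i, rfl⟩ := horb n hn hn1 m hm hm1
    have := hcl (x * y ^ i)
    have e : x * (y ^ i * n * (y ^ i)⁻¹) * x⁻¹ = x * y ^ i * n * (x * y ^ i)⁻¹ := by group
    rwa [e]
  have hNeq : N ≠ W := fun h0 => by rw [h0, hW16] at hN8; omega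
  exact hn1 (hfix n hn (hmin N hNn hNW hNeq n hn))

end min

/-- **(III)(b)** `O₂(M) = W` of type `1\3`. -/
theorem kill_fixed (h : MaxLocal M T) (hS : IsPGroup 2 S) (hTS : T < S) {Q : Subgroup M}
    (hQ : Q = (o2 M).subgroupOf M) (hQ16 : Nat.card Q = 16) (hsq : ∀ v ∈ Q, v * v = 1) {c y : M}
    (hcQ : c ∈ Q) (hc : ∀ x : M, x * c = c * x) (hc1 : c ≠ 1) (hy : y ^ 7 = 1)
    (hne : ∃ v ∈ Q, y * v ≠ v * y)
    (hmin : ∀ N : Subgroup M, N.Normal → N ≤ Q → N ≠ Q → ∀ n ∈ N, y * n = n * y) : False := by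
  have hQn : Q.Normal := by
    rw [hQ]
    refine ⟨fun x hx y => ?_⟩
    rw [mem_subgroupOf] at hx ⊢
    exact (mem_normalizer_iff.mp (le_normalizer_o2 M y.2) x).mp hx
  exact kill_move h hS hTS hQ hc1 (hsq c hcQ) hc fun u hu _ hu1 huc =>
    move_of_min hQn hQ16 hsq hcQ hc hc1 hy hne hmin hu hu1 huc

section ut

/-- unitriangular matrices -/
def ut (i j k : ZMod 2) : M3 := (e1, (i, 1, 0), (j, k, 1))

theorem ut_mul : ∀ i j k i' j' k' : ZMod 2,
    cmp (ut i j k) (ut i' j' k') = ut (i + i') (j + j' + k' * i) (k + k') := by decide +kernel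

variable {X : Type*} [Group X]

theorem ut_inv : ∀ i j k : ZMod 2, cmp (ut i j k) (ut i (j + k * i) k) = idm := by decide

theorem ut_bas : ∀ i j k : ZMod 2, IsBas (ut i j k) := by decide

theorem ut_four : ∀ i j k : ZMod 2, ut (i + i + (i + i)) (j + j + k * i + (j + j + k * i) +
    (k + k) * (i + i)) (k + k + (k + k)) = idm := by decide

theorem ut_ne : C2ThreeNat.cmp (ut 0 0 1) (ut 1 0 0) ≠ C2ThreeNat.cmp (ut 1 0 0) (ut 0 0 1) := by
  decide

/-- The unitriangular elements. -/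
def utGroup {V : Subgroup X} {w : T3 → X} (_ : Coord V w) : Subgroup X where
  carrier := {x | ∃ i j k, Acts w x (ut i j k)}
  one_mem' := ⟨0, 0, 0, Acts.one w⟩
  mul_mem' := by
    rintro a b ⟨i, j, k, ha⟩ ⟨i', j', k', hb⟩
    have h1 := ha.mul hb
    rw [ut_mul] at h1
    exact ⟨_, _, _, h1⟩
  inv_mem' := by
    rintro a ⟨i, j, k, ha⟩
    exact ⟨_, _, _, ha.inv (ut_inv i j k)⟩

theorem isPGroup_ut {Q V : Subgroup X} {w : T3 → X} (h : NatMod Q V w) (hQ : IsPGroup 2 Q) :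
    IsPGroup 2 (utGroup h.coord) := by
  rintro ⟨x, i, j, k, hx⟩
  have h1 : x ^ 4 ∈ Q := by
    have h2 := (hx.mul hx).mul (hx.mul hx)
    rw [ut_mul, ut_mul] at h2
    have e : x ^ 4 = x * x * (x * x) := by rw [pow_succ, pow_succ, pow_two, mul_assoc]
    rw [e, h.mem_iff h2]
    exact ut_four i j k
  obtain ⟨n, hn⟩ := hQ ⟨_, h1⟩
  refine ⟨n + 2, Subtype.ext ?_⟩
  have h3 : (x ^ 4) ^ 2 ^ n = 1 := congrArg Subtype.val hn
  show x ^ 2 ^ (n + 2) = 1
  rw [← pow_mul] at h3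
  rw [← h3]
  congr 1
  ring

/-- A Sylow 2-subgroup is not abelian modulo `Q`. -/
theorem exists_comm_not_mem [Finite X] {Q V : Subgroup X} {w : T3 → X} (h : NatMod Q V w)
    (hQn : Q.Normal) (hQ : IsPGroup 2 Q) (P : Sylow 2 X) :
    ∃ a ∈ P, ∃ b ∈ P, a * b * a⁻¹ * b⁻¹ ∉ Q := by
  have : Fact (Nat.Prime 2) := ⟨Nat.prime_two⟩
  obtain ⟨P', hP'⟩ := (isPGroup_ut h hQ).exists_le_sylow
  obtain ⟨g, hg⟩ := MulAction.exists_smul_eq X P' P
  have hgP : ∀ x ∈ (P' : Subgroup X), g * x * g⁻¹ ∈ P := by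
    intro x hx
    have h4 : g * x * g⁻¹ ∈ ((g • P' : Sylow 2 X) : Subgroup X) := by
      rw [Sylow.coe_subgroup_smul]
      exact ⟨x, hx, rfl⟩
    rw [hg] at h4
    exact h4
  obtain ⟨a, ha⟩ := h.real _ (ut_bas 1 0 0)
  obtain ⟨b, hb⟩ := h.real _ (ut_bas 0 0 1)
  refine ⟨g * a * g⁻¹, hgP a (hP' ⟨_, _, _, ha⟩), g * b * g⁻¹, hgP b (hP' ⟨_, _, _, hb⟩), ?_⟩
  intro hc
  have h1 : a * b * a⁻¹ * b⁻¹ ∈ Q := by
    have h2 := hQn.conj_mem _ hc g⁻¹
    have e : g⁻¹ * (g * a * g⁻¹ * (g * b * g⁻¹) * (g * a * g⁻¹)⁻¹ * (g * b * g⁻¹)⁻¹) * g⁻¹⁻¹ =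
      a * b * a⁻¹ * b⁻¹ := by group
    rwa [e] at h2
  have h2 : Acts w (a * b * a⁻¹ * b⁻¹ * (b * a)) (cmp (ut 0 0 1) (ut 1 0 0)) :=
    h.acts_mul_left (hb.mul ha) h1
  have h3 : Acts w (a * b * a⁻¹ * b⁻¹ * (b * a)) (cmp (ut 1 0 0) (ut 0 0 1)) := by
    have e : a * b * a⁻¹ * b⁻¹ * (b * a) = a * b := by group
    rw [e]
    exact ha.mul hb
  exact ut_ne (h2.unique h.coord h3)

end ut

/-- The order of the stabiliser of a point in a transitive action by conjugation. -/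
theorem card_orbit {X : Type*} [Group X] [Finite X] {s : Set X} {x : X} (hx : x ∈ s)
    (hs : ∀ g : X, ∀ y ∈ s, g * y * g⁻¹ ∈ s) (ht : ∀ y ∈ s, ∃ g : X, g * x * g⁻¹ = y) :
    Nat.card (centralizer ({x} : Set X)) * s.ncard = Nat.card X := by
  let f : X ⧸ centralizer ({x} : Set X) → s := fun q => Quotient.liftOn' q
    (fun g => ⟨g * x * g⁻¹, hs g x hx⟩) (fun a b hab => Subtype.ext (by
      have h1 := mem_centralizer_singleton_iff.1 (QuotientGroup.leftRel_apply.1 hab)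
      calc a * x * a⁻¹ = a * (x * (a⁻¹ * b)) * b⁻¹ := by group
        _ = a * (a⁻¹ * b * x) * b⁻¹ := by rw [h1]
        _ = b * x * b⁻¹ := by group))
  have hf : Function.Bijective f := by
    constructor
    · intro a b
      refine Quotient.inductionOn₂' a b ?_
      intro a b hab
      have h1 : a * x * a⁻¹ = b * x * b⁻¹ := congrArg Subtype.val hab
      refine QuotientGroup.eq.2 (mem_centralizer_singleton_iff.2 ?_)
      calc a⁻¹ * b * x = a⁻¹ * (b * x * b⁻¹) * b := by group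
        _ = a⁻¹ * (a * x * a⁻¹) * b := by rw [h1]
        _ = x * (a⁻¹ * b) := by group
    · rintro ⟨y, hy⟩
      obtain ⟨g, hg⟩ := ht y hy
      exact ⟨(g : X ⧸ centralizer ({x} : Set X)), Subtype.ext hg⟩
  have h1 : Nat.card (X ⧸ centralizer ({x} : Set X)) = s.ncard := Nat.card_eq_of_bijective f hf
  rw [← h1, mul_comm]
  exact (centralizer ({x} : Set X)).card_eq_card_quotient_mul_card_subgroup.symm

/-- **(III)(c)** `W < O₂(M)` of order 16, `M` transitive on `O₂(M) - W`. -/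
theorem kill_three_one (h : MaxLocal M T) (hS : IsPGroup 2 S) (hTS : T < S) {Q W : Subgroup M}
    {w : T3 → M} (hQ : Q = (o2 M).subgroupOf M) (hidx : Q.index = 168) (hN : NatMod Q W w)
    (hQ16 : Nat.card Q = 16) (hsq : ∀ x ∈ Q, x * x = 1)
    (htr : ∀ u ∈ Q, u ∉ W → ∀ v ∈ Q, v ∉ W → ∃ x : M, x * u * x⁻¹ = v) : False := by
  have : Fact (Nat.Prime 2) := ⟨Nat.prime_two⟩
  obtain ⟨t, g⟩ := exists_grow h hS hTS
  have hQn : Q.Normal := by
    rw [hQ]
    refine ⟨fun x hx y => ?_⟩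
    rw [mem_subgroupOf] at hx ⊢
    exact (mem_normalizer_iff.mp (le_normalizer_o2 M y.2) x).mp hx
  have hcomm := comm_of_sq_one hsq
  have hn := nat3_of_natMod hN hQn hcomm
  have hQe : Q.map M.subtype = o2 M := by rw [hQ, map_o2]
  rw [hQe] at hn
  have hmemQ : ∀ x : G, x ∈ o2 M → ∃ y ∈ Q, (y : G) = x := by
    intro x hx
    rw [← hQe] at hx
    exact hx
  have hQ2 : IsPGroup 2 Q := by
    rintro ⟨x, hx⟩
    exact ⟨1, Subtype.ext (by rw [pow_one, pow_two]; exact hsq x hx)⟩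
  have hcM : Nat.card M = 2688 := by
    rw [← Q.card_mul_index, hQ16, hidx]
  have hW8 : Nat.card W = 8 := hN.coord.card
  -- the order of a 2-subgroup
  have htwo : ∀ {A : Subgroup G}, IsPGroup 2 A → ∀ {k m : ℕ}, Nat.card A ∣ 2 ^ k * m → Odd m →
      Nat.card A ≤ 2 ^ k := by
    intro A hA k m hd hm
    obtain ⟨n, hn⟩ := IsPGroup.iff_card.mp hA
    rw [hn] at hd ⊢
    have h1 : Nat.Coprime (2 ^ n) m := Nat.Coprime.pow_left n (Nat.coprime_two_left.2 hm)
    exact Nat.le_of_dvd (by positivity) (h1.dvd_of_dvd_mul_right hd)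
  have hT128 : Nat.card T ≤ 128 := by
    have h1 : Nat.card T ∣ 2 ^ 7 * 21 := by
      have := card_dvd_of_le h.le
      rw [hcM] at this
      exact this
    exact htwo h.pT h1 (by decide)
  have hc16 : Nat.card (o2 M) = 16 := by
    rw [← hQe, card_map_of_injective M.subtype_injective, hQ16]
  refine false_of_three_one hn g hc16 ?_ ?_ hT128 ?_
  · intro x hx
    obtain ⟨y, hy, rfl⟩ := hmemQ x hx
    exact congrArg Subtype.val (hsq y hy)
  · intro x hx hxW y hy hyx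
    obtain ⟨u, hu, rfl⟩ := hmemQ x hx
    have huW : u ∉ W := fun h0 => hxW ⟨u, h0, rfl⟩
    by_contra hyQ
    -- the centralizer of `u` in `M` has order 336
    have hcard := card_orbit (s := (Q : Set M) \ (W : Set M)) (x := u) ⟨hu, huW⟩
      (fun g v hv => ⟨hQn.conj_mem v hv.1 g, fun h0 => hv.2 (by
        have h2 : g * v * g⁻¹ ∈ W := h0
        have h3 := hN.normal.conj_mem _ h2 g⁻¹
        have e : g⁻¹ * (g * v * g⁻¹) * g⁻¹⁻¹ = v := by group
        rw [e] at h3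
        exact h3)⟩)
      (fun v hv => htr u hu huW v hv.1 hv.2)
    have hd : ((Q : Set M) \ (W : Set M)).ncard = 8 := by
      have h1 : (Q : Set M).ncard = 16 := hQ16
      have h2 : (W : Set M).ncard = 8 := hW8
      rw [Set.ncard_sdiff hN.le (Set.toFinite _), h1, h2]
    rw [hd, hcM] at hcard
    have h336 : Nat.card (centralizer ({u} : Set M)) = 336 := by omega
    -- the 2-group `Q ⟨y⟩`
    set C : Subgroup G := (centralizer ({u} : Set M)).map M.subtype with hC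
    have hCc : Nat.card C = 336 := by rw [hC, card_map_of_injective M.subtype_injective, h336]
    let R : Subgroup G := T ⊓ C
    have hR2 : IsPGroup 2 R := h.pT.to_le inf_le_left
    have hR16 : Nat.card R ≤ 16 := by
      have h1 : Nat.card R ∣ 2 ^ 4 * 21 := by
        have := card_dvd_of_le (inf_le_right : R ≤ C)
        rw [hCc] at this
        exact this
      exact htwo hR2 h1 (by decide)
    have hQR : o2 M ≤ R := by
      intro q hq
      refine ⟨h.o2_le_T hq, ?_⟩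
      obtain ⟨v, hv, rfl⟩ := hmemQ q hq
      exact ⟨v, mem_centralizer_singleton_iff.2 (hcomm v hv u hu), rfl⟩
    have hRQ : R = o2 M := (Subgroup.eq_of_le_of_card_ge hQR (by rw [hc16]; exact hR16)).symm
    apply hyQ
    rw [← hRQ]
    exact ⟨hy, ⟨⟨y, h.le hy⟩, mem_centralizer_singleton_iff.2 (Subtype.ext hyx), rfl⟩⟩
  · -- a Sylow subgroup of `M`
    have hT'2 : IsPGroup 2 (T.subgroupOf M) := h.pT.comap_subtype
    have hT'i : ¬ 2 ∣ (T.subgroupOf M).index := h.syl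
    obtain ⟨a, ha, b, hb, hab⟩ := exists_comm_not_mem hN hQn hQ2 (hT'2.toSylow hT'i)
    refine ⟨a, ha, b, hb, fun h0 => hab ?_⟩
    obtain ⟨v, hv, he⟩ := hmemQ _ h0
    have : v = a * b * a⁻¹ * b⁻¹ := Subtype.ext he
    rwa [← this]

end Cfsg.Agent.GH.C2SevenKill
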