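import Mathlib
import Cfsg.Agent.GH.C2ThreeK0

/-!
# GH-C2 (T3), statement ONE: the central cases

`SS Q π w e`: `ker π` is central, `Q / ker π` is the natural module with coordinates `w`, `e` is
a lift of `w e1` commuting with the transvections of centre `w e1`.  `SS.kill`: sectional rank ≥ 5.
-/

set_option autoImplicit false
set_option maxHeartbeats 800000

namespace Cfsg.Agent.GH.C2ThreeOne

open Subgroup Cfsg.Agent.TwoFusion.SectionalRank Cfsg.Agent.GH.C2Base Cfsg.Agent.GH.C2Five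
open Cfsg.Agent.GH.C2ThreeNat Cfsg.Agent.GH.C2ThreeK0

/-- The basic identity for `x, x^d, x^dd`. -/
theorem ident {G : Type*} [Group G] {x d x2 x3 ε ζ : G} (h2 : x2 = d * x * d⁻¹)
    (h3 : x3 = d * x2 * d⁻¹) (hε : ε = x * x2 * x⁻¹ * x2⁻¹) (hζ : ζ = x * x2 * x3)
    (hsd : d * (x * x) = (x * x) * d) (hs2 : x2 * (x * x) = (x * x) * x2)
    (hε1 : x * ε = ε * x) (hζ3 : x3 * ζ = ζ * x3) :
    ε * ε = 1 ∧ x * x * (x * x) * (x * x) = ε * (ζ * ζ) ∧ x2 * x2 = x * x := by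
  have hx2 : x2 * x2 = x * x := by
    calc x2 * x2 = d * (x * x) * d⁻¹ := by rw [h2]; group
      _ = x * x := by rw [hsd]; group
  have hx3 : x3 * x3 = x * x := by
    calc x3 * x3 = d * (x2 * x2) * d⁻¹ := by rw [h3]; group
      _ = d * (x * x) * d⁻¹ := by rw [hx2]
      _ = x * x := by rw [hsd]; group
  have h12 : x * x2 = ε * x2 * x := by rw [hε]; group
  have hεε : ε * ε = 1 := by
    have e1 : x * x * x2 = ε * ε * x2 * (x * x) := by
      calc x * x * x2 = x * (x * x2) := by group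
        _ = x * ε * x2 * x := by rw [h12]; group
        _ = ε * (x * x2) * x := by rw [hε1]; group
        _ = ε * ε * x2 * (x * x) := by rw [h12]; group
    have e2 : ε * ε * (x * x * x2) = 1 * (x * x * x2) := by
      calc ε * ε * (x * x * x2) = ε * ε * (x2 * (x * x)) := by rw [hs2]
        _ = ε * ε * x2 * (x * x) := by group
        _ = x * x * x2 := e1.symm
        _ = 1 * (x * x * x2) := (one_mul _).symm
    exact mul_right_cancel e2
  refine ⟨hεε, ?_, hx2⟩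
  have e3 : (x * x2) * (x * x2) = ε * (x * x) * (x * x) := by
    calc (x * x2) * (x * x2) = ε * x2 * x * (x * x2) := by rw [← h12]
      _ = ε * (x2 * (x * x)) * x2 := by group
      _ = ε * (x * x) * (x2 * x2) := by rw [hs2]; group
      _ = ε * (x * x) * (x * x) := by rw [hx2]
  have e4 : x * x2 = ζ * x3⁻¹ := by rw [hζ]; group
  have e5 : x3⁻¹ * ζ = ζ * x3⁻¹ := by
    calc x3⁻¹ * ζ = x3⁻¹ * (ζ * x3) * x3⁻¹ := by group
      _ = x3⁻¹ * (x3 * ζ) * x3⁻¹ := by rw [hζ3]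
      _ = ζ * x3⁻¹ := by group
  have e6 : (x * x2) * (x * x2) = ζ * ζ * (x * x)⁻¹ := by
    calc (x * x2) * (x * x2) = ζ * (x3⁻¹ * ζ) * x3⁻¹ := by rw [e4]; group
      _ = ζ * ζ * (x3 * x3)⁻¹ := by rw [e5]; group
      _ = ζ * ζ * (x * x)⁻¹ := by rw [hx3]
  rw [e3] at e6
  calc x * x * (x * x) * (x * x) = (ε * ε)⁻¹ * ε * (ε * (x * x) * (x * x)) * (x * x) := by group
    _ = ε * (ζ * ζ) := by rw [e6, hεε]; group

variable {X Y : Type*} [Group X] [Group Y]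

/-- A lift of order 3 modulo a normal 2-subgroup. -/
theorem lift_ord3 (π : X →* Y) (hπ : Function.Surjective π) (hZ : IsPGroup 2 π.ker) {d : Y}
    (hd : d ^ 3 = 1) : ∃ t : X, t ^ 3 = 1 ∧ π t = d := by
  obtain ⟨x, rfl⟩ := hπ d
  have hx3 : x ^ 3 ∈ π.ker := by
    rw [MonoidHom.mem_ker, map_pow]
    exact hd
  obtain ⟨n, hn⟩ := hZ ⟨_, hx3⟩
  have hn' : (x ^ 3) ^ 2 ^ n = 1 := by
    have := congrArg Subtype.val hn
    simpa using this
  refine ⟨x ^ (4 ^ n), ?_, ?_⟩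
  · have e2 : (x ^ 4 ^ n) ^ 3 = ((x ^ 3) ^ 2 ^ n) ^ 2 ^ n := by
      rw [← pow_mul, ← pow_mul, ← pow_mul]
      congr 1
      have : (4 : ℕ) ^ n = 2 ^ n * 2 ^ n := by
        rw [← mul_pow]
        norm_num
      rw [this]
      ring
    rw [e2, hn', one_pow]
  · obtain ⟨k, hk⟩ : ∃ k, 4 ^ n = 3 * k + 1 := by
      refine ⟨(4 ^ n - 1) / 3, ?_⟩
      have h5 : 4 ^ n % 3 = 1 := by
        rw [Nat.pow_mod]
        simp
      generalize 4 ^ n = N at h5 ⊢
      omega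
    rw [hk, map_pow, pow_add, pow_mul, hd, one_pow, one_mul, pow_one]

theorem mem_ker_sup {π : X →* Y} {a e : X} (h : π a ∈ zpowers (π e)) : a ∈ π.ker ⊔ zpowers e := by
  obtain ⟨k, hk⟩ := mem_zpowers_iff.1 h
  have h2 : a * (e ^ k)⁻¹ ∈ π.ker := by
    rw [MonoidHom.mem_ker, map_mul, map_inv, map_zpow, hk, mul_inv_cancel]
  have h3 : a = (a * (e ^ k)⁻¹) * e ^ k := by group
  rw [h3]
  exact mul_mem (mem_sup_left h2) (mem_sup_right (zpow_mem (mem_zpowers e) k))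

/-- `ker π` central, `Q / ker π` natural, `e` a good lift of `w e1`. -/
structure SS (Q : Subgroup X) (π : X →* Y) (w : T3 → Y) (e : X) : Prop where
  two : IsPGroup 2 Q
  surj : Function.Surjective π
  zle : π.ker ≤ Q
  zc : ∀ z ∈ π.ker, ∀ x, x * z = z * x
  nat : NatMod (Q.map π) (Q.map π) w
  ee : π e = w e1
  eR : ∀ (x : X) (i j : ZMod 2), Acts w (π x) (mR i j) → x * e = e * x
  ed : ∀ d : X, d ^ 3 = 1 → Acts w (π d) md → d * e = e * d

namespace SS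

variable {Q : Subgroup X} {π : X →* Y} {w : T3 → Y} {e : X} (h : SS Q π w e)

include h

theorem memQ {x : X} : x ∈ Q ↔ π x ∈ Q.map π := by
  constructor
  · intro hx
    exact ⟨x, hx, rfl⟩
  · rintro ⟨q, hq, hqx⟩
    have h1 : q⁻¹ * x ∈ π.ker := by
      rw [MonoidHom.mem_ker, map_mul, map_inv, hqx, inv_mul_cancel]
    have h2 : x = q * (q⁻¹ * x) := by group
    rw [h2]
    exact Q.mul_mem hq (h.zle h1)

theorem commE {x : X} (hx : x * e = e * x) {a : X} (ha : a ∈ π.ker ⊔ zpowers e) : x * a = a * x := by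
  have h1 : π.ker ⊔ zpowers e ≤ centralizer ({x} : Set X) := by
    refine sup_le (fun z hz => ?_) ?_
    · rw [mem_centralizer_singleton_iff]
      exact (h.zc z hz x).symm
    · rw [zpowers_le, mem_centralizer_singleton_iff]
      exact hx.symm
  exact (mem_centralizer_singleton_iff.1 (h1 ha)).symm

theorem e_mem : e ∈ Q := by
  rw [h.memQ, h.ee]
  exact h.nat.coord.mem_w e1

/-- The triple over `mR 0 1`, `mR 1 0`, `mR 1 1`. -/
theorem trip [Finite X] [Finite Y] {x : X} (hx : Acts w (π x) (mR 0 1)) :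
    ∃ x2 ε ζ : X, Acts w (π x2) (mR 1 0) ∧ x2 * x2 = x * x ∧ x * x ∈ π.ker ⊔ zpowers e ∧
      ε = x * x2 * x⁻¹ * x2⁻¹ ∧ ε ∈ π.ker ⊔ zpowers e ∧ ζ ∈ π.ker ⊔ zpowers e ∧ ε * ε = 1 ∧
      x * x * (x * x) * (x * x) = ε * (ζ * ζ) := by
  have hQ2 : IsPGroup 2 (Q.map π) := h.two.map _
  obtain ⟨d0, hd03, hd0⟩ := h.nat.exists_ord3 hQ2 md_bas md_cube
  obtain ⟨d, hd3, rfl⟩ := lift_ord3 π h.surj (h.two.to_le h.zle) hd03
  have hdi : Acts w (π d)⁻¹ (cmp md md) := hd0.inv md_cube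
  have hconj : ∀ {x : X} {i j : ZMod 2}, Acts w (π x) (mR i j) →
      Acts w (π (d * x * d⁻¹)) (mR (i + j) i) := by
    intro x i j hx
    have h1 := (hd0.mul (hx.mul hdi))
    rw [md_conj, ← mul_assoc, ← map_inv, ← map_mul, ← map_mul] at h1
    exact h1
  have hx2 : Acts w (π (d * x * d⁻¹)) (mR 1 0) := by
    have := hconj hx
    rwa [zero_add] at this
  have hx3 : Acts w (π (d * (d * x * d⁻¹) * d⁻¹)) (mR 1 1) := by
    have := hconj hx2
    rwa [add_zero] at this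
  have hlift : ∀ {a : X}, π a ∈ zpowers (w e1) → a ∈ π.ker ⊔ zpowers e := by
    intro a ha
    rw [← h.ee] at ha
    exact mem_ker_sup ha
  have hs : x * x ∈ π.ker ⊔ zpowers e := hlift (by
    rw [map_mul]
    exact k0_sq h.nat hx hQ2)
  have hε : x * (d * x * d⁻¹) * x⁻¹ * (d * x * d⁻¹)⁻¹ ∈ π.ker ⊔ zpowers e :=
    hlift (by
      rw [map_mul, map_mul, map_mul, map_inv, map_inv]
      exact k0_comm h.nat hx hx2 hQ2)
  have hζ : x * (d * x * d⁻¹) * (d * (d * x * d⁻¹) * d⁻¹) ∈ π.ker ⊔ zpowers e :=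
    hlift (by
      have := k0_prod h.nat hd0 hd03 hx
      simpa only [map_mul, map_inv] using this)
  have hed := h.ed d hd3 hd0
  obtain ⟨i1, i2, i3⟩ := ident (x := x) (d := d) rfl rfl rfl rfl (h.commE hed hs)
    (h.commE (h.eR _ _ _ hx2) hs) (h.commE (h.eR _ _ _ hx) hε) (h.commE (h.eR _ _ _ hx3) hζ)
  exact ⟨_, _, _, hx2, i3, hs, rfl, hε, hζ, i1, i2⟩

/-- The main application: sectional rank at least 5. -/
theorem kill [Finite X] (hr : R4 X) {D : Subgroup X} (hD : ElemSection 2 Q D)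
    (hc : 8 * Nat.card D ≤ Nat.card Q)
    (hcomm : ∀ (x : X) (i j : ZMod 2), Acts w (π x) (mR i j) → ∀ q ∈ Q, x * q * x⁻¹ * q⁻¹ ∈ D)
    {x x2 : X} (hx : Acts w (π x) (mR 0 1)) (hx2 : Acts w (π x2) (mR 1 0))
    (h11 : x * x ∈ D) (h22 : x2 * x2 ∈ D) (h12 : x * x2 * x⁻¹ * x2⁻¹ ∈ D) : False := by
  refine five hr hD hc h11 h22 (hcomm x _ _ hx) (hcomm x2 _ _ hx2) ?_ ?_ ?_ ?_
  · have h3 : x2 * x * x2⁻¹ * x⁻¹ = (x * x2 * x⁻¹ * x2⁻¹)⁻¹ := by group
    rw [h3]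
    exact D.inv_mem h12
  · rw [h.memQ, h.nat.mem_iff hx]
    decide
  · rw [h.memQ, h.nat.mem_iff hx2]
    decide
  · intro h4
    have h5 : Acts w (π (x * x2)) (mR 1 1) := by
      have := hx.mul hx2
      rwa [mR_mul, ← map_mul] at this
    have hs : x * x ∈ Q := hD.le h11
    have h6 : x * x2 ∈ Q := by
      have h7 : x * x2 = (x * x) * (x⁻¹ * x2) := by group
      rw [h7]
      exact Q.mul_mem hs h4
    rw [h.memQ, h.nat.mem_iff h5] at h6
    revert h6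
    decide

end SS

end Cfsg.Agent.GH.C2ThreeOne
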