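import Mathlib
import Cfsg.Agent.GH.C2ThreeOneS

/-!
# GH-C2 (T3), statement ONE: `Q = W × ⟨g⟩` with `g` central

`central_four`: `g² ≠ 1` is impossible; `central_two`: if `g² = 1 ≠ g`, all involutions lie in `Q`.
-/

set_option autoImplicit false
set_option maxHeartbeats 800000

set_option linter.unusedSectionVars false
set_option linter.unusedVariables false

namespace Cfsg.Agent.GH.C2ThreeOne

open Subgroup Cfsg.Agent.TwoFusion.SectionalRank Cfsg.Agent.GH.C2Base Cfsg.Agent.GH.C2Five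
open Cfsg.Agent.GH.C2ThreeNat Cfsg.Agent.GH.C2ThreeK0

variable {X Y : Type*} [Group X] [Group Y]

/-! ### 2-elements and cyclic groups -/

/-- In a 2-group: if `g² ≠ 1` and `g^(2i) = 1`, then `i` is even. -/
theorem even_of_zpow {g : X} {n : ℕ} (hn : g ^ 2 ^ n = 1) (hg : g * g ≠ 1) {i : ℤ}
    (hi : g ^ i * g ^ i = 1) : Even i := by
  by_contra hodd
  rw [Int.not_even_iff_odd] at hodd
  apply hg
  obtain ⟨j, rfl⟩ := hodd
  -- `g² ` has odd order and 2-power order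
  have h1 : (g * g) ^ (2 * j + 1) = 1 := by
    rw [(Commute.refl g).mul_zpow]
    exact hi
  have h2 : (orderOf (g * g) : ℤ) ∣ 2 * j + 1 := orderOf_dvd_iff_zpow_eq_one.2 h1
  have h3 : orderOf (g * g) ∣ 2 ^ n := orderOf_dvd_of_pow_eq_one (by
    rw [(Commute.refl g).mul_pow, hn, one_mul])
  obtain ⟨m, -, hm⟩ := (Nat.dvd_prime_pow Nat.prime_two).1 h3
  rw [← orderOf_eq_one_iff, hm]
  rcases Nat.eq_zero_or_pos m with h4 | h4
  · rw [h4, pow_zero]
  · exfalso
    obtain ⟨k, rfl⟩ := Nat.exists_eq_add_of_le' h4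
    rw [hm] at h2
    have h5 : (2 : ℤ) ∣ ((2 ^ (k + 1) : ℕ) : ℤ) := by
      rw [pow_succ]
      exact ⟨2 ^ k, by push_cast; ring⟩
    have h6 := h5.trans h2
    omega

theorem exists_pow_of_mem {Q : Subgroup X} (hQ : IsPGroup 2 Q) {g : X} (hg : g ∈ Q) :
    ∃ n : ℕ, g ^ 2 ^ n = 1 := by
  obtain ⟨n, hn⟩ := hQ ⟨g, hg⟩
  refine ⟨n, ?_⟩
  have := congrArg Subtype.val hn
  simpa using this

/-- `g ∉ ⟨g²⟩` for a 2-element `g ≠ 1`. -/
theorem not_mem_sq {g : X} {n : ℕ} (hn : g ^ 2 ^ n = 1) (hg : g ≠ 1) : g ∉ zpowers (g * g) := by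
  intro h
  obtain ⟨k, hk⟩ := mem_zpowers_iff.1 h
  apply hg
  -- `g^(2k-1) = 1`
  have h1 : g ^ (2 * k - 1) = 1 := by
    rw [zpow_sub, zpow_mul, zpow_one, zpow_ofNat, pow_two, hk, mul_inv_cancel]
  have h2 : (orderOf g : ℤ) ∣ 2 * k - 1 := orderOf_dvd_iff_zpow_eq_one.2 h1
  have h3 : orderOf g ∣ 2 ^ n := orderOf_dvd_of_pow_eq_one hn
  obtain ⟨m, -, hm⟩ := (Nat.dvd_prime_pow Nat.prime_two).1 h3
  rw [← orderOf_eq_one_iff, hm]
  rcases Nat.eq_zero_or_pos m with h4 | h4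
  · rw [h4, pow_zero]
  · exfalso
    obtain ⟨k, rfl⟩ := Nat.exists_eq_add_of_le' h4
    rw [hm] at h2
    have h5 : (2 : ℤ) ∣ ((2 ^ (k + 1) : ℕ) : ℤ) := by
      rw [pow_succ]
      exact ⟨2 ^ k, by push_cast; ring⟩
    have h6 := h5.trans h2
    omega

theorem two_mul_card_sq [Finite X] {g : X} {n : ℕ} (hn : g ^ 2 ^ n = 1) (hg : g ≠ 1) :
    2 * Nat.card (zpowers (g * g)) ≤ Nat.card (zpowers g) := by
  have hle : zpowers (g * g) ≤ zpowers g := by
    rw [zpowers_le]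
    exact mul_mem (mem_zpowers g) (mem_zpowers g)
  obtain ⟨k, hk⟩ := card_dvd_of_le hle
  have hpos : 0 < Nat.card (zpowers g) := Nat.card_pos
  rcases k with _ | _ | k
  · rw [hk] at hpos
    simp at hpos
  · exfalso
    have h1 : zpowers (g * g) = zpowers g := Subgroup.eq_of_le_of_card_ge hle (by rw [hk]; simp)
    exact not_mem_sq hn hg (h1 ▸ mem_zpowers g)
  · rw [hk, mul_comm]
    exact Nat.mul_le_mul_left _ (by omega)

theorem card_zpowers_le_two {e : X} (he : e * e = 1) : Nat.card (zpowers e) ≤ 2 := by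
  rw [Nat.card_zpowers]
  exact Nat.le_of_dvd (by norm_num) (orderOf_dvd_of_pow_eq_one (by rw [pow_two]; exact he))

theorem card_sup_le [Finite X] (N K : Subgroup X) [N.Normal] :
    Nat.card (N ⊔ K : Subgroup X) ≤ Nat.card K * Nat.card N := by
  have h1 : Nat.card (N ⊔ K : Subgroup X) = N.relIndex (N ⊔ K) * Nat.card N :=
    card_eq_relIndex_mul _ _ le_sup_left
  rw [h1, relIndex_sup_left]
  exact Nat.mul_le_mul_right _ (Nat.le_of_dvd Nat.card_pos (relIndex_dvd_card _ _))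

theorem normal_of_central {g : X} (hg : ∀ x, x * g = g * x) : (zpowers g).Normal := by
  refine ⟨fun z hz x => ?_⟩
  obtain ⟨k, rfl⟩ := mem_zpowers_iff.1 hz
  have h1 : x * g ^ k = g ^ k * x := ((show Commute x g from hg x).zpow_right k)
  rw [h1, mul_inv_cancel_right]
  exact hz

theorem central_sq {g : X} (hg : ∀ x, x * g = g * x) (x : X) : x * (g * g) = (g * g) * x :=
  (show Commute x g from hg x).mul_right (hg x)

/-! ### Fixed vectors -/

theorem exists_move : ∀ p : T3, p = 0 ∨ ∃ m : M3, IsBas m ∧ lin m p ≠ p := by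
  intro p
  revert p
  decide +kernel

theorem mR_add : ∀ (i j : ZMod 2) (p : T3), lin (mR i j) p + p = 0 ∨ lin (mR i j) p + p = e1 := by
  decide

theorem mR_e1 : ∀ (i j : ZMod 2), lin (mR i j) e1 = e1 := by decide

theorem md_e1 : lin md e1 = e1 := by decide

theorem Acts.map {w : T3 → X} {x : X} {m : M3} (h : Acts w x m) (π : X →* Y) :
    Acts (fun p => π (w p)) (π x) m := by
  intro p
  show π x * π (w p) * (π x)⁻¹ = π (w (lin m p))
  rw [← h p, map_mul, map_mul, map_inv]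

section

variable {Q W : Subgroup X} {w : T3 → X} (h : NatMod Q W w) {π : X →* Y}
  (hπ : Function.Surjective π) (hkQ : π.ker ≤ Q) (hkc : ∀ z ∈ π.ker, ∀ x, x * z = z * x)
  (hQW : ∀ q ∈ Q, ∃ v ∈ W, v⁻¹ * q ∈ π.ker)

include h hkc

/-- A central element of `W` is trivial. -/
theorem eq_zero_of_ker {p : T3} (hp : w p ∈ π.ker) : p = 0 := by
  rcases exists_move p with h1 | ⟨m, hm, h1⟩
  · exact h1
  · exfalso
    obtain ⟨x, hx⟩ := h.real m hm
    apply h1
    rw [← hx.comm_iff h.coord]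
    exact hkc _ hp x

include hπ hQW hkQ

theorem nat_map : NatMod (Q.map π) (Q.map π) (fun p => π (w p)) := by
  have hmap : Q.map π = W.map π := by
    apply le_antisymm
    · rintro _ ⟨q, hq, rfl⟩
      obtain ⟨v, hv, hvq⟩ := hQW q hq
      refine ⟨v, hv, ?_⟩
      rw [MonoidHom.mem_ker, map_mul, map_inv] at hvq
      exact inv_mul_eq_one.1 hvq
    · exact map_mono h.le
  have hco : Coord (Q.map π) (fun p => π (w p)) := by
    refine ⟨fun a b => ?_, fun a ha => ?_, fun v => ?_⟩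
    · show π (w (a + b)) = π (w a) * π (w b)
      rw [h.coord.mul, map_mul]
    · exact eq_zero_of_ker h hkc ha
    · rw [hmap]
      constructor
      · rintro ⟨v, hv, rfl⟩
        obtain ⟨a, rfl⟩ := (h.coord.mem v).1 hv
        exact ⟨a, rfl⟩
      · rintro ⟨a, rfl⟩
        exact ⟨_, h.coord.mem_w a, rfl⟩
  refine ⟨?_, le_rfl, hco, fun x => ?_, fun m hm => ?_⟩
  · rw [hmap]
    exact h.normal.map π hπ
  · obtain ⟨x, rfl⟩ := hπ x
    constructor
    · intro hx
      refine ⟨x, (h.cent x).1 fun v hv => ?_, rfl⟩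
      obtain ⟨m, -, hm⟩ := h.acts x
      obtain ⟨p, rfl⟩ := (h.coord.mem v).1 hv
      rw [hm.comm_iff h.coord]
      have h1 := hx (π (w p)) (hco.mem_w p)
      have h2 := (Acts.map hm π).comm_iff hco (p := p)
      exact h2.1 h1
    · rintro ⟨q, hq, hqx⟩ v hv
      rw [← hqx]
      obtain ⟨p, rfl⟩ := (hco.mem v).1 hv
      show π q * π (w p) = π (w p) * π q
      rw [← map_mul, ← map_mul, h.comm_of_mem hq]
  · obtain ⟨x, hx⟩ := h.real m hm
    exact ⟨π x, Acts.map hx π⟩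

theorem acts_of_map {x : X} {m : M3} (hx : Acts (fun p => π (w p)) (π x) m) : Acts w x m := by
  obtain ⟨n, -, hn⟩ := h.acts x
  have h1 := (Acts.map hn π).unique (nat_map h hπ hkQ hkc hQW).coord hx
  rwa [h1] at hn

theorem ss_of (hQ2 : IsPGroup 2 Q) : SS Q π (fun p => π (w p)) (w e1) where
  two := hQ2
  surj := hπ
  zle := hkQ
  zc := hkc
  nat := nat_map h hπ hkQ hkc hQW
  ee := rfl
  eR x i j hx := ((acts_of_map h hπ hkQ hkc hQW hx).comm_iff h.coord).2 (mR_e1 i j)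
  ed d _ hd := ((acts_of_map h hπ hkQ hkc hQW hd).comm_iff h.coord).2 md_e1

end

/-! ### `Q = W × ⟨g⟩`, `g` central -/

structure Cen (Q W : Subgroup X) (w : T3 → X) (g : X) : Prop where
  two : IsPGroup 2 Q
  nat : NatMod Q W w
  gQ : g ∈ Q
  gc : ∀ x, x * g = g * x
  dec : ∀ q ∈ Q, ∃ v ∈ W, ∃ k : ℤ, q = v * g ^ k

namespace Cen

variable {Q W : Subgroup X} {w : T3 → X} {g : X} (h : Cen Q W w g)

include h

theorem change {m : M3} (hm : IsBas m) : Cen Q W (fun p => w (lin m p)) g :=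
  ⟨h.two, h.nat.change hm, h.gQ, h.gc, h.dec⟩

theorem kc {z : X} (hz : z ∈ zpowers g) (x : X) : x * z = z * x := by
  obtain ⟨k, rfl⟩ := mem_zpowers_iff.1 hz
  exact (show Commute x g from h.gc x).zpow_right k

theorem comm {a b : X} (ha : a ∈ Q) (hb : b ∈ Q) : a * b = b * a := by
  obtain ⟨v, hv, k, rfl⟩ := h.dec a ha
  have h1 : v * b = b * v := ((h.nat.cent b).2 hb v hv).symm
  have h2 : b * g ^ k = g ^ k * b := h.kc (zpow_mem (mem_zpowers g) k) b
  calc v * g ^ k * b = v * (b * g ^ k) := by rw [h2]; group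
    _ = b * (v * g ^ k) := by rw [← mul_assoc, h1, mul_assoc]

theorem ss {π : X →* Y} (hπ : Function.Surjective π) (hk : π.ker = zpowers g) :
    SS Q π (fun p => π (w p)) (w e1) := by
  refine ss_of h.nat hπ ?_ ?_ ?_ h.two
  · rw [hk, zpowers_le]
    exact h.gQ
  · intro z hz
    rw [hk] at hz
    exact h.kc hz
  · intro q hq
    obtain ⟨v, hv, k, rfl⟩ := h.dec q hq
    refine ⟨v, hv, ?_⟩
    rw [hk, inv_mul_cancel_left]
    exact zpow_mem (mem_zpowers g) k

theorem inf {p : T3} (hp : w p ∈ zpowers g) : p = 0 := by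
  rcases exists_move p with h1 | ⟨m, hm, h1⟩
  · exact h1
  · exfalso
    obtain ⟨x, hx⟩ := h.nat.real m hm
    apply h1
    rw [← hx.comm_iff h.nat.coord]
    exact h.kc hp x

theorem card_le [Finite X] : 8 * Nat.card (zpowers g) ≤ Nat.card Q := by
  have h8 : Nat.card T3 = 8 := by
    rw [Nat.card_eq_fintype_card]
    decide
  have hle : zpowers g ≤ Q := by
    rw [zpowers_le]
    exact h.gQ
  rw [← h8, ← Nat.card_prod]
  refine Nat.card_le_card_of_injective (fun a : T3 × zpowers g =>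
    (⟨w a.1 * a.2, Q.mul_mem (h.nat.le (h.nat.coord.mem_w _)) (hle a.2.2)⟩ : Q)) ?_
  rintro ⟨a, c, hc⟩ ⟨b, d, hd⟩ hab
  have h1 : w a * c = w b * d := congrArg Subtype.val hab
  have h2 : w (b + a) ∈ zpowers g := by
    have h3 : w (b + a) = d * c⁻¹ := by
      calc w (b + a) = w b * w a := h.nat.coord.mul _ _
        _ = w b * (w a * c) * c⁻¹ := by group
        _ = w b * w b * (d * c⁻¹) := by rw [h1]; group
        _ = d * c⁻¹ := by rw [h.nat.coord.sq, one_mul]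
    rw [h3]
    exact mul_mem hd (inv_mem hc)
  have h3 := h.inf h2
  have h4 : b = a := by
    have h5 : b = b + a + a := by rw [add_assoc, add_self, add_zero]
    rw [h5, h3, zero_add]
  subst h4
  have h5 : c = d := mul_left_cancel h1
  subst h5
  rfl

/-- the subgroup `D = ⟨g², e⟩` -/
def D (w : T3 → X) (g : X) : Subgroup X := zpowers (g * g) ⊔ zpowers (w e1)

theorem e_mem : w e1 ∈ D w g := mem_sup_right (mem_zpowers _)

theorem sq_mem : g * g ∈ D w g := mem_sup_left (mem_zpowers _)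

theorem D_le : D w g ≤ Q := by
  refine sup_le ?_ ?_
  · rw [zpowers_le]
    exact Q.mul_mem h.gQ h.gQ
  · rw [zpowers_le]
    exact h.nat.le (h.nat.coord.mem_w _)

theorem sec : ElemSection 2 Q (D w g) where
  le := h.D_le
  comm a ha b hb := by
    have h1 : a * b * a⁻¹ * b⁻¹ = 1 := by
      rw [h.comm ha hb]
      group
    rw [h1]
    exact one_mem _
  pow a ha := by
    obtain ⟨v, hv, k, rfl⟩ := h.dec a ha
    have h1 : (v * g ^ k) ^ 2 = (g * g) ^ k := by
      have h2 : v * g ^ k = g ^ k * v := h.kc (zpow_mem (mem_zpowers g) k) v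
      rw [pow_two, (Commute.refl g).mul_zpow]
      calc v * g ^ k * (v * g ^ k) = v * (g ^ k * v) * g ^ k := by group
        _ = v * v * (g ^ k * g ^ k) := by rw [← h2]; group
        _ = g ^ k * g ^ k := by rw [h.nat.coord.sq_mem hv, one_mul]
    rw [h1]
    exact mem_sup_left (zpow_mem (mem_zpowers _) k)

theorem card_D [Finite X] (hg1 : g ≠ 1) : 8 * Nat.card (D w g) ≤ Nat.card Q := by
  obtain ⟨n, hn⟩ := exists_pow_of_mem h.two h.gQ
  have h1 := two_mul_card_sq hn hg1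
  have h2 := h.card_le
  have hN : (zpowers (g * g)).Normal := normal_of_central (central_sq h.gc)
  have h3 := card_sup_le (zpowers (g * g)) (zpowers (w e1))
  have h4 := card_zpowers_le_two (h.nat.coord.sq e1)
  have h5 : Nat.card (zpowers (w e1)) * Nat.card (zpowers (g * g)) ≤
      2 * Nat.card (zpowers (g * g)) := Nat.mul_le_mul_right _ h4
  unfold D
  omega

theorem comm_D {x : X} {i j : ZMod 2} (hx : Acts w x (mR i j)) {q : X} (hq : q ∈ Q) :
    x * q * x⁻¹ * q⁻¹ ∈ D w g := by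
  obtain ⟨v, hv, k, rfl⟩ := h.dec q hq
  obtain ⟨p, rfl⟩ := (h.nat.coord.mem v).1 hv
  have h1 : x * g ^ k = g ^ k * x := h.kc (zpow_mem (mem_zpowers g) k) x
  have h2 : x * (w p * g ^ k) * x⁻¹ * (w p * g ^ k)⁻¹ = w (lin (mR i j) p + p) := by
    calc x * (w p * g ^ k) * x⁻¹ * (w p * g ^ k)⁻¹
        = x * w p * (g ^ k * x⁻¹) * (g ^ k)⁻¹ * (w p)⁻¹ := by group
      _ = x * w p * (x⁻¹ * (x * g ^ k) * x⁻¹) * (g ^ k)⁻¹ * (w p)⁻¹ := by group
      _ = (x * w p * x⁻¹) * (w p)⁻¹ := by rw [h1]; group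
      _ = w (lin (mR i j) p + p) := by rw [hx, h.nat.coord.inv, h.nat.coord.mul]
  rw [h2]
  rcases mR_add i j p with h3 | h3
  · rw [h3, h.nat.coord.zero]
    exact one_mem _
  · rw [h3]
    exact e_mem h

/-- Elements of `E = ⟨g, e⟩`. -/
theorem mem_E {a : X} (ha : a ∈ zpowers g ⊔ zpowers (w e1)) :
    ∃ i j : ℤ, a = g ^ i * w e1 ^ j := by
  have hN : (zpowers g).Normal := normal_of_central h.gc
  obtain ⟨b, hb, c, hc, rfl⟩ := mem_sup_of_normal_left.1 ha
  obtain ⟨i, rfl⟩ := mem_zpowers_iff.1 hb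
  obtain ⟨j, rfl⟩ := mem_zpowers_iff.1 hc
  exact ⟨i, j, rfl⟩

theorem E_sq {i j : ℤ} : (g ^ i * w e1 ^ j) * (g ^ i * w e1 ^ j) = g ^ i * g ^ i := by
  have h1 : w e1 ^ j * g ^ i = g ^ i * w e1 ^ j :=
    h.kc (zpow_mem (mem_zpowers g) i) _
  have h2 : w e1 ^ j * w e1 ^ j = 1 := by
    rw [← (Commute.refl (w e1)).mul_zpow, h.nat.coord.sq, one_zpow]
  calc (g ^ i * w e1 ^ j) * (g ^ i * w e1 ^ j) = g ^ i * (w e1 ^ j * g ^ i) * w e1 ^ j := by group
    _ = g ^ i * g ^ i * (w e1 ^ j * w e1 ^ j) := by rw [h1]; group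
    _ = g ^ i * g ^ i := by rw [h2, mul_one]

theorem sq_mem_D {a : X} (ha : a ∈ zpowers g ⊔ zpowers (w e1)) : a * a ∈ D w g := by
  obtain ⟨i, j, rfl⟩ := h.mem_E ha
  rw [h.E_sq, ← (Commute.refl g).mul_zpow]
  exact mem_sup_left (zpow_mem (mem_zpowers _) i)

theorem inv_mem_D {a : X} (hg2 : g * g ≠ 1) (ha : a ∈ zpowers g ⊔ zpowers (w e1)) (haa : a * a = 1) :
    a ∈ D w g := by
  obtain ⟨i, j, rfl⟩ := h.mem_E ha
  rw [h.E_sq] at haa
  obtain ⟨n, hn⟩ := exists_pow_of_mem h.two h.gQ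
  obtain ⟨k, rfl⟩ := even_of_zpow hn hg2 haa
  refine mul_mem (mem_sup_left ?_) (mem_sup_right (zpow_mem (mem_zpowers _) j))
  rw [zpow_add, ← (Commute.refl g).mul_zpow]
  exact zpow_mem (mem_zpowers _) k

/-- `g² ≠ 1` is impossible. -/
theorem four [Finite X] (hr : R4 X) : g * g = 1 := by
  by_contra hg2
  have hg1 : g ≠ 1 := fun h0 => hg2 (by rw [h0, mul_one])
  have hN : (zpowers g).Normal := normal_of_central h.gc
  have hs := h.ss (QuotientGroup.mk'_surjective (zpowers g)) (QuotientGroup.ker_mk' _)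
  obtain ⟨x, hx⟩ := h.nat.real (mR 0 1) (mR_bas 0 1)
  obtain ⟨x2, ε, ζ, hx2, h22, hs1, hε, hεE, hζE, hεε, h3⟩ := hs.trip (Acts.map hx _)
  rw [QuotientGroup.ker_mk'] at hs1 hεE hζE
  have hεD := h.inv_mem_D hg2 hεE hεε
  have hsD : x * x ∈ D w g := by
    have h4 : x * x * (x * x) ∈ D w g := h.sq_mem_D hs1
    have h5 : ε * (ζ * ζ) ∈ D w g := mul_mem hεD (h.sq_mem_D hζE)
    rw [← h3] at h5
    have h6 := mul_mem (inv_mem h4) h5
    rwa [inv_mul_cancel_left] at h6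
  refine hs.kill hr h.sec (h.card_D hg1) (fun y i j hy q hq => ?_) (Acts.map hx _) hx2 hsD
    (h22 ▸ hsD) (hε ▸ hεD)
  exact h.comm_D (acts_of_map h.nat (QuotientGroup.mk'_surjective (zpowers g))
    hs.zle hs.zc (fun q hq => by
      obtain ⟨v, hv, k, rfl⟩ := h.dec q hq
      refine ⟨v, hv, ?_⟩
      rw [QuotientGroup.ker_mk', inv_mul_cancel_left]
      exact zpow_mem (mem_zpowers g) k) hy) hq

/-- If `g` is an involution, all involutions lie in `Q`. -/
theorem two_inv [Finite X] (hr : R4 X) (hg2 : g * g = 1) (hg1 : g ≠ 1) {u : X} (hu : u * u = 1) :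
    u ∈ Q := by
  by_contra huQ
  obtain ⟨n, hn, hx⟩ := h.nat.exists_adapt (x := u) (by rw [hu]; exact Q.one_mem) huQ
  have h' := h.change hn
  have hN : (zpowers g).Normal := normal_of_central h.gc
  have hs := h'.ss (QuotientGroup.mk'_surjective (zpowers g)) (QuotientGroup.ker_mk' _)
  obtain ⟨x2, ε, ζ, hx2, h22, hs1, hε, hεE, hζE, hεε, h3⟩ := hs.trip (Acts.map hx _)
  rw [QuotientGroup.ker_mk'] at hs1 hεE hζE
  have hζζ : ζ * ζ = 1 := by
    obtain ⟨i, j, rfl⟩ := h'.mem_E hζE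
    rw [h'.E_sq, ← (Commute.refl g).mul_zpow, hg2, one_zpow]
  have hε1 : ε = 1 := by
    rw [hu, hζζ] at h3
    simpa using h3.symm
  refine hs.kill hr h'.sec (h'.card_D hg1) (fun y i j hy q hq => ?_) (Acts.map hx _) hx2
    (by rw [hu]; exact one_mem _) (by rw [h22, hu]; exact one_mem _)
    (by rw [← hε, hε1]; exact one_mem _)
  exact h'.comm_D (acts_of_map h'.nat (QuotientGroup.mk'_surjective (zpowers g))
    hs.zle hs.zc (fun q hq => by
      obtain ⟨v, hv, k, rfl⟩ := h'.dec q hq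
      refine ⟨v, hv, ?_⟩
      rw [QuotientGroup.ker_mk', inv_mul_cancel_left]
      exact zpow_mem (mem_zpowers g) k) hy) hq

/-- Squares of lifts of the standard transvection. -/
theorem sq_mem_E [Finite X] {x : X} (hx : Acts w x (mR 0 1)) :
    x * x ∈ zpowers g ⊔ zpowers (w e1) := by
  have hN : (zpowers g).Normal := normal_of_central h.gc
  have hs := h.ss (QuotientGroup.mk'_surjective (zpowers g)) (QuotientGroup.ker_mk' _)
  obtain ⟨x2, ε, ζ, hx2, h22, hs1, hε, hεE, hζE, hεε, h3⟩ := hs.trip (Acts.map hx _)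
  rwa [QuotientGroup.ker_mk'] at hs1

end Cen

end Cfsg.Agent.GH.C2ThreeOne
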