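import Mathlib
import Cfsg.Agent.Lib.FrattiniPGroup
import Cfsg.Agent.GH.Rank
import Cfsg.Agent.GH.C2ThreeOneC

/-!
# GH-C2 (T3), statement ONE: general facts

`Hyp Q W y`: the hypotheses of statement ONE.  Then `Q` centralises `W`, `Q = W C_Q(y)`, `C_Q(y)` is
cyclic, `Q` is abelian and `[X, Q] ≤ W`.
-/

set_option autoImplicit false
set_option maxHeartbeats 800000
set_option linter.unusedSectionVars false
set_option linter.unusedVariables false

namespace Cfsg.Agent.GH.C2ThreeOne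

open Subgroup Cfsg.Agent.TwoFusion.SectionalRank Cfsg.Agent.GH.C2Base Cfsg.Agent.GH.C2Five
open Cfsg.Agent.GH.C2ThreeNat Cfsg.Agent.GH.C2ThreeK0
open scoped commutatorElement

variable {X : Type*} [Group X]

/-- A 2-group of sectional rank at most 1 is cyclic. -/
theorem isCyclic_of_le_one {P : Type*} [Group P] [Finite P] (hP : IsPGroup 2 P)
    (h : Cfsg.SectionalPRankLE 2 1 P) : IsCyclic P := by
  have hp : Fact (Nat.Prime 2) := ⟨Nat.prime_two⟩
  have h1 : Nat.card (P ⧸ frattini P) ≤ 2 ^ 1 := by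
    refine Rank.card_le (Rank.of_quotient h _) ?_ ?_
    · intro a b
      obtain ⟨a, rfl⟩ := QuotientGroup.mk'_surjective _ a
      obtain ⟨b, rfl⟩ := QuotientGroup.mk'_surjective _ b
      rw [← commutatorElement_eq_one_iff_mul_comm, ← map_commutatorElement]
      exact (QuotientGroup.eq_one_iff _).mpr (Lib.FrattiniPGroup.commutator_mem_frattini hP a b)
    · intro a
      obtain ⟨a, rfl⟩ := QuotientGroup.mk'_surjective _ a
      rw [← map_pow]
      exact (QuotientGroup.eq_one_iff _).mpr (Lib.FrattiniPGroup.pow_mem_frattini hP a)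
  have h2 : IsCyclic (P ⧸ frattini P) := by
    have h3 : 0 < Nat.card (P ⧸ frattini P) := Nat.card_pos
    rcases (show Nat.card (P ⧸ frattini P) = 1 ∨ Nat.card (P ⧸ frattini P) = 2 by omega) with h | h
    · have := (Nat.card_eq_one_iff_unique.mp h).1
      infer_instance
    · exact isCyclic_of_prime_card h
  obtain ⟨g, hg⟩ := h2.exists_generator
  obtain ⟨g, rfl⟩ := QuotientGroup.mk'_surjective _ g
  have h3 : zpowers g ⊔ frattini P = ⊤ := by
    rw [eq_top_iff]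
    intro x _
    obtain ⟨n, hn⟩ := hg (QuotientGroup.mk' _ x)
    have h4 : (g ^ n)⁻¹ * x ∈ frattini P := by
      rw [← QuotientGroup.eq_one_iff]
      change QuotientGroup.mk' (frattini P) ((g ^ n)⁻¹ * x) = 1
      rw [map_mul, map_inv, map_zpow, ← hn]
      exact inv_mul_cancel _
    have h5 : x = g ^ n * ((g ^ n)⁻¹ * x) := by group
    rw [h5]
    exact mul_mem (mem_sup_left ⟨n, rfl⟩) (mem_sup_right h4)
  have h4 := frattini_nongenerating h3
  refine ⟨g, fun x => ?_⟩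
  have h5 : x ∈ zpowers g := h4 ▸ mem_top x
  exact h5

/-- `[Q, W] < W` for a 2-group `Q ≥ W ≠ 1`. -/
theorem commutator_lt [Finite X] {P M : Subgroup X} (hP : IsPGroup 2 P) (hMP : M ≤ P)
    (hM : M.Normal) (hM1 : M ≠ ⊥) : ⁅M, P⁆ < M := by
  have hp : Fact (Nat.Prime 2) := ⟨Nat.prime_two⟩
  have hle : ⁅M, P⁆ ≤ M := commutator_le_left M P
  refine lt_of_le_of_ne hle ?_
  intro h
  have hP' : Group.IsNilpotent P := hP.isNilpotent
  obtain ⟨n, hn⟩ := (Subgroup.isNilpotent_iff_lowerCentralSeries P).1 hP'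
  have key : ∀ k : ℕ, M ≤ P.lowerCentralSeries k := by
    intro k
    induction k with
    | zero => exact hMP
    | succ k ih =>
      rw [Subgroup.lowerCentralSeries_succ, ← h]
      exact commutator_mono ih le_rfl
  have := key n
  rw [hn] at this
  exact hM1 (le_bot_iff.1 this)

/-- If `y⁷ = 1`, `u² = 1`, `y` commutes with `u` and `[y, a] = u`, then `u = 1`. -/
theorem fix_of_comm {y a u : X} (hy : y ^ 7 = 1) (hu : u * u = 1) (hyu : y * u = u * y)
    (h : y * a * y⁻¹ * a⁻¹ = u) : u = 1 := by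
  have h0 : y * a * y⁻¹ = u * a := by rw [← h]; group
  have key : ∀ n : ℕ, y ^ n * a * (y ^ n)⁻¹ = u ^ n * a := by
    intro n
    induction n with
    | zero => simp
    | succ n ih =>
      have h1 : y * u ^ n = u ^ n * y := (show Commute y u from hyu).pow_right n
      calc y ^ (n + 1) * a * (y ^ (n + 1))⁻¹ = y * (y ^ n * a * (y ^ n)⁻¹) * y⁻¹ := by
            rw [pow_succ']; group
        _ = (y * u ^ n) * a * y⁻¹ := by rw [ih]; group
        _ = u ^ n * (y * a * y⁻¹) := by rw [h1]; group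
        _ = u ^ (n + 1) * a := by rw [h0, pow_succ]; group
  have h7 := key 7
  rw [hy] at h7
  have h8 : u ^ 7 = 1 := by
    have h9 : (1 : X) * a = u ^ 7 * a := by rw [← h7]; group
    exact (mul_right_cancel h9).symm
  calc u = u ^ 7 * ((u * u) * (u * u) * (u * u))⁻¹ := by group
    _ = 1 := by rw [h8, hu]; group

/-- Hypotheses of statement ONE. -/
structure Hyp (Q W : Subgroup X) (y : X) : Prop where
  l : L32 Q
  hy : y ^ 7 = 1
  wn : W.Normal
  wq : W ≤ Q
  w2 : ∀ v ∈ W, v * v = 1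
  ne : ∃ v ∈ W, y * v ≠ v * y
  min : ∀ N : Subgroup X, N.Normal → N < W → ∀ v ∈ N, y * v = v * y
  one : ∀ q ∈ Q, y * q * y⁻¹ * q⁻¹ ∈ W

namespace Hyp

variable {Q W : Subgroup X} {y : X} (h : Hyp Q W y)

include h

theorem wcomm {a b : X} (ha : a ∈ W) (hb : b ∈ W) : a * b = b * a :=
  comm_of_sq_one h.w2 a ha b hb

theorem winv {a : X} (ha : a ∈ W) : a⁻¹ = a := inv_eq_of_mul_eq_one_left (h.w2 a ha)

theorem yQ : y ∉ Q := by
  intro hyQ
  obtain ⟨n, hn⟩ := exists_pow_of_mem h.l.two hyQ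
  obtain ⟨v, -, hv⟩ := h.ne
  apply hv
  have h1 : orderOf y ∣ 2 ^ n := orderOf_dvd_of_pow_eq_one hn
  have h2 : orderOf y ∣ 7 := orderOf_dvd_of_pow_eq_one h.hy
  have h3 : Nat.Coprime (2 ^ n) 7 := Nat.Coprime.pow_left n (by norm_num)
  have h4 : orderOf y = 1 := Nat.eq_one_of_dvd_coprimes h3 h1 h2
  rw [orderOf_eq_one_iff] at h4
  rw [h4, one_mul, mul_one]

theorem top {N : Subgroup X} (hN : N.Normal) (hQ : Q ≤ N) (hy : y ∈ N) : N = ⊤ := by
  rcases h.l.simple N hN hQ with h1 | h1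
  · exact absurd (h1 ▸ hy) h.yQ
  · exact h1

/-- `Q` centralises `W`. -/
theorem cent [Finite X] {q v : X} (hq : q ∈ Q) (hv : v ∈ W) : q * v = v * q := by
  have hWn := h.wn
  have hQn := h.l.normal
  have hW1 : W ≠ ⊥ := by
    rintro rfl
    obtain ⟨v, hv, hv2⟩ := h.ne
    rw [mem_bot] at hv
    subst hv
    exact hv2 (by rw [mul_one, one_mul])
  have hlt := commutator_lt h.l.two h.wq h.wn hW1
  have hK := h.min ⁅W, Q⁆ inferInstance hlt
  set W0 : Subgroup X := W ⊓ centralizer (Q : Set X) with hW0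
  have hW0n : W0.Normal := inferInstance
  have key : ∀ v ∈ W, y * v * y⁻¹ * v⁻¹ ∈ W0 := by
    intro v hv
    have hv' : y * v * y⁻¹ ∈ W := hWn.conj_mem v hv y
    refine mem_inf.2 ⟨W.mul_mem hv' (W.inv_mem hv), mem_centralizer_iff.2 fun q hq => ?_⟩
    have hq : q ∈ Q := hq
    have ha : y * q * y⁻¹ * q⁻¹ ∈ W := h.one q hq
    set a := y * q * y⁻¹ * q⁻¹ with hadef
    set v' := y * v * y⁻¹ with hv'def
    have hf : q * v * q⁻¹ * v⁻¹ ∈ ⁅W, Q⁆ := by
      rw [commutator_comm]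
      exact commutator_mem_commutator hq hv
    have h1 := hK _ hf
    have h2 : y * (q * v * q⁻¹ * v⁻¹) * y⁻¹ = q * v * q⁻¹ * v⁻¹ := by rw [h1]; group
    have h3 : y * (q * v * q⁻¹ * v⁻¹) * y⁻¹ = a * (q * v' * q⁻¹) * a⁻¹ * v'⁻¹ := by
      rw [hadef, hv'def]
      group
    have h4 : a * (q * v' * q⁻¹) = (q * v' * q⁻¹) * a := h.wcomm ha (hWn.conj_mem _ hv' q)
    have h5 : q * v' * q⁻¹ * v'⁻¹ = q * v * q⁻¹ * v⁻¹ := by
      rw [← h2, h3, h4]
      group
    -- `q (v' v⁻¹) q⁻¹ = v' v⁻¹`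
    have h6 : q * v' * q⁻¹ * (q * v * q⁻¹)⁻¹ = v' * v⁻¹ := by
      have h7 : q * v' * q⁻¹ = (q * v * q⁻¹ * v⁻¹) * v' := by rw [← h5]; group
      have h8 : (q * v * q⁻¹ * v⁻¹) ∈ W := commutator_le_left W Q hf
      have h9 : q * v * q⁻¹ = (q * v * q⁻¹ * v⁻¹) * v := by group
      rw [h7]
      nth_rewrite 2 [h9]
      generalize q * v * q⁻¹ * v⁻¹ = c at h8
      calc c * v' * (c * v)⁻¹ = c * (v' * v⁻¹) * c⁻¹ := by group
        _ = (v' * v⁻¹) * c * c⁻¹ := by
            rw [h.wcomm h8 (W.mul_mem hv' (W.inv_mem hv))]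
        _ = v' * v⁻¹ := by group
    calc q * (v' * v⁻¹) = (q * v' * q⁻¹ * (q * v * q⁻¹)⁻¹) * q := by group
      _ = v' * v⁻¹ * q := by rw [h6]
  have hW0W : W0 = W := by
    by_contra hne
    have hlt2 : W0 < W := lt_of_le_of_ne inf_le_left hne
    have h1 := h.min W0 hW0n hlt2
    obtain ⟨v, hv, hv2⟩ := h.ne
    have h2 := key v hv
    have h3 := fix_of_comm h.hy (h.w2 _ h2.1) (h1 _ h2) rfl
    apply hv2
    calc y * v = (y * v * y⁻¹ * v⁻¹) * (v * y) := by group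
      _ = v * y := by rw [h3, one_mul]
  have h1 : v ∈ W0 := by rw [hW0W]; exact hv
  exact (mem_centralizer_iff.1 h1.2) q hq

/-- `Q = W C_Q(y)` -/
theorem exists_cent [Finite X] {q : X} (hq : q ∈ Q) : ∃ a ∈ W, y * (a * q) = (a * q) * y := by
  have hWn := h.wn
  set b := y * q * y⁻¹ * q⁻¹ with hb
  have hbW : b ∈ W := h.one q hq
  -- the norm of `b`
  have hN : (y ^ 6 * b * (y ^ 6)⁻¹) * (y ^ 5 * b * (y ^ 5)⁻¹) * (y ^ 4 * b * (y ^ 4)⁻¹) *
      (y ^ 3 * b * (y ^ 3)⁻¹) * (y ^ 2 * b * (y ^ 2)⁻¹) * (y * b * y⁻¹) * b = 1 := by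
    have h1 : (y ^ 6 * b * (y ^ 6)⁻¹) * (y ^ 5 * b * (y ^ 5)⁻¹) * (y ^ 4 * b * (y ^ 4)⁻¹) *
      (y ^ 3 * b * (y ^ 3)⁻¹) * (y ^ 2 * b * (y ^ 2)⁻¹) * (y * b * y⁻¹) * b =
        y ^ 7 * (y⁻¹ * b) ^ 7 := by
      simp only [pow_succ, pow_zero, one_mul]
      group
    have h2 : y⁻¹ * b = q * y⁻¹ * q⁻¹ := by rw [hb]; group
    have h3 : (q * y⁻¹ * q⁻¹) ^ 7 = q * (y⁻¹) ^ 7 * q⁻¹ := conj_pow
    rw [h1, h2, h3, inv_pow, h.hy]
    group
  have m : ∀ n : ℕ, y ^ n * b * (y ^ n)⁻¹ ∈ W := fun n => hWn.conj_mem b hbW _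
  have m1 : y * b * y⁻¹ ∈ W := hWn.conj_mem b hbW _
  set b1 := y * b * y⁻¹ with hb1
  set b2 := y ^ 2 * b * (y ^ 2)⁻¹ with hb2
  set b3 := y ^ 3 * b * (y ^ 3)⁻¹ with hb3
  set b4 := y ^ 4 * b * (y ^ 4)⁻¹ with hb4
  set b5 := y ^ 5 * b * (y ^ 5)⁻¹ with hb5
  set b6 := y ^ 6 * b * (y ^ 6)⁻¹ with hb6
  refine ⟨b5 * b3 * b1, W.mul_mem (W.mul_mem (m 5) (m 3)) m1, ?_⟩
  have e1 : y * (b5 * b3 * b1) * y⁻¹ = b6 * b4 * b2 := by
    rw [hb5, hb3, hb1, hb6, hb4, hb2]
    group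
  have e2 : y * q * y⁻¹ = b * q := by rw [hb]; group
  have e3 : b6 * b4 * b2 * b = b5 * b3 * b1 := by
    have e4 : (b5 * b3 * b1)⁻¹ * (b6 * b4 * b2 * b) = 1 := by
      rw [h.winv (W.mul_mem (W.mul_mem (m 5) (m 3)) m1)]
      rw [← hN]
      have c56 := h.wcomm (m 5) (m 6)
      have c34 := h.wcomm (m 3) (m 4)
      have c12 := h.wcomm m1 (m 2)
      have c36 := h.wcomm (m 3) (m 6)
      have c16 := h.wcomm m1 (m 6)
      have c14 := h.wcomm m1 (m 4)
      simp only [← hb2, ← hb3, ← hb4, ← hb5, ← hb6] at c56 c34 c12 c36 c16 c14 ⊢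
      calc b5 * b3 * b1 * (b6 * b4 * b2 * b) = b5 * b3 * (b1 * b6) * b4 * b2 * b := by group
        _ = b5 * (b3 * b6) * (b1 * b4) * b2 * b := by rw [c16]; group
        _ = (b5 * b6) * (b3 * b4) * (b1 * b2) * b := by rw [c36, c14]; group
        _ = b6 * b5 * b4 * b3 * b2 * b1 * b := by rw [c56, c34, c12]; group
    exact (inv_mul_eq_one.1 e4).symm
  have e5 : y * (b5 * b3 * b1 * q) * y⁻¹ = b5 * b3 * b1 * q := by
    calc y * (b5 * b3 * b1 * q) * y⁻¹ = (y * (b5 * b3 * b1) * y⁻¹) * (y * q * y⁻¹) := by group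
      _ = (b6 * b4 * b2 * b) * q := by rw [e1, e2]; group
      _ = b5 * b3 * b1 * q := by rw [e3]
  calc y * (b5 * b3 * b1 * q) = (y * (b5 * b3 * b1 * q) * y⁻¹) * y := by group
    _ = b5 * b3 * b1 * q * y := by rw [e5]

/-- `C_Q(y)` -/
def C (Q : Subgroup X) (y : X) : Subgroup X := Q ⊓ centralizer ({y} : Set X)

omit h in
theorem mem_C {x : X} : x ∈ C Q y ↔ x ∈ Q ∧ y * x = x * y := by
  rw [C, mem_inf, mem_centralizer_singleton_iff]
  exact ⟨fun h => ⟨h.1, h.2.symm⟩, fun h => ⟨h.1, h.2.symm⟩⟩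

theorem card_sup [Finite X] (h8 : 8 * Nat.card (W ⊓ C Q y : Subgroup X) ≤ Nat.card W)
    {A : Subgroup X} (hA : A ≤ C Q y) : 8 * Nat.card A ≤ Nat.card (W ⊔ A : Subgroup X) := by
  have hWn := h.wn
  have h1 : Nat.card (W ⊔ A : Subgroup X) = W.relIndex (W ⊔ A) * Nat.card W :=
    card_eq_relIndex_mul _ _ le_sup_left
  have h2 : Nat.card A = (W ⊓ A).relIndex A * Nat.card (W ⊓ A : Subgroup X) :=
    card_eq_relIndex_mul _ _ inf_le_right
  rw [relIndex_sup_left] at h1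
  rw [inf_relIndex_right] at h2
  have h3 : Nat.card (W ⊓ A : Subgroup X) ≤ Nat.card (W ⊓ C Q y : Subgroup X) :=
    Nat.card_le_card_of_injective _ (inclusion_injective (inf_le_inf_left W hA))
  rw [h1, h2]
  calc 8 * (W.relIndex A * Nat.card (W ⊓ A : Subgroup X))
      = W.relIndex A * (8 * Nat.card (W ⊓ A : Subgroup X)) := by ring
    _ ≤ W.relIndex A * Nat.card W := Nat.mul_le_mul_left _ (by omega)

/-- `C_Q(y)` is cyclic. -/
theorem exists_gen [Finite X] (hr : R4 X)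
    (h8 : 8 * Nat.card (W ⊓ C Q y : Subgroup X) ≤ Nat.card W) : ∃ g, C Q y = zpowers g := by
  have hWn := h.wn
  have hCQ : C Q y ≤ Q := inf_le_left
  have hr1 : Cfsg.SectionalPRankLE 2 1 (C Q y) := by
    rw [sectionalPRankLE_iff]
    intro A B hAB
    have h1 := hAB.map (C Q y).subtype
    have hA : A.map (C Q y).subtype ≤ C Q y := map_subtype_le A
    have hc1 : Nat.card (A.map (C Q y).subtype) = Nat.card A :=
      Nat.card_congr (A.equivMapOfInjective _ (C Q y).subtype_injective).toEquiv.symm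
    have hc2 : Nat.card (B.map (C Q y).subtype) = Nat.card B :=
      Nat.card_congr (B.equivMapOfInjective _ (C Q y).subtype_injective).toEquiv.symm
    rw [← hc1, ← hc2]
    generalize A.map (C Q y).subtype = A' at h1 hA
    generalize B.map (C Q y).subtype = B' at h1
    have h2 := h.card_sup h8 hA
    have hsec : ElemSection 2 (W ⊔ A') B' := by
      refine ⟨h1.le.trans le_sup_right, fun a ha b hb => ?_, fun a ha => ?_⟩
      · obtain ⟨v, hv, a, haA, rfl⟩ := mem_sup_of_normal_left.1 ha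
        obtain ⟨v', hv', b, hbA, rfl⟩ := mem_sup_of_normal_left.1 hb
        have h3 := h1.comm a haA b hbA
        have c1 : a * v' = v' * a := h.cent (hCQ (hA haA)) hv'
        have c2 : b * v = v * b := h.cent (hCQ (hA hbA)) hv
        have c3 : v * v' = v' * v := h.wcomm hv hv'
        have e1 : v * a * (v' * b) * (v * a)⁻¹ * (v' * b)⁻¹ = a * b * a⁻¹ * b⁻¹ := by
          have e2 : v * a * (v' * b) = v * v' * (a * b) := by
            calc v * a * (v' * b) = v * (a * v') * b := by group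
              _ = v * v' * (a * b) := by rw [c1]; group
          have e3 : v' * b * (v * a) = v * v' * (b * a) := by
            calc v' * b * (v * a) = v' * (b * v) * a := by group
              _ = (v' * v) * (b * a) := by rw [c2]; group
              _ = v * v' * (b * a) := by rw [c3]
          have hab : a * b * a⁻¹ * b⁻¹ ∈ Q :=
            Q.mul_mem (Q.mul_mem (Q.mul_mem (hCQ (hA haA)) (hCQ (hA hbA))) (Q.inv_mem (hCQ (hA haA))))
              (Q.inv_mem (hCQ (hA hbA)))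
          have e4 : a * b * a⁻¹ * b⁻¹ * (v * v') = v * v' * (a * b * a⁻¹ * b⁻¹) :=
            h.cent hab (W.mul_mem hv hv')
          calc v * a * (v' * b) * (v * a)⁻¹ * (v' * b)⁻¹
              = v * a * (v' * b) * (v' * b * (v * a))⁻¹ := by group
            _ = v * v' * (a * b * a⁻¹ * b⁻¹) * (v * v')⁻¹ := by rw [e2, e3]; group
            _ = a * b * a⁻¹ * b⁻¹ := by rw [← e4]; group
        rw [e1]
        exact h3
      · obtain ⟨v, hv, a, haA, rfl⟩ := mem_sup_of_normal_left.1 ha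
        have c1 : a * v = v * a := h.cent (hCQ (hA haA)) hv
        have e1 : (v * a) ^ 2 = a ^ 2 := by
          rw [pow_two, pow_two]
          calc v * a * (v * a) = v * (a * v) * a := by group
            _ = v * v * (a * a) := by rw [c1]; group
            _ = a * a := by rw [h.w2 v hv, one_mul]
        rw [e1]
        exact h1.pow a haA
    have h3 := hr _ _ hsec
    omega
  have hP : IsPGroup 2 (C Q y) := h.l.two.to_le hCQ
  obtain ⟨g, hg⟩ := (isCyclic_of_le_one hP hr1).exists_generator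
  refine ⟨g, le_antisymm (fun x hx => ?_) ?_⟩
  · obtain ⟨k, hk⟩ := hg ⟨x, hx⟩
    exact ⟨k, congrArg Subtype.val hk⟩
  · rw [zpowers_le]
    exact g.2

end Hyp

end Cfsg.Agent.GH.C2ThreeOne
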