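import Mathlib
import Cfsg.Agent.GH.C2ThreeOneB

/-!
# GH-C2 (T3), statement ONE: the orbit of a generator of `C_Q(y)`; the case `|W| = 8`
-/

set_option autoImplicit false
set_option maxHeartbeats 800000
set_option linter.unusedSectionVars false
set_option linter.unusedVariables false

namespace Cfsg.Agent.GH.C2ThreeOne

open Subgroup Cfsg.Agent.TwoFusion.SectionalRank Cfsg.Agent.GH.C2Base Cfsg.Agent.GH.C2Five
open Cfsg.Agent.GH.C2ThreeNat Cfsg.Agent.GH.C2ThreeK0

variable {X : Type*} [Group X]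

/-! ### powers of matrices -/

def pw (n : M3) : ℕ → M3
  | 0 => idm
  | (k + 1) => cmp n (pw n k)

def P7 (n : M3) : Prop := pw n 7 = idm ∧ n ≠ idm

instance (n : M3) : Decidable (P7 n) := by unfold P7; infer_instance

theorem trans7_aux : ∀ n : M3, ¬ P7 n ∨ ∀ p q : T3, p = 0 ∨ q = 0 ∨
    ∃ i : Fin 7, lin (pw n i) p = q := by
  decide +kernel

theorem trans7 {n : M3} (h1 : pw n 7 = idm) (h2 : n ≠ idm) {p q : T3} (hp : p ≠ 0) (hq : q ≠ 0) :
    ∃ i : ℕ, lin (pw n i) p = q := by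
  have h3 := (trans7_aux n).resolve_left (not_not.2 ⟨h1, h2⟩)
  obtain ⟨i, hi⟩ := ((h3 p q).resolve_left hp).resolve_left hq
  exact ⟨i, hi⟩

theorem acts_pow {w : T3 → X} {x : X} {m : M3} (hx : Acts w x m) (n : ℕ) :
    Acts w (x ^ n) (pw m n) := by
  induction n with
  | zero =>
    rw [pow_zero]
    exact Acts.one w
  | succ n ih =>
    rw [pow_succ']
    exact hx.mul ih

/-- `y` of order 7 acts transitively on the nonzero vectors. -/
theorem NatTrans {Q W : Subgroup X} {w : T3 → X} (h : NatMod Q W w) {y : X} (hy : y ^ 7 = 1)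
    (hyQ : y ∉ Q) {p q : T3} (hp : p ≠ 0) (hq : q ≠ 0) :
    ∃ i : ℕ, y ^ i * w p * (y ^ i)⁻¹ = w q := by
  obtain ⟨n, hn, hn2⟩ := h.acts y
  have h1 : pw n 7 = idm := by
    have h2 := acts_pow hn2 7
    rw [hy] at h2
    exact h2.unique h.coord (Acts.one w)
  have h2 : n ≠ idm := fun h0 => hyQ ((h.mem_iff hn2).2 h0)
  obtain ⟨i, hi⟩ := trans7 h1 h2 hp hq
  exact ⟨i, by rw [acts_pow hn2 i, hi]⟩

theorem exists_other : ∀ p : T3, ∃ q : T3, q ≠ 0 ∧ q ≠ p := by decide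

/-- `y` has no nonzero fixed vector. -/
theorem NatFix {Q W : Subgroup X} {w : T3 → X} (h : NatMod Q W w) {y : X} (hy : y ^ 7 = 1)
    (hyQ : y ∉ Q) {v : X} (hv : v ∈ W) (hyv : y * v = v * y) : v = 1 := by
  obtain ⟨p, rfl⟩ := (h.coord.mem v).1 hv
  by_contra hne
  have hp : p ≠ 0 := by
    rintro rfl
    exact hne h.coord.zero
  obtain ⟨q, hq, hpq⟩ := exists_other p
  obtain ⟨i, hi⟩ := NatTrans h hy hyQ hp hq
  apply hpq
  apply h.coord.injective
  rw [← hi]
  have h1 : y ^ i * w p = w p * y ^ i := (show Commute y (w p) from hyv).pow_left i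
  rw [h1]
  group

/-! ### the orbit of `a` -/

section Dich

variable {Q W : Subgroup X} {w : T3 → X} (h : NatMod Q W w) (hQ : Q.Normal) (hidx : Q.index = 168)
  (hQc : ∀ a ∈ Q, ∀ b ∈ Q, a * b = b * a) {y a : X} (hy : y ^ 7 = 1) (hyQ : y ∉ Q) (haQ : a ∈ Q)
  (hya : y * a = a * y) (hxa : ∀ x, x * a * x⁻¹ * a⁻¹ ∈ W)

include h hy hyQ hya hxa

theorem orbit_all (hne : ¬ ∀ x, x * a = a * x) {v : X} (hv : v ∈ W) : ∃ x, x * a * x⁻¹ = v * a := by
  push Not at hne
  obtain ⟨x0, hx0⟩ := hne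
  obtain ⟨q, rfl⟩ := (h.coord.mem v).1 hv
  by_cases hq : q = 0
  · refine ⟨1, ?_⟩
    rw [hq, h.coord.zero]
    group
  obtain ⟨p, hp⟩ := (h.coord.mem _).1 (hxa x0)
  have hp0 : p ≠ 0 := by
    rintro rfl
    rw [h.coord.zero] at hp
    apply hx0
    calc x0 * a = (x0 * a * x0⁻¹ * a⁻¹) * a * x0 := by group
      _ = a * x0 := by rw [← hp, one_mul]
  obtain ⟨i, hi⟩ := NatTrans h hy hyQ hp0 hq
  refine ⟨y ^ i * x0, ?_⟩
  have h1 : y ^ i * a = a * y ^ i := (show Commute y a from hya).pow_left i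
  calc y ^ i * x0 * a * (y ^ i * x0)⁻¹ = y ^ i * (x0 * a * x0⁻¹ * a⁻¹) * a * (y ^ i)⁻¹ := by group
    _ = y ^ i * w p * (a * y ^ i) * (y ^ i)⁻¹ * (y ^ i)⁻¹ := by rw [← hp]; group
    _ = y ^ i * w p * (y ^ i * a) * (y ^ i)⁻¹ * (y ^ i)⁻¹ := by rw [h1]
    _ = (y ^ i * w p * (y ^ i)⁻¹) * (y ^ i) * (y ^ i * a) * (y ^ i)⁻¹ * (y ^ i)⁻¹ := by group
    _ = w q * (y ^ i) * (a * y ^ i) * (y ^ i)⁻¹ * (y ^ i)⁻¹ := by rw [hi, h1]
    _ = w q * (y ^ i * a) * (y ^ i)⁻¹ := by group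
    _ = w q * a := by rw [h1]; group

include hQ hidx hQc haQ

/-- The centraliser of `a` has index 8. -/
theorem index_eight [Finite X] (hne : ¬ ∀ x, x * a = a * x) :
    (centralizer ({a} : Set X)).index = 8 := by
  set S := centralizer ({a} : Set X) with hS
  have hmem : ∀ x, x ∈ S ↔ x * a = a * x := fun x => by
    rw [hS, mem_centralizer_singleton_iff]
  have h1 : ∀ x, ∃ p, w p = x * a * x⁻¹ * a⁻¹ := fun x => (h.coord.mem _).1 (hxa x)
  choose t ht using h1
  have hts : ∀ x z, t x = t z ↔ x⁻¹ * z ∈ S := by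
    intro x z
    rw [hmem]
    constructor
    · intro hxz
      have h2 := ht x
      rw [hxz, ht z] at h2
      have h3 : z * a * z⁻¹ = x * a * x⁻¹ := mul_right_cancel h2
      calc x⁻¹ * z * a = x⁻¹ * (z * a * z⁻¹) * z := by group
        _ = a * (x⁻¹ * z) := by rw [h3]; group
    · intro hxz
      apply h.coord.injective
      rw [ht, ht]
      congr 1
      calc x * a * x⁻¹ = x * (a * (x⁻¹ * z)) * z⁻¹ := by group
        _ = x * (x⁻¹ * z * a) * z⁻¹ := by rw [hxz]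
        _ = z * a * z⁻¹ := by group
  let F : X ⧸ S → T3 := fun q => Quotient.liftOn' q t
    (fun a b hab => (hts a b).2 (QuotientGroup.leftRel_apply.1 hab))
  have hF : Function.Bijective F := by
    constructor
    · intro a b
      refine Quotient.inductionOn₂' a b ?_
      intro a b hab
      exact QuotientGroup.eq.2 ((hts a b).1 hab)
    · intro p
      obtain ⟨x, hx⟩ := orbit_all h hy hyQ hya hxa hne (h.coord.mem_w p)
      refine ⟨(x : X ⧸ S), ?_⟩
      show t x = p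
      apply h.coord.injective
      rw [ht, hx]
      group
  have h8 : Nat.card T3 = 8 := by
    rw [Nat.card_eq_fintype_card]
    decide
  rw [← h8]
  exact Nat.card_congr (Equiv.ofBijective F hF)

/-- No element of order 2 modulo `Q` fixes a point of `W a`. -/
theorem no_fix [Finite X] (hne : ¬ ∀ x, x * a = a * x) {x v : X} (hx : x * x ∈ Q) (hv : v ∈ W)
    (hxv : x * (v * a) = (v * a) * x) : x ∈ Q := by
  have h8 := index_eight h hQ hidx hQc hy hyQ haQ hya hxa hne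
  set S := centralizer ({a} : Set X) with hS
  have hmem : ∀ x, x ∈ S ↔ x * a = a * x := fun x => by
    rw [hS, mem_centralizer_singleton_iff]
  have hQS : Q ≤ S := fun q hq => (hmem q).2 (hQc q hq a haQ)
  have h21 : Q.relIndex S = 21 := by
    have := relIndex_mul_index hQS
    rw [hidx, h8] at this
    omega
  have key : ∀ x ∈ S, x * x ∈ Q → x ∈ Q := by
    intro x hx hxx
    have h1 : (Q.subgroupOf S).Normal := inferInstance
    have h2 := (Q.subgroupOf S).pow_index_mem ⟨x, hx⟩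
    have h3 : (Q.subgroupOf S).index = 21 := h21
    rw [h3, mem_subgroupOf] at h2
    have h4 : x ^ 21 ∈ Q := h2
    have h5 : x = x ^ 21 * ((x * x) ^ 10)⁻¹ := by
      have h6 : (x * x) ^ 10 = x ^ 20 := by
        rw [← pow_two, ← pow_mul]
      rw [h6]
      calc x = x ^ 21 * (x ^ 20)⁻¹ := by
            rw [show (21 : ℕ) = 20 + 1 by norm_num, pow_succ']
            group
        _ = _ := rfl
    rw [h5]
    exact Q.mul_mem h4 (Q.inv_mem (Q.pow_mem hxx 10))
  obtain ⟨g, hg⟩ := orbit_all h hy hyQ hya hxa hne hv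
  have h1 : g⁻¹ * x * g ∈ S := by
    rw [hmem]
    have h2 : x * (g * a * g⁻¹) = (g * a * g⁻¹) * x := by rw [hg, hxv]
    calc g⁻¹ * x * g * a = g⁻¹ * (x * (g * a * g⁻¹)) * g := by group
      _ = a * (g⁻¹ * x * g) := by rw [h2]; group
  have h2 : g⁻¹ * x * g ∈ Q := key _ h1 (by
    have h3 := hQ.conj_mem _ hx g⁻¹
    have h4 : g⁻¹ * x * g * (g⁻¹ * x * g) = g⁻¹ * (x * x) * g⁻¹⁻¹ := by group
    rwa [h4])
  have h3 := hQ.conj_mem _ h2 g
  have h4 : g * (g⁻¹ * x * g) * g⁻¹ = x := by group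
  rwa [h4] at h3

end Dich

/-! ### more general facts -/

namespace Hyp

variable {Q W : Subgroup X} {y g : X} (h : Hyp Q W y)

include h

theorem dec [Finite X] (hg : C Q y = zpowers g) {q : X} (hq : q ∈ Q) :
    ∃ v ∈ W, ∃ k : ℤ, q = v * g ^ k := by
  obtain ⟨a, ha, haq⟩ := h.exists_cent hq
  have h1 : a * q ∈ C Q y := mem_C.2 ⟨Q.mul_mem (h.wq ha) hq, haq⟩
  rw [hg] at h1
  obtain ⟨k, hk⟩ := mem_zpowers_iff.1 h1
  refine ⟨a⁻¹, W.inv_mem ha, k, ?_⟩
  rw [hk]
  group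

theorem gC (hg : C Q y = zpowers g) : g ∈ Q ∧ y * g = g * y :=
  mem_C.1 (hg ▸ mem_zpowers g)

theorem qcomm [Finite X] (hg : C Q y = zpowers g) {a b : X} (ha : a ∈ Q) (hb : b ∈ Q) :
    a * b = b * a := by
  obtain ⟨v, hv, k, rfl⟩ := h.dec hg ha
  obtain ⟨v', hv', l, rfl⟩ := h.dec hg hb
  have hgQ := (h.gC hg).1
  have c1 : g ^ k * v' = v' * g ^ k := h.cent (Q.zpow_mem hgQ k) hv'
  have c2 : g ^ l * v = v * g ^ l := h.cent (Q.zpow_mem hgQ l) hv
  have c3 : v * v' = v' * v := h.wcomm hv hv'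
  have c4 : g ^ k * g ^ l = g ^ l * g ^ k := (Commute.refl g).zpow_zpow k l
  calc v * g ^ k * (v' * g ^ l) = v * (g ^ k * v') * g ^ l := by group
    _ = (v * v') * (g ^ k * g ^ l) := by rw [c1]; group
    _ = v' * (v * g ^ l) * g ^ k := by rw [c3, c4]; group
    _ = v' * g ^ l * (v * g ^ k) := by rw [← c2]; group

/-- `[X, Q] ≤ W` -/
theorem xw [Finite X] (hg : C Q y = zpowers g) (x : X) {q : X} (hq : q ∈ Q) :
    x * q * x⁻¹ * q⁻¹ ∈ W := by
  have hWn := h.wn
  have hQn := h.l.normal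
  set N : Subgroup X := (centralizer (Q.map (QuotientGroup.mk' W) : Set (X ⧸ W))).comap
    (QuotientGroup.mk' W) with hN
  have hmapn : (Q.map (QuotientGroup.mk' W)).Normal := hQn.map _ (QuotientGroup.mk'_surjective W)
  have hNn : N.Normal := by
    rw [hN]
    infer_instance
  have hmem : ∀ x, x ∈ N ↔ ∀ q ∈ Q, x * q * x⁻¹ * q⁻¹ ∈ W := by
    intro x
    rw [hN, mem_comap, mem_centralizer_iff]
    constructor
    · intro h1 q hq
      have h2 := h1 (QuotientGroup.mk' W q) ⟨q, hq, rfl⟩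
      rw [← QuotientGroup.eq_one_iff]
      change QuotientGroup.mk' W (x * q * x⁻¹ * q⁻¹) = 1
      rw [map_mul, map_mul, map_mul, map_inv, map_inv, ← h2]
      group
    · rintro h1 _ ⟨q, hq, rfl⟩
      have h2 := h1 q hq
      rw [← QuotientGroup.eq_one_iff] at h2
      change QuotientGroup.mk' W (x * q * x⁻¹ * q⁻¹) = 1 at h2
      rw [map_mul, map_mul, map_mul, map_inv, map_inv, mul_inv_eq_one, mul_inv_eq_iff_eq_mul] at h2
      exact h2.symm
  have htop : N = ⊤ := by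
    refine h.top hNn (fun q hq => ?_) ?_
    · rw [hmem]
      intro q' hq'
      rw [h.qcomm hg hq hq']
      have : q' * q * q⁻¹ * q'⁻¹ = 1 := by group
      rw [this]
      exact W.one_mem
    · rw [hmem]
      exact fun q hq => h.one q hq
  exact (hmem x).1 (htop ▸ mem_top x) q hq

end Hyp

end Cfsg.Agent.GH.C2ThreeOne
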