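import Mathlib
import Cfsg.Agent.GH.C2ThreeSq
import Cfsg.Agent.GH.C2ThreeOneD
import Cfsg.Agent.GH.C2SevenKill

/-!
# GH-C2 (T3), statement TWO, case II: `Q / V` of type `1\3` is impossible
-/

set_option autoImplicit false
set_option maxHeartbeats 800000

namespace Cfsg.Agent.GH.C2ThreeII

open Subgroup Cfsg.Agent.TwoFusion.SectionalRank Cfsg.Agent.GH.C2Base Cfsg.Agent.GH.C2Five
open Cfsg.Agent.GH.C2ThreeNat Cfsg.Agent.GH.C2ThreeK0 Cfsg.Agent.GH.C2ThreeMin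
open Cfsg.Agent.GH.C2ThreeSq

def PAf (m : M3) : Prop := ∃ a : M3, IsBas a ∧ a.1 = e1 ∧ (m = cmp a a ∨ m = cmp (cmp a a) mt)

/-- the matrices of the stabiliser of `e1`, by rows -/
def mm (i a b j c d : ZMod 2) : M3 := (e1, (i, a, b), (j, c, d))

def PF (i a b j c d : ZMod 2) : Prop := ∃ i' a' b' j' c' d' : ZMod 2, IsBas (mm i' a' b' j' c' d') ∧
  (mm i a b j c d = cmp (mm i' a' b' j' c' d') (mm i' a' b' j' c' d') ∨
    mm i a b j c d = cmp (cmp (mm i' a' b' j' c' d') (mm i' a' b' j' c' d')) mt)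

instance (i a b j c d : ZMod 2) : Decidable (PF i a b j c d) := by unfold PF; infer_instance

theorem four_aux : ∀ i a b j c d : ZMod 2, ¬ IsBas (mm i a b j c d) ∨ PF i a b j c d := by
  decide +kernel

/-- Every matrix fixing `e1` is a square, or a square times `mt`. -/
theorem four (m : M3) (hm : IsBas m) (h1 : m.1 = e1) : PAf m := by
  obtain ⟨p, ⟨i, a, b⟩, ⟨j, c, d⟩⟩ := m
  simp only at h1
  subst h1
  obtain ⟨i', a', b', j', c', d', h2, h3⟩ := (four_aux i a b j c d).resolve_left (not_not.2 hm)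
  exact ⟨mm i' a' b' j' c' d', h2, rfl, h3⟩

theorem md_fix : ∀ b : T3, lin md b = b ∨ lin md b = e1 + b → b = 0 ∨ b = e1 := by decide

theorem mt_sq : cmp mt mt = idm := by decide

theorem e1_fix {m : M3} (h1 : lin m e1 = e1) {b : T3} (hb : b = 0 ∨ b = e1)
    (h : lin m b = e1 + b) : False := by
  rcases hb with rfl | rfl
  · rw [lin_zero] at h
    exact absurd h (by decide)
  · rw [h1] at h
    exact absurd h (by decide)

variable {X : Type*} [Group X]

theorem card_map_mk [Finite X] (Q N : Subgroup X) [N.Normal] (h : N ≤ Q) :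
    Nat.card (Q.map (QuotientGroup.mk' N)) * Nat.card N = Nat.card Q := by
  have h1 := relIndex_ker (K := Q) (QuotientGroup.mk' N)
  rw [QuotientGroup.ker_mk'] at h1
  rw [← h1]
  exact (card_eq_relIndex_mul Q N h).symm

/-- The data of case II. -/
structure Dat (Q V : Subgroup X) [V.Normal] (w : T3 → X) (y z : X) : Prop where
  hQ : L32 Q
  hV : NatMod Q V w
  hy : y ^ 7 = 1
  hyQ : y ∉ Q
  sq : ∀ q ∈ Q, q * q ∈ V
  com : ∀ q ∈ Q, ∀ r ∈ Q, q * r * q⁻¹ * r⁻¹ ∈ V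
  hz : z ∈ Q
  zz : z * z = 1
  zV : z ∉ V
  zy : y * z = z * y
  zx : ∀ x : X, x * z * x⁻¹ * z⁻¹ ∈ V
  zne : ¬ ∀ x, x * z = z * x
  fix : ∀ q ∈ Q, y * q * y⁻¹ * q⁻¹ ∈ V → q ∈ V ∨ q * z ∈ V
  min : ∀ N : Subgroup X, N.Normal → N ≤ Q → V ≤ N → N ≠ Q → ∀ n ∈ N, n ∈ V ∨ n * z ∈ V
  move : ∀ u ∈ Q, u ∉ V → u * z ∉ V → ∃ x : X, ∃ v ∈ V, x * u * x⁻¹ = u * (v * z)

namespace Dat

variable {Q V : Subgroup X} [hVn : V.Normal] {w : T3 → X} {y z : X} (h : Dat Q V w y z)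

include h

theorem cV {q v : X} (hq : q ∈ Q) (hv : v ∈ V) : q * v = v * q :=
  (h.hV.cent q).2 hq v hv

theorem vv {v : X} (hv : v ∈ V) : v * v = 1 := h.hV.coord.sq_mem hv

theorem xz (x : X) : ∃ v ∈ V, x * z * x⁻¹ = v * z :=
  ⟨_, h.zx x, by group⟩

/-- the commutator with `z` -/
theorem tau_mul {q r : X} (hq : q ∈ Q) (hr : r ∈ Q) :
    q * r * z * (q * r)⁻¹ * z⁻¹ = (q * z * q⁻¹ * z⁻¹) * (r * z * r⁻¹ * z⁻¹) := by
  have h1 := h.com r hr z h.hz
  have h2 := h.cV hq h1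
  have h3 := h.com q hq z h.hz
  calc q * r * z * (q * r)⁻¹ * z⁻¹ = (q * (r * z * r⁻¹ * z⁻¹)) * z * q⁻¹ * z⁻¹ := by group
    _ = (r * z * r⁻¹ * z⁻¹) * (q * z * q⁻¹ * z⁻¹) := by rw [h2]; group
    _ = _ := h.hV.coord.comm_mem h1 h3

theorem tau_conj {q : X} (hq : q ∈ Q) (x : X) :
    (x * q * x⁻¹) * z * (x * q * x⁻¹)⁻¹ * z⁻¹ = x * (q * z * q⁻¹ * z⁻¹) * x⁻¹ := by
  obtain ⟨v, hv, hvz⟩ := h.xz x⁻¹
  have h1 : x⁻¹ * z * x = v * z := by rw [← hvz]; group
  have hqv := h.cV hq hv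
  have h4 : z⁻¹ = x * (v * z)⁻¹ * x⁻¹ := by rw [← h1]; group
  have h5 := h.com q hq z h.hz
  calc (x * q * x⁻¹) * z * (x * q * x⁻¹)⁻¹ * z⁻¹
      = x * (q * (x⁻¹ * z * x) * q⁻¹) * x⁻¹ * z⁻¹ := by group
    _ = x * (q * (v * z) * q⁻¹) * x⁻¹ * (x * (v * z)⁻¹ * x⁻¹) := by rw [h1, ← h4]
    _ = x * ((q * v) * z * q⁻¹ * z⁻¹ * v⁻¹) * x⁻¹ := by group
    _ = x * (v * (q * z * q⁻¹ * z⁻¹) * v⁻¹) * x⁻¹ := by rw [hqv]; group
    _ = x * (q * z * q⁻¹ * z⁻¹) * x⁻¹ := by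
        rw [h.hV.coord.comm_mem hv h5, mul_inv_cancel_right]

/-- `Q` centralises `z`. -/
theorem cz {q : X} (hq : q ∈ Q) : q * z = z * q := by
  by_contra hcon
  have hQn := h.hQ.normal
  -- normalise
  obtain ⟨p, hp⟩ := (h.hV.coord.mem _).1 (h.com q hq z h.hz)
  have hp0 : p ≠ 0 := by
    rintro rfl
    rw [h.hV.coord.zero] at hp
    apply hcon
    calc q * z = (q * z * q⁻¹ * z⁻¹) * (z * q) := by group
      _ = z * q := by rw [← hp, one_mul]
  obtain ⟨i, hi⟩ := C2ThreeOne.NatTrans h.hV h.hy h.hyQ hp0 (q := e1) (by decide)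
  set u := y ^ i * q * (y ^ i)⁻¹ with hu
  have huQ : u ∈ Q := hQn.conj_mem q hq _
  have hut : u * z * u⁻¹ * z⁻¹ = w e1 := by
    rw [hu, h.tau_conj hq, ← hp, hi]
  obtain ⟨b, hb⟩ := (h.hV.coord.mem _).1 (h.sq u huQ)
  have hwV : ∀ p, w p ∈ V := h.hV.coord.mem_w
  -- the kernel of the commutator map
  let K : Subgroup X := Q ⊓ centralizer ({z} : Set X)
  have hKmem : ∀ k, k ∈ K ↔ k ∈ Q ∧ k * z = z * k := fun k => by
    rw [mem_inf, mem_centralizer_singleton_iff]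
  have hKn : K.Normal := by
    refine ⟨fun k hk x => ?_⟩
    rw [hKmem] at hk ⊢
    refine ⟨hQn.conj_mem k hk.1 x, ?_⟩
    have h1 := h.tau_conj hk.1 x
    have h2 : k * z * k⁻¹ * z⁻¹ = 1 := by rw [hk.2]; group
    rw [h2] at h1
    calc x * k * x⁻¹ * z = (x * k * x⁻¹ * z * (x * k * x⁻¹)⁻¹ * z⁻¹) * (z * (x * k * x⁻¹)) := by group
      _ = z * (x * k * x⁻¹) := by rw [h1]; group
  have hK : ∀ k ∈ Q, k * z = z * k → k ∈ V ∨ k * z ∈ V := by
    intro k hk hkz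
    refine h.min K hKn inf_le_left ?_ ?_ k ((hKmem k).2 ⟨hk, hkz⟩)
    · intro v hv
      exact (hKmem v).2 ⟨h.hV.le hv, (h.cV h.hz hv).symm⟩
    · intro h0
      exact hcon ((hKmem q).1 (h0 ▸ hq)).2
  -- the action on the square
  have hsq : ∀ k, k ∈ V ∨ k * z ∈ V → (u * k) * (u * k) = w b ∨ (u * k) * (u * k) = w (e1 + b) := by
    intro k hk
    rcases hk with hk | hk
    · left
      calc (u * k) * (u * k) = u * (k * u) * k := by group
        _ = (u * u) * (k * k) := by rw [← h.cV huQ hk]; group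
        _ = w b := by rw [h.vv hk, mul_one, hb]
    · right
      set v := k * z with hv
      have hkv : k = v * z := by
        rw [hv, mul_assoc, h.zz, mul_one]
      have e2 : u * z = w e1 * (z * u) := by rw [← hut]; group
      have e3 := h.sq u huQ
      calc (u * k) * (u * k) = (u * v) * z * (u * v) * z := by rw [hkv]; group
        _ = v * (u * z) * v * (u * z) := by rw [h.cV huQ hk]; group
        _ = (v * v) * ((u * z) * (u * z)) := by
            rw [mul_assoc v (u * z) v, h.cV (Q.mul_mem huQ h.hz) hk]; group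
        _ = (u * z) * (u * z) := by rw [h.vv hk, one_mul]
        _ = w e1 * (z * u) * (u * z) := by rw [← e2]
        _ = w e1 * (z * (u * u) * z) := by group
        _ = w e1 * ((u * u) * (z * z)) := by rw [h.cV h.hz e3]; group
        _ = w (e1 + b) := by rw [h.zz, mul_one, ← hb, h.hV.coord.mul]
  have hact : ∀ (x : X) (m : M3), Acts w x m → x * (u * u) * x⁻¹ = w (lin m b) := fun x m hx => by
    rw [← hb, hx]
  have hxx : ∀ x k : X, x * u * x⁻¹ = u * k → x * (u * u) * x⁻¹ = (u * k) * (u * k) := by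
    intro x k hk
    rw [← hk]
    group
  -- `d`
  have hb0 : b = 0 ∨ b = e1 := by
    obtain ⟨d, hd⟩ := h.hV.real md md_bas
    apply md_fix
    have h1 : (d * u * d⁻¹) * z * (d * u * d⁻¹)⁻¹ * z⁻¹ = w e1 := by
      rw [h.tau_conj huQ, hut, hd]
      rfl
    set k := u⁻¹ * (d * u * d⁻¹) with hk
    have huk : d * u * d⁻¹ = u * k := by rw [hk]; group
    have hkQ : k ∈ Q := Q.mul_mem (Q.inv_mem huQ) (hQn.conj_mem u huQ d)
    have h2 := h.tau_mul huQ hkQ
    rw [← huk, h1, hut] at h2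
    have h3 : k * z * k⁻¹ * z⁻¹ = 1 := (left_eq_mul.1 h2)
    have h4 : k * z = z * k := by
      calc k * z = (k * z * k⁻¹ * z⁻¹) * (z * k) := by group
        _ = z * k := by rw [h3, one_mul]
    rcases hsq k (hK k hkQ h4) with h5 | h5
    · left
      rw [← hxx d k huk, hact d md hd] at h5
      exact h.hV.coord.injective h5
    · right
      rw [← hxx d k huk, hact d md hd] at h5
      exact h.hV.coord.injective h5
  -- `x`
  have he1 : w e1 ≠ 1 := fun h0 => absurd (h.hV.coord.inj _ h0) (by decide)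
  have huV : u ∉ V := fun h0 => he1 (by
    rw [← hut, ← h.cV h.hz h0]; group)
  have huz : u * z ∉ V := fun h0 => he1 (by
    have h1 := h.cV h.hz h0
    have h2 : u * z * u⁻¹ * z⁻¹ = (u * z) * z * (u * z)⁻¹ * z⁻¹ := by group
    rw [← hut, h2, ← h1]; group)
  obtain ⟨x, v, hv, hx⟩ := h.move u huQ huV huz
  obtain ⟨m, -, hm⟩ := h.hV.acts x
  have hvz : v * z ∈ Q := Q.mul_mem (h.hV.le hv) h.hz
  have h1 : lin m e1 = e1 := by
    apply h.hV.coord.injective
    rw [← hm, ← hut, ← h.tau_conj huQ, hx, h.tau_mul huQ hvz]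
    have h2 : v * z * z * (v * z)⁻¹ * z⁻¹ = 1 := by
      calc v * z * z * (v * z)⁻¹ * z⁻¹ = v * z * v⁻¹ * z⁻¹ := by group
        _ = 1 := by rw [← h.cV h.hz hv]; group
    rw [h2, mul_one]
  refine e1_fix h1 hb0 ?_
  have hkz : v * z * z ∈ V := by rw [mul_assoc, h.zz, mul_one]; exact hv
  have h6 := hxx x _ hx
  rw [hact x m hm] at h6
  have h7 : (u * (v * z)) * (u * (v * z)) = w (e1 + b) := by
    rcases hsq (v * z) (Or.inr hkz) with h8 | h8
    · -- `v z ∉ V`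
      exfalso
      have e2 : u * z = w e1 * (z * u) := by rw [← hut]; group
      have e3 := h.sq u huQ
      have h9 : (u * (v * z)) * (u * (v * z)) = w (e1 + b) := by
        calc (u * (v * z)) * (u * (v * z)) = (u * v) * z * (u * v) * z := by group
          _ = v * (u * z) * v * (u * z) := by rw [h.cV huQ hv]; group
          _ = (v * v) * ((u * z) * (u * z)) := by
              rw [mul_assoc v (u * z) v, h.cV (Q.mul_mem huQ h.hz) hv]; group
          _ = (u * z) * (u * z) := by rw [h.vv hv, one_mul]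
          _ = w e1 * (z * u) * (u * z) := by rw [← e2]
          _ = w e1 * (z * (u * u) * z) := by group
          _ = w e1 * ((u * u) * (z * z)) := by rw [h.cV h.hz e3]; group
          _ = w (e1 + b) := by rw [h.zz, mul_one, ← hb, h.hV.coord.mul]
      rw [h9] at h8
      have h10 := h.hV.coord.injective h8
      have h11 : e1 = 0 := by simpa using h10
      exact absurd h11 (by decide)
    · exact h8
  rw [h7] at h6
  exact h.hV.coord.injective h6

/-- the subgroup `V × ⟨z⟩` -/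
def Z1 : Subgroup X where
  carrier := {x | x ∈ V ∨ x * z ∈ V}
  one_mem' := Or.inl V.one_mem
  mul_mem' := by
    have hVn := h.hV.normal
    rintro a b (ha | ha) (hb | hb)
    · exact Or.inl (V.mul_mem ha hb)
    · right
      rw [mul_assoc]
      exact V.mul_mem ha hb
    · right
      have e : a * b * z = (a * z) * (z⁻¹ * b * z⁻¹⁻¹) := by group
      rw [e]
      exact V.mul_mem ha (hVn.conj_mem b hb _)
    · left
      have e : a * b = (a * z) * (z⁻¹ * (b * z) * z⁻¹⁻¹) * (z * z)⁻¹ := by group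
      rw [e, h.zz, inv_one, mul_one]
      exact V.mul_mem ha (hVn.conj_mem _ hb _)
  inv_mem' := by
    have hVn := h.hV.normal
    rintro a (ha | ha)
    · exact Or.inl (V.inv_mem ha)
    · right
      have e : a⁻¹ * z = (z * (a * z)⁻¹ * z⁻¹) * (z * z) := by group
      rw [e, h.zz, mul_one]
      exact hVn.conj_mem _ (V.inv_mem ha) _

theorem mem_Z1 {x : X} : x ∈ h.Z1 ↔ x ∈ V ∨ x * z ∈ V := Iff.rfl

theorem z_mem : z ∈ h.Z1 := h.mem_Z1.2 (Or.inr (by rw [h.zz]; exact V.one_mem))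

theorem V_le : V ≤ h.Z1 := fun _ hv => h.mem_Z1.2 (Or.inl hv)

theorem eq_of {x : X} (hx : x * z ∈ V) : ∃ v ∈ V, x = v * z :=
  ⟨x * z, hx, by rw [mul_assoc, h.zz, mul_one]⟩

theorem Z1_le : h.Z1 ≤ Q := by
  intro x hx
  rcases hx with hx | hx
  · exact h.hV.le hx
  · obtain ⟨v, hv, rfl⟩ := h.eq_of hx
    exact Q.mul_mem (h.hV.le hv) h.hz

theorem Z1_normal : h.Z1.Normal := by
  refine ⟨fun x hx g => ?_⟩
  have hVn := h.hV.normal
  rcases hx with hx | hx
  · exact Or.inl (hVn.conj_mem x hx g)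
  · obtain ⟨v, hv, rfl⟩ := h.eq_of hx
    right
    have e : g * (v * z) * g⁻¹ * z = (g * v * g⁻¹) * (g * z * g⁻¹ * z⁻¹) * (z * z) := by group
    rw [e, h.zz, mul_one]
    exact V.mul_mem (hVn.conj_mem v hv g) (h.zx g)

theorem Z1_sq {x : X} (hx : x ∈ h.Z1) : x * x = 1 := by
  rcases hx with hx | hx
  · exact h.vv hx
  · obtain ⟨v, hv, rfl⟩ := h.eq_of hx
    calc v * z * (v * z) = v * (z * v) * z := by group
      _ = (v * v) * (z * z) := by rw [h.cV h.hz hv]; group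
      _ = 1 := by rw [h.vv hv, h.zz, mul_one]

theorem card_Z1 [Finite X] : Nat.card h.Z1 = 16 := by
  have h1 : V.relIndex h.Z1 = 2 := by
    show (V.subgroupOf h.Z1).index = 2
    rw [Subgroup.index_eq_two_iff]
    refine ⟨⟨z, h.z_mem⟩, fun b => ?_⟩
    obtain ⟨b, hb⟩ := b
    simp only [mem_subgroupOf, coe_mul]
    rcases hb with hb | hb
    · right
      exact ⟨hb, fun h0 => h.zV (by
        have := V.mul_mem (V.inv_mem hb) h0
        simpa using this)⟩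
    · left
      exact ⟨hb, fun h0 => h.zV (by
        have := V.mul_mem (V.inv_mem h0) hb
        simpa using this)⟩
  rw [card_eq_relIndex_mul h.Z1 V h.V_le, h1, h.hV.coord.card]

theorem nat2 [Finite X] (hc : Nat.card Q = 128) : h.Z1.Normal ∧ ∀ _ : h.Z1.Normal, ∃ w2,
    NatMod (Q.map (QuotientGroup.mk' h.Z1)) (Q.map (QuotientGroup.mk' h.Z1)) w2 ∧
    ∃ v ∈ Q.map (QuotientGroup.mk' h.Z1), (y : X ⧸ h.Z1) * v ≠ v * (y : X ⧸ h.Z1) := by
  refine ⟨h.Z1_normal, fun hn => ?_⟩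
  have hVn := h.hV.normal
  have hQn := h.hQ.normal
  have h1 := card_map_mk Q h.Z1 h.Z1_le
  rw [h.card_Z1, hc] at h1
  obtain ⟨w2, hw2⟩ := exists_coord (V := Q.map (QuotientGroup.mk' h.Z1)) (by
    rintro _ ⟨q, hq, rfl⟩
    rw [← map_mul]
    exact (QuotientGroup.eq_one_iff _).2 (h.V_le (h.sq q hq))) (by omega)
  have hne : ∃ v ∈ Q.map (QuotientGroup.mk' h.Z1), (y : X ⧸ h.Z1) * v ≠ v * (y : X ⧸ h.Z1) := by
    by_contra hcon
    push Not at hcon
    have h2 : ∀ q ∈ Q, y * q * y⁻¹ * q⁻¹ ∈ h.Z1 := by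
      intro q hq
      have h3 := hcon _ ⟨q, hq, rfl⟩
      rw [← QuotientGroup.eq_one_iff]
      show (y : X ⧸ h.Z1) * q * (y : X ⧸ h.Z1)⁻¹ * (q : X ⧸ h.Z1)⁻¹ = 1
      have h4 : (y : X ⧸ h.Z1) * q = q * (y : X ⧸ h.Z1) := h3
      rw [h4]
      group
    have h3 : Q ≤ h.Z1 := by
      intro q hq
      refine h.fix q hq (mem_of_comm_mem h.hQ.two h.hy (h.Z1_le (h2 q hq)) ?_)
      set c := y * q * y⁻¹ * q⁻¹ with hcdef
      rcases h2 q hq with h4 | h4
      · exact V.mul_mem (hVn.conj_mem c h4 y) (V.inv_mem h4)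
      · obtain ⟨v, hv, hvz⟩ := h.eq_of h4
        have hvz' : c = v * z := hvz
        rw [hvz']
        have e : y * (v * z) * y⁻¹ * (v * z)⁻¹ = (y * v * y⁻¹) * (y * z * y⁻¹ * z⁻¹) * v⁻¹ := by
          group
        rw [e, h.zy]
        have e2 : z * y * y⁻¹ * z⁻¹ = 1 := by group
        rw [e2, mul_one]
        exact V.mul_mem (hVn.conj_mem v hv y) (V.inv_mem hv)
    have h4 := card_le_of_le h3
    rw [hc, h.card_Z1] at h4
    omega
  refine ⟨w2, natMod_of (C2ThreeK0.L32.map h.hQ h.Z1 h.Z1_le) (hQn.map _ (QuotientGroup.mk'_surjective _))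
    le_rfl hw2 (y := (y : X ⧸ h.Z1)) ?_ hne, hne⟩
  rw [← QuotientGroup.mk_pow, h.hy]
  rfl

theorem abel [Finite X] (hr : R4 X) (hc : Nat.card Q = 128) : ∀ a ∈ Q, ∀ b ∈ Q, a * b = b * a := by
  obtain ⟨hn, hn2⟩ := h.nat2 hc
  obtain ⟨w2, hw2, hyU⟩ := hn2 hn
  refine (sq_lemma (Z := h.Z1) h.hV h.V_le h.Z1_le (fun x hx => h.Z1_sq hx) ?_ h.sq hw2 h.hy ?_ hyU ?_).1
  · rintro x hx u hu
    rcases hx with hx | hx
    · exact (h.cV hu hx).symm
    · obtain ⟨v, hv, rfl⟩ := h.eq_of hx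
      calc v * z * u = v * (z * u) := by group
        _ = (v * u) * z := by rw [← h.cz hu]; group
        _ = u * (v * z) := by rw [← h.cV hu hv]; group
  · by_contra hcon
    push Not at hcon
    exact h.hyQ ((h.hV.cent y).1 hcon)
  · by_contra hcon
    push Not at hcon
    have h1 := hr Q ⊥ (elem_bot fun v hv => by rw [pow_two]; exact hcon v hv)
    rw [hc] at h1
    simp at h1

theorem false [Finite X] (hr : R4 X) (hc : Nat.card Q = 128) : False := by
  have hab := h.abel hr hc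
  obtain ⟨hn, hn2⟩ := h.nat2 hc
  obtain ⟨w2, hw2, -⟩ := hn2 hn
  have hQn := h.hQ.normal
  have hVn := h.hV.normal
  obtain ⟨u, hu, huw⟩ := hw2.coord.mem_w e1
  have huw' : (u : X ⧸ h.Z1) = w2 e1 := huw
  have hu1 : u ∉ h.Z1 := by
    intro h0
    rw [← QuotientGroup.eq_one_iff, huw'] at h0
    exact absurd (hw2.coord.inj _ h0) (by decide)
  obtain ⟨x, v, hv, hx⟩ := h.move u hu (fun h0 => hu1 (Or.inl h0)) (fun h0 => hu1 (Or.inr h0))
  -- the images modulo `V`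
  have hcx : ∀ g : X, (g : X ⧸ V) * (z : X ⧸ V) * (g : X ⧸ V)⁻¹ = z := by
    intro g
    have h1 : ((g * z * g⁻¹ * z⁻¹ : X) : X ⧸ V) = 1 := (QuotientGroup.eq_one_iff _).2 (h.zx g)
    have h2 : (g : X ⧸ V) * z * (g : X ⧸ V)⁻¹ * (z : X ⧸ V)⁻¹ = 1 := h1
    exact mul_inv_eq_one.1 h2
  have hcc : (z : X ⧸ V) * z = 1 := by
    have h1 : ((z * z : X) : X ⧸ V) = 1 := by rw [h.zz]; rfl
    exact h1
  have hc1 : (u : X ⧸ V) ≠ u * z := by
    intro h0
    have h1 : (z : X ⧸ V) = 1 := left_eq_mul.1 h0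
    exact h.zV ((QuotientGroup.eq_one_iff _).1 h1)
  have hxb : (x : X ⧸ V) * u * (x : X ⧸ V)⁻¹ = u * z := by
    have h1 : ((x * u * x⁻¹ : X) : X ⧸ V) = ((u * (v * z) : X) : X ⧸ V) := by rw [hx]
    have h2 : ((u * (v * z) : X) : X ⧸ V) = (u : X ⧸ V) * ((v : X ⧸ V) * z) := rfl
    rw [h2, (QuotientGroup.eq_one_iff v).2 hv, one_mul] at h1
    exact h1
  -- elements fixing the image of `u` in `X / Z₁`
  have hS : ∀ s : X, (s : X ⧸ h.Z1) * w2 e1 * (s : X ⧸ h.Z1)⁻¹ = w2 e1 →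
      (s : X ⧸ V) * u * (s : X ⧸ V)⁻¹ = u ∨ (s : X ⧸ V) * u * (s : X ⧸ V)⁻¹ = u * z := by
    intro s hs
    rw [← huw'] at hs
    have h1 : u⁻¹ * (s * u * s⁻¹) ∈ h.Z1 := QuotientGroup.eq.1 hs.symm
    rcases h1 with h1 | h1
    · left
      exact (QuotientGroup.eq.2 h1).symm
    · right
      have h2 : (u * z)⁻¹ * (s * u * s⁻¹) ∈ V := by
        have e : (u * z)⁻¹ * (s * u * s⁻¹) = z⁻¹ * (u⁻¹ * (s * u * s⁻¹) * z) * z⁻¹⁻¹ * (z * z)⁻¹ := by
          group
        rw [e, h.zz, inv_one, mul_one]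
        exact hVn.conj_mem _ h1 _
      exact (QuotientGroup.eq.2 h2).symm
  have hss : ∀ s : X, ((s : X ⧸ V) * u * (s : X ⧸ V)⁻¹ = u ∨ (s : X ⧸ V) * u * (s : X ⧸ V)⁻¹ = u * z) →
      ((s : X ⧸ V) * s) * u * ((s : X ⧸ V) * s)⁻¹ = u := by
    intro s hs
    have e : ((s : X ⧸ V) * s) * u * ((s : X ⧸ V) * s)⁻¹ =
        (s : X ⧸ V) * ((s : X ⧸ V) * u * (s : X ⧸ V)⁻¹) * (s : X ⧸ V)⁻¹ := by group
    rw [e]
    rcases hs with hs | hs
    · rw [hs, hs]
    · rw [hs]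
      have e2 : (s : X ⧸ V) * (u * z) * (s : X ⧸ V)⁻¹ = ((s : X ⧸ V) * u * (s : X ⧸ V)⁻¹) *
        ((s : X ⧸ V) * z * (s : X ⧸ V)⁻¹) := by group
      rw [e2, hs, hcx, mul_assoc, hcc, mul_one]
  have hqq : ∀ q ∈ Q, (q : X ⧸ V) * u * (q : X ⧸ V)⁻¹ = u := by
    intro q hq
    have h1 : (q : X ⧸ V) * u = u * q := by
      have : ((q * u : X) : X ⧸ V) = ((u * q : X) : X ⧸ V) := by rw [hab q hq u hu]
      exact this
    rw [h1]
    group
  have hlift : ∀ g : X, (g : X ⧸ h.Z1) ∈ Q.map (QuotientGroup.mk' h.Z1) → g ∈ Q := by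
    rintro g ⟨q, hq, hqg⟩
    have h1 : q⁻¹ * g ∈ h.Z1 := QuotientGroup.eq.1 hqg
    have h2 : g = q * (q⁻¹ * g) := by group
    rw [h2]
    exact Q.mul_mem hq (h.Z1_le h1)
  -- the matrix of `x`
  obtain ⟨m, hmb, hm⟩ := hw2.acts (x : X ⧸ h.Z1)
  have hm1 : m.1 = e1 := by
    rw [← lin_e1]
    apply hw2.coord.injective
    rw [← hm, ← huw']
    have h1 : u⁻¹ * (x * u * x⁻¹) ∈ h.Z1 := by
      rw [hx, inv_mul_cancel_left]
      exact h.Z1.mul_mem (h.V_le hv) h.z_mem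
    exact (QuotientGroup.eq.2 h1).symm
  obtain ⟨a, hab', ha1, hma⟩ := four m hmb hm1
  obtain ⟨s', hs'⟩ := hw2.real a hab'
  obtain ⟨s, rfl⟩ := QuotientGroup.mk_surjective s'
  have hsS := hss s (hS s (by rw [hs', lin_e1, ha1]))
  rcases hma with hma | hma
  · -- `x = q s s`
    have h1 := hw2.same hm (by rw [hma]; exact hs'.mul hs')
    have h2 : x * (s * s)⁻¹ ∈ Q := hlift _ h1
    apply hc1
    have h3 := hqq _ h2
    have h4 : (x : X ⧸ V) = ((x * (s * s)⁻¹ : X) : X ⧸ V) * ((s : X ⧸ V) * s) := by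
      have : x = x * (s * s)⁻¹ * (s * s) := by group
      conv_lhs => rw [this]
      rfl
    rw [← hxb]
    generalize ((x * (s * s)⁻¹ : X) : X ⧸ V) = q at h3 h4
    rw [h4]
    calc (u : X ⧸ V) = q * u * q⁻¹ := h3.symm
      _ = q * (((s : X ⧸ V) * s) * u * ((s : X ⧸ V) * s)⁻¹) * q⁻¹ := by rw [hsS]
      _ = _ := by group
  · obtain ⟨t', ht'⟩ := hw2.real mt mt_bas
    obtain ⟨t, rfl⟩ := QuotientGroup.mk_surjective t'
    have h1 := hw2.same hm (by rw [hma]; exact (hs'.mul hs').mul ht')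
    have h2 : x * (s * s * t)⁻¹ ∈ Q := hlift _ h1
    have htt : t * t ∈ Q := by
      apply hlift
      have h3 := ht'.mul ht'
      rw [mt_sq] at h3
      exact (hw2.mem_iff h3).2 rfl
    rcases hS t (by rw [ht', lin_e1]; rfl) with h3 | h3
    · apply hc1
      have h5 := hqq _ h2
      have h4 : (x : X ⧸ V) = ((x * (s * s * t)⁻¹ : X) : X ⧸ V) * (((s : X ⧸ V) * s) * t) := by
        have : x = x * (s * s * t)⁻¹ * (s * s * t) := by group
        conv_lhs => rw [this]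
        rfl
      rw [← hxb]
      generalize ((x * (s * s * t)⁻¹ : X) : X ⧸ V) = q at h5 h4
      rw [h4]
      calc (u : X ⧸ V) = q * u * q⁻¹ := h5.symm
        _ = q * (((s : X ⧸ V) * s) * u * ((s : X ⧸ V) * s)⁻¹) * q⁻¹ := by rw [hsS]
        _ = q * (((s : X ⧸ V) * s) * ((t : X ⧸ V) * u * (t : X ⧸ V)⁻¹) * ((s : X ⧸ V) * s)⁻¹) * q⁻¹ := by
            rw [h3]
        _ = _ := by group
    · -- `t` moves `u`
      set k := u⁻¹ * (t * u * t⁻¹) with hk
      have hkt : t * u * t⁻¹ = u * k := by rw [hk]; group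
      have hkz : k * z ∈ V := by
        have h4 : (u * z)⁻¹ * (t * u * t⁻¹) ∈ V := QuotientGroup.eq.1 h3.symm
        have e : k * z = z * ((u * z)⁻¹ * (t * u * t⁻¹)) * z⁻¹ * (z * z) := by rw [hk]; group
        rw [e, h.zz, mul_one]
        exact hVn.conj_mem _ h4 _
      have hk1 : k ∈ h.Z1 := Or.inr hkz
      have hkk := h.Z1_sq hk1
      have h5 : u * k * (t * k * t⁻¹) = u := by
        calc u * k * (t * k * t⁻¹) = (t * u * t⁻¹) * (t * k * t⁻¹) := by rw [hkt]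
          _ = t * (u * k) * t⁻¹ := by group
          _ = t * (t * u * t⁻¹) * t⁻¹ := by rw [hkt]
          _ = (t * t) * u * (t * t)⁻¹ := by group
          _ = u := by rw [hab _ htt u hu]; group
      have h6 : k * (t * k * t⁻¹) = 1 := by
        have : u * (k * (t * k * t⁻¹)) = u * 1 := by rw [mul_one, ← mul_assoc]; exact h5
        exact mul_left_cancel this
      have h7 : t * k * t⁻¹ = k := by
        calc t * k * t⁻¹ = (k * k) * (t * k * t⁻¹) := by rw [hkk, one_mul]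
          _ = k * (k * (t * k * t⁻¹)) := by group
          _ = k := by rw [h6, mul_one]
      obtain ⟨v', hv', hkv⟩ := h.eq_of hkz
      have h8 : t * (v' * z) = (v' * z) * t := by
        rw [← hkv]
        exact mul_inv_eq_iff_eq_mul.1 h7
      have htQ := C2ThreeOne.no_fix h.hV hQn h.hQ.index hab h.hy h.hyQ h.hz h.zy h.zx h.zne htt hv' h8
      have h9 : k = 1 := by
        rw [hk, hab t htQ u hu]
        group
      rw [h9, one_mul] at hkz
      exact h.zV hkz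

end Dat

/-- **PIECE II of statement TWO.** -/
theorem caseII [Finite X] (hr : R4 X) {Q V : Subgroup X} [hVn : V.Normal] (hQ : L32 Q) {w : T3 → X}
    (hV : NatMod Q V w) {y : X} (hy : y ^ 7 = 1) (hyQ : y ∉ Q)
    (hcen : ∀ N : Subgroup X, N.Normal → N ≤ Q → (∀ n ∈ N, y * n = n * y) → N = ⊥)
    (hW : Minc (Q.map (QuotientGroup.mk' V)) (Q.map (QuotientGroup.mk' V)) (y : X ⧸ V))
    (hc : Nat.card (Q.map (QuotientGroup.mk' V)) = 16) : False := by
  have hQn := hQ.normal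
  have hy' : (y : X ⧸ V) ^ 7 = 1 := by rw [← QuotientGroup.mk_pow, hy]; rfl
  have hsq := C2ThreeMinE.minc_sq (r4_quotient hr V) (C2ThreeK0.L32.map hQ V hV.le) hy' hW
  have hcm := comm_of_sq_one hsq
  rcases shape (r4_quotient hr V) (C2ThreeK0.L32.map hQ V hV.le) hy' hW hsq with ⟨h8, -⟩ | ⟨-, c, hcQ, hc1, hcx, hfix⟩
  · omega
  have hlift : ∀ g : X, (g : X ⧸ V) ∈ Q.map (QuotientGroup.mk' V) → g ∈ Q := by
    rintro g ⟨q, hq, hqg⟩
    have h1 : q⁻¹ * g ∈ V := QuotientGroup.eq.1 hqg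
    have h2 : g = q * (q⁻¹ * g) := by group
    rw [h2]
    exact Q.mul_mem hq (hV.le h1)
  have hNF : ∀ v ∈ V, y * v = v * y → v = 1 := fun v hv => C2ThreeOne.NatFix hV hy hyQ hv
  -- the element `z`
  obtain ⟨z0, hz0, hz0c⟩ := hcQ
  have hz0c' : (z0 : X ⧸ V) = c := hz0c
  obtain ⟨v, hv, hvy⟩ := exists_conj_eq (Q := V) hVn (x := y) (y := z0 * y * z0⁻¹) hNF (by
    rw [← QuotientGroup.eq_one_iff]
    show (z0 : X ⧸ V) * y * (z0 : X ⧸ V)⁻¹ * (y : X ⧸ V)⁻¹ = 1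
    rw [hz0c', ← hcx]
    group)
  obtain ⟨z, hzdef⟩ : ∃ z, z = v⁻¹ * z0 := ⟨_, rfl⟩
  have hzQ : z ∈ Q := by rw [hzdef]; exact Q.mul_mem (Q.inv_mem (hV.le hv)) hz0
  have hzc : (z : X ⧸ V) = c := by
    rw [← hz0c', hzdef]
    refine (QuotientGroup.eq.2 ?_)
    have e : (v⁻¹ * z0)⁻¹ * z0 = z0⁻¹ * v * z0⁻¹⁻¹ := by group
    rw [e]
    exact hVn.conj_mem v hv _
  have hzy : y * z = z * y := by
    have h1 : z * y * z⁻¹ = y := by
      rw [hzdef]
      calc v⁻¹ * z0 * y * (v⁻¹ * z0)⁻¹ = v⁻¹ * (z0 * y * z0⁻¹) * v := by group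
        _ = v⁻¹ * (v * y * v⁻¹) * v := by rw [hvy]
        _ = y := by group
    exact (mul_inv_eq_iff_eq_mul.1 h1).symm
  have hzz : z * z = 1 := by
    apply hNF
    · rw [← QuotientGroup.eq_one_iff]
      show (z : X ⧸ V) * z = 1
      rw [hzc]
      exact hsq c ⟨z0, hz0, hz0c⟩
    · rw [← mul_assoc, hzy, mul_assoc, hzy, ← mul_assoc]
  have hzV : z ∉ V := fun h0 => hc1 (by rw [← hzc]; exact (QuotientGroup.eq_one_iff _).2 h0)
  have hmem : ∀ q : X, (q : X ⧸ V) = 1 ∨ (q : X ⧸ V) = c → q ∈ V ∨ q * z ∈ V := by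
    rintro q (hq | hq)
    · exact Or.inl ((QuotientGroup.eq_one_iff _).1 hq)
    · right
      rw [← QuotientGroup.eq_one_iff]
      show (q : X ⧸ V) * z = 1
      rw [hzc, hq]
      exact hsq c ⟨z0, hz0, hz0c⟩
  have hQb : ∀ q ∈ Q, (q : X ⧸ V) ∈ Q.map (QuotientGroup.mk' V) := fun q hq => ⟨q, hq, rfl⟩
  have hfix' : ∀ q ∈ Q, (y : X ⧸ V) * q = q * y → q ∈ V ∨ q * z ∈ V := fun q hq h1 =>
    hmem q (hfix _ (hQb q hq) h1)
  have D : Dat Q V w y z :=
    { hQ := hQ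
      hV := hV
      hy := hy
      hyQ := hyQ
      sq := fun q hq => (QuotientGroup.eq_one_iff _).1 (hsq _ (hQb q hq))
      com := fun q hq r hr => by
        rw [← QuotientGroup.eq_one_iff]
        show (q : X ⧸ V) * r * (q : X ⧸ V)⁻¹ * (r : X ⧸ V)⁻¹ = 1
        rw [hcm _ (hQb q hq) _ (hQb r hr)]
        group
      hz := hzQ
      zz := hzz
      zV := hzV
      zy := hzy
      zx := fun x => by
        rw [← QuotientGroup.eq_one_iff]
        show (x : X ⧸ V) * z * (x : X ⧸ V)⁻¹ * (z : X ⧸ V)⁻¹ = 1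
        rw [hzc, hcx]
        group
      zne := fun h0 => by
        have h1 := hcen (zpowers z) (C2ThreeOne.normal_of_central h0) (zpowers_le.2 hzQ) (by
          rintro n hn
          obtain ⟨k, rfl⟩ := mem_zpowers_iff.1 hn
          exact (show Commute y z from hzy).zpow_right k)
        apply hzV
        rw [zpowers_eq_bot.1 h1]
        exact V.one_mem
      fix := fun q hq h1 => hfix' q hq (by
        rw [← QuotientGroup.eq_one_iff] at h1
        have h2 : (y : X ⧸ V) * q * (y : X ⧸ V)⁻¹ * (q : X ⧸ V)⁻¹ = 1 := h1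
        rw [mul_inv_eq_one, mul_inv_eq_iff_eq_mul] at h2
        exact h2)
      min := fun N hN hNQ hVN hne n hn => hfix' n (hNQ hn) (by
        refine hW.min (N.map (QuotientGroup.mk' V)) (hN.map _ (QuotientGroup.mk'_surjective V))
          (map_mono hNQ) (fun h0 => hne (le_antisymm hNQ fun q hq => ?_)) n ⟨n, hn, rfl⟩
        have h1 := hQb q hq
        rw [← h0] at h1
        obtain ⟨n', hn', he⟩ := h1
        have h2 : n'⁻¹ * q ∈ V := QuotientGroup.eq.1 he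
        have h3 : q = n' * (n'⁻¹ * q) := by group
        rw [h3]
        exact N.mul_mem hn' (hVN h2))
      move := fun u hu hu1 hu2 => by
        have hmapn : (Q.map (QuotientGroup.mk' V)).Normal := hQn.map _ (QuotientGroup.mk'_surjective V)
        obtain ⟨x', hx'⟩ := C2SevenKill.move_of_min hmapn hc hsq (c := c) (y := (y : X ⧸ V))
          ⟨z0, hz0, hz0c⟩ hcx hc1 hy' hW.ne (fun N hN hNQ hne => hW.min N hN hNQ hne) (hQb u hu)
          (fun h0 => hu1 ((QuotientGroup.eq_one_iff _).1 h0)) (fun h0 => hu2 (by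
            rcases hmem u (Or.inr h0) with h1 | h1
            · exact absurd h1 hu1
            · exact h1))
        obtain ⟨x, rfl⟩ := QuotientGroup.mk_surjective x'
        refine ⟨x, u⁻¹ * (x * u * x⁻¹) * z, ?_, ?_⟩
        · rw [← QuotientGroup.eq_one_iff]
          show (u : X ⧸ V)⁻¹ * ((x : X ⧸ V) * u * (x : X ⧸ V)⁻¹) * z = 1
          rw [hx', hzc]
          have h2 : c * c = 1 := hsq c ⟨z0, hz0, hz0c⟩
          rw [inv_mul_cancel_left, h2]
        · rw [mul_assoc _ z z, hzz, mul_one]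
          group }
  refine D.false hr ?_
  have h1 := card_map_mk Q V hV.le
  rw [hc, hV.coord.card] at h1
  omega

end Cfsg.Agent.GH.C2ThreeII
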