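import Cfsg.Agent.GH.C2ThreeNat
import Cfsg.Agent.Lib.DihedralRecog

/-!
# GH-C2 (T3): a transfer lemma

`X / Q = L₃(2)`, `N` normal in `X`, `|Q : N| = 2`; if every square in `Q` lies in `N` then `X` has a normal subgroup
of index 2 meeting `Q` in `N`.
-/

set_option autoImplicit false

namespace Cfsg.Agent.GH.C2ThreeTr

open Subgroup Cfsg.Agent.GH.C2ThreeNat Cfsg.Agent.Lib.DihedralRecog

/-- powers of the element of order 4 -/
def mpow : ℕ → M3
  | 0 => idm
  | n + 1 => cmp (mpow n) (cmp (mR 1 0) mt)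

theorem mpow_ne (n : ℕ) (hn : n < 4) (h0 : n ≠ 0) : mpow n ≠ idm := by
  interval_cases n
  · exact absurd rfl h0
  · decide
  · decide
  · decide

theorem mR_mpow_ne : ∀ n : ℕ, n < 4 → cmp (mR 1 0) (mpow n) ≠ idm := by decide

theorem mR_sq : cmp (mR 1 0) (mR 1 0) = idm := by decide

theorem mt_sq : cmp mt mt = idm := by decide

theorem mpow_four : cmp (cmp (cmp (mR 1 0) mt) (cmp (mR 1 0) mt))
    (cmp (cmp (mR 1 0) mt) (cmp (mR 1 0) mt)) = idm := by decide

variable {X : Type*} [Group X]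

theorem acts_mpow {w : T3 → X} {x : X} (hx : Acts w x (cmp (mR 1 0) mt)) (n : ℕ) :
    Acts w (x ^ n) (mpow n) := by
  induction n with
  | zero => rw [pow_zero]; exact Acts.one w
  | succ n ih => rw [pow_succ]; exact ih.mul hx

theorem zpw_val {G : Type*} [Group G] (r : G) (hr : r ^ 4 = 1) (i : ZMod 4) :
    zpw r hr i = r ^ i.val := by
  have h1 : i = ((i.val : ℤ) : ZMod 4) := by
    rw [Int.cast_natCast, ZMod.natCast_val, ZMod.cast_id]
  nth_rewrite 1 [h1]
  rw [zpw_intCast, zpow_natCast]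

/-- A central involution outside an index 16 complement-type subgroup: the transfer. -/
theorem transfer_split {Y : Type*} [Group Y] [Finite Y] {ζ : Y} (hζ : ∀ y, ζ * y = y * ζ)
    (hζ2 : ζ * ζ = 1) (hζ1 : ζ ≠ 1) {D : Type*} [Group D] [Finite D] (f : D →* Y)
    (hf : Function.Injective f) (hfζ : ∀ d, f d ≠ ζ)
    (hodd : ¬ 2 ∣ Nat.card Y / (Nat.card D * 2)) : ∃ Y1 : Subgroup Y, Y1.Normal ∧ Y1.index = 2 ∧ ζ ∉ Y1 := by
  classical
  have ho : orderOf ζ = 2 := orderOf_eq_prime (by rw [pow_two, hζ2]) hζ1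
  have hcardC : Nat.card (zpowers ζ) = 2 := by rw [Nat.card_zpowers, ho]
  have memC : ∀ c ∈ zpowers ζ, c = 1 ∨ c = ζ := by
    rintro c ⟨n, rfl⟩
    have h2 : ζ ^ (2 : ℤ) = 1 := by rw [zpow_two, hζ2]
    rcases Int.even_or_odd n with hn | hn
    · obtain ⟨m, rfl⟩ := hn
      left
      show ζ ^ (m + m) = 1
      rw [← two_mul, zpow_mul, h2, one_zpow]
    · obtain ⟨m, rfl⟩ := hn
      right
      show ζ ^ (2 * m + 1) = ζ
      rw [zpow_add, zpow_mul, h2, one_zpow, one_mul, zpow_one]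
  have hcomm : ∀ (d : D) (c : zpowers ζ), Commute (f d) ((zpowers ζ).subtype c) := by
    intro d c
    rcases memC c c.2 with h | h
    · show f d * (c : Y) = c * f d
      rw [h, one_mul, mul_one]
    · show f d * (c : Y) = c * f d
      rw [h, hζ]
  let F : D × zpowers ζ →* Y := MonoidHom.noncommCoprod f (zpowers ζ).subtype hcomm
  have hFapp : ∀ p : D × zpowers ζ, F p = f p.1 * (p.2 : Y) := fun p => rfl
  have hF : Function.Injective F := by
    rw [injective_iff_map_eq_one]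
    rintro ⟨d, c⟩ h
    rw [hFapp] at h
    rcases memC c c.2 with hc | hc
    · have hc' : c = 1 := Subtype.ext hc
      rw [hc, mul_one] at h
      have hd : d = 1 := hf (by rw [h, map_one])
      rw [hd, hc']
      rfl
    · exfalso
      rw [hc] at h
      apply hfζ d
      rw [eq_inv_of_mul_eq_one_left h]
      exact inv_eq_of_mul_eq_one_left hζ2
  let e : (D × zpowers ζ) ≃* F.range := MonoidHom.ofInjective hF
  let χ : F.range →* zpowers ζ := (MonoidHom.snd D (zpowers ζ)).comp e.symm.toMonoidHom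
  have hcardR : Nat.card F.range = Nat.card D * 2 := by
    rw [← Nat.card_congr e.toEquiv, Nat.card_prod, hcardC]
  have hidx : F.range.index = Nat.card Y / (Nat.card D * 2) := by
    rw [← hcardR]
    exact (Nat.div_eq_of_eq_mul_right Nat.card_pos (F.range.card_mul_index).symm).symm
  have hζR : ζ ∈ F.range := ⟨(1, ⟨ζ, mem_zpowers ζ⟩), by rw [hFapp, map_one, one_mul]⟩
  have hχζ : χ ⟨ζ, hζR⟩ = ⟨ζ, mem_zpowers ζ⟩ := by
    have h1 : e (1, ⟨ζ, mem_zpowers ζ⟩) = ⟨ζ, hζR⟩ := by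
      apply Subtype.ext
      show F (1, ⟨ζ, mem_zpowers ζ⟩) = ζ
      rw [hFapp, map_one, one_mul]
    show (e.symm ⟨ζ, hζR⟩).2 = _
    rw [← h1, MulEquiv.symm_apply_apply]
  have hpow : ∀ n : ℕ, ¬ 2 ∣ n → ζ ^ n = ζ := by
    intro n hn
    obtain ⟨m, rfl⟩ := Nat.odd_iff.mpr (Nat.two_dvd_ne_zero.mp hn)
    rw [pow_add, pow_mul, pow_two, hζ2, one_pow, one_mul, pow_one]
  have hpc : ∀ n : ℕ, ∀ y : Y, y⁻¹ * ζ ^ n * y = ζ ^ n := by
    intro n y
    have h1 : Commute ζ y := hζ y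
    rw [mul_assoc, (h1.pow_left n).eq, ← mul_assoc, inv_mul_cancel, one_mul]
  have hodd' : ¬ 2 ∣ F.range.index := by rw [hidx]; exact hodd
  let _ : CommGroup (zpowers ζ) :=
    { (zpowers ζ).toGroup with
      mul_comm := fun a b => by
        rcases memC a a.2 with h | h
        · have h' : a = 1 := Subtype.ext h
          rw [h', one_mul, mul_one]
        · exact Subtype.ext (by
            show (a : Y) * b = b * a
            rw [h, hζ]) }
  let τ : Y →* zpowers ζ := MonoidHom.transfer χ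
  have hτ : τ ζ = ⟨ζ, mem_zpowers ζ⟩ := by
    have h1 := MonoidHom.transfer_eq_pow χ ζ (fun n y _ => hpc n y)
    show MonoidHom.transfer χ ζ = _
    rw [h1, ← hχζ]
    congr 1
    exact Subtype.ext (hpow _ hodd')
  have hsurj : τ.range = ⊤ := by
    rw [eq_top_iff]
    rintro c -
    rcases memC c c.2 with hc | hc
    · have hc' : c = 1 := Subtype.ext hc
      rw [hc']
      exact one_mem _
    · have hc' : c = ⟨ζ, mem_zpowers ζ⟩ := Subtype.ext hc
      rw [hc', ← hτ]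
      exact ⟨ζ, rfl⟩
  refine ⟨τ.ker, inferInstance, ?_, ?_⟩
  · rw [index_ker, hsurj, card_top, hcardC]
  · rw [MonoidHom.mem_ker, hτ]
    intro h
    exact hζ1 (congrArg Subtype.val h)

/-- The transfer lemma. -/
theorem index_two [Finite X] {Q N V : Subgroup X} {w : T3 → X} (hQ : L32 Q)
    (hV : NatMod Q V w) (hN : N.Normal) (hNQ : N ≤ Q) (hrel : N.relIndex Q = 2)
    (hsq : ∀ x, x * x ∈ Q → x * x ∈ N) :
    ∃ X1 : Subgroup X, X1.Normal ∧ X1.index = 2 ∧ X1 ⊓ Q = N := by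
  -- the central involution of `X / N`
  obtain ⟨w0, hw0, hw0N⟩ : ∃ w0 ∈ Q, w0 ∉ N := by
    by_contra hcon
    push Not at hcon
    have h1 : N.relIndex Q = 1 := relIndex_eq_one.2 hcon
    omega
  have hidx2 : (N.subgroupOf Q).index = 2 := hrel
  have hmm : ∀ a ∈ Q, ∀ b ∈ Q, a ∉ N → b ∉ N → a * b ∈ N := by
    intro a ha b hb haN hbN
    have h1 := (mul_mem_iff_of_index_two hidx2 (a := ⟨a, ha⟩) (b := ⟨b, hb⟩)).2
      ⟨fun h => absurd h haN, fun h => absurd h hbN⟩
    exact h1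
  have hQn := hQ.normal
  let π : X →* X ⧸ N := QuotientGroup.mk' N
  have hπs : Function.Surjective π := QuotientGroup.mk'_surjective N
  have hπ1 : ∀ x, π x = 1 ↔ x ∈ N := fun x => QuotientGroup.eq_one_iff x
  have hζ : ∀ y, π w0 * y = y * π w0 := by
    intro y
    obtain ⟨x, rfl⟩ := hπs y
    rw [eq_comm, ← map_mul, ← map_mul, ← mul_inv_eq_one, ← map_inv, ← map_mul, hπ1]
    have h1 : x * w0 * (w0 * x)⁻¹ = (x * w0 * x⁻¹) * w0⁻¹ := by group
    rw [h1]
    refine hmm _ (hQn.conj_mem _ hw0 x) _ (inv_mem hw0) (fun h => hw0N ?_)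
      (fun h => hw0N (by simpa using inv_mem h))
    have h2 := hN.conj_mem _ h x⁻¹
    have h3 : x⁻¹ * (x * w0 * x⁻¹) * x⁻¹⁻¹ = w0 := by group
    rwa [h3] at h2
  have hζ2 : π w0 * π w0 = 1 := by
    rw [← map_mul, hπ1]
    exact hmm _ hw0 _ hw0 hw0N hw0N
  have hζ1 : π w0 ≠ 1 := fun h => hw0N ((hπ1 _).1 h)
  -- the dihedral group
  obtain ⟨s1, hs1⟩ := hV.real (mR 1 0) (mR_bas 1 0)
  obtain ⟨s2, hs2⟩ := hV.real mt mt_bas
  have hsqN : ∀ {x : X} {m : M3}, Acts w x m → cmp m m = idm → π x * π x = 1 := by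
    intro x m hx hm
    rw [← map_mul, hπ1]
    exact hsq x ((hV.mem_iff (hx.mul hx)).2 hm)
  have h11 : π s1 * π s1 = 1 := hsqN hs1 mR_sq
  have h22 : π s2 * π s2 = 1 := hsqN hs2 mt_sq
  have hρ : Acts w (s1 * s2) (cmp (mR 1 0) mt) := hs1.mul hs2
  have hρ4 : (π (s1 * s2)) ^ 4 = 1 := by
    have h1 := hsqN (hρ.mul hρ) mpow_four
    rw [map_mul π (s1 * s2) (s1 * s2)] at h1
    rw [pow_succ, pow_succ, pow_two]
    simpa only [mul_assoc] using h1
  have hinv : π s1 * π (s1 * s2) * (π s1)⁻¹ = (π (s1 * s2))⁻¹ := by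
    rw [map_mul, mul_inv_rev, ← mul_assoc, h11, one_mul, inv_eq_of_mul_eq_one_left h22]
  let f : DihedralGroup 4 →* X ⧸ N := dihedralHom (π (s1 * s2)) (π s1) hρ4 h11 hinv
  have hrep : ∀ a : DihedralGroup 4, ∃ x m, π x = f a ∧ Acts w x m ∧ (m = idm → a = 1) := by
    rintro (i | i)
    · refine ⟨(s1 * s2) ^ i.val, mpow i.val, ?_, acts_mpow hρ _, ?_⟩
      · rw [map_pow]
        exact (zpw_val _ hρ4 i).symm
      · intro h
        have h1 : i.val = 0 := by
          by_contra h0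
          exact mpow_ne _ (ZMod.val_lt i) h0 h
        have h2 : i = 0 := (ZMod.val_eq_zero i).1 h1
        rw [h2, DihedralGroup.one_def]
    · refine ⟨s1 * (s1 * s2) ^ i.val, cmp (mR 1 0) (mpow i.val), ?_, hs1.mul (acts_mpow hρ _), ?_⟩
      · rw [map_mul, map_pow]
        exact congrArg (fun t => π s1 * t) (zpw_val _ hρ4 i).symm
      · intro h
        exact absurd h (mR_mpow_ne _ (ZMod.val_lt i))
  have hfQ : ∀ a : DihedralGroup 4, ∀ q ∈ Q, f a = π q → a = 1 := by
    intro a q hq h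
    obtain ⟨x, m, hx, hm, ha⟩ := hrep a
    apply ha
    rw [← hV.mem_iff hm]
    have h1 : π (q⁻¹ * x) = 1 := by rw [map_mul, map_inv, hx, h, inv_mul_cancel]
    have h2 : q⁻¹ * x ∈ Q := hNQ ((hπ1 _).1 h1)
    have h3 := mul_mem hq h2
    rwa [mul_inv_cancel_left] at h3
  have hf : Function.Injective f := by
    rw [injective_iff_map_eq_one]
    intro a ha
    exact hfQ a 1 (one_mem _) (by rw [ha, map_one])
  have hfζ : ∀ a, f a ≠ π w0 := by
    intro a ha
    have h1 := hfQ a w0 hw0 ha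
    rw [h1, map_one] at ha
    exact hζ1 ha.symm
  have hcard : Nat.card (X ⧸ N) = 336 := by
    have h1 : N.relIndex Q * Q.index = N.index := relIndex_mul_index hNQ
    rw [hrel, hQ.index] at h1
    exact h1.symm
  have hcD : Nat.card (DihedralGroup 4) = 8 := by rw [DihedralGroup.nat_card]
  obtain ⟨Y1, hY1n, hY1i, hY1⟩ := transfer_split hζ hζ2 hζ1 f hf hfζ
    (by rw [hcard, hcD]; norm_num)
  refine ⟨Y1.comap π, hY1n.comap π, ?_, ?_⟩
  · rw [index_comap_of_surjective _ hπs, hY1i]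
  · apply le_antisymm
    · rintro x ⟨h1, h2⟩
      by_contra hxN
      apply hY1
      have h3 : x * w0 ∈ N := hmm x h2 w0 hw0 hxN hw0N
      have h4 : π x * π w0 = 1 := by rw [← map_mul, hπ1]; exact h3
      have h5 : π w0 = (π x)⁻¹ := eq_inv_of_mul_eq_one_right h4
      rw [h5]
      exact inv_mem h1
    · intro x hx
      refine ⟨?_, hNQ hx⟩
      show π x ∈ Y1
      rw [(hπ1 x).2 hx]
      exact one_mem _

/-- If `X` is the normal closure of an element of order 7 then some square lies in `Q - N`. -/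
theorem exists_sq [Finite X] {Q N V : Subgroup X} {w : T3 → X} (hQ : L32 Q)
    (hV : NatMod Q V w) (hN : N.Normal) (hNQ : N ≤ Q) (hrel : N.relIndex Q = 2)
    {y : X} (hy : y ^ 7 = 1) (hgen : normalClosure ({y} : Set X) = ⊤) :
    ∃ x, x * x ∈ Q ∧ x * x ∉ N := by
  by_contra hcon
  push Not at hcon
  obtain ⟨X1, hn, hi, -⟩ := index_two hQ hV hN hNQ hrel hcon
  have h1 : y ∈ X1 := mem_of_pow (n := 7) (k := 1) hy (by decide) (by rw [hi, pow_one])
  have h2 : normalClosure ({y} : Set X) ≤ X1 := normalClosure_le_normal (by simpa using h1)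
  rw [hgen, top_le_iff] at h2
  rw [h2, index_top] at hi
  norm_num at hi

end Cfsg.Agent.GH.C2ThreeTr
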