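import Mathlib
import Cfsg.Agent.GH.C2ThreeOneD
import Cfsg.Agent.GH.C2ThreeTr

/-!
# GH-C2 (T3), statement ONE: the case `|W| = 8`
-/

set_option autoImplicit false
set_option maxHeartbeats 800000
set_option linter.unusedSectionVars false
set_option linter.unusedVariables false

namespace Cfsg.Agent.GH.C2ThreeOne

open Subgroup Cfsg.Agent.TwoFusion.SectionalRank Cfsg.Agent.GH.C2Base Cfsg.Agent.GH.C2Five
open Cfsg.Agent.GH.C2ThreeNat Cfsg.Agent.GH.C2ThreeK0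

variable {X : Type*} [Group X]

/-- If `g ≠ 1` is a 2-element and `g^m = 1`, then `m` is even. -/
theorem even_of_zpow_eq_one {g : X} {n : ℕ} (hn : g ^ 2 ^ n = 1) (hg : g ≠ 1) {m : ℤ}
    (hm : g ^ m = 1) : Even m := by
  by_contra hodd
  rw [Int.not_even_iff_odd] at hodd
  obtain ⟨j, rfl⟩ := hodd
  apply not_mem_sq hn hg
  refine ⟨-j, ?_⟩
  have h1 : (g * g) ^ (-j) * g⁻¹ = 1 := by
    rw [(Commute.refl g).mul_zpow, ← zpow_add, ← zpow_neg_one, ← zpow_add]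
    have h2 : -j + -j + -1 = -(2 * j + 1) := by ring
    rw [h2, zpow_neg, hm, inv_one]
  show (g * g) ^ (-j) = g
  exact mul_inv_eq_one.1 h1

namespace Hyp

variable {Q W : Subgroup X} {y g : X} {w : T3 → X} (h : Hyp Q W y) (hn : NatMod Q W w)
  (hg : C Q y = zpowers g)

include h hn hg

theorem inf8 {m : ℤ} (hm : g ^ m ∈ W) : g ^ m = 1 := by
  refine NatFix hn h.hy h.yQ hm ?_
  exact (show Commute y g from (h.gC hg).2).zpow_right m

theorem eq_of_g (hg1 : g ≠ 1) : g ∉ W := by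
  intro hgW
  apply hg1
  have := h.inf8 hn hg (m := 1) (by rwa [zpow_one])
  rwa [zpow_one] at this

/-- `x g x⁻¹ = v g` -/
theorem gsq_central [Finite X] (x : X) : x * (g * g) = (g * g) * x := by
  have hgQ := (h.gC hg).1
  have h1 := h.xw hg x hgQ
  set v := x * g * x⁻¹ * g⁻¹ with hv
  have h2 : x * g * x⁻¹ = v * g := by rw [hv]; group
  have h3 : g * v = v * g := h.cent hgQ h1
  have h4 : x * (g * g) * x⁻¹ = g * g := by
    calc x * (g * g) * x⁻¹ = (x * g * x⁻¹) * (x * g * x⁻¹) := by group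
      _ = v * (g * v) * g := by rw [h2]; group
      _ = (v * v) * (g * g) := by rw [h3]; group
      _ = g * g := by rw [h.w2 v h1, one_mul]
  calc x * (g * g) = (x * (g * g) * x⁻¹) * x := by group
    _ = (g * g) * x := by rw [h4]

/-- Squares modulo `W`. -/
theorem sq_of_not_mem [Finite X] (hg2 : g * g ≠ 1) {x : X} (hxx : x * x ∈ Q) (hxQ : x ∉ Q) :
    ∃ v ∈ W, ∃ k : ℤ, x * x = v * (g * g) ^ k := by
  have hWn := h.wn
  have hgQ := (h.gC hg).1
  have hg1 : g ≠ 1 := fun h0 => hg2 (by rw [h0, one_mul])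
  obtain ⟨N, hN⟩ := exists_pow_of_mem h.l.two hgQ
  obtain ⟨n, hnb, hx⟩ := hn.exists_adapt hxx hxQ
  have hn' := hn.change hnb
  generalize (fun p => w (lin n p)) = w' at hx hn'
  obtain ⟨d, hd⟩ := hn'.real md md_bas
  have hdi : Acts w' d⁻¹ (cmp md md) := hd.inv md_cube
  have hconj : ∀ {x : X} {i j : ZMod 2}, Acts w' x (mR i j) → Acts w' (d * x * d⁻¹) (mR (i + j) i) := by
    intro x i j hx
    have h1 := (hd.mul (hx.mul hdi))
    rw [md_conj, ← mul_assoc] at h1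
    exact h1
  have hx2 : Acts w' (d * x * d⁻¹) (mR 1 0) := by
    have := hconj hx
    rwa [zero_add] at this
  have hx3 : Acts w' (d * (d * x * d⁻¹) * d⁻¹) (mR 1 1) := by
    have := hconj hx2
    rwa [add_zero] at this
  have hinv : ∀ {x : X} {i j : ZMod 2}, Acts w' x (mR i j) → Acts w' x⁻¹ (mR i j) := by
    intro x i j hx
    refine hx.inv ?_
    rw [mR_mul]
    clear hx
    revert i j
    decide
  have hεQ : x * (d * x * d⁻¹) * x⁻¹ * (d * x * d⁻¹)⁻¹ ∈ Q := by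
    rw [hn'.mem_iff (((hx.mul hx2).mul (hinv hx)).mul (hinv hx2))]
    decide
  have hζQ : x * (d * x * d⁻¹) * (d * (d * x * d⁻¹) * d⁻¹) ∈ Q := by
    rw [hn'.mem_iff ((hx.mul hx2).mul hx3)]
    decide
  set x2 := d * x * d⁻¹ with hx2d
  set x3 := d * x2 * d⁻¹ with hx3d
  -- in `X / W` elements of `Q` are central
  let π := QuotientGroup.mk' W
  have hπ : ∀ a, π a = 1 ↔ a ∈ W := fun a => QuotientGroup.eq_one_iff a
  have hc : ∀ (a : X) {q : X}, q ∈ Q → π a * π q = π q * π a := by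
    intro a q hq
    have h1 := (hπ _).2 (h.xw hg a hq)
    rw [map_mul, map_mul, map_mul, map_inv, map_inv, mul_inv_eq_one, mul_inv_eq_iff_eq_mul] at h1
    exact h1
  obtain ⟨i1, i2, -⟩ := ident (x := π x) (d := π d) (x2 := π x2) (x3 := π x3)
    (ε := π (x * x2 * x⁻¹ * x2⁻¹)) (ζ := π (x * x2 * x3))
    (by rw [hx2d, map_mul, map_mul, map_inv]) (by rw [hx3d, map_mul, map_mul, map_inv])
    (by rw [map_mul, map_mul, map_mul, map_inv, map_inv]) (by rw [map_mul, map_mul])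
    (by rw [← map_mul]; exact hc _ hxx) (by rw [← map_mul]; exact hc _ hxx)
    (hc _ hεQ) (hc _ hζQ)
  obtain ⟨v, hv, l, hl⟩ := h.dec hg hxx
  obtain ⟨v1, hv1, i, hi⟩ := h.dec hg hεQ
  obtain ⟨v2, hv2, j, hj⟩ := h.dec hg hζQ
  have e0 : ∀ {v : X} {k : ℤ}, v ∈ W → π (v * g ^ k) = π (g ^ k) := fun {v k} hv => by
    rw [map_mul, (hπ v).2 hv, one_mul]
  rw [hi, e0 hv1, ← map_mul, hπ, ← zpow_add] at i1
  have i3 := h.inf8 hn hg i1
  rw [zpow_add] at i3
  have hie := even_of_zpow hN hg2 i3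
  rw [← map_mul, hi, hj, hl, e0 hv, e0 hv1, e0 hv2, ← map_mul, ← map_mul, ← map_mul, ← map_mul] at i2
  have i4 : (g ^ l * g ^ l * g ^ l) * (g ^ i * (g ^ j * g ^ j))⁻¹ ∈ W := by
    rw [← hπ, map_mul, map_inv, i2, mul_inv_cancel]
  have i5 : (g ^ l * g ^ l * g ^ l) * (g ^ i * (g ^ j * g ^ j))⁻¹ = g ^ (l + l + l - (i + (j + j))) := by
    rw [← zpow_add, ← zpow_add, ← zpow_add, ← zpow_add, ← zpow_sub]
  rw [i5] at i4
  have i6 := even_of_zpow_eq_one hN hg1 (h.inf8 hn hg i4)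
  have hle : Even l := by
    rw [Int.even_iff] at hie i6 ⊢
    omega
  obtain ⟨k, rfl⟩ := hle
  refine ⟨v, hv, k, ?_⟩
  rw [hl, zpow_add, (Commute.refl g).mul_zpow]

theorem sq_of_mem [Finite X] {x : X} (hxQ : x ∈ Q) : ∃ k : ℤ, x * x = (g * g) ^ k := by
  obtain ⟨v, hv, k, rfl⟩ := h.dec hg hxQ
  refine ⟨k, ?_⟩
  have h1 : g ^ k * v = v * g ^ k := h.cent (Q.zpow_mem (h.gC hg).1 k) hv
  calc v * g ^ k * (v * g ^ k) = v * (g ^ k * v) * g ^ k := by group
    _ = (v * v) * (g ^ k * g ^ k) := by rw [h1]; group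
    _ = (g * g) ^ k := by rw [h.w2 v hv, one_mul, (Commute.refl g).mul_zpow]

/-- The subgroup `N = W ⟨g²⟩`. -/
theorem mem_N [Finite X] {x : X} : x ∈ W ⊔ zpowers (g * g) ↔ ∃ v ∈ W, ∃ k : ℤ, x = v * (g * g) ^ k := by
  have hWn := h.wn
  rw [mem_sup_of_normal_left]
  constructor
  · rintro ⟨v, hv, z, hz, rfl⟩
    obtain ⟨k, rfl⟩ := mem_zpowers_iff.1 hz
    exact ⟨v, hv, k, rfl⟩
  · rintro ⟨v, hv, k, rfl⟩
    exact ⟨v, hv, _, zpow_mem (mem_zpowers _) k, rfl⟩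

theorem g_not_N [Finite X] (hg1 : g ≠ 1) : g ∉ W ⊔ zpowers (g * g) := by
  intro hgN
  obtain ⟨N, hN⟩ := exists_pow_of_mem h.l.two (h.gC hg).1
  obtain ⟨v, hv, k, hk⟩ := (h.mem_N hn hg).1 hgN
  have h1 : g ^ (1 - (k + k)) = v := by
    rw [zpow_sub, zpow_one, zpow_add, ← (Commute.refl g).mul_zpow]
    nth_rewrite 1 [hk]
    group
  have h2 : v = 1 := by
    rw [← h1]
    apply h.inf8 hn hg
    rw [h1]
    exact hv
  apply not_mem_sq hN hg1
  rw [h2, one_mul] at hk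
  rw [hk]
  exact zpow_mem (by rw [← hk]; exact mem_zpowers _) k

theorem rel_N [Finite X] (hg1 : g ≠ 1) : (W ⊔ zpowers (g * g)).relIndex Q = 2 := by
  have hgQ := (h.gC hg).1
  show ((W ⊔ zpowers (g * g)).subgroupOf Q).index = 2
  rw [Subgroup.index_eq_two_iff]
  refine ⟨⟨g, hgQ⟩, fun q => ?_⟩
  rw [mem_subgroupOf, mem_subgroupOf]
  show Xor ((q : X) * g ∈ W ⊔ zpowers (g * g)) ((q : X) ∈ W ⊔ zpowers (g * g))
  obtain ⟨v, hv, k, hk⟩ := h.dec hg q.2
  have hno := h.g_not_N hn hg hg1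
  rcases Int.even_or_odd' k with ⟨l, rfl | rfl⟩
  · have h1 : (q : X) ∈ W ⊔ zpowers (g * g) := by
      rw [h.mem_N hn hg]
      refine ⟨v, hv, l, ?_⟩
      rw [hk, (Commute.refl g).mul_zpow, ← zpow_add]
      congr 2
      ring
    right
    refine ⟨h1, fun h2 => hno ?_⟩
    have h3 := mul_mem (inv_mem h1) h2
    rwa [inv_mul_cancel_left] at h3
  · have h1 : (q : X) * g ∈ W ⊔ zpowers (g * g) := by
      rw [h.mem_N hn hg]
      refine ⟨v, hv, l + 1, ?_⟩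
      rw [hk, (Commute.refl g).mul_zpow, ← zpow_add, mul_assoc]
      congr 1
      rw [← zpow_add_one]
      congr 1
      ring
    left
    refine ⟨h1, fun h2 => hno ?_⟩
    have h3 := mul_mem (inv_mem h2) h1
    rwa [inv_mul_cancel_left] at h3

theorem normal_N [Finite X] : (W ⊔ zpowers (g * g)).Normal := by
  have hWn := h.wn
  have hZ : (zpowers (g * g)).Normal := normal_of_central (h.gsq_central hn hg)
  infer_instance

theorem N_le [Finite X] : W ⊔ zpowers (g * g) ≤ Q := by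
  refine sup_le h.wq ?_
  rw [zpowers_le]
  exact Q.mul_mem (h.gC hg).1 (h.gC hg).1

theorem cen (hgc : ∀ x, x * g = g * x) [Finite X] : Cen Q W w g :=
  ⟨h.l.two, hn, (h.gC hg).1, hgc, fun q hq => h.dec hg hq⟩

end Hyp

end Cfsg.Agent.GH.C2ThreeOne
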