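import Mathlib
import Cfsg.Agent.GH.C2ThreeOneE

/-!
# GH-C2 (T3), statement ONE: the case `|W| = 8`, end
-/

set_option autoImplicit false
set_option maxHeartbeats 800000
set_option linter.unusedSectionVars false
set_option linter.unusedVariables false

namespace Cfsg.Agent.GH.C2ThreeOne

open Subgroup Cfsg.Agent.TwoFusion.SectionalRank Cfsg.Agent.GH.C2Base Cfsg.Agent.GH.C2Five
open Cfsg.Agent.GH.C2ThreeNat Cfsg.Agent.GH.C2ThreeK0

variable {X : Type*} [Group X]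

/-- Second alternative of statement ONE. -/
def Two (Q W : Subgroup X) : Prop :=
  ∃ z0 ∈ Q, z0 ∉ W ∧ z0 * z0 = 1 ∧ (∀ x, x * z0 = z0 * x) ∧
    ∀ u : X, u * u = 1 → u ∈ W ∨ u * z0 ∈ W

/-- Third alternative of statement ONE. -/
def Three (Q W : Subgroup X) : Prop :=
  Nat.card Q = 16 ∧ (∀ q ∈ Q, q * q = 1) ∧
    ∀ a ∈ Q, a ∉ W → ∀ b ∈ Q, b ∉ W → ∃ x, x * a * x⁻¹ = b

theorem mR01_e3 : lin (mR 0 1) e3 = e1 + e3 := by decide

namespace Hyp

variable {Q W : Subgroup X} {y g : X} {w : T3 → X} (h : Hyp Q W y) (hn : NatMod Q W w)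
  (hg : C Q y = zpowers g)

include h hn hg

/-- `g` central. -/
theorem caseS [Finite X] (hr : R4 X) (hgc : ∀ x, x * g = g * x) : Q = W ∨ Two Q W := by
  by_cases hg1 : g = 1
  · left
    refine le_antisymm (fun q hq => ?_) h.wq
    obtain ⟨v, hv, k, rfl⟩ := h.dec hg hq
    rw [hg1, one_zpow, mul_one]
    exact hv
  right
  have hc := h.cen hn hg hgc
  have hg2 := hc.four hr
  refine ⟨g, (h.gC hg).1, h.eq_of_g hn hg hg1, hg2, hgc, fun u hu => ?_⟩
  have huQ := hc.two_inv hr hg2 hg1 hu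
  obtain ⟨v, hv, k, rfl⟩ := h.dec hg huQ
  rcases Int.even_or_odd' k with ⟨l, rfl | rfl⟩
  · left
    rw [zpow_mul, zpow_ofNat, pow_two, hg2, one_zpow, mul_one]
    exact hv
  · right
    rw [mul_assoc, ← zpow_add_one]
    have h1 : 2 * l + 1 + 1 = 2 * (l + 1) := by ring
    rw [h1, zpow_mul, zpow_ofNat, pow_two, hg2, one_zpow, mul_one]
    exact hv

/-- `g` not central, `g² = 1`. -/
theorem caseN2 [Finite X] (hr : R4 X) (hgc : ¬ ∀ x, x * g = g * x) (hg2 : g * g = 1)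
    (hcard : 8 * Nat.card (zpowers g) ≤ Nat.card Q) : Three Q W := by
  have hg1 : g ≠ 1 := by
    rintro rfl
    exact hgc fun x => by rw [mul_one, one_mul]
  have hsq : ∀ q ∈ Q, q * q = 1 := by
    intro q hq
    obtain ⟨k, hk⟩ := h.sq_of_mem hn hg hq
    rw [hk, hg2, one_zpow]
  have hcoset : ∀ a ∈ Q, a ∉ W → ∃ v ∈ W, a = v * g := by
    intro a ha haW
    obtain ⟨v, hv, k, rfl⟩ := h.dec hg ha
    rcases Int.even_or_odd' k with ⟨l, rfl | rfl⟩
    · exfalso
      apply haW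
      rw [zpow_mul, zpow_ofNat, pow_two, hg2, one_zpow, mul_one]
      exact hv
    · refine ⟨v, hv, ?_⟩
      rw [zpow_add_one, zpow_mul, zpow_ofNat, pow_two, hg2, one_zpow, one_mul]
  refine ⟨?_, hsq, fun a ha haW b hb hbW => ?_⟩
  · have h1 : Nat.card Q ≤ 16 := by
      have := hr Q ⊥ (elem_bot fun v hv => by rw [pow_two]; exact hsq v hv)
      simpa using this
    have h2 : Nat.card (zpowers g) = 2 := by
      rw [Nat.card_zpowers]
      exact orderOf_eq_prime (by rw [pow_two, hg2]) hg1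
    omega
  · obtain ⟨v, hv, rfl⟩ := hcoset a ha haW
    obtain ⟨v', hv', rfl⟩ := hcoset b hb hbW
    have hgQ := (h.gC hg).1
    have hya := (h.gC hg).2
    obtain ⟨x, hx⟩ := orbit_all hn h.hy h.yQ hya (fun x => h.xw hg x hgQ) hgc hv
    obtain ⟨x', hx'⟩ := orbit_all hn h.hy h.yQ hya (fun x => h.xw hg x hgQ) hgc hv'
    refine ⟨x' * x⁻¹, ?_⟩
    rw [← hx, ← hx']
    group

/-- The subgroup of index 2. -/
theorem exists_X1 [Finite X] (hg2 : g * g ≠ 1) :
    ∃ X1 : Subgroup X, X1.Normal ∧ X1.index = 2 ∧ X1 ⊓ Q = W ⊔ zpowers (g * g) := by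
  have hg1 : g ≠ 1 := fun h0 => hg2 (by rw [h0, one_mul])
  refine C2ThreeTr.index_two h.l hn (h.normal_N hn hg) (h.N_le hn hg) (h.rel_N hn hg hg1)
    (fun x hxx => ?_)
  by_cases hxQ : x ∈ Q
  · obtain ⟨k, hk⟩ := h.sq_of_mem hn hg hxQ
    rw [hk]
    exact mem_sup_right (zpow_mem (mem_zpowers _) k)
  · obtain ⟨v, hv, k, hk⟩ := h.sq_of_not_mem hn hg hg2 hxx hxQ
    rw [h.mem_N hn hg]
    exact ⟨v, hv, k, hk⟩

theorem cen1 [Finite X] (hg1 : g ≠ 1) {X1 : Subgroup X} (hX1i : X1.index = 2)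
    (hX1 : X1 ⊓ Q = W ⊔ zpowers (g * g)) (hWX : ∀ p, w p ∈ X1) (hgX : g * g ∈ X1) :
    Cen (Q.subgroupOf X1) (W.subgroupOf X1) (fun p => (⟨w p, hWX p⟩ : X1)) ⟨g * g, hgX⟩ where
  two := h.l.two.comap_subtype
  gQ := by
    rw [mem_subgroupOf]
    exact Q.mul_mem (h.gC hg).1 (h.gC hg).1
  gc x := Subtype.ext (h.gsq_central hn hg x)
  dec q hq := by
    rw [mem_subgroupOf] at hq
    have h1 : (q : X) ∈ X1 ⊓ Q := mem_inf.2 ⟨q.2, hq⟩
    rw [hX1, h.mem_N hn hg] at h1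
    obtain ⟨v, hv, k, hk⟩ := h1
    have hvX : v ∈ X1 := by
      obtain ⟨p, rfl⟩ := (hn.coord.mem v).1 hv
      exact hWX p
    refine ⟨⟨v, hvX⟩, mem_subgroupOf.2 hv, k, Subtype.ext ?_⟩
    rw [hk]
    rfl
  nat := by
    have hgX1 : g ∉ X1 := fun h0 => h.g_not_N hn hg hg1 (hX1 ▸ mem_inf.2 ⟨h0, (h.gC hg).1⟩)
    refine ⟨?_, ?_, ⟨fun a b => Subtype.ext (hn.coord.mul a b),
      fun a ha => hn.coord.inj a (congrArg Subtype.val ha), fun v => ?_⟩, fun x => ?_,
      fun m hm => ?_⟩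
    · have := hn.normal
      infer_instance
    · intro x hx
      rw [mem_subgroupOf] at hx ⊢
      exact h.wq hx
    · rw [mem_subgroupOf, hn.coord.mem]
      constructor
      · rintro ⟨a, ha⟩
        exact ⟨a, Subtype.ext ha⟩
      · rintro ⟨a, ha⟩
        exact ⟨a, congrArg Subtype.val ha⟩
    · rw [mem_subgroupOf, ← hn.cent]
      constructor
      · intro h1 v hv
        obtain ⟨p, rfl⟩ := (hn.coord.mem v).1 hv
        exact congrArg Subtype.val (h1 ⟨w p, hWX p⟩ (mem_subgroupOf.2 hv))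
      · intro h1 v hv
        exact Subtype.ext (h1 v (mem_subgroupOf.1 hv))
    · obtain ⟨x, hx⟩ := hn.real m hm
      by_cases hxX : x ∈ X1
      · exact ⟨⟨x, hxX⟩, fun p => Subtype.ext (hx p)⟩
      · have h1 : x * g ∈ X1 := by
          rw [mul_mem_iff_of_index_two hX1i]
          exact ⟨fun h2 => absurd h2 hxX, fun h2 => absurd h2 hgX1⟩
        exact ⟨⟨x * g, h1⟩, fun p => Subtype.ext (hn.acts_mul_right hx (h.gC hg).1 p)⟩

/-- `g` not central, `g² ≠ 1`. -/
theorem caseN4 [Finite X] (hr : R4 X) (hgc : ¬ ∀ x, x * g = g * x) (hg2 : g * g ≠ 1) :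
    Two Q W := by
  have hg1 : g ≠ 1 := fun h0 => hg2 (by rw [h0, one_mul])
  have hQn := h.l.normal
  have hgQ := (h.gC hg).1
  obtain ⟨N, hN⟩ := exists_pow_of_mem h.l.two hgQ
  obtain ⟨X1, hX1n, hX1i, hX1⟩ := h.exists_X1 hn hg hg2
  have hle : W ⊔ zpowers (g * g) ≤ X1 := hX1 ▸ inf_le_left
  have hWX : ∀ v ∈ W, v ∈ X1 := fun v hv => hle (mem_sup_left hv)
  have hgX : g * g ∈ X1 := hle (mem_sup_right (mem_zpowers _))
  have hgX1 : g ∉ X1 := fun h0 => h.g_not_N hn hg hg1 (hX1 ▸ mem_inf.2 ⟨h0, hgQ⟩)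
  have hc1 := h.cen1 hn hg hg1 hX1i hX1 (fun p => hWX _ (hn.coord.mem_w p)) hgX
  have hr1 : R4 X1 := r4_subgroup hr X1
  have hz2 : g * g * (g * g) = 1 := congrArg Subtype.val (hc1.four hr1)
  have hz1 : (⟨g * g, hgX⟩ : X1) ≠ 1 := fun h0 => hg2 (congrArg Subtype.val h0)
  -- involutions lie in `Q`
  have key : ∀ u : X, u * u = 1 → u ∈ Q := by
    intro u hu
    by_cases huX : u ∈ X1
    · have h1 := hc1.two_inv hr1 (u := ⟨u, huX⟩) (hc1.four hr1) hz1 (Subtype.ext hu)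
      exact mem_subgroupOf.1 h1
    by_contra huQ
    have hx'X : u * g⁻¹ ∈ X1 := by
      rw [mul_mem_iff_of_index_two hX1i]
      exact ⟨fun h2 => absurd h2 huX, fun h2 => absurd (by simpa using X1.inv_mem h2) hgX1⟩
    set x' := u * g⁻¹ with hx'
    have hux : u = x' * g := by rw [hx']; group
    have hx'Q : x' ∉ Q := fun h2 => huQ (by rw [hux]; exact Q.mul_mem h2 hgQ)
    have hx'2 : x' * x' ∈ Q := by
      have h1 : x' * x' = (u * g⁻¹ * u⁻¹) * (u * u) * g⁻¹ := by rw [hx']; group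
      rw [h1, hu, mul_one]
      exact Q.mul_mem (hQn.conj_mem _ (Q.inv_mem hgQ) u) (Q.inv_mem hgQ)
    obtain ⟨n, hnb, hx⟩ := hn.exists_adapt hx'2 hx'Q
    have hn' := hn.change hnb
    have hc' := hc1.change hnb
    set w' : T3 → X := fun p => w (lin n p) with hw'
    -- the square of `x'`
    have h1 : (⟨x', hx'X⟩ * ⟨x', hx'X⟩ : X1) ∈ zpowers (⟨g * g, hgX⟩ : X1) ⊔
        zpowers (⟨w' e1, hWX _ (hn.coord.mem_w _)⟩ : X1) :=
      hc'.sq_mem_E (x := ⟨x', hx'X⟩) (fun p => Subtype.ext (hx p))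
    obtain ⟨i, j, hij⟩ := hc'.mem_E h1
    have hij' : x' * x' = (g * g) ^ i * w' e1 ^ j := congrArg Subtype.val hij
    set m := x' * g * x'⁻¹ * g⁻¹ with hm
    have hmW : m ∈ W := h.xw hg x' hgQ
    have e1' : m * (x' * x') * (g * g) = 1 := by
      have h2 : g * (x' * x') = (x' * x') * g := h.qcomm hg hgQ hx'2
      have h3 : u * u = 1 := hu
      rw [hux] at h3
      rw [← h3, hm]
      calc x' * g * x'⁻¹ * g⁻¹ * (x' * x') * (g * g)
          = x' * g * x'⁻¹ * g⁻¹ * ((x' * x') * g) * g := by group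
        _ = x' * g * x'⁻¹ * g⁻¹ * (g * (x' * x')) * g := by rw [h2]
        _ = x' * g * (x' * g) := by group
    have f2 : (g * g) ^ (i + 1) ∈ W := by
      have h2 : g * g * w' e1 ^ j = w' e1 ^ j * (g * g) := by
        rw [h.gsq_central hn hg]
      have h3 : m * ((g * g) ^ (i + 1) * w' e1 ^ j) = 1 := by
        rw [← e1', hij', zpow_add_one]
        calc m * ((g * g) ^ i * (g * g) * w' e1 ^ j) = m * (g * g) ^ i * (g * g * w' e1 ^ j) := by
              group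
          _ = m * (g * g) ^ i * (w' e1 ^ j * (g * g)) := by rw [h2]
          _ = m * ((g * g) ^ i * w' e1 ^ j) * (g * g) := by group
      have h4 : (g * g) ^ (i + 1) = m⁻¹ * (w' e1 ^ j)⁻¹ := by
        calc (g * g) ^ (i + 1) = m⁻¹ * (m * ((g * g) ^ (i + 1) * w' e1 ^ j)) * (w' e1 ^ j)⁻¹ := by
              group
          _ = m⁻¹ * (w' e1 ^ j)⁻¹ := by rw [h3, mul_one]
      rw [h4]
      exact W.mul_mem (W.inv_mem hmW) (W.inv_mem (W.zpow_mem (hn.coord.mem_w _) j))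
    have f3 : (g * g) ^ (i + 1) = 1 := by
      rw [(Commute.refl g).mul_zpow, ← zpow_add] at f2 ⊢
      exact h.inf8 hn hg f2
    have e4 : m = (w' e1 ^ j)⁻¹ := by
      have h2 : m * ((g * g) ^ (i + 1) * w' e1 ^ j) = 1 := by
        rw [← e1', hij', zpow_add_one]
        have h2 : g * g * w' e1 ^ j = w' e1 ^ j * (g * g) := by
          rw [h.gsq_central hn hg]
        calc m * ((g * g) ^ i * (g * g) * w' e1 ^ j) = m * (g * g) ^ i * (g * g * w' e1 ^ j) := by
              group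
          _ = m * (g * g) ^ i * (w' e1 ^ j * (g * g)) := by rw [h2]
          _ = m * ((g * g) ^ i * w' e1 ^ j) * (g * g) := by group
      rw [f3, one_mul] at h2
      exact eq_inv_of_mul_eq_one_left h2
    have e5 : m = 1 ∨ m = w' e1 := by
      have h2 : m ∈ zpowers (w' e1) := by
        rw [e4]
        exact inv_mem (zpow_mem (mem_zpowers _) j)
      exact (mem_zpowers_w hn'.coord).1 h2
    have hfix : ∃ v ∈ W, x' * (v * g) = (v * g) * x' := by
      rcases e5 with e5 | e5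
      · refine ⟨1, W.one_mem, ?_⟩
        rw [one_mul]
        calc x' * g = m * g * x' := by rw [hm]; group
          _ = g * x' := by rw [e5, one_mul]
      · refine ⟨w' e3, hn'.coord.mem_w _, ?_⟩
        have h2 := hx e3
        rw [mR01_e3] at h2
        change x' * w' e3 * x'⁻¹ = w' (e1 + e3) at h2
        calc x' * (w' e3 * g) = (x' * w' e3 * x'⁻¹) * (x' * g * x'⁻¹ * g⁻¹) * g * x' := by group
          _ = w' (e1 + e3) * w' e1 * g * x' := by rw [h2, ← hm, e5]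
          _ = w' e3 * g * x' := by
              rw [← hn'.coord.mul]
              have h3 : e1 + e3 + e1 = e3 := by decide
              rw [h3]
    obtain ⟨v, hv, hxv⟩ := hfix
    exact hx'Q (no_fix hn hQn h.l.index (fun a ha b hb => h.qcomm hg ha hb) h.hy h.yQ hgQ
      (h.gC hg).2 (fun x => h.xw hg x hgQ) hgc hx'2 hv hxv)
  refine ⟨g * g, Q.mul_mem hgQ hgQ, fun h0 => hg2 ?_, hz2, h.gsq_central hn hg, fun u hu => ?_⟩
  · have h1 : g ^ (2 : ℤ) = g * g := by rw [zpow_ofNat, pow_two]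
    rw [← h1] at h0 ⊢
    exact h.inf8 hn hg h0
  · obtain ⟨v, hv, k, hk⟩ := h.dec hg (key u hu)
    obtain ⟨k', hk'⟩ := h.sq_of_mem hn hg (key u hu)
    have h1 : g ^ k * g ^ k = 1 := by
      have h2 : g ^ k * v = v * g ^ k := h.cent (Q.zpow_mem hgQ k) hv
      have h3 : u * u = g ^ k * g ^ k := by
        rw [hk]
        calc v * g ^ k * (v * g ^ k) = v * (g ^ k * v) * g ^ k := by group
          _ = (v * v) * (g ^ k * g ^ k) := by rw [h2]; group
          _ = g ^ k * g ^ k := by rw [h.w2 v hv, one_mul]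
      rw [← h3, hu]
    obtain ⟨l, rfl⟩ := even_of_zpow hN hg2 h1
    have h4 : g ^ (l + l) = (g * g) ^ l := by rw [zpow_add, (Commute.refl g).mul_zpow]
    rw [h4] at hk
    rcases Int.even_or_odd' l with ⟨r, rfl | rfl⟩
    · left
      rw [hk, zpow_mul, zpow_ofNat, pow_two, hz2, one_zpow, mul_one]
      exact hv
    · right
      rw [hk, mul_assoc, ← zpow_add_one]
      have h5 : 2 * r + 1 + 1 = 2 * (r + 1) := by ring
      rw [h5, zpow_mul, zpow_ofNat, pow_two, hz2, one_zpow, mul_one]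
      exact hv

end Hyp

/-- Statement ONE for `|W| = 8`. -/
theorem one8 [Finite X] (hr : R4 X) {Q W : Subgroup X} {y : X} (h : Hyp Q W y)
    (h8 : Nat.card W = 8) : Q = W ∨ Two Q W ∨ Three Q W := by
  obtain ⟨w, hw⟩ := exists_coord h.w2 h8
  have hn := natMod_of h.l h.wn h.wq hw h.hy h.ne
  have hinf : W ⊓ Hyp.C Q y = ⊥ := by
    rw [eq_bot_iff]
    intro v hv
    exact mem_bot.2 (NatFix hn h.hy h.yQ hv.1 (Hyp.mem_C.1 hv.2).2)
  have hc : 8 * Nat.card (W ⊓ Hyp.C Q y : Subgroup X) ≤ Nat.card W := by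
    rw [hinf, card_bot, h8]
  obtain ⟨g, hg⟩ := h.exists_gen hr hc
  by_cases hgc : ∀ x, x * g = g * x
  · rcases h.caseS hn hg hr hgc with h1 | h1
    · exact Or.inl h1
    · exact Or.inr (Or.inl h1)
  · right
    by_cases hg2 : g * g = 1
    · right
      refine h.caseN2 hn hg hr hgc hg2 ?_
      have h1 := h.card_sup hc (A := zpowers g) (by rw [hg])
      have h2 : W ⊔ zpowers g ≤ Q := sup_le h.wq (by rw [← hg]; exact inf_le_left)
      exact h1.trans (Nat.card_le_card_of_injective _ (inclusion_injective h2))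
    · exact Or.inl (h.caseN4 hn hg hr hgc hg2)

end Cfsg.Agent.GH.C2ThreeOne
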