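import Mathlib
import Cfsg.Agent.GH.C2ThreeOneD

/-!
# GH-C2 (T3), statement ONE: the case `|W| = 16`
-/

set_option autoImplicit false
set_option maxHeartbeats 800000
set_option linter.unusedSectionVars false
set_option linter.unusedVariables false

namespace Cfsg.Agent.GH.C2ThreeOne

open Subgroup Cfsg.Agent.TwoFusion.SectionalRank Cfsg.Agent.GH.C2Base Cfsg.Agent.GH.C2Five
open Cfsg.Agent.GH.C2ThreeNat Cfsg.Agent.GH.C2ThreeK0

variable {X : Type*} [Group X]

/-! ### moving an element by central elements -/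

/-- `a e a⁻¹ = e r` with `r` central -/
def Mv (e a r : X) : Prop := (∀ x, x * r = r * x) ∧ a * e = e * r * a

theorem Mv.mul {e a b r s : X} (h1 : Mv e a r) (h2 : Mv e b s) : Mv e (a * b) (r * s) := by
  refine ⟨fun x => ?_, ?_⟩
  · rw [← mul_assoc, h1.1, mul_assoc, h2.1, ← mul_assoc]
  · calc a * b * e = a * (b * e) := by group
      _ = (a * e) * s * b := by rw [h2.2]; group
      _ = e * r * (a * s) * b := by rw [h1.2]; group
      _ = e * (r * s) * (a * b) := by rw [h2.1 a]; group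

theorem Mv.inv {e a r : X} (h1 : Mv e a r) : Mv e a⁻¹ r⁻¹ := by
  have hc : ∀ x, x * r⁻¹ = r⁻¹ * x := fun x => by
    calc x * r⁻¹ = r⁻¹ * (r * x) * r⁻¹ := by group
      _ = r⁻¹ * (x * r) * r⁻¹ := by rw [h1.1]
      _ = r⁻¹ * x := by group
  refine ⟨hc, ?_⟩
  calc a⁻¹ * e = a⁻¹ * e * r * a * (a⁻¹ * r⁻¹) := by group
    _ = a⁻¹ * (a * e) * (a⁻¹ * r⁻¹) := by rw [h1.2]; group
    _ = e * (a⁻¹ * r⁻¹) := by group
    _ = e * r⁻¹ * a⁻¹ := by rw [hc]; group

theorem Mv.comm {e a b r s : X} (h1 : Mv e a r) (h2 : Mv e b s) :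
    (a * b * a⁻¹ * b⁻¹) * e = e * (a * b * a⁻¹ * b⁻¹) := by
  have h3 := ((h1.mul h2).mul h1.inv).mul h2.inv
  have h4 : r * s * r⁻¹ * s⁻¹ = 1 := by
    rw [h1.1 s |>.symm]
    group
  have h5 := h3.2
  rw [h4, mul_one] at h5
  exact h5

/-! ### matrices fixing `e1` -/

def PF (n : M3) : Prop := IsBas n ∧ n.1 = e1

instance (n : M3) : Decidable (PF n) := by unfold PF; infer_instance

theorem fix_e1_aux : ∀ n : M3, ¬ PF n ∨ ∃ i j : ZMod 2, ∃ k : Fin 3, ∃ l : Fin 2,
    n = cmp (mR i j) (cmp (pw md k) (pw mt l)) := by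
  decide +kernel

theorem mR_fix_aux : ∀ p : T3, ¬ lin (mR 0 1) p = p ∨ (p = 0 ∨ p = e1) ∨
    (IsBas (p, e1, e3) ∧ cmp (mR 0 1) (p, e1, e3) = cmp (p, e1, e3) mt) := by
  decide +kernel

theorem md_comm_mat (i j : ZMod 2) :
    cmp (cmp (cmp md (mR (i + j) i)) (cmp md md)) (mR (i + j) i) = mR i j := by
  revert i j
  decide

theorem mR_inv (i j : ZMod 2) : cmp (mR i j) (mR i j) = idm := by
  revert i j
  decide

/-! ### the set-up -/

/-- `|W| = 16`, `z` central. -/
structure H16 (Q W : Subgroup X) (y z : X) : Prop where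
  h : Hyp Q W y
  card : Nat.card W = 16
  zW : z ∈ W
  z1 : z ≠ 1
  zc : ∀ x, x * z = z * x
  fix : ∀ v ∈ W, y * v = v * y → v = 1 ∨ v = z

namespace H16

variable {Q W : Subgroup X} {y z : X} (H : H16 Q W y z)

include H

theorem zz : z * z = 1 := H.h.w2 z H.zW

theorem nz : (zpowers z).Normal := normal_of_central H.zc

theorem mem_z {x : X} : x ∈ zpowers z ↔ x = 1 ∨ x = z := by
  constructor
  · intro hx
    obtain ⟨k, rfl⟩ := mem_zpowers_iff.1 hx
    have h2 : z ^ (2 : ℤ) = 1 := by rw [zpow_ofNat, pow_two, H.zz]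
    rcases Int.even_or_odd' k with ⟨l, rfl | rfl⟩
    · left
      rw [zpow_mul, h2, one_zpow]
    · right
      rw [zpow_add, zpow_mul, h2, one_zpow, one_mul, zpow_one]
  · rintro (rfl | rfl)
    · exact one_mem _
    · exact mem_zpowers _

theorem card_zp : Nat.card (zpowers z) = 2 := by
  rw [Nat.card_zpowers]
  exact orderOf_eq_prime (by rw [pow_two, H.zz]) H.z1

theorem zle : zpowers z ≤ W := by
  rw [zpowers_le]
  exact H.zW

/-- The image of `a ↦ [y, a]`. -/
theorem exists_U [Finite X] : ∃ U : Subgroup X, U ≤ W ∧ z ∉ U ∧ Nat.card W = 2 * Nat.card U ∧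
    (∀ u ∈ U, y * u * y⁻¹ ∈ U) ∧ ∃ u ∈ U, y * u ≠ u * y := by
  have hWn := H.h.wn
  let φ : W →* X := MonoidHom.mk' (fun a => y * a * y⁻¹ * (a : X)⁻¹) (by
    intro a b
    have ha : y * a * y⁻¹ ∈ W := hWn.conj_mem _ a.2 y
    have hb : y * b * y⁻¹ ∈ W := hWn.conj_mem _ b.2 y
    have h1 : (y * b * y⁻¹ * (b : X)⁻¹) * (a : X)⁻¹ = (a : X)⁻¹ * (y * b * y⁻¹ * (b : X)⁻¹) :=
      H.h.wcomm (W.mul_mem hb (W.inv_mem b.2)) (W.inv_mem a.2)
    show y * ((a * b : W) : X) * y⁻¹ * ((a * b : W) : X)⁻¹ = _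
    rw [Subgroup.coe_mul]
    calc y * (a * b) * y⁻¹ * ((a : X) * b)⁻¹ = (y * a * y⁻¹) * ((y * b * y⁻¹ * (b : X)⁻¹) * (a : X)⁻¹) := by
          group
      _ = (y * a * y⁻¹ * (a : X)⁻¹) * (y * b * y⁻¹ * (b : X)⁻¹) := by rw [h1]; group)
  have hφ : ∀ a : W, φ a = y * a * y⁻¹ * (a : X)⁻¹ := fun a => rfl
  have hW : φ.range ≤ W := by
    rintro _ ⟨a, rfl⟩
    rw [hφ]
    exact W.mul_mem (hWn.conj_mem _ a.2 y) (W.inv_mem a.2)
  have hker : φ.ker = zpowers (⟨z, H.zW⟩ : W) := by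
    ext a
    rw [MonoidHom.mem_ker, hφ]
    constructor
    · intro ha
      have h1 : y * a = a * y := by
        calc y * (a : X) = (y * a * y⁻¹ * (a : X)⁻¹) * (a * y) := by group
          _ = a * y := by rw [ha, one_mul]
      rcases H.fix a a.2 h1 with h2 | h2
      · have : a = 1 := Subtype.ext h2
        rw [this]
        exact one_mem _
      · have : a = ⟨z, H.zW⟩ := Subtype.ext h2
        rw [this]
        exact mem_zpowers _
    · intro ha
      obtain ⟨k, rfl⟩ := mem_zpowers_iff.1 ha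
      have h1 : ((⟨z, H.zW⟩ ^ k : W) : X) = z ^ k := rfl
      rw [h1]
      have h2 : y * z ^ k = z ^ k * y := (show Commute y z from H.zc y).zpow_right k
      rw [h2]
      group
  have hck : Nat.card φ.ker = 2 := by
    rw [hker, Nat.card_zpowers]
    refine orderOf_eq_prime (Subtype.ext ?_) (fun h0 => H.z1 (congrArg Subtype.val h0))
    show z ^ 2 = 1
    rw [pow_two, H.zz]
  have hcr : Nat.card W = 2 * Nat.card φ.range := by
    have h1 := card_mul_index φ.ker
    rw [hck, index_ker] at h1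
    exact h1.symm
  have hfix : ∀ u ∈ φ.range, y * u = u * y → u = 1 := by
    rintro _ ⟨a, rfl⟩ hu
    exact fix_of_comm H.h.hy (H.h.w2 _ (hW ⟨a, rfl⟩)) hu (hφ a).symm
  refine ⟨φ.range, hW, fun hz => H.z1 (hfix z hz (H.zc y)), hcr, ?_, ?_⟩
  · rintro _ ⟨a, rfl⟩
    refine ⟨⟨y * a * y⁻¹, hWn.conj_mem _ a.2 y⟩, ?_⟩
    rw [hφ, hφ]
    group
  · by_contra hcon
    push Not at hcon
    obtain ⟨v, hv, hv2⟩ := H.h.ne
    apply hv2
    have h1 := hfix (φ ⟨v, hv⟩) ⟨_, rfl⟩ (hcon _ ⟨_, rfl⟩)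
    rw [hφ] at h1
    calc y * v = (y * v * y⁻¹ * v⁻¹) * (v * y) := by group
      _ = v * y := by
          have h2 : y * v * y⁻¹ * v⁻¹ = 1 := h1
          rw [h2, one_mul]

end H16

/-! ### modulo `⟨z⟩` -/

/-- additional data: natural coordinates of `W / ⟨z⟩`. -/
structure N16 (Q W : Subgroup X) (y z : X) {Y : Type*} [Group Y] (π : X →* Y) (w : T3 → Y) :
    Prop extends H16 Q W y z where
  surj : Function.Surjective π
  ker : π.ker = zpowers z
  nat : NatMod (Q.map π) (W.map π) w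

namespace N16

variable {Y : Type*} [Group Y] {Q W : Subgroup X} {y z : X} {π : X →* Y} {w : T3 → Y}
  (N : N16 Q W y z π w)

include N

theorem change {m : M3} (hm : IsBas m) : N16 Q W y z π (fun p => w (lin m p)) :=
  ⟨N.toH16, N.surj, N.ker, N.nat.change hm⟩

theorem eq_or {a b : X} (hab : π a = π b) : a = b ∨ a = b * z := by
  have h1 : b⁻¹ * a ∈ zpowers z := by
    rw [← N.ker, MonoidHom.mem_ker, map_mul, map_inv, hab, inv_mul_cancel]
  rcases N.mem_z.1 h1 with h2 | h2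
  · left
    exact (inv_mul_eq_one.1 h2).symm
  · right
    rw [← h2]
    group

theorem memQ {x : X} : x ∈ Q ↔ π x ∈ Q.map π := by
  constructor
  · intro hx
    exact ⟨x, hx, rfl⟩
  · rintro ⟨q, hq, hqx⟩
    rcases N.eq_or hqx.symm with h1 | h1
    · rw [h1]
      exact hq
    · rw [h1]
      exact Q.mul_mem hq (N.h.wq N.zW)

theorem lift (p : T3) : ∃ e ∈ W, π e = w p := by
  obtain ⟨e, he, h1⟩ := N.nat.coord.mem_w p
  exact ⟨e, he, h1⟩

theorem central_z (x : X) : x * z = z * x := N.zc x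

/-- If `x` fixes `π e`, then it moves `e` by a central element. -/
theorem mv {e x : X} (hx : π x * π e = π e * π x) : Mv e x 1 ∨ Mv e x z := by
  have h1 : π (x * e * x⁻¹) = π e := by
    rw [map_mul, map_mul, map_inv, hx]
    group
  rcases N.eq_or h1 with h2 | h2
  · left
    refine ⟨fun a => by rw [mul_one, one_mul], ?_⟩
    calc x * e = (x * e * x⁻¹) * x := by group
      _ = e * 1 * x := by rw [h2, mul_one]
  · right
    refine ⟨N.zc, ?_⟩
    calc x * e = (x * e * x⁻¹) * x := by group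
      _ = e * z * x := by rw [h2]

theorem mv' {e x : X} (hx : π x * π e = π e * π x) : ∃ r, Mv e x r := by
  rcases N.mv hx with h1 | h1
  · exact ⟨_, h1⟩
  · exact ⟨_, h1⟩

/-- elements of order 3 -/
theorem ed {e d : X} (hd : d ^ 3 = 1) (hde : π d * π e = π e * π d) : d * e = e * d := by
  rcases N.mv hde with h1 | h1
  · have := h1.2
    rwa [mul_one] at this
  · exfalso
    have h2 := ((h1.mul h1).mul h1).2
    have h3 : d * d * d = 1 := by rw [← hd, pow_succ, pow_two]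
    rw [h3, one_mul, mul_one] at h2
    apply N.z1
    have h4 : z * z * z = 1 := by
      have h5 : e * 1 = e * (z * z * z) := by rw [mul_one]; exact h2
      exact (mul_left_cancel h5).symm
    rwa [N.zz, one_mul] at h4

/-- `(*)₁` -/
theorem eR {e x : X} (heW : e ∈ W) (he : π e = w e1) {i j : ZMod 2}
    (hx : Acts w (π x) (mR i j)) [Finite X] : x * e = e * x := by
  obtain ⟨d', hd'⟩ := N.nat.real md md_bas
  obtain ⟨d, rfl⟩ := N.surj d'
  obtain ⟨a', ha'⟩ := N.nat.real (mR (i + j) i) (mR_bas _ _)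
  obtain ⟨a, rfl⟩ := N.surj a'
  have hde : π d * π e = π e * π d := by
    rw [he, hd'.comm_iff N.nat.coord]
    exact md_e1
  have hae : π a * π e = π e * π a := by
    rw [he, ha'.comm_iff N.nat.coord]
    exact mR_e1 _ _
  obtain ⟨r, hr⟩ := N.mv' hde
  obtain ⟨s, hs⟩ := N.mv' hae
  have h1 := hr.comm hs
  have hc : Acts w (π (d * a * d⁻¹ * a⁻¹)) (mR i j) := by
    have h2 := (((hd'.mul ha').mul (hd'.inv md_cube)).mul (ha'.inv (mR_inv _ _)))
    rw [md_comm_mat] at h2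
    rwa [map_mul, map_mul, map_mul, map_inv, map_inv]
  have h3 := N.nat.same hx hc
  rw [← map_inv, ← map_mul, ← N.memQ] at h3
  have h4 := N.h.cent h3 heW
  generalize d * a * d⁻¹ * a⁻¹ = c at h1 h4
  calc x * e = (x * c⁻¹) * (c * e) := by group
    _ = (x * c⁻¹ * e) * c := by rw [h1]; group
    _ = e * x := by rw [h4]; group

/-- nonsplitness: `W` is not the direct product of `⟨z⟩` and a normal subgroup. -/
theorem nonsplit [Finite X] {m : X} (hmW : m ∈ W) (hm1 : π m ≠ 1)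
    (hm : ∀ x, π x * π m = π m * π x → x * m = m * x) : False := by
  have hWn := N.h.wn
  obtain ⟨U, hUW, hzU, hcU, hUy, hUne⟩ := N.exists_U
  have hmem : ∀ v ∈ W, v ∈ U ∨ z⁻¹ * v ∈ U := fun v hv =>
    mem_or_of_card hUW N.zW hzU hcU hv
  have hy7 : (π y) ^ 7 = 1 := by rw [← map_pow, N.h.hy, map_one]
  have hyQ : π y ∉ Q.map π := fun h0 => N.h.yQ (N.memQ.2 h0)
  obtain ⟨p, hp⟩ : ∃ p, w p = π m := (N.nat.coord.mem _).1 ⟨m, hmW, rfl⟩
  have hp0 : p ≠ 0 := by
    rintro rfl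
    exact hm1 (by rw [← hp, N.nat.coord.zero])
  -- uniqueness of the representative in `U`
  have huniq : ∀ u ∈ U, ∀ u' ∈ U, π u = π u' → u = u' := by
    intro u hu u' hu' h1
    rcases N.eq_or h1 with h2 | h2
    · exact h2
    · exfalso
      apply hzU
      have h3 : z = u'⁻¹ * u := by rw [h2]; group
      rw [h3]
      exact U.mul_mem (U.inv_mem hu') hu
  have hUyn : ∀ n : ℕ, ∀ u ∈ U, y ^ n * u * (y ^ n)⁻¹ ∈ U := by
    intro n
    induction n with
    | zero =>
      intro u hu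
      simpa using hu
    | succ n ih =>
      intro u hu
      have h1 := hUy _ (ih u hu)
      have h2 : y ^ (n + 1) * u * (y ^ (n + 1))⁻¹ = y * (y ^ n * u * (y ^ n)⁻¹) * y⁻¹ := by
        rw [pow_succ']
        group
      rwa [h2]
  -- `m = u0 s`
  obtain ⟨u0, hu0, s, hs, hs1, hms⟩ : ∃ u0 ∈ U, ∃ s, (∀ x, x * s = s * x) ∧ π s = 1 ∧
      m = u0 * s := by
    have hπz : π z = 1 := by
      rw [← MonoidHom.mem_ker, N.ker]
      exact mem_zpowers z
    rcases hmem m hmW with h1 | h1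
    · exact ⟨m, h1, 1, fun x => by rw [mul_one, one_mul], map_one π, (mul_one m).symm⟩
    · refine ⟨_, h1, z, N.zc, hπz, ?_⟩
      rw [mul_assoc, N.zc m]
      group
  have hπu0 : π u0 = w p := by
    rw [hp, hms, map_mul, hs1, mul_one]
  have hUn : U.Normal := by
    refine ⟨fun u hu x => ?_⟩
    by_cases hu1 : π u = 1
    · have h1 : u = 1 := huniq u hu 1 U.one_mem (by rw [hu1, map_one])
      rw [h1, mul_one, mul_inv_cancel]
      exact U.one_mem
    obtain ⟨q, hq⟩ : ∃ q, w q = π u := (N.nat.coord.mem _).1 ⟨u, hUW hu, rfl⟩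
    have hq0 : q ≠ 0 := by
      rintro rfl
      exact hu1 (by rw [← hq, N.nat.coord.zero])
    obtain ⟨j, hj⟩ := NatTrans N.nat hy7 hyQ hp0 hq0
    have hu2 : u = y ^ j * u0 * (y ^ j)⁻¹ := by
      refine huniq _ hu _ (hUyn j u0 hu0) ?_
      rw [map_mul, map_mul, map_inv, map_pow, hπu0, hj, hq]
    set b := x * y ^ j with hb
    have hxu : x * u * x⁻¹ = b * u0 * b⁻¹ := by
      rw [hu2, hb]
      group
    obtain ⟨q', hq'⟩ : ∃ q', w q' = π (b * m * b⁻¹) :=
      (N.nat.coord.mem _).1 ⟨_, hWn.conj_mem _ hmW b, rfl⟩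
    have hq'0 : q' ≠ 0 := by
      rintro rfl
      apply hm1
      rw [N.nat.coord.zero, map_mul, map_mul, map_inv] at hq'
      have h1 : π m = (π b)⁻¹ * (π b * π m * (π b)⁻¹) * π b := by group
      rw [h1, ← hq']
      group
    obtain ⟨l, hl⟩ := NatTrans N.nat hy7 hyQ hp0 hq'0
    rw [hq', hp, map_mul, map_mul, map_inv] at hl
    have h2 : π ((y ^ l)⁻¹ * b) * π m = π m * π ((y ^ l)⁻¹ * b) := by
      rw [map_mul, map_inv, map_pow]
      calc (π y ^ l)⁻¹ * π b * π m = (π y ^ l)⁻¹ * (π b * π m * (π b)⁻¹) * π b := by group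
        _ = π m * ((π y ^ l)⁻¹ * π b) := by rw [← hl]; group
    have h3 := hm _ h2
    have h4 : b * m * b⁻¹ = y ^ l * m * (y ^ l)⁻¹ := by
      calc b * m * b⁻¹ = y ^ l * (((y ^ l)⁻¹ * b) * m) * b⁻¹ := by group
        _ = y ^ l * m * (y ^ l)⁻¹ := by rw [h3]; group
    have h5 : b * u0 * b⁻¹ = y ^ l * u0 * (y ^ l)⁻¹ := by
      have h6 : ∀ c : X, c * u0 * c⁻¹ * s = c * m * c⁻¹ := by
        intro c
        rw [hms]
        calc c * u0 * c⁻¹ * s = c * u0 * (c⁻¹ * s) := by group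
          _ = c * (u0 * s) * c⁻¹ := by rw [hs]; group
      apply mul_right_cancel (b := s)
      rw [h6, h6, h4]
    rw [hxu, h5]
    exact hUyn l u0 hu0
  have hlt : U < W := lt_of_le_of_ne hUW (fun h0 => hzU (h0 ▸ N.zW))
  obtain ⟨u, hu, hu2⟩ := hUne
  exact hu2 (N.h.min U hUn hlt u hu)

/-- `(*)₂` -/
theorem star2 [Finite X] {x m : X} (hx : Acts w (π x) (mR 0 1)) (hmW : m ∈ W)
    (hxm : x * m = m * x) : π m = 1 ∨ π m = w e1 := by
  have hY : Finite Y := Finite.of_surjective π N.surj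
  obtain ⟨p, hp⟩ : ∃ p, w p = π m := (N.nat.coord.mem _).1 ⟨m, hmW, rfl⟩
  have hfix : lin (mR 0 1) p = p := by
    rw [← hx.comm_iff N.nat.coord, hp, ← map_mul, hxm, map_mul]
  rcases mR_fix_aux p with h1 | (h1 | h1) | ⟨hb, hmt⟩
  · exact absurd hfix h1
  · left
    rw [← hp, h1, N.nat.coord.zero]
  · right
    rw [← hp, h1]
  exfalso
  have hm1 : π m ≠ 1 := by
    intro h0
    have h1 : p = 0 := N.nat.coord.inj p (by rw [hp, h0])
    exact hb.1 h1
  have N' := N.change hb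
  have hx' : Acts (fun q => w (lin (p, e1, e3) q)) (π x) mt := by
    intro q
    show π x * w (lin (p, e1, e3) q) * (π x)⁻¹ = w (lin (p, e1, e3) (lin mt q))
    rw [hx, ← lin_cmp, hmt, lin_cmp]
  have hw1 : w (lin (p, e1, e3) e1) = π m := by
    rw [lin_e1, hp]
  generalize hww : (fun q => w (lin (p, e1, e3) q)) = w' at N' hx'
  have hw1' : π m = w' e1 := by rw [← hww]; exact hw1.symm
  have hQ2 : IsPGroup 2 (Q.map π) := N.h.l.two.map π
  obtain ⟨d0, hd03, hd0⟩ := N'.nat.exists_ord3 hQ2 md_bas md_cube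
  obtain ⟨d, hd3, rfl⟩ := lift_ord3 π N.surj (by
    rw [N.ker]
    exact N.h.l.two.to_le (N.zle.trans N.h.wq)) hd03
  have hdm : d * m = m * d := by
    refine N'.ed hd3 ?_
    rw [hw1', hd0.comm_iff N'.nat.coord]
    exact md_e1
  refine N'.nonsplit hmW hm1 (fun x' hx'm => ?_)
  obtain ⟨n, hn, hn2⟩ := N'.nat.acts (π x')
  have hn1 : n.1 = e1 := by
    rw [hw1', hn2.comm_iff N'.nat.coord, lin_e1] at hx'm
    exact hx'm
  obtain ⟨i, j, k, l, hijkl⟩ := (fix_e1_aux n).resolve_left (not_not.2 ⟨hn, hn1⟩)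
  obtain ⟨r', hr'⟩ := N'.nat.real (mR i j) (mR_bas _ _)
  obtain ⟨r, rfl⟩ := N.surj r'
  have hrm := N'.eR hmW hw1' hr'
  have hc : Acts w' (π (r * (d ^ (k : ℕ) * x ^ (l : ℕ)))) n := by
    rw [map_mul, map_mul, map_pow, map_pow, hijkl]
    exact hr'.mul ((acts_pow hd0 _).mul (acts_pow hx' _))
  have h3 := N'.nat.same hn2 hc
  rw [← map_inv, ← map_mul, ← N.memQ] at h3
  have h4 := N.h.cent h3 hmW
  have h5 : (r * (d ^ (k : ℕ) * x ^ (l : ℕ))) * m = m * (r * (d ^ (k : ℕ) * x ^ (l : ℕ))) :=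
    (show Commute r m from hrm).mul_left
      (((show Commute d m from hdm).pow_left _).mul_left ((show Commute x m from hxm).pow_left _))
  generalize r * (d ^ (k : ℕ) * x ^ (l : ℕ)) = c at h3 h4 h5
  calc x' * m = (x' * c⁻¹) * (c * m) := by group
    _ = (x' * c⁻¹ * m) * c := by rw [h5]; group
    _ = m * x' := by rw [h4]; group

/-- the generator of `C_Q(y)` is central. -/
theorem gcen [Finite X] {g : X} (hg : Hyp.C Q y = zpowers g) : ∀ x, x * g = g * x := by
  have hY : Finite Y := Finite.of_surjective π N.surj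
  have hQn := N.h.l.normal
  have hkQ : π.ker ≤ Q := by
    rw [N.ker]
    exact N.zle.trans N.h.wq
  have hgQ := (N.h.gC hg).1
  have hya := (N.h.gC hg).2
  have hQ' : (Q.map π).Normal := hQn.map π N.surj
  have hidx : (Q.map π).index = 168 := by
    rw [index_map_eq _ N.surj hkQ, N.h.l.index]
  have hQc : ∀ a ∈ Q.map π, ∀ b ∈ Q.map π, a * b = b * a := by
    rintro _ ⟨a, ha, rfl⟩ _ ⟨b, hb, rfl⟩
    rw [← map_mul, ← map_mul, N.h.qcomm hg ha hb]
  have hy7 : (π y) ^ 7 = 1 := by rw [← map_pow, N.h.hy, map_one]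
  have hyQ : π y ∉ Q.map π := fun h0 => N.h.yQ (N.memQ.2 h0)
  have haQ : π g ∈ Q.map π := ⟨g, hgQ, rfl⟩
  have hya' : π y * π g = π g * π y := by rw [← map_mul, hya, map_mul]
  have hxa : ∀ x, x * π g * x⁻¹ * (π g)⁻¹ ∈ W.map π := by
    intro x
    obtain ⟨x, rfl⟩ := N.surj x
    refine ⟨_, N.h.xw hg x hgQ, ?_⟩
    rw [map_mul, map_mul, map_mul, map_inv, map_inv]
  -- `g` is central modulo `z`
  have hcen : ∀ x, x * π g = π g * x := by
    by_contra hne
    obtain ⟨x', hx⟩ := N.nat.real (mR 0 1) (mR_bas 0 1)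
    obtain ⟨x, rfl⟩ := N.surj x'
    have hxx : x * x ∈ Q := by
      rw [N.memQ, map_mul, N.nat.mem_iff (hx.mul hx)]
      decide
    have hxQ : π x ∉ Q.map π := by
      rw [N.nat.mem_iff hx]
      decide
    set m := x * g * x⁻¹ * g⁻¹ with hm
    have hmW : m ∈ W := N.h.xw hg x hgQ
    have hxm : x * m = m * x := by
      have h1 : x * x * g = g * (x * x) := N.h.qcomm hg hxx hgQ
      have h2 : (x * m * x⁻¹) * m = 1 := by
        calc (x * m * x⁻¹) * m = x * (x * g * x⁻¹ * g⁻¹) * x⁻¹ * (x * g * x⁻¹ * g⁻¹) := by rw [hm]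
          _ = (x * x * g) * (x * x)⁻¹ * g⁻¹ := by group
          _ = 1 := by rw [h1]; group
      have h3 : x * m * x⁻¹ = m := by
        rw [mul_eq_one_iff_eq_inv.1 h2, N.h.winv hmW]
      calc x * m = (x * m * x⁻¹) * x := by group
        _ = m * x := by rw [h3]
    have hfix : ∃ v ∈ W.map π, π x * (v * π g) = (v * π g) * π x := by
      have hxg : π x * π g * (π x)⁻¹ = π m * π g := by
        rw [hm]
        simp only [map_mul, map_inv]
        group
      rcases N.star2 hx hmW hxm with h1 | h1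
      · refine ⟨1, one_mem _, ?_⟩
        rw [one_mul]
        calc π x * π g = (π x * π g * (π x)⁻¹) * π x := by group
          _ = π g * π x := by rw [hxg, h1, one_mul]
      · refine ⟨w e3, N.nat.coord.mem_w _, ?_⟩
        have h2 := hx e3
        have h0 : lin (mR 0 1) e3 = e1 + e3 := by decide
        rw [h0] at h2
        change π x * w e3 * (π x)⁻¹ = w (e1 + e3) at h2
        show π x * (w e3 * π g) = (w e3 * π g) * π x
        calc π x * (w e3 * π g) = (π x * w e3 * (π x)⁻¹) * (π x * π g * (π x)⁻¹) * π x := by group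
          _ = w (e1 + e3) * w e1 * π g * π x := by rw [h2, hxg, h1]; group
          _ = w e3 * π g * π x := by
              rw [← N.nat.coord.mul]
              have h3 : e1 + e3 + e1 = e3 := by decide
              rw [h3]
    obtain ⟨v, hv, hxv⟩ := hfix
    exact hxQ (no_fix N.nat hQ' hidx hQc hy7 hyQ haQ hya' hxa hne ⟨x * x, hxx, map_mul π x x⟩ hv hxv)
  -- `C_X(g)` is normal
  have hmv : ∀ x, ∃ r, Mv g x r := fun x => N.mv' (hcen (π x))
  have hCn : (centralizer ({g} : Set X)).Normal := by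
    refine ⟨fun c hc x => ?_⟩
    rw [mem_centralizer_singleton_iff] at hc ⊢
    obtain ⟨r, hr⟩ := hmv x
    have h1 : Mv g c 1 := ⟨fun x => by rw [mul_one, one_mul], by rw [mul_one]; exact hc⟩
    have h2 := ((hr.mul h1).mul hr.inv).2
    have h3 : r * 1 * r⁻¹ = 1 := by group
    rw [h3, mul_one] at h2
    exact h2
  have htop := N.h.top hCn (fun q hq => by
    rw [mem_centralizer_singleton_iff]
    exact N.h.qcomm hg hq hgQ) (by
    rw [mem_centralizer_singleton_iff]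
    exact hya)
  intro x
  have h1 : x ∈ centralizer ({g} : Set X) := htop ▸ mem_top x
  rwa [mem_centralizer_singleton_iff] at h1

end N16

end Cfsg.Agent.GH.C2ThreeOne
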