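import Mathlib
import Cfsg.Agent.GH.C2ThreeOneG

/-!
# GH-C2 (T3), statement ONE: the case `|W| = 16`, end
-/

set_option autoImplicit false
set_option maxHeartbeats 800000
set_option linter.unusedSectionVars false
set_option linter.unusedVariables false

namespace Cfsg.Agent.GH.C2ThreeOne

open Subgroup Cfsg.Agent.TwoFusion.SectionalRank Cfsg.Agent.GH.C2Base Cfsg.Agent.GH.C2Five
open Cfsg.Agent.GH.C2ThreeNat Cfsg.Agent.GH.C2ThreeK0

variable {X : Type*} [Group X]

/-- The general kill: `g` central with `g² ≠ 1`. -/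
theorem kill4 [Finite X] {Y : Type*} [Group Y] [Finite Y] (hr : R4 X) {Q : Subgroup X}
    {π : X →* Y} {w : T3 → Y} {e g : X} (hs : SS Q π w e) (hk : π.ker = zpowers g)
    (hgc : ∀ x, x * g = g * x) (hgQ : g ∈ Q) (hee : e * e = 1)
    (hab : ∀ a ∈ Q, ∀ b ∈ Q, a * b = b * a) (hsq : ∀ q ∈ Q, q * q ∈ zpowers (g * g))
    (hcomm : ∀ (x : X) (i j : ZMod 2), Acts w (π x) (mR i j) → ∀ q ∈ Q,
      x * q * x⁻¹ * q⁻¹ ∈ zpowers (g * g) ⊔ zpowers e)
    (hcard : 8 * Nat.card (zpowers g) ≤ Nat.card Q) (hg2 : g * g ≠ 1) : False := by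
  have hg1 : g ≠ 1 := fun h0 => hg2 (by rw [h0, mul_one])
  obtain ⟨n, hn⟩ := exists_pow_of_mem hs.two hgQ
  have hN : (zpowers g).Normal := normal_of_central hgc
  have hN2 : (zpowers (g * g)).Normal := normal_of_central (central_sq hgc)
  set D : Subgroup X := zpowers (g * g) ⊔ zpowers e with hD
  have heQ := hs.e_mem
  have hDQ : D ≤ Q := by
    refine sup_le ?_ ?_
    · rw [zpowers_le]
      exact Q.mul_mem hgQ hgQ
    · rw [zpowers_le]
      exact heQ
  have hsec : ElemSection 2 Q D := by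
    refine ⟨hDQ, fun a ha b hb => ?_, fun a ha => ?_⟩
    · have h1 : a * b * a⁻¹ * b⁻¹ = 1 := by
        rw [hab a ha b hb]
        group
      rw [h1]
      exact one_mem _
    · rw [pow_two]
      exact mem_sup_left (hsq a ha)
  have hcD : 8 * Nat.card D ≤ Nat.card Q := by
    have h1 := two_mul_card_sq hn hg1
    have h3 := card_sup_le (zpowers (g * g)) (zpowers e)
    have h4 := card_zpowers_le_two hee
    have h5 : Nat.card (zpowers e) * Nat.card (zpowers (g * g)) ≤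
        2 * Nat.card (zpowers (g * g)) := Nat.mul_le_mul_right _ h4
    rw [← hD] at h3
    omega
  have hE : ∀ a ∈ zpowers g ⊔ zpowers e, ∃ i j : ℤ, a = g ^ i * e ^ j := by
    intro a ha
    obtain ⟨b, hb, c, hc, rfl⟩ := mem_sup_of_normal_left.1 ha
    obtain ⟨i, rfl⟩ := mem_zpowers_iff.1 hb
    obtain ⟨j, rfl⟩ := mem_zpowers_iff.1 hc
    exact ⟨i, j, rfl⟩
  have hEsq : ∀ i j : ℤ, (g ^ i * e ^ j) * (g ^ i * e ^ j) = g ^ i * g ^ i := by
    intro i j
    have h1 : e ^ j * g ^ i = g ^ i * e ^ j := (show Commute (e ^ j) g from hgc _).zpow_right i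
    have h2 : e ^ j * e ^ j = 1 := by
      rw [← (Commute.refl e).mul_zpow, hee, one_zpow]
    calc (g ^ i * e ^ j) * (g ^ i * e ^ j) = g ^ i * (e ^ j * g ^ i) * e ^ j := by group
      _ = g ^ i * g ^ i * (e ^ j * e ^ j) := by rw [h1]; group
      _ = g ^ i * g ^ i := by rw [h2, mul_one]
  have hEsqD : ∀ a ∈ zpowers g ⊔ zpowers e, a * a ∈ D := by
    intro a ha
    obtain ⟨i, j, rfl⟩ := hE a ha
    rw [hEsq, ← (Commute.refl g).mul_zpow]
    exact mem_sup_left (zpow_mem (mem_zpowers _) i)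
  obtain ⟨x', hx'⟩ := hs.nat.real (mR 0 1) (mR_bas 0 1)
  obtain ⟨x, rfl⟩ := hs.surj x'
  obtain ⟨x2, ε, ζ, hx2, h22, hs1, hε, hεE, hζE, hεε, h3⟩ := hs.trip hx'
  rw [hk] at hs1 hεE hζE
  have hεD : ε ∈ D := by
    obtain ⟨i, j, rfl⟩ := hE ε hεE
    rw [hEsq] at hεε
    obtain ⟨k, rfl⟩ := even_of_zpow hn hg2 hεε
    refine mul_mem (mem_sup_left ?_) (mem_sup_right (zpow_mem (mem_zpowers _) j))
    rw [zpow_add, ← (Commute.refl g).mul_zpow]
    exact zpow_mem (mem_zpowers _) k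
  have hsD : x * x ∈ D := by
    have h4 : x * x * (x * x) ∈ D := hEsqD _ hs1
    have h5 : ε * (ζ * ζ) ∈ D := mul_mem hεD (hEsqD _ hζE)
    rw [← h3] at h5
    have h6 := mul_mem (inv_mem h4) h5
    rwa [inv_mul_cancel_left] at h6
  exact hs.kill hr hsec hcD hcomm hx' hx2 hsD (h22 ▸ hsD) (hε ▸ hεD)

namespace N16

variable {Y : Type*} [Group Y] {Q W : Subgroup X} {y z : X} {π : X →* Y} {w : T3 → Y}
  (N : N16 Q W y z π w)

include N

theorem false_of_gen [Finite X] (hr : R4 X) {g : X} (hg : Hyp.C Q y = zpowers g) (hgW : g ∉ W)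
    (hcard : 8 * Nat.card (zpowers g) ≤ Nat.card Q) : False := by
  have hY : Finite Y := Finite.of_surjective π N.surj
  have hgc := N.gcen hg
  have hgQ := (N.h.gC hg).1
  have hab : ∀ a ∈ Q, ∀ b ∈ Q, a * b = b * a := fun a ha b hb => N.h.qcomm hg ha hb
  have hzg : z ∈ zpowers g := by
    rw [← hg]
    exact Hyp.mem_C.2 ⟨N.h.wq N.zW, N.zc y⟩
  obtain ⟨n, hn⟩ := exists_pow_of_mem N.h.l.two hgQ
  have hg2 : g * g ≠ 1 := by
    intro h0
    obtain ⟨k, hk⟩ := mem_zpowers_iff.1 hzg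
    rcases Int.even_or_odd' k with ⟨l, rfl | rfl⟩
    · rw [zpow_mul, zpow_ofNat, pow_two, h0, one_zpow] at hk
      exact N.z1 hk.symm
    · rw [zpow_add_one, zpow_mul, zpow_ofNat, pow_two, h0, one_zpow, one_mul] at hk
      exact hgW (hk ▸ N.zW)
  have hzg2 : z ∈ zpowers (g * g) := by
    obtain ⟨k, hk⟩ := mem_zpowers_iff.1 hzg
    have h1 : g ^ k * g ^ k = 1 := by rw [hk, N.zz]
    obtain ⟨l, rfl⟩ := even_of_zpow hn hg2 h1
    rw [← hk, zpow_add, ← (Commute.refl g).mul_zpow]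
    exact zpow_mem (mem_zpowers _) l
  have hsq : ∀ q ∈ Q, q * q ∈ zpowers (g * g) := by
    intro q hq
    obtain ⟨v, hv, k, rfl⟩ := N.h.dec hg hq
    have h1 : g ^ k * v = v * g ^ k := N.h.cent (Q.zpow_mem hgQ k) hv
    have h2 : v * g ^ k * (v * g ^ k) = (g * g) ^ k := by
      calc v * g ^ k * (v * g ^ k) = v * (g ^ k * v) * g ^ k := by group
        _ = (v * v) * (g ^ k * g ^ k) := by rw [h1]; group
        _ = (g * g) ^ k := by rw [N.h.w2 v hv, one_mul, (Commute.refl g).mul_zpow]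
    rw [h2]
    exact zpow_mem (mem_zpowers _) k
  -- the structure modulo `⟨z⟩`
  have hc : Cen (Q.map π) (W.map π) w (π g) := by
    refine ⟨N.h.l.two.map π, N.nat, ⟨g, hgQ, rfl⟩, fun x => ?_, ?_⟩
    · obtain ⟨x, rfl⟩ := N.surj x
      rw [← map_mul, hgc, map_mul]
    · rintro _ ⟨q, hq, rfl⟩
      obtain ⟨v, hv, k, rfl⟩ := N.h.dec hg hq
      exact ⟨π v, ⟨v, hv, rfl⟩, k, by rw [map_mul, map_zpow]⟩
  have hNY : (zpowers (π g)).Normal := normal_of_central hc.gc
  have hs0 := hc.ss (QuotientGroup.mk'_surjective (zpowers (π g))) (QuotientGroup.ker_mk' _)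
  set ρ := QuotientGroup.mk' (zpowers (π g)) with hρ
  have hk : (ρ.comp π).ker = zpowers g := by
    ext x
    rw [MonoidHom.mem_ker, MonoidHom.comp_apply, hρ, QuotientGroup.mk'_apply,
      QuotientGroup.eq_one_iff]
    constructor
    · intro hx
      obtain ⟨k, hk⟩ := mem_zpowers_iff.1 hx
      rw [← map_zpow] at hk
      rcases N.eq_or hk.symm with h1 | h1
      · rw [h1]
        exact zpow_mem (mem_zpowers _) k
      · rw [h1]
        exact mul_mem (zpow_mem (mem_zpowers _) k) hzg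
    · intro hx
      obtain ⟨k, rfl⟩ := mem_zpowers_iff.1 hx
      rw [map_zpow]
      exact zpow_mem (mem_zpowers _) k
  have hback : ∀ {x : X} {m : M3}, Acts (fun p => ρ (w p)) (ρ (π x)) m → Acts w (π x) m := by
    intro x m hx
    exact acts_of_map hc.nat hs0.surj hs0.zle hs0.zc (fun q hq => by
      obtain ⟨v, hv, k, rfl⟩ := hc.dec q hq
      refine ⟨v, hv, ?_⟩
      rw [hρ, QuotientGroup.ker_mk', inv_mul_cancel_left]
      exact zpow_mem (mem_zpowers _) k) hx
  obtain ⟨e, heW, he⟩ := N.lift e1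
  have hs : SS Q (ρ.comp π) (fun p => ρ (w p)) e := by
    refine ⟨N.h.l.two, hs0.surj.comp N.surj, ?_, ?_, ?_, ?_, ?_, ?_⟩
    · rw [hk, zpowers_le]
      exact hgQ
    · intro a ha x
      rw [hk] at ha
      obtain ⟨k, rfl⟩ := mem_zpowers_iff.1 ha
      exact (show Commute x g from hgc x).zpow_right k
    · rw [← Subgroup.map_map]
      exact hs0.nat
    · show ρ (π e) = ρ (w e1)
      rw [he]
    · intro x i j hx
      exact N.eR heW he (hback hx)
    · intro d hd3 hd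
      refine N.ed hd3 ?_
      rw [he, (hback hd).comm_iff N.nat.coord]
      exact md_e1
  refine kill4 hr hs hk hgc hgQ (N.h.w2 e heW) hab hsq (fun x i j hx q hq => ?_) hcard hg2
  have hx' := hback hx
  obtain ⟨v, hv, k, rfl⟩ := N.h.dec hg hq
  have h1 : x * g ^ k = g ^ k * x := (show Commute x g from hgc x).zpow_right k
  have h2 : x * (v * g ^ k) * x⁻¹ * (v * g ^ k)⁻¹ = x * v * x⁻¹ * v⁻¹ := by
    calc x * (v * g ^ k) * x⁻¹ * (v * g ^ k)⁻¹
        = x * v * x⁻¹ * (x * g ^ k) * x⁻¹ * (g ^ k)⁻¹ * v⁻¹ := by group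
      _ = x * v * x⁻¹ * v⁻¹ := by rw [h1]; group
  rw [h2]
  obtain ⟨p, hp⟩ : ∃ p, w p = π v := (N.nat.coord.mem _).1 ⟨v, hv, rfl⟩
  have h3 : π (x * v * x⁻¹ * v⁻¹) = w (lin (mR i j) p + p) := by
    rw [map_mul, map_mul, map_mul, map_inv, map_inv, ← hp, hx', N.nat.coord.inv, N.nat.coord.mul]
  have hzD : z ∈ zpowers (g * g) ⊔ zpowers e := mem_sup_left hzg2
  have heD : e ∈ zpowers (g * g) ⊔ zpowers e := mem_sup_right (mem_zpowers _)
  rcases mR_add i j p with h4 | h4
  · rw [h4, N.nat.coord.zero, ← map_one π] at h3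
    rcases N.eq_or h3 with h5 | h5
    · rw [h5]
      exact one_mem _
    · rw [h5, one_mul]
      exact hzD
  · rw [h4, ← he] at h3
    rcases N.eq_or h3 with h5 | h5
    · rw [h5]
      exact heD
    · rw [h5]
      exact mul_mem heD hzD

end N16

/-- Statement ONE for `|W| = 16`. -/
theorem one16 [Finite X] (hr : R4 X) {Q W : Subgroup X} {y z : X} (H : H16 Q W y z) : Q = W := by
  have hWn := H.h.wn
  have hQn := H.h.l.normal
  have hNz : (zpowers z).Normal := H.nz
  have hzQ : zpowers z ≤ Q := H.zle.trans H.h.wq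
  -- `C_Q(y)` is cyclic
  have hinf : W ⊓ Hyp.C Q y ≤ zpowers z := by
    intro v hv
    rw [H.mem_z]
    exact H.fix v hv.1 (Hyp.mem_C.1 hv.2).2
  have hc : 8 * Nat.card (W ⊓ Hyp.C Q y : Subgroup X) ≤ Nat.card W := by
    have h1 : Nat.card (W ⊓ Hyp.C Q y : Subgroup X) ≤ Nat.card (zpowers z) :=
      Nat.card_le_card_of_injective _ (inclusion_injective hinf)
    rw [H.card_zp] at h1
    rw [H.card]
    omega
  obtain ⟨g, hg⟩ := H.h.exists_gen hr hc
  have hgQ := (H.h.gC hg).1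
  by_cases hgW : g ∈ W
  · refine le_antisymm (fun q hq => ?_) H.h.wq
    obtain ⟨v, hv, k, rfl⟩ := H.h.dec hg hq
    exact W.mul_mem hv (W.zpow_mem hgW k)
  exfalso
  -- coordinates modulo `z`
  set π := QuotientGroup.mk' (zpowers z) with hπ
  have hsurj : Function.Surjective π := QuotientGroup.mk'_surjective _
  have hker : π.ker = zpowers z := QuotientGroup.ker_mk' _
  have hW8 : Nat.card (W.map π) = 8 := by
    have h1 : Nat.card (W.map π) = (π.comp W.subtype).ker.index := by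
      rw [index_ker, MonoidHom.range_comp, Subgroup.range_subtype]
    have h2 : (π.comp W.subtype).ker = (zpowers z).subgroupOf W := by
      ext x
      rw [MonoidHom.mem_ker, mem_subgroupOf, MonoidHom.comp_apply]
      exact QuotientGroup.eq_one_iff (x : X)
    have h3 : Nat.card ((zpowers z).subgroupOf W) = 2 := by
      rw [Nat.card_congr (subgroupOfEquivOfLe H.zle).toEquiv, H.card_zp]
    have h4 := card_mul_index ((zpowers z).subgroupOf W)
    rw [h3, ← h2, ← h1, H.card] at h4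
    omega
  have hW2 : ∀ v ∈ W.map π, v * v = 1 := by
    rintro _ ⟨v, hv, rfl⟩
    rw [← map_mul, H.h.w2 v hv, map_one]
  obtain ⟨w, hw⟩ := exists_coord hW2 hW8
  have hne : ∃ v ∈ W.map π, π y * v ≠ v * π y := by
    by_contra hcon
    push Not at hcon
    obtain ⟨v, hv, hv2⟩ := H.h.ne
    apply hv2
    have h1 := hcon _ ⟨v, hv, rfl⟩
    have h2 : y * v * y⁻¹ * v⁻¹ ∈ zpowers z := by
      rw [← hker, MonoidHom.mem_ker, map_mul, map_mul, map_mul, map_inv, map_inv, h1]
      group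
    have h3 : y * v * y⁻¹ * v⁻¹ = 1 := by
      refine fix_of_comm H.h.hy (H.h.w2 _ (H.zle h2)) ?_ rfl
      rcases H.mem_z.1 h2 with h4 | h4
      · rw [h4, mul_one, one_mul]
      · rw [h4]
        exact H.zc y
    calc y * v = (y * v * y⁻¹ * v⁻¹) * (v * y) := by group
      _ = v * y := by rw [h3, one_mul]
  have hnat : NatMod (Q.map π) (W.map π) w :=
    natMod_of (L32.map H.h.l (zpowers z) hzQ) (hWn.map π hsurj) (map_mono H.h.wq) hw
      (y := π y) (by rw [← map_pow, H.h.hy, map_one]) hne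
  have N : N16 Q W y z π w := ⟨H, hsurj, hker, hnat⟩
  refine N.false_of_gen hr hg hgW ?_
  have h1 := H.h.card_sup hc (A := zpowers g) (by rw [hg])
  have h2 : W ⊔ zpowers g ≤ Q := sup_le H.h.wq (by rw [← hg]; exact inf_le_left)
  exact h1.trans (Nat.card_le_card_of_injective _ (inclusion_injective h2))

end Cfsg.Agent.GH.C2ThreeOne
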