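import Mathlib
import Cfsg.Agent.GH.C2ThreeOneF
import Cfsg.Agent.GH.C2ThreeOneH
import Cfsg.Agent.GH.C2ThreeMinE

/-!
# GH-C2 (T3), statement ONE

`X / Q = L₃(2)`, `Q` a 2-group, sectional 2-rank at most 4, `W` minimal among the normal subgroups of
`X` in `Q` not centralised by `y`, `y⁷ = 1`, and `y` centralises `Q / W`.  Then `Q = W`, or `|W| = 8`
and either all involutions of `X` lie in `W ⟨z₀⟩`, `z₀` a central involution, or `Q` is elementary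
abelian of order 16 and `X` is transitive on `Q ∖ W`.
-/

set_option autoImplicit false
set_option maxHeartbeats 800000

namespace Cfsg.Agent.GH.C2ThreeOne

open Subgroup Cfsg.Agent.TwoFusion.SectionalRank Cfsg.Agent.GH.C2Base Cfsg.Agent.GH.C2Five
open Cfsg.Agent.GH.C2ThreeNat Cfsg.Agent.GH.C2ThreeK0 Cfsg.Agent.GH.C2ThreeMin
open Cfsg.Agent.GH.C2ThreeMinE

variable {X : Type*} [Group X]

theorem hyp_of {Q W : Subgroup X} {y : X} (hQ : L32 Q) (hy : y ^ 7 = 1) (hW : Minc Q W y)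
    (hsq : ∀ v ∈ W, v * v = 1) (hone : ∀ q ∈ Q, y * q * y⁻¹ * q⁻¹ ∈ W) : Hyp Q W y where
  l := hQ
  hy := hy
  wn := hW.normal
  wq := hW.le
  w2 := hsq
  ne := hW.ne
  min N hN hlt := hW.min N hN hlt.le hlt.ne
  one := hone

/-- Statement ONE. -/
theorem one [Finite X] (hr : R4 X) {Q W : Subgroup X} {y : X} (hQ : L32 Q) (hy : y ^ 7 = 1)
    (hW : Minc Q W y) (hone : ∀ q ∈ Q, y * q * y⁻¹ * q⁻¹ ∈ W) :
    Q = W ∨
    (Nat.card W = 8 ∧ ∃ z0 ∈ Q, z0 ∉ W ∧ z0 * z0 = 1 ∧ (∀ x, x * z0 = z0 * x) ∧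
      ∀ u : X, u * u = 1 → u ∈ W ∨ u * z0 ∈ W) ∨
    (Nat.card W = 8 ∧ Nat.card Q = 16 ∧ (∀ q ∈ Q, q * q = 1) ∧
      ∀ a ∈ Q, a ∉ W → ∀ b ∈ Q, b ∉ W → ∃ x, x * a * x⁻¹ = b) := by
  have hsq := minc_sq hr hQ hy hW
  have h := hyp_of hQ hy hW hsq hone
  rcases shape hr hQ hy hW hsq with ⟨h8, -⟩ | ⟨h16, c, hcW, hc1, hcc, hfix⟩
  · rcases one8 hr h h8 with h1 | h1 | h1
    · exact Or.inl h1
    · exact Or.inr (Or.inl ⟨h8, h1⟩)
    · exact Or.inr (Or.inr ⟨h8, h1⟩)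
  · exact Or.inl (one16 hr ⟨h, h16, hcW, hc1, hcc, hfix⟩)

end Cfsg.Agent.GH.C2ThreeOne
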