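import Mathlib
import Cfsg.Agent.GH.C2ThreeMinE
import Cfsg.Agent.GH.C2ThreeTr

/-!
# GH-C2 (T3): a central top layer has order at most two
-/

set_option autoImplicit false
set_option maxHeartbeats 800000

namespace Cfsg.Agent.GH.C2ThreeIdx

open Subgroup Cfsg.Agent.TwoFusion.SectionalRank Cfsg.Agent.GH.C2Base Cfsg.Agent.GH.C2Five
open Cfsg.Agent.GH.C2ThreeNat Cfsg.Agent.GH.C2ThreeK0 Cfsg.Agent.GH.C2ThreeMin Cfsg.Agent.GH.C2ThreeMinE

variable {X : Type*} [Group X]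

/-- Lifting fixed points of `y`. -/
theorem exists_lift [Finite X] {U : Subgroup X} (hUn : U.Normal) {y : X}
    (hcU : ∀ u ∈ U, y * u = u * y → u = 1) {q : X} (hq : y * q * y⁻¹ * q⁻¹ ∈ U) :
    ∃ u ∈ U, y * (u * q) = (u * q) * y := by
  have h1 : (q * y * q⁻¹) * y⁻¹ ∈ U := by
    have h2 : (q * y * q⁻¹) * y⁻¹ = (y * q * y⁻¹ * q⁻¹)⁻¹ := by group
    rw [h2]
    exact inv_mem hq
  obtain ⟨u, hu, hu2⟩ := exists_conj_eq (Q := U) hUn hcU h1
  refine ⟨u⁻¹, inv_mem hu, ?_⟩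
  have h3 : y * (u⁻¹ * q) = u⁻¹ * (u * y * u⁻¹) * q := by group
  rw [h3, hu2]
  group

/-- If the normal closure of `y` is everything and `y` acts trivially on `Q / U` then so does `X`. -/
theorem comm_all {Q U : Subgroup X} (hQn : Q.Normal) [hUn : U.Normal] {y : X}
    (hyt : normalClosure ({y} : Set X) = ⊤) (h : ∀ q ∈ Q, y * q * y⁻¹ * q⁻¹ ∈ U) (x : X) :
    ∀ q ∈ Q, x * q * x⁻¹ * q⁻¹ ∈ U := by
  have hs := QuotientGroup.mk'_surjective U
  have hQU : (Q.map (QuotientGroup.mk' U)).Normal := hQn.map _ hs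
  have hC : (centralizer (Q.map (QuotientGroup.mk' U) : Set (X ⧸ U))).Normal := inferInstance
  have h1 : normalClosure ({y} : Set X) ≤
      (centralizer (Q.map (QuotientGroup.mk' U) : Set (X ⧸ U))).comap (QuotientGroup.mk' U) := by
    have := hC.comap (QuotientGroup.mk' U)
    apply normalClosure_le_normal
    rintro z rfl
    show (z : X ⧸ U) ∈ centralizer (Q.map (QuotientGroup.mk' U) : Set (X ⧸ U))
    rw [mem_centralizer_iff]
    rintro _ ⟨q, hq, rfl⟩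
    have h2 : ((z * q * z⁻¹ * q⁻¹ : X) : X ⧸ U) = 1 := (QuotientGroup.eq_one_iff _).2 (h q hq)
    show (q : X ⧸ U) * (z : X ⧸ U) = (z : X ⧸ U) * (q : X ⧸ U)
    have h3 : (z : X ⧸ U) * q * (z : X ⧸ U)⁻¹ * (q : X ⧸ U)⁻¹ = 1 := h2
    calc (q : X ⧸ U) * (z : X ⧸ U) = 1 * (q * z) := by rw [one_mul]
      _ = ((z : X ⧸ U) * q * (z : X ⧸ U)⁻¹ * (q : X ⧸ U)⁻¹) * (q * z) := by rw [h3]
      _ = (z : X ⧸ U) * q := by group
  rw [hyt] at h1
  intro q hq
  have h2 : (x : X ⧸ U) ∈ centralizer (Q.map (QuotientGroup.mk' U) : Set (X ⧸ U)) := h1 (mem_top x)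
  have h3 := mem_centralizer_iff.1 h2 (q : X ⧸ U) ⟨q, hq, rfl⟩
  rw [← QuotientGroup.eq_one_iff]
  show (x : X ⧸ U) * q * (x : X ⧸ U)⁻¹ * (q : X ⧸ U)⁻¹ = 1
  rw [← h3]
  group

/-- `σ³ = ζ² ε`. -/
theorem cube {G : Type*} [Group G] {x1 x2 x3 σ ζ ε : G} (h1 : x1 * x1 = σ) (h2 : x2 * x2 = σ)
    (h3 : x3 * x3 = σ) (hσ : ∀ g, g * σ = σ * g) (hζ : x1 * x2 * x3 = ζ) (hζc : ∀ g, g * ζ = ζ * g)
    (hε : x1 * x2 * x1⁻¹ * x2⁻¹ = ε) (hεc : ∀ g, g * ε = ε * g) :
    ε * ε = 1 ∧ σ * (σ * σ) = ε * (ζ * ζ) := by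
  have h12 : x1 * x2 = ε * (x2 * x1) := by rw [← hε]; group
  have hεε : ε * ε = 1 := by
    have h4 : x1 * x1 * x2 = ε * ε * (x2 * (x1 * x1)) := by
      calc x1 * x1 * x2 = x1 * (x1 * x2) := by group
        _ = (x1 * ε) * (x2 * x1) := by rw [h12]; group
        _ = ε * (x1 * x2) * x1 := by rw [hεc x1]; group
        _ = ε * ε * (x2 * (x1 * x1)) := by rw [h12]; group
    rw [h1, hσ x2] at h4
    exact (mul_eq_right.1 h4.symm)
  refine ⟨hεε, ?_⟩
  have h5 : (x1 * x2) * (x1 * x2) = ε * (σ * σ) := by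
    calc (x1 * x2) * (x1 * x2) = ε * (x2 * x1) * (x1 * x2) := by nth_rewrite 1 [h12]; rfl
      _ = ε * (x2 * (x1 * x1) * x2) := by group
      _ = ε * (σ * (x2 * x2)) := by rw [h1, hσ x2]; group
      _ = ε * (σ * σ) := by rw [h2]
  have h6 : x1 * x2 = ζ * x3⁻¹ := by rw [← hζ]; group
  have h7 : (x1 * x2) * (x1 * x2) = ζ * ζ * σ⁻¹ := by
    rw [h6, ← h3]
    calc ζ * x3⁻¹ * (ζ * x3⁻¹) = ζ * (x3⁻¹ * ζ) * x3⁻¹ := by group
      _ = ζ * (ζ * x3⁻¹) * x3⁻¹ := by rw [hζc]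
      _ = ζ * ζ * (x3 * x3)⁻¹ := by group
  have h8 : ε * (σ * σ) * σ = ζ * ζ := by
    rw [← h5, h7]
    group
  calc σ * (σ * σ) = ε * ε * (σ * (σ * σ)) := by rw [hεε, one_mul]
    _ = ε * (ε * (σ * σ) * σ) := by group
    _ = ε * (ζ * ζ) := by rw [h8]

/-- An element of order at least 4 has a power of order 4. -/
theorem exists_four {Q : Subgroup X} (hQ : IsPGroup 2 Q) {s : X} (hs : s ∈ Q) (h1 : s * s ≠ 1) :
    ∃ k : ℕ, s ^ k * s ^ k ≠ 1 ∧ (s ^ k * s ^ k) * (s ^ k * s ^ k) = 1 := by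
  classical
  have hex : ∃ n : ℕ, s ^ 2 ^ n = 1 := by
    obtain ⟨n, hn⟩ := hQ ⟨s, hs⟩
    exact ⟨n, by simpa using congrArg Subtype.val hn⟩
  have hm := Nat.find_spec hex
  set n := Nat.find hex with hn
  have hmin : ∀ m < n, s ^ 2 ^ m ≠ 1 := fun m hm => Nat.find_min hex hm
  have hn2 : 2 ≤ n := by
    by_contra hcon
    have h2 : n = 0 ∨ n = 1 := by omega
    apply h1
    rcases h2 with h2 | h2
    · rw [h2, pow_zero, pow_one] at hm
      rw [hm, one_mul]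
    · rw [h2, pow_one, pow_two] at hm
      exact hm
  obtain ⟨m, hm2⟩ : ∃ m, n = m + 2 := ⟨n - 2, by omega⟩
  refine ⟨2 ^ m, ?_, ?_⟩
  · rw [← pow_add, ← two_mul, ← pow_succ']
    exact hmin _ (by omega)
  · rw [← pow_add, ← two_mul, ← pow_succ', ← pow_add, ← two_mul, ← pow_succ']
    rw [hm2] at hm
    exact hm

/-- The top layer has order at most 2. -/
theorem idx [Finite X] (hr : R4 X) {Q V U : Subgroup X} {w : T3 → X} (hQ : L32 Q)
    (hV : NatMod Q V w) (hUn : U.Normal) (hVU : V ≤ U) (hUQ : U ≤ Q) {y : X} (hy : y ^ 7 = 1)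
    (hyt : normalClosure ({y} : Set X) = ⊤) (hcU : ∀ u ∈ U, y * u = u * y → u = 1)
    (hyU : ∀ q ∈ Q, y * q * y⁻¹ * q⁻¹ ∈ U) (hne : U ≠ Q) : U.relIndex Q = 2 := by
  have hQn := hQ.normal
  have hlift : ∀ q ∈ Q, ∃ u ∈ U, u * q ∈ Q ∧ y * (u * q) = (u * q) * y := by
    intro q hq
    obtain ⟨u, hu, hu2⟩ := exists_lift hUn hcU (hyU q hq)
    exact ⟨u, hu, Q.mul_mem (hUQ hu) hq, hu2⟩
  have hall := comm_all hQn hyt hyU
  have hyinv : ∀ {d : X}, y * d = d * y → y * d⁻¹ = d⁻¹ * y := fun {d} h =>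
    (show Commute y d from h).inv_right.eq
  have hcomm : ∀ a ∈ Q, y * a = a * y → ∀ b ∈ Q, y * b = b * y → a * b = b * a := by
    intro a ha hya b hb hyb
    have h1 := hall a b hb
    have h2 : y * (a * b * a⁻¹ * b⁻¹) = (a * b * a⁻¹ * b⁻¹) * y := by
      have c1 : Commute y a := hya
      have c2 : Commute y b := hyb
      exact (((c1.mul_right c2).mul_right c1.inv_right).mul_right c2.inv_right).eq
    have h3 := hcU _ h1 h2
    calc a * b = (a * b * a⁻¹ * b⁻¹) * (b * a) := by group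
      _ = b * a := by rw [h3, one_mul]
  have hVc := hV.coord
  have hsec : ElemSection 2 V ⊥ := elem_bot fun v hv => by rw [pow_two]; exact hVc.sq_mem hv
  -- at most one involution
  have huni : ∀ a ∈ Q, y * a = a * y → a * a = 1 → a ≠ 1 → ∀ b ∈ Q, y * b = b * y → b * b = 1 →
      b ≠ 1 → a = b := by
    intro a ha hya haa ha1 b hb hyb hbb hb1
    by_contra hab
    have hnV : ∀ c, y * c = c * y → c ≠ 1 → c ∉ V := fun c hc hc1 hcV => hc1 (hcU c (hVU hcV) hc)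
    have hQV : ∀ c ∈ Q, ∀ v ∈ V, c * v * c⁻¹ * v⁻¹ ∈ (⊥ : Subgroup X) := by
      intro c hc v hv
      rw [mem_bot, (hV.cent c).2 hc v hv]
      group
    refine five hr hsec ?_ (x1 := a) (x2 := b) (by rw [haa]; exact one_mem _)
      (by rw [hbb]; exact one_mem _) (hQV a ha) (hQV b hb) ?_ (hnV a hya ha1) (hnV b hyb hb1)
      (hnV _ ?_ ?_)
    · rw [hVc.card]
      simp
    · rw [mem_bot, hcomm b hb hyb a ha hya]
      group
    · have c1 : Commute y a := hya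
      have c2 : Commute y b := hyb
      exact (c1.inv_right.mul_right c2).eq
    · intro h0
      exact hab (inv_mul_eq_one.1 h0)
  by_contra hrel
  -- an element of order four
  obtain ⟨s, hs, hys, hss⟩ : ∃ s ∈ Q, y * s = s * y ∧ s * s ≠ 1 := by
    by_contra hcon
    push Not at hcon
    obtain ⟨q, hq, hqU⟩ : ∃ q ∈ Q, q ∉ U := by
      by_contra h1
      push Not at h1
      exact hne (le_antisymm hUQ h1)
    obtain ⟨u, hu, huq, hyuq⟩ := hlift q hq
    have ht1 : u * q ∉ U := fun h => hqU ((mul_mem_cancel_left hu).1 h)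
    have htt := hcon _ huq hyuq
    set t := u * q with ht
    have ht0 : t ≠ 1 := fun h => ht1 (by rw [h]; exact one_mem _)
    apply hrel
    rw [relIndex_eq_two_iff]
    refine ⟨t, huq, fun b hb => ?_⟩
    obtain ⟨u', hu', hub, hyub⟩ := hlift b hb
    have hbb := hcon _ hub hyub
    by_cases h0 : u' * b = 1
    · right
      have hbU : b ∈ U := by
        have : b = u'⁻¹ := (inv_eq_of_mul_eq_one_right h0).symm
        rw [this]
        exact inv_mem hu'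
      exact ⟨hbU, fun h => ht1 ((mul_mem_cancel_left hbU).1 h)⟩
    · left
      have h1 := huni _ huq hyuq htt ht0 _ hub hyub hbb h0
      have h2 : b * t ∈ U := by
        have h3 : u' * (b * t) = 1 := by rw [← mul_assoc, ← h1, htt]
        have h4 : b * t = u'⁻¹ := (inv_eq_of_mul_eq_one_right h3).symm
        rw [h4]
        exact inv_mem hu'
      exact ⟨h2, fun h => ht1 ((mul_mem_cancel_left h).1 h2)⟩
  obtain ⟨k, hk1, hk2⟩ := exists_four hQ.two hs hss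
  set r := s ^ k with hrdef
  have hrQ : r ∈ Q := Q.pow_mem hs k
  have hyr : y * r = r * y := (Commute.pow_right (show Commute y s from hys) k).eq
  have hyrr : y * (r * r) = (r * r) * y := by
    have c1 : Commute y r := hyr
    exact (c1.mul_right c1).eq
  -- squares modulo `U`
  have hsq : ∀ x, x * x ∈ Q → ∃ g ∈ Q, (g * g)⁻¹ * (x * x) ∈ U := by
    intro x hxx
    by_cases hxQ : x ∈ Q
    · exact ⟨x, hxQ, by rw [inv_mul_cancel]; exact one_mem _⟩
    obtain ⟨n, hn, hx⟩ := hV.exists_adapt hxx hxQ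
    have hV' := hV.change hn
    obtain ⟨d, hd3, hd⟩ := hV'.exists_ord3 hQ.two md_bas md_cube
    have hdi := hd.inv md_cube
    have hx2 := hd.mul (hx.mul hdi)
    have hx3 := hd.mul (hx2.mul hdi)
    have hζ : x * (d * (x * d⁻¹)) * (d * (d * (x * d⁻¹) * d⁻¹)) ∈ Q := by
      rw [hV'.mem_iff ((hx.mul hx2).mul hx3)]
      decide
    have hε : x * (d * (x * d⁻¹)) * x⁻¹ * (d * (x * d⁻¹))⁻¹ ∈ Q := by
      have hxi := hx.inv (n := mR 0 1) (by decide)
      have hx2i := hx2.inv (n := mR 1 0) (by decide)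
      rw [hV'.mem_iff (((hx.mul hx2).mul hxi).mul hx2i)]
      decide
    have hcen : ∀ q ∈ Q, ∀ g : X ⧸ U, g * (q : X ⧸ U) = (q : X ⧸ U) * g := by
      intro q hq g
      obtain ⟨g, rfl⟩ := QuotientGroup.mk_surjective g
      have h1 : ((g * q * g⁻¹ * q⁻¹ : X) : X ⧸ U) = 1 := (QuotientGroup.eq_one_iff _).2 (hall g q hq)
      calc (g : X ⧸ U) * (q : X ⧸ U) = ((g * q * g⁻¹ * q⁻¹ : X) : X ⧸ U) * ((q * g : X) : X ⧸ U) := by
            rw [← QuotientGroup.mk_mul, ← QuotientGroup.mk_mul]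
            congr 1
            group
        _ = (q : X ⧸ U) * g := by rw [h1, one_mul, QuotientGroup.mk_mul]
    set x2 := d * (x * d⁻¹) with hx2def
    set x3 := d * (x2 * d⁻¹) with hx3def
    have hx3' : d * (d * (x * d⁻¹) * d⁻¹) = x3 := rfl
    set σ : X := x * x with hσdef
    have e2 : ((x2 * x2 : X) : X ⧸ U) = (σ : X ⧸ U) := by
      have h1 : x2 * x2 = d * σ * d⁻¹ := by rw [hx2def, hσdef]; group
      rw [h1, QuotientGroup.mk_mul, QuotientGroup.mk_mul, hcen σ hxx, mul_assoc,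
        QuotientGroup.mk_inv, mul_inv_cancel, mul_one]
    have e3 : ((x3 * x3 : X) : X ⧸ U) = (σ : X ⧸ U) := by
      have h1 : x3 * x3 = d * (x2 * x2) * d⁻¹ := by rw [hx3def]; group
      rw [h1, QuotientGroup.mk_mul, QuotientGroup.mk_mul, e2, hcen σ hxx, mul_assoc,
        QuotientGroup.mk_inv, mul_inv_cancel, mul_one]
    obtain ⟨f1, f2⟩ := cube (G := X ⧸ U) (x1 := (x : X ⧸ U)) (x2 := (x2 : X ⧸ U)) (x3 := (x3 : X ⧸ U))
      (σ := (σ : X ⧸ U)) (ζ := ((x * x2 * x3 : X) : X ⧸ U)) (ε := ((x * x2 * x⁻¹ * x2⁻¹ : X) : X ⧸ U))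
      rfl e2 e3 (hcen σ hxx) rfl (hcen _ hζ) rfl (hcen _ hε)
    -- `ε` is a square modulo `U`
    obtain ⟨g, hg, hg2⟩ : ∃ g ∈ Q, ((x * x2 * x⁻¹ * x2⁻¹ : X) : X ⧸ U) = ((g * g : X) : X ⧸ U) := by
      obtain ⟨u, hu, huq, hyuq⟩ := hlift _ hε
      have h1 : ((u * (x * x2 * x⁻¹ * x2⁻¹) : X) : X ⧸ U) = ((x * x2 * x⁻¹ * x2⁻¹ : X) : X ⧸ U) := by
        rw [QuotientGroup.mk_mul, (QuotientGroup.eq_one_iff u).2 hu, one_mul]
      rw [← h1] at f1 ⊢
      set t := u * (x * x2 * x⁻¹ * x2⁻¹) with ht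
      have htt : t * t = 1 := by
        have h2 : t * t ∈ U := (QuotientGroup.eq_one_iff _).1 f1
        have c1 : Commute y t := hyuq
        exact hcU _ h2 (c1.mul_right c1).eq
      by_cases h0 : t = 1
      · exact ⟨1, one_mem _, by rw [h0, one_mul]⟩
      · exact ⟨r, hrQ, by
          rw [huni t huq hyuq htt h0 (r * r) (Q.mul_mem hrQ hrQ) hyrr hk2 hk1]⟩
    set ζ : X := x * x2 * x3 with hζdef
    refine ⟨g * ζ * σ⁻¹, Q.mul_mem (Q.mul_mem hg hζ) (Q.inv_mem hxx), ?_⟩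
    rw [← QuotientGroup.eq]
    rw [hg2] at f2
    have c1 := hcen g hg
    have c2 := hcen ζ hζ
    have c3 := hcen σ hxx
    simp only [QuotientGroup.mk_mul, QuotientGroup.mk_inv] at f2 c1 c2 c3 ⊢
    generalize (g : X ⧸ U) = g' at *
    generalize (ζ : X ⧸ U) = z' at *
    generalize (σ : X ⧸ U) = s' at *
    calc g' * z' * s'⁻¹ * (g' * z' * s'⁻¹) = g' * (z' * g') * z' * s'⁻¹ * s'⁻¹ := by
          have c4 : s'⁻¹ * (g' * z') = (g' * z') * s'⁻¹ := by
            have : Commute s' (g' * z') := (c3 (g' * z')).symm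
            exact this.inv_left.eq
          calc g' * z' * s'⁻¹ * (g' * z' * s'⁻¹) = g' * z' * (s'⁻¹ * (g' * z')) * s'⁻¹ := by group
            _ = _ := by rw [c4]; group
      _ = g' * g' * (z' * z') * s'⁻¹ * s'⁻¹ := by rw [c1 z']; group
      _ = s' := by rw [← f2]; group
  -- the subgroup of index 2
  obtain ⟨N, hN, hUN, hNQ, hrel2, hNsq⟩ : ∃ N : Subgroup X, N.Normal ∧ U ≤ N ∧ N ≤ Q ∧
      N.relIndex Q = 2 ∧ ∀ q ∈ Q, q * q ∈ N := by
    have h2 : IsPGroup 2 (Q.map (QuotientGroup.mk' U)) := hQ.two.map _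
    have h3 : Nat.card (Q.map (QuotientGroup.mk' U)) ≠ 1 := by
      intro h3
      rw [card_eq_one] at h3
      apply hne
      refine le_antisymm hUQ fun q hq => ?_
      have h4 : (q : X ⧸ U) ∈ Q.map (QuotientGroup.mk' U) := ⟨q, hq, rfl⟩
      rw [h3, mem_bot] at h4
      exact (QuotientGroup.eq_one_iff _).1 h4
    obtain ⟨H, hH⟩ := exists_index_two h2 h3
    have hUN : U ≤ (H.map (Q.map (QuotientGroup.mk' U)).subtype).comap (QuotientGroup.mk' U) := by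
      intro u hu
      show (u : X ⧸ U) ∈ H.map (Q.map (QuotientGroup.mk' U)).subtype
      rw [(QuotientGroup.eq_one_iff u).2 hu]
      exact one_mem _
    have hNQ : (H.map (Q.map (QuotientGroup.mk' U)).subtype).comap (QuotientGroup.mk' U) ≤ Q := by
      intro q hq
      have h4 : (q : X ⧸ U) ∈ H.map (Q.map (QuotientGroup.mk' U)).subtype := hq
      obtain ⟨q', hq', h5⟩ := map_subtype_le H h4
      have h6 : q'⁻¹ * q ∈ U := QuotientGroup.eq.1 h5
      have h7 : q = q' * (q'⁻¹ * q) := by group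
      rw [h7]
      exact Q.mul_mem hq' (hUQ h6)
    refine ⟨(H.map (Q.map (QuotientGroup.mk' U)).subtype).comap (QuotientGroup.mk' U), ⟨?_⟩, hUN, hNQ,
      ?_, ?_⟩
    · intro n hn g
      have h1 : g * n * g⁻¹ = (g * n * g⁻¹ * n⁻¹) * n := by group
      rw [h1]
      exact mul_mem (hUN (hall g n (hNQ hn))) hn
    · rw [relIndex_comap]
      show (H.map (Q.map (QuotientGroup.mk' U)).subtype).relIndex (Q.map (QuotientGroup.mk' U)) = 2
      rw [relIndex, ← hH]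
      congr 1
      ext h
      constructor
      · rintro ⟨h', hh', he⟩
        have : h' = h := Subtype.ext he
        rw [← this]
        exact hh'
      · intro hh
        exact ⟨h, hh, rfl⟩
    · intro q hq
      refine ⟨⟨(q : X ⧸ U), ⟨q, hq, rfl⟩⟩ * ⟨(q : X ⧸ U), ⟨q, hq, rfl⟩⟩, ?_, rfl⟩
      exact Subgroup.mul_self_mem_of_index_two hH _
  obtain ⟨x, hxx, hxN⟩ := C2ThreeTr.exists_sq hQ hV hN hNQ hrel2 hy hyt
  apply hxN
  obtain ⟨g, hg, hg2⟩ := hsq x hxx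
  have h1 : x * x = (g * g) * ((g * g)⁻¹ * (x * x)) := by group
  rw [h1]
  exact mul_mem (hNsq g hg) (hUN hg2)

end Cfsg.Agent.GH.C2ThreeIdx
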