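import Mathlib
import Cfsg.Agent.GH.C2ThreeMinE
import Cfsg.Agent.GH.C2ThreeIdx

/-!
# GH-C2 (T3): reduction steps for statement TWO
-/

set_option autoImplicit false
set_option maxHeartbeats 800000

namespace Cfsg.Agent.GH.C2ThreeSub

open Subgroup Cfsg.Agent.TwoFusion.SectionalRank Cfsg.Agent.GH.C2Base Cfsg.Agent.GH.C2Five
open Cfsg.Agent.GH.C2ThreeNat Cfsg.Agent.GH.C2ThreeK0 Cfsg.Agent.GH.C2ThreeMin Cfsg.Agent.GH.C2ThreeMinE

variable {X : Type*} [Group X]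

/-- `L32` for a normal subgroup covering `X / Q`. -/
theorem L32.sub {Q K : Subgroup X} (hQ : L32 Q) (hK : K.Normal) (hKQ : ¬ K ≤ Q) :
    L32 (Q.subgroupOf K) := by
  have hQn := hQ.normal
  have hsup : Q ⊔ K = ⊤ := by
    rcases hQ.simple (Q ⊔ K) inferInstance le_sup_left with h | h
    · exact absurd (le_sup_right.trans h.le) hKQ
    · exact h
  refine ⟨inferInstance, hQ.two.comap_subtype, ?_, ?_⟩
  · have h1 : (Q.subgroupOf K).index = Q.relIndex K := rfl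
    rw [h1, ← relIndex_sup_left, hsup, relIndex_top_right, hQ.index]
  · intro N hN hle
    have hNK : N.map K.subtype ≤ K := map_subtype_le N
    have hmemN : ∀ {n : X} (hn : n ∈ K), n ∈ N.map K.subtype ↔ (⟨n, hn⟩ : K) ∈ N := by
      intro n hn
      constructor
      · rintro ⟨n', hn', he⟩
        have : n' = ⟨n, hn⟩ := Subtype.ext he
        rwa [← this]
      · intro h
        exact ⟨_, h, rfl⟩
    have hQK : ∀ n, n ∈ Q → n ∈ K → n ∈ N.map K.subtype := fun n hn hn' => by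
      rw [hmemN hn']
      apply hle
      exact hn
    have hNn : (N.map K.subtype).Normal := by
      refine ⟨fun n hn g => ?_⟩
      obtain ⟨q, hq, k, hk, rfl⟩ : ∃ q ∈ Q, ∃ k ∈ K, q * k = g := by
        have h1 : g ∈ Q ⊔ K := by rw [hsup]; exact mem_top g
        exact mem_sup_of_normal_left.1 h1
      have hnK := hNK hn
      have h1 : k * n * k⁻¹ ∈ N.map K.subtype := by
        have h2 : k * n * k⁻¹ ∈ K := K.mul_mem (K.mul_mem hk hnK) (K.inv_mem hk)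
        rw [hmemN h2]
        exact hN.conj_mem ⟨n, hnK⟩ ((hmemN hnK).1 hn) ⟨k, hk⟩
      set m := k * n * k⁻¹ with hm
      have h2 : q * k * n * (q * k)⁻¹ = (q * m * q⁻¹ * m⁻¹) * m := by rw [hm]; group
      rw [h2]
      refine mul_mem (hQK _ ?_ ?_) h1
      · have h3 : q * m * q⁻¹ * m⁻¹ = q * (m * q⁻¹ * m⁻¹) := by group
        rw [h3]
        exact Q.mul_mem hq (hQn.conj_mem _ (Q.inv_mem hq) m)
      · exact K.mul_mem (hK.conj_mem _ (hNK h1) q) (K.inv_mem (hNK h1))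
    rcases hQ.simple (Q ⊔ N.map K.subtype) inferInstance le_sup_left with h | h
    · left
      refine le_antisymm (fun n hn => ?_) hle
      have h1 : (n : X) ∈ Q := by
        rw [← h]
        exact le_sup_right (a := Q) ⟨n, hn, rfl⟩
      exact h1
    · right
      rw [eq_top_iff]
      rintro ⟨k, hk⟩ -
      obtain ⟨q, hq, n, hn, he⟩ : ∃ q ∈ Q, ∃ n ∈ N.map K.subtype, q * n = k := by
        have h1 : k ∈ Q ⊔ N.map K.subtype := by rw [h]; exact mem_top k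
        exact mem_sup_of_normal_left.1 h1
      rw [← hmemN hk, ← he]
      refine mul_mem (hQK q hq ?_) hn
      have h2 : q = k * n⁻¹ := by rw [← he]; group
      rw [h2]
      exact K.mul_mem hk (K.inv_mem (hNK hn))

/-- Reduction to a proper normal subgroup. -/
theorem of_sub [Finite X] {Q W K : Subgroup X} {y : X} (hQ : L32 Q) (hy : y ^ 7 = 1)
    (hW : Minc Q W y) (hK : K.Normal) (hyK : y ∈ K)
    (ih : ∀ W1 : Subgroup K, Minc (Q.subgroupOf K) W1 ⟨y, hyK⟩ →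
      ∀ q ∈ Q.subgroupOf K, (⟨y, hyK⟩ : K) * q * (⟨y, hyK⟩ : K)⁻¹ * q⁻¹ ∈ W1) :
    ∀ q ∈ Q, y * q * y⁻¹ * q⁻¹ ∈ W := by
  have hQn := hQ.normal
  have hWn := hW.normal
  have hcK : ∀ q, y * q * y⁻¹ * q⁻¹ ∈ K := by
    intro q
    have h1 : y * q * y⁻¹ * q⁻¹ = y * (q * y⁻¹ * q⁻¹) := by group
    rw [h1]
    exact K.mul_mem hyK (hK.conj_mem _ (K.inv_mem hyK) q)
  have hcQ : ∀ q ∈ Q, y * q * y⁻¹ * q⁻¹ ∈ Q := fun q hq =>
    Q.mul_mem (hQn.conj_mem q hq y) (Q.inv_mem hq)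
  have hcW : ∀ q ∈ W, y * q * y⁻¹ * q⁻¹ ∈ W := fun q hq =>
    W.mul_mem (hWn.conj_mem q hq y) (W.inv_mem hq)
  obtain ⟨W1, hW1, hW1le⟩ := exists_minc (Q := Q.subgroupOf K) (U := W.subgroupOf K) (y := ⟨y, hyK⟩)
    inferInstance (fun v hv => hW.le hv) (by
      by_contra hcon
      push Not at hcon
      obtain ⟨v, hv, hne⟩ := hW.ne
      apply hne
      refine comm_of_comm hQ.two hy (hcQ v (hW.le hv)) ?_
      have h1 := hcon ⟨y * v * y⁻¹ * v⁻¹, hcK v⟩ (hcW v hv)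
      exact congrArg Subtype.val h1)
  intro q hq
  refine mem_of_comm_mem hQ.two hy (hcQ q hq) ?_
  have h1 := ih W1 hW1 ⟨y * q * y⁻¹ * q⁻¹, hcK q⟩ (hcQ q hq)
  exact hW1le h1

/-- Reduction to a quotient. -/
theorem of_quot [Finite X] {Q W N : Subgroup X} [hN : N.Normal] {y : X} (hQ : L32 Q)
    (hy : y ^ 7 = 1) (hW : Minc Q W y) (hNy : ∀ n ∈ N, y * n = n * y)
    (ih : ∀ W1 : Subgroup (X ⧸ N), Minc (Q.map (QuotientGroup.mk' N)) W1 (y : X ⧸ N) →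
      ∀ q ∈ Q.map (QuotientGroup.mk' N), (y : X ⧸ N) * q * (y : X ⧸ N)⁻¹ * q⁻¹ ∈ W1) :
    ∀ q ∈ Q, y * q * y⁻¹ * q⁻¹ ∈ W := by
  have hQn := hQ.normal
  have hWn := hW.normal
  have hs := QuotientGroup.mk'_surjective N
  have hcQ : ∀ q ∈ Q, y * q * y⁻¹ * q⁻¹ ∈ Q := fun q hq =>
    Q.mul_mem (hQn.conj_mem q hq y) (Q.inv_mem hq)
  obtain ⟨W1, hW1, hW1le⟩ := exists_minc (Q := Q.map (QuotientGroup.mk' N))
    (U := W.map (QuotientGroup.mk' N)) (y := (y : X ⧸ N)) (hWn.map _ hs) (map_mono hW.le) (by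
      by_contra hcon
      push Not at hcon
      obtain ⟨v, hv, hne⟩ := hW.ne
      apply hne
      refine comm_of_comm hQ.two hy (hcQ v (hW.le hv)) (hNy _ ?_)
      have h1 := hcon (v : X ⧸ N) ⟨v, hv, rfl⟩
      rw [← QuotientGroup.eq_one_iff]
      show (y : X ⧸ N) * v * (y : X ⧸ N)⁻¹ * (v : X ⧸ N)⁻¹ = 1
      rw [h1]
      group)
  intro q hq
  refine mem_of_comm_mem hQ.two hy (hcQ q hq) ?_
  have h1 := hW1le (ih W1 hW1 (q : X ⧸ N) ⟨q, hq, rfl⟩)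
  obtain ⟨v, hv, hv2⟩ := h1
  have h2 : v⁻¹ * (y * q * y⁻¹ * q⁻¹) ∈ N := QuotientGroup.eq.1 hv2
  set n := v⁻¹ * (y * q * y⁻¹ * q⁻¹) with hn
  have h3 : y * q * y⁻¹ * q⁻¹ = v * n := by rw [hn]; group
  rw [h3]
  have h4 : y * (v * n) * y⁻¹ * (v * n)⁻¹ = y * v * y⁻¹ * v⁻¹ := by
    have h5 : n * y⁻¹ = y⁻¹ * n := (show Commute n y from (hNy n h2).symm).inv_right.eq
    calc y * (v * n) * y⁻¹ * (v * n)⁻¹ = y * v * (n * y⁻¹) * n⁻¹ * v⁻¹ := by group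
      _ = y * v * y⁻¹ * v⁻¹ := by rw [h5]; group
  rw [h4]
  exact W.mul_mem (hWn.conj_mem v hv y) (W.inv_mem hv)

end Cfsg.Agent.GH.C2ThreeSub
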