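import Mathlib
import Cfsg.Agent.GH.C2ThreeOne
import Cfsg.Agent.GH.C2ThreeB
import Cfsg.Agent.GH.C2ThreeII
import Cfsg.Agent.GH.C2ThreeFour
import Cfsg.Agent.GH.C2ThreeSub

/-!
# GH-C2 (T3): `y` acts trivially on `Q / W` (statement TWO)
-/

set_option autoImplicit false
set_option maxHeartbeats 800000

namespace Cfsg.Agent.GH.C2ThreeTwo

open Subgroup Cfsg.Agent.TwoFusion.SectionalRank Cfsg.Agent.GH.C2Base Cfsg.Agent.GH.C2Five
open Cfsg.Agent.GH.C2ThreeNat Cfsg.Agent.GH.C2ThreeK0 Cfsg.Agent.GH.C2ThreeMin Cfsg.Agent.GH.C2ThreeMinE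
open Cfsg.Agent.GH.C2ThreeSq Cfsg.Agent.GH.C2ThreeAl

variable {X : Type*} [Group X]

theorem card_quot_lt [Finite X] {N : Subgroup X} [N.Normal] (h : N ≠ ⊥) :
    Nat.card (X ⧸ N) < Nat.card X := by
  have h1 : N.index * Nat.card N = Nat.card X := N.index_mul_card
  have h2 : Nat.card (X ⧸ N) = N.index := rfl
  rw [h2, ← h1]
  have h3 : 1 < Nat.card N := (one_lt_card_iff_ne_bot N).2 h
  have h4 : 0 < N.index := Nat.pos_of_ne_zero FiniteIndex.index_ne_zero
  nlinarith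

/-- The case of a natural module at the bottom. -/
theorem main8 [Finite X] (hr : R4 X) {Q V : Subgroup X} [hVn : V.Normal] {y : X} (hQ : L32 Q)
    (hy : y ^ 7 = 1) (hyt : normalClosure ({y} : Set X) = ⊤)
    (hcen : ∀ N : Subgroup X, N.Normal → N ≤ Q → (∀ n ∈ N, y * n = n * y) → N = ⊥)
    (hyV : ∃ v ∈ V, y * v ≠ v * y)
    {w : T3 → X} (hV : NatMod Q V w) (hc1 : ∀ v ∈ V, y * v = v * y → v = 1)
    {Ub : Subgroup (X ⧸ V)} (hU : Minc (Q.map (QuotientGroup.mk' V)) Ub (y : X ⧸ V))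
    (hone : ∀ q ∈ Q.map (QuotientGroup.mk' V), (y : X ⧸ V) * q * (y : X ⧸ V)⁻¹ * q⁻¹ ∈ Ub) : False := by
  have hQn := hQ.normal
  have hs := QuotientGroup.mk'_surjective V
  have hrV := r4_quotient hr V
  have hQV := C2ThreeK0.L32.map hQ V hV.le
  have hyb : (y : X ⧸ V) ^ 7 = 1 := by rw [← QuotientGroup.mk_pow, hy]; rfl
  have hUsq := minc_sq hrV hQV hyb hU
  have hyQ : y ∉ Q := by
    intro h
    obtain ⟨v, hv, hne⟩ := hyV
    exact hne ((hV.cent y).2 h v hv)
  rcases shape hrV hQV hyb hU hUsq with ⟨h8, hfix⟩ | ⟨h16, -⟩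
  · -- `Ū` natural
    obtain ⟨w2, hw2⟩ := exists_coord hUsq h8
    have hU2 : NatMod (Q.map (QuotientGroup.mk' V)) Ub w2 :=
      natMod_of hQV hU.normal hU.le hw2 hyb hU.ne
    set U : Subgroup X := Ub.comap (QuotientGroup.mk' V) with hUdef
    have hUn : U.Normal := hU.normal.comap _
    have hmap : U.map (QuotientGroup.mk' V) = Ub := map_comap_eq_self_of_surjective hs Ub
    have hVU : V ≤ U := by
      intro v hv
      show (v : X ⧸ V) ∈ Ub
      rw [(QuotientGroup.eq_one_iff v).2 hv]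
      exact one_mem _
    have hUQ : U ≤ Q := by
      intro u hu
      obtain ⟨q, hq, h1⟩ := hU.le (show (u : X ⧸ V) ∈ Ub from hu)
      have h2 : q⁻¹ * u ∈ V := QuotientGroup.eq.1 h1
      have h3 : u = q * (q⁻¹ * u) := by group
      rw [h3]
      exact Q.mul_mem hq (hV.le h2)
    have hUV : ∀ u ∈ U, u * u ∈ V := fun u hu =>
      (QuotientGroup.eq_one_iff _).1 (hUsq (u : X ⧸ V) hu)
    have hcardU : Nat.card U = 64 := by
      have h1 := relIndex_ker (K := U) (QuotientGroup.mk' V)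
      rw [QuotientGroup.ker_mk', hmap, h8] at h1
      have h2 := relIndex_mul_relIndex ⊥ V U bot_le hVU
      rw [relIndex_bot_left, relIndex_bot_left, h1, hV.coord.card] at h2
      omega
    have hnesq : ∃ u ∈ U, u * u ≠ 1 := by
      by_contra hcon
      push Not at hcon
      have := hr U ⊥ (elem_bot fun v hv => by rw [pow_two]; exact hcon v hv)
      rw [hcardU] at this
      simp at this
    rw [← hmap] at hU2
    obtain ⟨hab, w3, hU3, hsq3⟩ := sq_lemma hV le_rfl hVU (fun z hz => hV.coord.sq_mem hz)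
      (fun z hz u hu => ((hV.cent u).2 (hUQ hu) z hz).symm) hUV hU2 hy hyV (by
        rw [hmap]
        exact hU.ne) hnesq
    have hAl : Al Q V U V w w3 := ⟨hV, hU3, hVU, hsq3⟩
    have hcU : ∀ u ∈ U, y * u = u * y → u = 1 := by
      intro u hu hyu
      apply hc1 u _ hyu
      rw [← QuotientGroup.eq_one_iff]
      apply hfix _ hu
      show ((y * u : X) : X ⧸ V) = ((u * y : X) : X ⧸ V)
      rw [hyu]
    have hyU : ∀ q ∈ Q, y * q * y⁻¹ * q⁻¹ ∈ U := fun q hq => hone (q : X ⧸ V) ⟨q, hq, rfl⟩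
    by_cases hne : U = Q
    · rw [hne] at hAl hab
      exact C2ThreeFour.caseA hr hQ.two hAl hab
    · have hrel := C2ThreeIdx.idx hr hQ hV hUn hVU hUQ hy hyt hcU hyU hne
      exact C2ThreeB.caseB hQ hAl hUn hab hUQ hrel hy hyQ hcen
        (C2ThreeTr.exists_sq hQ hV hUn hUQ hrel hy hyt)
  · -- `Ū` of order 16
    have h1 : Q.map (QuotientGroup.mk' V) = Ub := by
      rcases C2ThreeOne.one hrV hQV hyb hU hone with h | ⟨h, -⟩ | ⟨h, -⟩
      · exact h
      · omega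
      · omega
    rw [← h1] at hU h16
    exact C2ThreeII.caseII hr hQ hV hy hyQ hcen hU h16

/-- Statement TWO, induction on the order. -/
theorem two_aux (n : ℕ) : ∀ (X : Type*) [Group X] [Finite X], Nat.card X = n → R4 X →
    ∀ (Q W : Subgroup X) (y : X), L32 Q → y ^ 7 = 1 → Minc Q W y →
    ∀ q ∈ Q, y * q * y⁻¹ * q⁻¹ ∈ W := by
  induction n using Nat.strong_induction_on with
  | _ n ih =>
  intro X _ _ hn hr Q W y hQ hy hW
  have hQn := hQ.normal
  have hWn := hW.normal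
  have hWsq := minc_sq hr hQ hy hW
  have hyQ : y ∉ Q := by
    intro h
    obtain ⟨v, hv, hne⟩ := hW.ne
    apply hne
    -- `y` is a 2-element of order dividing 7
    obtain ⟨k, hk⟩ := hQ.two ⟨y, h⟩
    have hk' : y ^ 2 ^ k = 1 := by simpa using congrArg Subtype.val hk
    have h5 : orderOf y ∣ 7 := orderOf_dvd_of_pow_eq_one hy
    have h6 : orderOf y ∣ 2 ^ k := orderOf_dvd_of_pow_eq_one hk'
    have h7 : Nat.Coprime 7 (2 ^ k) := Nat.Coprime.pow_right k (by norm_num)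
    have h8 := Nat.Coprime.eq_one_of_dvd (Nat.Coprime.coprime_dvd_left h5 h7) h6
    rw [orderOf_eq_one_iff.1 h8]
    simp
  -- (1) reduction to the normal closure of `y`
  by_cases hyt : normalClosure ({y} : Set X) = ⊤
  swap
  · have hyK : y ∈ normalClosure ({y} : Set X) := subset_normalClosure rfl
    have hK : (normalClosure ({y} : Set X)).Normal := inferInstance
    have hlt : Nat.card (normalClosure ({y} : Set X)) < n := by
      rw [← hn]
      exact lt_of_le_of_ne (card_le_card_group _) (fun h => hyt (eq_top_of_card_eq _ h))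
    refine C2ThreeSub.of_sub hQ hy hW hK hyK fun W1 hW1 => ?_
    refine ih _ hlt _ rfl (r4_subgroup hr _) _ W1 _
      (C2ThreeSub.L32.sub hQ hK fun h => hyQ (h hyK)) ?_ hW1
    exact Subtype.ext hy
  -- (2) no normal subgroup commuting with `y`
  by_cases hcen : ∀ N : Subgroup X, N.Normal → N ≤ Q → (∀ n ∈ N, y * n = n * y) → N = ⊥
  swap
  · push Not at hcen
    obtain ⟨N, hN, hNQ, hNy, hNne⟩ := hcen
    refine C2ThreeSub.of_quot hQ hy hW hNy fun W1 hW1 => ?_
    refine ih _ ?_ _ rfl (r4_quotient hr N) _ W1 _ (C2ThreeK0.L32.map hQ N hNQ) ?_ hW1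
    · rw [← hn]
      exact card_quot_lt hNne
    · rw [← QuotientGroup.mk_pow, hy]
      rfl
  -- (3) the shape of `W`
  rcases shape hr hQ hy hW hWsq with ⟨h8, hc1⟩ | ⟨-, c, hcW, hc1, hcx, -⟩
  swap
  · exfalso
    have h1 : (zpowers c).Normal := by
      refine ⟨fun z hz g => ?_⟩
      obtain ⟨k, rfl⟩ := mem_zpowers_iff.1 hz
      have h2 : g * c ^ k * g⁻¹ = c ^ k := by
        have h3 : Commute g (c ^ k) := (show Commute g c from hcx g).zpow_right k
        rw [h3.eq]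
        group
      rw [h2]
      exact hz
    have h2 := hcen _ h1 ((zpowers_le).2 (hW.le hcW)) (fun z hz => by
      obtain ⟨k, rfl⟩ := mem_zpowers_iff.1 hz
      exact ((show Commute y c from hcx y).zpow_right k).eq)
    exact hc1 (zpowers_eq_bot.1 h2)
  obtain ⟨w, hw⟩ := exists_coord hWsq h8
  have hV : NatMod Q W w := natMod_of hQ hWn hW.le hw hy hW.ne
  by_contra hcon
  push Not at hcon
  obtain ⟨q0, hq0, hq0W⟩ := hcon
  have hs := QuotientGroup.mk'_surjective W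
  have hQW := C2ThreeK0.L32.map hQ W hW.le
  have hyb : (y : X ⧸ W) ^ 7 = 1 := by rw [← QuotientGroup.mk_pow, hy]; rfl
  obtain ⟨Ub, hUb, -⟩ := exists_minc (Q := Q.map (QuotientGroup.mk' W))
    (U := Q.map (QuotientGroup.mk' W)) (y := (y : X ⧸ W)) (hQn.map _ hs) le_rfl (by
      refine ⟨(q0 : X ⧸ W), ⟨q0, hq0, rfl⟩, fun h => hq0W ?_⟩
      rw [← QuotientGroup.eq_one_iff]
      show (y : X ⧸ W) * q0 * (y : X ⧸ W)⁻¹ * (q0 : X ⧸ W)⁻¹ = 1
      rw [h]
      group)
  have hWne : W ≠ ⊥ := by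
    rintro rfl
    rw [card_bot] at h8
    omega
  have hone := ih _ (by rw [← hn]; exact card_quot_lt hWne) _ rfl (r4_quotient hr W) _ Ub _ hQW hyb hUb
  exact main8 hr hQ hy hyt hcen hW.ne hV hc1 hUb hone

/-- Statement TWO. -/
theorem two {X : Type*} [Group X] [Finite X] (hr : R4 X) {Q W : Subgroup X} {y : X} (hQ : L32 Q)
    (hy : y ^ 7 = 1) (hW : Minc Q W y) : ∀ q ∈ Q, y * q * y⁻¹ * q⁻¹ ∈ W :=
  two_aux _ X rfl hr Q W y hQ hy hW

/-- The structure of `Q` (T3). -/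
theorem structure_main {X : Type*} [Group X] [Finite X] (hr : R4 X) {Q W : Subgroup X} {y : X}
    (hQ : L32 Q) (hy : y ^ 7 = 1) (hW : Minc Q W y) :
    Q = W ∨
    (Nat.card W = 8 ∧ ∃ z0 ∈ Q, z0 ∉ W ∧ z0 * z0 = 1 ∧ (∀ x, x * z0 = z0 * x) ∧
      ∀ u : X, u * u = 1 → u ∈ W ∨ u * z0 ∈ W) ∨
    (Nat.card W = 8 ∧ Nat.card Q = 16 ∧ (∀ q ∈ Q, q * q = 1) ∧
      ∀ a ∈ Q, a ∉ W → ∀ b ∈ Q, b ∉ W → ∃ x, x * a * x⁻¹ = b) :=
  C2ThreeOne.one hr hQ hy hW (two hr hQ hy hW)

end Cfsg.Agent.GH.C2ThreeTwo
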