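import Cfsg.Agent.GH.C2SevenMain
import Cfsg.Agent.GH.C2ThreeTwo

/-!
# GH-C2, the `L₃(2)` side
-/

set_option autoImplicit false

universe u

namespace Cfsg.Agent.GH.C2SevenFin

open Subgroup Cfsg Cfsg.Agent.ZN Cfsg.Agent.GH.C2Frame

/-- (T3), statement TWO. -/
theorem t3 : C2SevenMain.T3.{u} := fun _ _ _ _ _ _ hr hQ _ hy hW => C2ThreeTwo.two hr hQ hy hW

theorem main {G : Type u} [Group G] [Finite G] {M T : Subgroup G} (hG : Defs.Hyp G)
    (hc2 : IsCharacteristicTwoType G) (h : MaxLocal M T) (h5 : ¬ 5 ∣ Nat.card M) :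
    Defs.GType G ∨ C2Extra.Extra32 G :=
  C2SevenMain.main_of_T3 t3 hG hc2 h h5

end Cfsg.Agent.GH.C2SevenFin
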