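import Cfsg.Agent.GH.C2Big
import Cfsg.Agent.GH.C2SevenFin
import Cfsg.Agent.GH.C2FiveMain

/-!
# GH: the branch GH-C2, modulo the recognition theorems of S1759

A maximal nonsolvable 2-local `M` (`C2Frame.exists_maxLocal`), `5 ∣ |M|` (`C2FiveMain.main`) or not
(`C2SevenFin.main`).
-/

set_option autoImplicit false

open Cfsg Subgroup
open Cfsg.Agent.GH.Defs

namespace Cfsg.Agent.GH.C2BranchOf

universe u

/-- **The branch GH-C2**, given the recognition theorems for simple groups. -/
theorem branchC2_of (recogS : ∀ {G : Type u} [Group G] [Finite G] [IsSimpleGroup G]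
    (_ : ¬ IsMulCommutative G), C2Big.RecogS G) : Branches.BranchC2.{u} := by
  intro G _ _ h hc hns
  have := h.simple
  unfold Branches.LocSolv at hns
  push Not at hns
  obtain ⟨N, hN, hNs⟩ := hns
  obtain ⟨M, T, hM⟩ := C2Frame.exists_maxLocal hc hN hNs
  have h1 : GType G ∨ C2Extra.Extra32 G := by
    by_cases h5 : 5 ∣ Nat.card M
    · exact C2FiveMain.main h hc hM h5
    · exact C2SevenFin.main h hc hM h5
  rcases h1 with h1 | h1
  · exact Or.inl h1
  · exact Or.inr (C2Big.k4big_of_extra32 h (recogS h.nonComm) h1)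

end Cfsg.Agent.GH.C2BranchOf
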