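import Cfsg.Agent.GH.Defs
import Cfsg.Agent.GH.C2Extra
import Cfsg.Agent.LargeExtra.W2.Simple
import Cfsg.Agent.S0822

/-!
# GH-C2: the output `Extra32 G` gives `K4 G` by S1759
-/

set_option autoImplicit false

namespace Cfsg.Agent.GH.C2ExtraK4

open Subgroup Cfsg Cfsg.Agent.GH.Defs
open Cfsg.Agent.GH.C2Extra (Extra32)
open Cfsg.Agent.LargeExtra.W2.Simple (Concl Recog)

variable {G : Type*} [Group G] [Finite G]

omit [Finite G] in
theorem k4_of_concl (h : Concl G) : K4 G := by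
  rcases h with ⟨F, i, j, hF, h | h⟩ | ⟨F, i, j, hF, ⟨e⟩⟩ | ⟨F, i, j, hF, h | ⟨⟨e⟩⟩⟩ | h | h | h | h | h
  · exact Or.inl (Or.inr (Or.inr (Or.inl ⟨F, i, j, 3, by rw [hF]; norm_num, by decide, h⟩)))
  · exact Or.inr (Or.inr (Or.inr (Or.inr (Or.inr (Or.inr (Or.inr (Or.inl
      ⟨F, i, j, 3, by rw [hF]; norm_num, by decide, by decide, h⟩)))))))
  · obtain ⟨e'⟩ := S0822.result (F := F) (K := ZMod 3) hF (ZMod.card 3)
    exact Or.inr (Or.inr (Or.inr (Or.inr (Or.inr (Or.inl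
      ⟨ZMod 3, inferInstance, inferInstance, by rw [ZMod.card]; decide, ⟨e.trans e'⟩⟩)))))
  · exact Or.inr (Or.inr (Or.inr (Or.inr (Or.inr (Or.inr (Or.inl
      ⟨F, i, j, by rw [hF]; decide, by rw [hF]; decide, h⟩))))))
  · have hodd : Odd (Fintype.card F) := by rw [hF]; decide
    refine Or.inr (Or.inr (Or.inr (Or.inr (Or.inr (Or.inr (Or.inr (Or.inr (Or.inr (Or.inr (Or.inl
      ⟨⟨F, i, j, hodd, ⟨e⟩⟩, ?_⟩))))))))))
    intro S
    obtain ⟨T, ⟨f⟩⟩ := sylow_congr e.symm S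
    exact ⟨F, i, j, hodd, T, ⟨f.symm⟩⟩
  · exact Or.inr (Or.inr (Or.inr (Or.inr (Or.inl ⟨8, le_rfl, by norm_num, h⟩))))
  · exact Or.inr (Or.inr (Or.inr (Or.inr (Or.inl ⟨9, by norm_num, by norm_num, h⟩))))
  · exact Or.inr (Or.inr (Or.inr (Or.inr (Or.inr (Or.inr (Or.inr (Or.inr (Or.inr (Or.inr (Or.inr
      (Or.inr (Or.inl h))))))))))))
  · exact Or.inr (Or.inr (Or.inr (Or.inr (Or.inr (Or.inr (Or.inr (Or.inr (Or.inr (Or.inr (Or.inr
      (Or.inr (Or.inr (Or.inr (Or.inr (Or.inl h)))))))))))))))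
  · exact Or.inr (Or.inr (Or.inr (Or.inr (Or.inr (Or.inr (Or.inr (Or.inr (Or.inr (Or.inr (Or.inr
      (Or.inr (Or.inr (Or.inr (Or.inr (Or.inr (Or.inl h))))))))))))))))

/-- The statement S1759 for the simple group `G`. -/
def St1759 (G : Type*) [Group G] : Prop :=
  ∀ z : G, orderOf z = 2 →
    IsExtraspecial 2 ↥(generalizedFittingSubgroup ↥(Subgroup.centralizer ({z} : Set G))) →
    Nat.card ↥(generalizedFittingSubgroup ↥(Subgroup.centralizer ({z} : Set G))) = 32 → Concl G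

theorem st1759 (h : Hyp G) (R : Recog G) : St1759 G := by
  intro z hz hE h32
  have := h.simple
  exact LargeExtra.W2.Simple.main h.nonComm z hz hE h32 R

omit [Finite G] in
theorem k4_of_extra32 (hS : St1759 G) (h : Extra32 G) : K4 G := by
  obtain ⟨z, hz, -, hE, h32⟩ := h
  exact k4_of_concl (hS z hz hE h32)

end Cfsg.Agent.GH.C2ExtraK4
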