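import Mathlib

/-!
# GH-C2, T2: two quadratic forms on a group of order 16 with a fixed point free element of order 5

If a perfect group acts on an elementary abelian group `M` of order 16, an element of order 5 acting fixed
point freely, then it does not leave invariant two different nonzero quadratic forms.
-/

set_option autoImplicit false
set_option maxHeartbeats 1600000

namespace Cfsg.Agent.GH.C2TwoForms

open Subgroup

/-- coordinates -/
abbrev V4 := ZMod 2 × ZMod 2 × ZMod 2 × ZMod 2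

/-- the quadratic form with values `β + γ` on `vᵢ`, polar form `β` on `(vᵢ, vᵢ₊₁)` and `γ` on `(vᵢ, vᵢ₊₂)` -/
def F (β γ : ZMod 2) (s : V4) : ZMod 2 :=
  (β + γ) * (s.1 + s.2.1 + s.2.2.1 + s.2.2.2) + β * (s.1 * s.2.1 + s.2.1 * s.2.2.1 + s.2.2.1 * s.2.2.2) +
    γ * (s.1 * s.2.2.1 + s.2.1 * s.2.2.2 + s.1 * s.2.2.2)

def e0 : V4 := (1, 0, 0, 0)
def e1 : V4 := (0, 1, 0, 0)
def e2 : V4 := (0, 0, 1, 0)
def e3 : V4 := (0, 0, 0, 1)

/-- both forms nonzero and different. -/
def Good (β γ β' γ' : ZMod 2) : Prop := (β, γ) ≠ 0 ∧ (β', γ') ≠ 0 ∧ (β, γ) ≠ (β', γ')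

instance (β γ β' γ' : ZMod 2) : Decidable (Good β γ β' γ') := by unfold Good; infer_instance

/-- the conditions on a pair of vectors -/
def Pr (β γ β' γ' : ZMod 2) (s s' : V4) : Prop :=
  F β γ s = β + γ ∧ F β' γ' s = β' + γ' ∧ F β γ s' = β + γ ∧ F β' γ' s' = β' + γ' ∧
  F β γ (s + s') = β ∧ F β' γ' (s + s') = β'

instance (β γ β' γ' : ZMod 2) (s s' : V4) : Decidable (Pr β γ β' γ' s s') := by
  unfold Pr; infer_instance

theorem card_pr : ∀ β γ β' γ' : ZMod 2, Good β γ β' γ' →
    (Finset.univ.filter fun p : V4 × V4 => Pr β γ β' γ' p.1 p.2).card ≤ 10 := by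
  decide +kernel

theorem uniq2 : ∀ β γ β' γ' : ZMod 2, Good β γ β' γ' → ∀ s : V4, F β γ s = β + γ → F β' γ' s = β' + γ' →
    F β γ (s + e1) = β → F β' γ' (s + e1) = β' → F β γ (s + e0) = γ → F β' γ' (s + e0) = γ' →
    s = e2 := by
  decide +kernel

theorem uniq3 : ∀ β γ β' γ' : ZMod 2, Good β γ β' γ' → ∀ s : V4, F β γ s = β + γ → F β' γ' s = β' + γ' →
    F β γ (s + e2) = β → F β' γ' (s + e2) = β' → F β γ (s + e0) = γ → F β' γ' (s + e0) = γ' →
    s = e3 := by
  decide +kernel

section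

variable {M : Type*} [CommGroup M] [Finite M] (h2 : ∀ m : M, m * m = 1)

include h2 in
omit [Finite M] in
theorem pw (v : M) (a b : ZMod 2) : v ^ (a + b).val = v ^ a.val * v ^ b.val := by
  have e00 : ((0 : ZMod 2) + 0).val = 0 := rfl
  have e01 : ((0 : ZMod 2) + 1).val = 1 := rfl
  have e10 : ((1 : ZMod 2) + 0).val = 1 := rfl
  have e11 : ((1 : ZMod 2) + 1).val = 0 := rfl
  have z0 : (0 : ZMod 2).val = 0 := rfl
  have z1 : (1 : ZMod 2).val = 1 := rfl
  have ha : ∀ a : ZMod 2, a = 0 ∨ a = 1 := by decide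
  rcases ha a with rfl | rfl <;> rcases ha b with rfl | rfl
  · rw [e00, z0, pow_zero, mul_one]
  · rw [e01, z0, z1, pow_zero, one_mul]
  · rw [e10, z0, z1, pow_zero, mul_one]
  · rw [e11, z1, pow_zero, pow_one, h2]

/-- the parametrisation -/
def E (v0 v1 v2 v3 : M) (s : V4) : M := v0 ^ s.1.val * v1 ^ s.2.1.val * v2 ^ s.2.2.1.val * v3 ^ s.2.2.2.val

include h2 in
omit [Finite M] in
theorem E_add (v0 v1 v2 v3 : M) (s t : V4) :
    E v0 v1 v2 v3 (s + t) = E v0 v1 v2 v3 s * E v0 v1 v2 v3 t := by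
  unfold E
  rw [Prod.fst_add, Prod.snd_add, Prod.fst_add, Prod.snd_add, Prod.fst_add, Prod.snd_add, pw h2, pw h2,
    pw h2, pw h2]
  ac_rfl

/-- an invariant subgroup has order congruent to 1 modulo 5 -/
theorem card_mod {X : MulAut M} (hX : X ^ 5 = 1) (hfix : ∀ m, X m = m → m = 1) (H : Subgroup M)
    (hH : ∀ m ∈ H, X m ∈ H) : Nat.card H ≡ 1 [MOD 5] := by
  classical
  have := Fintype.ofFinite H
  have h5 : Fact (Nat.Prime 5) := ⟨Nat.prime_five⟩
  let g : Function.End H := fun m => ⟨X m, hH m m.2⟩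
  have hg : ∀ n : ℕ, ∀ m : H, (((g ^ n) m : H) : M) = (X ^ n) m := by
    intro n
    induction n with
    | zero => intro m; rfl
    | succ n ih =>
      intro m
      rw [pow_succ', pow_succ']
      show X ((g ^ n) m : H) = X ((X ^ n) m)
      rw [ih]
  have hgp : g ^ 5 ^ 1 = 1 := by
    funext m
    apply Subtype.ext
    rw [pow_one, hg, hX]
    rfl
  have h1 := Equiv.Perm.card_fixedPoints_modEq hgp
  have h3 : Fintype.card g.fixedPoints = 1 := by
    rw [Fintype.card_eq_one_iff]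
    refine ⟨⟨1, ?_⟩, ?_⟩
    · apply Subtype.ext
      show X 1 = 1
      exact map_one X
    · rintro ⟨m, hm⟩
      apply Subtype.ext
      apply Subtype.ext
      exact hfix m (congrArg Subtype.val hm)
  rw [h3] at h1
  rwa [Nat.card_eq_fintype_card]

/-- the setting -/
structure Ctx (X : MulAut M) (v0 v1 v2 v3 : M) : Prop where
  x0 : X v0 = v1
  x1 : X v1 = v2
  x2 : X v2 = v3
  x3 : X v3 = v0 * v1 * v2 * v3
  surj : Function.Surjective (E v0 v1 v2 v3)

include h2 in
theorem exists_ctx (hM : Nat.card M = 16) {X : MulAut M} (hX : X ^ 5 = 1)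
    (hfix : ∀ m, X m = m → m = 1) : ∃ v0 v1 v2 v3 : M, Ctx X v0 v1 v2 v3 := by
  have hnt : Nontrivial M := by
    rw [← Finite.one_lt_card_iff_nontrivial, hM]; norm_num
  obtain ⟨v0, hv0⟩ := exists_ne (1 : M)
  set v1 := X v0 with h1
  set v2 := X v1 with h2'
  set v3 := X v2 with h3
  have hx5 : X (X v3) = v0 := by
    have : (X ^ 5) v0 = v0 := by rw [hX]; rfl
    exact this
  have hP : v0 * v1 * v2 * v3 * X v3 = 1 := by
    apply hfix
    rw [map_mul, map_mul, map_mul, map_mul, hx5, ← h1, ← h2', ← h3]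
    ac_rfl
  have h4 : X v3 = v0 * v1 * v2 * v3 := by
    have h5 := h2 (X v3)
    calc X v3 = (v0 * v1 * v2 * v3 * X v3) * X v3 := by rw [hP, one_mul]
      _ = v0 * v1 * v2 * v3 * (X v3 * X v3) := by rw [mul_assoc]
      _ = _ := by rw [h5, mul_one]
  let H : Subgroup M :=
    { carrier := Set.range (E v0 v1 v2 v3)
      one_mem' := ⟨0, by simp [E]⟩
      mul_mem' := by
        rintro _ _ ⟨s, rfl⟩ ⟨t, rfl⟩
        exact ⟨s + t, E_add h2 _ _ _ _ s t⟩
      inv_mem' := by
        rintro _ ⟨s, rfl⟩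
        exact ⟨s, (inv_eq_of_mul_eq_one_left (h2 _)).symm⟩ }
  have hH : ∀ s, E v0 v1 v2 v3 s ∈ H := fun s => ⟨s, rfl⟩
  have m0 : v0 ∈ H := ⟨e0, by simp [E, e0, ZMod.val_one]⟩
  have m1 : v1 ∈ H := ⟨e1, by simp [E, e1, ZMod.val_one]⟩
  have m2 : v2 ∈ H := ⟨e2, by simp [E, e2, ZMod.val_one]⟩
  have m3 : v3 ∈ H := ⟨e3, by simp [E, e3, ZMod.val_one]⟩
  have hXH : ∀ m ∈ H, X m ∈ H := by
    rintro _ ⟨s, rfl⟩
    unfold E
    rw [map_mul, map_mul, map_mul, map_pow, map_pow, map_pow, map_pow, h4, ← h1, ← h2', ← h3]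
    exact H.mul_mem (H.mul_mem (H.mul_mem (H.pow_mem m1 _) (H.pow_mem m2 _)) (H.pow_mem m3 _))
      (H.pow_mem (H.mul_mem (H.mul_mem (H.mul_mem m0 m1) m2) m3) _)
  have hc := card_mod hX hfix H hXH
  have hd : Nat.card H ∣ 16 := hM ▸ Subgroup.card_subgroup_dvd_card H
  have hH1 : Nat.card H ≠ 1 := by
    intro h
    rw [Subgroup.card_eq_one] at h
    rw [h] at m0
    exact hv0 (mem_bot.mp m0)
  have h16 : Nat.card H = 16 := by
    have hle : Nat.card H ≤ 16 := Nat.le_of_dvd (by norm_num) hd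
    generalize Nat.card H = n at hc hd hH1 hle
    interval_cases n <;> first | rfl | (exfalso; revert hc; decide) | (exfalso; revert hd; decide) |
      (exact absurd rfl hH1)
  have htop : H = ⊤ := Subgroup.eq_top_of_card_eq H (by rw [h16, hM])
  refine ⟨v0, v1, v2, v3, h1.symm, h2'.symm, h3.symm, h4, fun m => ?_⟩
  have : m ∈ H := by rw [htop]; exact mem_top m
  exact this

/-- A quadratic form on `M` (the cubic identity). -/
def IsQuad (q : M → ZMod 2) : Prop :=
  ∀ u v w : M, q (u * v * w) + q (u * v) + q (u * w) + q (v * w) + q u + q v + q w = 0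

include h2 in
omit [Finite M] in
/-- the values of an invariant form -/
theorem exists_F {X : MulAut M} {v0 v1 v2 v3 : M} (h : Ctx X v0 v1 v2 v3) {q : M → ZMod 2}
    (hq : IsQuad q) (hX : ∀ m, q (X m) = q m) :
    ∃ β γ : ZMod 2, (∀ s, q (E v0 v1 v2 v3 s) = F β γ s) ∧ q (v0 * v1) = β ∧ q (v0 * v2) = γ := by
  have t2 : ∀ a : ZMod 2, a + a = 0 := by decide
  have q1 : q 1 = 0 := by
    have := hq 1 1 1
    simp only [mul_one] at this
    have h7 : ∀ a : ZMod 2, a + a + a + a + a + a + a = 0 → a = 0 := by decide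
    exact h7 _ this
  have a1 : q v1 = q v0 := by rw [← h.x0, hX]
  have a2 : q v2 = q v0 := by rw [← h.x1, hX, a1]
  have a3 : q v3 = q v0 := by rw [← h.x2, hX, a2]
  have b12 : q (v1 * v2) = q (v0 * v1) := by rw [← hX (v0 * v1), map_mul, h.x0, h.x1]
  have b23 : q (v2 * v3) = q (v0 * v1) := by rw [← b12, ← hX (v1 * v2), map_mul, h.x1, h.x2]
  have c13 : q (v1 * v3) = q (v0 * v2) := by rw [← hX (v0 * v2), map_mul, h.x0, h.x2]
  -- X² (v0 v3) = v2 * (v3 * (v0 v1 v2 v3)... ) : use the orbit of v0 v2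
  have hx5 : X (v0 * v1 * v2 * v3) = v0 := by
    rw [map_mul, map_mul, map_mul, h.x0, h.x1, h.x2, h.x3]
    calc v1 * v2 * v3 * (v0 * v1 * v2 * v3) = v0 * (v1 * v1) * (v2 * v2) * (v3 * v3) := by ac_rfl
      _ = v0 := by rw [h2, h2, h2, mul_one, mul_one, mul_one]
  have c03 : q (v0 * v3) = q (v0 * v2) := by
    rw [← c13, ← hX (v1 * v3), map_mul, h.x1, h.x3, ← hX (v2 * (v0 * v1 * v2 * v3)), map_mul, h.x2, hx5,
      mul_comm v3 v0]
  set α := q v0 with hα
  set β := q (v0 * v1) with hβ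
  set γ := q (v0 * v2) with hγ
  have d012 : q (v0 * v1 * v2) = α + γ := by
    have := hq v0 v1 v2
    rw [a1, a2, b12] at this
    have hh : ∀ t α β γ : ZMod 2, t + β + γ + β + α + α + α = 0 → t = α + γ := by decide
    exact hh _ _ _ _ this
  have d123 : q (v1 * v2 * v3) = α + γ := by
    rw [← d012, ← hX (v0 * v1 * v2), map_mul, map_mul, h.x0, h.x1, h.x2]
  have d013 : q (v0 * v1 * v3) = α + β := by
    have := hq v0 v1 v3
    rw [a1, a3, c13, c03] at this
    have hh : ∀ t α β γ : ZMod 2, t + β + γ + γ + α + α + α = 0 → t = α + β := by decide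
    exact hh _ _ _ _ this
  have d023 : q (v0 * v2 * v3) = α + β := by
    have := hq v0 v2 v3
    rw [a2, a3, b23, c03] at this
    have hh : ∀ t α β γ : ZMod 2, t + γ + γ + β + α + α + α = 0 → t = α + β := by decide
    exact hh _ _ _ _ this
  have d0123 : q (v0 * v1 * v2 * v3) = β + γ := by
    have := hq v0 v1 (v2 * v3)
    rw [← mul_assoc (v0 * v1), ← mul_assoc v0 v2, ← mul_assoc v1 v2, d023, d123, a1, b23] at this
    have hh : ∀ t α β γ : ZMod 2, t + β + (α + β) + (α + γ) + α + α + β = 0 → t = β + γ := by decide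
    exact hh _ _ _ _ this
  have hαβ : α = β + γ := by
    rw [← d0123, ← hX (v0 * v1 * v2 * v3), hx5]
  refine ⟨β, γ, ?_, rfl, rfl⟩
  rintro ⟨a, b, c, d⟩
  have hz : ∀ a : ZMod 2, a = 0 ∨ a = 1 := by decide
  have z0 : (0 : ZMod 2).val = 0 := rfl
  have z1 : (1 : ZMod 2).val = 1 := rfl
  rcases hz a with rfl | rfl <;> rcases hz b with rfl | rfl <;> rcases hz c with rfl | rfl <;>
    rcases hz d with rfl | rfl <;>
    simp only [E, F, z0, z1, pow_zero, pow_one, one_mul, mul_one, q1, a1, a2, a3, b12, b23, c13, c03, d012,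
      d123, d013, d023, d0123, ← hα, ← hβ, ← hγ, hαβ] <;>
    (generalize β = b; generalize γ = c; revert b c; decide)

omit [Finite M] in
include h2 in
/-- An automorphism preserving both forms and fixing `v₀`, `v₁` is trivial. -/
theorem eq_one_of_fix {X : MulAut M} {v0 v1 v2 v3 : M} (h : Ctx X v0 v1 v2 v3) {q q' : M → ZMod 2}
    {β γ β' γ' : ZMod 2} (hF : ∀ s, q (E v0 v1 v2 v3 s) = F β γ s)
    (hF' : ∀ s, q' (E v0 v1 v2 v3 s) = F β' γ' s) (hg : Good β γ β' γ') {k : MulAut M}
    (hk : ∀ m, q (k m) = q m) (hk' : ∀ m, q' (k m) = q' m) (h0 : k v0 = v0) (h1 : k v1 = v1) :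
    k = 1 := by
  have z0 : (0 : ZMod 2).val = 0 := rfl
  have z1 : (1 : ZMod 2).val = 1 := rfl
  have E0 : E v0 v1 v2 v3 e0 = v0 := by simp [E, e0, z0, z1]
  have E1 : E v0 v1 v2 v3 e1 = v1 := by simp [E, e1, z0, z1]
  have E2 : E v0 v1 v2 v3 e2 = v2 := by simp [E, e2, z0, z1]
  have E3 : E v0 v1 v2 v3 e3 = v3 := by simp [E, e3, z0, z1]
  have f2 : ∀ β γ : ZMod 2, F β γ e2 = β + γ := by decide
  have f3 : ∀ β γ : ZMod 2, F β γ e3 = β + γ := by decide
  have f21 : ∀ β γ : ZMod 2, F β γ (e2 + e1) = β := by decide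
  have f20 : ∀ β γ : ZMod 2, F β γ (e2 + e0) = γ := by decide
  have f32 : ∀ β γ : ZMod 2, F β γ (e3 + e2) = β := by decide
  have f30 : ∀ β γ : ZMod 2, F β γ (e3 + e0) = γ := by decide
  have a2 := hF e2; rw [E2, f2] at a2
  have a2' := hF' e2; rw [E2, f2] at a2'
  have a3 := hF e3; rw [E3, f3] at a3
  have a3' := hF' e3; rw [E3, f3] at a3'
  have a21 := hF (e2 + e1); rw [E_add h2, E2, E1, f21] at a21
  have a21' := hF' (e2 + e1); rw [E_add h2, E2, E1, f21] at a21'
  have a20 := hF (e2 + e0); rw [E_add h2, E2, E0, f20] at a20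
  have a20' := hF' (e2 + e0); rw [E_add h2, E2, E0, f20] at a20'
  have a32 := hF (e3 + e2); rw [E_add h2, E3, E2, f32] at a32
  have a32' := hF' (e3 + e2); rw [E_add h2, E3, E2, f32] at a32'
  have a30 := hF (e3 + e0); rw [E_add h2, E3, E0, f30] at a30
  have a30' := hF' (e3 + e0); rw [E_add h2, E3, E0, f30] at a30'
  have k2 : k v2 = v2 := by
    obtain ⟨s, hs⟩ := h.surj (k v2)
    have m1 : k v2 * v1 = k (v2 * v1) := by rw [map_mul, h1]
    have m0 : k v2 * v0 = k (v2 * v0) := by rw [map_mul, h0]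
    have : s = e2 := by
      apply uniq2 β γ β' γ' hg s
      · rw [← hF, hs, hk, a2]
      · rw [← hF', hs, hk', a2']
      · rw [← hF, E_add h2, hs, E1, m1, hk, a21]
      · rw [← hF', E_add h2, hs, E1, m1, hk', a21']
      · rw [← hF, E_add h2, hs, E0, m0, hk, a20]
      · rw [← hF', E_add h2, hs, E0, m0, hk', a20']
    rw [← hs, this, E2]
  have k3 : k v3 = v3 := by
    obtain ⟨s, hs⟩ := h.surj (k v3)
    have m2 : k v3 * v2 = k (v3 * v2) := by rw [map_mul, k2]
    have m0 : k v3 * v0 = k (v3 * v0) := by rw [map_mul, h0]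
    have : s = e3 := by
      apply uniq3 β γ β' γ' hg s
      · rw [← hF, hs, hk, a3]
      · rw [← hF', hs, hk', a3']
      · rw [← hF, E_add h2, hs, E2, m2, hk, a32]
      · rw [← hF', E_add h2, hs, E2, m2, hk', a32']
      · rw [← hF, E_add h2, hs, E0, m0, hk, a30]
      · rw [← hF', E_add h2, hs, E0, m0, hk', a30']
    rw [← hs, this, E3]
  ext m
  obtain ⟨s, rfl⟩ := h.surj m
  show k (E v0 v1 v2 v3 s) = E v0 v1 v2 v3 s
  unfold E
  rw [map_mul, map_mul, map_mul, map_pow, map_pow, map_pow, map_pow, h0, h1, k2, k3]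

/-- A perfect group of order at most 10 has no element of order 5. -/
theorem perfect_small {P : Type*} [Group P] [Finite P] (hP : commutator P = ⊤) {y : P}
    (hy : orderOf y = 5) (hc : Nat.card P ≤ 10) : False := by
  have hz : Nat.card (zpowers y) = 5 := by rw [Nat.card_zpowers, hy]
  have hi := Subgroup.card_mul_index (zpowers y)
  rw [hz] at hi
  have hpos : 0 < (zpowers y).index := Nat.pos_of_ne_zero Subgroup.index_ne_zero_of_finite
  have hi2 : (zpowers y).index ≤ 2 := by omega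
  have hle : commutator P ≤ zpowers y := by
    have hcase : (zpowers y).index = 1 ∨ (zpowers y).index = 2 := by omega
    rcases hcase with h | h
    · rw [Subgroup.index_eq_one.mp h]
      exact le_top
    · have hn : (zpowers y).Normal := Subgroup.normal_of_index_eq_two h
      have hcard : Nat.card (P ⧸ zpowers y) = 2 := h
      have hcyc : IsCyclic (P ⧸ zpowers y) := by
        have : Fact (Nat.Prime 2) := ⟨Nat.prime_two⟩
        exact isCyclic_of_prime_card (p := 2) hcard
      have hcomm := IsCyclic.isMulCommutative (α := P ⧸ zpowers y)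
      rw [_root_.commutator_def, Subgroup.commutator_le]
      intro a _ b _
      rw [← QuotientGroup.eq_one_iff, commutatorElement_def]
      have h5 : (QuotientGroup.mk a : P ⧸ zpowers y) * QuotientGroup.mk b =
        QuotientGroup.mk b * QuotientGroup.mk a := hcomm.is_comm.comm _ _
      rw [QuotientGroup.mk_mul, QuotientGroup.mk_mul, QuotientGroup.mk_mul, h5, QuotientGroup.mk_inv,
        QuotientGroup.mk_inv]
      group
  rw [hP] at hle
  have htop : zpowers y = ⊤ := top_le_iff.mp hle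
  have hab : ∀ a b : P, a * b = b * a := by
    intro a b
    have ha : a ∈ zpowers y := by rw [htop]; exact mem_top a
    have hb : b ∈ zpowers y := by rw [htop]; exact mem_top b
    obtain ⟨i, rfl⟩ := mem_zpowers_iff.mp ha
    obtain ⟨j, rfl⟩ := mem_zpowers_iff.mp hb
    exact (Commute.refl y).zpow_zpow i j
  have hbot : commutator P = ⊥ := by
    rw [_root_.commutator_def, eq_bot_iff, Subgroup.commutator_le]
    intro a _ b _
    rw [mem_bot, commutatorElement_def, hab a b]
    group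
  have h1 : Nat.card P = 1 := by
    rw [← Subgroup.card_top, ← hP, hbot, Subgroup.card_bot]
  rw [← Subgroup.card_top (G := P), ← htop, hz] at h1
  omega

include h2 in
/-- **Two invariant forms**: a perfect group acting on `M`, with an element of order 5 acting fixed point
freely, does not preserve two different nonzero quadratic forms. -/
theorem two_forms (hM : Nat.card M = 16) {L : Type*} [Group L] [Finite L] (hL : commutator L = ⊤)
    (θ : L →* MulAut M) {x : L} (hx : x ^ 5 = 1) (hfix : ∀ m, θ x m = m → m = 1) {q q' : M → ZMod 2}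
    (hq : IsQuad q) (hq' : IsQuad q') (hi : ∀ l m, q (θ l m) = q m) (hi' : ∀ l m, q' (θ l m) = q' m)
    (hne : ∃ m, q m ≠ 0) (hne' : ∃ m, q' m ≠ 0) (hnn : ∃ m, q m ≠ q' m) : False := by
  classical
  have hX : (θ x) ^ 5 = 1 := by rw [← map_pow, hx, map_one]
  obtain ⟨v0, v1, v2, v3, h⟩ := exists_ctx h2 hM hX hfix
  obtain ⟨β, γ, hF, -, -⟩ := exists_F h2 h hq (hi x)
  obtain ⟨β', γ', hF', -, -⟩ := exists_F h2 h hq' (hi' x)
  have f00 : ∀ s, F 0 0 s = 0 := by intro s; simp [F]
  have hg : Good β γ β' γ' := by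
    refine ⟨?_, ?_, ?_⟩
    · rintro h0
      obtain ⟨m, hm⟩ := hne
      obtain ⟨s, rfl⟩ := h.surj m
      rw [Prod.mk_eq_zero] at h0
      rw [hF, h0.1, h0.2, f00] at hm
      exact hm rfl
    · rintro h0
      obtain ⟨m, hm⟩ := hne'
      obtain ⟨s, rfl⟩ := h.surj m
      rw [Prod.mk_eq_zero] at h0
      rw [hF', h0.1, h0.2, f00] at hm
      exact hm rfl
    · rintro h0
      obtain ⟨m, hm⟩ := hnn
      obtain ⟨s, rfl⟩ := h.surj m
      rw [Prod.mk.injEq] at h0
      rw [hF, hF', h0.1, h0.2] at hm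
      exact hm rfl
  -- the map `g ↦ (g v₀, g v₁)`
  have z0 : (0 : ZMod 2).val = 0 := rfl
  have z1 : (1 : ZMod 2).val = 1 := rfl
  have E0 : E v0 v1 v2 v3 e0 = v0 := by simp [E, e0, z0, z1]
  have E1 : E v0 v1 v2 v3 e1 = v1 := by simp [E, e1, z0, z1]
  have hr : ∀ g : θ.range, (∀ m, q ((g : MulAut M) m) = q m) ∧ ∀ m, q' ((g : MulAut M) m) = q' m := by
    rintro ⟨g, l, rfl⟩
    exact ⟨hi l, hi' l⟩
  have f0 : ∀ β γ : ZMod 2, F β γ e0 = β + γ := by decide
  have f1 : ∀ β γ : ZMod 2, F β γ e1 = β + γ := by decide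
  have f01 : ∀ β γ : ZMod 2, F β γ (e0 + e1) = β := by decide
  have a0 := hF e0; rw [E0, f0] at a0
  have a0' := hF' e0; rw [E0, f0] at a0'
  have a1 := hF e1; rw [E1, f1] at a1
  have a1' := hF' e1; rw [E1, f1] at a1'
  have a01 := hF (e0 + e1); rw [E_add h2, E0, E1, f01] at a01
  have a01' := hF' (e0 + e1); rw [E_add h2, E0, E1, f01] at a01'
  let φ : θ.range → {p : V4 × V4 // Pr β γ β' γ' p.1 p.2} := fun g =>
    ⟨((h.surj ((g : MulAut M) v0)).choose, (h.surj ((g : MulAut M) v1)).choose), by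
      have s0 := (h.surj ((g : MulAut M) v0)).choose_spec
      have s1 := (h.surj ((g : MulAut M) v1)).choose_spec
      set a := (h.surj ((g : MulAut M) v0)).choose
      set b := (h.surj ((g : MulAut M) v1)).choose
      obtain ⟨hg1, hg2⟩ := hr g
      refine ⟨?_, ?_, ?_, ?_, ?_, ?_⟩
      · rw [← hF, s0, hg1, a0]
      · rw [← hF', s0, hg2, a0']
      · rw [← hF, s1, hg1, a1]
      · rw [← hF', s1, hg2, a1']
      · rw [← hF, E_add h2, s0, s1, ← map_mul, hg1, a01]
      · rw [← hF', E_add h2, s0, s1, ← map_mul, hg2, a01']⟩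
  have hφ : Function.Injective φ := by
    intro g k hgk
    have h3 : (h.surj ((g : MulAut M) v0)).choose = (h.surj ((k : MulAut M) v0)).choose :=
      congrArg (fun p => p.1.1) hgk
    have h4 : (h.surj ((g : MulAut M) v1)).choose = (h.surj ((k : MulAut M) v1)).choose :=
      congrArg (fun p => p.1.2) hgk
    have s0 := (h.surj ((g : MulAut M) v0)).choose_spec
    have s1 := (h.surj ((g : MulAut M) v1)).choose_spec
    rw [h3, (h.surj ((k : MulAut M) v0)).choose_spec] at s0
    rw [h4, (h.surj ((k : MulAut M) v1)).choose_spec] at s1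
    have h5 : ((k : MulAut M)⁻¹ * (g : MulAut M)) = 1 := by
      apply eq_one_of_fix h2 h hF hF' hg
      · exact (hr (k⁻¹ * g)).1
      · exact (hr (k⁻¹ * g)).2
      · rw [MulAut.mul_apply, ← s0]; exact MulEquiv.symm_apply_apply _ _
      · rw [MulAut.mul_apply, ← s1]; exact MulEquiv.symm_apply_apply _ _
    exact Subtype.ext (inv_mul_eq_one.mp h5).symm
  have hc10 : Nat.card θ.range ≤ 10 := by
    refine (Nat.card_le_card_of_injective φ hφ).trans ?_
    rw [Nat.card_eq_fintype_card, Fintype.card_subtype]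
    exact card_pr β γ β' γ' hg
  -- the range is perfect
  have hperf : commutator θ.range = ⊤ := by
    have h3 : (commutator L).map θ.rangeRestrict = commutator θ.range := by
      rw [_root_.commutator_def, _root_.commutator_def, Subgroup.map_commutator,
        Subgroup.map_top_of_surjective _ θ.rangeRestrict_surjective]
    rw [← h3, hL, Subgroup.map_top_of_surjective _ θ.rangeRestrict_surjective]
  have hord : orderOf (θ.rangeRestrict x) = 5 := by
    have : Fact (Nat.Prime 5) := ⟨Nat.prime_five⟩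
    apply orderOf_eq_prime
    · rw [← map_pow, hx, map_one]
    · intro h1
      have h3 : θ x = 1 := congrArg Subtype.val h1
      have hnt : Nontrivial M := by
        rw [← Finite.one_lt_card_iff_nontrivial, hM]; norm_num
      obtain ⟨m, hm⟩ := exists_ne (1 : M)
      exact hm (hfix m (by rw [h3]; rfl))
  exact perfect_small hperf hord hc10

end

end Cfsg.Agent.GH.C2TwoForms
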