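import Cfsg.Agent.GH.C2Five
import Cfsg.Agent.GH.C2TwoForms
import Cfsg.Agent.TwoFusion.GoldEight
import Cfsg.Agent.TwoFusion.QuatSolvable
import Cfsg.Agent.J2.ExtQuot

/-!
# GH-C2, theorem T2: `C_Q(L) ≠ 1` for a perfect normal `L` generated by the conjugates of an element of
order 5: then `Q` is extraspecial of order 32.
-/

set_option autoImplicit false
set_option maxHeartbeats 800000

namespace Cfsg.Agent.GH.C2TwoMain

open Subgroup Cfsg.Agent.TwoFusion.SectionalRank Cfsg.Agent.GH.C2Base Cfsg.Agent.GH.C2Five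
open Cfsg.Agent.GH.C2TwoForms
open scoped commutatorElement
open Cfsg.Agent.SectRankFour.C2

variable {X : Type*} [Group X]

/-- `|H| = |f(H)| |H ∩ ker f|` -/
theorem card_eq_map_mul {G : Type*} [Group G] [Finite X] (f : X →* G) (H : Subgroup X) :
    Nat.card H = Nat.card (H.map f) * Nat.card (H ⊓ f.ker : Subgroup X) := by
  have h1 := Subgroup.card_mul_index (f.comp H.subtype).ker
  rw [Subgroup.index_ker] at h1
  have h2 : (f.comp H.subtype).range = H.map f := by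
    rw [MonoidHom.range_comp, range_subtype]
  have h3 : Nat.card (f.comp H.subtype).ker = Nat.card (H ⊓ f.ker : Subgroup X) := by
    have : (f.comp H.subtype).ker.map H.subtype = H ⊓ f.ker := by
      ext g
      constructor
      · rintro ⟨⟨g, hg⟩, h, rfl⟩
        exact ⟨hg, h⟩
      · rintro ⟨hg, h⟩
        exact ⟨⟨g, hg⟩, h, rfl⟩
    rw [← this, card_map_of_injective H.subtype_injective]
  rw [← h2, ← h3, mul_comm]
  exact h1.symm

/-- additive function on `Y` -/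
def IsChi (Y : Subgroup X) (χ : X → ZMod 2) : Prop := ∀ a ∈ Y, ∀ b ∈ Y, χ (a * b) = χ a + χ b

theorem IsChi.one {Y : Subgroup X} {χ : X → ZMod 2} (h : IsChi Y χ) : χ 1 = 0 := by
  have := h 1 Y.one_mem 1 Y.one_mem
  rw [mul_one] at this
  have hh : ∀ a : ZMod 2, a = a + a → a = 0 := by decide
  exact hh _ this

theorem IsChi.inv {Y : Subgroup X} {χ : X → ZMod 2} (h : IsChi Y χ) {a : X} (ha : a ∈ Y) :
    χ a⁻¹ = χ a := by
  have := h a ha a⁻¹ (Y.inv_mem ha)
  rw [mul_inv_cancel, h.one] at this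
  have hh : ∀ a b : ZMod 2, 0 = a + b → b = a := by decide
  exact hh _ _ this

theorem IsChi.add {Y : Subgroup X} {χ χ' : X → ZMod 2} (h : IsChi Y χ) (h' : IsChi Y χ') :
    IsChi Y (fun y => χ y + χ' y) := by
  intro a ha b hb
  show χ (a * b) + χ' (a * b) = _
  rw [h a ha b hb, h' a ha b hb]
  ring

/-- the character of a subgroup of index 2 -/
theorem exists_chi {Y : Subgroup X} {M : Subgroup Y} (hM : M.index = 2) :
    ∃ χ : X → ZMod 2, IsChi Y χ ∧ ∀ y : Y, χ y = 0 ↔ y ∈ M := by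
  classical
  refine ⟨fun y => if h : y ∈ Y then (if (⟨y, h⟩ : Y) ∈ M then 0 else 1) else 0, ?_, ?_⟩
  · intro a ha b hb
    have hab : a * b ∈ Y := Y.mul_mem ha hb
    simp only [dif_pos ha, dif_pos hb, dif_pos hab]
    have h1 := Subgroup.mul_mem_iff_of_index_two hM (a := (⟨a, ha⟩ : Y)) (b := ⟨b, hb⟩)
    have h2 : (⟨a * b, hab⟩ : Y) = ⟨a, ha⟩ * ⟨b, hb⟩ := rfl
    rw [h2]
    by_cases hA : (⟨a, ha⟩ : Y) ∈ M <;> by_cases hB : (⟨b, hb⟩ : Y) ∈ M
    · have : (⟨a, ha⟩ : Y) * ⟨b, hb⟩ ∈ M := h1.mpr ⟨fun _ => hB, fun _ => hA⟩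
      rw [if_pos this, if_pos hA, if_pos hB]; rfl
    · have : ¬ (⟨a, ha⟩ : Y) * ⟨b, hb⟩ ∈ M := fun h => hB ((h1.mp h).mp hA)
      rw [if_neg this, if_pos hA, if_neg hB]; rfl
    · have : ¬ (⟨a, ha⟩ : Y) * ⟨b, hb⟩ ∈ M := fun h => hA ((h1.mp h).mpr hB)
      rw [if_neg this, if_neg hA, if_pos hB]; rfl
    · have : (⟨a, ha⟩ : Y) * ⟨b, hb⟩ ∈ M := h1.mpr ⟨fun h => absurd h hA, fun h => absurd h hB⟩
      rw [if_pos this, if_neg hA, if_neg hB]; rfl
  · intro y
    simp only [dif_pos y.2]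
    by_cases h : (⟨y, y.2⟩ : Y) ∈ M
    · rw [if_pos h]
      exact ⟨fun _ => h, fun _ => rfl⟩
    · rw [if_neg h]
      exact ⟨fun h' => absurd h' one_ne_zero, fun h' => absurd h' h⟩

/-- `K / Y` of exponent 2 with `Y` central in `K`. -/
structure Cen (K Y : Subgroup X) : Prop where
  le : Y ≤ K
  sq : ∀ k ∈ K, k ^ 2 ∈ Y
  comm : ∀ y ∈ Y, ∀ k ∈ K, y * k = k * y

section Cen

variable {K Y : Subgroup X} (h : Cen K Y)

include h

/-- `v u = c (u v)` with `c = (u v)² u⁻² v⁻²` -/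
theorem Cen.swap {u v : X} (hu : u ∈ K) (hv : v ∈ K) :
    v * u = ((u * v) ^ 2 * (u ^ 2)⁻¹ * (v ^ 2)⁻¹) * (u * v) := by
  have cu : ∀ k ∈ K, Commute (u ^ 2) k := fun k hk => h.comm _ (h.sq u hu) k hk
  have cv : ∀ k ∈ K, Commute (v ^ 2) k := fun k hk => h.comm _ (h.sq v hv) k hk
  have cuv : ∀ k ∈ K, Commute ((u * v) ^ 2) k := fun k hk =>
    h.comm _ (h.sq _ (K.mul_mem hu hv)) k hk
  have e1 : v * u = u⁻¹ * (u * v) ^ 2 * v⁻¹ := by rw [pow_two]; group
  have e2 : u⁻¹ = (u ^ 2)⁻¹ * u := by rw [pow_two]; group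
  have e3 : v⁻¹ = (v ^ 2)⁻¹ * v := by rw [pow_two]; group
  calc v * u = u⁻¹ * (u * v) ^ 2 * v⁻¹ := e1
    _ = (u * v) ^ 2 * u⁻¹ * v⁻¹ := by rw [(cuv u⁻¹ (K.inv_mem hu)).eq]
    _ = (u * v) ^ 2 * ((u ^ 2)⁻¹ * u) * ((v ^ 2)⁻¹ * v) := by rw [← e2, ← e3]
    _ = (u * v) ^ 2 * (u ^ 2)⁻¹ * (u * (v ^ 2)⁻¹) * v := by group
    _ = (u * v) ^ 2 * (u ^ 2)⁻¹ * ((v ^ 2)⁻¹ * u) * v := by rw [((cv u hu).inv_left).eq]
    _ = _ := by group

theorem Cen.triple {u v w : X} (hu : u ∈ K) (hv : v ∈ K) (hw : w ∈ K) :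
    (u * v * w) ^ 2 = ((u * w) ^ 2 * (u ^ 2)⁻¹ * (w ^ 2)⁻¹) * ((v * w) ^ 2 * (v ^ 2)⁻¹ * (w ^ 2)⁻¹) *
      ((u * v) ^ 2 * w ^ 2) := by
  set c := (u * w) ^ 2 * (u ^ 2)⁻¹ * (w ^ 2)⁻¹ with hc
  set d := (v * w) ^ 2 * (v ^ 2)⁻¹ * (w ^ 2)⁻¹ with hd
  have hcY : c ∈ Y := Y.mul_mem (Y.mul_mem (h.sq _ (K.mul_mem hu hw)) (Y.inv_mem (h.sq _ hu)))
    (Y.inv_mem (h.sq _ hw))
  have hdY : d ∈ Y := Y.mul_mem (Y.mul_mem (h.sq _ (K.mul_mem hv hw)) (Y.inv_mem (h.sq _ hv)))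
    (Y.inv_mem (h.sq _ hw))
  have s1 : w * u = c * (u * w) := h.swap hu hw
  have s2 : w * v = d * (v * w) := h.swap hv hw
  calc (u * v * w) ^ 2 = u * v * (w * u) * v * w := by rw [pow_two]; group
    _ = u * v * (c * (u * w)) * v * w := by rw [s1]
    _ = (u * v * c) * u * (w * v) * w := by group
    _ = (c * (u * v)) * u * (d * (v * w)) * w := by
      rw [← h.comm c hcY _ (K.mul_mem hu hv), s2]
    _ = c * ((u * v * u) * d) * v * w * w := by group
    _ = c * (d * (u * v * u)) * v * w * w := by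
      rw [← h.comm d hdY _ (K.mul_mem (K.mul_mem hu hv) hu)]
    _ = c * d * ((u * v) ^ 2 * w ^ 2) := by rw [pow_two, pow_two]; group

/-- the quadratic identity -/
theorem Cen.quad {χ : X → ZMod 2} (hχ : IsChi Y χ) {u v w : X} (hu : u ∈ K) (hv : v ∈ K)
    (hw : w ∈ K) : χ ((u * v * w) ^ 2) + χ ((u * v) ^ 2) + χ ((u * w) ^ 2) + χ ((v * w) ^ 2) +
      χ (u ^ 2) + χ (v ^ 2) + χ (w ^ 2) = 0 := by
  have a1 := h.sq u hu
  have a2 := h.sq v hv
  have a3 := h.sq w hw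
  have b1 := h.sq _ (K.mul_mem hu hv)
  have b2 := h.sq _ (K.mul_mem hu hw)
  have b3 := h.sq _ (K.mul_mem hv hw)
  have i1 := Y.inv_mem a1
  have i2 := Y.inv_mem a2
  have i3 := Y.inv_mem a3
  rw [h.triple hu hv hw,
    hχ _ (Y.mul_mem (Y.mul_mem (Y.mul_mem b2 i1) i3) (Y.mul_mem (Y.mul_mem b3 i2) i3)) _
      (Y.mul_mem b1 a3),
    hχ _ (Y.mul_mem (Y.mul_mem b2 i1) i3) _ (Y.mul_mem (Y.mul_mem b3 i2) i3),
    hχ _ (Y.mul_mem b2 i1) _ i3, hχ _ b2 _ i1, hχ _ (Y.mul_mem b3 i2) _ i3, hχ _ b3 _ i2,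
    hχ _ b1 _ a3, hχ.inv a1, hχ.inv a2, hχ.inv a3]
  generalize χ ((u * v) ^ 2) = p1
  generalize χ ((u * w) ^ 2) = p2
  generalize χ ((v * w) ^ 2) = p3
  generalize χ (u ^ 2) = p4
  generalize χ (v ^ 2) = p5
  generalize χ (w ^ 2) = p6
  revert p1 p2 p3 p4 p5 p6
  decide

theorem Cen.sq_mul {χ : X → ZMod 2} (hχ : IsChi Y χ) {k y : X} (hk : k ∈ K) (hy : y ∈ Y) :
    χ ((k * y) ^ 2) = χ (k ^ 2) := by
  have h1 : Commute k y := (h.comm y hy k hk).symm
  rw [h1.mul_pow, hχ _ (h.sq k hk) _ (Y.pow_mem hy 2), pow_two y, hχ y hy y hy]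
  have hh : ∀ a b : ZMod 2, a + (b + b) = a := by decide
  exact hh _ _

/-- commutators -/
theorem Cen.comm_mem {u v : X} (hu : u ∈ K) (hv : v ∈ K) : v * u * v⁻¹ * u⁻¹ ∈ Y := by
  have h1 := h.swap hu hv
  have h2 : v * u * v⁻¹ * u⁻¹ = ((u * v) ^ 2 * (u ^ 2)⁻¹ * (v ^ 2)⁻¹) := by
    rw [h1]; group
  rw [h2]
  exact Y.mul_mem (Y.mul_mem (h.sq _ (K.mul_mem hu hv)) (Y.inv_mem (h.sq _ hu)))
    (Y.inv_mem (h.sq _ hv))

theorem Cen.comm_chi {χ : X → ZMod 2} (hχ : IsChi Y χ) {u v : X} (hu : u ∈ K) (hv : v ∈ K) :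
    χ ((u * v) ^ 2) = χ (u ^ 2) + χ (v ^ 2) + χ (v * u * v⁻¹ * u⁻¹) := by
  have h1 := h.swap hu hv
  have h2 : v * u * v⁻¹ * u⁻¹ = ((u * v) ^ 2 * (u ^ 2)⁻¹ * (v ^ 2)⁻¹) := by
    rw [h1]; group
  have a1 := h.sq u hu
  have a2 := h.sq v hv
  have b1 := h.sq _ (K.mul_mem hu hv)
  rw [h2, hχ _ (Y.mul_mem b1 (Y.inv_mem a1)) _ (Y.inv_mem a2), hχ _ b1 _ (Y.inv_mem a1), hχ.inv a1,
    hχ.inv a2]
  have hh : ∀ a b c : ZMod 2, a = b + c + (a + b + c) := by decide
  exact hh _ _ _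

theorem Cen.comm_sq {u v : X} (hu : u ∈ K) (hv : v ∈ K) : (v * u * v⁻¹ * u⁻¹) ^ 2 = 1 := by
  set c := v * u * v⁻¹ * u⁻¹ with hc
  have hcY : c ∈ Y := h.comm_mem hu hv
  have h1 : v * u = c * (u * v) := by rw [hc]; group
  have h2 : Commute (v ^ 2) u := h.comm _ (h.sq v hv) u hu
  -- v² u = c² u v²
  have h3 : v ^ 2 * u = c ^ 2 * (u * v ^ 2) := by
    calc v ^ 2 * u = v * (v * u) := by rw [pow_two, mul_assoc]
      _ = v * (c * (u * v)) := by rw [h1]
      _ = (v * c) * (u * v) := by group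
      _ = (c * v) * (u * v) := by rw [h.comm c hcY v hv]
      _ = c * (v * u) * v := by group
      _ = c * (c * (u * v)) * v := by rw [h1]
      _ = c ^ 2 * (u * v ^ 2) := by rw [pow_two, pow_two]; group
  rw [h2.eq] at h3
  exact (mul_eq_right.mp h3.symm)

end Cen


/-- `K / Y` of order 16, `Y` central in `K` and centralised by the perfect group `L`, which contains an
element `x` of order 5 acting fixed point freely on `K / Y`. -/
structure Blk (K Y L : Subgroup X) (x : X) : Prop where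
  cen : Cen K Y
  kn : K.Normal
  yn : Y.Normal
  card : Nat.card K = 16 * Nat.card Y
  pg : IsPGroup 2 Y
  perf : ⁅L, L⁆ = L
  xL : x ∈ L
  x5 : x ^ 5 = 1
  cent : ∀ l ∈ L, ∀ y ∈ Y, l * y = y * l
  fix : ∀ k ∈ K, x * k * x⁻¹ * k⁻¹ ∈ Y → k ∈ Y

/-- the kernel of a character -/
def kerChi (Y : Subgroup X) {χ : X → ZMod 2} (hχ : IsChi Y χ) : Subgroup X where
  carrier := {y | y ∈ Y ∧ χ y = 0}
  one_mem' := ⟨Y.one_mem, hχ.one⟩
  mul_mem' := by
    rintro a b ⟨ha, ha0⟩ ⟨hb, hb0⟩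
    exact ⟨Y.mul_mem ha hb, by rw [hχ a ha b hb, ha0, hb0, add_zero]⟩
  inv_mem' := by
    rintro a ⟨ha, ha0⟩
    exact ⟨Y.inv_mem ha, by rw [hχ.inv ha, ha0]⟩

section Blk

variable [Finite X] (hr : R4 X) {K Y L : Subgroup X} {x : X} (h : Blk K Y L x)

include hr h

theorem Blk.sq_ne {χ : X → ZMod 2} (hχ : IsChi Y χ) (hne : ∃ y ∈ Y, χ y ≠ 0) :
    ∃ k ∈ K, χ (k ^ 2) ≠ 0 := by
  by_contra hcon
  push Not at hcon
  have hsec : ElemSection 2 K (kerChi Y hχ) := by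
    refine ⟨fun y hy => h.cen.le hy.1, fun u hu v hv => ?_, fun k hk => ⟨h.cen.sq k hk, hcon k hk⟩⟩
    refine ⟨h.cen.comm_mem hv hu, ?_⟩
    have h1 := h.cen.comm_chi hχ hv hu
    rw [hcon _ (K.mul_mem hv hu), hcon _ hv, hcon _ hu, zero_add, zero_add] at h1
    exact h1.symm
  have h1 := hr _ _ hsec
  rw [h.card] at h1
  have h2 : kerChi Y hχ ≤ Y := fun y hy => hy.1
  have h3 : kerChi Y hχ = Y := Subgroup.eq_of_le_of_card_ge h2 (by omega)
  obtain ⟨y, hy, hy0⟩ := hne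
  rw [← h3] at hy
  exact hy0 hy.2

/-- no additive form -/
theorem Blk.comm_ne {χ : X → ZMod 2} (hχ : IsChi Y χ) (hne : ∃ y ∈ Y, χ y ≠ 0) :
    ∃ u ∈ K, ∃ v ∈ K, χ (v * u * v⁻¹ * u⁻¹) ≠ 0 := by
  by_contra hcon
  push Not at hcon
  obtain ⟨k, hk, hk0⟩ := h.sq_ne hr hχ hne
  apply hk0
  have hadd : ∀ u ∈ K, ∀ v ∈ K, χ ((u * v) ^ 2) = χ (u ^ 2) + χ (v ^ 2) := by
    intro u hu v hv
    rw [h.cen.comm_chi hχ hu hv, hcon u hu v hv, add_zero]
  have hc : ∀ (n : ℕ), x ^ n * k * (x ^ n)⁻¹ ∈ K := fun n => h.kn.conj_mem k hk _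
  have hq : ∀ (n : ℕ), χ ((x ^ n * k * (x ^ n)⁻¹) ^ 2) = χ (k ^ 2) := by
    intro n
    rw [conj_pow, h.cent _ (L.pow_mem h.xL n) _ (h.cen.sq k hk)]
    congr 1
    group
  -- the product of the conjugates
  set n := (k * x) ^ 5 with hn
  have e1 : n = k * (x ^ 1 * k * (x ^ 1)⁻¹) * (x ^ 2 * k * (x ^ 2)⁻¹) * (x ^ 3 * k * (x ^ 3)⁻¹) *
      (x ^ 4 * k * (x ^ 4)⁻¹) := by
    have e2 : k * (x ^ 1 * k * (x ^ 1)⁻¹) * (x ^ 2 * k * (x ^ 2)⁻¹) * (x ^ 3 * k * (x ^ 3)⁻¹) *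
      (x ^ 4 * k * (x ^ 4)⁻¹) = (k * x * (k * x) * (k * x) * (k * x) * (k * x)) * (x ^ 5)⁻¹ := by
      group
    rw [e2, h.x5, inv_one, mul_one, hn]
    simp only [pow_succ, pow_zero, one_mul]
  have hnK : n ∈ K := by
    rw [e1]
    exact K.mul_mem (K.mul_mem (K.mul_mem (K.mul_mem hk (hc 1)) (hc 2)) (hc 3)) (hc 4)
  have hnq : χ (n ^ 2) = χ (k ^ 2) := by
    rw [e1, hadd _ (K.mul_mem (K.mul_mem (K.mul_mem hk (hc 1)) (hc 2)) (hc 3)) _ (hc 4),
      hadd _ (K.mul_mem (K.mul_mem hk (hc 1)) (hc 2)) _ (hc 3),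
      hadd _ (K.mul_mem hk (hc 1)) _ (hc 2), hadd _ hk _ (hc 1), hq, hq, hq, hq]
    have : ∀ a : ZMod 2, a + a + a + a + a = a := by decide
    exact this _
  have hnx : x * n * x⁻¹ = k⁻¹ * n * k := by
    rw [hn]
    have e3 : x * (k * x) ^ 5 * x⁻¹ = (x * k) ^ 5 := by
      rw [← conj_pow]
      congr 1
      group
    have e4 : k⁻¹ * (k * x) ^ 5 * k = (x * k) ^ 5 := by
      have := conj_pow (a := k⁻¹) (b := k * x) (i := 5)
      rw [inv_inv] at this
      rw [← this]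
      congr 1
      group
    rw [e3, e4]
  have hnY : n ∈ Y := by
    apply h.fix n hnK
    rw [hnx]
    have := h.cen.comm_mem hnK (K.inv_mem hk)
    rwa [inv_inv] at this
  rw [← hnq, pow_two, hχ n hnY n hnY]
  have : ∀ a : ZMod 2, a + a = 0 := by decide
  exact this _

theorem Blk.le_comm : Y ≤ ⁅K, K⁆ := by
  by_contra hcon
  obtain ⟨y0, hy0, hyD⟩ := SetLike.not_le_iff_exists.mp hcon
  set D := (⁅K, K⁆).subgroupOf Y with hD
  have hDn : D.Normal := by
    constructor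
    intro d hd g
    rw [hD, mem_subgroupOf] at hd ⊢
    have h1 : ((g * d * g⁻¹ : Y) : X) = d := by
      show (g : X) * d * (g : X)⁻¹ = d
      rw [h.cen.comm g g.2 d (h.cen.le d.2)]
      group
    rw [h1]
    exact hd
  have hYD : IsPGroup 2 (Y ⧸ D) := h.pg.to_quotient D
  have hcard : 1 < Nat.card (Y ⧸ D) := by
    rw [Finite.one_lt_card_iff_nontrivial]
    refine ⟨(QuotientGroup.mk (⟨y0, hy0⟩ : Y) : Y ⧸ D), 1, ?_⟩
    rw [Ne, QuotientGroup.eq_one_iff, hD, mem_subgroupOf]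
    exact hyD
  obtain ⟨M', hM'⟩ := Cfsg.Agent.TwoFusion.QuatSolvable.exists_index_two hYD hcard
  set M := M'.comap (QuotientGroup.mk' D) with hM
  have hMi : M.index = 2 := by
    rw [hM, Subgroup.index_comap_of_surjective _ (QuotientGroup.mk'_surjective D), hM']
  obtain ⟨χ, hχ, hχM⟩ := exists_chi hMi
  have hne : ∃ y ∈ Y, χ y ≠ 0 := by
    have h1 : M ≠ ⊤ := by
      intro h1
      rw [h1, Subgroup.index_top] at hMi
      exact absurd hMi (by norm_num)
    obtain ⟨y, -, hy⟩ := SetLike.exists_of_lt (lt_top_iff_ne_top.mpr h1)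
    exact ⟨y, y.2, fun h2 => hy ((hχM y).mp h2)⟩
  obtain ⟨u, hu, v, hv, h1⟩ := h.comm_ne hr hχ hne
  apply h1
  have h2 : v * u * v⁻¹ * u⁻¹ ∈ Y := h.cen.comm_mem hu hv
  have h3 := (hχM ⟨_, h2⟩).mpr (by
    rw [hM, mem_comap, QuotientGroup.mk'_apply]
    have h4 : (QuotientGroup.mk (⟨v * u * v⁻¹ * u⁻¹, h2⟩ : Y) : Y ⧸ D) = 1 := by
      rw [QuotientGroup.eq_one_iff, hD, mem_subgroupOf]
      exact Subgroup.commutator_mem_commutator hv hu
    rw [h4]
    exact M'.one_mem)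
  exact h3

theorem Blk.sq_one {y : X} (hy : y ∈ Y) : y ^ 2 = 1 := by
  have h1 : ⁅K, K⁆ ≤ omegaCenter Y := by
    rw [Subgroup.commutator_le]
    intro v hv u hu
    have h2 := h.cen.comm_mem hu hv
    exact ⟨h2, h.cen.comm_sq hu hv, fun q hq => h.cen.comm _ h2 q (h.cen.le hq)⟩
  exact (h1 (h.le_comm hr hy)).2.1

/-- two characters -/
theorem Blk.false_of_two {χ χ' : X → ZMod 2} (hχ : IsChi Y χ) (hχ' : IsChi Y χ')
    (hne : ∃ y ∈ Y, χ y ≠ 0) (hne' : ∃ y ∈ Y, χ' y ≠ 0) (hnn : ∃ y ∈ Y, χ y ≠ χ' y) : False := by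
  classical
  have := h.yn
  have := h.kn
  let π : X →* X ⧸ Y := QuotientGroup.mk' Y
  have hπ : ∀ g : X, π g = 1 ↔ g ∈ Y := fun g => by
    rw [QuotientGroup.mk'_apply, QuotientGroup.eq_one_iff]
  have hπs : Function.Surjective π := QuotientGroup.mk'_surjective Y
  have hker : π.ker = Y := QuotientGroup.ker_mk' Y
  set W := K.map π with hW
  have hWn : W.Normal := h.kn.map π hπs
  have hcW : Nat.card W = 16 := by
    have h1 := card_eq_map_mul π K
    rw [hker, inf_eq_right.mpr h.cen.le, h.card] at h1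
    exact (Nat.eq_of_mul_eq_mul_right Nat.card_pos h1).symm
  have hW2 : ∀ w : W, w ^ 2 = 1 := by
    rintro ⟨_, k, hk, rfl⟩
    apply Subtype.ext
    show (π k) ^ 2 = 1
    rw [← map_pow, hπ]
    exact h.cen.sq k hk
  have hWc : ∀ v w : W, v * w = w * v := by
    intro v w
    have hi : ∀ v : W, v⁻¹ = v := fun v => inv_eq_of_mul_eq_one_left (by
      rw [← pow_two]; exact hW2 v)
    have h1 := hi (v * w)
    rw [mul_inv_rev, hi v, hi w] at h1
    exact h1.symm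
  letI : CommGroup W := { (inferInstance : Group W) with mul_comm := hWc }
  let lift : W → X := fun w => w.2.choose
  have hlift : ∀ w : W, lift w ∈ K ∧ π (lift w) = w := fun w => w.2.choose_spec
  have hval : ∀ {χ : X → ZMod 2}, IsChi Y χ → ∀ k ∈ K, ∀ w : W, π k = w →
      χ ((lift w) ^ 2) = χ (k ^ 2) := by
    intro χ hχ k hk w hw
    have h1 : k⁻¹ * lift w ∈ Y := by
      rw [← hπ, map_mul, map_inv, (hlift w).2, hw, inv_mul_cancel]
    have h2 := h.cen.sq_mul hχ hk h1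
    rw [← h2]
    congr 2
    group
  have hquad : ∀ {χ : X → ZMod 2}, IsChi Y χ → IsQuad (fun w : W => χ ((lift w) ^ 2)) := by
    intro χ hχ u v w
    have e := h.cen.quad hχ (hlift u).1 (hlift v).1 (hlift w).1
    have i : ∀ u v : W, χ ((lift (u * v)) ^ 2) = χ ((lift u * lift v) ^ 2) := fun u v =>
      hval hχ _ (K.mul_mem (hlift u).1 (hlift v).1) _ (by
        rw [map_mul, (hlift u).2, (hlift v).2]; rfl)
    have i3 : χ ((lift (u * v * w)) ^ 2) = χ ((lift u * lift v * lift w) ^ 2) :=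
      hval hχ _ (K.mul_mem (K.mul_mem (hlift u).1 (hlift v).1) (hlift w).1) _ (by
        rw [map_mul, map_mul, (hlift u).2, (hlift v).2, (hlift w).2]; rfl)
    show χ ((lift (u * v * w)) ^ 2) + χ ((lift (u * v)) ^ 2) + χ ((lift (u * w)) ^ 2) +
      χ ((lift (v * w)) ^ 2) + χ ((lift u) ^ 2) + χ ((lift v) ^ 2) + χ ((lift w) ^ 2) = 0
    rw [i3, i, i, i]
    exact e
  let θ : L →* MulAut W := (MulAut.conjNormal (H := W)).comp (π.comp L.subtype)
  have hθ : ∀ (l : L) (w : W), ((θ l w : W) : X ⧸ Y) = π l * w * (π l)⁻¹ := by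
    intro l w
    exact MulAut.conjNormal_apply (H := W) (π l) w
  have hinv : ∀ {χ : X → ZMod 2}, IsChi Y χ → ∀ (l : L) (w : W),
      χ ((lift (θ l w)) ^ 2) = χ ((lift w) ^ 2) := by
    intro χ hχ l w
    rw [hval hχ ((l : X) * lift w * (l : X)⁻¹) (h.kn.conj_mem _ (hlift w).1 _) (θ l w) (by
      rw [hθ, map_mul, map_mul, map_inv, (hlift w).2]), conj_pow,
      h.cent _ l.2 _ (h.cen.sq _ (hlift w).1)]
    congr 1
    group
  have hnz : ∀ {χ : X → ZMod 2}, IsChi Y χ → (∃ y ∈ Y, χ y ≠ 0) →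
      ∃ w : W, χ ((lift w) ^ 2) ≠ 0 := by
    intro χ hχ hne
    obtain ⟨k, hk, hk0⟩ := h.sq_ne hr hχ hne
    refine ⟨⟨π k, mem_map_of_mem π hk⟩, ?_⟩
    rw [hval hχ k hk _ rfl]
    exact hk0
  have hperf : commutator L = ⊤ := by
    have h1 : (commutator L).map L.subtype = (⊤ : Subgroup L).map L.subtype := by
      rw [_root_.commutator_def, Subgroup.map_commutator, ← MonoidHom.range_eq_map, range_subtype]
      exact h.perf
    exact Subgroup.map_injective L.subtype_injective h1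
  have hchi2 := hχ.add hχ'
  refine two_forms (fun w : W => by rw [← pow_two]; exact hW2 w) hcW hperf θ (x := ⟨x, h.xL⟩) (by
      apply Subtype.ext
      exact h.x5) ?_ (hquad hχ) (hquad hχ') (hinv hχ) (hinv hχ') (hnz hχ hne) (hnz hχ' hne') ?_
  · intro w hw
    have h1 := hθ ⟨x, h.xL⟩ w
    rw [hw] at h1
    have h2 : lift w ∈ Y := by
      apply h.fix _ (hlift w).1
      rw [← hπ, map_mul, map_mul, map_mul, map_inv, map_inv, (hlift w).2]
      rw [← h1]
      group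
    apply Subtype.ext
    rw [← (hlift w).2, (hπ _).mpr h2]
    rfl
  · obtain ⟨w, hw⟩ := hnz hchi2 (by
      obtain ⟨y, hy, hyn⟩ := hnn
      refine ⟨y, hy, fun h0 => hyn ?_⟩
      have : ∀ a b : ZMod 2, a + b = 0 → a = b := by decide
      exact this _ _ h0)
    refine ⟨w, fun h0 => hw ?_⟩
    show χ ((lift w) ^ 2) + χ' ((lift w) ^ 2) = 0
    have h1 : χ ((lift w) ^ 2) = χ' ((lift w) ^ 2) := h0
    rw [h1]
    have : ∀ a : ZMod 2, a + a = 0 := by decide
    exact this _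

theorem Blk.card_two (hne : Y ≠ ⊥) : Nat.card Y = 2 := by
  have hcomm : ∀ a b : Y, a * b = b * a := fun a b => Subtype.ext
    (h.cen.comm a a.2 b (h.cen.le b.2))
  have hcle : ∀ N : Subgroup Y, commutator Y ≤ N := by
    intro N
    rw [_root_.commutator_def, Subgroup.commutator_le]
    intro a _ b _
    rw [commutatorElement_eq_one_iff_mul_comm.mpr (hcomm a b)]
    exact N.one_mem
  have hsq : ∀ N : Subgroup Y, ∀ y : Y, y * y ∈ N := by
    intro N y
    have : y * y = 1 := by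
      apply Subtype.ext
      have := h.sq_one hr y.2
      rw [pow_two] at this
      exact this
    rw [this]
    exact N.one_mem
  obtain ⟨y, hy⟩ := Subgroup.ne_bot_iff_exists_ne_one.mp hne
  obtain ⟨M, -, hM, hyM⟩ := TwoFusion.GoldEight.exists_index_two_of_notMem (⊥ : Subgroup Y)
    (hcle _) (hsq _) (v := y) (by rwa [mem_bot])
  by_cases hMb : M = ⊥
  · rw [hMb, Subgroup.index_bot] at hM
    exact hM
  · exfalso
    obtain ⟨m, hm⟩ := Subgroup.ne_bot_iff_exists_ne_one.mp hMb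
    obtain ⟨M', -, hM', hmM⟩ := TwoFusion.GoldEight.exists_index_two_of_notMem (⊥ : Subgroup Y)
      (hcle _) (hsq _) (v := m) (by
        rw [mem_bot]
        exact fun h0 => hm (Subtype.ext h0))
    obtain ⟨χ, hχ, hχM⟩ := exists_chi hM
    obtain ⟨χ', hχ', hχM'⟩ := exists_chi hM'
    refine h.false_of_two hr hχ hχ' ⟨y, y.2, fun h0 => hyM ((hχM y).mp h0)⟩
      ⟨(m : Y), (m : Y).2, fun h0 => hmM ((hχM' m).mp h0)⟩
      ⟨(m : Y), (m : Y).2, fun h0 => hmM ((hχM' m).mp ?_)⟩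
    rw [← h0]
    exact (hχM m).mpr m.2

end Blk


/-- The hypotheses of theorem T2: `L` is perfect and generated by the conjugates of `x` (as a normal
subgroup), the involution `a` inverts `x` modulo `Q`, and `z₀ ∈ Q` commutes with `L`. -/
structure TTwo (Q L : Subgroup X) (x a z0 : X) : Prop where
  Qn : Q.Normal
  Ln : L.Normal
  pg : IsPGroup 2 Q
  cl : ∀ g : X, (∀ q ∈ Q, g * q = q * g) → g ∈ Q
  xL : x ∈ L
  x5 : x ^ 5 = 1
  x1 : x ≠ 1
  perf : ⁅L, L⁆ = L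
  min : ∀ N : Subgroup X, N.Normal → x ∈ N → L ≤ N
  aa : a * a ∈ Q
  ax : a * x * a⁻¹ * x ∈ Q
  z0Q : z0 ∈ Q
  z01 : z0 ≠ 1
  z0c : ∀ l ∈ L, l * z0 = z0 * l

section TTwo

variable {Q L : Subgroup X} {x a z0 : X} (h : TTwo Q L x a z0)

/-- `R = C_Q(L)` -/
def cR (Q L : Subgroup X) : Subgroup X := Q ⊓ centralizer (L : Set X)

theorem mem_cR {g : X} : g ∈ cR Q L ↔ g ∈ Q ∧ ∀ l ∈ L, l * g = g * l := by
  show g ∈ Q ∧ g ∈ centralizer (L : Set X) ↔ _
  rw [mem_centralizer_iff]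
  rfl

include h

theorem TTwo.Rn : (cR Q L).Normal := by
  constructor
  intro r hr g
  rw [mem_cR] at hr ⊢
  refine ⟨h.Qn.conj_mem r hr.1 g, fun l hl => ?_⟩
  have h1 := hr.2 (g⁻¹ * l * g) (by simpa using h.Ln.conj_mem l hl g⁻¹)
  calc l * (g * r * g⁻¹) = g * ((g⁻¹ * l * g) * r) * g⁻¹ := by group
    _ = g * (r * (g⁻¹ * l * g)) * g⁻¹ := by rw [h1]
    _ = g * r * g⁻¹ * l := by group

/-- `L` acts nontrivially above `R` -/
theorem TTwo.le_R {K : Subgroup X} (hKn : K.Normal) (hKQ : K ≤ Q)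
    (hx : ∀ k ∈ K, x * k * x⁻¹ * k⁻¹ ∈ cR Q L) : K ≤ cR Q L := by
  have := h.Rn
  have := h.Ln
  let π : X →* X ⧸ cR Q L := QuotientGroup.mk' _
  have hπ : ∀ g : X, π g = 1 ↔ g ∈ cR Q L := fun g => by
    rw [QuotientGroup.mk'_apply, QuotientGroup.eq_one_iff]
  have hπs : Function.Surjective π := QuotientGroup.mk'_surjective _
  have hWn : (K.map π).Normal := hKn.map π hπs
  set N := (centralizer (K.map π : Set (X ⧸ cR Q L))).comap π with hN
  have hNn : N.Normal := inferInstance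
  have hmem : ∀ g : X, g ∈ N ↔ ∀ k ∈ K, π k * π g = π g * π k := by
    intro g
    rw [hN, mem_comap, mem_centralizer_iff]
    constructor
    · intro h1 k hk
      exact h1 _ (mem_map_of_mem π hk)
    · rintro h1 _ ⟨k, hk, rfl⟩
      exact h1 k hk
  have hxN : x ∈ N := by
    rw [hmem]
    intro k hk
    have h1 := (hπ _).mpr (hx k hk)
    rw [map_mul, map_mul, map_mul, map_inv, map_inv] at h1
    calc π k * π x = (π x * π k * (π x)⁻¹ * (π k)⁻¹) * π k * π x := by rw [h1, one_mul]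
      _ = π x * π k := by group
  have hLN := h.min N hNn hxN
  have hLK : ⁅L, K⁆ ≤ cR Q L := by
    rw [Subgroup.commutator_le]
    intro l hl k hk
    rw [← hπ, commutatorElement_def, map_mul, map_mul, map_mul, map_inv, map_inv,
      ← (hmem l).mp (hLN hl) k hk]
    group
  have hRL : ∀ H : Subgroup X, H ≤ cR Q L → ⁅H, L⁆ = ⊥ := by
    intro H hH
    rw [Subgroup.commutator_eq_bot_iff_le_centralizer]
    intro g hg
    exact (hH hg).2
  have h1 : ⁅⁅L, L⁆, K⁆ = ⊥ := by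
    apply Subgroup.commutator_commutator_eq_bot_of_rotate
    · exact hRL _ hLK
    · rw [Subgroup.commutator_comm K L]
      exact hRL _ hLK
  rw [h.perf, Subgroup.commutator_comm, Subgroup.commutator_eq_bot_iff_le_centralizer] at h1
  exact le_inf hKQ h1

variable [Finite X] (hr : R4 X)

include hr

/-- **Theorem T2.** -/
theorem TTwo.main : Cfsg.IsExtraspecial 2 Q ∧ Nat.card Q = 32 ∧ (∀ g : X, g * z0 = z0 * g) ∧
    z0 ^ 2 = 1 := by
  have hRn := h.Rn
  have hLn := h.Ln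
  have hQn := h.Qn
  set R := cR Q L with hR
  let π : X →* X ⧸ R := QuotientGroup.mk' _
  have hπ : ∀ g : X, π g = 1 ↔ g ∈ R := fun g => by
    rw [QuotientGroup.mk'_apply, QuotientGroup.eq_one_iff]
  have hπs : Function.Surjective π := QuotientGroup.mk'_surjective _
  have hker : π.ker = R := QuotientGroup.ker_mk' _
  have hz0R : z0 ∈ R := mem_cR.mpr ⟨h.z0Q, h.z0c⟩
  have hRQ : R ≤ Q := inf_le_left
  have hRL : ∀ r ∈ R, ∀ l ∈ L, l * r = r * l := fun r hr => (mem_cR.mp hr).2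
  -- `x` is not a 2-element
  have hxQ : ∀ n : ℕ, ¬ x ^ 2 ^ n = 1 := by
    intro n hn
    apply h.x1
    have h1 : orderOf x ∣ 5 := orderOf_dvd_of_pow_eq_one h.x5
    have h2 : orderOf x ∣ 2 ^ n := orderOf_dvd_of_pow_eq_one hn
    have h3 : Nat.Coprime (2 ^ n) 5 := Nat.Coprime.pow_left n (by norm_num)
    have h4 := Nat.dvd_gcd h2 h1
    rw [h3.gcd_eq_one, Nat.dvd_one] at h4
    exact orderOf_eq_one_iff.mp h4
  have hxQ' : x ∉ Q := by
    intro hx
    obtain ⟨n, hn⟩ := h.pg ⟨x, hx⟩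
    exact hxQ n (by
      have := congrArg Subtype.val hn
      simpa using this)
  have hRneQ : R ≠ Q := by
    intro h1
    apply hxQ'
    apply h.cl
    intro q hq
    rw [← h1] at hq
    exact hRL q hq x h.xL
  -- the group `W`
  have hQbn : (Q.map π).Normal := hQn.map π hπs
  have hQb2 : IsPGroup 2 (Q.map π) := h.pg.map π
  have hQbne : Q.map π ≠ ⊥ := by
    intro h1
    apply hRneQ
    refine le_antisymm hRQ (fun g hg => ?_)
    have h2 : π g ∈ Q.map π := mem_map_of_mem π hg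
    rw [h1] at h2
    exact (hπ g).mp (mem_bot.mp h2)
  set W := omegaCenter (Q.map π) with hW
  have hWne : W ≠ ⊥ := omegaCenter_ne_bot hQb2 hQbne
  have hW2 : ∀ w ∈ W, w ^ 2 = 1 := fun w hw => hw.2.1
  have hWc : ∀ v ∈ W, ∀ w ∈ W, v * w = w * v := fun v hv w hw => hv.2.2 w hw.1
  have hmemQ : ∀ g : X, π g ∈ Q.map π → g ∈ Q := by
    intro g hg
    obtain ⟨q, hq, h1⟩ := mem_map.mp hg
    have h2 : q⁻¹ * g ∈ R := by
      rw [← hπ, map_mul, map_inv, h1, inv_mul_cancel]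
    have h3 := Q.mul_mem hq (hRQ h2)
    simpa using h3
  have hWQ : ∀ g : X, π g ∈ W → g ∈ Q := fun g hg => hmemQ g hg.1
  have hWn : W.Normal := ⟨fun w hw g => omegaCenter_conj hQbn hw g⟩
  set K := W.comap π with hK
  have hKn : K.Normal := inferInstance
  have hKQ : K ≤ Q := fun g hg => hWQ g hg
  have hr' := r4_quotient hr R
  have hW16 : Nat.card W ≤ 16 := by
    have := hr' W ⊥ (elem_bot hW2)
    simpa using this
  have hxne : ¬ W ≤ centralizer ({π x} : Set (X ⧸ R)) := by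
    intro h1
    apply hWne
    rw [eq_bot_iff]
    intro w hw
    obtain ⟨g, rfl⟩ := hπs w
    have h2 : K ≤ R := by
      apply h.le_R hKn hKQ
      intro k hk
      have h3 : π k * π x = π x * π k := mem_centralizer_singleton_iff.mp (h1 hk)
      have h4 : π (x * k * x⁻¹ * k⁻¹) = 1 := by
        rw [map_mul, map_mul, map_mul, map_inv, map_inv, ← h3]
        group
      exact (hπ _).mp h4
    exact mem_bot.mpr ((hπ g).mpr (h2 hw))
  have hx5 : (π x) ^ 5 = 1 := by rw [← map_pow, h.x5, map_one]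
  obtain ⟨hcW, hWx⟩ := ActFour.five hW2 hW16 hx5 (fun w hw => hWn.conj_mem w hw _) hxne
  have hWx' : ∀ w ∈ W, π x * w = w * π x → w = 1 := by
    intro w hw h1
    have h2 : w ∈ W ⊓ centralizer ({π x} : Set (X ⧸ R)) := ⟨hw, mem_centralizer_singleton_iff.mpr h1.symm⟩
    rw [hWx] at h2
    exact mem_bot.mp h2
  -- an invariant subgroup of `W` is trivial or `W`
  have hmin : ∀ N : Subgroup (X ⧸ R), N.Normal → N ≤ W → N ≠ ⊥ → N = W := by
    intro N hN hNW hNne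
    have h1 : ¬ N ≤ centralizer ({π x} : Set (X ⧸ R)) := by
      intro h2
      apply hNne
      rw [eq_bot_iff]
      intro n hn
      exact mem_bot.mpr (hWx' n (hNW hn) (mem_centralizer_singleton_iff.mp (h2 hn)).symm)
    have h3 := (ActFour.five (fun w hw => hW2 w (hNW hw)) ((Subgroup.card_le_of_le hNW).trans hW16) hx5
      (fun w hw => hN.conj_mem w hw _) h1).1
    exact Subgroup.eq_of_le_of_card_ge hNW (by rw [h3, hcW])
  -- `K₁ = [K, L]`
  set K1 := ⁅K, L⁆ with hK1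
  have hK1n : K1.Normal := inferInstance
  have hK1K : K1 ≤ K := Subgroup.commutator_le_left K L
  have hK1R : ∀ r ∈ R, ∀ k ∈ K1, r * k = k * r := by
    have h1 : ⁅⁅K, L⁆, R⁆ = ⊥ := by
      apply Subgroup.commutator_commutator_eq_bot_of_rotate
      · have h2 : ⁅L, R⁆ = ⊥ := by
          rw [Subgroup.commutator_comm, Subgroup.commutator_eq_bot_iff_le_centralizer]
          exact fun r hr => hr.2
        rw [h2, Subgroup.commutator_bot_left]
      · rw [Subgroup.commutator_eq_bot_iff_le_centralizer]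
        exact (Subgroup.commutator_le_left R K).trans (fun r hr => hr.2)
    rw [Subgroup.commutator_eq_bot_iff_le_centralizer] at h1
    intro r hr k hk
    exact (mem_centralizer_iff.mp (h1 hk)) r hr
  have hK1W : K1.map π = W := by
    apply hmin _ (hK1n.map π hπs)
    · rintro _ ⟨k, hk, rfl⟩
      exact hK1K hk
    · intro h1
      apply hxne
      intro w hw
      obtain ⟨k, rfl⟩ := hπs w
      have h2 : π ⁅k, x⁆ ∈ K1.map π :=
        mem_map_of_mem π (Subgroup.commutator_mem_commutator hw h.xL)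
      rw [h1, mem_bot, commutatorElement_def, map_mul, map_mul, map_mul, map_inv, map_inv] at h2
      rw [mem_centralizer_singleton_iff]
      calc π k * π x = (π k * π x * (π k)⁻¹ * (π x)⁻¹) * (π x * π k) := by group
        _ = π x * π k := by rw [h2, one_mul]
  set Y := K1 ⊓ R with hY
  have hYn : Y.Normal := inferInstance
  have hcen : Cen K1 Y := by
    refine ⟨inf_le_left, fun k hk => ⟨K1.pow_mem hk 2, ?_⟩, fun y hy k hk => hK1R y hy.2 k hk⟩
    show k ^ 2 ∈ R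
    rw [← hπ, map_pow]
    exact hW2 _ (hK1K hk)
  have hYpg : IsPGroup 2 Y := h.pg.to_le ((inf_le_right : Y ≤ R).trans hRQ)
  have hblk : Blk K1 Y L x := by
    refine ⟨hcen, hK1n, hYn, ?_, hYpg, h.perf, h.xL, h.x5, fun l hl y hy => hRL y hy.2 l hl, ?_⟩
    · have h1 := card_eq_map_mul π K1
      rw [hker, hK1W, hcW] at h1
      exact h1
    · intro k hk h1
      refine ⟨hk, ?_⟩
      show k ∈ R
      rw [← hπ]
      apply hWx' _ (hK1K hk)
      have h2 := (hπ _).mpr h1.2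
      rw [map_mul, map_mul, map_mul, map_inv, map_inv] at h2
      calc π x * π k = (π x * π k * (π x)⁻¹ * (π k)⁻¹) * (π k * π x) := by group
        _ = π k * π x := by rw [h2, one_mul]
  -- elements of `R` outside of `K₁`
  have hext : ∀ r ∈ R, r * r ∈ Y → r ∈ Y := by
    intro r hrR hrr
    by_contra hrY
    have hsec : ElemSection 2 K1 Y := ⟨hcen.le, fun u hu v hv => hcen.comm_mem hv hu, hcen.sq⟩
    obtain ⟨Z, hZ, -, -, hcZ⟩ := exists_ext hsec hrr (fun y hy => by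
      rw [hK1R r hrR y hy]
      have : y * r * r⁻¹ * y⁻¹ = 1 := by group
      rw [this]
      exact Y.one_mem) (fun h1 => hrY ⟨h1, hrR⟩)
    have h2 := hr Z Y hZ
    rw [hcZ, hblk.card] at h2
    have h3 : 0 < Nat.card Y := Nat.card_pos
    omega
  have hRY : R ≤ Y := by
    intro r hrR
    obtain ⟨n, hn⟩ := h.pg ⟨r, hRQ hrR⟩
    have hn' : r ^ 2 ^ n = 1 := by
      have := congrArg Subtype.val hn
      simpa using this
    clear hn
    induction n generalizing r with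
    | zero =>
      have : r = 1 := by simpa using hn'
      rw [this]
      exact Y.one_mem
    | succ n ih =>
      apply hext r hrR
      rw [← pow_two]
      apply ih (R.pow_mem hrR 2)
      rw [← pow_mul, ← pow_succ']
      exact hn'
  have hRY' : R = Y := le_antisymm hRY inf_le_right
  have hRne : R ≠ ⊥ := by
    intro h1
    rw [h1] at hz0R
    exact h.z01 (mem_bot.mp hz0R)
  have hYne : Y ≠ ⊥ := by rwa [← hRY']
  have hcY := hblk.card_two hr hYne
  -- `Q = K₁`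
  have hQK : Q.map π = W := by
    refine eq_V hr' hQbn hWn hQb2 (fun w hw => hw.1) hW2 (fun w hw q hq => hw.2.2 q hq) hx5 ?_
      (a := π a) ?_ ?_
    · by_contra hcon
      push Not at hcon
      exact hxne (fun w hw => mem_centralizer_singleton_iff.mpr (hcon w hw).symm)
    · rw [← map_mul]
      exact mem_map_of_mem π h.aa
    · rw [← map_inv, ← map_mul, ← map_mul, ← map_mul]
      exact mem_map_of_mem π h.ax
  have hQK1 : Q = K1 := by
    refine le_antisymm (fun q hq => ?_) (hK1K.trans hKQ)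
    have h1 : π q ∈ K1.map π := by
      rw [hK1W, ← hQK]
      exact mem_map_of_mem π hq
    obtain ⟨k, hk, h2⟩ := h1
    have h3 : k⁻¹ * q ∈ R := by
      rw [← hπ, map_mul, map_inv, h2, inv_mul_cancel]
    have h4 := K1.mul_mem hk ((hRY.trans inf_le_left : R ≤ K1) h3)
    simpa using h4
  have hcQ : Nat.card Q = 32 := by
    rw [hQK1, hblk.card, hcY]
  -- not abelian
  have hnab : ∃ u ∈ Q, ∃ v ∈ Q, u * v ≠ v * u := by
    by_contra hcon
    push Not at hcon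
    apply hYne
    rw [eq_bot_iff]
    refine (hblk.le_comm hr).trans ?_
    rw [Subgroup.commutator_le]
    intro u hu v hv
    rw [mem_bot, commutatorElement_eq_one_iff_mul_comm]
    rw [hQK1] at hcon
    exact hcon u hu v hv
  -- the centre
  have hcenQ : ∀ c ∈ Q, (∀ q ∈ Q, q * c = c * q) → c ∈ R := by
    intro c hc hcc
    by_contra hcR
    set C := Q ⊓ centralizer (Q : Set X) with hC
    have hCn : C.Normal := inferInstance
    have hcC : c ∈ C := ⟨hc, mem_centralizer_iff.mpr hcc⟩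
    have h1 : C.map π = W := by
      apply hmin _ (hCn.map π hπs)
      · rw [← hQK]
        exact Subgroup.map_mono inf_le_left
      · intro h2
        apply hcR
        rw [← hπ, ← mem_bot, ← h2]
        exact mem_map_of_mem π hcC
    obtain ⟨u, hu, v, hv, huv⟩ := hnab
    apply huv
    have h2 : π u ∈ C.map π := by
      rw [h1, ← hQK]
      exact mem_map_of_mem π hu
    obtain ⟨d, hd, h3⟩ := h2
    have h4 : d⁻¹ * u ∈ Y := by
      rw [← hRY', ← hπ, map_mul, map_inv, h3, inv_mul_cancel]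
    have h5 := hcen.comm _ h4 v (by rwa [← hQK1])
    have h6 : v * d = d * v := mem_centralizer_iff.mp hd.2 v hv
    calc u * v = d * ((d⁻¹ * u) * v) := by group
      _ = d * (v * (d⁻¹ * u)) := by rw [h5]
      _ = (d * v) * (d⁻¹ * u) := by group
      _ = (v * d) * (d⁻¹ * u) := by rw [h6]
      _ = v * u := by group
  have hRcen : ∀ r ∈ R, ∀ q ∈ Q, r * q = q * r := by
    intro r hrR q hq
    rw [hQK1] at hq
    exact hK1R r hrR q hq
  have hmapcen : (Subgroup.center Q).map Q.subtype = R := by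
    ext g
    constructor
    · rintro ⟨c, hc, rfl⟩
      rw [SetLike.mem_coe, Subgroup.mem_center_iff] at hc
      exact hcenQ c c.2 (fun q hq => congrArg Subtype.val (hc ⟨q, hq⟩))
    · intro hg
      refine ⟨⟨g, hRQ hg⟩, ?_, rfl⟩
      rw [SetLike.mem_coe, Subgroup.mem_center_iff]
      rintro ⟨q, hq⟩
      exact Subtype.ext (hRcen g hg q hq).symm
  have hcR : Nat.card R = 2 := by rw [hRY']; exact hcY
  have hR2 : ∀ r ∈ R, r = 1 ∨ r = z0 := by
    intro r hrR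
    obtain ⟨w, hw, huniq⟩ := (Nat.card_eq_two_iff' (1 : R)).mp hcR
    have hz : (⟨z0, hz0R⟩ : R) = w := huniq _ (fun h0 => h.z01 (congrArg Subtype.val h0))
    by_cases h1 : r = 1
    · exact Or.inl h1
    · have h2 : (⟨r, hrR⟩ : R) = w := huniq _ (fun h0 => h1 (congrArg Subtype.val h0))
      exact Or.inr (congrArg Subtype.val (h2.trans hz.symm))
  refine ⟨?_, hcQ, ?_, ?_⟩
  · refine Cfsg.Agent.J2.ExtQuot.isExtraspecial_two h.pg ?_ ?_ ?_
    · rw [← Subgroup.card_map_of_injective Q.subtype_injective, hmapcen]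
      exact hcR
    · intro q
      rw [Subgroup.mem_center_iff]
      intro p
      have h1 : (q : X) ^ 2 ∈ Y := hcen.sq q (by rw [← hQK1]; exact q.2)
      rw [← hRY'] at h1
      exact Subtype.ext (hRcen _ h1 p p.2).symm
    · obtain ⟨u, hu, v, hv, huv⟩ := hnab
      exact ⟨⟨u, hu⟩, ⟨v, hv⟩, fun h0 => huv (congrArg Subtype.val h0)⟩
  · intro g
    have h1 := hRn.conj_mem z0 hz0R g
    rcases hR2 _ h1 with h2 | h2
    · exfalso
      apply h.z01
      calc z0 = g⁻¹ * (g * z0 * g⁻¹) * g := by group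
        _ = 1 := by rw [h2]; group
    · calc g * z0 = (g * z0 * g⁻¹) * g := by group
        _ = z0 * g := by rw [h2]
  · rcases hR2 _ (R.pow_mem hz0R 2) with h2 | h2
    · exact h2
    · exfalso
      apply h.z01
      rw [pow_two] at h2
      exact mul_eq_left.mp h2

end TTwo

end Cfsg.Agent.GH.C2TwoMain
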