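import Cfsg.Agent.GH.C2Act
import Cfsg.Agent.GH.C2TwoMain
import Cfsg.Agent.PLocal.SectionFrattini
import Cfsg.Agent.Lib.FrattiniPGroup
import Cfsg.Agent.SignalizersComponents.CharP

/-!
# GH-C2: nonsolvable groups of characteristic 2, of sectional 2-rank at most 4 and order divisible by 5

`five_main` : `O₂(X)` is elementary abelian of order 16, or extraspecial of order 32 with central
involution central in `X`.
-/

set_option autoImplicit false
set_option maxHeartbeats 800000

namespace Cfsg.Agent.GH.C2FiveGlue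

open Subgroup Cfsg Cfsg.Agent.TwoFusion.SectionalRank Cfsg.Agent.GH.C2Base Cfsg.Agent.GH.C2Five
open Cfsg.Agent.GH.C2TwoMain
open Cfsg.Agent.SectRankFour.C2
open scoped commutatorElement

variable {X : Type*} [Group X] [Finite X]

/-- the action on the Frattini quotient of `O₂(X)` -/
theorem exists_act (hr : R4 X) (hc : centralizer (pCore 2 X : Set X) ≤ pCore 2 X) :
    ∃ (F : Subgroup X) (_ : F.Normal) (φ : X →* MulAut ((pCore 2 X).map (QuotientGroup.mk' F))),
      (∀ g, φ g = 1 ↔ g ∈ pCore 2 X) ∧ (∀ v : (pCore 2 X).map (QuotientGroup.mk' F), v * v = 1) ∧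
      Nat.card ((pCore 2 X).map (QuotientGroup.mk' F)) ≤ 16 := by
  have h2 : Fact (Nat.Prime 2) := ⟨Nat.prime_two⟩
  set Q : Subgroup X := pCore 2 X with hQ
  have hQn : Q.Normal := Lib.Cores.pCore_normal 2
  have hQp : IsPGroup 2 Q := Lib.Cores.pCore_isPGroup 2
  set F : Subgroup X := (_root_.frattini Q).map Q.subtype with hF
  have hFn : F.Normal := by
    have h1 : (_root_.frattini Q).Characteristic := frattini_characteristic
    exact inferInstance
  have hFQ : F ≤ Q := map_subtype_le _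
  have hker := PLocal.SectionFrattini.isPGroup_sectionKernel_frattini Q hQp hc
  set π := QuotientGroup.mk' F with hπdef
  have hπ : ∀ g : X, π g = 1 ↔ g ∈ F := fun g => by
    rw [hπdef, QuotientGroup.mk'_apply, QuotientGroup.eq_one_iff]
  set V := Q.map π with hV
  have hVn : V.Normal := hQn.map π (QuotientGroup.mk'_surjective F)
  have hsec : ElemSection 2 Q F := by
    refine ⟨hFQ, fun x hx y hy => ?_, fun x hx => ?_⟩
    · exact ⟨_, Lib.FrattiniPGroup.commutator_mem_frattini hQp ⟨x, hx⟩ ⟨y, hy⟩, rfl⟩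
    · exact ⟨_, Lib.FrattiniPGroup.pow_mem_frattini hQp ⟨x, hx⟩, rfl⟩
  have hVc : ∀ v ∈ V, ∀ w ∈ V, v * w = w * v := by
    rintro _ ⟨x, hx, rfl⟩ _ ⟨y, hy, rfl⟩
    have h1 := (hπ _).mpr (hsec.comm x hx y hy)
    rw [map_mul, map_mul, map_mul, map_inv, map_inv] at h1
    rw [mul_inv_eq_one, mul_inv_eq_iff_eq_mul] at h1
    exact h1
  refine ⟨F, hFn, (MulAut.conjNormal (H := V)).comp π, ?_, ?_, ?_⟩
  · have hiff : ∀ g : X, (MulAut.conjNormal (H := V)).comp π g = 1 ↔ π g ∈ centralizer (V : Set (X ⧸ F)) := by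
      intro g
      rw [MonoidHom.comp_apply, mem_centralizer_iff]
      constructor
      · intro h v hv
        have h1 := congrArg (fun f : MulAut V => ((f ⟨v, hv⟩ : V) : X ⧸ F)) h
        change ((MulAut.conjNormal (π g) ⟨v, hv⟩ : V) : X ⧸ F) = v at h1
        rw [MulAut.conjNormal_apply] at h1
        exact (mul_inv_eq_iff_eq_mul.mp h1).symm
      · intro h
        ext v
        rw [MulAut.conjNormal_apply]
        show π g * v * (π g)⁻¹ = v
        rw [← h v v.2, mul_inv_cancel_right]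
    have hkn : (sectionKernel Q F).Normal := by
      have h3 : (centralizer (V : Set (X ⧸ F))).Normal := inferInstance
      exact h3.comap π
    intro g
    constructor
    · intro hg
      exact (Lib.Cores.le_pCore hkn hker) ((hiff g).mp hg)
    · intro hg
      refine (hiff g).mpr (mem_centralizer_iff.mpr fun v hv => ?_)
      exact hVc v hv _ (mem_map_of_mem π hg)
  · rintro ⟨_, x, hx, rfl⟩
    apply Subtype.ext
    show π x * π x = 1
    rw [← map_mul, hπ, ← pow_two]
    exact hsec.pow x hx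
  · have h1 := hr Q F hsec
    have h3 := card_eq_map_mul π Q
    rw [hπdef, QuotientGroup.ker_mk', inf_eq_right.mpr hFQ] at h3
    rw [h3] at h1
    exact Nat.le_of_mul_le_mul_right h1 Nat.card_pos

/-- **The glue theorem.** -/
theorem five_main (hr : R4 X) (hc : centralizer (pCore 2 X : Set X) ≤ pCore 2 X)
    (hs : ¬ Group.IsSolvable X) {x : X} (hx5 : x ^ 5 = 1) (hx1 : x ≠ 1) :
    ((∀ v ∈ pCore 2 X, v ^ 2 = 1) ∧ Nat.card (pCore 2 X) = 16 ∧
        ∀ v ∈ pCore 2 X, x * v = v * x → v = 1) ∨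
      (IsExtraspecial 2 (pCore 2 X) ∧ Nat.card (pCore 2 X) = 32 ∧
        ∃ z ∈ pCore 2 X, z ≠ 1 ∧ z ^ 2 = 1 ∧ ∀ g : X, g * z = z * g) := by
  have h2 : Fact (Nat.Prime 2) := ⟨Nat.prime_two⟩
  have hp5 : Fact (Nat.Prime 5) := ⟨Nat.prime_five⟩
  have hact := exists_act hr hc
  set Q : Subgroup X := pCore 2 X with hQ
  obtain ⟨F, hFn, φ, hφQ, hV2, hV16⟩ := hact
  have hQn : Q.Normal := Lib.Cores.pCore_normal 2
  have hQp : IsPGroup 2 Q := Lib.Cores.pCore_isPGroup 2
  set ψ := φ.rangeRestrict with hψ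
  have hψQ : ∀ g : X, ψ g = 1 ↔ g ∈ Q := fun g => by
    rw [← hφQ]
    exact ⟨fun h => congrArg Subtype.val h, fun h => Subtype.ext h⟩
  have hψs : Function.Surjective ψ := φ.rangeRestrict_surjective
  have hinj : Function.Injective φ.range.subtype := φ.range.subtype_injective
  have hsY : ¬ Group.IsSolvable φ.range := by
    intro h
    apply hs
    have h3 : Group.IsSolvable Q := by
      have : Group.IsNilpotent Q := hQp.isNilpotent
      infer_instance
    refine Group.isSolvable_of_ker_le_range Q.subtype ψ ?_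
    rw [range_subtype]
    intro g hg
    exact (hψQ g).mp hg
  -- an element of order 5 is not in `Q`
  have hord : orderOf x = 5 := orderOf_eq_prime hx5 hx1
  have hpow : ∀ n : ℕ, ∀ {G : Type _} [Group G] (y : G), y ^ 5 = 1 → y ^ 2 ^ n = 1 → y = 1 := by
    intro n G _ y h5 hn
    have h1 : orderOf y ∣ 5 := orderOf_dvd_of_pow_eq_one h5
    have h3 : orderOf y ∣ 2 ^ n := orderOf_dvd_of_pow_eq_one hn
    have h4 : Nat.Coprime (2 ^ n) 5 := Nat.Coprime.pow_left n (by norm_num)
    have h5 := Nat.dvd_gcd h3 h1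
    rw [h4.gcd_eq_one, Nat.dvd_one] at h5
    exact orderOf_eq_one_iff.mp h5
  have hxQ : x ∉ Q := by
    intro hx
    obtain ⟨n, hn⟩ := hQp ⟨x, hx⟩
    refine hx1 (hpow n x hx5 ?_)
    have := congrArg Subtype.val hn
    simpa using this
  have hψ5 : (ψ x) ^ 5 = 1 := by rw [← map_pow, hx5, map_one]
  have hψ1 : ψ x ≠ 1 := fun h => hxQ ((hψQ x).mp h)
  -- the inverting element
  obtain ⟨a', ha1, ha2⟩ := C2Act.exists_inv hinj hV2 hV16 hsY hψ5 hψ1
  obtain ⟨a, rfl⟩ := hψs a'
  have haa : a * a ∈ Q := by rw [← hψQ, map_mul, ha1]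
  have hax : a * x * a⁻¹ * x ∈ Q := by
    rw [← hψQ, map_mul, map_mul, map_mul, map_inv, ha2, inv_mul_cancel]
  -- the normal closure
  set L : Subgroup X := normalClosure {x} with hL
  have hLn : L.Normal := normalClosure_normal
  have hxL : x ∈ L := subset_normalClosure (Set.mem_singleton x)
  have hmin : ∀ N : Subgroup X, N.Normal → x ∈ N → L ≤ N := by
    intro N hN hxN
    exact normalClosure_le_normal (by rwa [Set.singleton_subset_iff])
  have hxD : x ∈ ⁅L, L⁆ := by
    have h3 := C2Act.mem_commutator hinj hV2 hV16 hsY hψ5 hψ1 (L := L.map ψ) (hLn.map ψ hψs)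
      (mem_map_of_mem ψ hxL)
    rw [← Subgroup.map_commutator] at h3
    obtain ⟨c, hc', h4⟩ := h3
    set D := ⁅L, L⁆ with hD
    have hDn : D.Normal := inferInstance
    have h5 : c⁻¹ * x ∈ Q := by
      rw [← hψQ, map_mul, map_inv, h4, inv_mul_cancel]
    obtain ⟨n, hn⟩ := hQp ⟨_, h5⟩
    have hn' : (c⁻¹ * x) ^ 2 ^ n = 1 := by
      have := congrArg Subtype.val hn
      simpa using this
    have h6 : (QuotientGroup.mk' D) x = (QuotientGroup.mk' D) (c⁻¹ * x) := by
      rw [map_mul, map_inv]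
      have : (QuotientGroup.mk' D) c = 1 := by
        rw [QuotientGroup.mk'_apply, QuotientGroup.eq_one_iff]
        exact hc'
      rw [this, inv_one, one_mul]
    have h7 : (QuotientGroup.mk' D) x = 1 := by
      apply hpow n
      · rw [← map_pow, hx5, map_one]
      · rw [h6, ← map_pow, hn', map_one]
    rwa [QuotientGroup.mk'_apply, QuotientGroup.eq_one_iff] at h7
  have hLL : ⁅L, L⁆ = L := le_antisymm (Subgroup.commutator_le_left L L) (hmin _ inferInstance hxD)
  -- `V = Ω₁(Z(Q))`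
  have hQne : Q ≠ ⊥ := by
    intro h
    apply hxQ
    apply hc
    rw [mem_centralizer_iff]
    intro q hq
    rw [h] at hq
    rw [mem_bot.mp hq, one_mul, mul_one]
  set V := omegaCenter Q with hV
  have hVne : V ≠ ⊥ := omegaCenter_ne_bot hQp hQne
  have hVn : V.Normal := ⟨fun v hv g => omegaCenter_conj hQn hv g⟩
  have hV2' : ∀ v ∈ V, v ^ 2 = 1 := fun v hv => hv.2.1
  have hVc : ∀ v ∈ V, ∀ q ∈ Q, v * q = q * v := fun v hv => hv.2.2
  by_cases hne : ∃ v ∈ V, x * v ≠ v * x
  · left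
    have h1 : Q = V := eq_V hr hQn hVn hQp (fun v hv => hv.1) hV2' hVc hx5 hne haa hax
    obtain ⟨h3, h4⟩ := card_V hr hVn hV2' hx5 hne
    rw [h1]
    exact ⟨hV2', h3, h4⟩
  · right
    push Not at hne
    obtain ⟨z0, hz0⟩ := Subgroup.ne_bot_iff_exists_ne_one.mp hVne
    have hz1 : (z0 : X) ≠ 1 := fun h => hz0 (Subtype.ext h)
    have hLV : L ≤ centralizer (V : Set X) := hmin _ inferInstance
      (mem_centralizer_iff.mpr fun v hv => (hne v hv).symm)
    have hT : TTwo Q L x a z0 := {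
      Qn := hQn, Ln := hLn, pg := hQp
      cl := fun g hg => hc (mem_centralizer_iff.mpr fun q hq => (hg q hq).symm)
      xL := hxL, x5 := hx5, x1 := hx1, perf := hLL, min := hmin, aa := haa, ax := hax
      z0Q := z0.2.1, z01 := hz1
      z0c := fun l hl => (mem_centralizer_iff.mp (hLV hl) z0 z0.2).symm }
    obtain ⟨h1, h3, h4, h5⟩ := hT.main hr
    exact ⟨h1, h3, z0, z0.2.1, hz1, h5, h4⟩

end Cfsg.Agent.GH.C2FiveGlue
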