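import Cfsg.Agent.GH.C2FiveGlue
import Cfsg.Agent.GH.C2Extra

/-!
# GH-C2: the 2-local subgroups of order divisible by 5 in a group of characteristic 2 type

`elem_or_extra` : a nonsolvable subgroup `M` of characteristic 2 and order divisible by 5 has
`O₂(M)` elementary abelian of order 16 and self-centralising, or `Extra32 G`.
-/

set_option autoImplicit false

namespace Cfsg.Agent.GH.C2FiveLocal

open Subgroup Cfsg Cfsg.Agent.GH.C2Five Cfsg.Agent.GH.C2FiveGlue Cfsg.Agent.GH.C2Extra

variable {G : Type*} [Group G] [Finite G]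

omit [Finite G] in
theorem normalizer_zpowers {z : G} (hz : z * z = 1) :
    normalizer ((zpowers z : Subgroup G) : Set G) = centralizer ({z} : Set G) := by
  have hmem : ∀ g : G, g ∈ zpowers z ↔ g = 1 ∨ g = z := by
    intro g
    constructor
    · rintro ⟨n, rfl⟩
      show z ^ n = 1 ∨ z ^ n = z
      have hz2 : z ^ (2 : ℤ) = 1 := by
        rw [show (2 : ℤ) = ((2 : ℕ) : ℤ) by rfl, zpow_natCast, pow_two]; exact hz
      rcases Int.even_or_odd' n with ⟨k, rfl | rfl⟩
      · left
        rw [zpow_mul, hz2, one_zpow]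
      · right
        rw [zpow_add, zpow_mul, hz2, one_zpow, one_mul, zpow_one]
    · rintro (rfl | rfl)
      · exact one_mem _
      · exact mem_zpowers _
  ext g
  rw [mem_normalizer_iff, mem_centralizer_singleton_iff]
  constructor
  · intro h
    rcases (hmem _).mp ((h z).mp (mem_zpowers z)) with h1 | h1
    · have h2 : z = 1 := by
        calc z = g⁻¹ * (g * z * g⁻¹) * g := by group
          _ = 1 := by rw [h1]; group
      rw [h2, mul_one, one_mul]
    · calc g * z = g * z * g⁻¹ * g := by group
        _ = z * g := by rw [h1]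
  · intro h w
    have h3 : g * z * g⁻¹ = z := by rw [h, mul_inv_cancel_right]
    rw [hmem, hmem]
    constructor
    · rintro (rfl | rfl)
      · left; group
      · right; exact h3
    · rintro (h4 | h4)
      · left
        calc w = g⁻¹ * (g * w * g⁻¹) * g := by group
          _ = 1 := by rw [h4]; group
      · right
        calc w = g⁻¹ * (g * w * g⁻¹) * g := by group
          _ = g⁻¹ * (g * z * g⁻¹) * g := by rw [h4, h3]
          _ = z := by group

omit [Finite G] in
/-- centralisers of involutions in a group of characteristic 2 type -/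
theorem char_centralizer (h : IsCharacteristicTwoType G) {z : G} (hz2 : z * z = 1) (hz1 : z ≠ 1) :
    IsOfCharacteristicTwo ↥(centralizer ({z} : Set G)) := by
  have : Fact (Nat.Prime 2) := ⟨Nat.prime_two⟩
  have h1 := h.2 (zpowers z) (IsPGroup.of_card (n := 1) (by
    rw [Nat.card_zpowers, pow_one]
    exact orderOf_eq_prime (by rw [pow_two]; exact hz2) hz1))
    (by rw [Ne, zpowers_eq_bot]; exact hz1)
  rwa [normalizer_zpowers hz2] at h1

/-- **T1 or T2 for 2-locals.** -/
theorem elem_or_extra (hr : SectionalPRankLE 2 4 G) (hG : IsCharacteristicTwoType G) {M : Subgroup G}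
    (hM : IsOfCharacteristicTwo ↥M) (hs : ¬ Group.IsSolvable ↥M) (h5 : 5 ∣ Nat.card M) :
    ((∀ v ∈ pCore 2 ↥M, v ^ 2 = 1) ∧ Nat.card (pCore 2 ↥M) = 16 ∧
      ∀ x : M, x ^ 5 = 1 → x ≠ 1 → ∀ v ∈ pCore 2 ↥M, x * v = v * x → v = 1) ∨ Extra32 G := by
  have h2 : Fact (Nat.Prime 2) := ⟨Nat.prime_two⟩
  have hp5 : Fact (Nat.Prime 5) := ⟨Nat.prime_five⟩
  have hr4 : R4 G := r4_iff.mpr hr
  obtain ⟨x, hx⟩ := exists_prime_orderOf_dvd_card' 5 h5
  have hx5 : x ^ 5 = 1 := by rw [← hx]; exact pow_orderOf_eq_one x
  have hx1 : x ≠ 1 := by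
    intro h
    rw [h, orderOf_one] at hx
    exact absurd hx (by norm_num)
  rcases five_main (r4_subgroup hr4 M) hM hs hx5 hx1 with ⟨h1, h3, -⟩ | ⟨-, -, z, hz, hz1, hz2, hzc⟩
  · left
    refine ⟨h1, h3, fun y hy5 hy1 => ?_⟩
    rcases five_main (r4_subgroup hr4 M) hM hs hy5 hy1 with ⟨-, -, h⟩ | ⟨-, h4, -⟩
    · exact h
    · rw [h3] at h4
      exact absurd h4 (by norm_num)
  · right
    have hz1' : (z : G) ≠ 1 := fun h => hz1 (Subtype.ext h)
    have hz2' : (z : G) * z = 1 := by
      have := congrArg Subtype.val hz2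
      rw [pow_two] at this
      exact this
    have hzo : orderOf (z : G) = 2 := orderOf_eq_prime (by rw [pow_two]; exact hz2') hz1'
    set C := centralizer ({(z : G)} : Set G) with hC
    have hMC : M ≤ C := by
      intro m hm
      rw [hC, mem_centralizer_singleton_iff]
      exact congrArg Subtype.val (hzc ⟨m, hm⟩)
    have hCc : IsOfCharacteristicTwo ↥C := char_centralizer hG hz2' hz1'
    have hCs : ¬ Group.IsSolvable ↥C := by
      intro h
      exact hs (Group.isSolvable_of_isSolvable_injective (Subgroup.inclusion_injective hMC))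
    have hzC : (z : G) ∈ C := mem_centralizer_singleton_iff.mpr rfl
    rcases five_main (r4_subgroup hr4 C) hCc hCs (x := ⟨x, hMC x.2⟩)
      (Subtype.ext (by
        show (x : G) ^ 5 = 1
        exact congrArg Subtype.val hx5)) (fun h => hx1 (Subtype.ext (by
        have h6 : (x : G) = 1 := congrArg (fun c : C => (c : G)) h
        exact h6)))
      with ⟨-, -, h⟩ | ⟨h1, h3, -⟩
    · exfalso
      apply hz1'
      have hn : (zpowers (⟨z, hzC⟩ : C)).Normal := by
        constructor
        rintro _ ⟨n, rfl⟩ g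
        have h4 : Commute g ((⟨z, hzC⟩ : C) ^ n) := by
          apply Commute.zpow_right
          exact Subtype.ext (mem_centralizer_singleton_iff.mp g.2)
        show g * (⟨z, hzC⟩ : C) ^ n * g⁻¹ ∈ _
        rw [h4.eq, mul_inv_cancel_right]
        exact ⟨n, rfl⟩
      have hp : IsPGroup 2 (zpowers (⟨z, hzC⟩ : C)) := IsPGroup.of_card (n := 1) (by
        rw [Nat.card_zpowers, pow_one]
        rw [← Subgroup.orderOf_coe]
        exact hzo)
      have h5 := h ⟨z, hzC⟩ (Lib.Cores.le_pCore hn hp (mem_zpowers _)) (Subtype.ext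
        (mem_centralizer_singleton_iff.mp (hMC x.2)))
      exact congrArg Subtype.val h5
    · have hF : generalizedFittingSubgroup ↥C = pCore 2 ↥C :=
        SignalizersComponents.CharP.genFitting_eq_pCore_iff.2 hCc
      refine ⟨z, hzo, ?_, ?_, ?_⟩
      · rw [hF]
        exact isOfSymplecticType h1 (by rw [h3]; norm_num)
      · rw [hF]
        exact h1
      · rw [hF]
        exact h3

end Cfsg.Agent.GH.C2FiveLocal
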