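import Cfsg.Agent.GH.C2FiveLocal
import Cfsg.Agent.GH.C2Frame

/-!
# GH-C2: the maximal nonsolvable 2-local `M`, `5 ∣ |M|`

`MaxLocal` situation: `V = O₂(M)` is elementary abelian of order 16 (or `Extra32 G`), and the action of
`M` on `V` as an injective homomorphism.
-/

set_option autoImplicit false

namespace Cfsg.Agent.GH.C2FiveMax

open Subgroup Cfsg Cfsg.Agent.GH.C2Five Cfsg.Agent.GH.C2FiveGlue Cfsg.Agent.GH.C2Extra
open Cfsg.Agent.GH.C2Frame Cfsg.Agent.GH.C2FiveLocal
open Cfsg.Agent.ZN (o2)

variable {G : Type*} [Group G]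

/-- `V` is elementary abelian of order 16, self-centralising, `M = N_G(V)` is not solvable, `T` is a Sylow
2-subgroup of `M`, and elements of order 5 of `M` act fixed point freely. -/
structure Five (M T V : Subgroup G) : Prop where
  ml : MaxLocal M T
  eqV : V = o2 M
  sq : ∀ v ∈ V, v * v = 1
  card : Nat.card V = 16
  five : 5 ∣ Nat.card M
  fpf : ∀ x ∈ M, x ^ 5 = 1 → x ≠ 1 → ∀ v ∈ V, x * v * x⁻¹ = v → v = 1

/-- **The five-side, first step.** -/
theorem exists_five [Finite G] (hr : SectionalPRankLE 2 4 G) (hG : IsCharacteristicTwoType G)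
    {M T : Subgroup G} (h : MaxLocal M T) (h5 : 5 ∣ Nat.card M) :
    Five M T (o2 M) ∨ Extra32 G := by
  have hM : IsOfCharacteristicTwo ↥M := by
    have h1 := hG.2 (o2 M) (MinSimple.VModule.o2_isPGroup M) h.ne
    rwa [h.eq] at h1
  rcases elem_or_extra hr hG hM h.ns h5 with ⟨h1, h2, h3⟩ | h1
  · left
    refine ⟨h, rfl, ?_, ?_, h5, ?_⟩
    · rintro _ ⟨v, hv, rfl⟩
      have h4 := h1 v hv
      rw [pow_two] at h4
      exact congrArg Subtype.val h4
    · rw [← h2]
      exact Subgroup.card_map_of_injective M.subtype_injective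
    · rintro x hxM hx5 hx1 _ ⟨v, hv, rfl⟩ hxv
      have h4 := h3 ⟨x, hxM⟩ (Subtype.ext hx5) (fun h => hx1 (congrArg Subtype.val h)) v hv
        (Subtype.ext (mul_inv_eq_iff_eq_mul.mp hxv))
      exact congrArg Subtype.val h4
  · exact Or.inr h1

namespace Five

variable {M T V : Subgroup G} (h : Five M T V)

include h

theorem le_norm : M ≤ normalizer (V : Set G) := by
  rw [h.eqV, h.ml.eq]

theorem eq_norm : M = normalizer (V : Set G) := by
  rw [h.eqV, h.ml.eq]

theorem leM : V ≤ M := by
  rw [h.eqV]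
  exact map_subtype_le _

theorem leT [Finite G] : V ≤ T := by
  rw [h.eqV]
  exact h.ml.o2_le_T

theorem cent {g : G} (hg : ∀ v ∈ V, g * v = v * g) : g ∈ V := by
  rw [h.eqV] at hg ⊢
  exact h.ml.cent_le (mem_centralizer_iff.mpr fun v hv => (hg v hv).symm)

end Five

/-- the action of `M` on `V` by conjugation -/
def act {M V : Subgroup G} (hM : M ≤ normalizer (V : Set G)) : M →* MulAut V :=
  V.normalizerMonoidHom.comp (Subgroup.inclusion hM)

theorem act_apply {M V : Subgroup G} (hM : M ≤ normalizer (V : Set G)) (g : M) (v : V) :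
    ((act hM g v : V) : G) = g * v * (g : G)⁻¹ := rfl

theorem act_eq_one {M V : Subgroup G} (hM : M ≤ normalizer (V : Set G)) {g : M} :
    act hM g = 1 ↔ ∀ v ∈ V, (g : G) * v = v * g := by
  constructor
  · intro h v hv
    have h1 := congrArg (fun f : MulAut V => ((f ⟨v, hv⟩ : V) : G)) h
    change (g : G) * v * (g : G)⁻¹ = v at h1
    exact mul_inv_eq_iff_eq_mul.mp h1
  · intro h
    ext v
    rw [act_apply]
    show (g : G) * v * (g : G)⁻¹ = v
    rw [h v v.2, mul_inv_cancel_right]

namespace Five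

variable {M T V : Subgroup G} (h : Five M T V)

/-- the group of automorphisms of `V` induced by `M` -/
abbrev Y : Subgroup (MulAut V) := (act h.le_norm).range

/-- the projection of `M` -/
abbrev pr : M →* h.Y := (act h.le_norm).rangeRestrict

theorem pr_surj : Function.Surjective h.pr := (act h.le_norm).rangeRestrict_surjective

/-- `M → Y` has kernel `V` -/
theorem pr_eq_one (g : M) : h.pr g = 1 ↔ (g : G) ∈ V := by
  have h1 : h.pr g = 1 ↔ act h.le_norm g = 1 :=
    ⟨fun h => congrArg Subtype.val h, fun h => Subtype.ext h⟩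
  rw [h1, act_eq_one]
  constructor
  · intro h2
    exact h.cent h2
  · intro hg v hv
    have e : ∀ v ∈ V, v⁻¹ = v := fun v hv => inv_eq_of_mul_eq_one_left (h.sq v hv)
    have h2 := e _ (V.mul_mem hg hv)
    rw [mul_inv_rev, e _ hg, e _ hv] at h2
    exact h2.symm

/-- the action of `Y` on `V` -/
theorem Y_apply (g : M) (v : V) : (((h.pr g : MulAut V) v : V) : G) = g * v * (g : G)⁻¹ := rfl

theorem not_solvable : ¬ Group.IsSolvable h.Y := by
  intro hs
  apply h.ml.ns
  have h3 : Group.IsSolvable V := Group.isSolvable_of_comm (fun a b => by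
    have e : ∀ v : V, v⁻¹ = v := fun v => inv_eq_of_mul_eq_one_left (Subtype.ext (h.sq v v.2))
    have h2 := e (a * b)
    rw [mul_inv_rev, e a, e b] at h2
    exact h2.symm)
  refine Group.isSolvable_of_ker_le_range (Subgroup.inclusion h.leM) h.pr ?_
  intro g hg
  exact ⟨⟨g, (h.pr_eq_one g).mp hg⟩, rfl⟩

theorem five_dvd : 5 ∣ Nat.card h.Y := by
  have h1 := Subgroup.card_mul_index h.pr.ker
  rw [Subgroup.index_ker, MonoidHom.range_eq_top.mpr h.pr_surj, Subgroup.card_top] at h1
  have h2 : 5 ∣ Nat.card h.pr.ker * Nat.card h.Y := by rw [h1]; exact h.five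
  rcases Nat.prime_five.dvd_mul.mp h2 with h3 | h3
  · exfalso
    have h4 : Nat.card h.pr.ker = 16 := by
      rw [← h.card, ← Subgroup.card_map_of_injective M.subtype_injective]
      have h5 : h.pr.ker.map M.subtype = V := by
        ext g
        constructor
        · rintro ⟨k, hk, rfl⟩
          exact (h.pr_eq_one k).mp hk
        · intro hg
          exact ⟨⟨g, h.leM hg⟩, (h.pr_eq_one _).mpr hg, rfl⟩
      rw [h5]
    rw [h4] at h3
    revert h3
    norm_num
  · exact h3

/-- the order of a preimage -/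
theorem card_comap [Finite G] (P : Subgroup h.Y) : Nat.card (P.comap h.pr) = 16 * Nat.card P := by
  have h1 := GH.Rank.card_comap_of_surjective h.pr h.pr_surj P
  have h4 : Nat.card h.pr.ker = 16 := by
    rw [← h.card, ← Subgroup.card_map_of_injective M.subtype_injective]
    have h5 : h.pr.ker.map M.subtype = V := by
      ext g
      constructor
      · rintro ⟨k, hk, rfl⟩
        exact (h.pr_eq_one k).mp hk
      · intro hg
        exact ⟨⟨g, h.leM hg⟩, (h.pr_eq_one _).mpr hg, rfl⟩
    rw [h5]
  rw [h1, h4]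

end Five

end Cfsg.Agent.GH.C2FiveMax
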