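import Cfsg.Agent.GH.C2Grow256B

/-!
# GH-C2, growth, order 256, steps (4) and (5)

`dead`: a group of characteristic 2 type and sectional 2-rank at most 4, without subgroups of index 2, whose
2-locals of order divisible by 256 are solvable, does not have the Sylow 2-subgroup `UT₃(4)⟨s, t⟩` of order 256
with `r` in `G` and all involutions of `V` conjugate.
-/

set_option autoImplicit false
set_option linter.constructorNameAsVariable false

namespace Cfsg.Agent.GH.C2Grow256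

open Subgroup Cfsg Cfsg.Agent.ZN Cfsg.Agent.MinSimple.MinParabolic Cfsg.Agent.MinSimple.VModule
open Cfsg.Agent.MinSimple.Basic
open Cfsg.Agent.J2Sylow.Model Cfsg.Agent.GH.C2Rel Cfsg.Agent.GH.C2Mod Cfsg.Agent.GH.C2Hom

universe u

variable {G : Type u} [Group G] {φ : M →* G} {r : G}

/-- Orbit bound. -/
theorem card_le_orbit [Finite G] {P : Subgroup G} (x : G) (s : Finset G)
    (hs : ∀ p ∈ P, p * x * p⁻¹ ∈ s) :
    Nat.card P ≤ s.card * Nat.card ↥(P ⊓ centralizer ({x} : Set G)) := by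
  set K := P ⊓ centralizer ({x} : Set G) with hK
  have h1 : Nat.card K * (K.subgroupOf P).index = Nat.card P := by
    rw [← Nat.card_congr (subgroupOfEquivOfLe (inf_le_left : K ≤ P)).toEquiv]
    exact card_mul_index _
  have h2 : (K.subgroupOf P).index ≤ s.card := by
    let f : P ⧸ K.subgroupOf P → s := fun q => ⟨(q.out : G) * x * (q.out : G)⁻¹, hs _ q.out.2⟩
    have hf : Function.Injective f := by
      intro q q' hq
      have h3 : (q.out : G) * x * (q.out : G)⁻¹ = (q'.out : G) * x * (q'.out : G)⁻¹ :=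
        congrArg Subtype.val hq
      rw [← QuotientGroup.out_eq' q, ← QuotientGroup.out_eq' q', QuotientGroup.eq, mem_subgroupOf]
      refine mem_inf.mpr ⟨((q.out)⁻¹ * q'.out).2, ?_⟩
      rw [mem_centralizer_singleton_iff]
      show (q.out : G)⁻¹ * q'.out * x = x * ((q.out : G)⁻¹ * q'.out)
      calc (q.out : G)⁻¹ * q'.out * x = (q.out : G)⁻¹ * (q'.out * x * (q'.out : G)⁻¹) * q'.out := by
            group
        _ = (q.out : G)⁻¹ * (q.out * x * (q.out : G)⁻¹) * q'.out := by rw [h3]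
        _ = x * ((q.out : G)⁻¹ * q'.out) := by group
    have h4 := Nat.card_le_card_of_injective f hf
    rw [Nat.card_eq_fintype_card (α := s), Fintype.card_coe] at h4
    exact h4
  calc Nat.card P = Nat.card K * (K.subgroupOf P).index := h1.symm
    _ ≤ Nat.card K * s.card := Nat.mul_le_mul_left _ h2
    _ = s.card * Nat.card K := mul_comm _ _

theorem mem_map_MU {g : G} : g ∈ MU.map φ ↔ ∃ c, φ (M.zz c) = g ∨
    φ ⟨0, 0, c, true, false⟩ = g := by
  rw [mem_map]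
  constructor
  · rintro ⟨x, hx, rfl⟩
    obtain ⟨c, rfl | rfl⟩ := mem_MU'.mp hx
    · exact ⟨c, Or.inl rfl⟩
    · exact ⟨c, Or.inr rfl⟩
  · rintro ⟨c, rfl | rfl⟩
    · exact ⟨_, mem_MU'.mpr ⟨c, Or.inl rfl⟩, rfl⟩
    · exact ⟨_, mem_MU'.mpr ⟨c, Or.inr rfl⟩, rfl⟩

/-- `C_G(t)` has a subgroup of order 256. -/
theorem exists_256 [Finite G] (S : Sylow 2 G) (h : Ctx (S : Subgroup G) φ r) {g : G}
    (hg : g * φ M.τ * g⁻¹ = φ (M.zz 1)) :
    ∃ P : Subgroup G, P ≤ centralizer ({φ M.τ} : Set G) ∧ Nat.card P = 256 := by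
  refine ⟨(S : Subgroup G).map (MulAut.conj g⁻¹).toMonoidHom, ?_, ?_⟩
  · rintro _ ⟨x, hx, rfl⟩
    have e : (MulAut.conj g⁻¹).toMonoidHom x = g⁻¹ * x * g⁻¹⁻¹ := rfl
    rw [e, inv_inv, mem_centralizer_singleton_iff]
    obtain ⟨m, rfl⟩ := (h.mem x).mp hx
    have k : ∀ m : M, m * M.zz 1 = M.zz 1 * m := by decide
    have h1 : φ m * φ (M.zz 1) = φ (M.zz 1) * φ m := by rw [← map_mul, ← map_mul, k]
    have h2 : φ M.τ = g⁻¹ * φ (M.zz 1) * g := by rw [← hg]; group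
    rw [h2]
    calc g⁻¹ * φ m * g * (g⁻¹ * φ (M.zz 1) * g) = g⁻¹ * (φ m * φ (M.zz 1)) * g := by group
      _ = g⁻¹ * (φ (M.zz 1) * φ m) * g := by rw [h1]
      _ = g⁻¹ * φ (M.zz 1) * g * (g⁻¹ * φ m * g) := by group
  · rw [card_map_of_injective (MulAut.conj g⁻¹).injective, card_S h]

/-- Step (4), first half: `U < O₂(C_G(t))`. -/
theorem not_le_U [Finite G] (S : Sylow 2 G) (h : Ctx (S : Subgroup G) φ r) {g : G}
    (hg : g * φ M.τ * g⁻¹ = φ (M.zz 1))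
    (hc : centralizer ({φ M.τ} : Set G) ⊓ centralizer (o2 (centralizer ({φ M.τ} : Set G)) : Set G) ≤
      o2 (centralizer ({φ M.τ} : Set G)))
    (hU : MU.map φ ≤ o2 (centralizer ({φ M.τ} : Set G))) :
    ¬ o2 (centralizer ({φ M.τ} : Set G)) ≤ MU.map φ := by
  classical
  intro hle
  have heq : o2 (centralizer ({φ M.τ} : Set G)) = MU.map φ := le_antisymm hle hU
  obtain ⟨P, hP, hcard⟩ := exists_256 S h hg
  have hn : ∀ p ∈ P, ∀ m ∈ MU, ∃ m' ∈ MU, p * φ m * p⁻¹ = φ m' := by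
    intro p hp m hm
    have h1 := C2GrowG.conj_mem (le_normalizer_o2 _ (hP hp)) (hU ⟨m, hm, rfl⟩)
    rw [heq] at h1
    obtain ⟨m', h2, h3⟩ := h1
    exact ⟨m', h2, h3.symm⟩
  let s1 : Finset G := (Finset.univ.filter fun m : M =>
    (m.a = 0 ∧ m.b = 0 ∧ m.s = false) ∧ m ≠ 1 ∧ m ≠ M.τ).image φ
  let s2 : Finset G := (Finset.univ.filter fun m : M =>
    (m.a = 0 ∧ m.b = 0 ∧ m.s = false) ∧ m ≠ 1 ∧ m ≠ M.τ ∧ m ≠ M.zz 1 ∧
      m ≠ ⟨0, 0, 1, true, false⟩).image φ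
  have hs1 : s1.card ≤ 6 := by
    refine Finset.card_image_le.trans ?_
    decide +kernel
  have hs2 : s2.card ≤ 4 := by
    refine Finset.card_image_le.trans ?_
    decide +kernel
  have hτ : ∀ p ∈ P, p * φ M.τ * p⁻¹ = φ M.τ := fun p hp => by
    rw [mem_centralizer_singleton_iff.mp (hP hp)]; group
  have hP1 : ∀ p ∈ P, p * φ (M.zz 1) * p⁻¹ ∈ s1 := by
    intro p hp
    obtain ⟨m', h1, h2⟩ := hn p hp (M.zz 1) (mem_MU'.mpr ⟨1, Or.inl rfl⟩)
    rw [h2]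
    refine Finset.mem_image_of_mem _ (Finset.mem_filter.mpr ⟨Finset.mem_univ _, h1, ?_, ?_⟩)
    · rintro rfl
      have h3 : φ (M.zz 1) = 1 := by
        have : φ (M.zz 1) = p⁻¹ * (p * φ (M.zz 1) * p⁻¹) * p := by group
        rw [this, h2, map_one]; group
      exact absurd (h.inj (h3.trans (map_one φ).symm)) (by decide)
    · rintro rfl
      have h3 : φ (M.zz 1) = φ M.τ := by
        have e1 : φ (M.zz 1) = p⁻¹ * (p * φ (M.zz 1) * p⁻¹) * p := by group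
        rw [e1, h2]
        calc p⁻¹ * φ M.τ * p = p⁻¹ * (p * φ M.τ * p⁻¹) * p := by rw [hτ p hp]
          _ = φ M.τ := by group
      exact absurd (h.inj h3) (by decide)
  have h1 := card_le_orbit _ s1 hP1
  set P1 := P ⊓ centralizer ({φ (M.zz 1)} : Set G) with hP1d
  have hP2 : ∀ p ∈ P1, p * φ (M.zz F4.w) * p⁻¹ ∈ s2 := by
    intro p hp
    have hpP : p ∈ P := (mem_inf.mp hp).1
    have hpz : p * φ (M.zz 1) * p⁻¹ = φ (M.zz 1) := by
      rw [mem_centralizer_singleton_iff.mp (mem_inf.mp hp).2]; group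
    obtain ⟨m', h1, h2⟩ := hn p hpP (M.zz F4.w) (mem_MU'.mpr ⟨F4.w, Or.inl rfl⟩)
    have hne : ∀ n : M, p * φ n * p⁻¹ = φ n → n ≠ M.zz F4.w → m' ≠ n := by
      rintro n hn1 hn2 rfl
      apply hn2
      apply h.inj
      have e1 : φ (M.zz F4.w) = p⁻¹ * (p * φ (M.zz F4.w) * p⁻¹) * p := by group
      rw [e1, h2]
      calc φ m' = p⁻¹ * (p * φ m' * p⁻¹) * p := by group
        _ = p⁻¹ * φ m' * p := by rw [hn1]
    rw [h2]
    refine Finset.mem_image_of_mem _ (Finset.mem_filter.mpr ⟨Finset.mem_univ _, h1, ?_, ?_, ?_, ?_⟩)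
    · exact hne 1 (by rw [map_one]; group) (by decide)
    · exact hne M.τ (hτ p hpP) (by decide)
    · exact hne (M.zz 1) hpz (by decide)
    · refine hne ⟨0, 0, 1, true, false⟩ ?_ (by decide)
      have e : (⟨0, 0, 1, true, false⟩ : M) = M.zz 1 * M.τ := rfl
      rw [e, map_mul]
      calc p * (φ (M.zz 1) * φ M.τ) * p⁻¹ = (p * φ (M.zz 1) * p⁻¹) * (p * φ M.τ * p⁻¹) := by group
        _ = φ (M.zz 1) * φ M.τ := by rw [hpz, hτ p hpP]
  have h2 := card_le_orbit _ s2 hP2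
  have h3 : P1 ⊓ centralizer ({φ (M.zz F4.w)} : Set G) ≤ MU.map φ := by
    intro p hp
    rw [← heq]
    apply hc
    have hpP : p ∈ P := (mem_inf.mp (mem_inf.mp hp).1).1
    refine mem_inf.mpr ⟨hP hpP, ?_⟩
    rw [heq, mem_centralizer_iff]
    have e1 := mem_centralizer_singleton_iff.mp (mem_inf.mp (mem_inf.mp hp).1).2
    have e2 := mem_centralizer_singleton_iff.mp (mem_inf.mp hp).2
    have e3 := mem_centralizer_singleton_iff.mp (hP hpP)
    have e4 : ∀ c, p * φ (M.zz c) = φ (M.zz c) * p := by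
      intro c
      cases c
      · have : φ (M.zz F4.o) = 1 := map_one φ
        rw [this]; group
      · exact e1
      · exact e2
      · have e : M.zz F4.u = M.zz 1 * M.zz F4.w := rfl
        rw [e, map_mul, ← mul_assoc, e1, mul_assoc, e2, mul_assoc]
    rintro z ⟨m, hm, rfl⟩
    obtain ⟨c, rfl | rfl⟩ := mem_MU'.mp hm
    · exact (e4 c).symm
    · have e : (⟨0, 0, c, true, false⟩ : M) = M.zz c * M.τ := by
        revert c; intro c _; cases c <;> rfl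
      rw [e, map_mul, mul_assoc, ← e3, ← mul_assoc, ← e4, mul_assoc]
  have h4 := Subgroup.card_le_of_le h3
  rw [card_map_of_injective h.inj, card_MU] at h4
  rw [hcard] at h1
  have h5 : 256 ≤ 6 * (4 * 8) := calc
    256 ≤ s1.card * Nat.card P1 := h1
    _ ≤ 6 * (4 * 8) := Nat.mul_le_mul hs1 (h2.trans (Nat.mul_le_mul hs2 h4))
  omega

/-- Step (4), second half: some `g ∈ N_G(U)` maps `t` to `z`. -/
theorem exists_swap_z [Finite G] (S : Sylow 2 G) (h : Ctx (S : Subgroup G) φ r)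
    (hr : SectionalPRankLE 2 4 G) {g₀ : G} (hg₀ : g₀ * φ M.τ * g₀⁻¹ = φ (M.zz 1))
    (hcN : normalizer (MZ.map φ : Set G) ⊓ centralizer (o2 (normalizer (MZ.map φ : Set G)) : Set G) ≤
      o2 (normalizer (MZ.map φ : Set G)))
    (hs : Group.IsSolvable (centralizer ({φ M.τ} : Set G)))
    (hc : centralizer ({φ M.τ} : Set G) ⊓ centralizer (o2 (centralizer ({φ M.τ} : Set G)) : Set G) ≤
      o2 (centralizer ({φ M.τ} : Set G))) :
    MU.map φ ≤ o2 (centralizer ({φ M.τ} : Set G)) ∧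
      ∃ g ∈ normalizer (MU.map φ : Set G), g * φ M.τ * g⁻¹ = φ (M.zz 1) := by
  set H := centralizer ({φ M.τ} : Set G) with hH
  set Q := o2 H with hQ
  have hQ2 : IsPGroup 2 Q := o2_isPGroup H
  have hrH : r ∈ H := mem_centralizer_singleton_iff.mpr h.rt
  have hQr : ∀ q ∈ Q, r * q * r⁻¹ ∈ Q := fun q hq => C2GrowG.conj_mem (le_normalizer_o2 H hrH) hq
  have hτH : φ M.τ ∈ H := mem_centralizer_singleton_iff.mpr rfl
  have hcomm : ∀ m : M, m * M.τ = M.τ * m → φ m ∈ H := fun m hm =>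
    mem_centralizer_singleton_iff.mpr (by rw [← map_mul, ← map_mul, hm])
  have hzH : ∀ c, φ (M.zz c) ∈ H := by
    intro c
    apply hcomm
    revert c
    decide
  have hτQ : φ M.τ ∈ Q := by
    apply hc
    refine mem_inf.mpr ⟨hτH, mem_centralizer_iff.mpr fun q hq => ?_⟩
    exact mem_centralizer_singleton_iff.mp (o2_le H hq)
  have hz1 : φ (M.zz 1) ∈ Q := by
    have e1 := r_zz h 1
    have e2 := r_zz h (F4.u * 1)
    refine AFour.mem_o2 hr hs hc (hzH 1) hrH ?_ ?_ ?_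
    · rw [← map_mul, show M.zz 1 * M.zz 1 = 1 from rfl, map_one]
    · rw [e1, ← map_mul, ← map_mul]; rfl
    · rw [e1, e2, ← map_mul]; rfl
  have hzu : φ (M.zz F4.u) ∈ Q := by
    have e1 := hQr _ hz1
    rw [r_zz h] at e1
    exact e1
  have hzw : φ (M.zz F4.w) ∈ Q := by
    have e1 := hQr _ hzu
    rw [r_zz h] at e1
    exact e1
  have hzQ : ∀ c, φ (M.zz c) ∈ Q := by
    intro c
    cases c
    · have : φ (M.zz F4.o) = 1 := map_one φ
      rw [this]; exact one_mem _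
    · exact hz1
    · exact hzw
    · exact hzu
  have hUQ : MU.map φ ≤ Q := by
    intro x hx
    obtain ⟨c, rfl | rfl⟩ := mem_map_MU.mp hx
    · exact hzQ c
    · have e : ∀ c : F4, (⟨0, 0, c, true, false⟩ : M) = M.zz c * M.τ := by decide
      rw [e, map_mul]
      exact mul_mem (hzQ c) hτQ
  refine ⟨hUQ, ?_⟩
  have hnle := not_le_U S h hg₀ hc hUQ
  have hU2 : IsPGroup 2 (MU.map φ) := hQ2.to_le hUQ
  obtain ⟨y, hyQ, hyU, hyn⟩ := C2GrowG.exists_mem_normalizer hQ2 hU2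
    (hUQ.trans ((o2_le H).trans (le_normalizer_o2 H))) hnle
  have hrU : r ∈ normalizer (MU.map φ : Set G) := by
    apply C2GrowG.mem_normalizer_of
    intro x hx
    obtain ⟨c, rfl | rfl⟩ := mem_map_MU.mp hx
    · rw [r_zz h]
      exact mem_map_MU.mpr ⟨_, Or.inl rfl⟩
    · rw [r_conj' h]
      exact mem_map_MU.mpr ⟨F4.u * c, Or.inr (by
        congr 1)⟩
  -- some element of `N_Q(U)` does not normalise `Z₀`
  obtain ⟨y, hyQ, hyn, hyN⟩ : ∃ y ∈ Q, y ∈ normalizer (MU.map φ : Set G) ∧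
      y ∉ normalizer (MZ.map φ : Set G) := by
    by_contra hcon
    push Not at hcon
    have hP2 : IsPGroup 2 (Q ⊓ normalizer (MU.map φ : Set G) : Subgroup G) := hQ2.to_le inf_le_left
    have h1 := cent_of_r h hP2 (fun p hp => hcon p (mem_inf.mp hp).1 (mem_inf.mp hp).2)
      (fun p hp => mem_inf.mpr ⟨hQr p (mem_inf.mp hp).1,
        mul_mem (mul_mem hrU (mem_inf.mp hp).2) (inv_mem hrU)⟩)
    have h2 := le_U S h hcN hP2 h1
      (fun p hp => mem_centralizer_singleton_iff.mp (o2_le H (mem_inf.mp hp).1))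
      (mem_inf.mpr ⟨hτQ, le_normalizer (mem_map_MU.mpr ⟨0, Or.inr rfl⟩)⟩)
    exact hyU (h2 (mem_inf.mpr ⟨hyQ, hyn⟩))
  obtain ⟨c, c', hcc⟩ : ∃ c c', y * φ (M.zz c) * y⁻¹ = φ ⟨0, 0, c', true, false⟩ := by
    by_contra hcon
    push Not at hcon
    apply hyN
    apply C2GrowG.mem_normalizer_of
    intro x hx
    obtain ⟨c, rfl⟩ := mem_map_MZ.mp hx
    have h1 := C2GrowG.conj_mem hyn (mem_map_MU.mpr ⟨c, Or.inl rfl⟩ : φ (M.zz c) ∈ MU.map φ)
    obtain ⟨c', h2 | h2⟩ := mem_map_MU.mp h1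
    · rw [← h2]; exact mem_map_MZ.mpr ⟨_, rfl⟩
    · exact absurd h2.symm (hcon c c')
  have hc0 : c ≠ 0 := by
    rintro rfl
    rw [show M.zz 0 = 1 from rfl, map_one] at hcc
    have h1 : φ ⟨0, 0, c', true, false⟩ = φ 1 := by rw [← hcc, map_one]; group
    exact Bool.noConfusion (congrArg M.t (h.inj h1))
  obtain ⟨ρ, hρU, hρ⟩ : ∃ ρ ∈ normalizer (MU.map φ : Set G), ρ * φ (M.zz 1) * ρ⁻¹ = φ (M.zz c) := by
    cases c
    · exact absurd rfl hc0
    · exact ⟨1, one_mem _, by group; rfl⟩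
    · refine ⟨r * r, mul_mem hrU hrU, ?_⟩
      have e1 := r_zz h 1
      have e2 := r_zz h (F4.u * 1)
      calc r * r * φ (M.zz 1) * (r * r)⁻¹ = r * (r * φ (M.zz 1) * r⁻¹) * r⁻¹ := by group
        _ = φ (M.zz F4.w) := by rw [e1, e2]; rfl
    · exact ⟨r, hrU, r_zz h 1⟩
  have k1 : ∀ c' : F4, ∃ a : F4, (⟨a, a, 0, false, false⟩ : M) * ⟨0, 0, c', true, false⟩ *
      (⟨a, a, 0, false, false⟩ : M)⁻¹ = M.τ := by decide
  have k2 : ∀ a c : F4, (⟨a, a, 0, false, false⟩ : M) * M.zz c * (⟨a, a, 0, false, false⟩ : M)⁻¹ =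
      M.zz c := by decide
  have k3 : ∀ a c : F4, (⟨a, a, 0, false, false⟩ : M) * ⟨0, 0, c, true, false⟩ *
      (⟨a, a, 0, false, false⟩ : M)⁻¹ = ⟨0, 0, c + a * a, true, false⟩ := by decide
  obtain ⟨a, ha⟩ := k1 c'
  set b : G := φ ⟨a, a, 0, false, false⟩ with hb
  have hbU : b ∈ normalizer (MU.map φ : Set G) := by
    apply C2GrowG.mem_normalizer_of
    intro x hx
    obtain ⟨c, rfl | rfl⟩ := mem_map_MU.mp hx
    · rw [hb, ← map_mul, ← map_inv, ← map_mul, k2]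
      exact mem_map_MU.mpr ⟨_, Or.inl rfl⟩
    · rw [hb, ← map_mul, ← map_inv, ← map_mul, k3]
      exact mem_map_MU.mpr ⟨_, Or.inr rfl⟩
  have hbt : b * φ ⟨0, 0, c', true, false⟩ * b⁻¹ = φ M.τ := by
    rw [hb, ← map_mul, ← map_inv, ← map_mul, ha]
  refine ⟨(b * y * ρ)⁻¹, inv_mem (mul_mem (mul_mem hbU hyn) hρU), ?_⟩
  have h1 : φ M.τ = b * y * ρ * φ (M.zz 1) * (b * y * ρ)⁻¹ := by
    calc φ M.τ = b * (y * (ρ * φ (M.zz 1) * ρ⁻¹) * y⁻¹) * b⁻¹ := by rw [hρ, hcc, hbt]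
      _ = b * y * ρ * φ (M.zz 1) * (b * y * ρ)⁻¹ := by group
  rw [h1]; group

/-- Step (5), first half: `C_G(z)` normalises `Z₀`. -/
theorem centralizer_z_le [Finite G] (S : Sylow 2 G) (h : Ctx (S : Subgroup G) φ r)
    (hU : MU.map φ ≤ o2 (centralizer ({φ (M.zz 1)} : Set G))) :
    centralizer ({φ (M.zz 1)} : Set G) ≤ normalizer (MZ.map φ : Set G) := by
  set H := centralizer ({φ (M.zz 1)} : Set G) with hH
  set W := o2 H with hW
  have hSH : (S : Subgroup G) ≤ H := by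
    intro x hx
    obtain ⟨m, rfl⟩ := (h.mem x).mp hx
    rw [hH, mem_centralizer_singleton_iff, ← map_mul, ← map_mul]
    have k : ∀ m : M, m * M.zz 1 = M.zz 1 * m := by decide
    rw [k]
  have hWS : W ≤ S := o2_le_of_sylow S.isPGroup' (not_dvd_relIndex S hSH)
  have hWn : ∀ g ∈ H, ∀ w ∈ W, g * w * g⁻¹ ∈ W := fun g hg w hw =>
    C2GrowG.conj_mem (le_normalizer_o2 H hg) hw
  have hzW : ∀ c, φ (M.zz c) ∈ W := fun c => hU (mem_map_MU.mpr ⟨c, Or.inl rfl⟩)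
  have hτW : φ M.τ ∈ W := hU (mem_map_MU.mpr ⟨0, Or.inr rfl⟩)
  have hB : ∀ a : F4, φ ⟨a, a, 0, false, false⟩ ∈ W := by
    intro a
    have k : ∀ a : F4, (⟨a, a, 0, false, false⟩ : M) = M.zz (a * a) * ((⟨a, 0, 0, false, false⟩ : M) *
        M.τ * (⟨a, 0, 0, false, false⟩ : M)⁻¹ * M.τ⁻¹) := by decide
    rw [k, map_mul, map_mul, map_mul, map_mul, map_inv, map_inv]
    exact mul_mem (hzW _) (mul_mem (hWn _ (hSH ((h.mem _).mpr ⟨_, rfl⟩)) _ hτW) (inv_mem hτW))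
  intro g hg
  apply C2GrowG.mem_normalizer_of
  intro x hx
  obtain ⟨c, rfl⟩ := mem_map_MZ.mp hx
  have h1 : g * φ (M.zz c) * g⁻¹ ∈ W := hWn g hg _ (hzW c)
  obtain ⟨m, hm⟩ := (h.mem _).mp (hWS h1)
  rw [← hm]
  by_contra hcon
  have hmm : m * m = 1 := h.inj (by
    rw [map_mul, hm, map_one]
    have k : ∀ c : F4, M.zz c * M.zz c = 1 := by decide
    calc g * φ (M.zz c) * g⁻¹ * (g * φ (M.zz c) * g⁻¹) = g * (φ (M.zz c) * φ (M.zz c)) * g⁻¹ := by
          group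
      _ = 1 := by rw [← map_mul, k, map_one]; group)
  have hmZ : ¬ (m.a = 0 ∧ m.b = 0 ∧ m.t = false ∧ m.s = false) := fun h2 =>
    hcon (mem_map.mpr ⟨m, h2, rfl⟩)
  obtain ⟨p, q, h2, h3, h4⟩ := M.three m hmm hmZ
  have key : ∀ p : F4, (⟨p, p, 0, false, false⟩ : M) * m * (⟨p, p, 0, false, false⟩ : M)⁻¹ ≠ m →
      φ ((⟨p, p, 0, false, false⟩ : M) * m * (⟨p, p, 0, false, false⟩ : M)⁻¹) =
        g * φ (M.zz (F4.fr c)) * g⁻¹ := by
    intro p hp
    have h5 : g⁻¹ * φ ⟨p, p, 0, false, false⟩ * g ∈ W := by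
      have := hWn _ (inv_mem hg) _ (hB p)
      simpa using this
    obtain ⟨n, hn⟩ := (h.mem _).mp (hWS h5)
    have h6 : φ ((⟨p, p, 0, false, false⟩ : M) * m * (⟨p, p, 0, false, false⟩ : M)⁻¹) =
        g * φ (n * M.zz c * n⁻¹) * g⁻¹ := by
      rw [map_mul, map_mul, map_mul, map_mul, map_inv, map_inv, hm, hn]
      group
    rw [h6, M.conj_zz]
    split
    · rfl
    · rename_i hns
      exfalso
      apply hp
      apply h.inj
      rw [h6, M.conj_zz, if_neg hns, hm]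
  exact h4 (h.inj ((key p h2).trans (key q h3).symm))

/-- Step (5), second half. -/
theorem false_of_swap [Finite G] (S : Sylow 2 G) (h : Ctx (S : Subgroup G) φ r)
    (hU : MU.map φ ≤ o2 (centralizer ({φ M.τ} : Set G))) {g : G}
    (hgn : g ∈ normalizer (MU.map φ : Set G)) (hg : g * φ M.τ * g⁻¹ = φ (M.zz 1)) : False := by
  set H := centralizer ({φ M.τ} : Set G) with hH
  set H' := centralizer ({φ (M.zz 1)} : Set G) with hH'
  have hconj : ∀ x, x ∈ H' → g⁻¹ * x * g ∈ H := by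
    intro x hx
    have h1 := mem_centralizer_singleton_iff.mp hx
    rw [← hg] at h1
    rw [hH, mem_centralizer_singleton_iff]
    calc g⁻¹ * x * g * φ M.τ = g⁻¹ * (x * (g * φ M.τ * g⁻¹)) * g := by group
      _ = g⁻¹ * (g * φ M.τ * g⁻¹ * x) * g := by rw [h1]
      _ = φ M.τ * (g⁻¹ * x * g) := by group
  have hconj' : ∀ x, x ∈ H → g * x * g⁻¹ ∈ H' := by
    intro x hx
    have h1 := mem_centralizer_singleton_iff.mp hx
    rw [hH', mem_centralizer_singleton_iff, ← hg]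
    calc g * x * g⁻¹ * (g * φ M.τ * g⁻¹) = g * (x * φ M.τ) * g⁻¹ := by group
      _ = g * (φ M.τ * x) * g⁻¹ := by rw [h1]
      _ = g * φ M.τ * g⁻¹ * (g * x * g⁻¹) := by group
  -- `U ≤ O₂(C_G(z))`
  have hK : (o2 H).map (MulAut.conj g).toMonoidHom ≤ o2 H' := by
    apply le_o2
    · rintro _ ⟨x, hx, rfl⟩
      exact hconj' x (o2_le H hx)
    · exact (o2_isPGroup H).map _
    · intro x hx
      apply C2GrowG.mem_normalizer_of
      rintro _ ⟨y, hy, rfl⟩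
      refine ⟨g⁻¹ * x * g * y * (g⁻¹ * x * g)⁻¹,
        C2GrowG.conj_mem (le_normalizer_o2 H (hconj x hx)) hy, ?_⟩
      show g * (g⁻¹ * x * g * y * (g⁻¹ * x * g)⁻¹) * g⁻¹ = x * (g * y * g⁻¹) * x⁻¹
      group
  have hU' : MU.map φ ≤ o2 H' := by
    intro x hx
    apply hK
    have h1 : g⁻¹ * x * g ∈ MU.map φ := by
      have := C2GrowG.conj_mem (inv_mem hgn) hx
      simpa using this
    refine ⟨g⁻¹ * x * g, hU h1, ?_⟩
    show g * (g⁻¹ * x * g) * g⁻¹ = x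
    group
  have hN := centralizer_z_le S h hU'
  -- the element `g r g⁻¹`
  have hrN : g * r * g⁻¹ ∈ normalizer (MZ.map φ : Set G) :=
    hN (hconj' r (mem_centralizer_singleton_iff.mpr h.rt))
  have hex : ∃ k c : F4, c ≠ 0 ∧ g * φ (M.zz c) * g⁻¹ = φ (M.zz k) := by
    have h1 : g⁻¹ * φ (M.zz F4.w) * g ∈ MU.map φ := by
      have := C2GrowG.conj_mem (inv_mem hgn)
        (mem_map_MU.mpr ⟨F4.w, Or.inl rfl⟩ : φ (M.zz F4.w) ∈ MU.map φ)
      simpa using this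
    obtain ⟨c, h2 | h2⟩ := mem_map_MU.mp h1
    · refine ⟨F4.w, c, ?_, ?_⟩
      · rintro rfl
        rw [show M.zz 0 = 1 from rfl, map_one] at h2
        have h3 : φ (M.zz F4.w) = φ 1 := by
          have e1 : φ (M.zz F4.w) = g * (g⁻¹ * φ (M.zz F4.w) * g) * g⁻¹ := by group
          rw [e1, ← h2, map_one]; group
        exact absurd (h.inj h3) (by decide)
      · rw [h2]; group
    · have e : ∀ c : F4, (⟨0, 0, c, true, false⟩ : M) = M.zz c * M.τ := by decide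
      have h3 : g * φ (M.zz c) * g⁻¹ = φ (M.zz F4.u) := by
        have e1 : φ (M.zz c) = g⁻¹ * φ (M.zz F4.w) * g * φ M.τ := by
          rw [← h2, e, map_mul, mul_assoc, ← map_mul, show M.τ * M.τ = 1 from rfl, map_one, mul_one]
        rw [e1]
        calc g * (g⁻¹ * φ (M.zz F4.w) * g * φ M.τ) * g⁻¹ = φ (M.zz F4.w) * (g * φ M.τ * g⁻¹) := by
              group
          _ = φ (M.zz F4.u) := by rw [hg, ← map_mul]; rfl
      refine ⟨F4.u, c, ?_, h3⟩
      rintro rfl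
      rw [show M.zz 0 = 1 from rfl, map_one] at h3
      have h4 : φ (M.zz F4.u) = φ 1 := by rw [← h3, map_one]; group
      exact absurd (h.inj h4) (by decide)
  obtain ⟨k, c, hc0, hkc⟩ := hex
  -- `g` normalises `Z₀`
  let D : Set F4 := {d | g * φ (M.zz d) * g⁻¹ ∈ MZ.map φ}
  have hD1 : c ∈ D := by
    show g * φ (M.zz c) * g⁻¹ ∈ MZ.map φ
    rw [hkc]; exact mem_map_MZ.mpr ⟨k, rfl⟩
  have hD2 : F4.u * c ∈ D := by
    show g * φ (M.zz (F4.u * c)) * g⁻¹ ∈ MZ.map φ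
    have h1 := C2GrowG.conj_mem hrN (mem_map_MZ.mpr ⟨k, rfl⟩ : φ (M.zz k) ∈ MZ.map φ)
    rw [← hkc] at h1
    rw [← r_zz h c]
    have e1 : g * (r * φ (M.zz c) * r⁻¹) * g⁻¹ =
        g * r * g⁻¹ * (g * φ (M.zz c) * g⁻¹) * (g * r * g⁻¹)⁻¹ := by group
    rw [e1]; exact h1
  have hDadd : ∀ d ∈ D, ∀ e ∈ D, d + e ∈ D := by
    intro d hd e he
    show g * φ (M.zz (d + e)) * g⁻¹ ∈ MZ.map φ
    have e1 : ∀ d e : F4, M.zz (d + e) = M.zz d * M.zz e := by decide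
    rw [e1, map_mul]
    have e2 : g * (φ (M.zz d) * φ (M.zz e)) * g⁻¹ = (g * φ (M.zz d) * g⁻¹) * (g * φ (M.zz e) * g⁻¹) := by
      group
    rw [e2]
    exact mul_mem hd he
  have hall : ∀ c : F4, c ≠ 0 → ∀ d : F4, d = c ∨ d = F4.u * c ∨ d = c + F4.u * c ∨
      d = c + c := by decide
  have hgZ : g ∈ normalizer (MZ.map φ : Set G) := by
    apply C2GrowG.mem_normalizer_of
    intro x hx
    obtain ⟨d, rfl⟩ := mem_map_MZ.mp hx
    rcases hall c hc0 d with rfl | rfl | rfl | rfl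
    · exact hD1
    · exact hD2
    · exact hDadd _ hD1 _ hD2
    · exact hDadd _ hD1 _ hD1
  have h5 : φ M.τ ∈ MZ.map φ := by
    have h6 := C2GrowG.conj_mem (inv_mem hgZ) (mem_map_MZ.mpr ⟨1, rfl⟩ : φ (M.zz 1) ∈ MZ.map φ)
    rw [← hg] at h6
    have e1 : g⁻¹ * (g * φ M.τ * g⁻¹) * g⁻¹⁻¹ = φ M.τ := by group
    rwa [e1] at h6
  obtain ⟨d, hd⟩ := mem_map_MZ.mp h5
  exact Bool.noConfusion (congrArg M.t (h.inj hd))

/-- The case of order 256 does not occur. -/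
theorem dead [Finite G] (S : Sylow 2 G) (h : Ctx (S : Subgroup G) φ r)
    (hchar : IsCharacteristicTwoType G) (hr : SectionalPRankLE 2 4 G)
    (hG : ∀ (f : G →* ℤˣ) (g : G), f g = 1)
    (hsol : ∀ N : Subgroup G, IsTwoLocal N → 256 ∣ Nat.card N → Group.IsSolvable N)
    (hV : ∀ b c : F4, (b ≠ 0 ∨ c ≠ 0) → ∃ g, g * φ ⟨0, b, c, false, false⟩ * g⁻¹ = φ (M.zz 1)) :
    False := by
  obtain ⟨g₀, hg₀⟩ := conj_tau S h hG hV
  have hττ : φ M.τ ^ 2 = 1 := by
    rw [pow_two, ← map_mul, show M.τ * M.τ = 1 from rfl, map_one]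
  have hτ1 : φ M.τ ≠ 1 := by
    intro h1
    exact absurd (h.inj (h1.trans (map_one φ).symm)) (by decide)
  have hcT := char2_centralizer hchar hττ hτ1
  have hZ2 : IsPGroup 2 (MZ.map φ) := S.isPGroup'.to_le (map_le_S h _)
  have hZ1 : MZ.map φ ≠ ⊥ := by
    intro h1
    have h2 : φ (M.zz 1) ∈ (⊥ : Subgroup G) := h1 ▸ mem_map_MZ.mpr ⟨1, rfl⟩
    rw [mem_bot] at h2
    exact absurd (h.inj (h2.trans (map_one φ).symm)) (by decide)
  have hcN := char2_normalizer hchar hZ2 hZ1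
  have hs : Group.IsSolvable (centralizer ({φ M.τ} : Set G)) := by
    apply hsol
    · rw [← normalizer_zpowers_eq hττ]
      exact isTwoLocal_normalizer (isPGroup_zpowers hττ) (fun h1 => hτ1 (zpowers_eq_bot.mp h1))
    · obtain ⟨P, hP, hcard⟩ := exists_256 S h hg₀
      rw [← hcard]
      exact card_dvd_of_le hP
  obtain ⟨hU, g, hgn, hg⟩ := exists_swap_z S h hr hg₀ hcN hs hcT
  exact false_of_swap S h hU hgn hg

/-- The same in terms of relations (`Y b Z c`: the elements of `V`). -/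
theorem dead_of_rel [Finite G] {X Y Z : F4 → G} {s t : G} (S : Sylow 2 G) (hu : UT X Y Z)
    (hsr : SR X Y Z s r) (ht : Swap X Y Z s r t)
    (hm : ∀ g, g ∈ (S : Subgroup G) ↔ ∃ a b c, g = Y b * X a * Z c ∨ g = Y b * X a * Z c * s ∨
        g = Y b * X a * Z c * t ∨ g = Y b * X a * Z c * t * s)
    (hchar : IsCharacteristicTwoType G) (hr : SectionalPRankLE 2 4 G)
    (hG : ∀ (f : G →* ℤˣ) (g : G), f g = 1)
    (hsol : ∀ N : Subgroup G, IsTwoLocal N → 256 ∣ Nat.card N → Group.IsSolvable N)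
    (hV : ∀ b c : F4, (b ≠ 0 ∨ c ≠ 0) → ∃ g, g * (Y b * Z c) * g⁻¹ = Z 1) : False := by
  obtain ⟨φ, h, hz, -, hy, -, -⟩ := exists_ctx hu hsr ht hm
  refine dead S h hchar hr hG hsol fun b c hbc => ?_
  obtain ⟨g, hg⟩ := hV b c hbc
  refine ⟨g, ?_⟩
  have k : ∀ b c : F4, (⟨0, b, c, false, false⟩ : M) = M.yy b * M.zz c := by decide
  rw [k, map_mul, hz, hz, hy, hg]

end Cfsg.Agent.GH.C2Grow256
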