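import Cfsg.Agent.GH.C2Grow256Base

/-!
# GH-C2, growth, order 256, step (1): all involutions of `S` in question are conjugate to `z`
-/

set_option autoImplicit false

namespace Cfsg.Agent.GH.C2Grow256

open Subgroup
open Cfsg.Agent.J2Sylow.Model Cfsg.Agent.GH.C2Rel Cfsg.Agent.GH.C2Mod Cfsg.Agent.GH.C2Hom

universe u

variable {G : Type u} [Group G] {φ : M →* G} {r : G}

theorem range_eq {S : Subgroup G} (h : Ctx S φ r) : (⊤ : Subgroup M).map φ = S := by
  ext g
  rw [mem_map, h.mem]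
  constructor
  · rintro ⟨m, -, hm⟩; exact ⟨m, hm⟩
  · rintro ⟨m, hm⟩; exact ⟨m, mem_top m, hm⟩

theorem relIndex_map {S : Subgroup G} (h : Ctx S φ r) {K : Subgroup M} (hK : Nat.card K = 128) :
    (K.map φ).relIndex S = 2 := by
  rw [← range_eq h, relIndex_map_map_of_injective _ _ h.inj, relIndex_top_right]
  exact index_of_card hK

theorem map_le_S {S : Subgroup G} (h : Ctx S φ r) (K : Subgroup M) : K.map φ ≤ S := by
  rw [← range_eq h]
  exact map_mono le_top

theorem card_S {S : Subgroup G} (h : Ctx S φ r) : Nat.card S = 256 := by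
  rw [← range_eq h, card_map_of_injective h.inj, card_top, M.card_M]

theorem card_cent {S : Subgroup G} (h : Ctx S φ r) (m : M) :
    Nat.card ↥(S ⊓ centralizer ({φ m} : Set G)) = Nat.card {x : M // x * m = m * x} := by
  have h1 : S ⊓ centralizer ({φ m} : Set G) = (centralizer ({m} : Set M)).map φ := by
    ext g
    rw [mem_inf, mem_centralizer_singleton_iff, mem_map, h.mem]
    constructor
    · rintro ⟨⟨x, rfl⟩, h2⟩
      refine ⟨x, mem_centralizer_singleton_iff.mpr (h.inj ?_), rfl⟩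
      rw [map_mul, map_mul, h2]
    · rintro ⟨x, hx, rfl⟩
      refine ⟨⟨x, rfl⟩, ?_⟩
      rw [← map_mul, ← map_mul, mem_centralizer_singleton_iff.mp hx]
  rw [h1, card_map_of_injective h.inj]
  exact Nat.card_congr (Equiv.subtypeEquivRight fun x => mem_centralizer_singleton_iff)

theorem card_cent_tau {S : Subgroup G} (h : Ctx S φ r) :
    Nat.card ↥(S ⊓ centralizer ({φ M.τ} : Set G)) = 16 := by
  rw [card_cent h, ← M.card_cent_T, Nat.card_eq_fintype_card]

theorem card_cent_sigma {S : Subgroup G} (h : Ctx S φ r) :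
    Nat.card ↥(S ⊓ centralizer ({φ M.σ} : Set G)) = 32 := by
  rw [card_cent h, ← M.card_cent_S, Nat.card_eq_fintype_card]

theorem eq_one_of_comp {x : M} (h1 : x.t = false) (h2 : x.s = false) (ha : x.a = 0) (hb : x.b = 0)
    (hc : x.c = 0) : x = 1 := by
  obtain ⟨a, b, c, t, s⟩ := x
  obtain rfl : t = false := h1
  obtain rfl : s = false := h2
  obtain rfl : a = 0 := ha
  obtain rfl : b = 0 := hb
  obtain rfl : c = 0 := hc
  rfl

/-- involutions of `T₀` -/
theorem conj_T0 (hV : ∀ b c : F4, (b ≠ 0 ∨ c ≠ 0) → ∃ g, g * φ ⟨0, b, c, false, false⟩ * g⁻¹ = φ (M.zz 1))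
    {x : M} (hxx : x * x = 1) (hx1 : x ≠ 1) (ht : x.t = false) (hs : x.s = false) :
    ∃ g, g * φ x * g⁻¹ = φ (M.zz 1) := by
  have h0 : ∀ y : M, y ≠ 1 → y.t = false → y.s = false → y.a = 0 →
      ∃ g, g * φ y * g⁻¹ = φ (M.zz 1) := by
    rintro ⟨a, b, c, t, s⟩ h1 h2 h3 h4
    obtain rfl : t = false := h2
    obtain rfl : s = false := h3
    obtain rfl : a = 0 := h4
    apply hV
    by_contra hcon
    push Not at hcon
    obtain ⟨rfl, rfl⟩ := hcon
    exact h1 rfl
  rcases M.invT0 x hxx ht hs with ha | hb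
  · exact h0 x hx1 ht hs ha
  · obtain ⟨a, b, c, t, s⟩ := x
    obtain rfl : t = false := ht
    obtain rfl : s = false := hs
    obtain rfl : b = 0 := hb
    have h1 : ∀ a c : F4, (⟨a, 0, c, false, false⟩ : M) = M.τ * ⟨0, a, c, false, false⟩ * M.τ⁻¹ := by
      decide
    have h2 : (⟨0, a, c, false, false⟩ : M) ≠ 1 := by
      intro h3
      apply hx1
      rw [h1, h3]
      group
    obtain ⟨g, hg⟩ := h0 ⟨0, a, c, false, false⟩ h2 rfl rfl rfl
    refine ⟨g * (φ M.τ)⁻¹, ?_⟩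
    rw [h1, map_mul, map_mul, map_inv, ← hg]
    group

/-- Step (1): `t` is conjugate to `z`. -/
theorem conj_tau [Finite G] (S : Sylow 2 G) (h : Ctx (S : Subgroup G) φ r)
    (hG : ∀ (f : G →* ℤˣ) (g : G), f g = 1)
    (hV : ∀ b c : F4, (b ≠ 0 ∨ c ≠ 0) → ∃ g, g * φ ⟨0, b, c, false, false⟩ * g⁻¹ = φ (M.zz 1)) :
    ∃ g, g * φ M.τ * g⁻¹ = φ (M.zz 1) := by
  -- `σ`
  have hsig : ∃ g, g * φ M.σ * g⁻¹ = φ (M.zz 1) := by
    obtain ⟨g, h1, h2⟩ := SylowSp4.ExtTransfer.exists_extremal S (Mt.map φ) (map_le_S h _)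
      (relIndex_map h card_Mt) (φ M.σ) (by rw [← map_mul, show M.σ * M.σ = 1 from rfl, map_one])
      (fun f => hG f _) ((S : Subgroup G) ⊓ centralizer ({φ M.σ} : Set G))
      (S.isPGroup'.to_le inf_le_left)
      (fun r hr => mem_centralizer_singleton_iff.mp hr.2)
    obtain ⟨m, hm, hmg⟩ := mem_map.mp h1
    have hms : m.s = false := hm
    have hmm : m * m = 1 := h.inj (by
      rw [map_mul, hmg, map_one]
      calc g * φ M.σ * g⁻¹ * (g * φ M.σ * g⁻¹) = g * (φ M.σ * φ M.σ) * g⁻¹ := by group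
        _ = 1 := by rw [← map_mul, show M.σ * M.σ = 1 from rfl, map_one]; group)
    have hm1 : m ≠ 1 := by
      rintro rfl
      rw [map_one] at hmg
      have h3 : φ M.σ = 1 := by
        have : φ M.σ = g⁻¹ * (g * φ M.σ * g⁻¹) * g := by group
        rw [this, ← hmg]; group
      have h4 : M.σ = 1 := h.inj (by rw [h3, map_one])
      exact absurd h4 (by decide)
    cases hmt : m.t
    · obtain ⟨k, hk⟩ := conj_T0 hV hmm hm1 hmt hms
      exact ⟨k * g, by rw [← hk, hmg]; group⟩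
    · exfalso
      obtain ⟨a, b, hab⟩ := M.invT m hmm hmt hms
      set y : M := ⟨a, b, 0, false, false⟩ with hy
      set k := (φ y)⁻¹ * g with hk
      have hk1 : k * φ M.σ * k⁻¹ = φ M.τ := by
        have h3 : φ m = φ y * φ M.τ * (φ y)⁻¹ := by rw [hab, map_mul, map_mul, map_inv]
        calc k * φ M.σ * k⁻¹ = (φ y)⁻¹ * (g * φ M.σ * g⁻¹) * φ y := by rw [hk]; group
          _ = φ M.τ := by rw [← hmg, h3]; group
      have h5 : (((S : Subgroup G) ⊓ centralizer ({φ M.σ} : Set G)).map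
          (MulAut.conj k).toMonoidHom) ≤ (S : Subgroup G) ⊓ centralizer ({φ M.τ} : Set G) := by
        rintro _ ⟨x, hx, rfl⟩
        have e : (MulAut.conj k).toMonoidHom x = k * x * k⁻¹ := rfl
        rw [e]
        refine mem_inf.mpr ⟨?_, ?_⟩
        · have h6 := h2 x hx
          have h7 : φ y ∈ (S : Subgroup G) := (h.mem _).mpr ⟨y, rfl⟩
          have h8 : k * x * k⁻¹ = (φ y)⁻¹ * (g * x * g⁻¹) * φ y := by rw [hk]; group
          rw [h8]
          exact mul_mem (mul_mem (inv_mem h7) h6) h7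
        · rw [mem_centralizer_singleton_iff, ← hk1]
          have h9 := mem_centralizer_singleton_iff.mp hx.2
          calc k * x * k⁻¹ * (k * φ M.σ * k⁻¹) = k * (x * φ M.σ) * k⁻¹ := by group
            _ = k * (φ M.σ * x) * k⁻¹ := by rw [h9]
            _ = k * φ M.σ * k⁻¹ * (k * x * k⁻¹) := by group
      have h6 := Subgroup.card_le_of_le h5
      rw [card_map_of_injective (MulAut.conj k).injective, card_cent_tau h, card_cent_sigma h] at h6
      omega
  obtain ⟨g, h1, -⟩ := SylowSp4.ExtTransfer.exists_extremal S (Ms.map φ) (map_le_S h _)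
    (relIndex_map h card_Ms) (φ M.τ) (by rw [← map_mul, show M.τ * M.τ = 1 from rfl, map_one])
    (fun f => hG f _) ⊥ (IsPGroup.of_bot)
    (fun r hr => by rw [mem_bot.mp hr]; group)
  obtain ⟨m, hm, hmg⟩ := mem_map.mp h1
  have hmt : m.t = false := hm
  have hmm : m * m = 1 := h.inj (by
    rw [map_mul, hmg, map_one]
    calc g * φ M.τ * g⁻¹ * (g * φ M.τ * g⁻¹) = g * (φ M.τ * φ M.τ) * g⁻¹ := by group
      _ = 1 := by rw [← map_mul, show M.τ * M.τ = 1 from rfl, map_one]; group)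
  have hm1 : m ≠ 1 := by
    rintro rfl
    rw [map_one] at hmg
    have h3 : φ M.τ = 1 := by
      have : φ M.τ = g⁻¹ * (g * φ M.τ * g⁻¹) * g := by group
      rw [this, ← hmg]; group
    have h4 : M.τ = 1 := h.inj (by rw [h3, map_one])
    exact absurd h4 (by decide)
  cases hms : m.s
  · obtain ⟨k, hk⟩ := conj_T0 hV hmm hm1 hmt hms
    exact ⟨k * g, by rw [← hk, hmg]; group⟩
  · obtain ⟨a, b, c, hab⟩ := M.invS m hmm hmt hms
    obtain ⟨k, hk⟩ := hsig
    refine ⟨k * (φ ⟨a, b, c, false, false⟩)⁻¹ * g, ?_⟩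
    have h3 : φ m = φ ⟨a, b, c, false, false⟩ * φ M.σ * (φ ⟨a, b, c, false, false⟩)⁻¹ := by
      rw [← map_inv, ← map_mul, ← map_mul]
      exact congrArg φ hab
    rw [← hk]
    calc k * (φ ⟨a, b, c, false, false⟩)⁻¹ * g * φ M.τ * (k * (φ ⟨a, b, c, false, false⟩)⁻¹ * g)⁻¹
        = k * ((φ ⟨a, b, c, false, false⟩)⁻¹ * (g * φ M.τ * g⁻¹) * φ ⟨a, b, c, false, false⟩) *
          k⁻¹ := by group
      _ = k * φ M.σ * k⁻¹ := by rw [← hmg, h3]; group

end Cfsg.Agent.GH.C2Grow256
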