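import Cfsg.Agent.GH.C2Grow256A
import Cfsg.Agent.GH.C2GrowG

/-!
# GH-C2, growth, order 256, steps (2) and (3): `T₀ ≤ O₂(N_G(Z₀))`, 2-subgroups of `C_G(U)`
-/

set_option autoImplicit false

namespace Cfsg.Agent.GH.C2Grow256

open Subgroup Cfsg Cfsg.Agent.ZN Cfsg.Agent.MinSimple.MinParabolic Cfsg.Agent.MinSimple.VModule
open Cfsg.Agent.MinSimple.Basic
open Cfsg.Agent.J2Sylow.Model Cfsg.Agent.GH.C2Rel Cfsg.Agent.GH.C2Mod Cfsg.Agent.GH.C2Hom

universe u

variable {G : Type u} [Group G] {φ : M →* G} {r : G}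

/-- Fixed points of a 2-group on a group of even order. -/
theorem exists_fix [Finite G] {P A : Subgroup G} (hP : IsPGroup 2 P)
    (hn : ∀ p ∈ P, ∀ a ∈ A, p * a * p⁻¹ ∈ A) (hA : 2 ∣ Nat.card A) :
    ∃ a ∈ A, a ≠ 1 ∧ ∀ p ∈ P, p * a = a * p := by
  have hf : Fact (Nat.Prime 2) := ⟨Nat.prime_two⟩
  let act : MulAction P A :=
    { smul := fun p a => ⟨p * a * (p : G)⁻¹, hn p p.2 a a.2⟩
      one_smul := fun a => Subtype.ext (by
        show (1 : G) * a * (1 : G)⁻¹ = a
        simp)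
      mul_smul := fun p q a => Subtype.ext (by
        show (p * q : G) * a * (p * q : G)⁻¹ = p * (q * a * (q : G)⁻¹) * (p : G)⁻¹
        group) }
  have h1 : (1 : A) ∈ MulAction.fixedPoints P A := fun p => Subtype.ext (by
    show (p : G) * (1 : G) * (p : G)⁻¹ = 1
    group)
  obtain ⟨b, hb, hb1⟩ := hP.exists_fixed_point_of_prime_dvd_card_of_fixed_point A hA h1
  refine ⟨b, b.2, fun h => hb1 (Subtype.ext h.symm), fun p hp => ?_⟩
  have h2 := congrArg Subtype.val (hb ⟨p, hp⟩)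
  have h3 : p * (b : G) * p⁻¹ = b := h2
  exact mul_inv_eq_iff_eq_mul.mp h3

theorem mem_map_MZ {g : G} : g ∈ MZ.map φ ↔ ∃ c, φ (M.zz c) = g := by
  rw [mem_map]
  constructor
  · rintro ⟨x, hx, rfl⟩
    obtain ⟨c, rfl⟩ := mem_MZ'.mp hx
    exact ⟨c, rfl⟩
  · rintro ⟨c, rfl⟩
    exact ⟨_, mem_MZ'.mpr ⟨c, rfl⟩, rfl⟩

theorem r_zz {S : Subgroup G} (h : Ctx S φ r) (c : F4) :
    r * φ (M.zz c) * r⁻¹ = φ (M.zz (F4.u * c)) := by
  have h1 := h.rx 0 0 c
  have h2 : (⟨F4.w * 0, F4.w * 0, F4.u * c, false, false⟩ : M) = M.zz (F4.u * c) := by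
    revert c; intro c _; cases c <;> rfl
  rw [h2] at h1
  exact mul_inv_eq_iff_eq_mul.mpr h1

theorem r_inv {S : Subgroup G} (h : Ctx S φ r) : r⁻¹ = r * r := by
  rw [inv_eq_iff_mul_eq_one]
  have := h.rrr
  rwa [mul_assoc] at this

/-- A 2-group normalising `Z₀` and normalised by `r` centralises `Z₀`. -/
theorem cent_of_r [Finite G] {S : Subgroup G} (h : Ctx S φ r) {P : Subgroup G} (hP : IsPGroup 2 P)
    (h1 : P ≤ normalizer (MZ.map φ : Set G)) (h2 : ∀ p ∈ P, r * p * r⁻¹ ∈ P) :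
    ∀ p ∈ P, ∀ c, p * φ (M.zz c) = φ (M.zz c) * p := by
  have hcard : Nat.card (MZ.map φ) = 4 := by rw [card_map_of_injective h.inj, card_MZ]
  obtain ⟨a, ha, ha1, haP⟩ := exists_fix hP (A := MZ.map φ)
    (fun p hp a ha => C2GrowG.conj_mem (h1 hp) ha) (by rw [hcard]; norm_num)
  obtain ⟨c0, rfl⟩ := mem_map_MZ.mp ha
  have hc0 : c0 ≠ 0 := by
    rintro rfl
    exact ha1 (map_one φ)
  have step : ∀ c, (∀ p ∈ P, p * φ (M.zz c) = φ (M.zz c) * p) →
      ∀ p ∈ P, p * φ (M.zz (F4.u * c)) = φ (M.zz (F4.u * c)) * p := by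
    intro c hc p hp
    have h3 : r⁻¹ * p * r ∈ P := by
      have h4 := h2 _ (h2 p hp)
      have h5 : r⁻¹ * p * r = r * (r * p * r⁻¹) * r⁻¹ := by
        rw [r_inv h]
        have h6 : r⁻¹ * r⁻¹ = r := by rw [r_inv h]; calc
          r * r * (r * r) = r * r * r * r := by group
          _ = r := by rw [h.rrr, one_mul]
        calc r * r * p * r = r * r * p * (r⁻¹ * r⁻¹) := by rw [h6]
          _ = r * (r * p * r⁻¹) * r⁻¹ := by group
          _ = r * (r * p * (r * r)) * (r * r) := by rw [r_inv h]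
      rwa [h5]
    have h4 := hc _ h3
    rw [← r_zz h c]
    calc p * (r * φ (M.zz c) * r⁻¹) = r * (r⁻¹ * p * r * φ (M.zz c)) * r⁻¹ := by group
      _ = r * (φ (M.zz c) * (r⁻¹ * p * r)) * r⁻¹ := by rw [h4]
      _ = r * φ (M.zz c) * r⁻¹ * p := by group
  have key : ∀ c0 : F4, c0 ≠ 0 → ∀ c : F4, c = 0 ∨ c = c0 ∨ c = F4.u * c0 ∨
      c = F4.u * (F4.u * c0) := by decide
  have hall := key c0 hc0
  intro p hp c
  rcases hall c with rfl | rfl | rfl | rfl
  · rw [show M.zz 0 = 1 from rfl, map_one]; group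
  · exact haP p hp
  · exact step _ haP p hp
  · exact step _ (step _ haP) p hp

/-- Odd order elements acting trivially on `b` and mapping `q` to `b q`. -/
theorem comm_of_odd {y q b : G} {n k : ℕ} (hn : y ^ n = 1) (hodd : Odd n) (hyb : y * b = b * y)
    (hyq : y * q * y⁻¹ = b * q) (hb : b ^ (2 ^ k) = 1) : y * q = q * y := by
  have h1 : ∀ j : ℕ, y ^ j * q * (y ^ j)⁻¹ = b ^ j * q := by
    intro j
    induction j with
    | zero => simp
    | succ j ih =>
      have h2 : y ^ (j + 1) = y * y ^ j := pow_succ' y j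
      have h3 : Commute y (b ^ j) := Commute.pow_right hyb j
      rw [h2]
      calc y * y ^ j * q * (y * y ^ j)⁻¹ = y * (y ^ j * q * (y ^ j)⁻¹) * y⁻¹ := by group
        _ = y * b ^ j * (q * y⁻¹) := by rw [ih]; group
        _ = b ^ j * y * (q * y⁻¹) := by rw [h3.eq]
        _ = b ^ j * (y * q * y⁻¹) := by group
        _ = b ^ j * (b * q) := by rw [hyq]
        _ = b ^ (j + 1) * q := by rw [pow_succ]; group
  have h2 : b ^ n = 1 := by
    have h3 := h1 n
    rw [hn] at h3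
    have h4 : 1 * q = b ^ n * q := by simpa using h3
    exact (mul_right_cancel h4).symm
  have h3 : b = 1 := by
    have h4 : orderOf b ∣ n := orderOf_dvd_of_pow_eq_one h2
    have h5 : orderOf b ∣ 2 ^ k := orderOf_dvd_of_pow_eq_one hb
    have h6 : Nat.Coprime n (2 ^ k) := Nat.Coprime.pow_right k (Nat.coprime_two_right.mpr hodd)
    exact orderOf_eq_one_iff.mp (Nat.eq_one_of_dvd_coprimes h6 h4 h5)
  rw [h3, one_mul] at hyq
  exact mul_inv_eq_iff_eq_mul.mp hyq

/-- A group without nontrivial elements of odd order is a 2-group. -/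
theorem isPGroup_of_odd [Finite G] {C : Subgroup G} (h : ∀ y ∈ C, Odd (orderOf y) → y = 1) :
    IsPGroup 2 C := by
  intro g
  obtain ⟨k, m, hm, hkm⟩ := Nat.exists_eq_two_pow_mul_odd (n := orderOf g) (orderOf_pos g).ne'
  refine ⟨k, ?_⟩
  have h1 : orderOf (g ^ 2 ^ k) = m := by
    rw [orderOf_pow, hkm, Nat.gcd_eq_right (Dvd.intro m rfl), Nat.mul_div_cancel_left m (by positivity)]
  have h2 := h ((g ^ 2 ^ k : C) : G) (g ^ 2 ^ k).2 (by
    rw [orderOf_coe, h1]; exact hm)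
  exact Subtype.ext h2

/-- Normal `r`-invariant subgroups of the model: as soon as `a ≠ b` occurs, they contain `T₀`. -/
theorem gen {W : Subgroup M} (hn : ∀ m x : M, x ∈ W → m * x * m⁻¹ ∈ W)
    (hr : ∀ a b c : F4, (⟨a, b, c, false, false⟩ : M) ∈ W →
      (⟨F4.w * a, F4.w * b, F4.u * c, false, false⟩ : M) ∈ W)
    {x : M} (hx : x ∈ W) (ht : x.t = false) (hs : x.s = false) (hab : x.a ≠ x.b) :
    ∀ a b c : F4, (⟨a, b, c, false, false⟩ : M) ∈ W := by
  have hcom : ∀ m y : M, y ∈ W → m * y * m⁻¹ * y⁻¹ ∈ W := fun m y hy =>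
    W.mul_mem (hn m y hy) (W.inv_mem hy)
  have k1 : ∀ x : M, x.t = false → x.s = false → x.a ≠ x.b → ∀ c : F4, ∃ a' b' : F4,
      (⟨a', b', 0, false, false⟩ : M) * x * (⟨a', b', 0, false, false⟩ : M)⁻¹ * x⁻¹ = M.zz c := by
    decide
  have hZ : ∀ c, M.zz c ∈ W := by
    intro c
    obtain ⟨a', b', h1⟩ := k1 x ht hs hab c
    rw [← h1]
    exact hcom _ _ hx
  have k2 : ∀ a b c d : F4, (⟨a, b, c, false, false⟩ : M) = M.zz (c + d) * ⟨a, b, d, false, false⟩ := by
    decide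
  have hc : ∀ a b c d : F4, (⟨a, b, c, false, false⟩ : M) ∈ W → (⟨a, b, d, false, false⟩ : M) ∈ W := by
    intro a b c d h
    rw [k2 a b d c]
    exact W.mul_mem (hZ _) h
  have hadd : ∀ a b a' b' : F4, (⟨a, b, 0, false, false⟩ : M) ∈ W →
      (⟨a', b', 0, false, false⟩ : M) ∈ W → (⟨a + a', b + b', 0, false, false⟩ : M) ∈ W := by
    intro a b a' b' h1 h2
    exact hc _ _ _ _ (W.mul_mem h1 h2)
  have hw : ∀ a b : F4, (⟨a, b, 0, false, false⟩ : M) ∈ W →
      (⟨F4.w * a, F4.w * b, 0, false, false⟩ : M) ∈ W := fun a b h => hc _ _ _ _ (hr a b 0 h)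
  have k3 : ∀ a b : F4, M.τ * (⟨a, b, 0, false, false⟩ : M) * M.τ⁻¹ =
      ⟨b, a, a * b, false, false⟩ := by decide
  have hswap : ∀ a b : F4, (⟨a, b, 0, false, false⟩ : M) ∈ W →
      (⟨b, a, 0, false, false⟩ : M) ∈ W := fun a b h => by
    have h1 := hn M.τ _ h
    rw [k3] at h1
    exact hc _ _ _ _ h1
  have k4 : ∀ a b : F4, M.σ * (⟨a, b, 0, false, false⟩ : M) * M.σ⁻¹ =
      ⟨F4.fr a, F4.fr b, 0, false, false⟩ := by decide
  have hfr : ∀ a b : F4, (⟨a, b, 0, false, false⟩ : M) ∈ W →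
      (⟨F4.fr a, F4.fr b, 0, false, false⟩ : M) ∈ W := fun a b h => by
    have h1 := hn M.σ _ h
    rwa [k4] at h1
  have hl : ∀ l a b : F4, (⟨a, b, 0, false, false⟩ : M) ∈ W →
      (⟨l * a, l * b, 0, false, false⟩ : M) ∈ W := by
    intro l a b h
    cases l
    · exact W.one_mem
    · have e : ∀ a : F4, F4.e * a = a := by decide
      rw [e, e]
      exact h
    · exact hw a b h
    · have h1 := hw _ _ (hw a b h)
      have e : ∀ a : F4, F4.w * (F4.w * a) = F4.u * a := by decide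
      rw [e, e] at h1
      exact h1
  have k5 : ∀ a b : F4, a ≠ b → ∀ a' b' : F4, ∃ l m : F4, (a' = l * a + m * b ∧ b' = l * b + m * a) ∨
      (a' = l * a + m * F4.fr a ∧ b' = l * b + m * F4.fr b) := by decide
  have h0 : (⟨x.a, x.b, 0, false, false⟩ : M) ∈ W := by
    obtain ⟨a, b, c, t, s⟩ := x
    obtain rfl : t = false := ht
    obtain rfl : s = false := hs
    exact hc _ _ _ _ hx
  intro a b c
  apply hc a b 0 c
  obtain ⟨l, m, ⟨h1, h2⟩ | ⟨h1, h2⟩⟩ := k5 _ _ hab a b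
  · rw [h1, h2]
    exact hadd _ _ _ _ (hl l _ _ h0) (hl m _ _ (hswap _ _ h0))
  · rw [h1, h2]
    exact hadd _ _ _ _ (hl l _ _ h0) (hl m _ _ (hfr _ _ h0))

theorem S_le_N [Finite G] {S : Subgroup G} (h : Ctx S φ r) : S ≤ normalizer (MZ.map φ : Set G) := by
  intro g hg
  obtain ⟨m, rfl⟩ := (h.mem g).mp hg
  apply C2GrowG.mem_normalizer_of
  intro x hx
  obtain ⟨c, rfl⟩ := mem_map_MZ.mp hx
  rw [← map_mul, ← map_inv, ← map_mul, M.conj_zz]
  rw [mem_map_MZ]
  split
  · exact ⟨_, rfl⟩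
  · exact ⟨_, rfl⟩

theorem r_mem_N [Finite G] {S : Subgroup G} (h : Ctx S φ r) : r ∈ normalizer (MZ.map φ : Set G) := by
  apply C2GrowG.mem_normalizer_of
  intro x hx
  obtain ⟨c, rfl⟩ := mem_map_MZ.mp hx
  rw [r_zz h]
  exact mem_map_MZ.mpr ⟨_, rfl⟩

theorem r_conj {S : Subgroup G} (h : Ctx S φ r) (a b c : F4) :
    r * φ ⟨a, b, c, false, false⟩ * r⁻¹ = φ ⟨F4.w * a, F4.w * b, F4.u * c, false, false⟩ :=
  mul_inv_eq_iff_eq_mul.mpr (h.rx a b c)

theorem r_conj' {S : Subgroup G} (h : Ctx S φ r) (a b c : F4) :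
    r * φ ⟨a, b, c, true, false⟩ * r⁻¹ = φ ⟨F4.w * a, F4.w * b, F4.u * c, true, false⟩ := by
  have e : ∀ a b c : F4, (⟨a, b, c, true, false⟩ : M) = ⟨a, b, c, false, false⟩ * M.τ := by decide
  rw [e, e, map_mul, map_mul, ← r_conj h]
  have h1 : r * φ M.τ * r⁻¹ = φ M.τ := mul_inv_eq_iff_eq_mul.mpr h.rt
  calc r * (φ ⟨a, b, c, false, false⟩ * φ M.τ) * r⁻¹ =
      r * φ ⟨a, b, c, false, false⟩ * r⁻¹ * (r * φ M.τ * r⁻¹) := by group
    _ = r * φ ⟨a, b, c, false, false⟩ * r⁻¹ * φ M.τ := by rw [h1]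

/-- Step (2). -/
theorem T0_le [Finite G] (S : Sylow 2 G) (h : Ctx (S : Subgroup G) φ r)
    (hc : normalizer (MZ.map φ : Set G) ⊓ centralizer (o2 (normalizer (MZ.map φ : Set G)) : Set G) ≤
      o2 (normalizer (MZ.map φ : Set G))) :
    (∀ a b c : F4, φ ⟨a, b, c, false, false⟩ ∈ o2 (normalizer (MZ.map φ : Set G))) ∧
      ∀ m : M, φ m ∈ o2 (normalizer (MZ.map φ : Set G)) → m.s = false := by
  set N := normalizer (MZ.map φ : Set G) with hN
  set Q := o2 N with hQ
  have hSN : (S : Subgroup G) ≤ N := S_le_N h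
  have hrN : r ∈ N := r_mem_N h
  have hQS : Q ≤ S := o2_le_of_sylow S.isPGroup' (not_dvd_relIndex S hSN)
  have hQ2 : IsPGroup 2 Q := o2_isPGroup N
  have hQn : ∀ g ∈ N, ∀ q ∈ Q, g * q * g⁻¹ ∈ Q := fun g hg q hq =>
    C2GrowG.conj_mem (le_normalizer_o2 N hg) hq
  have hcent : ∀ p ∈ Q, ∀ c, p * φ (M.zz c) = φ (M.zz c) * p :=
    cent_of_r h hQ2 (o2_le N) (fun p hp => hQn r hrN p hp)
  set W : Subgroup M := Q.comap φ with hW
  have hWn : ∀ m x : M, x ∈ W → m * x * m⁻¹ ∈ W := by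
    intro m x hx
    rw [hW, mem_comap] at hx ⊢
    rw [map_mul, map_mul, map_inv]
    exact hQn _ (hSN ((h.mem _).mpr ⟨m, rfl⟩)) _ hx
  have hWs : ∀ x ∈ W, x.s = false := by
    intro x hx
    have h1 := hcent (φ x) hx
    have h2 : ∀ c, x * M.zz c * x⁻¹ = M.zz c := fun c => by
      apply h.inj
      rw [map_mul, map_mul, map_inv, h1]; group
    have h3 := h2 F4.w
    rw [M.conj_zz] at h3
    cases hxs : x.s
    · rfl
    · rw [hxs] at h3
      exact absurd h3 (by decide)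
  have hWr : ∀ a b c : F4, (⟨a, b, c, false, false⟩ : M) ∈ W →
      (⟨F4.w * a, F4.w * b, F4.u * c, false, false⟩ : M) ∈ W := by
    intro a b c hx
    rw [hW, mem_comap] at hx ⊢
    rw [← r_conj h]
    exact hQn r hrN _ hx
  have hWr' : ∀ a b c : F4, (⟨a, b, c, true, false⟩ : M) ∈ W →
      (⟨F4.w * a, F4.w * b, F4.u * c, true, false⟩ : M) ∈ W := by
    intro a b c hx
    rw [hW, mem_comap] at hx ⊢
    rw [← r_conj' h]
    exact hQn r hrN _ hx
  refine ⟨?_, fun m hm => hWs m hm⟩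
  by_contra hcon
  have hgen : ¬ ∀ a b c : F4, (⟨a, b, c, false, false⟩ : M) ∈ W := hcon
  -- all elements of `W` have `a = b`
  have hab0 : ∀ x ∈ W, x.t = false → x.a = x.b := by
    intro x hx ht
    by_contra hne
    exact hgen (gen hWn hWr hx ht (hWs x hx) hne)
  have hab : ∀ x ∈ W, x.a = x.b := by
    intro x hx
    cases ht : x.t
    · exact hab0 x hx ht
    · obtain ⟨a, b, c, t, s⟩ := x
      obtain rfl : t = true := ht
      obtain rfl : s = false := hWs _ hx
      have h1 := W.mul_mem (hWr' a b c hx) (W.inv_mem hx)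
      have k : ∀ a b c : F4, ((⟨F4.w * a, F4.w * b, F4.u * c, true, false⟩ : M) *
          (⟨a, b, c, true, false⟩ : M)⁻¹).t = false ∧
          (((⟨F4.w * a, F4.w * b, F4.u * c, true, false⟩ : M) *
          (⟨a, b, c, true, false⟩ : M)⁻¹).a = ((⟨F4.w * a, F4.w * b, F4.u * c, true, false⟩ : M) *
          (⟨a, b, c, true, false⟩ : M)⁻¹).b → a = b) := by decide
      exact (k a b c).2 (hab0 _ h1 (k a b c).1)
  -- odd elements of `C_G(Z₀)`
  have k1 : ∀ x : M, x.a = x.b → x.s = false → (x * x = 1 ∨ x.t = false ∧ x * x ≠ 1) ∧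
      x * x = M.zz (x * x).c ∧ (x * x = 1 → x = M.zz x.c ∨ x.t = true) := by decide
  have k2 : ∀ a c a' c' : F4, (⟨a, a, c, false, false⟩ : M) * ⟨a, a, c, false, false⟩ =
      (⟨a', a', c', false, false⟩ : M) * ⟨a', a', c', false, false⟩ →
      (⟨a', a', c', false, false⟩ : M) = M.zz (c' + c) * ⟨a, a, c, false, false⟩ := by decide
  have hodd : ∀ y ∈ centralizer (MZ.map φ : Set G), Odd (orderOf y) → y = 1 := by
    intro y hy hyo
    have hyz : ∀ c, y * φ (M.zz c) = φ (M.zz c) * y := fun c =>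
      (mem_centralizer_iff.mp hy _ (mem_map_MZ.mpr ⟨c, rfl⟩)).symm
    have hyN : y ∈ N := by
      apply C2GrowG.mem_normalizer_of
      intro x hx
      obtain ⟨c, rfl⟩ := mem_map_MZ.mp hx
      rw [hyz]
      have : φ (M.zz c) * y * y⁻¹ = φ (M.zz c) := by group
      rw [this]
      exact mem_map_MZ.mpr ⟨c, rfl⟩
    have hex : ∀ x ∈ W, ∃ x' ∈ W, y * φ x * y⁻¹ = φ x' ∧ x' * x' = x * x := by
      intro x hx
      have h1 := hQn y hyN _ hx
      obtain ⟨x', hx'⟩ := (h.mem _).mp (hQS h1)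
      refine ⟨x', ?_, hx'.symm, h.inj ?_⟩
      · rw [hW, mem_comap, hx']; exact h1
      · rw [map_mul, hx']
        calc y * φ x * y⁻¹ * (y * φ x * y⁻¹) = y * φ (x * x) * y⁻¹ := by rw [map_mul]; group
          _ = φ (x * x) := by
            rw [(k1 x (hab x hx) (hWs x hx)).2.1, hyz]
            group
    have h2pow : ∀ x ∈ W, ∃ k : ℕ, φ x ^ 2 ^ k = 1 := by
      intro x hx
      obtain ⟨k, hk⟩ := hQ2 ⟨φ x, hx⟩
      exact ⟨k, congrArg Subtype.val hk⟩
    have hcf : ∀ x ∈ W, x.t = false → y * φ x = φ x * y := by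
      intro x hx ht
      obtain ⟨x', hx', h1, h2⟩ := hex x hx
      have e1 := hab x hx
      have e2 := hWs x hx
      have e3 := hab x' hx'
      have e4 := hWs x' hx'
      rcases (k1 x e1 e2).1 with h3 | ⟨-, h3⟩
      · rcases (k1 x e1 e2).2.2 h3 with h4 | h4
        · rw [h4]; exact hyz _
        · rw [ht] at h4; exact absurd h4 (by decide)
      · have h4 : x'.t = false := by
          rcases (k1 x' e3 e4).1 with h5 | h5
          · exact absurd (h2.symm.trans h5) h3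
          · exact h5.1
        obtain ⟨a, b, c, t, s⟩ := x
        obtain ⟨a', b', c', t', s'⟩ := x'
        obtain rfl : t = false := ht
        obtain rfl : s = false := e2
        obtain rfl : a = b := e1
        obtain rfl : t' = false := h4
        obtain rfl : s' = false := e4
        obtain rfl : a' = b' := e3
        have h5 := k2 a c a' c' h2.symm
        rw [h5, map_mul] at h1
        exact comm_of_odd (pow_orderOf_eq_one y) hyo (hyz _) h1 (k := 1) (by
          rw [pow_one, pow_two, ← map_mul]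
          have : ∀ d : F4, M.zz d * M.zz d = 1 := by decide
          rw [this, map_one])
    have hyQ : ∀ x ∈ W, y * φ x = φ x * y := by
      intro x hx
      cases ht : x.t
      · exact hcf x hx ht
      · obtain ⟨x', hx', h1, h2⟩ := hex x hx
        have hxx : x * x = 1 := by
          rcases (k1 x (hab x hx) (hWs x hx)).1 with h3 | h3
          · exact h3
          · rw [ht] at h3; exact absurd h3.1 (by decide)
        have ht' : x'.t = true := by
          rcases (k1 x' (hab x' hx') (hWs x' hx')).2.2 (h2.trans hxx) with h4 | h4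
          · exfalso
            have h5 : y * φ x * y⁻¹ = φ (M.zz x'.c) := by rw [h1, ← h4]
            have h6 : φ x = φ (M.zz x'.c) := by
              have h7 : φ x = y⁻¹ * (y * φ x * y⁻¹) * y := by group
              rw [h7, h5, mul_assoc, ← hyz]; group
            have h7 := h.inj h6
            rw [h7] at ht
            exact Bool.noConfusion ht
          · exact h4
        set b : M := x' * x⁻¹ with hb
        have hbW : b ∈ W := W.mul_mem hx' (W.inv_mem hx)
        have hbt : b.t = false := by rw [hb, t_mul, t_inv, ht, ht']; rfl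
        obtain ⟨k, hk⟩ := h2pow b hbW
        refine comm_of_odd (pow_orderOf_eq_one y) hyo (hcf b hbW hbt) ?_ hk
        rw [h1, ← map_mul, hb]
        congr 1
        group
    have hyc : y ∈ Q := by
      apply hc
      refine mem_inf.mpr ⟨hyN, ?_⟩
      rw [mem_centralizer_iff]
      intro q hq
      obtain ⟨x, rfl⟩ := (h.mem q).mp (hQS hq)
      exact (hyQ x hq).symm
    obtain ⟨k, hk⟩ := hQ2 ⟨y, hyc⟩
    have h8 : y ^ 2 ^ k = 1 := congrArg Subtype.val hk
    have h9 : orderOf y ∣ 2 ^ k := orderOf_dvd_of_pow_eq_one h8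
    exact orderOf_eq_one_iff.mp (Nat.eq_one_of_dvd_coprimes
      (Nat.Coprime.pow_right k (Nat.coprime_two_right.mpr hyo)) dvd_rfl h9)
  have hC2 := isPGroup_of_odd hodd
  have hCN : centralizer (MZ.map φ : Set G) ≤ N := centralizer_le_normalizer _
  have hCQ : centralizer (MZ.map φ : Set G) ≤ Q := by
    apply le_o2 hCN hC2
    intro g hg
    apply C2GrowG.mem_normalizer_of
    intro x hx
    rw [mem_centralizer_iff] at hx ⊢
    intro z hz
    have h1 : g⁻¹ * z * g ∈ MZ.map φ := by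
      have := C2GrowG.conj_mem (inv_mem hg) hz
      simpa using this
    have h2 := hx _ h1
    calc z * (g * x * g⁻¹) = g * (g⁻¹ * z * g * x) * g⁻¹ := by group
      _ = g * (x * (g⁻¹ * z * g)) * g⁻¹ := by rw [h2]
      _ = g * x * g⁻¹ * z := by group
  have h1 : φ ⟨1, 0, 0, false, false⟩ ∈ Q := by
    apply hCQ
    rw [mem_centralizer_iff]
    intro z hz
    obtain ⟨c, rfl⟩ := mem_map_MZ.mp hz
    rw [← map_mul, ← map_mul]
    have k3 : ∀ c : F4, M.zz c * (⟨1, 0, 0, false, false⟩ : M) = ⟨1, 0, 0, false, false⟩ * M.zz c := by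
      decide
    rw [k3]
  have h2 := hab _ (show (⟨1, 0, 0, false, false⟩ : M) ∈ W from h1)
  exact absurd h2 (by decide)

theorem not_dvd_card [Finite G] (S : Sylow 2 G) (h : Ctx (S : Subgroup G) φ r) :
    ¬ 512 ∣ Nat.card G := by
  have hf : Fact (Nat.Prime 2) := ⟨Nat.prime_two⟩
  intro h1
  have h2 := (S : Subgroup G).card_mul_index
  rw [card_S h] at h2
  have h3 := S.not_dvd_index
  rw [← h2, show 512 = 256 * 2 by norm_num] at h1
  exact h3 (Nat.dvd_of_mul_dvd_mul_left (by norm_num) h1)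

theorem not_dvd_C [Finite G] (S : Sylow 2 G) (h : Ctx (S : Subgroup G) φ r) :
    ¬ 256 ∣ Nat.card ↥(centralizer (MZ.map φ : Set G)) := by
  intro h1
  set C := centralizer (MZ.map φ : Set G) with hC
  set N := normalizer (MZ.map φ : Set G) with hN
  have hCN : C ≤ N := centralizer_le_normalizer _
  have hn : (C.subgroupOf N).Normal := by
    refine ⟨fun x hx g => ?_⟩
    rw [mem_subgroupOf] at hx ⊢
    rw [hC, mem_centralizer_iff] at hx ⊢
    intro z hz
    have h1 : (g : G)⁻¹ * z * g ∈ MZ.map φ := by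
      have := C2GrowG.conj_mem (inv_mem g.2) hz
      simpa using this
    have h2 := hx _ h1
    show z * (g * x * (g : G)⁻¹) = (g * x * (g : G)⁻¹) * z
    calc z * (g * x * (g : G)⁻¹) = g * ((g : G)⁻¹ * z * g * x) * (g : G)⁻¹ := by group
      _ = g * (x * ((g : G)⁻¹ * z * g)) * (g : G)⁻¹ := by rw [h2]
      _ = g * x * (g : G)⁻¹ * z := by group
  have hsN : φ M.σ ∈ N := S_le_N h ((h.mem _).mpr ⟨_, rfl⟩)
  have hsC : φ M.σ ∉ C := by
    intro h3
    have h4 := mem_centralizer_iff.mp h3 _ (mem_map_MZ.mpr ⟨F4.w, rfl⟩)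
    rw [← map_mul, ← map_mul] at h4
    exact absurd (h.inj h4) (by decide)
  have h2 : 2 ∣ (C.subgroupOf N).index := by
    have h3 : orderOf (QuotientGroup.mk' (C.subgroupOf N) ⟨φ M.σ, hsN⟩) = 2 := by
      rw [orderOf_eq_prime_iff]
      constructor
      · rw [← map_pow]
        have : (⟨φ M.σ, hsN⟩ : N) ^ 2 = 1 := Subtype.ext (by
          show φ M.σ ^ 2 = 1
          rw [pow_two, ← map_mul, show M.σ * M.σ = 1 from rfl, map_one])
        rw [this, map_one]
      · intro h4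
        rw [QuotientGroup.mk'_apply, QuotientGroup.eq_one_iff, mem_subgroupOf] at h4
        exact hsC h4
    rw [← h3]
    exact orderOf_dvd_natCard _
  have h3 : Nat.card C * (C.subgroupOf N).index = Nat.card N := by
    rw [← Nat.card_congr (subgroupOfEquivOfLe hCN).toEquiv]
    exact card_mul_index _
  have h4 : 512 ∣ Nat.card N := by
    rw [← h3, show 512 = 256 * 2 by norm_num]
    exact Nat.mul_dvd_mul h1 h2
  exact not_dvd_card S h (h4.trans (card_subgroup_dvd_card N))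

/-- Step (3). -/
theorem le_U [Finite G] (S : Sylow 2 G) (h : Ctx (S : Subgroup G) φ r)
    (hc : normalizer (MZ.map φ : Set G) ⊓ centralizer (o2 (normalizer (MZ.map φ : Set G)) : Set G) ≤
      o2 (normalizer (MZ.map φ : Set G))) {P : Subgroup G} (hP : IsPGroup 2 P)
    (hPz : ∀ p ∈ P, ∀ c, p * φ (M.zz c) = φ (M.zz c) * p)
    (hPt : ∀ p ∈ P, p * φ M.τ = φ M.τ * p) (ht : φ M.τ ∈ P) : P ≤ MU.map φ := by
  obtain ⟨hT0, hTs⟩ := T0_le S h hc
  set C := centralizer (MZ.map φ : Set G) with hC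
  set N := normalizer (MZ.map φ : Set G) with hN
  have hCN : C ≤ N := centralizer_le_normalizer _
  have hPC : P ≤ C := by
    intro p hp
    rw [hC, mem_centralizer_iff]
    intro z hz
    obtain ⟨c, rfl⟩ := mem_map_MZ.mp hz
    exact (hPz p hp c).symm
  have hQS : o2 N ≤ S := o2_le_of_sylow S.isPGroup' (not_dvd_relIndex S (S_le_N h))
  have hQC : o2 N ≤ C := by
    intro q hq
    obtain ⟨x, rfl⟩ := (h.mem q).mp (hQS hq)
    rw [hC, mem_centralizer_iff]
    intro z hz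
    obtain ⟨c, rfl⟩ := mem_map_MZ.mp hz
    have h1 := M.conj_zz x c
    rw [hTs x hq] at h1
    simp only [Bool.false_eq_true, if_false] at h1
    rw [← map_mul, ← map_mul]
    exact congrArg φ (mul_inv_eq_iff_eq_mul.mp h1).symm
  have hR : IsPGroup 2 (P ⊔ o2 N : Subgroup G) := IsPGroup.to_sup_of_normal_right' hP (o2_isPGroup N)
    (hPC.trans (hCN.trans (le_normalizer_o2 N)))
  have hRC : P ⊔ o2 N ≤ C := sup_le hPC hQC
  have hMR : Mt.map φ ≤ P ⊔ o2 N := by
    rintro _ ⟨x, hx, rfl⟩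
    obtain ⟨a, b, c, t, s⟩ := x
    obtain rfl : s = false := hx
    cases t
    · exact mem_sup_right (hT0 a b c)
    · have e : ∀ a b c : F4, (⟨a, b, c, true, false⟩ : M) = ⟨a, b, c, false, false⟩ * M.τ := by decide
      rw [e, map_mul]
      exact mul_mem (mem_sup_right (hT0 a b c)) (mem_sup_left ht)
  have hcard : Nat.card (Mt.map φ) = 128 := by rw [card_map_of_injective h.inj, card_Mt]
  have hle : Nat.card (P ⊔ o2 N : Subgroup G) ≤ 128 := by
    by_contra hcon
    push Not at hcon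
    have hf : Fact (Nat.Prime 2) := ⟨Nat.prime_two⟩
    obtain ⟨n, hn⟩ := IsPGroup.iff_card.mp hR
    have h8 : 8 ≤ n := by
      by_contra h9
      have h10 : n ≤ 7 := by omega
      have : 2 ^ n ≤ 2 ^ 7 := Nat.pow_le_pow_right (by norm_num) h10
      rw [hn] at hcon
      omega
    have h9 : 256 ∣ Nat.card (P ⊔ o2 N : Subgroup G) := by
      rw [hn, show 256 = 2 ^ 8 by norm_num]
      exact pow_dvd_pow 2 h8
    exact not_dvd_C S h (h9.trans (card_dvd_of_le hRC))
  have heq : Mt.map φ = P ⊔ o2 N := eq_of_le_of_card_ge hMR (by rw [hcard]; exact hle)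
  intro p hp
  have h1 : p ∈ Mt.map φ := heq ▸ mem_sup_left hp
  obtain ⟨x, hx, rfl⟩ := h1
  have h2 := hPt _ hp
  rw [← map_mul, ← map_mul] at h2
  obtain ⟨h3, h4⟩ := M.cent_T x hx (h.inj h2)
  exact ⟨x, ⟨h3, h4, hx⟩, rfl⟩

end Cfsg.Agent.GH.C2Grow256
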