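import Cfsg.Agent.GH.C2Hom
import Cfsg.Agent.GH.AFour
import Cfsg.Agent.SylowSp4.ExtTransfer

/-!
# GH-C2, growth: no group of characteristic 2 with the Sylow 2-subgroup `T₀⟨t, s⟩` of order 256
-/

set_option autoImplicit false

namespace Cfsg.Agent.GH.C2Grow256

open Subgroup Cfsg Cfsg.Agent.ZN Cfsg.Agent.MinSimple.MinParabolic Cfsg.Agent.MinSimple.VModule
open Cfsg.Agent.MinSimple.Basic
open Cfsg.Agent.J2Sylow.Model Cfsg.Agent.GH.C2Rel Cfsg.Agent.GH.C2Mod Cfsg.Agent.GH.C2Hom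

/-! ### the model -/

theorem s_mul (x y : M) : (x * y).s = xor x.s y.s := by
  obtain ⟨xa, xb, xc, xt, xs⟩ := x
  obtain ⟨ya, yb, yc, yt, ys⟩ := y
  cases xt <;> cases xs <;> cases ys <;> rfl

theorem t_mul (x y : M) : (x * y).t = xor x.t y.t := by
  obtain ⟨xa, xb, xc, xt, xs⟩ := x
  obtain ⟨ya, yb, yc, yt, ys⟩ := y
  cases xt <;> cases xs <;> cases yt <;> rfl

theorem s_inv (x : M) : (x⁻¹).s = x.s := by
  obtain ⟨xa, xb, xc, xt, xs⟩ := x
  cases xt <;> cases xs <;> rfl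

theorem t_inv (x : M) : (x⁻¹).t = x.t := by
  obtain ⟨xa, xb, xc, xt, xs⟩ := x
  cases xt <;> cases xs <;> rfl

/-- `T₀⟨t⟩` -/
def Mt : Subgroup M where
  carrier := {x | x.s = false}
  one_mem' := rfl
  mul_mem' {x y} hx hy := by
    show (x * y).s = false
    rw [s_mul, show x.s = false from hx, show y.s = false from hy]; rfl
  inv_mem' {x} hx := by
    show (x⁻¹).s = false
    rw [s_inv]; exact hx

/-- `T₀⟨s⟩` -/
def Ms : Subgroup M where
  carrier := {x | x.t = false}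
  one_mem' := rfl
  mul_mem' {x y} hx hy := by
    show (x * y).t = false
    rw [t_mul, show x.t = false from hx, show y.t = false from hy]; rfl
  inv_mem' {x} hx := by
    show (x⁻¹).t = false
    rw [t_inv]; exact hx

theorem mem_Mt {x : M} : x ∈ Mt ↔ x.s = false := Iff.rfl

theorem mem_Ms {x : M} : x ∈ Ms ↔ x.t = false := Iff.rfl

/-- `Z₀` -/
def MZ : Subgroup M where
  carrier := {x | x.a = 0 ∧ x.b = 0 ∧ x.t = false ∧ x.s = false}
  one_mem' := ⟨rfl, rfl, rfl, rfl⟩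
  mul_mem' {x y} hx hy := by
    obtain ⟨xa, xb, xc, xt, xs⟩ := x
    obtain ⟨ya, yb, yc, yt, ys⟩ := y
    obtain ⟨rfl, rfl, rfl, rfl⟩ : xa = 0 ∧ xb = 0 ∧ xt = false ∧ xs = false := hx
    obtain ⟨rfl, rfl, rfl, rfl⟩ : ya = 0 ∧ yb = 0 ∧ yt = false ∧ ys = false := hy
    exact ⟨rfl, rfl, rfl, rfl⟩
  inv_mem' {x} hx := by
    obtain ⟨xa, xb, xc, xt, xs⟩ := x
    obtain ⟨rfl, rfl, rfl, rfl⟩ : xa = 0 ∧ xb = 0 ∧ xt = false ∧ xs = false := hx
    exact ⟨rfl, rfl, rfl, rfl⟩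

/-- `U = Z₀ × ⟨t⟩` -/
def MU : Subgroup M where
  carrier := {x | x.a = 0 ∧ x.b = 0 ∧ x.s = false}
  one_mem' := ⟨rfl, rfl, rfl⟩
  mul_mem' {x y} hx hy := by
    obtain ⟨xa, xb, xc, xt, xs⟩ := x
    obtain ⟨ya, yb, yc, yt, ys⟩ := y
    obtain ⟨rfl, rfl, rfl⟩ : xa = 0 ∧ xb = 0 ∧ xs = false := hx
    obtain ⟨rfl, rfl, rfl⟩ : ya = 0 ∧ yb = 0 ∧ ys = false := hy
    cases xt <;> exact ⟨rfl, rfl, rfl⟩
  inv_mem' {x} hx := by
    obtain ⟨xa, xb, xc, xt, xs⟩ := x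
    obtain ⟨rfl, rfl, rfl⟩ : xa = 0 ∧ xb = 0 ∧ xs = false := hx
    cases xt <;> exact ⟨rfl, rfl, rfl⟩

theorem mem_MZ {x : M} : x ∈ MZ ↔ x.a = 0 ∧ x.b = 0 ∧ x.t = false ∧ x.s = false := Iff.rfl

theorem mem_MU {x : M} : x ∈ MU ↔ x.a = 0 ∧ x.b = 0 ∧ x.s = false := Iff.rfl

theorem mem_MZ' {x : M} : x ∈ MZ ↔ ∃ c, x = M.zz c := by
  obtain ⟨xa, xb, xc, xt, xs⟩ := x
  constructor
  · rintro ⟨h1, h2, h3, h4⟩
    obtain rfl : xa = 0 := h1
    obtain rfl : xb = 0 := h2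
    obtain rfl : xt = false := h3
    obtain rfl : xs = false := h4
    exact ⟨xc, rfl⟩
  · rintro ⟨c, hc⟩
    rw [hc]
    exact ⟨rfl, rfl, rfl, rfl⟩

theorem mem_MU' {x : M} : x ∈ MU ↔ ∃ c, x = M.zz c ∨ x = ⟨0, 0, c, true, false⟩ := by
  obtain ⟨xa, xb, xc, xt, xs⟩ := x
  constructor
  · rintro ⟨h1, h2, h4⟩
    obtain rfl : xa = 0 := h1
    obtain rfl : xb = 0 := h2
    obtain rfl : xs = false := h4
    refine ⟨xc, ?_⟩
    cases xt
    · exact Or.inl rfl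
    · exact Or.inr rfl
  · rintro ⟨c, hc | hc⟩
    · rw [hc]
      exact ⟨rfl, rfl, rfl⟩
    · rw [hc]
      exact ⟨rfl, rfl, rfl⟩

theorem card_Mt : Nat.card Mt = 128 := by
  have h : Fintype.card {x : M // x.s = false} = 128 := by decide +kernel
  rw [← h, ← Nat.card_eq_fintype_card]
  rfl

theorem card_Ms : Nat.card Ms = 128 := by
  have h : Fintype.card {x : M // x.t = false} = 128 := by decide +kernel
  rw [← h, ← Nat.card_eq_fintype_card]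
  rfl

theorem card_MU : Nat.card MU = 8 := by
  have h : Fintype.card {x : M // x.a = 0 ∧ x.b = 0 ∧ x.s = false} = 8 := by decide +kernel
  rw [← h, ← Nat.card_eq_fintype_card]
  rfl

theorem card_MZ : Nat.card MZ = 4 := by
  have h : Fintype.card {x : M // x.a = 0 ∧ x.b = 0 ∧ x.t = false ∧ x.s = false} = 4 := by
    decide +kernel
  rw [← h, ← Nat.card_eq_fintype_card]
  rfl

theorem index_of_card {K : Subgroup M} (h : Nat.card K = 128) : K.index = 2 := by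
  have h1 := K.card_mul_index
  rw [h, M.card_M] at h1
  omega

end Cfsg.Agent.GH.C2Grow256
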