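import Cfsg.Agent.GH.C2GrowG
import Cfsg.Agent.GTwoFour.Tools

/-!
# GH-C2, growth, lemma (G): the data from a free module (helper445)

`V` of order 16 is free of rank 1 over `F₂[P/V]`, `P/V` a four-group, whose three involutions are
permuted by an element `y` of `N_G(V) ∩ C_G(z)`, `z` the norm of a generator; `T/V` of order 8, not abelian.
-/

set_option autoImplicit false

namespace Cfsg.Agent.GH.C2GrowFree

open Subgroup C2GrowG

variable {G : Type*} [Group G]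

structure FData (V T P : Subgroup G) (z v a b y : G) : Prop where
  cardV : Nat.card V = 16
  sqV : ∀ v ∈ V, v * v = 1
  centV : ∀ g : G, (∀ v ∈ V, g * v = v * g) → g ∈ V
  T_le : T ≤ normalizer (V : Set G)
  pT : IsPGroup 2 T
  syl : ∀ Q : Subgroup G, Q ≤ normalizer (V : Set G) → IsPGroup 2 Q → T ≤ Q → Q ≤ T
  cardT : Nat.card T = 128
  z_ne : z ≠ 1
  z_comm : ∀ x ∈ T, x * z = z * x
  VP : V ≤ P
  PT : P ≤ T
  cardP : Nat.card P = 64
  na : ∃ c ∈ T, ∃ k ∈ P, c * k * c⁻¹ * k⁻¹ ∉ V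
  aP : a ∈ P
  bP : b ∈ P
  aa : a * a ∈ V
  bb : b * b ∈ V
  cov : ∀ x ∈ P, x ∈ V ∨ a⁻¹ * x ∈ V ∨ b⁻¹ * x ∈ V ∨ (a * b)⁻¹ * x ∈ V
  vV : v ∈ V
  norm : v * (a * v * a⁻¹) * (b * v * b⁻¹) * ((a * b) * v * (a * b)⁻¹) = z
  yV : y ∈ normalizer (V : Set G)
  yz : y * z = z * y
  ya : b⁻¹ * (y * a * y⁻¹) ∈ V
  yb : (a * b)⁻¹ * (y * b * y⁻¹) ∈ V

variable {V T P : Subgroup G} {z v a b y : G}

/-- The norm. -/
def nm (a b w : G) : G := w * (a * w * a⁻¹) * (b * w * b⁻¹) * ((a * b) * w * (a * b)⁻¹)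

theorem four_le [Finite G] {D : Subgroup G} {e f : G} (he : e ∈ D) (hf : f ∈ D) (h1 : e ≠ 1) (h2 : f ≠ 1)
    (h3 : e ≠ f) (h4 : e * f ≠ 1) : 4 ≤ Nat.card D := by
  classical
  have : Fintype D := Fintype.ofFinite D
  rw [Nat.card_eq_fintype_card]
  have hc : ({1, ⟨e, he⟩, ⟨f, hf⟩, ⟨e * f, D.mul_mem he hf⟩} : Finset D).card = 4 := by
    rw [Finset.card_insert_of_notMem, Finset.card_insert_of_notMem, Finset.card_insert_of_notMem,
      Finset.card_singleton]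
    · rw [Finset.mem_singleton, Subtype.mk.injEq]
      intro h
      exact h1 (by simpa using h.symm)
    · rw [Finset.mem_insert, Finset.mem_singleton, Subtype.mk.injEq, Subtype.mk.injEq]
      rintro (h | h)
      · exact h3 h
      · exact h2 (by simpa using h.symm)
    · rw [Finset.mem_insert, Finset.mem_insert, Finset.mem_singleton]
      rintro (h | h | h)
      · exact h1 (congrArg Subtype.val h).symm
      · exact h2 (congrArg Subtype.val h).symm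
      · exact h4 (congrArg Subtype.val h).symm
  rw [← hc]
  exact Finset.card_le_univ _

namespace FData

theorem comm (d : FData V T P z v a b y) {v w : G} (hv : v ∈ V) (hw : w ∈ V) : v * w = w * v :=
  comm_of_sq d.sqV hv hw

theorem PV (d : FData V T P z v a b y) : P ≤ normalizer (V : Set G) := d.PT.trans d.T_le

theorem VT (d : FData V T P z v a b y) : V ≤ T := d.VP.trans d.PT

theorem cj (d : FData V T P z v a b y) {k w : G} (hk : k ∈ P) (hw : w ∈ V) : k * w * k⁻¹ ∈ V :=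
  conj_mem (d.PV hk) hw

theorem z_mem (d : FData V T P z v a b y) : z ∈ V := by
  rw [← d.norm]
  exact V.mul_mem (V.mul_mem (V.mul_mem d.vV (d.cj d.aP d.vV)) (d.cj d.bP d.vV))
    (d.cj (P.mul_mem d.aP d.bP) d.vV)

theorem card_z (d : FData V T P z v a b y) : Nat.card (zpowers z) = 2 := by
  rw [Nat.card_zpowers, orderOf_eq_prime (p := 2) (by rw [pow_two]; exact d.sqV _ d.z_mem) d.z_ne]

/-- commutators of `P` lie in `V` -/
theorem PP (d : FData V T P z v a b y) {g h : G} (hg : g ∈ P) (hh : h ∈ P) :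
    g * h * g⁻¹ * h⁻¹ ∈ V := by
  have hn : (V.subgroupOf P).Normal := normal_subgroupOf_of_le_normalizer d.PV
  have hi : (V.subgroupOf P).index = 4 := by
    have h1 := card_mul_index (V.subgroupOf P)
    rw [Nat.card_congr (subgroupOfEquivOfLe d.VP).toEquiv, d.cardV, d.cardP] at h1
    omega
  have hcard : Nat.card (P ⧸ V.subgroupOf P) = 2 ^ 2 := by
    rw [← index_eq_card, hi]; norm_num
  have : Fact (Nat.Prime 2) := ⟨Nat.prime_two⟩
  have hcomm := IsPGroup.isMulCommutative_of_card_eq_prime_sq hcard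
  have h3 : ((⟨g, hg⟩ * ⟨h, hh⟩ * ⟨g, hg⟩⁻¹ * ⟨h, hh⟩⁻¹ : P) : P ⧸ V.subgroupOf P) = 1 := by
    have := hcomm.is_comm.comm (QuotientGroup.mk ⟨g, hg⟩ : P ⧸ V.subgroupOf P) (QuotientGroup.mk ⟨h, hh⟩)
    simp only [QuotientGroup.mk_mul, QuotientGroup.mk_inv]
    rw [this]; group
  have h4 := (QuotientGroup.eq_one_iff _).1 h3
  exact mem_subgroupOf.1 h4

/-- the action on `V` only depends on the coset -/
theorem act_eq (d : FData V T P z v a b y) {k l : G} (h : l⁻¹ * k ∈ V) {w : G} (hw : w ∈ V) :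
    k * w * k⁻¹ = l * w * l⁻¹ := by
  have h1 : k = l * (l⁻¹ * k) := by group
  have h2 : k * w * k⁻¹ = l * ((l⁻¹ * k) * w * (l⁻¹ * k)⁻¹) * l⁻¹ := by group
  rw [h2, d.comm h hw]; group

/-- squares act trivially -/
theorem act_sq (d : FData V T P z v a b y) {k : G} (hk : k * k ∈ V) {w : G} (hw : w ∈ V) :
    k * (k * w * k⁻¹) * k⁻¹ = w := by
  have h2 : k * (k * w * k⁻¹) * k⁻¹ = (k * k) * w * (k * k)⁻¹ := by group
  rw [h2, d.comm hk hw]; group

/-- the action is commutative -/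
theorem act_comm (d : FData V T P z v a b y) {k l : G} (hk : k ∈ P) (hl : l ∈ P) {w : G} (hw : w ∈ V) :
    k * (l * w * l⁻¹) * k⁻¹ = l * (k * w * k⁻¹) * l⁻¹ := by
  have h1 : k * (l * w * l⁻¹) * k⁻¹ = (k * l) * w * (k * l)⁻¹ := by group
  have h2 : l * (k * w * k⁻¹) * l⁻¹ = (l * k) * w * (l * k)⁻¹ := by group
  rw [h1, h2]
  refine d.act_eq ?_ hw
  have h3 := d.PP (P.inv_mem hk) (P.inv_mem hl)
  have h4 : (l * k)⁻¹ * (k * l) = k⁻¹ * l⁻¹ * k⁻¹⁻¹ * l⁻¹⁻¹ := by group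
  rw [h4]; exact h3

/-- every element of `P - V` has a complement -/
theorem split (d : FData V T P z v a b y) {k : G} (hk : k ∈ P) (hkV : k ∉ V) : ∃ l ∈ P, k * k ∈ V ∧
    (∀ w ∈ V, (w * (k * w * k⁻¹)) * (l * (w * (k * w * k⁻¹)) * l⁻¹) = nm a b w) ∧
    (∀ w ∈ V, k * w * k⁻¹ = w → l * w * l⁻¹ = w → ∀ x ∈ P, x * w * x⁻¹ = w) := by
  have hA : ∀ w ∈ V, a * w * a⁻¹ ∈ V := fun w hw => d.cj d.aP hw
  have hB : ∀ w ∈ V, b * w * b⁻¹ ∈ V := fun w hw => d.cj d.bP hw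
  have hab : ∀ w : G, (a * b) * w * (a * b)⁻¹ = a * (b * w * b⁻¹) * a⁻¹ := fun w => by group
  have hco : ∀ w ∈ V, a * w * a⁻¹ = w → b * w * b⁻¹ = w → ∀ x ∈ P, x * w * x⁻¹ = w := by
    intro w hw h1 h2 x hx
    rcases d.cov x hx with h | h | h | h
    · rw [d.comm h hw]; group
    · rw [d.act_eq h hw, h1]
    · rw [d.act_eq h hw, h2]
    · rw [d.act_eq h hw, hab, h2, h1]
  have hsq : ∀ l : G, l * l ∈ V → l ∈ P → ∀ k : G, l⁻¹ * k ∈ V → k * k ∈ V := by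
    intro l hl hlP k hk
    have h1 : k * k = (l * (l⁻¹ * k) * l⁻¹) * (l * l) * (l⁻¹ * k) := by group
    rw [h1]
    exact V.mul_mem (V.mul_mem (d.cj hlP hk) hl) hk
  rcases d.cov k hk with h | h | h | h
  · exact absurd h hkV
  · refine ⟨b, d.bP, hsq a d.aa d.aP k h, fun w hw => ?_, fun w hw h1 h2 => ?_⟩
    · rw [d.act_eq h hw]
      have e1 : b * (w * (a * w * a⁻¹)) * b⁻¹ = (b * w * b⁻¹) * (b * (a * w * a⁻¹) * b⁻¹) := by group
      rw [e1, d.act_comm d.bP d.aP hw, nm, hab]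
      group
    · rw [d.act_eq h hw] at h1
      exact hco w hw h1 h2
  · refine ⟨a, d.aP, hsq b d.bb d.bP k h, fun w hw => ?_, fun w hw h1 h2 => ?_⟩
    · rw [d.act_eq h hw]
      have e1 : a * (w * (b * w * b⁻¹)) * a⁻¹ = (a * w * a⁻¹) * (a * (b * w * b⁻¹) * a⁻¹) := by group
      rw [e1, nm, hab, mul_assoc w, ← mul_assoc (b * w * b⁻¹), d.comm (hB w hw) (hA w hw)]
      group
    · rw [d.act_eq h hw] at h1
      exact hco w hw h2 h1
  · have habab : (a * b) * (a * b) ∈ V := by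
      have h1 : (a * b) * (a * b) = (a * b * a⁻¹ * b⁻¹) * (b * (a * a) * b⁻¹) * (b * b) := by group
      rw [h1]
      exact V.mul_mem (V.mul_mem (d.PP d.aP d.bP) (d.cj d.bP d.aa)) d.bb
    refine ⟨a, d.aP, hsq (a * b) habab (P.mul_mem d.aP d.bP) k h, fun w hw => ?_, fun w hw h1 h2 => ?_⟩
    · rw [d.act_eq h hw]
      have e1 : a * (w * (a * b * w * (a * b)⁻¹)) * a⁻¹ =
        (a * w * a⁻¹) * (a * (a * (b * w * b⁻¹) * a⁻¹) * a⁻¹) := by group
      rw [e1, d.act_sq d.aa (hB w hw), nm, hab]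
      have c1 := d.comm (hA _ (hB w hw)) (V.mul_mem (hA w hw) (hB w hw))
      calc w * (a * (b * w * b⁻¹) * a⁻¹) * (a * w * a⁻¹ * (b * w * b⁻¹))
          = w * ((a * (b * w * b⁻¹) * a⁻¹) * (a * w * a⁻¹ * (b * w * b⁻¹))) := by group
        _ = w * ((a * w * a⁻¹ * (b * w * b⁻¹)) * (a * (b * w * b⁻¹) * a⁻¹)) := by rw [c1]
        _ = _ := by group
    · rw [d.act_eq h hw, hab] at h1
      refine hco w hw h2 ?_
      have h3 : a * (a * (b * w * b⁻¹) * a⁻¹) * a⁻¹ = a * w * a⁻¹ := by rw [h1]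
      rw [d.act_sq d.aa (hB w hw), h2] at h3
      exact h3

theorem nm_mul (d : FData V T P z v a b y) {u w : G} (hu : u ∈ V) (hw : w ∈ V) :
    nm a b (u * w) = nm a b u * nm a b w := by
  have c1 := d.comm hw (d.cj d.aP hu)
  have c2 := d.comm (V.mul_mem hw (d.cj d.aP hw)) (d.cj d.bP hu)
  have c3 := d.comm (V.mul_mem (V.mul_mem hw (d.cj d.aP hw)) (d.cj d.bP hw))
    (d.cj (P.mul_mem d.aP d.bP) hu)
  unfold nm
  calc u * w * (a * (u * w) * a⁻¹) * (b * (u * w) * b⁻¹) * (a * b * (u * w) * (a * b)⁻¹)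
      = u * (w * (a * u * a⁻¹)) * (a * w * a⁻¹) * ((b * u * b⁻¹) * (b * w * b⁻¹)) *
        ((a * b * u * (a * b)⁻¹) * (a * b * w * (a * b)⁻¹)) := by group
    _ = u * (a * u * a⁻¹) * (((w * (a * w * a⁻¹)) * (b * u * b⁻¹)) * (b * w * b⁻¹)) *
        ((a * b * u * (a * b)⁻¹) * (a * b * w * (a * b)⁻¹)) := by rw [c1]; group
    _ = u * (a * u * a⁻¹) * (b * u * b⁻¹) * (((w * (a * w * a⁻¹) * (b * w * b⁻¹)) *
        (a * b * u * (a * b)⁻¹)) * (a * b * w * (a * b)⁻¹)) := by rw [c2]; group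
    _ = _ := by rw [c3]; group

theorem nm_v (d : FData V T P z v a b y) : nm a b v = z := d.norm

theorem nm_mem (d : FData V T P z v a b y) {w : G} (hw : w ∈ V) : nm a b w ∈ V :=
  V.mul_mem (V.mul_mem (V.mul_mem hw (d.cj d.aP hw)) (d.cj d.bP hw))
    (d.cj (P.mul_mem d.aP d.bP) hw)

/-- `w · w^k` -/
def dk (V : Subgroup G) (hV : ∀ v ∈ V, ∀ w ∈ V, v * w = w * v) (k : G)
    (hk : ∀ w ∈ V, k * w * k⁻¹ ∈ V) : V →* V where
  toFun w := ⟨w * (k * w * k⁻¹), V.mul_mem w.2 (hk w w.2)⟩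
  map_one' := by ext; simp
  map_mul' u w := by
    ext
    have h1 := hV w w.2 (k * u * k⁻¹) (hk u u.2)
    simp only [coe_mul]
    calc (u : G) * w * (k * (u * w) * k⁻¹) = u * (w * (k * u * k⁻¹)) * (k * w * k⁻¹) := by group
      _ = _ := by rw [h1]; group

/-- centralizer in `V` -/
def cV (V : Subgroup G) (k : G) : Subgroup G := V ⊓ centralizer {k}

theorem mem_cV {k w : G} : w ∈ cV V k ↔ w ∈ V ∧ k * w * k⁻¹ = w := by
  rw [cV, mem_inf, mem_centralizer_singleton_iff, mul_inv_eq_iff_eq_mul]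
  exact ⟨fun h => ⟨h.1, h.2.symm⟩, fun h => ⟨h.1, h.2.symm⟩⟩

/-- `w w^k`, `l (w w^k) l⁻¹` in a `P`-invariant subgroup. -/
theorem four (d : FData V T P z v a b y) [Finite G] {D : Subgroup G} {k w e f : G}
    (hw : w ∈ V) (hn : nm a b w ≠ 1) (he : e = w * (k * w * k⁻¹)) (hk : k ∈ P)
    (hef : e * f = nm a b w) (hf1 : e ≠ 1 → f ≠ 1) (hf2 : f ≠ 1 → e ≠ 1) (heD : e ∈ D) (hfD : f ∈ D) :
    4 ≤ Nat.card D := by
  have heV : e ∈ V := by rw [he]; exact V.mul_mem hw (d.cj hk hw)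
  have h1 : e ≠ 1 := by
    intro h
    have h2 : f = 1 := by
      by_contra hf
      exact hf2 hf h
    rw [h, h2, one_mul] at hef
    exact hn hef.symm
  refine four_le heD hfD h1 (hf1 h1) ?_ (by rw [hef]; exact hn)
  intro h
  rw [← h, d.sqV e heV] at hef
  exact hn hef.symm

/-- `C_V(k)` has order 4 and lies in every `P`-invariant subgroup of `V` not in the kernel of the norm. -/
theorem cV_spec (d : FData V T P z v a b y) [Finite G] {k : G} (hk : k ∈ P) (hkV : k ∉ V) :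
    Nat.card (cV V k) = 4 ∧ ∀ Y : Subgroup G, (∀ g ∈ P, ∀ w ∈ Y, g * w * g⁻¹ ∈ Y) → ∀ w ∈ Y, w ∈ V →
      nm a b w ≠ 1 → cV V k ≤ Y := by
  obtain ⟨l, hl, hkk, hsp, -⟩ := d.split hk hkV
  have hmem : ∀ w ∈ V, w * (k * w * k⁻¹) ∈ cV V k := by
    intro w hw
    rw [mem_cV]
    refine ⟨V.mul_mem hw (d.cj hk hw), ?_⟩
    have h1 : k * (w * (k * w * k⁻¹)) * k⁻¹ = (k * w * k⁻¹) * (k * (k * w * k⁻¹) * k⁻¹) := by group
    rw [h1, d.act_sq hkk hw, d.comm (d.cj hk hw) hw]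
  have hlk : ∀ w ∈ cV V k, l * w * l⁻¹ ∈ cV V k := by
    intro w hw
    rw [mem_cV] at hw ⊢
    refine ⟨d.cj hl hw.1, ?_⟩
    rw [d.act_comm hk hl hw.1, hw.2]
  -- four elements
  have h4 : ∀ D : Subgroup G, (∀ g ∈ P, ∀ w ∈ D, g * w * g⁻¹ ∈ D) → ∀ w ∈ D, w ∈ V → nm a b w ≠ 1 →
      4 ≤ Nat.card (cV V k ⊓ D : Subgroup G) := by
    intro D hD w hwD hwV hn
    have heD : w * (k * w * k⁻¹) ∈ D := D.mul_mem hwD (hD k hk w hwD)
    refine d.four (e := w * (k * w * k⁻¹)) (f := l * (w * (k * w * k⁻¹)) * l⁻¹) hwV hn rfl hk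
      (hsp w hwV) ?_ ?_ (mem_inf.2 ⟨hmem w hwV, heD⟩) (mem_inf.2 ⟨hlk _ (hmem w hwV), hD l hl _ heD⟩)
    · intro h h'
      exact h (by rwa [mul_inv_eq_one, mul_eq_left] at h')
    · intro h h'
      rw [h'] at h
      exact h (by group)
  have hnv : nm a b v ≠ 1 := by rw [d.nm_v]; exact d.z_ne
  -- the order
  have hcomm : ∀ v ∈ V, ∀ w ∈ V, v * w = w * v := fun v hv w hw => d.comm hv hw
  let f := dk V hcomm k (fun w hw => d.cj hk hw)
  have hfv : ∀ w : V, ((f w : V) : G) = w * (k * w * k⁻¹) := fun w => rfl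
  have hrange : f.range.map V.subtype ≤ cV V k := by
    rintro _ ⟨_, ⟨w, rfl⟩, rfl⟩
    exact hmem w w.2
  have hker : f.ker.map V.subtype = cV V k := by
    ext x
    constructor
    · rintro ⟨w, hw, rfl⟩
      have h1 := congrArg Subtype.val (MonoidHom.mem_ker.1 hw)
      rw [hfv] at h1
      rw [mem_cV]
      refine ⟨w.2, ?_⟩
      have h2 := eq_inv_of_mul_eq_one_right h1
      have h3 : (w : G)⁻¹ = w := inv_eq_of_mul_eq_one_left (d.sqV _ w.2)
      rw [h3] at h2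
      exact h2
    · intro hx
      rw [mem_cV] at hx
      refine ⟨⟨x, hx.1⟩, ?_, rfl⟩
      rw [SetLike.mem_coe, MonoidHom.mem_ker]
      apply Subtype.ext
      rw [hfv]
      show x * (k * x * k⁻¹) = 1
      rw [hx.2, d.sqV x hx.1]
  have hrg4 : 4 ≤ Nat.card f.range := by
    rw [← card_map_of_injective (f := V.subtype) V.subtype_injective]
    have heR : ∀ w ∈ V, w * (k * w * k⁻¹) ∈ f.range.map V.subtype := by
      intro w hw
      exact ⟨f ⟨w, hw⟩, ⟨⟨w, hw⟩, rfl⟩, rfl⟩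
    refine d.four (e := v * (k * v * k⁻¹)) (f := l * (v * (k * v * k⁻¹)) * l⁻¹) d.vV hnv rfl hk
      (hsp v d.vV) ?_ ?_ (heR v d.vV) ?_
    · intro h h'
      exact h (by rwa [mul_inv_eq_one, mul_eq_left] at h')
    · intro h h'
      rw [h'] at h
      exact h (by group)
    · have h1 : l * (v * (k * v * k⁻¹)) * l⁻¹ = (l * v * l⁻¹) * (l * (k * v * k⁻¹) * l⁻¹) := by group
      rw [h1, ← d.act_comm hk hl d.vV]
      exact heR _ (d.cj hl d.vV)
  have h1 : Nat.card f.ker * Nat.card f.range = 16 := by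
    rw [← d.cardV, ← card_mul_index f.ker, index_ker]
  have h2 : Nat.card f.ker = Nat.card (cV V k) := by
    rw [← hker, card_map_of_injective (f := V.subtype) V.subtype_injective]
  have h3 : Nat.card f.range ≤ Nat.card (cV V k) := by
    rw [← card_map_of_injective (f := V.subtype) V.subtype_injective]
    exact card_le_of_le hrange
  rw [h2] at h1
  have hc4 : Nat.card (cV V k) = 4 := by
    have h5 : Nat.card (cV V k) ≤ 4 := by
      by_contra h; push Not at h; nlinarith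
    have h6 : 4 ≤ Nat.card (cV V k) := by omega
    omega
  refine ⟨hc4, fun Y hY w hwY hwV hn => ?_⟩
  have h5 := h4 Y hY w hwY hwV hn
  have h6 : cV V k ⊓ Y = cV V k := eq_of_le_of_card_ge inf_le_left (by rw [hc4]; exact h5)
  exact inf_eq_left.1 h6

theorem aV (d : FData V T P z v a b y) : a ∉ V := by
  intro h
  apply d.z_ne
  rw [← d.norm]
  have h1 : a * v * a⁻¹ = v := by rw [d.comm h d.vV]; group
  have h2 : a * b * v * (a * b)⁻¹ = b * v * b⁻¹ := by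
    have h3 : a * b * v * (a * b)⁻¹ = a * (b * v * b⁻¹) * a⁻¹ := by group
    rw [h3, d.comm h (d.cj d.bP d.vV)]; group
  rw [h1, h2, d.sqV v d.vV, one_mul, d.sqV _ (d.cj d.bP d.vV)]

/-- `C_V(P) = ⟨z⟩`. -/
theorem cP (d : FData V T P z v a b y) [Finite G] {w : G} (hw : w ∈ V)
    (h : ∀ k ∈ P, k * w * k⁻¹ = w) : w = 1 ∨ w = z := by
  -- `C_V(P) < C_V(a)`
  let Z : Subgroup G := V ⊓ centralizer (P : Set G)
  have hZ : ∀ x, x ∈ Z ↔ x ∈ V ∧ ∀ k ∈ P, k * x * k⁻¹ = x := by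
    intro x
    rw [mem_inf, mem_centralizer_iff]
    constructor
    · rintro ⟨h1, h2⟩
      refine ⟨h1, fun k hk => ?_⟩
      rw [h2 k hk]; group
    · rintro ⟨h1, h2⟩
      refine ⟨h1, fun k hk => ?_⟩
      exact mul_inv_eq_iff_eq_mul.1 (h2 k hk)
  have hzZ : z ∈ Z := by
    rw [hZ]
    refine ⟨d.z_mem, fun k hk => ?_⟩
    rw [d.z_comm k (d.PT hk)]; group
  obtain ⟨hc4, hspec⟩ := d.cV_spec d.aP d.aV
  obtain ⟨l, hl, hkk, hsp, -⟩ := d.split d.aP d.aV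
  have hle : Z ≤ cV V a := by
    intro x hx
    rw [hZ] at hx
    exact mem_cV.2 ⟨hx.1, hx.2 a d.aP⟩
  have hne : Z ≠ cV V a := by
    intro heq
    -- `e = v v^a` is in `C_V(a)` but not fixed by `l`
    have heV : v * (a * v * a⁻¹) ∈ V := V.mul_mem d.vV (d.cj d.aP d.vV)
    have he : v * (a * v * a⁻¹) ∈ cV V a := by
      rw [mem_cV]
      refine ⟨heV, ?_⟩
      have h1 : a * (v * (a * v * a⁻¹)) * a⁻¹ = (a * v * a⁻¹) * (a * (a * v * a⁻¹) * a⁻¹) := by group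
      rw [h1, d.act_sq hkk d.vV, d.comm (d.cj d.aP d.vV) d.vV]
    rw [← heq, hZ] at he
    have h2 := hsp v d.vV
    rw [he.2 l hl, d.sqV _ heV, d.nm_v] at h2
    exact d.z_ne h2.symm
  have h2 : Nat.card Z ≤ 2 := by
    have h3 : Nat.card Z ∣ 4 := by rw [← hc4]; exact card_dvd_of_le hle
    have h4 : Nat.card Z ≠ 4 := by
      intro h5
      exact hne (eq_of_le_of_card_ge hle (by rw [h5, hc4]))
    have h6 : Nat.card Z ≤ 4 := Nat.le_of_dvd (by norm_num) h3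
    have h7 : Nat.card Z ≠ 3 := by intro h8; rw [h8] at h3; norm_num at h3
    omega
  have h3 : zpowers z = Z := by
    refine eq_of_le_of_card_ge (by rw [zpowers_le]; exact hzZ) ?_
    rw [d.card_z]; exact h2
  have hwZ : w ∈ Z := (hZ w).2 ⟨hw, h⟩
  rw [← h3] at hwZ
  have h5 : Nat.card (zpowers z) = 2 := d.card_z
  obtain ⟨n, rfl⟩ := mem_zpowers_iff.1 hwZ
  have hz2 : z ^ 2 = 1 := by rw [pow_two]; exact d.sqV z d.z_mem
  rcases Int.even_or_odd n with ⟨m, rfl⟩ | ⟨m, rfl⟩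
  · left
    rw [← two_mul, zpow_mul, zpow_ofNat, hz2, one_zpow]
  · right
    rw [zpow_add, zpow_mul, zpow_ofNat, hz2, one_zpow, one_mul, zpow_one]

/-- The kernel of the norm. -/
def V0 (d : FData V T P z v a b y) : Subgroup G where
  carrier := {w | w ∈ V ∧ nm a b w = 1}
  one_mem' := ⟨V.one_mem, by simp [nm]⟩
  mul_mem' := by
    rintro u w ⟨hu, hu'⟩ ⟨hw, hw'⟩
    exact ⟨V.mul_mem hu hw, by rw [d.nm_mul hu hw, hu', hw', one_mul]⟩
  inv_mem' := by
    rintro u ⟨hu, hu'⟩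
    have h3 : u⁻¹ = u := inv_eq_of_mul_eq_one_left (d.sqV _ hu)
    rw [Set.mem_ofPred_eq, h3]
    exact ⟨hu, hu'⟩

theorem mem_V0 (d : FData V T P z v a b y) {w : G} : w ∈ d.V0 ↔ w ∈ V ∧ nm a b w = 1 := Iff.rfl

/-- The norm is fixed by `P`. -/
theorem nm_fix (d : FData V T P z v a b y) {w : G} (hw : w ∈ V) {x : G} (hx : x ∈ P) :
    x * nm a b w * x⁻¹ = nm a b w := by
  obtain ⟨l, hl, hkk, hsp, hco⟩ := d.split d.aP d.aV
  have heV : w * (a * w * a⁻¹) ∈ V := V.mul_mem hw (d.cj d.aP hw)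
  refine hco _ (d.nm_mem hw) ?_ ?_ x hx
  · rw [← hsp w hw]
    have h1 : a * (w * (a * w * a⁻¹)) * a⁻¹ = w * (a * w * a⁻¹) := by
      have h1 : a * (w * (a * w * a⁻¹)) * a⁻¹ = (a * w * a⁻¹) * (a * (a * w * a⁻¹) * a⁻¹) := by group
      rw [h1, d.act_sq hkk hw, d.comm (d.cj d.aP hw) hw]
    have h2 : a * (w * (a * w * a⁻¹) * (l * (w * (a * w * a⁻¹)) * l⁻¹)) * a⁻¹ =
      (a * (w * (a * w * a⁻¹)) * a⁻¹) * (a * (l * (w * (a * w * a⁻¹)) * l⁻¹) * a⁻¹) := by group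
    rw [h2, d.act_comm d.aP hl heV, h1]
  · -- `l² ∈ V`? use the explicit norm
    have hll : l * l ∈ V := by
      by_cases hlV : l ∈ V
      · exact V.mul_mem hlV hlV
      · exact (d.split hl hlV).choose_spec.2.1
    rw [← hsp w hw]
    have h2 : l * (w * (a * w * a⁻¹) * (l * (w * (a * w * a⁻¹)) * l⁻¹)) * l⁻¹ =
      (l * (w * (a * w * a⁻¹)) * l⁻¹) * (l * (l * (w * (a * w * a⁻¹)) * l⁻¹) * l⁻¹) := by group
    rw [h2, d.act_sq hll heV, d.comm (d.cj hl heV) heV]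

theorem nm_eq (d : FData V T P z v a b y) [Finite G] {w : G} (hw : w ∈ V) :
    nm a b w = 1 ∨ nm a b w = z :=
  d.cP (d.nm_mem hw) (fun _ hx => d.nm_fix hw hx)

theorem vV0 (d : FData V T P z v a b y) : v ∉ d.V0 := by
  intro h
  rw [d.mem_V0, d.nm_v] at h
  exact d.z_ne h.2

theorem V0_le (d : FData V T P z v a b y) : d.V0 ≤ V := fun _ hw => hw.1

theorem card_V0 (d : FData V T P z v a b y) [Finite G] : Nat.card d.V0 = 8 := by
  have h1 : (d.V0.subgroupOf V).index = 2 := by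
    rw [index_eq_two_iff]
    refine ⟨⟨v, d.vV⟩, fun w => ?_⟩
    rw [mem_subgroupOf, mem_subgroupOf, d.mem_V0, d.mem_V0]
    have hn := d.nm_mul w.2 d.vV
    show Xor ((w : G) * v ∈ V ∧ nm a b (w * v) = 1) ((w : G) ∈ V ∧ nm a b w = 1)
    rw [hn, d.nm_v]
    rcases d.nm_eq w.2 with h | h
    · right
      refine ⟨⟨w.2, h⟩, fun h2 => d.z_ne ?_⟩
      rw [h, one_mul] at h2
      exact h2.2
    · left
      refine ⟨⟨V.mul_mem w.2 d.vV, by rw [h]; exact d.sqV z d.z_mem⟩, fun h2 => d.z_ne ?_⟩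
      rw [← h]; exact h2.2
  have h2 := card_mul_index (d.V0.subgroupOf V)
  rw [Nat.card_congr (subgroupOfEquivOfLe d.V0_le).toEquiv, h1, d.cardV] at h2
  omega

/-- An element of `V` centralised by `k ∈ P - V` has norm 1. -/
theorem nm_of_cV (d : FData V T P z v a b y) {k : G} (hk : k ∈ P) (hkV : k ∉ V) :
    cV V k ≤ d.V0 := by
  intro w hw
  rw [mem_cV] at hw
  obtain ⟨l, hl, hkk, hsp, -⟩ := d.split hk hkV
  have h1 := hsp w hw.1
  rw [hw.2, d.sqV w hw.1] at h1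
  refine ⟨hw.1, ?_⟩
  rw [← h1]; group

theorem V0P (d : FData V T P z v a b y) [Finite G] : ∀ w ∈ d.V0, ∀ k ∈ P,
    k * w * k⁻¹ * w⁻¹ ∈ zpowers z := by
  intro w hw k hk
  have hwi : w⁻¹ = w := inv_eq_of_mul_eq_one_left (d.sqV _ hw.1)
  by_cases hkV : k ∈ V
  · have h1 : k * w * k⁻¹ * w⁻¹ = 1 := by
      rw [d.comm hkV hw.1]; group
    rw [h1]; exact one_mem _
  obtain ⟨l, hl, hkk, hsp, hco⟩ := d.split hk hkV
  have heV : w * (k * w * k⁻¹) ∈ V := V.mul_mem hw.1 (d.cj hk hw.1)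
  have h1 := hsp w hw.1
  rw [hw.2] at h1
  have h2 : k * w * k⁻¹ * w⁻¹ = w * (k * w * k⁻¹) := by
    rw [hwi, d.comm (d.cj hk hw.1) hw.1]
  have h3 : l * (w * (k * w * k⁻¹)) * l⁻¹ = w * (k * w * k⁻¹) := by
    have h4 := eq_inv_of_mul_eq_one_right h1
    rw [h4]
    exact inv_eq_of_mul_eq_one_left (d.sqV _ heV)
  have h5 : k * (w * (k * w * k⁻¹)) * k⁻¹ = w * (k * w * k⁻¹) := by
    have h1 : k * (w * (k * w * k⁻¹)) * k⁻¹ = (k * w * k⁻¹) * (k * (k * w * k⁻¹) * k⁻¹) := by group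
    rw [h1, d.act_sq hkk hw.1, d.comm (d.cj hk hw.1) hw.1]
  rw [h2]
  rcases d.cP heV (hco _ heV h5 h3) with h | h
  · rw [h]; exact one_mem _
  · rw [h]; exact mem_zpowers z

/-- `y` normalises `P`. -/
theorem yP (d : FData V T P z v a b y) [Finite G] : y ∈ normalizer (P : Set G) := by
  have hya : y * a * y⁻¹ ∈ P := by
    have h := P.mul_mem d.bP (d.VP d.ya)
    simpa using h
  have hyb : y * b * y⁻¹ ∈ P := by
    have h := P.mul_mem (P.mul_mem d.aP d.bP) (d.VP d.yb)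
    rwa [mul_inv_cancel_left] at h
  have hyv : ∀ w ∈ V, y * w * y⁻¹ ∈ P := fun w hw => d.VP (conj_mem d.yV hw)
  refine mem_normalizer_of (fun x hx => ?_)
  rcases d.cov x hx with h | h | h | h
  · exact hyv x h
  · have h1 : y * x * y⁻¹ = (y * a * y⁻¹) * (y * (a⁻¹ * x) * y⁻¹) := by group
    rw [h1]; exact P.mul_mem hya (hyv _ h)
  · have h1 : y * x * y⁻¹ = (y * b * y⁻¹) * (y * (b⁻¹ * x) * y⁻¹) := by group
    rw [h1]; exact P.mul_mem hyb (hyv _ h)
  · have h1 : y * x * y⁻¹ = (y * a * y⁻¹) * (y * b * y⁻¹) * (y * ((a * b)⁻¹ * x) * y⁻¹) := by group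
    rw [h1]; exact P.mul_mem (P.mul_mem hya hyb) (hyv _ h)

theorem irrP (d : FData V T P z v a b y) : ∀ Y : Subgroup G, V ≤ Y → Y ≤ P →
    y ∈ normalizer (Y : Set G) → Y = V ∨ Y = P := by
  intro Y hVY hYP hy
  by_cases hle : Y ≤ V
  · exact Or.inl (le_antisymm hle hVY)
  right
  obtain ⟨x, hx, hxV⟩ := SetLike.not_le_iff_exists.1 hle
  have c1 : a ∈ Y → b ∈ Y := by
    intro h
    have h1 := Y.mul_mem (conj_mem hy h) (Y.inv_mem (hVY d.ya))
    have h2 : y * a * y⁻¹ * (b⁻¹ * (y * a * y⁻¹))⁻¹ = b := by group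
    rwa [h2] at h1
  have c2 : b ∈ Y → a * b ∈ Y := by
    intro h
    have h1 := Y.mul_mem (conj_mem hy h) (Y.inv_mem (hVY d.yb))
    have h2 : y * b * y⁻¹ * ((a * b)⁻¹ * (y * b * y⁻¹))⁻¹ = a * b := by group
    rwa [h2] at h1
  have c3 : a * b ∈ Y → a ∈ Y := by
    intro h
    have h1 := conj_mem hy h
    -- `y a b y⁻¹ ∈ b a b V = a V`
    have h2 : y * (a * b) * y⁻¹ = (b * (b⁻¹ * (y * a * y⁻¹)) * b⁻¹) * (b * (a * b)) *
      ((a * b)⁻¹ * (y * b * y⁻¹)) := by group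
    have h3 : (b * (b⁻¹ * (y * a * y⁻¹)) * b⁻¹) ∈ V := d.cj d.bP d.ya
    have h4 : b * (a * b) = (b * a * b⁻¹ * a⁻¹) * (a * (b * b) * a⁻¹) * a := by group
    have h5 : (b * a * b⁻¹ * a⁻¹) ∈ V := d.PP d.bP d.aP
    have h6 : (a * (b * b) * a⁻¹) ∈ V := d.cj d.aP d.bb
    have h7 : a = (a * (b * b) * a⁻¹)⁻¹ * (b * a * b⁻¹ * a⁻¹)⁻¹ *
        ((b * (b⁻¹ * (y * a * y⁻¹)) * b⁻¹)⁻¹ * (y * (a * b) * y⁻¹) *
        ((a * b)⁻¹ * (y * b * y⁻¹))⁻¹) := by
      rw [h2, h4]; group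
    rw [h7]
    exact Y.mul_mem (Y.mul_mem (Y.inv_mem (hVY h6)) (Y.inv_mem (hVY h5)))
      (Y.mul_mem (Y.mul_mem (Y.inv_mem (hVY h3)) h1) (Y.inv_mem (hVY d.yb)))
  have ha : a ∈ Y := by
    have hsh : ∀ l : G, l⁻¹ * x ∈ V → l ∈ Y := by
      intro l hl
      have h2 : x * (l⁻¹ * x)⁻¹ = l := by group
      rw [← h2]
      exact Y.mul_mem hx (Y.inv_mem (hVY hl))
    rcases d.cov x (hYP hx) with h | h | h | h
    · exact absurd h hxV
    · exact hsh a h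
    · exact c3 (c2 (hsh b h))
    · exact c3 (hsh _ h)
  have hb := c1 ha
  refine le_antisymm hYP (fun g hg => ?_)
  rcases d.cov g hg with h | h | h | h
  · exact hVY h
  · have := Y.mul_mem ha (hVY h); simpa using this
  · have := Y.mul_mem hb (hVY h); simpa using this
  · have := Y.mul_mem (Y.mul_mem ha hb) (hVY h)
    rwa [mul_inv_cancel_left] at this

/-- A `y`-invariant subgroup of `V0` containing `z`. -/
theorem irrV0 (d : FData V T P z v a b y) [Finite G] (Y : Subgroup G) (hY : Y ≤ d.V0) (hz : z ∈ Y)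
    (hy : y ∈ normalizer (Y : Set G)) : Y = zpowers z ∨ Y = d.V0 := by
  by_cases hcard : Nat.card Y = 8
  · right
    exact eq_of_le_of_card_ge hY (by rw [hcard, d.card_V0])
  left
  have hzle : zpowers z ≤ Y := by rw [zpowers_le]; exact hz
  have hdvd : Nat.card Y ∣ 8 := by rw [← d.card_V0]; exact card_dvd_of_le hY
  have hle8 : Nat.card Y ≤ 8 := Nat.le_of_dvd (by norm_num) hdvd
  have h4 : Nat.card Y ≤ 4 := by
    have h5 : Nat.card Y ≠ 5 := by intro h8; rw [h8] at hdvd; norm_num at hdvd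
    have h6 : Nat.card Y ≠ 6 := by intro h8; rw [h8] at hdvd; norm_num at hdvd
    have h7 : Nat.card Y ≠ 7 := by intro h8; rw [h8] at hdvd; norm_num at hdvd
    omega
  by_contra hne
  have hnle : ¬ Y ≤ zpowers z := fun h => hne (le_antisymm h hzle)
  obtain ⟨w, hwY, hwz⟩ := SetLike.not_le_iff_exists.1 hnle
  have hwV : w ∈ V := d.V0_le (hY hwY)
  have hw1 : w ≠ 1 := fun h => hwz (by rw [h]; exact one_mem _)
  have hwz' : w ≠ z := fun h => hwz (by rw [h]; exact mem_zpowers z)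
  -- `Y = ⟨z, w⟩`
  have hYeq : zpowers z ⊔ zpowers w = Y := by
    refine eq_of_le_of_card_ge (sup_le hzle (by rw [zpowers_le]; exact hwY)) ?_
    refine h4.trans (four_le (mem_sup_left (mem_zpowers z)) (mem_sup_right (mem_zpowers w)) d.z_ne hw1
      hwz'.symm ?_)
    intro h
    apply hwz'
    have h1 := eq_inv_of_mul_eq_one_right h
    rw [h1]
    exact inv_eq_of_mul_eq_one_left (d.sqV _ d.z_mem)
  -- the centraliser in `P`
  have hYV : Y ≤ V := hY.trans d.V0_le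
  let C : Subgroup G := P ⊓ centralizer (Y : Set G)
  have hC : ∀ x, x ∈ C ↔ x ∈ P ∧ ∀ u ∈ Y, x * u * x⁻¹ = u := by
    intro x
    rw [mem_inf, mem_centralizer_iff]
    constructor
    · rintro ⟨h1, h2⟩
      refine ⟨h1, fun k hk => ?_⟩
      rw [← h2 k hk]; group
    · rintro ⟨h1, h2⟩
      refine ⟨h1, fun k hk => ?_⟩
      exact (mul_inv_eq_iff_eq_mul.1 (h2 k hk)).symm
  have hCw : ∀ x ∈ P, x * w * x⁻¹ = w → x ∈ C := by
    intro x hx h1
    refine mem_inf.2 ⟨hx, ?_⟩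
    have h2 : Y ≤ centralizer {x} := by
      rw [← hYeq]
      refine sup_le ?_ ?_
      · rw [zpowers_le, mem_centralizer_singleton_iff]
        exact (d.z_comm x (d.PT hx)).symm
      · rw [zpowers_le, mem_centralizer_singleton_iff]
        exact (mul_inv_eq_iff_eq_mul.1 h1).symm
    rw [mem_centralizer_iff]
    intro u hu
    exact mem_centralizer_singleton_iff.1 (h2 hu)
  have hVC : V ≤ C := by
    intro x hx
    refine hCw x (d.VP hx) ?_
    rw [d.comm hx hwV]; group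
  have hCy : y ∈ normalizer (C : Set G) := by
    refine mem_normalizer_of (fun x hx => ?_)
    rw [hC] at hx ⊢
    refine ⟨conj_mem d.yP hx.1, fun u hu => ?_⟩
    have hu' : y⁻¹ * u * y⁻¹⁻¹ ∈ Y := conj_mem (inv_mem hy) hu
    have h1 := hx.2 _ hu'
    have h2 : y * x * y⁻¹ * u * (y * x * y⁻¹)⁻¹ = y * (x * (y⁻¹ * u * y⁻¹⁻¹) * x⁻¹) * y⁻¹ := by group
    rw [h2, h1]; group
  have hzz : ∀ k ∈ P, k * w * k⁻¹ = w ∨ k * w * k⁻¹ = z * w := by
    intro k hk
    have h1 := d.V0P w (hY hwY) k hk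
    have h2 : k * w * k⁻¹ * w⁻¹ = 1 ∨ k * w * k⁻¹ * w⁻¹ = z := by
      refine d.cP (V.mul_mem (d.cj hk hwV) (V.inv_mem hwV)) (fun g hg => ?_)
      have h3 : zpowers z ≤ centralizer {g} := by
        rw [zpowers_le, mem_centralizer_singleton_iff]
        exact (d.z_comm g (d.PT hg)).symm
      rw [← mem_centralizer_singleton_iff.1 (h3 h1)]; group
    rcases h2 with h2 | h2
    · left; exact mul_inv_eq_one.1 h2
    · right; exact mul_inv_eq_iff_eq_mul.1 h2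
  have hex : ∃ k ∈ C, k ∉ V := by
    have haV := d.aV
    obtain ⟨l, hl, -, -, -⟩ := d.split d.aP d.aV
    have hbV : b ∉ V := by
      intro h
      have h1 := V.mul_mem h d.ya
      rw [mul_inv_cancel_left] at h1
      have h2 := conj_mem (inv_mem d.yV) h1
      have h3 : y⁻¹ * (y * a * y⁻¹) * y⁻¹⁻¹ = a := by group
      exact haV (by rwa [h3] at h2)
    have habV : a * b ∉ V := by
      intro h
      have h1 := V.mul_mem h d.yb
      rw [mul_inv_cancel_left] at h1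
      have h2 := conj_mem (inv_mem d.yV) h1
      have h3 : y⁻¹ * (y * b * y⁻¹) * y⁻¹⁻¹ = b := by group
      exact hbV (by rwa [h3] at h2)
    rcases hzz a d.aP with h1 | h1
    · exact ⟨a, hCw a d.aP h1, haV⟩
    rcases hzz b d.bP with h2 | h2
    · exact ⟨b, hCw b d.bP h2, hbV⟩
    refine ⟨a * b, hCw _ (P.mul_mem d.aP d.bP) ?_, habV⟩
    have h3 : a * b * w * (a * b)⁻¹ = a * (b * w * b⁻¹) * a⁻¹ := by group
    have h4 : a * (z * w) * a⁻¹ = (a * z * a⁻¹) * (a * w * a⁻¹) := by group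
    have h5 : a * z * a⁻¹ = z := by rw [d.z_comm a (d.PT d.aP)]; group
    rw [h3, h2, h4, h1, h5, ← mul_assoc, d.sqV z d.z_mem, one_mul]
  rcases d.irrP C hVC inf_le_left hCy with h | h
  · obtain ⟨k, hk, hkV⟩ := hex
    exact hkV (by rw [← h]; exact hk)
  · have h1 : ∀ k ∈ P, k * w * k⁻¹ = w := by
      intro k hk
      rw [← h] at hk
      exact ((hC k).1 hk).2 w hwY
    rcases d.cP hwV h1 with h2 | h2
    · exact hw1 h2
    · exact hwz' h2

theorem irrV (d : FData V T P z v a b y) [Finite G] (Y : Subgroup G) (hYV : Y ≤ V) (hz : z ∈ Y)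
    (hP : ∀ g ∈ P, ∀ w ∈ Y, g * w * g⁻¹ ∈ Y)
    (hy : y ∈ normalizer (Y : Set G)) : Y = zpowers z ∨ Y = d.V0 ∨ Y = V := by
  by_cases hle : Y ≤ d.V0
  · rcases d.irrV0 Y hle hz hy with h | h
    · exact Or.inl h
    · exact Or.inr (Or.inl h)
  right; right
  obtain ⟨w, hwY, hw0⟩ := SetLike.not_le_iff_exists.1 hle
  have hwV := hYV hwY
  have hn : nm a b w ≠ 1 := fun h => hw0 ⟨hwV, h⟩
  have haV := d.aV
  have hbV : b ∉ V := by
    intro h
    have h1 := V.mul_mem h d.ya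
    rw [mul_inv_cancel_left] at h1
    have h2 := conj_mem (inv_mem d.yV) h1
    have h3 : y⁻¹ * (y * a * y⁻¹) * y⁻¹⁻¹ = a := by group
    exact haV (by rwa [h3] at h2)
  obtain ⟨ha4, haY⟩ := d.cV_spec d.aP haV
  obtain ⟨hb4, hbY⟩ := d.cV_spec d.bP hbV
  have h1 := haY Y hP w hwY hwV hn
  have h2 := hbY Y hP w hwY hwV hn
  have h3 := d.nm_of_cV d.aP haV
  have h4 := d.nm_of_cV d.bP hbV
  -- `C_V(a) ≠ C_V(b)`
  have hne : cV V a ≠ cV V b := by
    intro h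
    have h5 : cV V a ≤ zpowers z := by
      intro u hu
      have hu2 : u ∈ cV V b := by rw [← h]; exact hu
      rw [mem_cV] at hu hu2
      have h6 : ∀ k ∈ P, k * u * k⁻¹ = u := by
        intro k hk
        rcases d.cov k hk with h | h | h | h
        · rw [d.comm h hu.1]; group
        · rw [d.act_eq h hu.1, hu.2]
        · rw [d.act_eq h hu.1, hu2.2]
        · rw [d.act_eq h hu.1]
          have h7 : a * b * u * (a * b)⁻¹ = a * (b * u * b⁻¹) * a⁻¹ := by group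
          rw [h7, hu2.2, hu.2]
      rcases d.cP hu.1 h6 with h | h
      · rw [h]; exact one_mem _
      · rw [h]; exact mem_zpowers z
    have h6 := card_le_of_le h5
    rw [ha4, d.card_z] at h6
    omega
  have h5 : cV V a ⊔ cV V b ≤ Y ⊓ d.V0 := sup_le (le_inf h1 h3) (le_inf h2 h4)
  have h6 : Y ⊓ d.V0 = d.V0 := by
    refine eq_of_le_of_card_ge inf_le_right ?_
    rw [d.card_V0]
    have e1 : cV V a ≤ Y ⊓ d.V0 := le_sup_left.trans h5
    have e2 : Nat.card (cV V a) ∣ Nat.card (Y ⊓ d.V0 : Subgroup G) := card_dvd_of_le e1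
    have e3 : Nat.card (cV V a) ≠ Nat.card (Y ⊓ d.V0 : Subgroup G) := by
      intro h
      have e4 : cV V a = Y ⊓ d.V0 := eq_of_le_of_card_ge e1 h.ge
      have e5 : cV V b ≤ cV V a := by rw [e4]; exact le_sup_right.trans h5
      exact hne (eq_of_le_of_card_ge e5 (by rw [ha4, hb4])).symm
    rw [ha4] at e2 e3
    have e6 : 0 < Nat.card (Y ⊓ d.V0 : Subgroup G) := Nat.card_pos
    obtain ⟨k, hk⟩ := e2
    rw [hk] at e3 e6 ⊢
    omega
  have h7 : d.V0 ≤ Y := inf_eq_right.1 h6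
  have h8 : Nat.card d.V0 ∣ Nat.card Y := card_dvd_of_le h7
  have h9 : Nat.card d.V0 ≠ Nat.card Y := by
    intro h
    have : d.V0 = Y := eq_of_le_of_card_ge h7 h.ge
    exact hw0 (by rw [this]; exact hwY)
  rw [d.card_V0] at h8 h9
  refine eq_of_le_of_card_ge hYV ?_
  rw [d.cardV]
  have e6 : 0 < Nat.card Y := Nat.card_pos
  obtain ⟨k, hk⟩ := h8
  rw [hk] at h9 e6 ⊢
  omega

/-- Normal 2-subgroups of `X`. -/
theorem norm2 (d : FData V T P z v a b y) [Finite G] (N : Subgroup G)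
    (hN : N ≤ normalizer (V : Set G)) (hN2 : IsPGroup 2 N)
    (hT : ∀ x ∈ T, x ∈ normalizer (N : Set G)) (hy : y ∈ normalizer (N : Set G)) : N ≤ P := by
  have hNT : N ≤ T := by
    have h1 : IsPGroup 2 (T ⊔ N : Subgroup G) := IsPGroup.to_sup_of_normal_right' d.pT hN2 hT
    exact le_sup_right.trans (d.syl (T ⊔ N) (sup_le d.T_le hN) h1 le_sup_left)
  by_contra hNP
  -- `T = P N`
  have hPN : P ⊔ N = T := by
    have hle : P ⊔ N ≤ T := sup_le d.PT hNT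
    refine eq_of_le_of_card_ge hle ?_
    rw [d.cardT]
    have e1 : P ≤ P ⊔ N := le_sup_left
    have e2 : Nat.card P ∣ Nat.card (P ⊔ N : Subgroup G) := card_dvd_of_le e1
    have e3 : Nat.card P ≠ Nat.card (P ⊔ N : Subgroup G) := by
      intro h
      have e4 : P = P ⊔ N := eq_of_le_of_card_ge e1 h.ge
      exact hNP (by rw [e4]; exact le_sup_right)
    rw [d.cardP] at e2 e3
    have e6 : 0 < Nat.card (P ⊔ N : Subgroup G) := Nat.card_pos
    obtain ⟨k, hk⟩ := e2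
    rw [hk] at e3 e6 ⊢
    omega
  have hyT : y ∈ normalizer (T : Set G) := by
    refine mem_normalizer_of (fun x hx => ?_)
    have h1 : T.map (MulAut.conj y).toMonoidHom ≤ T := by
      rw [← hPN, Subgroup.map_sup]
      refine sup_le_sup ?_ ?_
      · rintro _ ⟨u, hu, rfl⟩
        exact conj_mem d.yP hu
      · rintro _ ⟨u, hu, rfl⟩
        exact conj_mem hy hu
    exact h1 ⟨x, hx, rfl⟩
  have : Fact (Nat.Prime 2) := ⟨Nat.prime_two⟩
  -- `[P, T] ≤ P`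
  have hPT : ∀ t ∈ T, ∀ k ∈ P, t * k * t⁻¹ ∈ P := by
    have hi : (P.subgroupOf T).index = 2 := by
      have h1 := card_mul_index (P.subgroupOf T)
      rw [Nat.card_congr (subgroupOfEquivOfLe d.PT).toEquiv, d.cardT, d.cardP] at h1
      omega
    have hn : (P.subgroupOf T).Normal := normal_of_index_eq_two hi
    intro t ht k hk
    have h1 := hn.conj_mem ⟨k, d.PT hk⟩ (mem_subgroupOf.2 hk) ⟨t, ht⟩
    exact mem_subgroupOf.1 h1
  obtain ⟨n, hn, hnV, hfix⟩ := GTwoFour.Tools.exists_fixed_mod (p := 2) (Y := T) (N := P) (M := V) d.pT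
    d.PT hPT (fun t ht w hw => conj_mem (d.T_le ht) hw) ⟨a, d.aP, d.aV⟩
  let C : Subgroup G :=
    { carrier := {k | k ∈ P ∧ ∀ t ∈ T, t * k * t⁻¹ * k⁻¹ ∈ V}
      one_mem' := ⟨P.one_mem, fun t _ => by simp⟩
      mul_mem' := by
        rintro g h ⟨hg, hg'⟩ ⟨hh, hh'⟩
        refine ⟨P.mul_mem hg hh, fun t ht => ?_⟩
        have h1 : t * (g * h) * t⁻¹ * (g * h)⁻¹ =
          (t * g * t⁻¹ * g⁻¹) * (g * (t * h * t⁻¹ * h⁻¹) * g⁻¹) := by group
        rw [h1]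
        exact V.mul_mem (hg' t ht) (d.cj hg (hh' t ht))
      inv_mem' := by
        rintro g ⟨hg, hg'⟩
        refine ⟨P.inv_mem hg, fun t ht => ?_⟩
        have h1 : t * g⁻¹ * t⁻¹ * g⁻¹⁻¹ = g⁻¹ * (t * g * t⁻¹ * g⁻¹)⁻¹ * g⁻¹⁻¹ := by group
        rw [h1]
        exact d.cj (P.inv_mem hg) (V.inv_mem (hg' t ht)) }
  have hC : ∀ k, k ∈ C ↔ k ∈ P ∧ ∀ t ∈ T, t * k * t⁻¹ * k⁻¹ ∈ V := fun k => Iff.rfl
  have hVC : V ≤ C := by
    intro w hw
    rw [hC]
    exact ⟨d.VP hw, fun t ht => V.mul_mem (conj_mem (d.T_le ht) hw) (V.inv_mem hw)⟩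
  have hyC : y ∈ normalizer (C : Set G) := by
    refine mem_normalizer_of (fun k hk => ?_)
    rw [hC] at hk ⊢
    refine ⟨conj_mem d.yP hk.1, fun t ht => ?_⟩
    have ht' : y⁻¹ * t * y⁻¹⁻¹ ∈ T := conj_mem (inv_mem hyT) ht
    have h1 := conj_mem d.yV (hk.2 _ ht')
    have h2 : t * (y * k * y⁻¹) * t⁻¹ * (y * k * y⁻¹)⁻¹ =
      y * ((y⁻¹ * t * y⁻¹⁻¹) * k * (y⁻¹ * t * y⁻¹⁻¹)⁻¹ * k⁻¹) * y⁻¹ := by group
    rw [h2]; exact h1
  rcases d.irrP C hVC (fun k hk => hk.1) hyC with h | h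
  · apply hnV
    rw [← h, hC]
    refine ⟨hn, fun t ht => ?_⟩
    have := hfix t ht
    rwa [commutatorElement_def] at this
  · obtain ⟨c, hc, k, hk, hck⟩ := d.na
    rw [← h] at hk
    exact hck (hk.2 c hc)

/-- The data of lemma (G). -/
theorem toGData (d : FData V T P z v a b y) [Finite G] : GData V T P d.V0 z where
  cardV := d.cardV
  sqV := d.sqV
  centV := d.centV
  T_le := d.T_le
  pT := d.pT
  syl := d.syl
  z_mem := d.z_mem
  z_ne := d.z_ne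
  z_comm := d.z_comm
  VP := d.VP
  PT := d.PT
  cardP := d.cardP
  norm2 := fun N h1 _ h3 h4 => d.norm2 N h1 h3 (fun x hx => h4 x (d.T_le hx) (d.z_comm x hx))
    (h4 y d.yV d.yz)
  cV := by
    intro k hk hkV Y hY h
    obtain ⟨h4, -⟩ := d.cV_spec hk hkV
    rw [← h4]
    refine card_le_of_le (fun w hw => mem_cV.2 ⟨hY hw, ?_⟩)
    rw [h w hw]; group
  cP := fun w hw h => d.cP hw (fun k hk => by rw [h k hk]; group)
  V0V := d.V0_le
  cardV0 := d.card_V0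
  V0P := d.V0P
  cV0 := by
    intro x hx h
    by_contra hxV
    obtain ⟨h4, -⟩ := d.cV_spec hx hxV
    have h1 : d.V0 ≤ cV V x := fun w hw => mem_cV.2 ⟨d.V0_le hw, by rw [h w hw]; group⟩
    have h2 := card_le_of_le h1
    rw [h4, d.card_V0] at h2
    omega
  irrV := fun Y h1 h2 h3 => d.irrV Y h1 h2
    (fun g hg w hw => conj_mem (h3 g (d.PV hg) (d.z_comm g (d.PT hg))) hw) (h3 y d.yV d.yz)
  irrP := fun Y h1 h2 h3 => d.irrP Y h1 h2 (h3 y d.yV d.yz)

end FData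

end Cfsg.Agent.GH.C2GrowFree
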