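import Cfsg.Agent.GH.C2GrowJ2E

/-!
# GH-C2, growth of `T` of order 64, part S: `T` is `V V₂` with a second elementary group `V₂`

From the action of `T` and of a fixed point free element `ρ` of order 3 on `V`.
-/

set_option autoImplicit false

namespace Cfsg.Agent.GH.C2GrowJ2

open Subgroup
open Cfsg.Agent.J2Sylow.Model (F4)

variable {G : Type*} [Group G]

/-- `V` elementary of order 16, `T / V` of order 4 acting on `V` as a Sylow 2-subgroup of `SL₂(4)` on the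
natural module, `ρ` of order 3 fixed point free on `T`. -/
structure Start (V T U : Subgroup G) (ρ : G) : Prop where
  sqV : ∀ v ∈ V, v * v = 1
  cV : Nat.card V = 16
  cT : Nat.card T = 64
  cU : Nat.card U = 4
  VT : V ≤ T
  UV : U ≤ V
  sqT : ∀ k ∈ T, k * k ∈ V
  comm : ∀ k ∈ T, ∀ v ∈ V, k * v * k⁻¹ * v⁻¹ ∈ U
  centU : ∀ k ∈ T, ∀ u ∈ U, k * u = u * k
  cent : ∀ k ∈ T, k ∉ V → ∀ v ∈ V, k * v = v * k → v ∈ U
  r3 : ρ * ρ * ρ = 1
  rV : ∀ v ∈ V, ρ * v * ρ⁻¹ ∈ V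
  rT : ∀ x ∈ T, ρ * x * ρ⁻¹ ∈ T
  fix : ∀ x ∈ T, ρ * x = x * ρ → x = 1

namespace Start

variable {V T U : Subgroup G} {ρ : G} (h : Start V T U ρ)

include h

theorem commV {v w : G} (hv : v ∈ V) (hw : w ∈ V) : v * w = w * v := comm_of_sq h.sqV hv hw

theorem three (x : G) : ρ * (ρ * (ρ * x * ρ⁻¹) * ρ⁻¹) * ρ⁻¹ = x := by
  have h1 : ρ * (ρ * (ρ * x * ρ⁻¹) * ρ⁻¹) * ρ⁻¹ = (ρ * ρ * ρ) * x * (ρ * ρ * ρ)⁻¹ := by group
  rw [h1, h.r3]; simp

theorem rV' {v : G} (hv : ρ * v * ρ⁻¹ ∈ V) : v ∈ V := by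
  have h1 := h.rV _ (h.rV _ hv)
  rwa [h.three] at h1

/-- an involution outside of `V` -/
theorem exists_inv [Finite G] : ∃ j ∈ T, j ∉ V ∧ j * j = 1 := by
  obtain ⟨k, hk, hkV⟩ : ∃ k ∈ T, k ∉ V := by
    by_contra hcon
    push Not at hcon
    have h1 := card_le_of_le (show T ≤ V from hcon)
    rw [h.cT, h.cV] at h1
    omega
  let f : V →* U :=
    { toFun := fun v => ⟨k * v * k⁻¹ * (v : G)⁻¹, h.comm k hk v v.2⟩
      map_one' := by
        apply Subtype.ext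
        show k * 1 * k⁻¹ * 1⁻¹ = 1
        group
      map_mul' := fun a b => by
        apply Subtype.ext
        show k * ((a : G) * b) * k⁻¹ * ((a : G) * b)⁻¹ = (k * a * k⁻¹ * (a : G)⁻¹) * (k * b * k⁻¹ * (b : G)⁻¹)
        have h1 := h.commV a.2 (h.UV (h.comm k hk b b.2))
        calc k * ((a : G) * b) * k⁻¹ * ((a : G) * b)⁻¹
            = (k * a * k⁻¹ * (a : G)⁻¹) * (a * (k * b * k⁻¹ * (b : G)⁻¹)) * (a : G)⁻¹ := by group
          _ = (k * a * k⁻¹ * (a : G)⁻¹) * (k * b * k⁻¹ * (b : G)⁻¹) := by rw [h1]; group }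
  have hker : f.ker = U.subgroupOf V := by
    ext v
    rw [MonoidHom.mem_ker, mem_subgroupOf]
    constructor
    · intro hv
      have h1 : k * v * k⁻¹ * (v : G)⁻¹ = 1 := congrArg Subtype.val hv
      exact h.cent k hk hkV v v.2 (mul_inv_eq_iff_eq_mul.mp (mul_inv_eq_one.mp h1))
    · intro hv
      apply Subtype.ext
      show k * v * k⁻¹ * (v : G)⁻¹ = 1
      rw [h.centU k hk v hv]
      group
  have hsurj : Function.Surjective f := by
    have h1 : Nat.card V = Nat.card f.ker * f.ker.index := (card_mul_index _).symm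
    have h2 : Nat.card f.ker = 4 := by
      rw [hker, Nat.card_congr (subgroupOfEquivOfLe h.UV).toEquiv, h.cU]
    rw [index_ker, h.cV, h2] at h1
    have h3 : Nat.card f.range = 4 := by omega
    have h4 : f.range = ⊤ := by
      rw [← card_eq_iff_eq_top, h3, h.cU]
    exact MonoidHom.range_eq_top.mp h4
  have hkk : k * k ∈ U := h.cent k hk hkV _ (h.sqT k hk) (by group)
  obtain ⟨v, hv⟩ := hsurj ⟨(k * k)⁻¹, inv_mem hkk⟩
  have hvc : k * v * k⁻¹ * (v : G)⁻¹ = (k * k)⁻¹ := congrArg Subtype.val hv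
  refine ⟨v * k, T.mul_mem (h.VT v.2) hk, fun h1 => hkV ?_, ?_⟩
  · have := V.mul_mem (V.inv_mem v.2) h1
    rwa [inv_mul_cancel_left] at this
  · have h1 := h.commV v.2 (V.inv_mem (h.sqT k hk))
    calc v * k * (v * k) = v * (k * v * k⁻¹ * (v : G)⁻¹) * v * (k * k) := by group
      _ = (v * (k * k)⁻¹) * v * (k * k) := by rw [hvc]
      _ = (k * k)⁻¹ * (v * v) * (k * k) := by rw [h1]; group
      _ = 1 := by rw [h.sqV v v.2, mul_one, inv_mul_cancel]

/-- the second elementary group -/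
theorem exists_ut [Finite G] : ∃ W : Subgroup G, UT V W T ∧ Rho V W T ρ ∧ V ⊓ W = U := by
  obtain ⟨j, hj, hjV, hjj⟩ := h.exists_inv
  have n0 := norm_eq h.r3 h.rT h.fix hj
  have hRj2 : (ρ * (ρ * j * ρ⁻¹) * ρ⁻¹) * (ρ * (ρ * j * ρ⁻¹) * ρ⁻¹) = 1 := by
    have : (ρ * (ρ * j * ρ⁻¹) * ρ⁻¹) * (ρ * (ρ * j * ρ⁻¹) * ρ⁻¹) = ρ * ρ * (j * j) * (ρ * ρ)⁻¹ := by
      group
    rw [this, hjj, mul_one, mul_inv_cancel]
  have n1 : j * (ρ * j * ρ⁻¹) = ρ * (ρ * j * ρ⁻¹) * ρ⁻¹ :=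
    (eq_inv_of_mul_eq_one_left n0).trans (inv_eq_of_mul_eq_one_left hRj2)
  have cadd := co_add_gen hjj n1
  have cT : ∀ a, co ρ j a ∈ T := by
    intro a
    cases a
    · exact one_mem _
    · exact hj
    · exact h.rT j hj
    · exact h.rT _ (h.rT j hj)
  have cV : ∀ {a}, co ρ j a ∈ V → a = .o := by
    intro a ha
    cases a
    · rfl
    · exact absurd ha hjV
    · exact absurd (h.rV' ha) hjV
    · exact absurd (h.rV' (h.rV' ha)) hjV
  have ccomm : ∀ a b, co ρ j a * co ρ j b = co ρ j b * co ρ j a := by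
    intro a b
    rw [cadd, cadd]
    congr 1
    cases a <;> cases b <;> rfl
  have csq : ∀ a, co ρ j a * co ρ j a = 1 := by
    intro a
    rw [cadd]
    have : a + a = .o := by cases a <;> rfl
    rw [this]; rfl
  have cinv : ∀ a, (co ρ j a)⁻¹ = co ρ j a := fun a => inv_eq_of_mul_eq_one_left (csq a)
  -- generic injectivity
  have cinj : ∀ {a b : F4} {v v' : G}, v ∈ V → v' ∈ V → co ρ j a * v = co ρ j b * v' → a = b ∧ v = v' := by
    intro a b v v' hv hv' e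
    have h1 : co ρ j (a + b) ∈ V := by
      rw [← cadd, ccomm a b]
      have h2 : co ρ j b * co ρ j a = v' * v⁻¹ := by
        calc co ρ j b * co ρ j a = co ρ j b * (co ρ j a * v) * v⁻¹ := by group
          _ = (co ρ j b * co ρ j b) * v' * v⁻¹ := by rw [e]; group
          _ = v' * v⁻¹ := by rw [csq, one_mul]
      rw [h2]
      exact V.mul_mem hv' (V.inv_mem hv)
    have h2 := cV h1
    have h3 : a = b := by
      revert h2
      cases a <;> cases b <;> decide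
    subst h3
    exact ⟨rfl, mul_left_cancel e⟩
  -- `T = ⋃ co a V`
  have cover : ∀ x ∈ T, ∃ a : F4, ∃ v ∈ V, x = co ρ j a * v := by
    let f : F4 × V → T := fun p => ⟨co ρ j p.1 * p.2, T.mul_mem (cT p.1) (h.VT p.2.2)⟩
    have hf : Function.Injective f := by
      rintro ⟨a, v⟩ ⟨b, v'⟩ hab
      obtain ⟨h1, h2⟩ := cinj v.2 v'.2 (congrArg Subtype.val hab)
      exact Prod.ext h1 (Subtype.ext h2)
    have hc : Nat.card (F4 × V) = Nat.card T := by
      rw [Nat.card_prod, h.cV, h.cT, Nat.card_eq_fintype_card]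
      decide
    have hs : Function.Surjective f := (Nat.bijective_iff_injective_and_card f).mpr ⟨hf, hc⟩ |>.2
    intro x hx
    obtain ⟨⟨a, v⟩, hab⟩ := hs ⟨x, hx⟩
    exact ⟨a, v, v.2, (congrArg Subtype.val hab).symm⟩
  -- `W = C_T(j)`
  obtain ⟨W, hW⟩ : ∃ W : Subgroup G, W = T ⊓ centralizer ({j} : Set G) := ⟨_, rfl⟩
  have mW : ∀ {x : G}, x ∈ W ↔ ∃ a : F4, ∃ u ∈ U, x = co ρ j a * u := by
    intro x
    rw [hW]
    constructor
    · rintro ⟨hxT, hxj⟩
      have hc : x * j = j * x := mem_centralizer_singleton_iff.mp hxj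
      obtain ⟨a, v, hv, rfl⟩ := cover x hxT
      refine ⟨a, v, h.cent j hj hjV v hv ?_, rfl⟩
      have h1 : co ρ j a * j = j * co ρ j a := ccomm a .e
      have h2 : co ρ j a * (j * v) = co ρ j a * (v * j) := by
        calc co ρ j a * (j * v) = (co ρ j a * j) * v := by group
          _ = j * (co ρ j a * v) := by rw [h1]; group
          _ = co ρ j a * (v * j) := by rw [← hc]; group
      exact mul_left_cancel h2
    · rintro ⟨a, u, hu, rfl⟩
      refine mem_inf.mpr ⟨T.mul_mem (cT a) (h.VT (h.UV hu)), ?_⟩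
      rw [mem_centralizer_singleton_iff]
      have h1 : co ρ j a * j = j * co ρ j a := ccomm a .e
      have h2 := h.centU j hj u hu
      calc co ρ j a * u * j = co ρ j a * (u * j) := by group
        _ = (co ρ j a * j) * u := by rw [← h2]; group
        _ = j * (co ρ j a * u) := by rw [h1]; group
  have hUW : U ≤ W := fun u hu => mW.mpr ⟨.o, u, hu, (one_mul u).symm⟩
  have hWT : W ≤ T := by rw [hW]; exact inf_le_left
  have hVW : V ⊓ W = U := by
    apply le_antisymm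
    · rintro x ⟨hxV, hxW⟩
      rw [hW] at hxW
      exact h.cent j hj hjV x hxV (mem_centralizer_singleton_iff.mp hxW.2).symm
    · exact le_inf h.UV hUW
  have sqW : ∀ w ∈ W, w * w = 1 := by
    intro w hw
    obtain ⟨a, u, hu, rfl⟩ := mW.mp hw
    have h1 := h.centU _ (cT a) u hu
    calc co ρ j a * u * (co ρ j a * u) = co ρ j a * (u * co ρ j a) * u := by group
      _ = (co ρ j a * co ρ j a) * (u * u) := by rw [← h1]; group
      _ = 1 := by rw [csq, h.sqV u (h.UV hu), one_mul]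
  have hRU : ∀ u ∈ U, ρ * u * ρ⁻¹ ∈ U := by
    intro u hu
    refine h.cent (ρ * j * ρ⁻¹) (h.rT j hj) (fun h1 => hjV (h.rV' h1)) _ (h.rV u (h.UV hu)) ?_
    have h1 := h.centU j hj u hu
    calc ρ * j * ρ⁻¹ * (ρ * u * ρ⁻¹) = ρ * (j * u) * ρ⁻¹ := by group
      _ = ρ * (u * j) * ρ⁻¹ := by rw [h1]
      _ = ρ * u * ρ⁻¹ * (ρ * j * ρ⁻¹) := by group
  refine ⟨W, ?_, ?_, hVW⟩
  · refine ⟨h.sqV, sqW, h.VT, hWT, fun x hx => ?_, fun v hv w hw => ?_, fun v hv w hw hc => ?_, h.cV,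
      ?_, by rw [hVW]; exact h.cU, h.cT⟩
    · obtain ⟨a, v, hv, e⟩ := cover x⁻¹ (T.inv_mem hx)
      refine ⟨v⁻¹, V.inv_mem hv, co ρ j a, mW.mpr ⟨a, 1, one_mem _, (mul_one _).symm⟩, ?_⟩
      have h1 : x = (co ρ j a * v)⁻¹ := by rw [← e, inv_inv]
      rw [h1, mul_inv_rev, cinv]
    · rw [hVW]
      have h1 := h.comm w (hWT hw) v hv
      have h2 := h.commV hv (h.UV h1)
      have h3 : v * w * v * w = w * v * w⁻¹ * v⁻¹ := by
        calc v * w * v * w = (v * (w * v * w⁻¹ * v⁻¹)) * v * (w * w) := by group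
          _ = (w * v * w⁻¹ * v⁻¹) * (v * v) * (w * w) := by rw [h2]; group
          _ = w * v * w⁻¹ * v⁻¹ := by rw [h.sqV v hv, sqW w hw, mul_one, mul_one]
      rw [h3]
      exact h1
    · by_cases hwV : w ∈ V
      · exact Or.inr hwV
      · exact Or.inl (hUW (h.cent w (hWT hw) hwV v hv hc.symm))
    · let f : F4 × U → W := fun p => ⟨co ρ j p.1 * p.2, mW.mpr ⟨p.1, p.2, p.2.2, rfl⟩⟩
      have hf : Function.Bijective f := by
        constructor
        · rintro ⟨a, v⟩ ⟨b, v'⟩ hab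
          obtain ⟨h1, h2⟩ := cinj (h.UV v.2) (h.UV v'.2) (congrArg Subtype.val hab)
          exact Prod.ext h1 (Subtype.ext h2)
        · rintro ⟨x, hx⟩
          obtain ⟨a, u, hu, e⟩ := mW.mp hx
          exact ⟨⟨a, ⟨u, hu⟩⟩, Subtype.ext e.symm⟩
      rw [← Nat.card_congr (Equiv.ofBijective f hf), Nat.card_prod, h.cU, Nat.card_eq_fintype_card]
      decide
  · refine ⟨h.r3, h.rV, fun w hw => ?_, h.fix⟩
    obtain ⟨a, u, hu, rfl⟩ := mW.mp hw
    refine mW.mpr ⟨.w * a, ρ * u * ρ⁻¹, hRU u hu, ?_⟩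
    have h1 : ρ * co ρ j a * ρ⁻¹ = co ρ j (.w * a) := by
      cases a
      · show ρ * 1 * ρ⁻¹ = 1
        rw [mul_one, mul_inv_cancel]
      · rfl
      · rfl
      · exact h.three j
    rw [← h1]
    group

end Start

end Cfsg.Agent.GH.C2GrowJ2
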