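import Cfsg.Agent.GH.C2GrowJ2F
import Cfsg.Agent.GH.C2GrowJ2S
import Cfsg.Agent.J2Sylow.SporSylow
import Cfsg.Agent.GH.Defs

/-!
# GH-C2, growth of `T` of order 64 (type `UT₃(4)`): a larger Sylow 2-subgroup is of type `J₂`
-/

set_option autoImplicit false

namespace Cfsg.Agent.GH.C2GrowJ2

open Subgroup
open Cfsg.Agent.GH.C2GrowG (exists_mem_normalizer mem_normalizer_of conj_mem)
open Cfsg.Agent.J2Sylow.Model (F4)
open Cfsg.Agent.J2Sylow.Model.F4 (fr fr_add fr_fr)

variable {G : Type*} [Group G]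

/-! ### `ρ` and `t` -/

section choose

variable {V W T : Subgroup G} (h : UT V W T) {ρ : G} (r : Rho V W T ρ)

include h r

/-- `V ∩ W = {1, z, z^ρ, z^ρ²}` -/
theorem Z_cases [Finite G] {z x : G} (hz : z ∈ V ⊓ W) (hz1 : z ≠ 1) (hx : x ∈ V ⊓ W) :
    ∃ a : F4, x = co ρ z a := by
  let f : F4 → (V ⊓ W : Subgroup G) := fun a => ⟨co ρ z a, by
    cases a
    · exact one_mem _
    · exact hz
    · exact r.rZ hz
    · exact r.rZ (r.rZ hz)⟩
  have hne : ∀ a : F4, co ρ z a = 1 → a = .o := by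
    intro a ha
    cases a
    · rfl
    · exact absurd ha hz1
    · exact absurd (conj_eq_one_iff.mp ha) hz1
    · exact absurd (conj_eq_one_iff.mp (conj_eq_one_iff.mp ha)) hz1
  have hf : Function.Injective f := by
    intro a b hab
    have h1 : co ρ z a = co ρ z b := congrArg Subtype.val hab
    have h2 : co ρ z (a + b) = 1 := by
      rw [← co_add h r hz.1, h1, co_add h r hz.1]
      have : b + b = .o := by cases b <;> rfl
      rw [this]; rfl
    have h3 := hne _ h2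
    revert h3
    cases a <;> cases b <;> decide
  have hc : Nat.card F4 = Nat.card (V ⊓ W : Subgroup G) := by
    rw [h.cZ, Nat.card_eq_fintype_card]
    decide
  have hs : Function.Surjective f := (Nat.bijective_iff_injective_and_card f).mpr ⟨hf, hc⟩ |>.2
  obtain ⟨a, ha⟩ := hs ⟨x, hx⟩
  exact ⟨a, (congrArg Subtype.val ha).symm⟩

/-- an involution centralizing `ρ` and normalizing `V ∩ W` centralizes `V ∩ W` -/
theorem cent_Z [Finite G] {t : G} (ht : t * t = 1) (htz : ∀ z ∈ V ⊓ W, t * z * t ∈ V ⊓ W)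
    (htr : t * ρ = ρ * t) {z : G} (hz : z ∈ V ⊓ W) : t * z = z * t := by
  by_cases hz1 : z = 1
  · rw [hz1, mul_one, one_mul]
  have hti : t⁻¹ = t := inv_eq_of_mul_eq_one_left ht
  have hconj : ∀ x : G, t * (ρ * x * ρ⁻¹) * t = ρ * (t * x * t) * ρ⁻¹ := by
    intro x
    have h1 : ρ⁻¹ * t = t * ρ⁻¹ := by
      calc ρ⁻¹ * t = ρ⁻¹ * (t * ρ) * ρ⁻¹ := by group
        _ = t * ρ⁻¹ := by rw [htr]; group
    calc t * (ρ * x * ρ⁻¹) * t = (t * ρ) * x * (ρ⁻¹ * t) := by group
      _ = ρ * (t * x * t) * ρ⁻¹ := by rw [htr, h1]; group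
  have htt : ∀ x : G, t * (t * x * t) * t = x := by
    intro x
    calc t * (t * x * t) * t = (t * t) * x * (t * t) := by group
      _ = x := by rw [ht, one_mul, mul_one]
  have key : t * z * t = z := by
    obtain ⟨a, ha⟩ := Z_cases h r hz hz1 (htz z hz)
    have h1 := htt z
    cases a
    · exfalso
      have h2 : t * z * t = 1 := ha
      rw [h2, mul_one, ht] at h1
      exact hz1 h1.symm
    · exact ha
    · exfalso
      have h2 : t * z * t = ρ * z * ρ⁻¹ := ha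
      rw [h2, hconj, h2] at h1
      have h3 := r.three z
      rw [h1] at h3
      exact hz1 (r.fix z (h.leV hz.1) (mul_inv_eq_iff_eq_mul.mp h3))
    · exfalso
      have h2 : t * z * t = ρ * (ρ * z * ρ⁻¹) * ρ⁻¹ := ha
      rw [h2, hconj, hconj, h2, r.three] at h1
      exact hz1 (r.fix z (h.leV hz.1) (mul_inv_eq_iff_eq_mul.mp h1))
  calc t * z = (t * z * t) * t := by rw [mul_assoc, ht, mul_one]
    _ = z * t := by rw [key]

end choose

/-- the relations of the model group, from an involution inverting `ρ` -/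
theorem rel_of [Finite G] {V W T : Subgroup G} (h : UT V W T) {ρ : G} (r : Rho V W T ρ) {t v : G}
    (ht : t * t = 1) (hVW : ∀ v ∈ V, t * v * t ∈ W) (htr : t * ρ * t = ρ⁻¹) (hv : v ∈ V) :
    Cfsg.Agent.J2Sylow.SporSylow.Rel (co ρ v) (fun b => t * co ρ v (fr b) * t)
      (fun c => v * (t * co ρ v (fr c) * t) * v * (t * co ρ v (fr c) * t)) t := by
  have hX : ∀ a, co ρ v a ∈ V := fun a => co_mem r hv a
  have hY : ∀ a, t * co ρ v (fr a) * t ∈ W := fun a => hVW _ (hX _)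
  have YY : ∀ a b, (t * co ρ v (fr a) * t) * (t * co ρ v (fr b) * t) = t * co ρ v (fr (a + b)) * t := by
    intro a b
    rw [fr_add, ← co_add h r hv]
    calc (t * co ρ v (fr a) * t) * (t * co ρ v (fr b) * t)
        = t * co ρ v (fr a) * (t * t) * co ρ v (fr b) * t := by group
      _ = t * (co ρ v (fr a) * co ρ v (fr b)) * t := by rw [ht, mul_one]; group
  -- `ρ` acts on `Y`
  have htr' : ρ * t = t * ρ⁻¹ := by
    rw [← htr]
    calc ρ * t = (t * t) * (ρ * t) := by rw [ht, one_mul]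
      _ = t * (t * ρ * t) := by group
  have RY : ∀ b, ρ * (t * co ρ v (fr b) * t) * ρ⁻¹ = t * co ρ v (fr (.w * b)) * t := by
    intro b
    have h3 : fr (.w * b) = .w * (.w * fr b) := by cases b <;> rfl
    rw [h3, ← co_rho r, ← co_rho r]
    have h4 := r.rinv (co ρ v (fr b))
    rw [← h4]
    calc ρ * (t * co ρ v (fr b) * t) * ρ⁻¹ = (ρ * t) * co ρ v (fr b) * (t * ρ⁻¹) := by group
      _ = (t * ρ⁻¹) * co ρ v (fr b) * (ρ * t) := by rw [htr']
      _ = t * (ρ⁻¹ * co ρ v (fr b) * ρ⁻¹⁻¹) * t := by group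
  -- commutators
  have key0 : ∀ a b, co ρ v (.w * a) * (t * co ρ v (fr b) * t) * co ρ v (.w * a) * (t * co ρ v (fr b) * t) =
      co ρ v a * (t * co ρ v (fr (.w * b)) * t) * co ρ v a * (t * co ρ v (fr (.w * b)) * t) := by
    intro a b
    obtain ⟨h1, h2⟩ := cm_rho h r (hX a) (hY b)
    rw [← co_rho r, h2, ← h1, RY]
  have key : ∀ a b, co ρ v a * (t * co ρ v (fr b) * t) * co ρ v a * (t * co ρ v (fr b) * t) =
      v * (t * co ρ v (fr (a * b)) * t) * v * (t * co ρ v (fr (a * b)) * t) := by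
    intro a b
    cases a
    · have h1 : (F4.o * b) = F4.o := by cases b <;> rfl
      rw [h1]
      have h2 : co ρ v (fr F4.o) = 1 := rfl
      have h3 : co ρ v F4.o = 1 := rfl
      rw [h2, h3, mul_one t, ht, one_mul, mul_one]
      have h4 : (t * co ρ v (fr b) * t) * (t * co ρ v (fr b) * t) = 1 := h.sqW _ (hY b)
      rw [h4, mul_one, mul_one, h.sqV v hv]
    · have h1 : (F4.e * b) = b := by cases b <;> rfl
      rw [h1]
      rfl
    · exact key0 .e b
    · have h1 := key0 .w b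
      have h2 := key0 .e (.w * b)
      have h3 : F4.w * (F4.w * b) = F4.u * b := by cases b <;> rfl
      rw [h3] at h2
      exact h1.trans h2
  have hZ : ∀ c, v * (t * co ρ v (fr c) * t) * v * (t * co ρ v (fr c) * t) ∈ V ⊓ W :=
    fun c => h.com v hv _ (hY c)
  refine ⟨fun a b => co_add h r hv a b, YY, fun a b => ?_, fun a b => ?_, fun a b => ?_, fun a b => ?_,
    fun a => ?_, fun a => ?_, fun a => ?_, ht⟩
  · show _ * _ = v * (t * co ρ v (fr (a + b)) * t) * v * (t * co ρ v (fr (a + b)) * t)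
    rw [← YY, h.cm_mul_right hv (hY a) (hY b)]
  · show co ρ v a * (t * co ρ v (fr b) * t) = (t * co ρ v (fr b) * t) *
      (co ρ v a * (v * (t * co ρ v (fr (a * b)) * t) * v * (t * co ρ v (fr (a * b)) * t)))
    rw [← key]
    have h1 := h.sqV _ (hX a)
    have h2 := h.sqW _ (hY b)
    obtain ⟨x, hx⟩ : ∃ x, x = co ρ v a := ⟨_, rfl⟩
    obtain ⟨y, hy⟩ : ∃ y, y = t * co ρ v (fr b) * t := ⟨_, rfl⟩
    rw [← hx] at h1 ⊢
    rw [← hy] at h2 ⊢
    calc x * y = 1 * (x * y) := (one_mul _).symm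
      _ = (y * y) * (x * y) := by rw [h2]
      _ = y * (1 * y * x * y) := by group
      _ = y * ((x * x) * y * x * y) := by rw [h1]
      _ = y * (x * (x * y * x * y)) := by group
  · exact h.central (hZ a) (h.leV (hX b))
  · exact h.central (hZ a) (h.leW (hY b))
  · show t * co ρ v a = (t * co ρ v (fr (fr a)) * t) * t
    rw [fr_fr, mul_assoc _ t t, ht, mul_one]
  · show t * (t * co ρ v (fr a) * t) = co ρ v (fr a) * t
    calc t * (t * co ρ v (fr a) * t) = (t * t) * (co ρ v (fr a) * t) := by group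
      _ = co ρ v (fr a) * t := by rw [ht, one_mul]
  · show t * (v * (t * co ρ v (fr a) * t) * v * (t * co ρ v (fr a) * t)) =
      (v * (t * co ρ v (fr (fr a)) * t) * v * (t * co ρ v (fr (fr a)) * t)) * t
    have h1 := key (fr a) .e
    have h2 : fr a * F4.e = fr a := by cases a <;> rfl
    have h3 : co ρ v (fr F4.e) = v := rfl
    rw [h2, h3] at h1
    rw [← h1, ← h.comm_eq (hX (fr a)) (hVW v hv)]
    calc t * (v * (t * co ρ v (fr a) * t) * v * (t * co ρ v (fr a) * t))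
        = (t * v * t) * co ρ v (fr a) * (t * v * t) * co ρ v (fr a) * t := by group
      _ = _ := rfl

/-- `S = T⟨t⟩` with `t` inverting `ρ` is isomorphic to the model group -/
theorem model_of [Finite G] {S : Subgroup G} {V W T : Subgroup G} (h : UT V W T) {ρ : G}
    (r : Rho V W T ρ) {t : G} (hTS : T ≤ S) (htS : t ∈ S) (htT : t ∉ T)
    (hST : ∀ y ∈ S, y ∈ T ∨ y * t ∈ T) (ht : t * t = 1) (hVW : ∀ v ∈ V, t * v * t ∈ W)
    (htr : t * ρ * t = ρ⁻¹) : Nonempty (S ≃* Cfsg.Agent.J2Sylow.Model.T) := by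
  obtain ⟨v, hv, -, -, hvW, -⟩ := h.exists_pair
  have R := rel_of h r ht hVW htr hv
  have hX : ∀ a, co ρ v a ∈ V := fun a => co_mem r hv a
  have hY : ∀ a, t * co ρ v (fr a) * t ∈ W := fun a => hVW _ (hX _)
  have hZ : ∀ c, v * (t * co ρ v (fr c) * t) * v * (t * co ρ v (fr c) * t) ∈ V ⊓ W :=
    fun c => h.com v hv _ (hY c)
  let f := Cfsg.Agent.J2Sylow.SporSylow.liftHom R
  have hfv : ∀ x : Cfsg.Agent.J2Sylow.Model.T, f x = (t * co ρ v (fr x.b) * t) * (co ρ v x.a *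
      ((v * (t * co ρ v (fr x.c) * t) * v * (t * co ρ v (fr x.c) * t)) * (if x.s then t else 1))) :=
    fun _ => rfl
  have hfT : ∀ b a c, (t * co ρ v (fr b) * t) * (co ρ v a *
      ((v * (t * co ρ v (fr c) * t) * v * (t * co ρ v (fr c) * t)))) ∈ T := fun b a c =>
    T.mul_mem (h.leW (hY b)) (T.mul_mem (h.leV (hX a)) (h.leV (hZ c).1))
  have hfS : ∀ x, f x ∈ S := by
    rintro ⟨a, b, c, s⟩
    rw [hfv]
    have h1 := hTS (hfT b a c)
    cases s
    · show (t * co ρ v (fr b) * t) * (co ρ v a *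
        ((v * (t * co ρ v (fr c) * t) * v * (t * co ρ v (fr c) * t)) * 1)) ∈ S
      rw [mul_one]
      exact h1
    · show (t * co ρ v (fr b) * t) * (co ρ v a *
        ((v * (t * co ρ v (fr c) * t) * v * (t * co ρ v (fr c) * t)) * t)) ∈ S
      have h2 := S.mul_mem h1 htS
      have h3 : (t * co ρ v (fr b) * t) * (co ρ v a *
        ((v * (t * co ρ v (fr c) * t) * v * (t * co ρ v (fr c) * t)))) * t =
        (t * co ρ v (fr b) * t) * (co ρ v a *
        ((v * (t * co ρ v (fr c) * t) * v * (t * co ρ v (fr c) * t)) * t)) := by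
        simp only [mul_assoc]
      rwa [h3] at h2
  have hfi : Function.Injective f := by
    rw [injective_iff_map_eq_one]
    rintro ⟨a, b, c, s⟩ hx
    rw [hfv] at hx
    have h1 := hfT b a c
    cases s
    · have h2 : (t * co ρ v (fr b) * t) * (co ρ v a *
        ((v * (t * co ρ v (fr c) * t) * v * (t * co ρ v (fr c) * t)) * 1)) = 1 := hx
      rw [mul_one] at h2
      have h3 : t * co ρ v (fr b) * t ∈ V := by
        rw [eq_inv_of_mul_eq_one_left h2]
        exact V.inv_mem (V.mul_mem (hX a) (hZ c).1)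
      have h4 : fr b = .o := by
        refine co_mem_Z r hv hvW ?_
        have h5 := hVW _ h3
        have h6 : t * (t * co ρ v (fr b) * t) * t = co ρ v (fr b) := by
          calc t * (t * co ρ v (fr b) * t) * t = (t * t) * co ρ v (fr b) * (t * t) := by group
            _ = co ρ v (fr b) := by rw [ht, one_mul, mul_one]
        rwa [h6] at h5
      have hb : b = .o := by
        revert h4; cases b <;> decide
      subst hb
      have h5 : t * co ρ v (fr F4.o) * t = 1 := by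
        show t * 1 * t = 1
        rw [mul_one, ht]
      rw [h5, one_mul] at h2
      have h6 : co ρ v a ∈ W := by
        rw [eq_inv_of_mul_eq_one_left h2]
        exact W.inv_mem (hZ c).2
      have ha := co_mem_Z r hv hvW h6
      subst ha
      have h7 : v * (t * co ρ v (fr c) * t) * v * (t * co ρ v (fr c) * t) = 1 := by
        have h8 : co ρ v F4.o = 1 := rfl
        rwa [h8, one_mul] at h2
      have h8 : v * (t * co ρ v (fr c) * t) = (t * co ρ v (fr c) * t) * v := by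
        have h9 : (v * (t * co ρ v (fr c) * t)) * (v * (t * co ρ v (fr c) * t)) = 1 := by
          rw [← mul_assoc]; exact h7
        have h10 := (inv_eq_of_mul_eq_one_left h9).symm
        rwa [mul_inv_rev, h.invV hv, h.invW (hY c)] at h10
      have h9 : t * co ρ v (fr c) * t ∈ V := by
        rcases h.ne v hv _ (hY c) h8 with h10 | h10
        · exact absurd h10 hvW
        · exact h10
      have h10 : fr c = .o := by
        refine co_mem_Z r hv hvW ?_
        have h5 := hVW _ h9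
        have h6 : t * (t * co ρ v (fr c) * t) * t = co ρ v (fr c) := by
          calc t * (t * co ρ v (fr c) * t) * t = (t * t) * co ρ v (fr c) * (t * t) := by group
            _ = co ρ v (fr c) := by rw [ht, one_mul, mul_one]
        rwa [h6] at h5
      have hc : c = .o := by
        revert h10; cases c <;> decide
      subst hc
      rfl
    · exfalso
      have h2 : (t * co ρ v (fr b) * t) * (co ρ v a *
        ((v * (t * co ρ v (fr c) * t) * v * (t * co ρ v (fr c) * t)) * t)) = 1 := hx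
      have h3 : (t * co ρ v (fr b) * t) * (co ρ v a *
        ((v * (t * co ρ v (fr c) * t) * v * (t * co ρ v (fr c) * t)))) * t = 1 := by
        rw [← h2]
        simp only [mul_assoc]
      rw [eq_inv_of_mul_eq_one_left h3] at h1
      exact htT (by simpa using T.inv_mem h1)
  -- orders
  have hcS : Nat.card S = 128 := by
    have h1 : (T.subgroupOf S).index = 2 := by
      rw [Subgroup.index_eq_two_iff]
      refine ⟨⟨t, htS⟩, fun b => ?_⟩
      rw [mem_subgroupOf, mem_subgroupOf]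
      show Xor ((b : G) * t ∈ T) ((b : G) ∈ T)
      have hex : ¬ ((b : G) * t ∈ T ∧ (b : G) ∈ T) := by
        rintro ⟨h3, h4⟩
        apply htT
        have h5 := T.mul_mem (T.inv_mem h4) h3
        rwa [inv_mul_cancel_left] at h5
      rcases hST b b.2 with h3 | h3
      · exact Or.inr ⟨h3, fun h4 => hex ⟨h4, h3⟩⟩
      · exact Or.inl ⟨h3, fun h4 => hex ⟨h3, h4⟩⟩
    have h2 := card_mul_index (T.subgroupOf S)
    rw [Nat.card_congr (subgroupOfEquivOfLe hTS).toEquiv, h1, h.cT] at h2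
    omega
  have hrange : f.range = S := by
    apply eq_of_le_of_card_ge
    · rintro _ ⟨x, rfl⟩
      exact hfS x
    · rw [← Nat.card_congr (MonoidHom.ofInjective hfi).toEquiv, Cfsg.Agent.J2Sylow.Model.T.card_T, hcS]
  exact ⟨((MonoidHom.ofInjective hfi).trans (MulEquiv.subgroupCongr hrange)).symm⟩

/-- `V = V₁`, `W = V₂` given. -/
theorem main_of_ut [Finite G] (hG : ∀ M : Subgroup G, M.Normal → M.index ≠ 2) (S : Sylow 2 G)
    {V W T : Subgroup G} (h : UT V W T) {ρ : G} (r : Rho V W T ρ)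
    (hself : ∀ g : G, (∀ v ∈ V, g * v = v * g) → g ∈ V)
    (hmax : ∀ y : G, (∀ v ∈ V, y * v * y⁻¹ ∈ V) → (∀ x ∈ T, y * x * y⁻¹ ∈ T) →
      (∃ n : ℕ, y ^ 2 ^ n = 1) → y ∈ T)
    (hTS : T ≤ S) (hne : T ≠ S) : Nonempty (S ≃* Cfsg.Agent.J2Sylow.Model.T) := by
  have hpS : IsPGroup 2 (S : Subgroup G) := S.isPGroup'
  have hN := h.le_norm hmax hpS hTS
  obtain ⟨t, htS, htT⟩ : ∃ t ∈ (S : Subgroup G), t ∉ T := by
    by_contra hcon
    push Not at hcon
    exact hne (le_antisymm hTS hcon)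
  have hswap : ∀ y ∈ (S : Subgroup G), y ∉ T → (∀ v ∈ V, y * v * y⁻¹ ∈ W) ∧ (∀ w ∈ W, y * w * y⁻¹ ∈ V) :=
    fun y hy hyT => h.swap_of_max hmax (fun x hx => conj_mem (hN hy) hx) (exists_pow_of_mem hpS hy) hyT
  have hmul : ∀ y ∈ (S : Subgroup G), ∀ y' ∈ (S : Subgroup G), y ∉ T → y' ∉ T → y * y' ∈ T :=
    fun y hy y' hy' h1 h2 => h.mul_mem_grow hmax hpS hTS hy hy' h1 h2
  -- `σ = t ρ t⁻¹`
  have hti : t⁻¹ ∈ (S : Subgroup G) := inv_mem htS
  have htiT : t⁻¹ ∉ T := fun h1 => htT (by simpa using T.inv_mem h1)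
  obtain ⟨a1, a2⟩ := hswap t htS htT
  obtain ⟨b1, b2⟩ := hswap t⁻¹ hti htiT
  have s : Rho V W T (t * ρ * t⁻¹) := by
    refine ⟨?_, fun v hv => ?_, fun w hw => ?_, fun x hx hc => ?_⟩
    · have h1 : t * ρ * t⁻¹ * (t * ρ * t⁻¹) * (t * ρ * t⁻¹) = t * (ρ * ρ * ρ) * t⁻¹ := by group
      rw [h1, r.r3, mul_one, mul_inv_cancel]
    · have h1 := a2 _ (r.rW _ (b1 v hv))
      have h2 : t * ρ * t⁻¹ * v * (t * ρ * t⁻¹)⁻¹ = t * (ρ * (t⁻¹ * v * t⁻¹⁻¹) * ρ⁻¹) * t⁻¹ := by group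
      rw [h2]; exact h1
    · have h1 := a1 _ (r.rV _ (b2 w hw))
      have h2 : t * ρ * t⁻¹ * w * (t * ρ * t⁻¹)⁻¹ = t * (ρ * (t⁻¹ * w * t⁻¹⁻¹) * ρ⁻¹) * t⁻¹ := by group
      rw [h2]; exact h1
    · have h1 : t⁻¹ * x * t⁻¹⁻¹ ∈ T := conj_mem (hN hti) hx
      have h2 : t⁻¹ * x * t⁻¹⁻¹ = 1 := by
        apply r.fix _ h1
        calc ρ * (t⁻¹ * x * t⁻¹⁻¹) = t⁻¹ * ((t * ρ * t⁻¹) * x) * t := by group
          _ = t⁻¹ * (x * (t * ρ * t⁻¹)) * t := by rw [hc]
          _ = (t⁻¹ * x * t⁻¹⁻¹) * ρ := by group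
      exact conj_eq_one_iff.mp h2
  -- modify `t`
  have hmod : ∀ {τ : G}, Rho V W T τ → (τ * τ * τ = 1) → t * ρ * t⁻¹ * τ⁻¹ ∈ T →
      (∀ x : G, x * ρ * x⁻¹ = τ → x * τ * x⁻¹ = ρ) →
      ∃ t' ∈ (S : Subgroup G), t' ∉ T ∧ t' * t' = 1 ∧ t' * ρ * t' = τ := by
    intro τ q _ hq hsym
    obtain ⟨p, hp, hpe⟩ := exists_conj_eq' (fun _ hy => q.rT h hy) q.fix hq
    have hpS' : p ∈ (S : Subgroup G) := hTS hp
    have e1 : (p⁻¹ * t) * ρ * (p⁻¹ * t)⁻¹ = τ := by
      calc (p⁻¹ * t) * ρ * (p⁻¹ * t)⁻¹ = p⁻¹ * (t * ρ * t⁻¹) * p := by group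
        _ = p⁻¹ * (p * τ * p⁻¹) * p := by rw [hpe]
        _ = τ := by group
    have e2 := hsym _ e1
    have h1 : p⁻¹ * t ∈ (S : Subgroup G) := mul_mem (inv_mem hpS') htS
    have h2 : p⁻¹ * t ∉ T := fun h3 => htT (by
      have := T.mul_mem hp h3
      rwa [mul_inv_cancel_left] at this)
    have h3 : (p⁻¹ * t) * (p⁻¹ * t) = 1 := by
      refine r.fix _ (hmul _ h1 _ h1 h2 h2) ?_
      have h4 : ((p⁻¹ * t) * (p⁻¹ * t)) * ρ * ((p⁻¹ * t) * (p⁻¹ * t))⁻¹ = ρ := by
        calc ((p⁻¹ * t) * (p⁻¹ * t)) * ρ * ((p⁻¹ * t) * (p⁻¹ * t))⁻¹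
            = (p⁻¹ * t) * ((p⁻¹ * t) * ρ * (p⁻¹ * t)⁻¹) * (p⁻¹ * t)⁻¹ := by group
          _ = ρ := by rw [e1, e2]
      exact (mul_inv_eq_iff_eq_mul.mp h4).symm
    refine ⟨p⁻¹ * t, h1, h2, h3, ?_⟩
    rw [← e1]
    nth_rewrite 2 [← inv_eq_of_mul_eq_one_left h3]
    rfl
  rcases uniq h r s hself hmax with hu | hu
  · -- `t` centralizes `ρ`
    exfalso
    obtain ⟨t', h1, h2, h3, h4⟩ := hmod r r.r3 hu (fun x hx => hx)
    have hinv : t'⁻¹ = t' := inv_eq_of_mul_eq_one_left h3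
    have hc : t' * ρ = ρ * t' := by
      calc t' * ρ = (t' * ρ * t') * t' := by rw [mul_assoc (t' * ρ), h3, mul_one]
        _ = ρ * t' := by rw [h4]
    obtain ⟨c1, c2⟩ := hswap t' h1 h2
    rw [hinv] at c1 c2
    have hctx : Ctx S V W T t' :=
      { ut := h
        tT := h2
        tt := h3
        vw := c1
        wv := c2
        tz := fun z hz => cent_Z h r h3 (fun z hz => ⟨c2 z hz.2, c1 z hz.1⟩) hc hz
        TS := hTS
        tS := h1
        ST := fun y hy => by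
          by_cases hyT : y ∈ T
          · exact Or.inl hyT
          · exact Or.inr (hmul y hy t' h1 hyT h2)
        max := hmax }
    exact hctx.false_of_ctx hG
  · -- `t` inverts `ρ`
    obtain ⟨t', h1, h2, h3, h4⟩ := hmod r.inv r.inv.r3 hu (fun x hx => by
      rw [← hx]
      have h5 : x * (x * ρ * x⁻¹) * x⁻¹ = ρ := by
        have h6 : x * (x * ρ * x⁻¹) * x⁻¹ = x * ρ⁻¹ * x⁻¹ := by rw [hx]
        rw [h6]
        have h7 : x * ρ⁻¹ * x⁻¹ = (x * ρ * x⁻¹)⁻¹ := by group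
        rw [h7, hx, inv_inv]
      exact h5)
    have hinv : t'⁻¹ = t' := inv_eq_of_mul_eq_one_left h3
    obtain ⟨c1, c2⟩ := hswap t' h1 h2
    rw [hinv] at c1
    exact model_of h r hTS h1 h2 (fun y hy => by
          by_cases hyT : y ∈ T
          · exact Or.inl hyT
          · exact Or.inr (hmul y hy t' h1 hyT h2)) h3 c1 h4

/-- The Sylow property of `T` in `N(V)`, element form. -/
theorem max_of_syl [Finite G] {V T : Subgroup G} (hT : IsPGroup 2 T)
    (hTV : ∀ x ∈ T, ∀ v ∈ V, x * v * x⁻¹ ∈ V)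
    (hsyl : ∀ Q : Subgroup G, IsPGroup 2 Q → T ≤ Q → (∀ x ∈ Q, ∀ v ∈ V, x * v * x⁻¹ ∈ V) → Q ≤ T)
    (y : G) (h1 : ∀ v ∈ V, y * v * y⁻¹ ∈ V) (h2 : ∀ x ∈ T, y * x * y⁻¹ ∈ T)
    (h3 : ∃ n : ℕ, y ^ 2 ^ n = 1) : y ∈ T := by
  have hP : IsPGroup 2 (zpowers y) := by
    obtain ⟨n, hn⟩ := h3
    rintro ⟨x, j, rfl⟩
    refine ⟨n, Subtype.ext ?_⟩
    show (y ^ j) ^ 2 ^ n = 1
    rw [← zpow_natCast, zpow_comm, zpow_natCast, hn, one_zpow]
  have hyN : y ∈ normalizer (T : Set G) := mem_normalizer_of h2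
  have hyV : y ∈ normalizer (V : Set G) := mem_normalizer_of h1
  have hle : zpowers y ≤ normalizer (T : Set G) := by rw [zpowers_le]; exact hyN
  have hQ : IsPGroup 2 (zpowers y ⊔ T : Subgroup G) := IsPGroup.to_sup_of_normal_right' hP hT hle
  have hQV : (zpowers y ⊔ T : Subgroup G) ≤ normalizer (V : Set G) := by
    apply sup_le
    · rw [zpowers_le]; exact hyV
    · exact fun x hx => mem_normalizer_of (hTV x hx)
  exact hsyl _ hQ le_sup_right (fun x hx v hv => conj_mem (hQV hx) hv)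
    (mem_sup_left (mem_zpowers y))

/-- **Growth of `T` of order 64** (`M / V` has a Sylow 2-subgroup of order 4 acting on `V = O₂(M)` of order 16
as a Sylow 2-subgroup of `SL₂(4)` on the natural module): if `T` is not a Sylow 2-subgroup of `G`, then the
Sylow 2-subgroups of `G` are of type `J₂`. -/
theorem main [Finite G] (hG : ∀ M : Subgroup G, M.Normal → M.index ≠ 2) (S : Sylow 2 G)
    {V T U : Subgroup G} {ρ : G} (h : Start V T U ρ)
    (hself : ∀ g : G, (∀ v ∈ V, g * v = v * g) → g ∈ V)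
    (hsyl : ∀ Q : Subgroup G, IsPGroup 2 Q → T ≤ Q → (∀ x ∈ Q, ∀ v ∈ V, x * v * x⁻¹ ∈ V) → Q ≤ T)
    (hTS : T ≤ S) (hne : T ≠ S) : Nonempty (S ≃* Cfsg.Agent.J2Sylow.Model.T) := by
  obtain ⟨W, hu, r, -⟩ := h.exists_ut
  exact main_of_ut hG S hu r hself (max_of_syl (S.isPGroup'.to_le hTS)
    (fun x hx v hv => hu.normV hx hv) hsyl) hTS hne

/-- A group isomorphic to the model group is of type `J₂`. -/
theorem sylOf_of_model {S : Type*} [Group S] (e : S ≃* Cfsg.Agent.J2Sylow.Model.T) :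
    Defs.SylOf S Cfsg.Spor.J2 := by
  obtain ⟨P⟩ : Nonempty (Sylow 2 Cfsg.Spor.J2) := inferInstance
  obtain ⟨f⟩ := Cfsg.Agent.J2Sylow.SporSylow.exists_equiv P
  exact ⟨P, ⟨e.trans f⟩⟩

/-- A simple nonabelian group has no normal subgroup of index 2. -/
theorem no_index_two [IsSimpleGroup G] (hnc : ¬ IsMulCommutative G) :
    ∀ M : Subgroup G, M.Normal → M.index ≠ 2 := by
  intro M hM hi
  rcases hM.eq_bot_or_eq_top with h1 | h1
  · -- `|G| = 2`
    rw [h1, index_bot] at hi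
    apply hnc
    have : Fact (Nat.Prime 2) := ⟨Nat.prime_two⟩
    have hc : IsCyclic G := isCyclic_of_prime_card hi
    exact ⟨⟨fun a b => IsCyclic.commGroup.mul_comm a b⟩⟩
  · rw [h1, index_top] at hi
    omega

/-- In a simple group: the Sylow 2-subgroups are of type `J₂`. -/
theorem sType [Finite G] [IsSimpleGroup G] (hnc : ¬ IsMulCommutative G) (S : Sylow 2 G)
    {V T U : Subgroup G} {ρ : G} (h : Start V T U ρ)
    (hself : ∀ g : G, (∀ v ∈ V, g * v = v * g) → g ∈ V)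
    (hsyl : ∀ Q : Subgroup G, IsPGroup 2 Q → T ≤ Q → (∀ x ∈ Q, ∀ v ∈ V, x * v * x⁻¹ ∈ V) → Q ≤ T)
    (hTS : T ≤ S) (hne : T ≠ S) : Defs.SType ↥(S : Subgroup G) := by
  obtain ⟨e⟩ := main (no_index_two hnc) S h hself hsyl hTS hne
  exact Or.inr (Or.inr (Or.inl (sylOf_of_model e)))

end Cfsg.Agent.GH.C2GrowJ2
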