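import Mathlib
import Cfsg.Agent.J2Sylow.Model

/-!
# GH-C2, growth of `T` of order 64 (type `UT₃(4)`), part A

`UT V W T`: `T = V W` of order 64, `V`, `W` elementary of order 16, `V ∩ W` of order 4 and central,
elements of `V` and `W` outside of `V ∩ W` do not commute.
-/

set_option autoImplicit false

namespace Cfsg.Agent.GH.C2GrowJ2

open Subgroup

variable {G : Type*} [Group G]

/-- `T` has the shape of `UT₃(4)`. -/
structure UT (V W T : Subgroup G) : Prop where
  sqV : ∀ v ∈ V, v * v = 1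
  sqW : ∀ w ∈ W, w * w = 1
  leV : V ≤ T
  leW : W ≤ T
  exT : ∀ x ∈ T, ∃ v ∈ V, ∃ w ∈ W, x = v * w
  com : ∀ v ∈ V, ∀ w ∈ W, v * w * v * w ∈ V ⊓ W
  ne : ∀ v ∈ V, ∀ w ∈ W, v * w = w * v → v ∈ W ∨ w ∈ V
  cV : Nat.card V = 16
  cW : Nat.card W = 16
  cZ : Nat.card (V ⊓ W : Subgroup G) = 4
  cT : Nat.card T = 64

theorem comm_of_sq {V : Subgroup G} (h : ∀ v ∈ V, v * v = 1) {v w : G} (hv : v ∈ V) (hw : w ∈ V) :
    v * w = w * v := by
  have h2 : v * w = (v * w)⁻¹ := (inv_eq_of_mul_eq_one_left (h _ (V.mul_mem hv hw))).symm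
  rwa [mul_inv_rev, inv_eq_of_mul_eq_one_left (h v hv), inv_eq_of_mul_eq_one_left (h w hw)] at h2

theorem inv_of_sq {V : Subgroup G} (h : ∀ v ∈ V, v * v = 1) {v : G} (hv : v ∈ V) : v⁻¹ = v :=
  inv_eq_of_mul_eq_one_left (h v hv)

namespace UT

variable {V W T : Subgroup G} (h : UT V W T)

include h

theorem commV {v w : G} (hv : v ∈ V) (hw : w ∈ V) : v * w = w * v := comm_of_sq h.sqV hv hw

theorem commW {v w : G} (hv : v ∈ W) (hw : w ∈ W) : v * w = w * v := comm_of_sq h.sqW hv hw

theorem invV {v : G} (hv : v ∈ V) : v⁻¹ = v := inv_of_sq h.sqV hv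

theorem invW {v : G} (hv : v ∈ W) : v⁻¹ = v := inv_of_sq h.sqW hv

/-- `V ∩ W` is central. -/
theorem central {z x : G} (hz : z ∈ V ⊓ W) (hx : x ∈ T) : z * x = x * z := by
  obtain ⟨v, hv, w, hw, rfl⟩ := h.exT x hx
  have h1 := h.commV hz.1 hv
  have h2 := h.commW hz.2 hw
  calc z * (v * w) = z * v * w := (mul_assoc _ _ _).symm
    _ = v * (z * w) := by rw [h1, mul_assoc]
    _ = v * w * z := by rw [h2, mul_assoc]

/-- the other order of the commutator -/
theorem com' {v w : G} (hv : v ∈ V) (hw : w ∈ W) : w * v * w * v ∈ V ⊓ W := by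
  have h1 := (V ⊓ W).inv_mem (h.com v hv w hw)
  have h2 : (v * w * v * w)⁻¹ = w⁻¹ * v⁻¹ * w⁻¹ * v⁻¹ := by group
  rwa [h2, h.invV hv, h.invW hw] at h1

theorem comm_eq {v w : G} (hv : v ∈ V) (hw : w ∈ W) : w * v * w * v = v * w * v * w := by
  have h1 := h.invV (h.com v hv w hw).1
  have h2 : (v * w * v * w)⁻¹ = w⁻¹ * v⁻¹ * w⁻¹ * v⁻¹ := by group
  rwa [h2, h.invV hv, h.invW hw] at h1

theorem symm : UT W V T where
  sqV := h.sqW
  sqW := h.sqV
  leV := h.leW
  leW := h.leV
  exT x hx := by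
    obtain ⟨v, hv, w, hw, rfl⟩ := h.exT x hx
    have h1 := h.com v hv w hw
    refine ⟨w * (v * w * v * w), W.mul_mem hw h1.2, v, hv, ?_⟩
    have h2 : w * (v * w * v * w) * v = w * (v * w * v * w * v) := by group
    rw [h2, h.central h1 (h.leV hv)]
    have h3 : w * (v * (v * w * v * w)) = w * (v * v) * (w * v * w) := by group
    rw [h3, h.sqV v hv, mul_one]
    have h4 : w * (w * v * w) = (w * w) * (v * w) := by group
    rw [h4, h.sqW w hw, one_mul]
  com w hw v hv := by
    rw [inf_comm]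
    exact h.com' hv hw
  ne w hw v hv e := (h.ne v hv w hw e.symm).symm
  cV := h.cW
  cW := h.cV
  cZ := by rw [inf_comm]; exact h.cZ
  cT := h.cT

/-- `v w v w` is the commutator of the involutions `v`, `w` -/
theorem cm_mul_left {x y w : G} (hx : x ∈ V) (hy : y ∈ V) (hw : w ∈ W) :
    (x * y) * w * (x * y) * w = (x * w * x * w) * (y * w * y * w) := by
  have hy' := h.com y hy w hw
  have h1 := h.central hy' (h.leV hx)
  have h2 := h.commV hx hy
  calc (x * y) * w * (x * y) * w = x * (y * w * (x * y)) * w := by group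
    _ = x * (y * w * (y * x)) * w := by rw [h2]
    _ = x * (y * w * y * w) * (w⁻¹ * x * w) := by group
    _ = x * (y * w * y * w) * (w * x * w) := by rw [h.invW hw]
    _ = (x * (y * w * y * w)) * w * x * w := by group
    _ = ((y * w * y * w) * x) * w * x * w := by rw [h1]
    _ = (y * w * y * w) * (x * w * x * w) := by group
    _ = (x * w * x * w) * (y * w * y * w) := by
      rw [h.central hy' (T.mul_mem (T.mul_mem (T.mul_mem (h.leV hx) (h.leW hw))
        (h.leV hx)) (h.leW hw))]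

theorem cm_mul_right {x w w' : G} (hx : x ∈ V) (hw : w ∈ W) (hw' : w' ∈ W) :
    x * (w * w') * x * (w * w') = (x * w * x * w) * (x * w' * x * w') := by
  rw [← h.comm_eq hx (W.mul_mem hw hw'), ← h.comm_eq hx hw, ← h.comm_eq hx hw']
  exact h.symm.cm_mul_left hw hw' hx

/-- the involutions of `T` -/
theorem invol {x : G} (hx : x ∈ T) (hxx : x * x = 1) : x ∈ V ∨ x ∈ W := by
  obtain ⟨v, hv, w, hw, rfl⟩ := h.exT x hx
  have h1 : v * w = w * v := by
    have h2 : v * w = (v * w)⁻¹ := (inv_eq_of_mul_eq_one_left hxx).symm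
    rwa [mul_inv_rev, h.invV hv, h.invW hw] at h2
  rcases h.ne v hv w hw h1 with h3 | h3
  · exact Or.inr (W.mul_mem h3 hw)
  · exact Or.inl (V.mul_mem hv h3)

theorem cent {v x : G} (hv : v ∈ V) (hvW : v ∉ W) (hx : x ∈ T) (hc : x * v = v * x) : x ∈ V := by
  obtain ⟨a, ha, w, hw, rfl⟩ := h.exT x hx
  have h1 : v * w = w * v := by
    have h2 := h.commV hv ha
    have h3 : a * (w * v) = a * (v * w) := by
      rw [← mul_assoc, hc, ← mul_assoc, h2, mul_assoc]
    exact (mul_left_cancel h3).symm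
  rcases h.ne v hv w hw h1 with h3 | h3
  · exact absurd h3 hvW
  · exact V.mul_mem ha h3

/-- elementary subgroups of `T` not contained in `Z` -/
theorem elem {E : Subgroup G} (hE : E ≤ T) (hsq : ∀ x ∈ E, x * x = 1) : E ≤ V ∨ E ≤ W := by
  by_cases h1 : ∃ e ∈ E, e ∉ W
  · left
    obtain ⟨e, he, heW⟩ := h1
    have heV : e ∈ V := (h.invol (hE he) (hsq e he)).resolve_right heW
    intro x hx
    exact h.cent heV heW (hE hx) (comm_of_sq hsq hx he)
  · right
    push Not at h1
    exact h1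

theorem normV {x v : G} (hx : x ∈ T) (hv : v ∈ V) : x * v * x⁻¹ ∈ V := by
  obtain ⟨a, ha, w, hw, rfl⟩ := h.exT x hx
  have h1 := h.com' hv hw
  have h2 : a * w * v * (a * w)⁻¹ = a * (w * v * w⁻¹) * a⁻¹ := by group
  rw [h2, h.invW hw]
  have h3 : w * v * w = (w * v * w * v) * v⁻¹ := by group
  refine V.mul_mem (V.mul_mem ha ?_) (V.inv_mem ha)
  rw [h3]
  exact V.mul_mem h1.1 (V.inv_mem hv)

/-- commutators with a fixed element `w`, bundled -/
theorem exists_comm {w z : G} (hw : w ∈ W) (hwV : w ∉ V) (hz : z ∈ V ⊓ W) [Finite V] :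
    ∃ v ∈ V, v * w * v * w = z := by
  let f : V →* (V ⊓ W : Subgroup G) :=
    { toFun := fun v => ⟨v * w * v * w, h.com v v.2 w hw⟩
      map_one' := by
        apply Subtype.ext
        show 1 * w * 1 * w = 1
        rw [one_mul, mul_one, h.sqW w hw]
      map_mul' := fun a b => by
        apply Subtype.ext
        show (a * b : G) * w * (a * b : G) * w = (a * w * a * w) * (b * w * b * w)
        exact h.cm_mul_left a.2 b.2 hw }
  have hker : f.ker = (V ⊓ W).subgroupOf V := by
    ext v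
    rw [MonoidHom.mem_ker, mem_subgroupOf]
    constructor
    · intro hv
      have h1 : (v : G) * w * v * w = 1 := congrArg Subtype.val hv
      have h2 : (v : G) * w = w * v := by
        have h3 : (v : G) * w * (v * w) = 1 := by rw [← mul_assoc]; exact h1
        have h4 : (v : G) * w = (v * w)⁻¹ := (inv_eq_of_mul_eq_one_left h3).symm
        rwa [mul_inv_rev, h.invV v.2, h.invW hw] at h4
      exact ⟨v.2, (h.ne v v.2 w hw h2).resolve_right hwV⟩
    · intro hv
      apply Subtype.ext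
      show (v : G) * w * v * w = 1
      rw [h.central hv (h.leW hw), mul_assoc w, h.sqV v v.2, mul_one, h.sqW w hw]
  have hsurj : Function.Surjective f := by
    have h1 : Nat.card V = Nat.card f.ker * f.ker.index := (card_mul_index _).symm
    have h2 : Nat.card f.ker = 4 := by
      rw [hker, Nat.card_congr (subgroupOfEquivOfLe (inf_le_left : V ⊓ W ≤ V)).toEquiv, h.cZ]
    rw [index_ker, h.cV, h2] at h1
    have h3 : Nat.card f.range = 4 := by omega
    have h4 : f.range = ⊤ := by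
      have : Finite (V ⊓ W : Subgroup G) := Finite.of_injective _ (inclusion_injective
        (inf_le_left : V ⊓ W ≤ V))
      rw [← card_eq_iff_eq_top, h3, h.cZ]
    exact MonoidHom.range_eq_top.mp h4
  obtain ⟨v, hv⟩ := hsurj ⟨z, hz⟩
  exact ⟨v, v.2, congrArg Subtype.val hv⟩

end UT

end Cfsg.Agent.GH.C2GrowJ2
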