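import Cfsg.Agent.GH.C2GrowJ2A
import Cfsg.Agent.GH.C2GrowG

/-!
# GH-C2, growth of `T` of order 64 (type `UT₃(4)`), part B: `t` centralizes `V ∩ W`

If `t` is an involution of `S - T` swapping `V` and `W` and centralizing `V ∩ W`, `S = T⟨t⟩` is a Sylow
2-subgroup, `G` has no subgroup of index 2, then there is a contradiction.
-/

set_option autoImplicit false

namespace Cfsg.Agent.GH.C2GrowJ2

open Subgroup
open Cfsg.Agent.GH.C2GrowG (exists_mem_normalizer mem_normalizer_of conj_mem)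

/-- Sylow's theorem inside the subgroup `C`. -/
theorem exists_conj_le {G : Type*} [Group G] [Finite G] (C T X : Subgroup G) (hT : IsPGroup 2 T) (hTC : T ≤ C)
    (hmax : ∀ Y : Subgroup G, IsPGroup 2 Y → T ≤ Y → Y ≤ C → Y ≤ T)
    (hX : IsPGroup 2 X) (hXC : X ≤ C) : ∃ c ∈ C, ∀ x ∈ X, c * x * c⁻¹ ∈ T := by
  have : Fact (Nat.Prime 2) := ⟨Nat.prime_two⟩
  have hT' : IsPGroup 2 (T.subgroupOf C) := hT.comap_subtype
  have hX' : IsPGroup 2 (X.subgroupOf C) := hX.comap_subtype
  obtain ⟨S1, hS1⟩ := hT'.exists_le_sylow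
  obtain ⟨S2, hS2⟩ := hX'.exists_le_sylow
  obtain ⟨c, hc⟩ := MulAction.exists_smul_eq C S2 S1
  refine ⟨c, c.2, fun x hx => ?_⟩
  have h1 : (⟨x, hXC hx⟩ : C) ∈ (S2 : Subgroup C) := hS2 (Subgroup.mem_subgroupOf.mpr hx)
  have h2 : c * ⟨x, hXC hx⟩ * c⁻¹ ∈ (S1 : Subgroup C) := by
    rw [← hc, Sylow.coe_subgroup_smul]
    exact Subgroup.smul_mem_pointwise_smul _ (MulAut.conj c) _ h1
  have h3 : (S1 : Subgroup C).map C.subtype ≤ T := by
    apply hmax
    · exact S1.isPGroup'.map _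
    · intro y hy
      exact ⟨⟨y, hTC hy⟩, hS1 (Subgroup.mem_subgroupOf.mpr hy), rfl⟩
    · rintro _ ⟨y, -, rfl⟩
      exact y.2
  exact h3 ⟨_, h2, rfl⟩

theorem exists_conj_le_sylow {G : Type*} [Group G] [Finite G] (S : Sylow 2 G) (C X : Subgroup G)
    (hSC : (S : Subgroup G) ≤ C) (hX : IsPGroup 2 X) (hXC : X ≤ C) :
    ∃ c ∈ C, ∀ x ∈ X, c * x * c⁻¹ ∈ (S : Subgroup G) :=
  exists_conj_le C S X S.isPGroup' hSC (fun _ hY h1 _ => (S.is_maximal' hY h1).le) hX hXC

variable {G : Type*} [Group G]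

/-- A fixed involution `t` outside of `T` swaps `V` and `W` and centralizes `V ∩ W`. -/
structure Swap (V W T : Subgroup G) (t : G) : Prop where
  ut : UT V W T
  tT : t ∉ T
  tt : t * t = 1
  vw : ∀ v ∈ V, t * v * t ∈ W
  wv : ∀ w ∈ W, t * w * t ∈ V
  tz : ∀ z ∈ V ⊓ W, t * z = z * t

namespace Swap

variable {V W T : Subgroup G} {t : G} (h : Swap V W T t)

include h

theorem inv_t : t⁻¹ = t := inv_eq_of_mul_eq_one_left h.tt

theorem ttc (x : G) : t * (t * x) = x := by rw [← mul_assoc, h.tt, one_mul]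

/-- `v (t v t)` is inverted by `t` -/
theorem inv_a {v : G} (hv : v ∈ V) : t * (v * (t * v * t)) * t = (v * (t * v * t))⁻¹ := by
  have h1 : (v * (t * v * t))⁻¹ = t⁻¹ * v⁻¹ * t⁻¹ * v⁻¹ := by group
  rw [h1, h.inv_t, h.ut.invV hv]
  calc t * (v * (t * v * t)) * t = t * v * t * v * (t * t) := by group
    _ = t * v * t * v := by rw [h.tt, mul_one]

/-- `a t a⁻¹ = a² t` for `a = v (t v t)` -/
theorem conj_a {v : G} (hv : v ∈ V) :
    (v * (t * v * t)) * t * (v * (t * v * t))⁻¹ = (v * (t * v * t) * v * (t * v * t)) * t := by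
  rw [← h.inv_a hv]
  calc (v * (t * v * t)) * t * (t * (v * (t * v * t)) * t)
      = (v * (t * v * t)) * (t * t) * (v * (t * v * t)) * t := by group
    _ = (v * (t * v * t) * v * (t * v * t)) * t := by rw [h.tt, mul_one]; group

/-- the squares `a²` cover `V ∩ W` -/
theorem exists_sq [Finite G] {z : G} (hz : z ∈ V ⊓ W) :
    ∃ v ∈ V, v * (t * v * t) * v * (t * v * t) = z := by
  have hu := h.ut
  let c : G → G → G := fun v w => v * w * v * w
  have hcd : ∀ v w, c v w = v * w * v * w := fun _ _ => rfl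
  have key : ∀ a ∈ V, ∀ b ∈ V, (a * b) * (t * (a * b) * t) * (a * b) * (t * (a * b) * t) =
      (a * (t * a * t) * a * (t * a * t)) * (b * (t * b * t) * b * (t * b * t)) := by
    intro a ha b hb
    have hA := h.vw a ha
    have hB := h.vw b hb
    obtain ⟨A, hAe⟩ : ∃ A, A = t * a * t := ⟨_, rfl⟩
    obtain ⟨B, hBe⟩ : ∃ B, B = t * b * t := ⟨_, rfl⟩
    have hAB : t * (a * b) * t = A * B := by
      rw [hAe, hBe]
      calc t * (a * b) * t = t * a * 1 * b * t := by group
        _ = t * a * (t * t) * b * t := by rw [h.tt]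
        _ = t * a * t * (t * b * t) := by group
    rw [hAB, ← hAe, ← hBe]
    rw [← hAe] at hA
    rw [← hBe] at hB
    -- the mixed commutators are equal
    have hmix : a * B * a * B = b * A * b * A := by
      have e1 : t * (a * B * a * B) * t = A * b * A * b := by
        have e2 : t * B * t = b := by
          rw [hBe]
          calc t * (t * b * t) * t = (t * t) * b * (t * t) := by group
            _ = b := by rw [h.tt, one_mul, mul_one]
        calc t * (a * B * a * B) * t = t * a * 1 * B * 1 * a * 1 * B * t := by group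
          _ = t * a * (t * t) * B * (t * t) * a * (t * t) * B * t := by rw [h.tt]
          _ = (t * a * t) * (t * B * t) * (t * a * t) * (t * B * t) := by group
          _ = A * b * A * b := by rw [e2, ← hAe]
      have e3 : t * (a * B * a * B) * t = a * B * a * B := by
        rw [h.tz _ (hu.com a ha B hB), mul_assoc, h.tt, mul_one]
      rw [← e3, e1, hu.comm_eq hb hA]
    have hz1 := hu.com a ha A hA
    have hz2 := hu.com b hb B hB
    have hz3 := hu.com b hb A hA
    have hz4 := hu.com a ha B hB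
    have z3 : ∀ x ∈ T, (b * A * b * A) * x = x * (b * A * b * A) := fun x hx => hu.central hz3 hx
    have z4 : ∀ x ∈ T, (a * B * a * B) * x = x * (a * B * a * B) := fun x hx => hu.central hz4 hx
    have z2 : ∀ x ∈ T, (b * B * b * B) * x = x * (b * B * b * B) := fun x hx => hu.central hz2 hx
    have haT := hu.leV ha
    have hbT := hu.leV hb
    have hAT := hu.leW hA
    have hBT := hu.leW hB
    -- c(ab, AB) = c(ab, A) c(ab, B) = c(a,A) c(b,A) c(a,B) c(b,B)
    have m1 : ∀ x ∈ V, ∀ y ∈ V, ∀ w ∈ W, c (x * y) w = c x w * c y w :=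
      fun x hx y hy w hw => hu.cm_mul_left hx hy hw
    have m2 : ∀ x ∈ V, ∀ w ∈ W, ∀ w' ∈ W, c x (w * w') = c x w * c x w' :=
      fun x hx w hw w' hw' => hu.cm_mul_right hx hw hw'
    have e4 : (a * b) * (A * B) * (a * b) * (A * B) = c (a * b) (A * B) := rfl
    rw [e4, m1 a ha b hb _ (W.mul_mem hA hB), m2 a ha A hA B hB, m2 b hb A hA B hB]
    have e5 : c a B = c b A := hmix
    have e6 : c b A * c b A = 1 := hu.sqV _ hz3.1
    rw [e5]
    calc c a A * c b A * (c b A * c b B) = c a A * (c b A * c b A) * c b B := by group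
      _ = c a A * c b B := by rw [e6, mul_one]
  let f : V →* (V ⊓ W : Subgroup G) :=
    { toFun := fun v => ⟨v * (t * v * t) * v * (t * v * t), hu.com v v.2 _ (h.vw v v.2)⟩
      map_one' := by
        apply Subtype.ext
        show (1 : G) * (t * 1 * t) * 1 * (t * 1 * t) = 1
        rw [mul_one t, h.tt]; group
      map_mul' := fun a b => Subtype.ext (key a a.2 b b.2) }
  have hker : f.ker = (V ⊓ W).subgroupOf V := by
    ext v
    rw [MonoidHom.mem_ker, mem_subgroupOf]
    constructor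
    · intro hv
      have h1 : (v : G) * (t * v * t) * v * (t * v * t) = 1 := congrArg Subtype.val hv
      have hw := h.vw v v.2
      have h2 : (v : G) * (t * v * t) = (t * v * t) * v := by
        have h3 : (v : G) * (t * v * t) * (v * (t * v * t)) = 1 := by rw [← mul_assoc]; exact h1
        have h4 : (v : G) * (t * v * t) = (v * (t * v * t))⁻¹ := (inv_eq_of_mul_eq_one_left h3).symm
        rwa [mul_inv_rev, hu.invV v.2, hu.invW hw] at h4
      rcases hu.ne v v.2 _ hw h2 with h3 | h3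
      · exact ⟨v.2, h3⟩
      · -- t v t ∈ V ∩ W, so v ∈ V ∩ W
        have h4 := h.tz _ ⟨h3, hw⟩
        have h5 : (v : G) = t * v * t := by
          calc (v : G) = (t * t) * v * (t * t) := by rw [h.tt, one_mul, mul_one]
            _ = t * (t * v * t) * t := by group
            _ = (t * v * t) * t * t := by rw [h4]
            _ = (t * v * t) * (t * t) := by group
            _ = t * v * t := by rw [h.tt, mul_one]
        exact ⟨v.2, by rw [h5]; exact hw⟩
    · intro hv
      apply Subtype.ext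
      show (v : G) * (t * v * t) * v * (t * v * t) = 1
      have h4 := h.tz _ hv
      have h5 : t * v * t = v := by rw [h4, mul_assoc, h.tt, mul_one]
      rw [h5, hu.sqV v v.2, one_mul, hu.sqV v v.2]
  have hsurj : Function.Surjective f := by
    have h1 : Nat.card V = Nat.card f.ker * f.ker.index := (card_mul_index _).symm
    have h2 : Nat.card f.ker = 4 := by
      rw [hker, Nat.card_congr (subgroupOfEquivOfLe (inf_le_left : V ⊓ W ≤ V)).toEquiv, hu.cZ]
    rw [index_ker, hu.cV, h2] at h1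
    have h3 : Nat.card f.range = 4 := by omega
    have h4 : f.range = ⊤ := by
      rw [← card_eq_iff_eq_top, h3, hu.cZ]
    exact MonoidHom.range_eq_top.mp h4
  obtain ⟨v, hv⟩ := hsurj ⟨z, hz⟩
  exact ⟨v, v.2, congrArg Subtype.val hv⟩

/-- the involutions of `T t` are conjugate to `t` under `T` -/
theorem conj_t [Finite G] {x : G} (hx : x ∈ T) (hxx : (x * t) * (x * t) = 1) :
    ∃ q ∈ T, q * t * q⁻¹ = x * t := by
  have hu := h.ut
  obtain ⟨v, hv, u, huW, rfl⟩ := hu.exT x hx
  have hv' := h.vw v hv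
  have hu' := h.wv u huW
  -- `u (t v t) = v (t u t) ∈ Z`
  have h1 : u * (t * v * t) = v * (t * u * t) := by
    have h2 : v * (u * (t * v * t)) * (t * u * t) = 1 := by
      rw [← hxx]
      calc v * (u * (t * v * t)) * (t * u * t) = v * u * t * v * (t * t) * u * t := by group
        _ = v * u * t * (v * u * t) := by rw [h.tt, mul_one]; group
    have h3 : v * (u * (t * v * t)) = t * u * t := by
      have := eq_inv_of_mul_eq_one_left h2
      rwa [hu.invV hu'] at this
    calc u * (t * v * t) = v⁻¹ * (v * (u * (t * v * t))) := by group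
      _ = v * (t * u * t) := by rw [h3, hu.invV hv]
  have hz : u * (t * v * t) ∈ V ⊓ W := ⟨h1 ▸ V.mul_mem hv hu', W.mul_mem huW hv'⟩
  obtain ⟨z, hze⟩ : ∃ z, z = u * (t * v * t) := ⟨_, rfl⟩
  rw [← hze] at hz
  have hu2 : u = z * (t * v * t) := by
    rw [hze, mul_assoc, hu.sqW _ hv', mul_one]
  obtain ⟨a, ha, haz⟩ := h.exists_sq hz
  refine ⟨v * (a * (t * a * t)), T.mul_mem (hu.leV hv) (T.mul_mem (hu.leV ha) (hu.leW (h.vw a ha))), ?_⟩
  have h4 := h.conj_a ha
  rw [haz] at h4
  calc v * (a * (t * a * t)) * t * (v * (a * (t * a * t)))⁻¹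
      = v * ((a * (t * a * t)) * t * (a * (t * a * t))⁻¹) * v⁻¹ := by group
    _ = v * z * t * v := by rw [h4, hu.invV hv]; group
    _ = v * z * t * v * (t * t) := by rw [h.tt, mul_one]
    _ = v * (z * (t * v * t)) * t := by group
    _ = v * u * t := by rw [← hu2]

/-- `C_T(t) = V ∩ W` -/
theorem cent_t {x : G} (hx : x ∈ T) (hc : x * t = t * x) : x ∈ V ⊓ W := by
  have hu := h.ut
  obtain ⟨v, hv, u, huW, rfl⟩ := hu.exT x hx
  have hv' := h.vw v hv
  have hu' := h.wv u huW
  have h1 : v * u = (t * v * t) * (t * u * t) := by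
    calc v * u = (v * u) * (t * t) := by rw [h.tt, mul_one]
      _ = t * (v * u) * t := by rw [← mul_assoc, hc]
      _ = t * v * 1 * u * t := by group
      _ = t * v * (t * t) * u * t := by rw [h.tt]
      _ = (t * v * t) * (t * u * t) := by group
  -- the commutator of `v' = t v t` and `u' = t u t`
  have hc' := hu.com' hu' hv'
  obtain ⟨A, hAe⟩ : ∃ A, A = t * v * t := ⟨_, rfl⟩
  obtain ⟨B, hBe⟩ : ∃ B, B = t * u * t := ⟨_, rfl⟩
  rw [← hAe, ← hBe] at h1 hc'
  rw [← hAe] at hv'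
  rw [← hBe] at hu'
  -- hc' : A * B * A * B ∈ Z
  have h2 : v * u = B * A * (A * B * A * B) := by
    have h3 : B * A * (A * B * A * B) = B * (A * A) * (B * A * B) := by group
    rw [h3, hu.sqW A hv', mul_one, h1]
    calc A * B = 1 * (A * B) := (one_mul _).symm
      _ = (B * B) * (A * B) := by rw [hu.sqV B hu']
      _ = B * (B * A * B) := by group
  obtain ⟨c, hce⟩ : ∃ c, c = A * B * A * B := ⟨_, rfl⟩
  rw [← hce] at h2 hc'
  -- B v = A c u ∈ Z
  have h4 : B * v = A * c * u := by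
    have h5 : B * (v * u) = A * c := by
      rw [h2]
      calc B * (B * A * c) = (B * B) * (A * c) := by group
        _ = A * c := by rw [hu.sqV B hu', one_mul]
    calc B * v = B * v * (u * u) := by rw [hu.sqW u huW, mul_one]
      _ = (B * (v * u)) * u := by group
      _ = A * c * u := by rw [h5]
  have hz : B * v ∈ V ⊓ W :=
    ⟨V.mul_mem hu' hv, h4 ▸ W.mul_mem (W.mul_mem hv' hc'.2) huW⟩
  obtain ⟨z, hze⟩ : ∃ z, z = B * v := ⟨_, rfl⟩
  rw [← hze] at hz
  have hB : B = z * v := by rw [hze, mul_assoc, hu.sqV v hv, mul_one]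
  have hBt : u = t * B * t := by
    rw [hBe]
    calc u = (t * t) * u * (t * t) := by rw [h.tt, one_mul, mul_one]
      _ = t * (t * u * t) * t := by group
  have hu3 : u = z * A := by
    rw [hBt, hB, hAe]
    calc t * (z * v) * t = (t * z) * v * t := by group
      _ = z * (t * v * t) := by rw [h.tz z hz]; group
  -- v z A = A B = A z v, so [v, A] = 1
  have hzV := hu.central hz (hu.leV hv)
  have hzA := hu.central hz (hu.leW hv')
  have h6 : v * A = A * v := by
    have h7 : z * (v * A) = z * (A * v) := by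
      calc z * (v * A) = (z * v) * A := by group
        _ = v * (z * A) := by rw [hzV]; group
        _ = v * u := by rw [hu3]
        _ = A * B := h1
        _ = (A * z) * v := by rw [hB]; group
        _ = z * (A * v) := by rw [← hzA]; group
    exact mul_left_cancel h7
  have hzt := h.tz z hz
  have hvW : v ∈ W := by
    rcases hu.ne v hv A hv' h6 with h8 | h8
    · exact h8
    · have h9 := h.tz A ⟨h8, hv'⟩
      have h10 : v = t * A * t := by
        rw [hAe]
        calc v = (t * t) * v * (t * t) := by rw [h.tt, one_mul, mul_one]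
          _ = t * (t * v * t) * t := by group
      rw [h10, h9, mul_assoc, h.tt, mul_one]
      exact hv'
  have hA : A = v := by
    rw [hAe, h.tz v ⟨hv, hvW⟩, mul_assoc, h.tt, mul_one]
  have hvZ : v ∈ V ⊓ W := ⟨hv, hvW⟩
  rw [hu3, hA]
  exact (V ⊓ W).mul_mem hvZ ((V ⊓ W).mul_mem hz hvZ)

end Swap

/-! ### more on `UT` -/

section more

variable {V W T : Subgroup G} (h : UT V W T)

include h

theorem UT.comm_mem {q x : G} (hq : q ∈ T) (hx : x ∈ V) : q * x * q⁻¹ * x⁻¹ ∈ V ⊓ W := by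
  obtain ⟨v, hv, w, hw, rfl⟩ := h.exT q hq
  have hc := h.com' hx hw
  have h1 : v * w * x * (v * w)⁻¹ * x⁻¹ = v * (w * x * w⁻¹ * x⁻¹) * (x * v⁻¹ * x⁻¹) := by group
  have h2 : x * v⁻¹ * x⁻¹ = v⁻¹ := by
    rw [h.commV hx (V.inv_mem hv), mul_assoc, mul_inv_cancel, mul_one]
  rw [h1, h2, h.invW hw, h.invV hx, ← h.central hc (h.leV hv), mul_assoc, mul_inv_cancel, mul_one]
  exact hc

theorem UT.inverted {v a : G} (hv : v ∈ V) (ha : a ∈ T) (hi : v * a * v⁻¹ = a⁻¹) (hne : a * a ≠ 1) :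
    ∃ w ∈ W, a = v * w := by
  obtain ⟨x, hx, w, hw, rfl⟩ := h.exT a ha
  have h1 : (v * x) * w = w * (v * x) := by
    rw [mul_inv_rev, h.invV hx, h.invW hw, h.invV hv] at hi
    calc (v * x) * w = v * (x * w) * (v * v) := by rw [h.sqV v hv, mul_one]; group
      _ = (v * (x * w) * v) * v := by group
      _ = w * (x * v) := by rw [hi]; group
      _ = w * (v * x) := by rw [h.commV hx hv]
  rcases h.ne _ (V.mul_mem hv hx) w hw h1 with h2 | h2
  · refine ⟨(v * x) * w, W.mul_mem h2 hw, ?_⟩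
    calc x * w = (v * v) * (x * w) := by rw [h.sqV v hv, one_mul]
      _ = v * (v * x * w) := by group
  · exact absurd (h.sqV _ (V.mul_mem hx h2)) hne

theorem UT.exists_pair : ∃ a ∈ V, ∃ b ∈ V, a ∉ W ∧ b ∉ W ∧ a * b ∉ W := by
  have : Finite V := Nat.finite_of_card_ne_zero (by rw [h.cV]; norm_num)
  have hi : ((V ⊓ W).subgroupOf V).index = 4 := by
    have h1 := card_mul_index ((V ⊓ W).subgroupOf V)
    rw [Nat.card_congr (subgroupOfEquivOfLe (inf_le_left : V ⊓ W ≤ V)).toEquiv, h.cZ, h.cV] at h1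
    omega
  obtain ⟨a, ha, haW⟩ : ∃ a ∈ V, a ∉ W := by
    by_contra hcon
    push Not at hcon
    have h1 : (V ⊓ W).subgroupOf V = ⊤ := by
      rw [subgroupOf_eq_top]
      exact fun x hx => ⟨hx, hcon x hx⟩
    rw [h1, index_top] at hi
    omega
  refine ⟨a, ha, ?_⟩
  by_contra hcon
  push Not at hcon
  have h1 : ((V ⊓ W).subgroupOf V).index = 2 := by
    rw [Subgroup.index_eq_two_iff]
    refine ⟨⟨a, ha⟩, fun b => ?_⟩
    rw [mem_subgroupOf, mem_subgroupOf]
    show Xor ((b : G) * a ∈ V ⊓ W) ((b : G) ∈ V ⊓ W)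
    by_cases hb : (b : G) ∈ W
    · right
      refine ⟨⟨b.2, hb⟩, fun h2 => haW ?_⟩
      have := W.mul_mem (W.inv_mem hb) h2.2
      simpa using this
    · left
      refine ⟨⟨V.mul_mem b.2 ha, ?_⟩, fun h2 => hb h2.2⟩
      rw [h.commV b.2 ha]
      exact hcon b b.2 haW hb
  omega

theorem UT.not_le : ¬ V ≤ W := by
  obtain ⟨a, ha, -, -, haW, -⟩ := h.exists_pair
  exact fun h1 => haW (h1 ha)

/-- A 2-element normalizing `T`, not in `T`, swaps `V` and `W`. -/
theorem UT.swap_of_max [Finite G]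
    (hmax : ∀ y : G, (∀ v ∈ V, y * v * y⁻¹ ∈ V) → (∀ x ∈ T, y * x * y⁻¹ ∈ T) →
      (∃ n : ℕ, y ^ 2 ^ n = 1) → y ∈ T)
    {y : G} (hy : ∀ x ∈ T, y * x * y⁻¹ ∈ T) (h2 : ∃ n : ℕ, y ^ 2 ^ n = 1) (hyT : y ∉ T) :
    (∀ v ∈ V, y * v * y⁻¹ ∈ W) ∧ (∀ w ∈ W, y * w * y⁻¹ ∈ V) := by
  have e1 : V.map (MulAut.conj y).toMonoidHom ≤ T := by
    rintro _ ⟨x, hx, rfl⟩
    exact hy x (h.leV hx)
  have e2 : ∀ x ∈ V.map (MulAut.conj y).toMonoidHom, x * x = 1 := by
    rintro _ ⟨x, hx, rfl⟩
    show y * x * y⁻¹ * (y * x * y⁻¹) = 1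
    have : y * x * y⁻¹ * (y * x * y⁻¹) = y * (x * x) * y⁻¹ := by group
    rw [this, h.sqV x hx, mul_one, mul_inv_cancel]
  have f1 : W.map (MulAut.conj y).toMonoidHom ≤ T := by
    rintro _ ⟨x, hx, rfl⟩
    exact hy x (h.leW hx)
  have f2 : ∀ x ∈ W.map (MulAut.conj y).toMonoidHom, x * x = 1 := by
    rintro _ ⟨x, hx, rfl⟩
    show y * x * y⁻¹ * (y * x * y⁻¹) = 1
    have : y * x * y⁻¹ * (y * x * y⁻¹) = y * (x * x) * y⁻¹ := by group
    rw [this, h.sqW x hx, mul_one, mul_inv_cancel]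
  have hV : V.map (MulAut.conj y).toMonoidHom ≤ W := by
    rcases h.elem e1 e2 with h3 | h3
    · exact absurd (hmax y (fun v hv => h3 ⟨v, hv, rfl⟩) hy h2) hyT
    · exact h3
  have hV' : V.map (MulAut.conj y).toMonoidHom = W := by
    refine eq_of_le_of_card_ge hV ?_
    rw [h.cW, card_map_of_injective (MulAut.conj y).injective, h.cV]
  refine ⟨fun v hv => hV ⟨v, hv, rfl⟩, fun w hw => ?_⟩
  rcases h.elem f1 f2 with h3 | h3
  · exact h3 ⟨w, hw, rfl⟩
  · exfalso
    apply h.symm.not_le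
    intro w' hw'
    have h4 : y * w' * y⁻¹ ∈ W := h3 ⟨w', hw', rfl⟩
    rw [← hV'] at h4
    obtain ⟨v, hv, hve⟩ := h4
    have h5 : y * v * y⁻¹ = y * w' * y⁻¹ := hve
    have h6 : v = w' := by simpa using h5
    rw [← h6]
    exact hv

end more

end Cfsg.Agent.GH.C2GrowJ2
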