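import Cfsg.Agent.GH.C2GrowJ2B
import Cfsg.Agent.Transfer.ThompsonTransfer

/-!
# GH-C2, growth of `T` of order 64 (type `UT₃(4)`), part C: `t` centralizes `V ∩ W` is impossible
-/

set_option autoImplicit false

namespace Cfsg.Agent.GH.C2GrowJ2

open Subgroup
open Cfsg.Agent.GH.C2GrowG (exists_mem_normalizer mem_normalizer_of conj_mem)

variable {G : Type*} [Group G]

/-- `S = T⟨t⟩`, `t` an involution swapping `V` and `W` and centralizing `V ∩ W`. -/
structure Ctx (S : Sylow 2 G) (V W T : Subgroup G) (t : G) : Prop extends Swap V W T t where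
  TS : T ≤ S
  tS : t ∈ (S : Subgroup G)
  ST : ∀ y ∈ (S : Subgroup G), y ∈ T ∨ y * t ∈ T
  max : ∀ y : G, (∀ v ∈ V, y * v * y⁻¹ ∈ V) → (∀ x ∈ T, y * x * y⁻¹ ∈ T) →
    (∃ n : ℕ, y ^ 2 ^ n = 1) → y ∈ T

theorem exists_pow_of_mem {P : Subgroup G} (hP : IsPGroup 2 P) {y : G} (hy : y ∈ P) :
    ∃ n : ℕ, y ^ 2 ^ n = 1 := by
  obtain ⟨n, hn⟩ := hP ⟨y, hy⟩
  exact ⟨n, congrArg Subtype.val hn⟩

namespace Ctx

variable {S : Sylow 2 G} {V W T : Subgroup G} {t : G} (h : Ctx S V W T t)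

include h

/-- `U = C_S(t)` -/
theorem mem_U {x : G} : x ∈ (S : Subgroup G) ⊓ centralizer ({t} : Set G) ↔
    x ∈ V ⊓ W ∨ x * t ∈ V ⊓ W := by
  constructor
  · rintro ⟨hxS, hxt⟩
    have hc : x * t = t * x := (mem_centralizer_singleton_iff.mp hxt)
    rcases h.ST x hxS with h1 | h1
    · exact Or.inl (h.cent_t h1 hc)
    · right
      refine h.cent_t h1 ?_
      rw [← mul_assoc, ← hc]
  · intro hx
    have key : ∀ z ∈ V ⊓ W, z ∈ (S : Subgroup G) ⊓ centralizer ({t} : Set G) := fun z hz =>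
      ⟨h.TS (h.ut.leV hz.1), mem_centralizer_singleton_iff.mpr (h.tz z hz).symm⟩
    rcases hx with hx | hx
    · exact key x hx
    · have h1 : x = x * t * t := by rw [mul_assoc, h.tt, mul_one]
      rw [h1]
      exact mul_mem (key _ hx) ⟨h.tS, mem_centralizer_singleton_iff.mpr rfl⟩

theorem Z_central {z x : G} (hz : z ∈ V ⊓ W) (hx : x ∈ (S : Subgroup G)) : z * x = x * z := by
  rcases h.ST x hx with h1 | h1
  · exact h.ut.central hz h1
  · have h2 := h.ut.central hz h1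
    have h3 := h.tz z hz
    calc z * x = z * (x * t) * t := by
          calc z * x = z * x * (t * t) := by rw [h.tt, mul_one]
            _ = z * (x * t) * t := by group
      _ = x * (t * z) * t := by rw [h2]; group
      _ = x * z * (t * t) := by rw [h3]; group
      _ = x * z := by rw [h.tt, mul_one]

/-- `a = v (t v t)` normalizes `U`. -/
theorem a_norm [Finite G] {v : G} (hv : v ∈ V) :
    v * (t * v * t) ∈ normalizer (((S : Subgroup G) ⊓ centralizer ({t} : Set G) : Subgroup G) : Set G) := by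
  have haT : v * (t * v * t) ∈ T := T.mul_mem (h.ut.leV hv) (h.ut.leW (h.vw v hv))
  apply mem_normalizer_of
  intro x hx
  have key : ∀ z ∈ V ⊓ W, (v * (t * v * t)) * z * (v * (t * v * t))⁻¹ = z := fun z hz => by
    rw [← h.ut.central hz haT, mul_assoc, mul_inv_cancel, mul_one]
  rcases h.mem_U.mp hx with h1 | h1
  · rw [key x h1]; exact hx
  · refine h.mem_U.mpr (Or.inr ?_)
    have h2 := h.conj_a hv
    have h3 : (v * (t * v * t)) * x * (v * (t * v * t))⁻¹ * t =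
        ((v * (t * v * t)) * (x * t) * (v * (t * v * t))⁻¹) *
          ((v * (t * v * t)) * t * (v * (t * v * t))⁻¹) * t := by
      have h4 : ((v * (t * v * t)) * (x * t) * (v * (t * v * t))⁻¹) *
          ((v * (t * v * t)) * t * (v * (t * v * t))⁻¹) * t =
          (v * (t * v * t)) * x * (t * t) * (v * (t * v * t))⁻¹ * t := by group
      rw [h4, h.tt, mul_one]
    rw [h3, key _ h1, h2]
    have h5 := mul_mem h1 (h.ut.com v hv _ (h.vw v hv))
    obtain ⟨c, hc⟩ : ∃ c, c = v * (t * v * t) * v * (t * v * t) := ⟨_, rfl⟩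
    rw [← hc] at h5 ⊢
    have h6 : x * t * (c * t) * t = x * t * c * (t * t) := by group
    rw [h6, h.tt, mul_one]
    exact h5

/-- the squares of the elements `a` -/
theorem a_sq {v : G} (hv : v ∈ V) (hvW : v ∉ W) : (v * (t * v * t)) * (v * (t * v * t)) ≠ 1 := by
  intro h1
  have haT : v * (t * v * t) ∈ T := T.mul_mem (h.ut.leV hv) (h.ut.leW (h.vw v hv))
  rcases h.ut.invol haT h1 with h2 | h2
  · have h3 : t * v * t ∈ V := by
      have := V.mul_mem (V.inv_mem hv) h2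
      simpa using this
    have h4 := h.tz _ ⟨h3, h.vw v hv⟩
    have h5 : v = t * v * t := by
      calc v = (t * t) * v * (t * t) := by rw [h.tt, one_mul, mul_one]
        _ = t * (t * v * t) * t := by group
        _ = (t * v * t) * t * t := by rw [h4]
        _ = (t * v * t) * (t * t) := by group
        _ = t * v * t := by rw [h.tt, mul_one]
    exact hvW (h5 ▸ h.vw v hv)
  · have h3 : v ∈ W := by
      have h4 := W.mul_mem h2 (W.inv_mem (h.vw v hv))
      rwa [mul_inv_cancel_right] at h4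
    exact hvW h3

theorem a_sq' {v w : G} (hv : v ∈ V) (hw : w ∈ V) (hvw : v * w ∉ W) :
    ((v * (t * v * t))⁻¹ * (w * (t * w * t))) * ((v * (t * v * t))⁻¹ * (w * (t * w * t))) ≠ 1 := by
  intro h1
  have haT : v * (t * v * t) ∈ T := T.mul_mem (h.ut.leV hv) (h.ut.leW (h.vw v hv))
  have hbT : w * (t * w * t) ∈ T := T.mul_mem (h.ut.leV hw) (h.ut.leW (h.vw w hw))
  have hvw' : v⁻¹ * w ∉ W := by rw [h.ut.invV hv]; exact hvw
  have e1 : (v * (t * v * t))⁻¹ * (w * (t * w * t)) = (t * v * t)⁻¹ * (v⁻¹ * w) * (t * w * t) := by group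
  rcases h.ut.invol (T.mul_mem (T.inv_mem haT) hbT) h1 with h2 | h2
  · rw [e1] at h2
    have h3 : (t * v * t)⁻¹ * (v⁻¹ * w) * (t * v * t)⁻¹⁻¹ ∈ V :=
      h.ut.normV (T.inv_mem (h.ut.leW (h.vw v hv))) (V.mul_mem (V.inv_mem hv) hw)
    have h4 : (t * v * t)⁻¹ * (t * w * t) ∈ V := by
      have h5 := V.mul_mem (V.inv_mem h3) h2
      have h6 : ((t * v * t)⁻¹ * (v⁻¹ * w) * (t * v * t)⁻¹⁻¹)⁻¹ *
        ((t * v * t)⁻¹ * (v⁻¹ * w) * (t * w * t)) = (t * v * t)⁻¹ * (t * w * t) := by group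
      rwa [h6] at h5
    have h7 : (t * v * t)⁻¹ * (t * w * t) = t * (v⁻¹ * w) * t := by
      have h8 : (t * v * t)⁻¹ = t⁻¹ * v⁻¹ * t⁻¹ := by group
      rw [h8, h.inv_t]
      calc t * v⁻¹ * t * (t * w * t) = t * v⁻¹ * (t * t) * w * t := by group
        _ = t * (v⁻¹ * w) * t := by rw [h.tt, mul_one]; group
    rw [h7] at h4
    have h9 := h.vw _ (V.mul_mem (V.inv_mem hv) hw)
    have h10 := h.tz _ ⟨h4, h9⟩
    have h11 : v⁻¹ * w = t * (v⁻¹ * w) * t := by
      calc v⁻¹ * w = (t * t) * (v⁻¹ * w) * (t * t) := by rw [h.tt, one_mul, mul_one]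
        _ = t * (t * (v⁻¹ * w) * t) * t := by group
        _ = (t * (v⁻¹ * w) * t) * t * t := by rw [h10]
        _ = (t * (v⁻¹ * w) * t) * (t * t) := by group
        _ = t * (v⁻¹ * w) * t := by rw [h.tt, mul_one]
    exact hvw' (h11 ▸ h9)
  · rw [e1] at h2
    apply hvw'
    have h3 := W.mul_mem (W.mul_mem (h.vw v hv) h2) (W.inv_mem (h.vw w hw))
    have h4 : t * v * t * ((t * v * t)⁻¹ * (v⁻¹ * w) * (t * w * t)) * (t * w * t)⁻¹ = v⁻¹ * w := by group
    rwa [h4] at h3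

/-- 2-elements of `N(V ∩ W)` centralize `V ∩ W` -/
theorem two_norm [Finite G] {x z : G} (hx : ∀ z ∈ V ⊓ W, x * z * x⁻¹ ∈ V ⊓ W)
    (h2 : ∃ n : ℕ, x ^ 2 ^ n = 1) (hz : z ∈ V ⊓ W) : x * z * x⁻¹ = z := by
  have hxN : x ∈ normalizer ((V ⊓ W : Subgroup G) : Set G) := mem_normalizer_of hx
  have hP : IsPGroup 2 (zpowers x) := by
    obtain ⟨n, hn⟩ := h2
    rintro ⟨y, j, rfl⟩
    refine ⟨n, Subtype.ext ?_⟩
    show (x ^ j) ^ 2 ^ n = 1
    rw [← zpow_natCast, zpow_comm, zpow_natCast, hn, one_zpow]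
  have hSN : (S : Subgroup G) ≤ normalizer ((V ⊓ W : Subgroup G) : Set G) := by
    intro y hy
    apply mem_normalizer_of
    intro z hz
    rw [← h.Z_central hz hy, mul_assoc, mul_inv_cancel, mul_one]
    exact hz
  obtain ⟨c, hc, hcS⟩ := exists_conj_le_sylow S (normalizer ((V ⊓ W : Subgroup G) : Set G)) (zpowers x)
    hSN hP (by rw [zpowers_le]; exact hxN)
  have h1 := hcS x (mem_zpowers x)
  have h3 := h.Z_central (conj_mem hc hz) h1
  have h4 : c * (z * x) * c⁻¹ = c * (x * z) * c⁻¹ := by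
    calc c * (z * x) * c⁻¹ = (c * z * c⁻¹) * (c * x * c⁻¹) := by group
      _ = (c * x * c⁻¹) * (c * z * c⁻¹) := h3
      _ = c * (x * z) * c⁻¹ := by group
  have h5 : z * x = x * z := by simpa using h4
  rw [← h5, mul_assoc, mul_inv_cancel, mul_one]

/-- No conjugate of `U` lies between `V ∩ W` and `V`. -/
theorem lprime [Finite G] (m : G)
    (h1 : V ⊓ W ≤ ((S : Subgroup G) ⊓ centralizer ({t} : Set G)).map (MulAut.conj m).toMonoidHom)
    (h2 : ((S : Subgroup G) ⊓ centralizer ({t} : Set G)).map (MulAut.conj m).toMonoidHom ≤ V)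
    (h3 : ¬ ((S : Subgroup G) ⊓ centralizer ({t} : Set G)).map (MulAut.conj m).toMonoidHom ≤ W) :
    False := by
  have hu := h.ut
  obtain ⟨U, hU⟩ : ∃ U : Subgroup G, U = (S : Subgroup G) ⊓ centralizer ({t} : Set G) := ⟨_, rfl⟩
  rw [← hU] at h1 h2 h3
  obtain ⟨X, hX⟩ : ∃ X : Subgroup G, X = U.map (MulAut.conj m).toMonoidHom := ⟨_, rfl⟩
  rw [← hX] at h1 h2 h3
  -- `T` normalizes `X`
  have hTN : T ≤ normalizer (X : Set G) := by
    intro q hq
    apply mem_normalizer_of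
    intro x hx
    have h4 := X.mul_mem (h1 (hu.comm_mem hq (h2 hx))) hx
    simpa using h4
  -- `T` is a maximal 2-subgroup of `N(X)`
  have hpT : IsPGroup 2 T := S.isPGroup'.to_le h.TS
  have hmax : ∀ Y : Subgroup G, IsPGroup 2 Y → T ≤ Y → Y ≤ normalizer (X : Set G) → Y ≤ T := by
    intro Y hY hTY hYN
    by_contra hcon
    obtain ⟨r, hrY, hrT, hrN⟩ := exists_mem_normalizer hY hpT (hTY.trans le_normalizer) hcon
    obtain ⟨s1, s2⟩ := hu.swap_of_max h.max (fun x hx => conj_mem hrN hx) (exists_pow_of_mem hY hrY) hrT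
    apply h3
    intro x hx
    have h4 : r⁻¹ * x * r⁻¹⁻¹ ∈ X := conj_mem (inv_mem (hYN hrY)) hx
    have h5 := s1 _ (h2 h4)
    have h6 : r * (r⁻¹ * x * r⁻¹⁻¹) * r⁻¹ = x := by group
    rwa [h6] at h5
  -- move `N_S(U)` into `T`
  have hR : IsPGroup 2 (((S : Subgroup G) ⊓ normalizer (U : Set G)).map (MulAut.conj m).toMonoidHom) :=
    (S.isPGroup'.to_le inf_le_left).map _
  have hRN : ((S : Subgroup G) ⊓ normalizer (U : Set G)).map (MulAut.conj m).toMonoidHom ≤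
      normalizer (X : Set G) := by
    rintro _ ⟨r, hr, rfl⟩
    apply mem_normalizer_of
    intro x hx
    rw [hX] at hx
    obtain ⟨u, hu', rfl⟩ := hx
    rw [hX]
    refine ⟨r * u * r⁻¹, conj_mem hr.2 hu', ?_⟩
    show m * (r * u * r⁻¹) * m⁻¹ = (m * r * m⁻¹) * (m * u * m⁻¹) * (m * r * m⁻¹)⁻¹
    group
  obtain ⟨k, hk, hkT⟩ := exists_conj_le _ T _ hpT hTN hmax hR hRN
  have htU : t ∈ U := by
    rw [hU]
    exact ⟨h.tS, mem_centralizer_singleton_iff.mpr rfl⟩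
  obtain ⟨a, ha, b, hb, haW, hbW, habW⟩ := hu.exists_pair
  have hS : ∀ v ∈ V, v * (t * v * t) ∈ (S : Subgroup G) ⊓ normalizer (U : Set G) := by
    intro v hv
    refine ⟨h.TS (T.mul_mem (hu.leV hv) (hu.leW (h.vw v hv))), ?_⟩
    have := h.a_norm hv
    rw [← hU] at this
    exact this
  have hT' : ∀ v ∈ V, (k * m) * (v * (t * v * t)) * (k * m)⁻¹ ∈ T := by
    intro v hv
    have h4 := hkT _ ⟨_, hS v hv, rfl⟩
    have h5 : (k * m) * (v * (t * v * t)) * (k * m)⁻¹ =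
      k * (m * (v * (t * v * t)) * m⁻¹) * k⁻¹ := by group
    rw [h5]
    exact h4
  have htV : (k * m) * t * (k * m)⁻¹ ∈ V := by
    have h4 : m * t * m⁻¹ ∈ X := by
      rw [hX]
      exact ⟨t, htU, rfl⟩
    have h5 := h2 (conj_mem hk h4)
    have h6 : (k * m) * t * (k * m)⁻¹ = k * (m * t * m⁻¹) * k⁻¹ := by group
    rw [h6]
    exact h5
  have hinv : ∀ v ∈ V, v ∉ W → ∃ w ∈ W, (k * m) * (v * (t * v * t)) * (k * m)⁻¹ =
      ((k * m) * t * (k * m)⁻¹) * w := by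
    intro v hv hvW
    refine hu.inverted htV (hT' v hv) ?_ ?_
    · have h4 := h.inv_a hv
      have h5 : (k * m) * t * (k * m)⁻¹ * ((k * m) * (v * (t * v * t)) * (k * m)⁻¹) *
          ((k * m) * t * (k * m)⁻¹)⁻¹ = (k * m) * (t * (v * (t * v * t)) * t⁻¹) * (k * m)⁻¹ := by group
      rw [h5, h.inv_t, h4]
      group
    · intro h4
      apply h.a_sq hv hvW
      have h5 : (k * m) * (v * (t * v * t)) * (k * m)⁻¹ * ((k * m) * (v * (t * v * t)) * (k * m)⁻¹) =
        (k * m) * ((v * (t * v * t)) * (v * (t * v * t))) * (k * m)⁻¹ := by group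
      rw [h5] at h4
      exact conj_eq_one_iff.mp h4
  obtain ⟨w1, hw1, e1⟩ := hinv a ha haW
  obtain ⟨w2, hw2, e2⟩ := hinv b hb hbW
  apply h.a_sq' ha hb habW
  have h4 : (k * m) * ((a * (t * a * t))⁻¹ * (b * (t * b * t))) * (k * m)⁻¹ = w1⁻¹ * w2 := by
    calc (k * m) * ((a * (t * a * t))⁻¹ * (b * (t * b * t))) * (k * m)⁻¹
        = ((k * m) * (a * (t * a * t)) * (k * m)⁻¹)⁻¹ * ((k * m) * (b * (t * b * t)) * (k * m)⁻¹) := by
          group
      _ = w1⁻¹ * w2 := by rw [e1, e2]; group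
  have h5 : (k * m) * (((a * (t * a * t))⁻¹ * (b * (t * b * t))) *
      ((a * (t * a * t))⁻¹ * (b * (t * b * t)))) * (k * m)⁻¹ = 1 := by
    calc (k * m) * (((a * (t * a * t))⁻¹ * (b * (t * b * t))) *
      ((a * (t * a * t))⁻¹ * (b * (t * b * t)))) * (k * m)⁻¹
        = ((k * m) * ((a * (t * a * t))⁻¹ * (b * (t * b * t))) * (k * m)⁻¹) *
          ((k * m) * ((a * (t * a * t))⁻¹ * (b * (t * b * t))) * (k * m)⁻¹) := by group
      _ = 1 := by rw [h4]; exact hu.sqW _ (W.mul_mem (W.inv_mem hw1) hw2)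
  exact conj_eq_one_iff.mp h5

/-- `|U| = 8` -/
theorem card_U [Finite G] : Nat.card ((S : Subgroup G) ⊓ centralizer ({t} : Set G) : Subgroup G) = 8 := by
  obtain ⟨U, hU⟩ : ∃ U : Subgroup G, U = (S : Subgroup G) ⊓ centralizer ({t} : Set G) := ⟨_, rfl⟩
  rw [← hU]
  have hZU : V ⊓ W ≤ U := fun z hz => by
    rw [hU]
    exact h.mem_U.mpr (Or.inl hz)
  have htU : t ∈ U := by
    rw [hU]
    exact ⟨h.tS, mem_centralizer_singleton_iff.mpr rfl⟩
  have h1 := card_mul_index ((V ⊓ W).subgroupOf U)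
  rw [Nat.card_congr (subgroupOfEquivOfLe hZU).toEquiv, h.ut.cZ] at h1
  have h2 : ((V ⊓ W).subgroupOf U).index = 2 := by
    rw [Subgroup.index_eq_two_iff]
    refine ⟨⟨t, htU⟩, fun b => ?_⟩
    rw [mem_subgroupOf, mem_subgroupOf]
    show Xor ((b : G) * t ∈ V ⊓ W) ((b : G) ∈ V ⊓ W)
    have hb : (b : G) ∈ (S : Subgroup G) ⊓ centralizer ({t} : Set G) := by
      rw [← hU]
      exact b.2
    have hex : ¬ ((b : G) * t ∈ V ⊓ W ∧ (b : G) ∈ V ⊓ W) := by
      rintro ⟨h3, h4⟩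
      apply h.tT
      have h5 := (V ⊓ W).mul_mem ((V ⊓ W).inv_mem h4) h3
      rw [inv_mul_cancel_left] at h5
      exact h.ut.leV h5.1
    rcases h.mem_U.mp hb with h3 | h3
    · exact Or.inr ⟨h3, fun h4 => hex ⟨h4, h3⟩⟩
    · exact Or.inl ⟨h3, fun h4 => hex ⟨h3, h4⟩⟩
  rw [h2] at h1
  omega

/-- If a conjugate of `U` under `C(V ∩ W)` lies in `T`, contradiction. -/
theorem false_of_conj [Finite G] {c : G} (hc : ∀ z ∈ V ⊓ W, c * z * c⁻¹ = z)
    (hcT : c * t * c⁻¹ ∈ T) : False := by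
  have key : ∀ d : G, (∀ z ∈ V ⊓ W, d * z * d⁻¹ = z) → d * t * d⁻¹ ∈ V → False := by
    intro d hd hdV
    have hne : d * t * d⁻¹ ∉ W := by
      intro h1
      have h2 := hd _ ⟨hdV, h1⟩
      have h3 : d * t * d⁻¹ = t := by
        have h4 : d * (d * t * d⁻¹) * d⁻¹ = d * t * d⁻¹ := h2
        have h5 : d * t * d⁻¹ = t := by
          have := congrArg (fun x => d⁻¹ * x * d) h4
          simpa [mul_assoc] using this
        exact h5
      exact h.tT (by rw [← h3]; exact h.ut.leV hdV)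
    have htU : t ∈ (S : Subgroup G) ⊓ centralizer ({t} : Set G) :=
      ⟨h.tS, mem_centralizer_singleton_iff.mpr rfl⟩
    refine h.lprime d ?_ ?_ ?_
    · intro z hz
      exact ⟨z, h.mem_U.mpr (Or.inl hz), hd z hz⟩
    · rintro _ ⟨u, hu, rfl⟩
      show d * u * d⁻¹ ∈ V
      rcases h.mem_U.mp hu with h1 | h1
      · rw [hd u h1]; exact h1.1
      · have h2 : d * u * d⁻¹ = (d * (u * t) * d⁻¹) * (d * t * d⁻¹)⁻¹ := by group
        rw [h2, hd _ h1]
        exact V.mul_mem h1.1 (V.inv_mem hdV)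
    · intro h1
      exact hne (h1 ⟨t, htU, rfl⟩)
  have h1 : (c * t * c⁻¹) * (c * t * c⁻¹) = 1 := by
    have : (c * t * c⁻¹) * (c * t * c⁻¹) = c * (t * t) * c⁻¹ := by group
    rw [this, h.tt, mul_one, mul_inv_cancel]
  rcases h.ut.invol hcT h1 with h2 | h2
  · exact key c hc h2
  · refine key (t * c) (fun z hz => ?_) ?_
    · have h3 : (t * c) * z * (t * c)⁻¹ = t * (c * z * c⁻¹) * t⁻¹ := by group
      rw [h3, hc z hz, h.tz z hz, mul_assoc, mul_inv_cancel, mul_one]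
    · have h3 : (t * c) * t * (t * c)⁻¹ = t * (c * t * c⁻¹) * t⁻¹ := by group
      rw [h3, h.inv_t]
      exact h.wv _ h2

/-- the contradiction -/
theorem false_of_ctx [Finite G] (hG : ∀ M : Subgroup G, M.Normal → M.index ≠ 2) : False := by
  have hu := h.ut
  obtain ⟨U, hU⟩ : ∃ U : Subgroup G, U = (S : Subgroup G) ⊓ centralizer ({t} : Set G) := ⟨_, rfl⟩
  have hcU : Nat.card U = 8 := by rw [hU]; exact h.card_U
  have mU : ∀ {x : G}, x ∈ U ↔ x ∈ V ⊓ W ∨ x * t ∈ V ⊓ W := by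
    intro x
    rw [hU]
    exact h.mem_U
  have htU : t ∈ U := by
    rw [hU]
    exact ⟨h.tS, mem_centralizer_singleton_iff.mpr rfl⟩
  have hUS : U ≤ S := by rw [hU]; exact inf_le_left
  have hUC : U ≤ centralizer ({t} : Set G) := by rw [hU]; exact inf_le_right
  -- Thompson transfer: `t` is conjugate into `T`
  have hrel : T.relIndex (S : Subgroup G) = 2 := by
    show (T.subgroupOf (S : Subgroup G)).index = 2
    rw [Subgroup.index_eq_two_iff]
    refine ⟨⟨t, h.tS⟩, fun b => ?_⟩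
    rw [mem_subgroupOf, mem_subgroupOf]
    show Xor ((b : G) * t ∈ T) ((b : G) ∈ T)
    have hex : ¬ ((b : G) * t ∈ T ∧ (b : G) ∈ T) := by
      rintro ⟨h3, h4⟩
      apply h.tT
      have h5 := T.mul_mem (T.inv_mem h4) h3
      rwa [inv_mul_cancel_left] at h5
    rcases h.ST b b.2 with h3 | h3
    · exact Or.inr ⟨h3, fun h4 => hex ⟨h4, h3⟩⟩
    · exact Or.inl ⟨h3, fun h4 => hex ⟨h3, h4⟩⟩
  obtain ⟨g, hg⟩ : ∃ g : G, g * t * g⁻¹ ∈ T := by
    rcases Cfsg.Agent.Transfer.ThompsonTransfer.thompson_transfer S T h.TS hrel t (by rw [pow_two, h.tt]) with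
      ⟨M, h1, h2, -⟩ | h1
    · exact absurd h2 (hG M h1)
    · exact h1
  -- a 2-subgroup of order 16 of `C(t)`
  obtain ⟨E, hEp, hEc, hEC⟩ : ∃ E : Subgroup G, IsPGroup 2 E ∧ Nat.card E = 16 ∧
      E ≤ centralizer ({t} : Set G) := by
    have h1 : (g * t * g⁻¹) * (g * t * g⁻¹) = 1 := by
      have : (g * t * g⁻¹) * (g * t * g⁻¹) = g * (t * t) * g⁻¹ := by group
      rw [this, h.tt, mul_one, mul_inv_cancel]
    have key : ∀ E : Subgroup G, (∀ x ∈ E, x * x = 1) → Nat.card E = 16 → g * t * g⁻¹ ∈ E →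
        ∃ E : Subgroup G, IsPGroup 2 E ∧ Nat.card E = 16 ∧ E ≤ centralizer ({t} : Set G) := by
      intro E hE hEc hgE
      refine ⟨E.map (MulAut.conj g⁻¹).toMonoidHom, ?_, ?_, ?_⟩
      · refine IsPGroup.map ?_ _
        rintro ⟨x, hx⟩
        refine ⟨1, Subtype.ext ?_⟩
        show x ^ 2 ^ 1 = 1
        rw [pow_one, pow_two]
        exact hE x hx
      · rw [card_map_of_injective (MulAut.conj g⁻¹).injective, hEc]
      · rintro _ ⟨x, hx, rfl⟩
        rw [mem_centralizer_singleton_iff]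
        show (g⁻¹ * x * g⁻¹⁻¹) * t = t * (g⁻¹ * x * g⁻¹⁻¹)
        have h2 := comm_of_sq hE hx hgE
        calc (g⁻¹ * x * g⁻¹⁻¹) * t = g⁻¹ * (x * (g * t * g⁻¹)) * g := by group
          _ = g⁻¹ * ((g * t * g⁻¹) * x) * g := by rw [h2]
          _ = t * (g⁻¹ * x * g⁻¹⁻¹) := by group
    rcases hu.invol hg h1 with h2 | h2
    · exact key V hu.sqV hu.cV h2
    · exact key W hu.sqW hu.cW h2
  -- a larger 2-subgroup of `C(t)`
  have hpU : IsPGroup 2 U := S.isPGroup'.to_le hUS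
  obtain ⟨Y, hY, hUY, hYC, hYU⟩ : ∃ Y : Subgroup G, IsPGroup 2 Y ∧ U ≤ Y ∧
      Y ≤ centralizer ({t} : Set G) ∧ ¬ Y ≤ U := by
    by_contra hcon
    push Not at hcon
    obtain ⟨c, -, hcE⟩ := exists_conj_le _ U E hpU hUC hcon hEp hEC
    have h1 : E.map (MulAut.conj c).toMonoidHom ≤ U := by
      rintro _ ⟨x, hx, rfl⟩
      exact hcE x hx
    have h2 := card_le_of_le h1
    rw [card_map_of_injective (MulAut.conj c).injective, hEc, hcU] at h2
    omega
  obtain ⟨y, hyY, hyU, hyN⟩ := exists_mem_normalizer hY hpU (hUY.trans le_normalizer) hYU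
  have hyt : y * t = t * y := mem_centralizer_singleton_iff.mp (hYC hyY)
  have hy2 := exists_pow_of_mem hY hyY
  by_cases hA : ∀ z ∈ V ⊓ W, y * z * y⁻¹ ∈ V ⊓ W
  · -- `y` centralizes `V ∩ W`
    have hyZ : ∀ z ∈ V ⊓ W, y * z * y⁻¹ = z := fun z hz => h.two_norm hA hy2 hz
    obtain ⟨Y2, hY2⟩ : ∃ Y2 : Subgroup G, Y2 = Y ⊓ centralizer ((V ⊓ W : Subgroup G) : Set G) := ⟨_, rfl⟩
    have hyY2 : y ∈ Y2 := by
      rw [hY2]
      refine ⟨hyY, mem_centralizer_iff.mpr fun z hz => ?_⟩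
      have := hyZ z hz
      exact (mul_inv_eq_iff_eq_mul.mp this).symm
    have hUY2 : U ≤ Y2 := by
      rw [hY2]
      refine le_inf hUY fun x hx => mem_centralizer_iff.mpr fun z hz => ?_
      exact h.Z_central hz (hUS hx)
    have hpY2 : IsPGroup 2 Y2 := by
      rw [hY2]
      exact hY.to_le inf_le_left
    have hSZ : (S : Subgroup G) ≤ centralizer ((V ⊓ W : Subgroup G) : Set G) := fun x hx =>
      mem_centralizer_iff.mpr fun z hz => h.Z_central hz hx
    obtain ⟨c, hc, hcS⟩ := exists_conj_le_sylow S _ Y2 hSZ hpY2 (by rw [hY2]; exact inf_le_right)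
    have hcZ : ∀ z ∈ V ⊓ W, c * z * c⁻¹ = z := fun z hz => by
      have := mem_centralizer_iff.mp hc z hz
      rw [← this, mul_assoc, mul_inv_cancel, mul_one]
    have ht1 := hcS t (hUY2 htU)
    rcases h.ST _ ht1 with h1 | h1
    · exact h.false_of_conj hcZ h1
    · -- `c t c⁻¹` is conjugate to `t` under `T`
      obtain ⟨q, hq, hqt⟩ := h.conj_t h1 (by
        have : c * t * c⁻¹ * t * t * (c * t * c⁻¹ * t * t) = c * t * c⁻¹ * (t * t) * (c * t * c⁻¹) * (t * t) := by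
          group
        rw [this, h.tt, mul_one, mul_one]
        have : c * t * c⁻¹ * (c * t * c⁻¹) = c * (t * t) * c⁻¹ := by group
        rw [this, h.tt, mul_one, mul_inv_cancel])
      have hqt' : q * t * q⁻¹ = c * t * c⁻¹ := by
        rw [hqt, mul_assoc, h.tt, mul_one]
      have hd : ∀ x ∈ Y2, (q⁻¹ * c) * x * (q⁻¹ * c)⁻¹ ∈ U := by
        intro x hx
        rw [hU, mem_inf]
        refine ⟨?_, ?_⟩
        · have h2 := hcS x hx
          have h3 : (q⁻¹ * c) * x * (q⁻¹ * c)⁻¹ = q⁻¹ * (c * x * c⁻¹) * q := by group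
          rw [h3]
          have hqS : q ∈ (S : Subgroup G) := h.TS hq
          exact mul_mem (mul_mem (inv_mem hqS) h2) hqS
        · rw [mem_centralizer_singleton_iff]
          have h2 : x * t = t * x := by
            have : x ∈ Y := by
              rw [hY2] at hx
              exact hx.1
            exact mem_centralizer_singleton_iff.mp (hYC this)
          have h3 : (q⁻¹ * c) * t * (q⁻¹ * c)⁻¹ = t := by
            calc (q⁻¹ * c) * t * (q⁻¹ * c)⁻¹ = q⁻¹ * (c * t * c⁻¹) * q := by group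
              _ = q⁻¹ * (q * t * q⁻¹) * q := by rw [hqt']
              _ = t := by group
          calc (q⁻¹ * c) * x * (q⁻¹ * c)⁻¹ * t
              = (q⁻¹ * c) * x * (q⁻¹ * c)⁻¹ * ((q⁻¹ * c) * t * (q⁻¹ * c)⁻¹) := by rw [h3]
            _ = (q⁻¹ * c) * (x * t) * (q⁻¹ * c)⁻¹ := by group
            _ = (q⁻¹ * c) * (t * x) * (q⁻¹ * c)⁻¹ := by rw [h2]
            _ = ((q⁻¹ * c) * t * (q⁻¹ * c)⁻¹) * ((q⁻¹ * c) * x * (q⁻¹ * c)⁻¹) := by group
            _ = t * ((q⁻¹ * c) * x * (q⁻¹ * c)⁻¹) := by rw [h3]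
      have h4 : Y2.map (MulAut.conj (q⁻¹ * c)).toMonoidHom ≤ U := by
        rintro _ ⟨x, hx, rfl⟩
        exact hd x hx
      have h5 := card_le_of_le h4
      rw [card_map_of_injective (MulAut.conj (q⁻¹ * c)).injective] at h5
      have h6 : U = Y2 := eq_of_le_of_card_ge hUY2 h5
      exact hyU (by rw [h6]; exact hyY2)
  · -- transvections
    push Not at hA
    obtain ⟨z0, hz0, hz0'⟩ := hA
    have hyZU : ∀ z ∈ V ⊓ W, y * z * y⁻¹ ∈ U := fun z hz => conj_mem hyN (mU.mpr (Or.inl hz))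
    have hyZU' : ∀ z ∈ V ⊓ W, y⁻¹ * z * y ∈ U := fun z hz => by
      have := conj_mem (inv_mem hyN) (mU.mpr (Or.inl hz))
      rwa [inv_inv] at this
    obtain ⟨a', ha', ha'1, haZ⟩ : ∃ a' ∈ V ⊓ W, a' ≠ 1 ∧ y * a' * y⁻¹ ∈ V ⊓ W := by
      have hz01 : z0 ≠ 1 := by
        rintro rfl
        exact hz0' (by rw [mul_one, mul_inv_cancel]; exact one_mem _)
      obtain ⟨z1, hz1, hz11, hz10⟩ : ∃ z1 ∈ V ⊓ W, z1 ≠ 1 ∧ z1 ≠ z0 := by
        by_contra hcon
        push Not at hcon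
        have h1 : (V ⊓ W : Subgroup G) ≤ zpowers z0 := by
          intro z hz
          by_cases h2 : z = 1
          · rw [h2]; exact one_mem _
          · rw [hcon z hz h2]; exact mem_zpowers z0
        have h2 := card_le_of_le h1
        rw [hu.cZ, Nat.card_zpowers] at h2
        have h3 : orderOf z0 ∣ 2 := orderOf_dvd_of_pow_eq_one (by rw [pow_two]; exact hu.sqV z0 hz0.1)
        have h4 := Nat.le_of_dvd (by norm_num) h3
        omega
      by_cases h1 : y * z1 * y⁻¹ ∈ V ⊓ W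
      · exact ⟨z1, hz1, hz11, h1⟩
      · refine ⟨z0 * z1, mul_mem hz0 hz1, ?_, ?_⟩
        · intro h2
          apply hz10
          have h3 := eq_inv_of_mul_eq_one_right h2
          rw [h3, hu.invV hz0.1]
        · have h2 := (mU.mp (hyZU z0 hz0)).resolve_left hz0'
          have h3 := (mU.mp (hyZU z1 hz1)).resolve_left h1
          have h4 := mul_mem h2 ((V ⊓ W).inv_mem h3)
          have h5 : y * z0 * y⁻¹ * t * (y * z1 * y⁻¹ * t)⁻¹ = y * (z0 * z1⁻¹) * y⁻¹ := by group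
          rw [h5, hu.invV hz1.1] at h4
          exact h4
    obtain ⟨v, hv, hva⟩ := h.exists_sq ha'
    have hqT : v * (t * v * t) ∈ T := T.mul_mem (hu.leV hv) (hu.leW (h.vw v hv))
    have hqt := h.conj_a hv
    rw [hva] at hqt
    obtain ⟨q, hqe⟩ : ∃ q, q = v * (t * v * t) := ⟨_, rfl⟩
    rw [← hqe] at hqt hqT
    -- q u q⁻¹ = a' u for u ∈ U - Z
    have hqu : ∀ u ∈ U, u ∉ V ⊓ W → q * u * q⁻¹ = a' * u := by
      intro u hu' huZ
      have h1 := (mU.mp hu').resolve_left huZ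
      have h2 := hu.central h1 hqT
      have h3 : q * u * q⁻¹ = (q * (u * t) * q⁻¹) * (q * t * q⁻¹)⁻¹ := by group
      rw [h3, hqt, ← h2]
      have h4 := hu.central h1 (hu.leV ha'.1)
      calc u * t * q * q⁻¹ * (a' * t)⁻¹ = (u * t) * t⁻¹ * a'⁻¹ := by group
        _ = (u * t) * t⁻¹ * a' := by rw [hu.invV ha'.1]
        _ = u * a' := by group
        _ = a' * u := by rw [h.Z_central ha' (hUS hu')]
    have hqz : ∀ z ∈ V ⊓ W, q * z * q⁻¹ = z := fun z hz => by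
      rw [← hu.central hz hqT, mul_assoc, mul_inv_cancel, mul_one]
    -- x = y q y⁻¹ normalizes `V ∩ W`
    have hx : ∀ z ∈ V ⊓ W, (y * q * y⁻¹) * z * (y * q * y⁻¹)⁻¹ = z ∨
        (y⁻¹ * z * y ∉ V ⊓ W ∧ (y * q * y⁻¹) * z * (y * q * y⁻¹)⁻¹ = (y * a' * y⁻¹) * z) := by
      intro z hz
      have h1 : (y * q * y⁻¹) * z * (y * q * y⁻¹)⁻¹ = y * (q * (y⁻¹ * z * y) * q⁻¹) * y⁻¹ := by group
      by_cases h2 : y⁻¹ * z * y ∈ V ⊓ W
      · left
        rw [h1, hqz _ h2]; group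
      · right
        refine ⟨h2, ?_⟩
        rw [h1, hqu _ (hyZU' z hz) h2]; group
    have hxN : ∀ z ∈ V ⊓ W, (y * q * y⁻¹) * z * (y * q * y⁻¹)⁻¹ ∈ V ⊓ W := by
      intro z hz
      rcases hx z hz with h1 | ⟨-, h1⟩
      · rw [h1]; exact hz
      · rw [h1]; exact mul_mem haZ hz
    have hx2 : ∃ n : ℕ, (y * q * y⁻¹) ^ 2 ^ n = 1 := by
      obtain ⟨n, hn⟩ := exists_pow_of_mem S.isPGroup' (h.TS hqT)
      exact ⟨n, by rw [conj_pow, hn, mul_one, mul_inv_cancel]⟩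
    obtain ⟨z, hz, hzy⟩ : ∃ z ∈ V ⊓ W, y⁻¹ * z * y ∉ V ⊓ W := by
      by_contra hcon
      push Not at hcon
      have h1 : y⁻¹ ∈ normalizer ((V ⊓ W : Subgroup G) : Set G) := by
        apply mem_normalizer_of
        intro z hz
        rw [inv_inv]
        exact hcon z hz
      exact hz0' (conj_mem (by simpa using inv_mem h1) hz0)
    have h1 := h.two_norm hxN hx2 hz
    have h2 : y * q * y⁻¹ * z * (y * q * y⁻¹)⁻¹ = (y * a' * y⁻¹) * z := by
      rcases hx z hz with h3 | h3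
      · exfalso
        have h4 : (y * q * y⁻¹) * z * (y * q * y⁻¹)⁻¹ = y * (q * (y⁻¹ * z * y) * q⁻¹) * y⁻¹ := by group
        rw [h4, hqu _ (hyZU' z hz) hzy] at h3
        have h5 : y * (a' * (y⁻¹ * z * y)) * y⁻¹ = (y * a' * y⁻¹) * z := by group
        rw [h5] at h3
        have h6 := mul_eq_right.mp h3
        exact ha'1 (conj_eq_one_iff.mp h6)
      · exact h3.2
    rw [h1] at h2
    have h6 := mul_eq_right.mp h2.symm
    exact ha'1 (conj_eq_one_iff.mp h6)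

end Ctx

end Cfsg.Agent.GH.C2GrowJ2
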