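import Cfsg.Agent.GH.C2GrowJ2C

/-!
# GH-C2, growth of `T` of order 64 (type `UT₃(4)`), part D: `|S : T| = 2`, the element of order 3
-/

set_option autoImplicit false

namespace Cfsg.Agent.GH.C2GrowJ2

open Subgroup
open Cfsg.Agent.GH.C2GrowG (exists_mem_normalizer mem_normalizer_of conj_mem)

variable {G : Type*} [Group G]

section grow

variable {V W T : Subgroup G} (h : UT V W T)
  (hmax : ∀ y : G, (∀ v ∈ V, y * v * y⁻¹ ∈ V) → (∀ x ∈ T, y * x * y⁻¹ ∈ T) →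
      (∃ n : ℕ, y ^ 2 ^ n = 1) → y ∈ T)

include h hmax

/-- the product of two 2-elements normalizing `T`, not in `T`, in a common 2-group, is in `T` -/
theorem UT.mul_mem_of [Finite G] {P : Subgroup G} (hP : IsPGroup 2 P) {y y' : G} (hy : y ∈ P) (hy' : y' ∈ P)
    (hyN : ∀ x ∈ T, y * x * y⁻¹ ∈ T) (hyN' : ∀ x ∈ T, y' * x * y'⁻¹ ∈ T) (hyT : y ∉ T) (hyT' : y' ∉ T) :
    y * y' ∈ T := by
  obtain ⟨a1, a2⟩ := h.swap_of_max hmax hyN (exists_pow_of_mem hP hy) hyT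
  obtain ⟨b1, b2⟩ := h.swap_of_max hmax hyN' (exists_pow_of_mem hP hy') hyT'
  refine hmax _ (fun v hv => ?_) (fun x hx => ?_) (exists_pow_of_mem hP (mul_mem hy hy'))
  · have h1 := a2 _ (b1 v hv)
    have h2 : y * y' * v * (y * y')⁻¹ = y * (y' * v * y'⁻¹) * y⁻¹ := by group
    rw [h2]
    exact h1
  · have h1 := hyN _ (hyN' x hx)
    have h2 : y * y' * x * (y * y')⁻¹ = y * (y' * x * y'⁻¹) * y⁻¹ := by group
    rw [h2]
    exact h1

/-- elementary subgroups of order 16 of `N_P(T)` -/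
theorem UT.elem_of [Finite G] {P : Subgroup G} (hP : IsPGroup 2 P)
    (hPT : P ≤ normalizer (T : Set G)) {E : Subgroup G} (hE : E ≤ P) (hsq : ∀ x ∈ E, x * x = 1)
    (hEc : Nat.card E = 16) : E ≤ V ∨ E ≤ W := by
  by_cases h1 : E ≤ T
  · exact h.elem h1 hsq
  exfalso
  obtain ⟨s, hs, hsT⟩ := SetLike.not_le_iff_exists.mp h1
  have hsN : ∀ x ∈ T, s * x * s⁻¹ ∈ T := fun x hx => conj_mem (hPT (hE hs)) hx
  obtain ⟨a1, a2⟩ := h.swap_of_max hmax hsN (exists_pow_of_mem hP (hE hs)) hsT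
  have hle : E ⊓ T ≤ V ⊓ W := by
    have hc : ∀ e ∈ E ⊓ T, s * e * s⁻¹ = e := fun e he => by
      rw [comm_of_sq hsq hs he.1, mul_assoc, mul_inv_cancel, mul_one]
    rcases h.elem (inf_le_right : E ⊓ T ≤ T) (fun x hx => hsq x hx.1) with h2 | h2
    · intro e he
      refine ⟨h2 he, ?_⟩
      have h3 := a1 e (h2 he)
      rwa [hc e he] at h3
    · intro e he
      refine ⟨?_, h2 he⟩
      have h3 := a2 e (h2 he)
      rwa [hc e he] at h3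
  have h2 : ((E ⊓ T).subgroupOf E).index = 2 := by
    rw [Subgroup.index_eq_two_iff]
    refine ⟨⟨s, hs⟩, fun b => ?_⟩
    rw [mem_subgroupOf, mem_subgroupOf]
    show Xor ((b : G) * s ∈ E ⊓ T) ((b : G) ∈ E ⊓ T)
    by_cases hb : (b : G) ∈ T
    · right
      refine ⟨⟨b.2, hb⟩, fun h3 => hsT ?_⟩
      have h5 := T.mul_mem (T.inv_mem hb) h3.2
      rwa [inv_mul_cancel_left] at h5
    · left
      refine ⟨⟨E.mul_mem b.2 hs, ?_⟩, fun h3 => hb h3.2⟩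
      exact h.mul_mem_of hmax hP (hE b.2) (hE hs) (fun x hx => conj_mem (hPT (hE b.2)) hx) hsN hb hsT
  have h3 := card_mul_index ((E ⊓ T).subgroupOf E)
  rw [Nat.card_congr (subgroupOfEquivOfLe (inf_le_left : E ⊓ T ≤ E)).toEquiv, h2, hEc] at h3
  have h4 := card_le_of_le hle
  rw [h.cZ] at h4
  omega

/-- A 2-group containing `T` normalizes `T`. -/
theorem UT.le_norm [Finite G] {S : Subgroup G} (hS : IsPGroup 2 S) (hTS : T ≤ S) :
    S ≤ normalizer (T : Set G) := by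
  by_contra hcon
  have hP : IsPGroup 2 (S ⊓ normalizer (T : Set G) : Subgroup G) := hS.to_le inf_le_left
  have hn : ¬ S ≤ S ⊓ normalizer (T : Set G) := fun h1 => hcon (h1.trans inf_le_right)
  obtain ⟨r, hrS, hrP, hrN⟩ := exists_mem_normalizer hS hP (inf_le_left.trans le_normalizer) hn
  apply hrP
  refine ⟨hrS, ?_⟩
  have hTP : T ≤ S ⊓ normalizer (T : Set G) := le_inf hTS le_normalizer
  have key : ∀ E : Subgroup G, E ≤ T → (∀ x ∈ E, x * x = 1) → Nat.card E = 16 →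
      ∀ x ∈ E, r * x * r⁻¹ ∈ T := by
    intro E hET hE2 hEc x hx
    have e1 : E.map (MulAut.conj r).toMonoidHom ≤ S ⊓ normalizer (T : Set G) := by
      rintro _ ⟨y, hy, rfl⟩
      exact conj_mem hrN (hTP (hET hy))
    have e2 : ∀ y ∈ E.map (MulAut.conj r).toMonoidHom, y * y = 1 := by
      rintro _ ⟨y, hy, rfl⟩
      show r * y * r⁻¹ * (r * y * r⁻¹) = 1
      have : r * y * r⁻¹ * (r * y * r⁻¹) = r * (y * y) * r⁻¹ := by group
      rw [this, hE2 y hy, mul_one, mul_inv_cancel]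
    have e3 : Nat.card (E.map (MulAut.conj r).toMonoidHom) = 16 := by
      rw [card_map_of_injective (MulAut.conj r).injective, hEc]
    rcases h.elem_of hmax hP inf_le_right e1 e2 e3 with h3 | h3
    · exact h.leV (h3 ⟨x, hx, rfl⟩)
    · exact h.leW (h3 ⟨x, hx, rfl⟩)
  apply mem_normalizer_of
  intro x hx
  obtain ⟨v, hv, w, hw, rfl⟩ := h.exT x hx
  have h1 : r * (v * w) * r⁻¹ = (r * v * r⁻¹) * (r * w * r⁻¹) := by group
  rw [h1]
  exact T.mul_mem (key V h.leV h.sqV h.cV v hv) (key W h.leW h.sqW h.cW w hw)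

/-- `T` has index at most 2 in each 2-group containing `T`. -/
theorem UT.mul_mem_grow [Finite G] {S : Subgroup G} (hS : IsPGroup 2 S) (hTS : T ≤ S) {y y' : G}
    (hy : y ∈ S) (hy' : y' ∈ S) (hyT : y ∉ T) (hyT' : y' ∉ T) : y * y' ∈ T := by
  have hN := h.le_norm hmax hS hTS
  exact h.mul_mem_of hmax hS hy hy' (fun x hx => conj_mem (hN hy) hx) (fun x hx => conj_mem (hN hy') hx)
    hyT hyT'

end grow

/-! ### the element of order 3 -/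

/-- the norm identity for a fixed point free element of order 3 -/
theorem norm_eq [Finite G] {T : Subgroup G} {ρ : G} (h3 : ρ * ρ * ρ = 1) (hT : ∀ x ∈ T, ρ * x * ρ⁻¹ ∈ T)
    (hfix : ∀ x ∈ T, ρ * x = x * ρ → x = 1) {x : G} (hx : x ∈ T) :
    x * (ρ * x * ρ⁻¹) * (ρ * (ρ * x * ρ⁻¹) * ρ⁻¹) = 1 := by
  let f : T → T := fun y => ⟨(y : G)⁻¹ * (ρ * y * ρ⁻¹), T.mul_mem (T.inv_mem y.2) (hT y y.2)⟩
  have hf : Function.Injective f := by
    intro a b hab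
    have h1 : (a : G)⁻¹ * (ρ * a * ρ⁻¹) = (b : G)⁻¹ * (ρ * b * ρ⁻¹) := congrArg Subtype.val hab
    have h2 : (b : G) * (a : G)⁻¹ = 1 := by
      apply hfix _ (T.mul_mem b.2 (T.inv_mem a.2))
      calc ρ * (b * (a : G)⁻¹) = b * ((b : G)⁻¹ * (ρ * b * ρ⁻¹)) * (ρ * (a : G)⁻¹) := by group
        _ = b * ((a : G)⁻¹ * (ρ * a * ρ⁻¹)) * (ρ * (a : G)⁻¹) := by rw [h1]
        _ = b * (a : G)⁻¹ * ρ := by group
    exact Subtype.ext (mul_inv_eq_one.mp h2).symm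
  obtain ⟨y, hy⟩ := (Finite.injective_iff_surjective.mp hf) ⟨x, hx⟩
  have h1 : (y : G)⁻¹ * (ρ * y * ρ⁻¹) = x := congrArg Subtype.val hy
  rw [← h1]
  have h2 : (y : G)⁻¹ * (ρ * y * ρ⁻¹) * (ρ * ((y : G)⁻¹ * (ρ * y * ρ⁻¹)) * ρ⁻¹) *
      (ρ * (ρ * ((y : G)⁻¹ * (ρ * y * ρ⁻¹)) * ρ⁻¹) * ρ⁻¹) =
      (y : G)⁻¹ * (ρ * ρ * ρ) * y * (ρ * ρ * ρ)⁻¹ := by
    group
  rw [h2, h3]
  simp

/-- `C_T(ρ) = 1`: every element of `T ρ` is conjugate to `ρ` under `T`. -/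
theorem exists_conj_eq' [Finite G] {T : Subgroup G} {ρ σ : G} (hT : ∀ x ∈ T, ρ * x * ρ⁻¹ ∈ T)
    (hfix : ∀ x ∈ T, ρ * x = x * ρ → x = 1) (hσ : σ * ρ⁻¹ ∈ T) : ∃ q ∈ T, q * ρ * q⁻¹ = σ := by
  let f : T → T := fun y => ⟨(y : G) * (ρ * (y : G)⁻¹ * ρ⁻¹), T.mul_mem y.2 (hT _ (T.inv_mem y.2))⟩
  have hf : Function.Injective f := by
    intro a b hab
    have h1 : (a : G) * (ρ * (a : G)⁻¹ * ρ⁻¹) = (b : G) * (ρ * (b : G)⁻¹ * ρ⁻¹) := congrArg Subtype.val hab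
    have h2 : (b : G)⁻¹ * a = 1 := by
      apply hfix _ (T.mul_mem (T.inv_mem b.2) a.2)
      calc ρ * ((b : G)⁻¹ * a) = (b : G)⁻¹ * (b * (ρ * (b : G)⁻¹ * ρ⁻¹)) * ρ * a := by group
        _ = (b : G)⁻¹ * (a * (ρ * (a : G)⁻¹ * ρ⁻¹)) * ρ * a := by rw [h1]
        _ = (b : G)⁻¹ * a * ρ := by group
    exact Subtype.ext (inv_mul_eq_one.mp h2).symm
  obtain ⟨q, hq⟩ := (Finite.injective_iff_surjective.mp hf) ⟨σ * ρ⁻¹, hσ⟩
  refine ⟨q, q.2, ?_⟩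
  have h2 : (q : G) * (ρ * (q : G)⁻¹ * ρ⁻¹) = σ * ρ⁻¹ := congrArg Subtype.val hq
  calc q * ρ * (q : G)⁻¹ = (q : G) * (ρ * (q : G)⁻¹ * ρ⁻¹) * ρ := by group
    _ = σ := by rw [h2]; group

end Cfsg.Agent.GH.C2GrowJ2
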