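import Cfsg.Agent.GH.C2GrowJ2D

/-!
# GH-C2, growth of `T` of order 64 (type `UT₃(4)`), part E: the element `ρ` of order 3, coordinates
-/

set_option autoImplicit false

namespace Cfsg.Agent.GH.C2GrowJ2

open Subgroup
open Cfsg.Agent.GH.C2GrowG (exists_mem_normalizer mem_normalizer_of conj_mem)
open Cfsg.Agent.J2Sylow.Model (F4)

variable {G : Type*} [Group G]

/-- A fixed point free element of order 3 on `T`, normalizing `V` and `W`. -/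
structure Rho (V W T : Subgroup G) (ρ : G) : Prop where
  r3 : ρ * ρ * ρ = 1
  rV : ∀ v ∈ V, ρ * v * ρ⁻¹ ∈ V
  rW : ∀ w ∈ W, ρ * w * ρ⁻¹ ∈ W
  fix : ∀ x ∈ T, ρ * x = x * ρ → x = 1

section coord

variable {V W T : Subgroup G} (h : UT V W T) {ρ : G} (r : Rho V W T ρ)

/-- `x`, `ρ x ρ⁻¹`, `ρ² x ρ⁻²` as a function on `F4`. -/
def co (ρ x : G) : F4 → G
  | .o => 1
  | .e => x
  | .w => ρ * x * ρ⁻¹
  | .u => ρ * (ρ * x * ρ⁻¹) * ρ⁻¹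

theorem Rho.symm (r : Rho V W T ρ) : Rho W V T ρ := ⟨r.r3, r.rW, r.rV, r.fix⟩

theorem Rho.inv_eq (r : Rho V W T ρ) : ρ⁻¹ = ρ * ρ := by
  rw [inv_eq_iff_mul_eq_one, ← mul_assoc]
  exact r.r3

theorem Rho.three (r : Rho V W T ρ) (x : G) : ρ * (ρ * (ρ * x * ρ⁻¹) * ρ⁻¹) * ρ⁻¹ = x := by
  have h1 : ρ * (ρ * (ρ * x * ρ⁻¹) * ρ⁻¹) * ρ⁻¹ = (ρ * ρ * ρ) * x * (ρ * ρ * ρ)⁻¹ := by group
  rw [h1, r.r3]; simp

theorem Rho.rinv (r : Rho V W T ρ) (x : G) : ρ⁻¹ * x * ρ⁻¹⁻¹ = ρ * (ρ * x * ρ⁻¹) * ρ⁻¹ := by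
  have h1 := r.three x
  rw [inv_inv]
  calc ρ⁻¹ * x * ρ = ρ⁻¹ * (ρ * (ρ * (ρ * x * ρ⁻¹) * ρ⁻¹) * ρ⁻¹) * ρ := by rw [h1]
    _ = ρ * (ρ * x * ρ⁻¹) * ρ⁻¹ := by group

/-- `ρ⁻¹` -/
theorem Rho.inv (r : Rho V W T ρ) : Rho V W T ρ⁻¹ where
  r3 := by
    have h1 : ρ⁻¹ * ρ⁻¹ * ρ⁻¹ = (ρ * ρ * ρ)⁻¹ := by group
    rw [h1, r.r3, inv_one]
  rV v hv := by rw [r.rinv]; exact r.rV _ (r.rV v hv)
  rW v hv := by rw [r.rinv]; exact r.rW _ (r.rW v hv)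
  fix x hx hc := by
    apply r.fix x hx
    calc ρ * x = ρ * (x * ρ⁻¹) * ρ := by group
      _ = ρ * (ρ⁻¹ * x) * ρ := by rw [hc]
      _ = x * ρ := by group

include h r

theorem Rho.rT {x : G} (hx : x ∈ T) : ρ * x * ρ⁻¹ ∈ T := by
  obtain ⟨v, hv, w, hw, rfl⟩ := h.exT x hx
  have h1 : ρ * (v * w) * ρ⁻¹ = (ρ * v * ρ⁻¹) * (ρ * w * ρ⁻¹) := by group
  rw [h1]
  exact T.mul_mem (h.leV (r.rV v hv)) (h.leW (r.rW w hw))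

omit h in
theorem Rho.rZ {z : G} (hz : z ∈ V ⊓ W) : ρ * z * ρ⁻¹ ∈ V ⊓ W := ⟨r.rV z hz.1, r.rW z hz.2⟩

omit h in
theorem Rho.rZ' {z : G} (hz : ρ * z * ρ⁻¹ ∈ V ⊓ W) : z ∈ V ⊓ W := by
  have h1 := r.rZ (r.rZ hz)
  rwa [r.three] at h1

theorem Rho.norm [Finite G] {x : G} (hx : x ∈ T) :
    x * (ρ * x * ρ⁻¹) * (ρ * (ρ * x * ρ⁻¹) * ρ⁻¹) = 1 :=
  norm_eq r.r3 (fun _ hy => r.rT h hy) r.fix hx

/-- `v (ρ v ρ⁻¹) = ρ² v ρ⁻²` for involutions `v` -/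
theorem Rho.norm' [Finite G] {x : G} (hx : x ∈ T) (hxx : x * x = 1) :
    x * (ρ * x * ρ⁻¹) = ρ * (ρ * x * ρ⁻¹) * ρ⁻¹ := by
  have h1 := r.norm h hx
  have h2 : (ρ * (ρ * x * ρ⁻¹) * ρ⁻¹) * (ρ * (ρ * x * ρ⁻¹) * ρ⁻¹) = 1 := by
    have : (ρ * (ρ * x * ρ⁻¹) * ρ⁻¹) * (ρ * (ρ * x * ρ⁻¹) * ρ⁻¹) = ρ * ρ * (x * x) * (ρ * ρ)⁻¹ := by
      group
    rw [this, hxx, mul_one, mul_inv_cancel]
  exact (eq_inv_of_mul_eq_one_left h1).trans (inv_eq_of_mul_eq_one_left h2)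

omit h r in
/-- coordinates on a four-group -/
theorem co_add_gen {v : G} (hvv : v * v = 1) (n1 : v * (ρ * v * ρ⁻¹) = ρ * (ρ * v * ρ⁻¹) * ρ⁻¹)
    (a b : F4) : co ρ v a * co ρ v b = co ρ v (a + b) := by
  obtain ⟨p, hp⟩ : ∃ p, p = ρ * v * ρ⁻¹ := ⟨_, rfl⟩
  have s1 : p * p = 1 := by
    rw [hp]
    have : ρ * v * ρ⁻¹ * (ρ * v * ρ⁻¹) = ρ * (v * v) * ρ⁻¹ := by group
    rw [this, hvv, mul_one, mul_inv_cancel]
  rw [← hp] at n1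
  have s2 : (v * p) * (v * p) = 1 := by
    rw [n1]
    have : ρ * p * ρ⁻¹ * (ρ * p * ρ⁻¹) = ρ * (p * p) * ρ⁻¹ := by group
    rw [this, s1, mul_one, mul_inv_cancel]
  have c1 : v * p = p * v := by
    have h2 : v * p = (v * p)⁻¹ := (inv_eq_of_mul_eq_one_left s2).symm
    rwa [mul_inv_rev, inv_eq_of_mul_eq_one_left hvv, inv_eq_of_mul_eq_one_left s1] at h2
  have e1 : ∀ x : F4, co ρ v x = match x with
      | .o => 1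
      | .e => v
      | .w => p
      | .u => v * p := by
    intro x
    cases x
    · rfl
    · rfl
    · rw [hp]; rfl
    · rw [n1, hp]; rfl
  have hu : (v * p) * v = p := by rw [c1, mul_assoc, hvv, mul_one]
  have hu' : v * (v * p) = p := by rw [← mul_assoc, hvv, one_mul]
  have hu2 : (v * p) * p = v := by rw [mul_assoc, s1, mul_one]
  have hu3 : p * (v * p) = v := by rw [c1, ← mul_assoc, s1, one_mul]
  rw [e1, e1, e1]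
  cases a <;> cases b
  · show (1 : G) * 1 = 1; rw [one_mul]
  · show (1 : G) * v = v; rw [one_mul]
  · show (1 : G) * p = p; rw [one_mul]
  · show (1 : G) * (v * p) = v * p; rw [one_mul]
  · show v * 1 = v; rw [mul_one]
  · exact hvv
  · show v * p = v * p; rfl
  · exact hu'
  · show p * 1 = p; rw [mul_one]
  · show p * v = v * p; rw [c1]
  · exact s1
  · exact hu3
  · show v * p * 1 = v * p; rw [mul_one]
  · exact hu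
  · exact hu2
  · exact s2

theorem co_add [Finite G] {v : G} (hv : v ∈ V) (a b : F4) : co ρ v a * co ρ v b = co ρ v (a + b) :=
  co_add_gen (h.sqV v hv) (r.norm' h (h.leV hv) (h.sqV v hv)) a b

omit h in
theorem co_rho (v : G) (a : F4) : ρ * co ρ v a * ρ⁻¹ = co ρ v (.w * a) := by
  cases a
  · show ρ * 1 * ρ⁻¹ = 1
    rw [mul_one, mul_inv_cancel]
  · rfl
  · rfl
  · exact r.three v

omit h in
theorem co_mem {v : G} (hv : v ∈ V) (a : F4) : co ρ v a ∈ V := by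
  cases a
  · exact one_mem _
  · exact hv
  · exact r.rV v hv
  · exact r.rV _ (r.rV v hv)

omit h in
theorem co_mem_Z {v : G} (hv : v ∈ V) (hvW : v ∉ W) {a : F4} (ha : co ρ v a ∈ W) : a = .o := by
  cases a
  · rfl
  · exact absurd ha hvW
  · exact absurd (r.rZ' (⟨r.rV v hv, ha⟩ : ρ * v * ρ⁻¹ ∈ V ⊓ W)).2 hvW
  · exact absurd (r.rZ' (r.rZ' (⟨r.rV _ (r.rV v hv), ha⟩ : ρ * (ρ * v * ρ⁻¹) * ρ⁻¹ ∈ V ⊓ W))).2 hvW

/-- coordinates in `V` -/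
theorem co_surj [Finite G] {v : G} (hv : v ∈ V) (hvW : v ∉ W) {x : G} (hx : x ∈ V) :
    ∃ a : F4, ∃ z ∈ V ⊓ W, x = co ρ v a * z := by
  let f : F4 × (V ⊓ W : Subgroup G) → V := fun p =>
    ⟨co ρ v p.1 * p.2, V.mul_mem (co_mem r hv p.1) p.2.2.1⟩
  have hf : Function.Injective f := by
    rintro ⟨a, z⟩ ⟨b, z'⟩ hab
    have h1 : co ρ v a * (z : G) = co ρ v b * z' := congrArg Subtype.val hab
    have h2 : co ρ v (a + b) ∈ W := by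
      have h3 : co ρ v a * co ρ v b = (z : G)⁻¹ * z' * (co ρ v b * co ρ v b) := by
        have h4 : co ρ v a = co ρ v b * z' * (z : G)⁻¹ := by rw [← h1]; group
        have h5 := h.commV (co_mem r hv b) z'.2.1
        have h6 := h.commV (co_mem r hv b) (V.inv_mem z.2.1)
        have h7 := h.commV z'.2.1 (V.inv_mem z.2.1)
        calc co ρ v a * co ρ v b = co ρ v b * z' * (z : G)⁻¹ * co ρ v b := by rw [h4]
          _ = z' * (co ρ v b * (z : G)⁻¹) * co ρ v b := by rw [h5]; group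
          _ = (z' * (z : G)⁻¹) * (co ρ v b * co ρ v b) := by rw [h6]; group
          _ = (z : G)⁻¹ * z' * (co ρ v b * co ρ v b) := by rw [h7]
      rw [← co_add h r hv, h3, h.sqV _ (co_mem r hv b), mul_one]
      exact W.mul_mem (W.inv_mem z.2.2) z'.2.2
    have h3 := co_mem_Z r hv hvW h2
    have h4 : a = b := by
      revert h3
      cases a <;> cases b <;> decide
    subst h4
    have h5 := mul_left_cancel h1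
    exact Prod.ext rfl (Subtype.ext h5)
  have hc : Nat.card V = Nat.card (F4 × (V ⊓ W : Subgroup G)) := by
    rw [Nat.card_prod, h.cZ, h.cV, Nat.card_eq_fintype_card]
    decide
  have hs : Function.Surjective f := (Nat.bijective_iff_injective_and_card f).mpr ⟨hf, hc.symm⟩ |>.2
  obtain ⟨⟨a, z⟩, hab⟩ := hs ⟨x, hx⟩
  exact ⟨a, z, z.2, (congrArg Subtype.val hab).symm⟩

/-- `[v, w^ρ] = [v, w]^{ρ²}` and `[v^ρ, w] = [v, w]^{ρ²}` -/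
theorem cm_rho [Finite G] {v w : G} (hv : v ∈ V) (hw : w ∈ W) :
    v * (ρ * w * ρ⁻¹) * v * (ρ * w * ρ⁻¹) = ρ * (ρ * (v * w * v * w) * ρ⁻¹) * ρ⁻¹ ∧
    (ρ * v * ρ⁻¹) * w * (ρ * v * ρ⁻¹) * w = ρ * (ρ * (v * w * v * w) * ρ⁻¹) * ρ⁻¹ := by
  have hRw := r.rW w hw
  have hRRw := r.rW _ hRw
  have hRv := r.rV v hv
  have hRRv := r.rV _ hRv
  -- norms
  have n1 : w * ((ρ * w * ρ⁻¹) * (ρ * (ρ * w * ρ⁻¹) * ρ⁻¹)) = 1 := by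
    rw [← mul_assoc]; exact r.norm h (h.leW hw)
  have n2 : v * ((ρ * v * ρ⁻¹) * (ρ * (ρ * v * ρ⁻¹) * ρ⁻¹)) = 1 := by
    rw [← mul_assoc]; exact r.norm h (h.leV hv)
  have one_left : ∀ x : G, x ∈ W → (1 : G) * x * 1 * x = 1 := fun x hx => by
    rw [one_mul, mul_one, h.sqW x hx]
  have one_right : ∀ x : G, x ∈ V → x * (1 : G) * x * 1 = 1 := fun x hx => by
    rw [mul_one, mul_one, h.sqV x hx]
  -- x, y, z
  have E1 : (v * w * v * w) * ((v * (ρ * w * ρ⁻¹) * v * (ρ * w * ρ⁻¹)) *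
      (v * (ρ * (ρ * w * ρ⁻¹) * ρ⁻¹) * v * (ρ * (ρ * w * ρ⁻¹) * ρ⁻¹))) = 1 := by
    rw [← h.cm_mul_right hv hRw hRRw, ← h.cm_mul_right hv hw (W.mul_mem hRw hRRw), n1]
    exact one_right v hv
  have E2 : (v * w * v * w) * (((ρ * v * ρ⁻¹) * w * (ρ * v * ρ⁻¹) * w) *
      ((ρ * (ρ * v * ρ⁻¹) * ρ⁻¹) * w * (ρ * (ρ * v * ρ⁻¹) * ρ⁻¹) * w)) = 1 := by
    rw [← h.cm_mul_left hRv hRRv hw, ← h.cm_mul_left hv (V.mul_mem hRv hRRv) hw, n2]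
    exact one_left w hw
  -- name the three commutators
  obtain ⟨x, hx⟩ : ∃ x, x = v * w * v * w := ⟨_, rfl⟩
  obtain ⟨y, hy⟩ : ∃ y, y = v * (ρ * w * ρ⁻¹) * v * (ρ * w * ρ⁻¹) := ⟨_, rfl⟩
  obtain ⟨z, hz⟩ : ∃ z, z = v * (ρ * (ρ * w * ρ⁻¹) * ρ⁻¹) * v * (ρ * (ρ * w * ρ⁻¹) * ρ⁻¹) := ⟨_, rfl⟩
  have zx : x ∈ V ⊓ W := hx ▸ h.com v hv w hw
  have zy : y ∈ V ⊓ W := hy ▸ h.com v hv _ hRw
  have zz : z ∈ V ⊓ W := hz ▸ h.com v hv _ hRRw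
  have R1 : (ρ * v * ρ⁻¹) * w * (ρ * v * ρ⁻¹) * w = ρ * z * ρ⁻¹ := by
    have h1 : ρ * z * ρ⁻¹ = (ρ * v * ρ⁻¹) * (ρ * (ρ * (ρ * w * ρ⁻¹) * ρ⁻¹) * ρ⁻¹) * (ρ * v * ρ⁻¹) *
      (ρ * (ρ * (ρ * w * ρ⁻¹) * ρ⁻¹) * ρ⁻¹) := by rw [hz]; group
    rw [h1, r.three]
  have R2 : (ρ * (ρ * v * ρ⁻¹) * ρ⁻¹) * w * (ρ * (ρ * v * ρ⁻¹) * ρ⁻¹) * w = ρ * (ρ * y * ρ⁻¹) * ρ⁻¹ := by
    have h1 : ρ * (ρ * y * ρ⁻¹) * ρ⁻¹ = (ρ * (ρ * v * ρ⁻¹) * ρ⁻¹) * (ρ * (ρ * (ρ * w * ρ⁻¹) * ρ⁻¹) * ρ⁻¹) *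
      (ρ * (ρ * v * ρ⁻¹) * ρ⁻¹) * (ρ * (ρ * (ρ * w * ρ⁻¹) * ρ⁻¹) * ρ⁻¹) := by rw [hy]; group
    rw [h1, r.three]
  rw [R1, R2] at E2
  rw [← hx, ← hy, ← hz] at E1
  rw [← hx] at E2 ⊢
  rw [R1, ← hy]
  -- squares and commutation in `Z`
  have sq : ∀ a ∈ V ⊓ W, a * a = 1 := fun a ha => h.sqV a ha.1
  have cm : ∀ a ∈ V ⊓ W, ∀ b ∈ V ⊓ W, a * b = b * a := fun a ha b hb => h.commV ha.1 hb.1
  have nx := r.norm' h (h.leV zx.1) (sq x zx)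
  have ny := r.norm' h (h.leV zy.1) (sq y zy)
  have zRx := r.rZ zx
  have zRy := r.rZ zy
  have zRRx := r.rZ zRx
  have zRRy := r.rZ zRy
  -- z = x y
  have hzxy : z = x * y := by
    have h1 : y * z = x := by
      have := eq_inv_of_mul_eq_one_right E1
      rwa [h.invV zx.1] at this
    calc z = y * (y * z) := by rw [← mul_assoc, sq y zy, one_mul]
      _ = x * y := by rw [h1, cm y zy x zx]
  have hRz : ρ * z * ρ⁻¹ = (ρ * x * ρ⁻¹) * (ρ * y * ρ⁻¹) := by rw [hzxy]; group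
  rw [hRz] at E2
  -- x (Rx Ry) RRy = 1
  have E3 : (ρ * (ρ * x * ρ⁻¹) * ρ⁻¹) * y = 1 := by
    have ny2 : (ρ * y * ρ⁻¹) * (ρ * (ρ * y * ρ⁻¹) * ρ⁻¹) = y := by
      rw [← ny, ← mul_assoc, cm _ zRy _ zy, mul_assoc, sq _ zRy, mul_one]
    calc (ρ * (ρ * x * ρ⁻¹) * ρ⁻¹) * y = x * (ρ * x * ρ⁻¹) * ((ρ * y * ρ⁻¹) * (ρ * (ρ * y * ρ⁻¹) * ρ⁻¹)) := by
          rw [ny2, nx]
      _ = x * ((ρ * x * ρ⁻¹) * (ρ * y * ρ⁻¹) * (ρ * (ρ * y * ρ⁻¹) * ρ⁻¹)) := by group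
      _ = 1 := E2
  have hyx : y = ρ * (ρ * x * ρ⁻¹) * ρ⁻¹ := by
    have := eq_inv_of_mul_eq_one_right E3
    rwa [h.invV zRRx.1] at this
  refine ⟨hyx, ?_⟩
  rw [hRz, hyx, r.three, cm _ zRx x zx, nx]

end coord

end Cfsg.Agent.GH.C2GrowJ2
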