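import Cfsg.Agent.GH.C2GrowJ2E

/-!
# GH-C2, growth of `T` of order 64 (type `UT₃(4)`), part F: `t` can be chosen to centralize or invert `ρ`
-/

set_option autoImplicit false

namespace Cfsg.Agent.GH.C2GrowJ2

open Subgroup
open Cfsg.Agent.GH.C2GrowG (exists_mem_normalizer mem_normalizer_of conj_mem)
open Cfsg.Agent.J2Sylow.Model (F4)

variable {G : Type*} [Group G]

section uniq

variable {V W T : Subgroup G} (h : UT V W T) {ρ σ : G} (r : Rho V W T ρ) (s : Rho V W T σ)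

include h r s

/-- `σ` acts on `V / (V ∩ W)` as `ρ` if it does so on one element outside of `V ∩ W` -/
theorem triv_of [Finite G] {v z : G} (hv : v ∈ V) (hvW : v ∉ W) (hz : z ∈ V ⊓ W)
    (e : σ * v * σ⁻¹ = ρ * v * ρ⁻¹ * z) {x : G} (hx : x ∈ V) :
    ∃ z' ∈ V ⊓ W, σ * x * σ⁻¹ = ρ * x * ρ⁻¹ * z' := by
  have q_mul : ∀ x ∈ V, ∀ y ∈ V, (∃ z' ∈ V ⊓ W, σ * x * σ⁻¹ = ρ * x * ρ⁻¹ * z') →
      (∃ z' ∈ V ⊓ W, σ * y * σ⁻¹ = ρ * y * ρ⁻¹ * z') →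
      (∃ z' ∈ V ⊓ W, σ * (x * y) * σ⁻¹ = ρ * (x * y) * ρ⁻¹ * z') := by
    rintro x hx y hy ⟨z1, hz1, e1⟩ ⟨z2, hz2, e2⟩
    refine ⟨z1 * z2, mul_mem hz1 hz2, ?_⟩
    have h1 := h.central hz1 (h.leV (r.rV y hy))
    calc σ * (x * y) * σ⁻¹ = (σ * x * σ⁻¹) * (σ * y * σ⁻¹) := by group
      _ = (ρ * x * ρ⁻¹) * (z1 * (ρ * y * ρ⁻¹)) * z2 := by rw [e1, e2]; group
      _ = ρ * (x * y) * ρ⁻¹ * (z1 * z2) := by rw [h1]; group
  have q_z : ∀ y ∈ V ⊓ W, ∃ z' ∈ V ⊓ W, σ * y * σ⁻¹ = ρ * y * ρ⁻¹ * z' := by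
    intro y hy
    exact ⟨(ρ * y * ρ⁻¹)⁻¹ * (σ * y * σ⁻¹), mul_mem (inv_mem (r.rZ hy)) (s.rZ hy), by group⟩
  have q_v : ∃ z' ∈ V ⊓ W, σ * v * σ⁻¹ = ρ * v * ρ⁻¹ * z' := ⟨z, hz, e⟩
  have q_w : ∃ z' ∈ V ⊓ W, σ * (ρ * v * ρ⁻¹) * σ⁻¹ = ρ * (ρ * v * ρ⁻¹) * ρ⁻¹ * z' := by
    refine ⟨z * (σ * z * σ⁻¹)⁻¹, mul_mem hz (inv_mem (s.rZ hz)), ?_⟩
    have n1 := s.norm' h (h.leV hv) (h.sqV v hv)
    have n2 := r.norm' h (h.leV hv) (h.sqV v hv)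
    rw [e] at n1
    calc σ * (ρ * v * ρ⁻¹) * σ⁻¹ = σ * (ρ * v * ρ⁻¹ * z) * σ⁻¹ * (σ * z * σ⁻¹)⁻¹ := by group
      _ = v * (ρ * v * ρ⁻¹ * z) * (σ * z * σ⁻¹)⁻¹ := by rw [n1]
      _ = v * (ρ * v * ρ⁻¹) * (z * (σ * z * σ⁻¹)⁻¹) := by group
      _ = ρ * (ρ * v * ρ⁻¹) * ρ⁻¹ * (z * (σ * z * σ⁻¹)⁻¹) := by rw [n2]
  obtain ⟨a, z', hz', rfl⟩ := co_surj h r hv hvW hx
  refine q_mul _ (co_mem r hv a) _ hz'.1 ?_ (q_z z' hz')
  cases a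
  · exact ⟨1, one_mem _, by show σ * 1 * σ⁻¹ = ρ * 1 * ρ⁻¹ * 1; group⟩
  · exact q_v
  · exact q_w
  · show ∃ z' ∈ V ⊓ W, σ * (ρ * (ρ * v * ρ⁻¹) * ρ⁻¹) * σ⁻¹ =
      ρ * (ρ * (ρ * v * ρ⁻¹) * ρ⁻¹) * ρ⁻¹ * z'
    have n2 := r.norm' h (h.leV hv) (h.sqV v hv)
    rw [← n2]
    exact q_mul _ hv _ (r.rV v hv) q_v q_w

/-- `σ` acts on `V / (V ∩ W)` as `ρ` or as `ρ⁻¹` -/
theorem dich [Finite G] : (∀ x ∈ V, ∃ z ∈ V ⊓ W, σ * x * σ⁻¹ = ρ * x * ρ⁻¹ * z) ∨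
    (∀ x ∈ V, ∃ z ∈ V ⊓ W, σ * x * σ⁻¹ = ρ⁻¹ * x * ρ⁻¹⁻¹ * z) := by
  obtain ⟨v, hv, -, -, hvW, -⟩ := h.exists_pair
  obtain ⟨a, z, hz, e⟩ := co_surj h r hv hvW (s.rV v hv)
  cases a
  · exfalso
    apply hvW
    have e1 : σ * v * σ⁻¹ = 1 * z := e
    rw [one_mul] at e1
    exact (s.rZ' (e1 ▸ hz)).2
  · exfalso
    apply hvW
    have e1 : σ * v * σ⁻¹ = v * z := e
    have n1 := s.norm' h (h.leV hv) (h.sqV v hv)
    rw [e1] at n1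
    have h2 : σ * (v * z) * σ⁻¹ = v * z * (σ * z * σ⁻¹) := by
      calc σ * (v * z) * σ⁻¹ = (σ * v * σ⁻¹) * (σ * z * σ⁻¹) := by group
        _ = v * z * (σ * z * σ⁻¹) := by rw [e1]
    rw [h2, mul_assoc v z] at n1
    have h3 := mul_left_cancel n1
    have h4 : v = z * (σ * z * σ⁻¹) * z⁻¹ := by rw [← h3, mul_inv_cancel_right]
    rw [h4]
    exact W.mul_mem (W.mul_mem hz.2 (s.rZ hz).2) (W.inv_mem hz.2)
  · left
    exact fun x hx => triv_of h r s hv hvW hz e hx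
  · right
    intro x hx
    refine triv_of h r.inv s hv hvW hz ?_ hx
    rw [r.rinv]
    exact e

/-- uniqueness of the fixed point free group of order 3 -/
theorem uniq [Finite G] (hself : ∀ g : G, (∀ v ∈ V, g * v = v * g) → g ∈ V)
    (hmax : ∀ y : G, (∀ v ∈ V, y * v * y⁻¹ ∈ V) → (∀ x ∈ T, y * x * y⁻¹ ∈ T) →
      (∃ n : ℕ, y ^ 2 ^ n = 1) → y ∈ T) :
    σ * ρ⁻¹ ∈ T ∨ σ * ρ⁻¹⁻¹ ∈ T := by
  obtain ⟨v0, hv0, -, -, hv0W, -⟩ := h.exists_pair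
  obtain ⟨w0, hw0, -, -, hw0V, -⟩ := h.symm.exists_pair
  -- the case of the same sign
  have same : ∀ {τ : G}, Rho V W T τ → (∀ x ∈ V, ∃ z ∈ V ⊓ W, σ * x * σ⁻¹ = τ * x * τ⁻¹ * z) →
      (∀ x ∈ W, ∃ z ∈ V ⊓ W, σ * x * σ⁻¹ = τ * x * τ⁻¹ * z) → σ * τ⁻¹ ∈ T := by
    intro τ q h1 h2
    have gV : ∀ x ∈ V, ∃ z ∈ V ⊓ W, (τ⁻¹ * σ) * x * (τ⁻¹ * σ)⁻¹ = x * z := by
      intro x hx
      obtain ⟨z, hz, e⟩ := h1 x hx
      refine ⟨τ⁻¹ * z * τ⁻¹⁻¹, q.inv.rZ hz, ?_⟩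
      calc (τ⁻¹ * σ) * x * (τ⁻¹ * σ)⁻¹ = τ⁻¹ * (σ * x * σ⁻¹) * τ := by group
        _ = x * (τ⁻¹ * z * τ⁻¹⁻¹) := by rw [e]; group
    have gW : ∀ x ∈ W, ∃ z ∈ V ⊓ W, (τ⁻¹ * σ) * x * (τ⁻¹ * σ)⁻¹ = x * z := by
      intro x hx
      obtain ⟨z, hz, e⟩ := h2 x hx
      refine ⟨τ⁻¹ * z * τ⁻¹⁻¹, q.inv.rZ hz, ?_⟩
      calc (τ⁻¹ * σ) * x * (τ⁻¹ * σ)⁻¹ = τ⁻¹ * (σ * x * σ⁻¹) * τ := by group
        _ = x * (τ⁻¹ * z * τ⁻¹⁻¹) := by rw [e]; group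
    obtain ⟨g, hg⟩ : ∃ g, g = τ⁻¹ * σ := ⟨_, rfl⟩
    rw [← hg] at gV gW
    have gZ : ∀ z ∈ V ⊓ W, g * z * g⁻¹ = z := by
      intro z hz
      obtain ⟨v, hv, hvz⟩ := h.exists_comm hw0 hw0V hz
      obtain ⟨z1, hz1, e1⟩ := gV v hv
      obtain ⟨z2, hz2, e2⟩ := gW w0 hw0
      rw [← hvz]
      have c1 := h.central hz1 (h.leW hw0)
      have c2 := h.central hz1 (h.leV hv)
      have c3 := h.central hz2 (h.leV hv)
      have c4 := h.central hz2 (h.leW hw0)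
      have c5 := h.central hz1 (h.leV hz2.1)
      have s1 := h.sqV z1 hz1.1
      have s2 := h.sqV z2 hz2.1
      have h3 : g * (v * w0 * v * w0) * g⁻¹ =
        (g * v * g⁻¹) * (g * w0 * g⁻¹) * (g * v * g⁻¹) * (g * w0 * g⁻¹) := by group
      rw [h3, e1, e2]
      have m1 : (v * z1) * (w0 * z2) = (v * w0) * (z1 * z2) := by
        calc (v * z1) * (w0 * z2) = v * (z1 * w0) * z2 := by group
          _ = (v * w0) * (z1 * z2) := by rw [c1]; group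
      have m2 : (z1 * z2) * (v * w0) = (v * w0) * (z1 * z2) := by
        rw [h.central (mul_mem hz1 hz2) (T.mul_mem (h.leV hv) (h.leW hw0))]
      calc (v * z1) * (w0 * z2) * (v * z1) * (w0 * z2)
          = ((v * z1) * (w0 * z2)) * ((v * z1) * (w0 * z2)) := by group
        _ = (v * w0) * ((z1 * z2) * (v * w0)) * (z1 * z2) := by rw [m1]; group
        _ = (v * w0) * (v * w0) * ((z1 * z2) * (z1 * z2)) := by rw [m2]; group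
        _ = v * w0 * v * w0 := by
          rw [h.sqV _ (V.mul_mem hz1.1 hz2.1), mul_one]; group
    have g2 : g * g ∈ V := by
      apply hself
      intro v hv
      obtain ⟨z, hz, e⟩ := gV v hv
      have h3 : (g * g) * v * (g * g)⁻¹ = v := by
        calc (g * g) * v * (g * g)⁻¹ = g * (g * v * g⁻¹) * g⁻¹ := by group
          _ = g * (v * z) * g⁻¹ := by rw [e]
          _ = (g * v * g⁻¹) * (g * z * g⁻¹) := by group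
          _ = v := by rw [e, gZ z hz, mul_assoc, h.sqV z hz.1, mul_one]
      exact mul_inv_eq_iff_eq_mul.mp h3
    have gT : g ∈ T := by
      have gVV : ∀ v ∈ V, g * v * g⁻¹ ∈ V := fun v hv => by
        obtain ⟨z, hz, e⟩ := gV v hv
        rw [e]; exact V.mul_mem hv hz.1
      have gWW : ∀ v ∈ W, g * v * g⁻¹ ∈ W := fun v hv => by
        obtain ⟨z, hz, e⟩ := gW v hv
        rw [e]; exact W.mul_mem hv hz.2
      refine hmax g gVV (fun x hx => ?_) ⟨2, ?_⟩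
      · obtain ⟨v, hv, w, hw, rfl⟩ := h.exT x hx
        have h3 : g * (v * w) * g⁻¹ = (g * v * g⁻¹) * (g * w * g⁻¹) := by group
        rw [h3]
        exact T.mul_mem (h.leV (gVV v hv)) (h.leW (gWW w hw))
      · have h3 : g ^ 2 ^ 2 = (g * g) * (g * g) := by
          rw [show (2 : ℕ) ^ 2 = 2 + 2 from rfl, pow_add, pow_two]
        rw [h3]
        exact h.sqV _ g2
    have h3 : σ * τ⁻¹ = τ * g * τ⁻¹ := by rw [hg]; group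
    rw [h3]
    exact q.rT h gT
  -- the mixed case
  have mixed : ∀ {τ : G}, Rho V W T τ → (∀ x ∈ V, ∃ z ∈ V ⊓ W, σ * x * σ⁻¹ = τ * x * τ⁻¹ * z) →
      (∀ x ∈ W, ∃ z ∈ V ⊓ W, σ * x * σ⁻¹ = τ⁻¹ * x * τ⁻¹⁻¹ * z) → False := by
    intro τ q h1 h2
    obtain ⟨z1, hz1, e1⟩ := h1 v0 hv0
    obtain ⟨z2, hz2, e2⟩ := h2 w0 hw0
    have hV := q.rV v0 hv0
    have hW := q.inv.rW w0 hw0
    have c1 := h.central hz1 (h.leW hW)
    have h3 : σ * (v0 * w0 * v0 * w0) * σ⁻¹ = v0 * w0 * v0 * w0 := by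
      have h4 : σ * (v0 * w0 * v0 * w0) * σ⁻¹ =
        (σ * v0 * σ⁻¹) * (σ * w0 * σ⁻¹) * (σ * v0 * σ⁻¹) * (σ * w0 * σ⁻¹) := by group
      rw [h4, e1, e2]
      have hc := (cm_rho h q hv0 hW).2
      have hc' := (cm_rho h q hv0 hW).1
      have h5 : τ * (τ⁻¹ * w0 * τ⁻¹⁻¹) * τ⁻¹ = w0 := by group
      rw [h5] at hc'
      rw [← hc'] at hc
      rw [← hc]
      obtain ⟨a, ha⟩ : ∃ a, a = τ * v0 * τ⁻¹ := ⟨_, rfl⟩
      obtain ⟨b, hb⟩ : ∃ b, b = τ⁻¹ * w0 * τ⁻¹⁻¹ := ⟨_, rfl⟩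
      rw [← ha] at hV ⊢
      rw [← hb] at hW c1 ⊢
      have m1 : (a * z1) * (b * z2) = (a * b) * (z1 * z2) := by
        calc (a * z1) * (b * z2) = a * (z1 * b) * z2 := by group
          _ = (a * b) * (z1 * z2) := by rw [c1]; group
      have m2 : (z1 * z2) * (a * b) = (a * b) * (z1 * z2) := by
        rw [h.central (mul_mem hz1 hz2) (T.mul_mem (h.leV hV) (h.leW hW))]
      calc (a * z1) * (b * z2) * (a * z1) * (b * z2)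
          = ((a * z1) * (b * z2)) * ((a * z1) * (b * z2)) := by group
        _ = (a * b) * ((z1 * z2) * (a * b)) * (z1 * z2) := by rw [m1]; group
        _ = (a * b) * (a * b) * ((z1 * z2) * (z1 * z2)) := by rw [m2]; group
        _ = a * b * a * b := by
          rw [h.sqV _ (V.mul_mem hz1.1 hz2.1), mul_one]; group
    have h6 := s.fix _ (h.leV (h.com v0 hv0 w0 hw0).1) (mul_inv_eq_iff_eq_mul.mp h3)
    have h7 : v0 * w0 = w0 * v0 := by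
      have h8 : (v0 * w0) * (v0 * w0) = 1 := by rw [← mul_assoc]; exact h6
      have h9 : v0 * w0 = (v0 * w0)⁻¹ := (inv_eq_of_mul_eq_one_left h8).symm
      rwa [mul_inv_rev, h.invV hv0, h.invW hw0] at h9
    rcases h.ne v0 hv0 w0 hw0 h7 with h8 | h8
    · exact hv0W h8
    · exact hw0V h8
  have dW := dich h.symm r.symm s.symm
  rw [inf_comm] at dW
  rcases dich h r s with h1 | h1
  · rcases dW with h2 | h2
    · exact Or.inl (same r h1 h2)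
    · exact (mixed r h1 h2).elim
  · rcases dW with h2 | h2
    · refine (mixed r.inv h1 ?_).elim
      rw [inv_inv]
      exact h2
    · exact Or.inr (same r.inv h1 h2)

end uniq

end Cfsg.Agent.GH.C2GrowJ2
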