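import Cfsg.Agent.SectRankFour.C2.ActFour
import Cfsg.Agent.Transfer.ElemAbAut
import Cfsg.Agent.Lib.ElemAbGL
import Cfsg.Agent.Lib.BenderMaximal
import Cfsg.Agent.S0044

/-!
# GH-C2, growth, `M / O₂(M) = L₃(2)`: a solvable group acting on `2⁴` with nonabelian Sylow 2-subgroups

`exists_nine`: `X` finite solvable, `N = 2⁴` normal, `C_X(N) ≤ N`, every normal 2-subgroup of `X` in `N`.
If some commutator of order a power of 2 does not lie in `N`, then `X` has a subgroup `A` of order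
9 and exponent 3 such that `N A` is normal in `X` and `3 ∤ |X : A|`.
-/

set_option autoImplicit false

namespace Cfsg.Agent.GH.C2GrowL3A

open Subgroup Cfsg

variable {X : Type*} [Group X]

/-- The commutators centralise every cyclic normal subgroup. -/
theorem comm_of_cyclic {B : Subgroup X} [hB : B.Normal] (hc : IsCyclic B) (a b : X) :
    a * b * a⁻¹ * b⁻¹ ∈ centralizer (B : Set X) := by
  have e := IsCyclic.mulAutMulEquiv B
  have hcomm : ∀ a b : MulAut B, a * b = b * a := fun a b => e.injective (by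
    rw [map_mul, map_mul, mul_comm])
  have h1 : (MulAut.conjNormal (a * b * a⁻¹ * b⁻¹) : MulAut B) = 1 := by
    rw [map_mul, map_mul, map_mul, map_inv, map_inv, hcomm (MulAut.conjNormal a) (MulAut.conjNormal b)]
    group
  refine mem_centralizer_iff.mpr fun v hv => ?_
  have h2 := congrArg (fun φ : MulAut B => ((φ ⟨v, hv⟩ : B) : X)) h1
  simp only [MulAut.conjNormal_apply, MulAut.one_apply] at h2
  calc v * (a * b * a⁻¹ * b⁻¹) = (a * b * a⁻¹ * b⁻¹ * v * (a * b * a⁻¹ * b⁻¹)⁻¹) * (a * b * a⁻¹ * b⁻¹) := by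
        rw [h2]
    _ = a * b * a⁻¹ * b⁻¹ * v := by group

theorem prod_four : (∏ i : Fin 4, (2 ^ 4 - 2 ^ (i : ℕ))) = 20160 := by decide

/-- `O₃` is not cyclic. -/
theorem pCore_three [Finite X] [Group.IsSolvable X] (h2 : pCore 2 X = ⊥) (hd : Nat.card X ∣ 20160)
    {a b : X} (hne : a * b * a⁻¹ * b⁻¹ ≠ 1) {n : ℕ} (hn : (a * b * a⁻¹ * b⁻¹) ^ 2 ^ n = 1) :
    ¬ IsCyclic (pCore 3 X) := by
  intro h3
  have hcyc : ∀ p : Nat.Primes, IsCyclic (pCore (p : ℕ) X) := by
    rintro ⟨p, hp⟩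
    have hpf : Fact p.Prime := ⟨hp⟩
    show IsCyclic (pCore p X)
    by_cases hp2 : p = 2
    · subst hp2
      rw [h2]
      infer_instance
    by_cases hp3 : p = 3
    · subst hp3
      exact h3
    obtain ⟨k, hk⟩ := IsPGroup.iff_card.mp (Lib.Cores.pCore_isPGroup (G := X) p)
    have h4 : p ^ k ∣ 2 ^ 6 * (3 ^ 2 * 35) := by
      have h5 := (card_subgroup_dvd_card (pCore p X)).trans hd
      rw [hk] at h5
      exact h5
    have hc2 : Nat.Coprime (p ^ k) (2 ^ 6) :=
      Nat.Coprime.pow _ _ ((Nat.coprime_primes hp Nat.prime_two).2 hp2)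
    have hc3 : Nat.Coprime (p ^ k) (3 ^ 2) :=
      Nat.Coprime.pow _ _ ((Nat.coprime_primes hp Nat.prime_three).2 hp3)
    have h5 : p ^ k ∣ 35 := hc3.dvd_of_dvd_mul_left (hc2.dvd_of_dvd_mul_left h4)
    have h6 : k ≤ 1 := by
      by_contra hk2
      have h7 : p * p ∣ 35 := by
        rw [← pow_two]
        exact (pow_dvd_pow p (by omega)).trans h5
      have h8 : Squarefree 35 := by
        rw [Nat.squarefree_iff_prime_squarefree]
        intro q hq hqq
        have h9 : q ∣ 35 := (dvd_mul_right q q).trans hqq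
        have h10 : q ≤ 35 := Nat.le_of_dvd (by norm_num) h9
        have h11 : q < 6 := by
          have := Nat.le_of_dvd (by norm_num) hqq
          nlinarith
        have h12 := hq.two_le
        interval_cases q <;> revert hqq <;> decide
      have h9 := h8 p h7
      exact hp.one_lt.ne' (Nat.isUnit_iff.1 h9)
    interval_cases k
    · rw [pow_zero, card_eq_one] at hk
      rw [hk]
      infer_instance
    · rw [pow_one] at hk
      exact isCyclic_of_prime_card hk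
  set c := a * b * a⁻¹ * b⁻¹ with hc
  have hcF : c ∈ centralizer (fittingSubgroup X : Set X) := by
    have h4 : fittingSubgroup X ≤ centralizer ({c} : Set X) := by
      rw [Lib.Cores.fittingSubgroup_eq_iSup_pCore]
      refine iSup_le fun p => ?_
      have hN := Lib.Cores.pCore_normal (G := X) (p : ℕ)
      intro x hx
      have h5 := mem_centralizer_iff.1 (comm_of_cyclic (hcyc p) a b) x hx
      rw [mem_centralizer_singleton_iff]
      exact h5
    rw [mem_centralizer_iff]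
    intro x hx
    exact mem_centralizer_singleton_iff.1 (h4 hx)
  have hcF2 := Cfsg.Agent.S0044.result (G := X) hcF
  have h2f : Fact (Nat.Prime 2) := ⟨Nat.prime_two⟩
  have h4 : zpowers c ≤ pCore 2 X := by
    refine Lib.BenderMaximal.le_pCore_of_le_fittingSubgroup ?_ (by rw [zpowers_le]; exact hcF2)
    rw [IsPGroup.iff_card]
    have h5 : orderOf c ∣ 2 ^ n := orderOf_dvd_of_pow_eq_one hn
    obtain ⟨m, -, hm⟩ := (Nat.dvd_prime_pow Nat.prime_two).1 h5
    exact ⟨m, by rw [Nat.card_zpowers, hm]⟩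
  rw [h2, le_bot_iff, zpowers_eq_bot] at h4
  exact hne h4

/-- `O₃` has order 9 and exponent 3. -/
theorem pCore_three' [Finite X] [Group.IsSolvable X] (h2 : pCore 2 X = ⊥) (hd : Nat.card X ∣ 20160)
    {a b : X} (hne : a * b * a⁻¹ * b⁻¹ ≠ 1) {n : ℕ} (hn : (a * b * a⁻¹ * b⁻¹) ^ 2 ^ n = 1) :
    Nat.card (pCore 3 X) = 9 ∧ (∀ x ∈ pCore 3 X, x ^ 3 = 1) ∧
      ∀ x ∈ pCore 3 X, ∀ y ∈ pCore 3 X, x * y = y * x := by
  have hnc := pCore_three h2 hd hne hn
  have h3f : Fact (Nat.Prime 3) := ⟨Nat.prime_three⟩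
  obtain ⟨k, hk⟩ := IsPGroup.iff_card.mp (Lib.Cores.pCore_isPGroup (G := X) 3)
  have hk2 : k ≤ 2 := by
    by_contra hk3
    have h4 : 3 ^ 3 ∣ 20160 :=
      (pow_dvd_pow 3 (by omega : 3 ≤ k)).trans (hk ▸ (card_subgroup_dvd_card (pCore 3 X)).trans hd)
    norm_num at h4
  have hk3 : k = 2 := by
    by_contra hk4
    apply hnc
    interval_cases k
    · rw [pow_zero, card_eq_one] at hk
      rw [hk]
      infer_instance
    · rw [pow_one] at hk
      exact isCyclic_of_prime_card hk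
    · exact absurd rfl hk4
  subst hk3
  refine ⟨by rw [hk]; norm_num, fun x hx => ?_, fun x hx y hy => ?_⟩
  · have h5 : orderOf (⟨x, hx⟩ : pCore 3 X) ∣ 3 ^ 2 := hk ▸ orderOf_dvd_natCard _
    obtain ⟨m, hm, hm'⟩ := (Nat.dvd_prime_pow Nat.prime_three).1 h5
    have hm2 : m ≠ 2 := by
      rintro rfl
      exact hnc (isCyclic_of_orderOf_eq_card _ (by rw [hm', hk]))
    have h6 : orderOf (⟨x, hx⟩ : pCore 3 X) ∣ 3 := by
      rw [hm']
      exact (pow_dvd_pow 3 (by omega : m ≤ 1)).trans (by norm_num)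
    have h7 := orderOf_dvd_iff_pow_eq_one.1 h6
    exact congrArg Subtype.val h7
  · have h5 := IsPGroup.isMulCommutative_of_card_eq_prime_sq (p := 3) (G := pCore 3 X) hk
    exact congrArg Subtype.val (h5.is_comm.comm ⟨x, hx⟩ ⟨y, hy⟩)

/-- The subgroup of order 9. -/
theorem exists_nine [Finite X] [Group.IsSolvable X] {N : Subgroup X} [hNn : N.Normal]
    (hN16 : Nat.card N = 16) (hNsq : ∀ v ∈ N, v * v = 1) (hcent : centralizer (N : Set X) ≤ N)
    (hO2 : ∀ R : Subgroup X, R.Normal → IsPGroup 2 R → R ≤ N)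
    {a b : X} (hne : a * b * a⁻¹ * b⁻¹ ∉ N) {n : ℕ} (hn : (a * b * a⁻¹ * b⁻¹) ^ 2 ^ n = 1) :
    ∃ A : Subgroup X, Nat.card A = 9 ∧ (∀ x ∈ A, x ^ 3 = 1) ∧ (∀ x ∈ A, ∀ y ∈ A, x * y = y * x) ∧
      (N ⊔ A).Normal ∧ ¬ 3 ∣ A.index := by
  have h2f : Fact (Nat.Prime 2) := ⟨Nat.prime_two⟩
  have h3f : Fact (Nat.Prime 3) := ⟨Nat.prime_three⟩
  have hNc : ∀ x ∈ N, ∀ y ∈ N, x * y = y * x := by
    intro a ha b hb
    have h1 := hNsq _ (N.mul_mem ha hb)
    have e1 : a⁻¹ = a := inv_eq_of_mul_eq_one_left (hNsq a ha)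
    have e2 : b⁻¹ = b := inv_eq_of_mul_eq_one_left (hNsq b hb)
    have e3 : (a * b)⁻¹ = a * b := inv_eq_of_mul_eq_one_left h1
    rw [mul_inv_rev, e1, e2] at e3
    exact e3.symm
  -- the order of the quotient
  obtain ⟨f, hf, -⟩ := Lib.ElemAbGL.exists_injective_hom_mulAut N hNc hcent
  have haut := Transfer.ElemAbAut.card_mulAut (T := N) 2 4
    (fun x y => Subtype.ext (hNc x x.2 y y.2)) (fun x => Subtype.ext (by
      rw [pow_two]; exact hNsq x x.2)) (by rw [hN16]; norm_num)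
  have hd : Nat.card (X ⧸ N) ∣ 20160 := by
    rw [← prod_four, ← haut]
    exact Subgroup.card_dvd_of_injective f hf
  have hN2 : IsPGroup 2 N := IsPGroup.of_card (n := 4) (by rw [hN16]; norm_num)
  have h2 : pCore 2 (X ⧸ N) = ⊥ := by
    have h3 := Lib.Cores.comap_mk_pCore 2 hN2
    have h4 : pCore 2 X ≤ N := hO2 _ (Lib.Cores.pCore_normal 2) (Lib.Cores.pCore_isPGroup 2)
    have h5 := congrArg (Subgroup.map (QuotientGroup.mk' N)) h3
    rw [map_comap_eq_self_of_surjective (QuotientGroup.mk'_surjective _)] at h5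
    rw [h5, Subgroup.map_eq_bot_iff, QuotientGroup.ker_mk']
    exact h4
  let π := QuotientGroup.mk' N
  have hπ : ∀ x : X, π x = 1 ↔ x ∈ N := fun x => QuotientGroup.eq_one_iff x
  have hsol : Group.IsSolvable (X ⧸ N) := inferInstance
  have hne' : π a * π b * (π a)⁻¹ * (π b)⁻¹ ≠ 1 := by
    rw [← map_inv, ← map_inv, ← map_mul, ← map_mul, ← map_mul, Ne, hπ]
    exact hne
  have hn' : (π a * π b * (π a)⁻¹ * (π b)⁻¹) ^ 2 ^ n = 1 := by
    rw [← map_inv, ← map_inv, ← map_mul, ← map_mul, ← map_mul, ← map_pow, hn, map_one]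
  obtain ⟨h9, hexp, hcomm⟩ := pCore_three' h2 hd hne' hn'
  -- the Sylow subgroup
  obtain ⟨A⟩ : Nonempty (Sylow 3 X) := inferInstance
  have hAN : (A : Subgroup X) ⊓ N = ⊥ := by
    have h4 : Nat.Coprime (Nat.card (A : Subgroup X)) (Nat.card N) := by
      obtain ⟨k, hk⟩ := IsPGroup.iff_card.mp A.isPGroup'
      rw [hk, hN16]
      exact Nat.Coprime.pow_left _ (by norm_num)
    exact (Subgroup.disjoint_of_coprime_natCard h4).eq_bot
  have hinj : ∀ x ∈ (A : Subgroup X), π x = 1 → x = 1 := by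
    intro x hx h
    have : x ∈ (A : Subgroup X) ⊓ N := ⟨hx, (hπ x).1 h⟩
    rw [hAN] at this
    exact this
  -- the image is a Sylow subgroup, of order 9
  have hmap : (A : Subgroup X).map π = pCore 3 (X ⧸ N) := by
    let A' : Sylow 3 (X ⧸ N) := A.mapSurjective (QuotientGroup.mk'_surjective N)
    have h4 : pCore 3 (X ⧸ N) ≤ (A : Subgroup X).map π := Lib.Cores.pCore_le_sylow A'
    obtain ⟨k, hk⟩ := IsPGroup.iff_card.mp A'.isPGroup'
    have hk2 : k ≤ 2 := by
      by_contra hk3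
      have h5 : 3 ^ 3 ∣ 20160 :=
        (pow_dvd_pow 3 (by omega : 3 ≤ k)).trans (hk ▸ (card_subgroup_dvd_card _).trans hd)
      norm_num at h5
    have h5 : Nat.card ((A : Subgroup X).map π) ≤ 9 := by
      have h6 : Nat.card ((A : Subgroup X).map π) = 3 ^ k := hk
      rw [h6]
      calc 3 ^ k ≤ 3 ^ 2 := Nat.pow_le_pow_right (by norm_num) hk2
        _ = 9 := by norm_num
    exact (Subgroup.eq_of_le_of_card_ge h4 (by rw [h9]; exact h5)).symm
  have hcardA : Nat.card (A : Subgroup X) = 9 := by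
    rw [← h9, ← hmap]
    refine Nat.card_congr (Equiv.ofBijective (fun x : (A : Subgroup X) =>
      (⟨π x, ⟨x, x.2, rfl⟩⟩ : (A : Subgroup X).map π)) ⟨?_, ?_⟩)
    · intro x y hxy
      have h4 : π (x : X) = π (y : X) := congrArg Subtype.val hxy
      have h5 := hinj ((x : X) * (y : X)⁻¹) (mul_mem x.2 (inv_mem y.2)) (by
        rw [map_mul, map_inv, h4, mul_inv_cancel])
      exact Subtype.ext (mul_inv_eq_one.1 h5)
    · rintro ⟨_, x, hx, rfl⟩
      exact ⟨⟨x, hx⟩, rfl⟩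
  refine ⟨(A : Subgroup X), hcardA, fun x hx => ?_, fun x hx y hy => ?_, ?_, A.not_dvd_index⟩
  · refine hinj _ (pow_mem hx 3) ?_
    rw [map_pow]
    exact hexp _ (hmap ▸ ⟨x, hx, rfl⟩)
  · have hx' : π x ∈ pCore 3 (X ⧸ N) := hmap ▸ ⟨x, hx, rfl⟩
    have hy' : π y ∈ pCore 3 (X ⧸ N) := hmap ▸ ⟨y, hy, rfl⟩
    have h4 := hinj (x * y * (y * x)⁻¹) (mul_mem (mul_mem hx hy) (inv_mem (mul_mem hy hx))) (by
      rw [map_mul, map_inv, map_mul, map_mul, hcomm _ hx' _ hy', mul_inv_cancel])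
    exact mul_inv_eq_one.1 h4
  · have h4 : N ⊔ (A : Subgroup X) = (pCore 3 (X ⧸ N)).comap π := by
      rw [← hmap, Subgroup.comap_map_eq, QuotientGroup.ker_mk', sup_comm]
    rw [h4]
    exact (Lib.Cores.pCore_normal 3).comap π

end Cfsg.Agent.GH.C2GrowL3A
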