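import Mathlib

/-!
# GH-C2, growth, `M/V = L₃(2)`: general lemmas
-/

set_option autoImplicit false

namespace Cfsg.Agent.GH.C2GrowL3Base

open Subgroup

variable {G : Type*} [Group G]

/-! ### counting -/

theorem card_subgroupOf {H K : Subgroup G} (h : H ≤ K) : Nat.card (H.subgroupOf K) = Nat.card H :=
  Nat.card_congr (Subgroup.subgroupOfEquivOfLe h).toEquiv

theorem card_mul_relIndex {H K : Subgroup G} (h : H ≤ K) :
    Nat.card H * H.relIndex K = Nat.card K := by
  have h1 := Subgroup.card_mul_index (H.subgroupOf K)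
  rw [card_subgroupOf h] at h1
  exact h1

/-- orbit-stabiliser for conjugation -/
theorem card_orb [Finite G] (H : Subgroup G) (y : G) :
    Nat.card H = Nat.card (H ⊓ centralizer ({y} : Set G) : Subgroup G) *
      Nat.card {w : G // ∃ g ∈ H, g * y * g⁻¹ = w} := by
  have hle : H ⊓ centralizer ({y} : Set G) ≤ H := inf_le_left
  rw [← card_mul_relIndex hle]
  congr 1
  show Nat.card (H ⧸ (H ⊓ centralizer ({y} : Set G)).subgroupOf H) = _
  have hrel : ∀ g h : H, (QuotientGroup.leftRel ((H ⊓ centralizer ({y} : Set G)).subgroupOf H)) g h ↔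
      (g : G) * y * (g : G)⁻¹ = h * y * (h : G)⁻¹ := by
    intro g h
    rw [QuotientGroup.leftRel_apply, mem_subgroupOf, mem_inf, mem_centralizer_singleton_iff]
    constructor
    · rintro ⟨-, h1⟩
      push_cast at h1
      have h1' : (g : G)⁻¹ * h * y = y * ((g : G)⁻¹ * h) := h1
      calc (g : G) * y * (g : G)⁻¹ = g * (y * ((g : G)⁻¹ * h)) * (h : G)⁻¹ := by group
        _ = g * ((g : G)⁻¹ * h * y) * (h : G)⁻¹ := by rw [h1']
        _ = h * y * (h : G)⁻¹ := by group
    · intro h1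
      refine ⟨(g⁻¹ * h).2, ?_⟩
      push_cast
      have h1' : (g : G)⁻¹ * h * y = y * ((g : G)⁻¹ * h) := by
        calc (g : G)⁻¹ * h * y = (g : G)⁻¹ * (h * y * (h : G)⁻¹) * h := by group
          _ = (g : G)⁻¹ * (g * y * (g : G)⁻¹) * h := by rw [h1]
          _ = y * ((g : G)⁻¹ * h) := by group
      exact h1'
  refine Nat.card_congr (Equiv.ofBijective
    (Quotient.lift (fun g : H => (⟨g * y * (g : G)⁻¹, g, g.2, rfl⟩ :
      {w : G // ∃ g ∈ H, g * y * g⁻¹ = w})) ?_) ⟨?_, ?_⟩)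
  · intro g h hgh
    exact Subtype.ext ((hrel g h).1 hgh)
  · intro a b
    induction a using Quotient.inductionOn with | _ a
    induction b using Quotient.inductionOn with | _ b
    intro h
    exact Quotient.sound ((hrel a b).2 (congrArg Subtype.val h))
  · rintro ⟨w, g, hg, hw⟩
    exact ⟨Quotient.mk _ ⟨g, hg⟩, Subtype.ext hw⟩

/-- A `p`-group acting on `A / B`. -/
theorem fix_or [Finite G] {p : ℕ} [hp : Fact p.Prime] {T A B : Subgroup G} (hT : IsPGroup p T)
    (hTA : ∀ t ∈ T, ∀ a ∈ A, t * a * t⁻¹ ∈ A) (hTB : ∀ t ∈ T, ∀ b ∈ B, t * b * t⁻¹ ∈ B) :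
    (∃ a ∈ A, a ∉ B ∧ ∀ t ∈ T, a⁻¹ * (t * a * t⁻¹) ∈ B) ∨ B.relIndex A ≡ 1 [MOD p] := by
  let X := A ⧸ B.subgroupOf A
  let c : T → A → A := fun t a => ⟨t * a * (t : G)⁻¹, hTA t t.2 a a.2⟩
  have hc : ∀ (t : T) (a b : A), (QuotientGroup.leftRel (B.subgroupOf A)) a b →
      (QuotientGroup.leftRel (B.subgroupOf A)) (c t a) (c t b) := by
    intro t a b h
    rw [QuotientGroup.leftRel_apply, mem_subgroupOf] at h ⊢
    have h1 : (((c t a)⁻¹ * c t b : A) : G) = t * ((a⁻¹ * b : A) : G) * (t : G)⁻¹ := by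
      show ((t : G) * a * (t : G)⁻¹)⁻¹ * (t * b * (t : G)⁻¹) = t * ((a : G)⁻¹ * b) * (t : G)⁻¹
      group
    rw [h1]
    exact hTB t t.2 _ h
  let act : MulAction T X :=
    { smul := fun t => Quotient.map (c t) (hc t)
      one_smul := by
        intro x
        induction x using Quotient.inductionOn with | _ a
        refine congrArg (Quotient.mk _) (Subtype.ext ?_)
        show (1 : G) * a * (1 : G)⁻¹ = a
        group
      mul_smul := by
        intro s t x
        induction x using Quotient.inductionOn with | _ a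
        refine congrArg (Quotient.mk _) (Subtype.ext ?_)
        show ((s * t : T) : G) * a * ((s * t : T) : G)⁻¹ = s * (t * a * (t : G)⁻¹) * (s : G)⁻¹
        push_cast
        group }
  have hmod := hT.card_modEq_card_fixedPoints X
  have hX : Nat.card X = B.relIndex A := rfl
  have hfix : ∀ a : A, (QuotientGroup.mk a : X) ∈ MulAction.fixedPoints T X ↔
      ∀ t ∈ T, (a : G)⁻¹ * (t * a * t⁻¹) ∈ B := by
    intro a
    constructor
    · intro h t ht
      have h1 : (QuotientGroup.mk (c ⟨t, ht⟩ a) : X) = QuotientGroup.mk a := h ⟨t, ht⟩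
      have h2 := QuotientGroup.eq.1 h1.symm
      rw [mem_subgroupOf] at h2
      exact h2
    · intro h t
      show (QuotientGroup.mk (c t a) : X) = QuotientGroup.mk a
      refine (QuotientGroup.eq.2 ?_).symm
      rw [mem_subgroupOf]
      exact h t t.2
  have h1mem : (QuotientGroup.mk (1 : A) : X) ∈ MulAction.fixedPoints T X := by
    rw [hfix]
    intro t _
    have : ((1 : A) : G)⁻¹ * (t * ((1 : A) : G) * t⁻¹) = 1 := by
      push_cast; group
    rw [this]
    exact B.one_mem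
  by_cases h : ∃ a ∈ A, a ∉ B ∧ ∀ t ∈ T, a⁻¹ * (t * a * t⁻¹) ∈ B
  · exact Or.inl h
  · right
    rw [← hX]
    refine hmod.trans ?_
    have h2 : Nat.card (MulAction.fixedPoints T X) = 1 := by
      rw [Nat.card_eq_one_iff_unique]
      refine ⟨⟨?_⟩, ⟨⟨_, h1mem⟩⟩⟩
      rintro ⟨u, hu⟩ ⟨v, hv⟩
      have key : ∀ u : X, u ∈ MulAction.fixedPoints T X → u = QuotientGroup.mk (1 : A) := by
        intro u hu
        induction u using QuotientGroup.induction_on with | _ a
        by_contra hne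
        refine h ⟨a, a.2, fun haB => hne ?_, (hfix a).1 hu⟩
        refine (QuotientGroup.eq.2 ?_).symm
        rw [mem_subgroupOf]
        simpa using haB
      exact Subtype.ext ((key u hu).trans (key v hv).symm)
    rw [h2]

/-- A 2-group acting on the nontrivial 2-group `A / B` has a nontrivial fixed point. -/
theorem exists_fix [Finite G] {T A B : Subgroup G} (hT : IsPGroup 2 T) (hA : IsPGroup 2 A) (hBA : B ≤ A)
    (hne : B ≠ A) (hTA : ∀ t ∈ T, ∀ a ∈ A, t * a * t⁻¹ ∈ A) (hTB : ∀ t ∈ T, ∀ b ∈ B, t * b * t⁻¹ ∈ B) :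
    ∃ a ∈ A, a ∉ B ∧ ∀ t ∈ T, a⁻¹ * (t * a * t⁻¹) ∈ B := by
  have h2 : Fact (Nat.Prime 2) := ⟨Nat.prime_two⟩
  rcases fix_or hT hTA hTB with h | h
  · exact h
  · exfalso
    obtain ⟨n, hn⟩ := hA.index (B.subgroupOf A)
    have h3 : B.relIndex A = 2 ^ n := hn
    rcases Nat.eq_zero_or_pos n with h0 | h0
    · rw [h0, pow_zero] at h3
      exact hne (le_antisymm hBA (Subgroup.relIndex_eq_one.1 h3))
    · rw [h3] at h
      have h4 : 2 ∣ 2 ^ n := dvd_pow_self 2 (by omega)
      have h5 : 2 ^ n % 2 = 1 := h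
      omega

/-- An element of order 3 acting on `A / B` without fixed points. -/
theorem mod_three [Finite G] {A B : Subgroup G} {d : G} (hd : d ^ 3 = 1)
    (hdA : ∀ a ∈ A, d * a * d⁻¹ ∈ A) (hdB : ∀ b ∈ B, d * b * d⁻¹ ∈ B)
    (hfix : ∀ a ∈ A, a⁻¹ * (d * a * d⁻¹) ∈ B → a ∈ B) : B.relIndex A ≡ 1 [MOD 3] := by
  have h3 : Fact (Nat.Prime 3) := ⟨Nat.prime_three⟩
  have hpow : ∀ (C : Subgroup G), (∀ a ∈ C, d * a * d⁻¹ ∈ C) →
      ∀ t ∈ zpowers d, ∀ a ∈ C, t * a * t⁻¹ ∈ C := by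
    intro C hC t ht
    obtain ⟨n, rfl⟩ : t ∈ Submonoid.powers d := mem_powers_iff_mem_zpowers.2 ht
    induction n with
    | zero => intro a ha; simpa using ha
    | succ n ih =>
      intro a ha
      have h1 := hC _ (ih (pow_mem (mem_zpowers d) n) a ha)
      have h2 : d ^ (n + 1) * a * (d ^ (n + 1))⁻¹ = d * (d ^ n * a * (d ^ n)⁻¹) * d⁻¹ := by
        rw [pow_succ']; group
      show d ^ (n + 1) * a * (d ^ (n + 1))⁻¹ ∈ C
      rw [h2]
      exact h1
  have hT : IsPGroup 3 (zpowers d) := by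
    rintro ⟨t, ht⟩
    obtain ⟨n, rfl⟩ : t ∈ zpowers d := ht
    refine ⟨1, Subtype.ext ?_⟩
    push_cast
    rw [← zpow_natCast, ← zpow_mul, mul_comm, zpow_mul]
    have : d ^ ((3 : ℕ) : ℤ) = 1 := by rw [zpow_natCast]; exact hd
    rw [this, one_zpow]
  rcases fix_or hT (hpow A hdA) (hpow B hdB) with ⟨a, ha, haB, h⟩ | h
  · exact absurd (hfix a ha (h d (mem_zpowers d))) haB
  · exact h

/-- `A B = P` -/
theorem exists_mul_of_card [Finite G] {P A B : Subgroup G} (hA : A ≤ P) (hB : B ≤ P)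
    (hc : Nat.card P * Nat.card (A ⊓ B : Subgroup G) ≤ Nat.card A * Nat.card B) {p : G} (hp : p ∈ P) :
    ∃ a ∈ A, ∃ b ∈ B, p = a * b := by
  classical
  -- the map `A / (A ∩ B) → P / B`
  let f : (A ⧸ (A ⊓ B).subgroupOf A) → (P ⧸ B.subgroupOf P) := Quotient.map (fun a => ⟨a, hA a.2⟩) (by
    intro a b h
    have h' := QuotientGroup.leftRel_apply.1 h
    refine QuotientGroup.leftRel_apply.2 ?_
    rw [mem_subgroupOf] at h' ⊢
    exact (mem_inf.1 h').2)
  have hf : Function.Injective f := by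
    intro a b
    induction a using Quotient.inductionOn with | _ a
    induction b using Quotient.inductionOn with | _ b
    intro h
    have h1 : (QuotientGroup.mk (⟨a, hA a.2⟩ : P) : P ⧸ B.subgroupOf P) =
      QuotientGroup.mk (⟨b, hA b.2⟩ : P) := h
    have h2 := QuotientGroup.eq.1 h1
    rw [mem_subgroupOf] at h2
    refine Quotient.sound (QuotientGroup.leftRel_apply.2 ?_)
    rw [mem_subgroupOf]
    exact mem_inf.2 ⟨(a⁻¹ * b).2, h2⟩
  have h1 : Nat.card (A ⊓ B : Subgroup G) * (A ⊓ B).relIndex A = Nat.card A :=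
    card_mul_relIndex inf_le_left
  have h2 : Nat.card B * B.relIndex P = Nat.card P := card_mul_relIndex hB
  have h3 : B.relIndex P ≤ (A ⊓ B).relIndex A := by
    rw [← h1, ← h2] at hc
    have hpos : 0 < Nat.card B * Nat.card (A ⊓ B : Subgroup G) :=
      Nat.mul_pos Nat.card_pos Nat.card_pos
    refine Nat.le_of_mul_le_mul_left ?_ hpos
    calc Nat.card B * Nat.card (A ⊓ B : Subgroup G) * B.relIndex P
        = Nat.card B * B.relIndex P * Nat.card (A ⊓ B : Subgroup G) := by ring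
      _ ≤ Nat.card (A ⊓ B : Subgroup G) * (A ⊓ B).relIndex A * Nat.card B := hc
      _ = _ := by ring
  have h4 : Function.Surjective f := by
    have h5 : Nat.card (P ⧸ B.subgroupOf P) ≤ Nat.card (A ⧸ (A ⊓ B).subgroupOf A) := h3
    exact ((Nat.bijective_iff_injective_and_card f).2 ⟨hf, le_antisymm
      (Nat.card_le_card_of_injective f hf) h5⟩).2
  obtain ⟨a, ha⟩ := h4 (QuotientGroup.mk ⟨p, hp⟩)
  induction a using Quotient.inductionOn with | _ a
  have h1 : (QuotientGroup.mk (⟨a, hA a.2⟩ : P) : P ⧸ B.subgroupOf P) =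
      QuotientGroup.mk (⟨p, hp⟩ : P) := ha
  have h2 := QuotientGroup.eq.1 h1
  rw [mem_subgroupOf] at h2
  refine ⟨a, a.2, (a : G)⁻¹ * p, h2, ?_⟩
  group

theorem card_mul_card_le [Finite G] {P A B : Subgroup G} (hA : A ≤ P) (hB : B ≤ P) :
    Nat.card A * Nat.card B ≤ Nat.card P * Nat.card (A ⊓ B : Subgroup G) := by
  classical
  let f : (A ⧸ (A ⊓ B).subgroupOf A) → (P ⧸ B.subgroupOf P) := Quotient.map (fun a => ⟨a, hA a.2⟩) (by
    intro a b h
    have h' := QuotientGroup.leftRel_apply.1 h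
    refine QuotientGroup.leftRel_apply.2 ?_
    rw [mem_subgroupOf] at h' ⊢
    exact (mem_inf.1 h').2)
  have hf : Function.Injective f := by
    intro a b
    induction a using Quotient.inductionOn with | _ a
    induction b using Quotient.inductionOn with | _ b
    intro h
    have h1 : (QuotientGroup.mk (⟨a, hA a.2⟩ : P) : P ⧸ B.subgroupOf P) =
      QuotientGroup.mk (⟨b, hA b.2⟩ : P) := h
    have h2 := QuotientGroup.eq.1 h1
    rw [mem_subgroupOf] at h2
    refine Quotient.sound (QuotientGroup.leftRel_apply.2 ?_)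
    rw [mem_subgroupOf]
    exact mem_inf.2 ⟨(a⁻¹ * b).2, h2⟩
  have h1 : Nat.card (A ⊓ B : Subgroup G) * (A ⊓ B).relIndex A = Nat.card A :=
    card_mul_relIndex inf_le_left
  have h2 : Nat.card B * B.relIndex P = Nat.card P := card_mul_relIndex hB
  have h3 : (A ⊓ B).relIndex A ≤ B.relIndex P := Nat.card_le_card_of_injective f hf
  rw [← h1, ← h2]
  calc Nat.card (A ⊓ B : Subgroup G) * (A ⊓ B).relIndex A * Nat.card B
      ≤ Nat.card (A ⊓ B : Subgroup G) * B.relIndex P * Nat.card B :=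
        Nat.mul_le_mul_right _ (Nat.mul_le_mul_left _ h3)
    _ = _ := by ring

/-! ### index 2 -/

theorem card_eq_two_mul [Finite G] {K A : Subgroup G} (hKA : K ≤ A) {a : G} (ha : a ∈ A) (haK : a ∉ K)
    (h : ∀ b ∈ A, b ∉ K → a⁻¹ * b ∈ K) : Nat.card A = 2 * Nat.card K := by
  rw [← card_mul_relIndex hKA, mul_comm]
  congr 1
  show (K.subgroupOf A).index = 2
  rw [Subgroup.index_eq_two_iff]
  refine ⟨⟨a, ha⟩⁻¹, fun b => ?_⟩
  rw [mem_subgroupOf, mem_subgroupOf]
  show Xor (((b : G) * a⁻¹) ∈ K) ((b : G) ∈ K)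
  have hinv : ∀ b ∈ A, b ∉ K → b * a⁻¹ ∈ K := by
    intro b hb hbK
    have h1 := h b⁻¹ (A.inv_mem hb) (fun h2 => hbK (by simpa using K.inv_mem h2))
    have h2 := h a⁻¹ (A.inv_mem ha) (fun h2 => haK (by simpa using K.inv_mem h2))
    have h3 := K.mul_mem (K.inv_mem h1) h2
    have h4 : (a⁻¹ * b⁻¹)⁻¹ * (a⁻¹ * a⁻¹) = b * a⁻¹ := by group
    rwa [h4] at h3
  by_cases hb : (b : G) ∈ K
  · right
    refine ⟨hb, fun h1 => haK ?_⟩
    have h2 := K.mul_mem (K.inv_mem h1) hb
    have h3 : ((b : G) * a⁻¹)⁻¹ * b = a := by group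
    rwa [h3] at h2
  · left
    exact ⟨hinv b b.2 hb, hb⟩

theorem inv_mul_mem_of_card [Finite G] {K A : Subgroup G} (hKA : K ≤ A)
    (hc : Nat.card A = 2 * Nat.card K) {a b : G} (ha : a ∈ A) (hb : b ∈ A) (haK : a ∉ K) (hbK : b ∉ K) :
    a⁻¹ * b ∈ K := by
  have h1 : K.relIndex A = 2 := by
    have h2 := card_mul_relIndex hKA
    rw [hc, mul_comm] at h2
    exact Nat.eq_of_mul_eq_mul_right Nat.card_pos h2
  have h2 : (K.subgroupOf A).index = 2 := h1
  have h3 := (Subgroup.mul_mem_iff_of_index_two h2 (a := ⟨a, ha⟩⁻¹) (b := ⟨b, hb⟩))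
  rw [mem_subgroupOf, mem_subgroupOf, mem_subgroupOf] at h3
  push_cast at h3
  rw [h3]
  constructor
  · intro h4
    exact absurd (by simpa using K.inv_mem h4) haK
  · intro h4
    exact absurd h4 hbK

theorem mul_mem_of_card [Finite G] {K A : Subgroup G} (hKA : K ≤ A)
    (hc : Nat.card A = 2 * Nat.card K) {a b : G} (ha : a ∈ A) (hb : b ∈ A) (haK : a ∉ K) (hbK : b ∉ K) :
    a * b ∈ K := by
  have h := inv_mul_mem_of_card hKA hc (A.inv_mem ha) hb (fun h => haK (by simpa using K.inv_mem h)) hbK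
  simpa using h

/-- In a subgroup of order 8 containing a subgroup of order 4 -/
theorem card_two_mul_of [Finite G] {K A : Subgroup G} (hKA : K ≤ A) {a : G} (ha : a ∈ A) (haK : a ∉ K)
    (hc : Nat.card A ≤ 2 * Nat.card K) : Nat.card A = 2 * Nat.card K := by
  have h1 := card_mul_relIndex hKA
  have h2 : K.relIndex A ≠ 1 := fun h => haK (Subgroup.relIndex_eq_one.1 h ha)
  have h3 : K.relIndex A ≠ 0 := by
    intro h
    rw [h, mul_zero] at h1
    have := Nat.card_pos (α := A)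
    omega
  have h4 : 0 < Nat.card K := Nat.card_pos
  have h5 : 2 * Nat.card K ≤ Nat.card K * K.relIndex A := by
    calc 2 * Nat.card K = Nat.card K * 2 := mul_comm _ _
      _ ≤ _ := Nat.mul_le_mul_left _ (by omega)
  omega

end Cfsg.Agent.GH.C2GrowL3Base
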