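import Cfsg.Agent.GH.C2GrowL3X

/-!
# GH-C2, growth, `M/V = L₃(2)`: `P` is extraspecial; the subgroup `C`
-/

set_option autoImplicit false

namespace Cfsg.Agent.GH.C2GrowL3C

open Subgroup Cfsg.Agent.GH.C2GrowL3Base Cfsg.Agent.GH.C2GrowL3V Cfsg.Agent.GH.C2GrowL3P
  Cfsg.Agent.GH.C2GrowL3X

variable {G : Type*} [Group G] {V T : Subgroup G} {z y x : G}

theorem comm_lemma {a b v w k : G} (hav : a * v = v * a) (haw : a * w = w * a)
    (hbw : b * w = w * b) (hvw : v * w = w * v) (hk : k = b * a * b⁻¹ * a⁻¹) (hka : a * k = k * a) :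
    (a * b * v) * (a * w) * (a * b * v)⁻¹ * (a * w)⁻¹ = k := by
  have h1 : (a * b * v) * (a * w) * (a * b * v)⁻¹ * (a * w)⁻¹ =
      (a * b) * (v * (a * w) * v⁻¹) * (a * b)⁻¹ * (a * w)⁻¹ := by group
  have h2 : v * (a * w) * v⁻¹ = a * w := by
    rw [← mul_assoc, ← hav, mul_assoc a v w, hvw]; group
  have h3 : (a * b) * (a * w) * (a * b)⁻¹ = a * b * a * b⁻¹ * a⁻¹ * w := by
    have h4 : w * b⁻¹ = b⁻¹ * w := by
      calc w * b⁻¹ = b⁻¹ * (b * w) * b⁻¹ := by group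
        _ = b⁻¹ * w := by rw [hbw]; group
    have h5 : w * a⁻¹ = a⁻¹ * w := by
      calc w * a⁻¹ = a⁻¹ * (a * w) * a⁻¹ := by group
        _ = a⁻¹ * w := by rw [haw]; group
    calc (a * b) * (a * w) * (a * b)⁻¹ = a * b * a * (w * b⁻¹) * a⁻¹ := by group
      _ = a * b * a * b⁻¹ * (w * a⁻¹) := by rw [h4]; group
      _ = _ := by rw [h5]; group
  rw [h1, h2, h3]
  calc a * b * a * b⁻¹ * a⁻¹ * w * (a * w)⁻¹ = a * (b * a * b⁻¹ * a⁻¹) * a⁻¹ := by group
    _ = k := by rw [← hk, hka]; group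

namespace Cnf

variable (c : Conf V T z y x)
include c

/-- `d` has no fixed points on `V / ⟨z⟩` -/
theorem fpfV [Finite G] {d : G} (hdz : d * z * d⁻¹ = z) (hdy : d * y * d⁻¹ = x)
    (hdx : d * x * d⁻¹ = y * x) {v : G} (hv : v ∈ V) (h : d * v * d⁻¹ = v ∨ d * v * d⁻¹ = z * v) :
    v = 1 ∨ v = z := by
  have b := c.bas
  have hcomm : ∀ {a b : G}, a ∈ V → b ∈ V → a * b = b * a := fun ha hb => c.hyp.comm ha hb
  have zz := c.zz
  have yy := c.hyp.sq y b.hy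
  have xx := c.hyp.sq x b.hx
  have zc : ∀ a, z * (z * a) = a := fun a => by rw [← mul_assoc, zz, one_mul]
  have yc : ∀ a, y * (y * a) = a := fun a => by rw [← mul_assoc, yy, one_mul]
  have xy : x * y = y * x := hcomm b.hx b.hy
  have dyx : d * (y * x) * d⁻¹ = y := by
    rw [conj_mul', hdy, hdx, ← mul_assoc, xy, mul_assoc, xx, mul_one]
  have dzy : d * (z * y) * d⁻¹ = z * x := by rw [conj_mul', hdz, hdy]
  have dzx : d * (z * x) * d⁻¹ = z * (y * x) := by rw [conj_mul', hdz, hdx]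
  have dzyx : d * (z * (y * x)) * d⁻¹ = z * y := by rw [conj_mul', hdz, dyx]
  have k1 : x ≠ y := b.xy
  have k2 : x ≠ z * y := b.xzy
  have k3 : y * x ≠ x := fun h => b.y1 (by simpa using h)
  have k4 : y * x ≠ z * x := fun h => b.yz (mul_right_cancel h)
  rcases c.hyp.mem b hv with h1 | h1 | h1 | h1 | h1 | h1 | h1 | h1
  · exact Or.inl h1
  · exact Or.inr h1
  · exfalso
    subst h1
    rw [hdy] at h
    rcases h with h | h
    · exact k1 h
    · exact k2 h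
  · exfalso
    subst h1
    rw [dzy] at h
    rcases h with h | h
    · exact k1 (mul_left_cancel h)
    · rw [zc] at h
      exact k2 (by rw [← h, zc])
  · exfalso
    subst h1
    rw [hdx] at h
    rcases h with h | h
    · exact k3 h
    · exact k4 h
  · exfalso
    subst h1
    rw [dzx] at h
    rcases h with h | h
    · exact k3 (mul_left_cancel h)
    · rw [zc] at h
      exact k4 (by rw [← zc (y * x), h])
  · exfalso
    subst h1
    rw [dyx] at h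
    rcases h with h | h
    · exact b.x1 (by simpa using h)
    · apply b.xz
      have h2 : y * y = y * (z * (y * x)) := congrArg (y * ·) h
      rw [yy] at h2
      have h3 : y * (z * (y * x)) = z * x := by
        rw [← mul_assoc, hcomm b.hy b.hz, mul_assoc, yc]
      rw [h3] at h2
      rw [← inv_of_sq zz]
      exact eq_inv_of_mul_eq_one_right h2.symm
  · exfalso
    subst h1
    rw [mul_assoc z y x, dzyx] at h
    rcases h with h | h
    · exact b.x1 (by simpa using (mul_left_cancel h : y = y * x))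
    · rw [zc] at h
      apply b.xz
      have h2 : y * (z * y) = y * (y * x) := congrArg (y * ·) h
      rw [yc, ← mul_assoc, hcomm b.hy b.hz, mul_assoc, yy, mul_one] at h2
      exact h2.symm

/-- generation of `P` -/
theorem genP [Finite G] {p1 p2 : G} (hp1 : p1 ∈ c.P) (h11 : p1 * y * p1⁻¹ = z * y) (h12 : p1 * x * p1⁻¹ = x)
    (hp2 : p2 ∈ c.P) (h21 : p2 * y * p2⁻¹ = y) (h22 : p2 * x * p2⁻¹ = z * x) {K : Subgroup G} (hVK : V ≤ K)
    (h1 : p1 ∈ K) (h2 : p2 ∈ K) : c.P ≤ K := by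
  intro p hp
  have key : ∀ q ∈ c.P, q * y * q⁻¹ = p * y * p⁻¹ → q * x * q⁻¹ = p * x * p⁻¹ → q ∈ K → p ∈ K := by
    intro q hq e1 e2 hqK
    have h3 : q⁻¹ * p ∈ V := by
      refine c.hyp.cent _ fun v hv => ?_
      have h4 := c.hyp.conj_ext (g := p) (k := q) c.bas (by rw [hp.2.1, hq.2.1]) e1.symm e2.symm v hv
      calc q⁻¹ * p * v = q⁻¹ * (p * v * p⁻¹) * p := by group
        _ = q⁻¹ * (q * v * q⁻¹) * p := by rw [h4]
        _ = v * (q⁻¹ * p) := by group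
    have h5 := K.mul_mem hqK (hVK h3)
    rwa [mul_inv_cancel_left] at h5
  have h12' : p1 * p2 * y * (p1 * p2)⁻¹ = z * y := by rw [conj_conj, h21, h11]
  have h12'' : p1 * p2 * x * (p1 * p2)⁻¹ = z * x := by
    rw [conj_conj, h22, conj_mul', hp1.2.1, h12]
  rcases hp.2.2 y c.bas.hy with e1 | e1 <;> rcases hp.2.2 x c.bas.hx with e2 | e2
  · exact key 1 (one_mem _) (by rw [e1]; group) (by rw [e2]; group) K.one_mem
  · exact key p2 hp2 (by rw [e1, h21]) (by rw [e2, h22]) h2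
  · exact key p1 hp1 (by rw [e1, h11]) (by rw [e2, h12]) h1
  · exact key (p1 * p2) (c.P.mul_mem hp1 hp2) (by rw [e1, h12']) (by rw [e2, h12'']) (K.mul_mem h1 h2)

/-- `P` is extraspecial. -/
theorem ex [Finite G] : Ex c.P z := by
  obtain ⟨p1, hp1, h11, h12⟩ := c.exists_p1
  obtain ⟨p2, hp2, h21, h22⟩ := c.exists_p2
  obtain ⟨d, hd, hd3, hdz, hdy, hdx⟩ := c.exists_d
  have b := c.bas
  have zz := c.zz
  have zP : z ∈ c.P := c.VP b.hz
  have hzc : ∀ p ∈ c.P, p * z = z * p := fun p hp => (conj_eq_iff _ _ _).1 hp.2.1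
  -- the group `X = C(z)`, modulo `z`
  set X : Subgroup G := centralizer ({z} : Set G) with hX
  have hPX : ∀ p ∈ c.P, p ∈ X := fun p hp => mem_centralizer_singleton_iff.2 (hzc p hp)
  have hzX : z ∈ X := hPX z zP
  set Z : Subgroup X := zpowers (⟨z, hzX⟩ : X) with hZ
  have hZn : Z.Normal := ⟨fun n hn g => by
    obtain ⟨k, rfl⟩ := hn
    have h1 : g * (⟨z, hzX⟩ : X) = ⟨z, hzX⟩ * g := Subtype.ext (mem_centralizer_singleton_iff.1 g.2)
    have h2 : g * (⟨z, hzX⟩ : X) ^ k * g⁻¹ = (⟨z, hzX⟩ : X) ^ k := by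
      have := (show Commute g (⟨z, hzX⟩ : X) from h1).zpow_right k
      rw [this.eq]; group
    show g * (⟨z, hzX⟩ : X) ^ k * g⁻¹ ∈ Z
    rw [h2]
    exact zpow_mem (mem_zpowers _) k⟩
  let π : X →* X ⧸ Z := QuotientGroup.mk' Z
  have hker : ∀ g : X, π g = 1 ↔ ((g : G) = 1 ∨ (g : G) = z) := by
    intro g
    rw [QuotientGroup.mk'_apply, QuotientGroup.eq_one_iff]
    have hzz' : (⟨z, hzX⟩ : X) * ⟨z, hzX⟩ = 1 := Subtype.ext zz
    rw [hZ, mem_zpowers_two hzz']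
    constructor
    · rintro (h | h)
      · left; rw [h]; rfl
      · right; rw [h]
    · rintro (h | h)
      · left; exact Subtype.ext h
      · right; exact Subtype.ext h
  have hpi : ∀ g k : X, π g = π k ↔ ((k : G) = g ∨ (k : G) = z * g) := by
    intro g k
    have h1 : π g = π k ↔ π (k * g⁻¹) = 1 := by
      rw [map_mul, map_inv, mul_inv_eq_one]
      exact eq_comm
    rw [h1, hker]
    push_cast
    rw [mul_inv_eq_one, mul_inv_eq_iff_eq_mul]
  have hcm : ∀ g k : X, Commute (π g) (π k) ↔ ((k : G) * g = g * k ∨ (k : G) * g = z * (g * k)) := by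
    intro g k
    have h1 := hpi (g * k) (k * g)
    push_cast at h1
    rw [← h1, map_mul, map_mul]
    exact Iff.rfl
  -- `V` is central in `P` modulo `z`
  have hVP : ∀ (p v : X), (p : G) ∈ c.P → (v : G) ∈ V → π p * π v = π v * π p := by
    intro p v hp hv
    refine ((hcm v p).2 ?_).eq.symm
    rcases hp.2.2 v hv with h1 | h1
    · left
      rw [conj_eq_iff] at h1; exact h1
    · right
      rw [conj_eq_iff] at h1; rw [h1]; group
  have hdX : d ∈ X := mem_centralizer_singleton_iff.2 ((conj_eq_iff _ _ _).1 hdz)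
  let p1' : X := ⟨p1, hPX p1 hp1⟩
  let p2' : X := ⟨p2, hPX p2 hp2⟩
  let d' : X := ⟨d, hdX⟩
  -- `d p2 d⁻¹ = p1 w`, `d p1 d⁻¹ = p1 p2 v`
  have hdi : ∀ a : G, d * a * d⁻¹ ∈ V → a ∈ V := by
    intro a ha
    have h1 := mem_norm (inv_mem hd) ha
    have h2 : d⁻¹ * (d * a * d⁻¹) * d⁻¹⁻¹ = a := by group
    rwa [h2] at h1
  have hact : ∀ {p q : G}, p ∈ c.P → q ∈ c.P → p * y * p⁻¹ = q * y * q⁻¹ → p * x * p⁻¹ = q * x * q⁻¹ →
      q⁻¹ * p ∈ V := by
    intro p q hp hq e1 e2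
    refine c.hyp.cent _ fun v hv => ?_
    have h4 := c.hyp.conj_ext (g := p) (k := q) c.bas (by rw [hp.2.1, hq.2.1]) e1 e2 v hv
    calc q⁻¹ * p * v = q⁻¹ * (p * v * p⁻¹) * p := by group
      _ = q⁻¹ * (q * v * q⁻¹) * p := by rw [h4]
      _ = v * (q⁻¹ * p) := by group
  have xy : x * y = y * x := c.hyp.comm b.hx b.hy
  have xx := c.hyp.sq x b.hx
  have dyx : d * (y * x) * d⁻¹ = y := by
    rw [conj_mul', hdy, hdx, ← mul_assoc, xy, mul_assoc, xx, mul_one]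
  have di_x : d⁻¹ * x * d = y := by rw [← hdy]; group
  have di_y : d⁻¹ * y * d = y * x := by
    have h1 : d⁻¹ * (d * (y * x) * d⁻¹) * d = y * x := by group
    rwa [dyx] at h1
  have hconjd : ∀ p a : G, d * p * d⁻¹ * a * (d * p * d⁻¹)⁻¹ = d * (p * (d⁻¹ * a * d) * p⁻¹) * d⁻¹ := by
    intro p a; group
  have hw : p1⁻¹ * (d * p2 * d⁻¹) ∈ V := by
    refine hact (c.P_conj hd hdz hp2) hp1 ?_ ?_
    · have f1 : p2 * (y * x) * p2⁻¹ = z * (y * x) := by
        rw [conj_mul', h21, h22, ← mul_assoc, c.hyp.comm b.hy b.hz, mul_assoc]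
      rw [hconjd, di_y, h11, f1, conj_mul', hdz, dyx]
    · rw [hconjd, di_x, h21, h12, hdy]
  have hv : (p1 * p2)⁻¹ * (d * p1 * d⁻¹) ∈ V := by
    refine hact (c.P_conj hd hdz hp1) (c.P.mul_mem hp1 hp2) ?_ ?_
    · have f1 : p1 * (y * x) * p1⁻¹ = z * (y * x) := by
        rw [conj_mul', h11, h12, mul_assoc]
      rw [hconjd, di_y, f1, conj_mul' d, hdz, dyx, conj_conj, h21, h11]
    · rw [hconjd, di_x, h11, conj_mul' d, hdz, hdy, conj_conj, h22, conj_mul', hp1.2.1, h12]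
  -- the commutator
  set k0 : G := p2 * p1 * p2⁻¹ * p1⁻¹ with hk0
  have hk0V : k0 ∈ V := by
    have h1 : ((p1 * p2)⁻¹)⁻¹ = p1 * p2 := inv_inv _
    have h2 : (p1 * p2)⁻¹ * (p2 * p1) ∈ V := by
      refine hact (c.P.mul_mem hp2 hp1) (c.P.mul_mem hp1 hp2) ?_ ?_
      · rw [conj_conj, conj_conj, h11, h21, h11, conj_mul', hp2.2.1, h21]
      · rw [conj_conj, conj_conj, h12, h22, conj_mul', hp1.2.1, h12]
    have h3 : k0 = (p1 * p2) * ((p1 * p2)⁻¹ * (p2 * p1)) * (p1 * p2)⁻¹ := by rw [hk0]; group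
    rw [h3]
    exact mem_norm (c.P.mul_mem hp1 hp2).1 h2
  have hk0P : k0 ∈ c.P := c.VP hk0V
  have hdk : d * k0 * d⁻¹ = k0 ∨ d * k0 * d⁻¹ = z * k0 := by
    have hVX : ∀ v ∈ V, v ∈ X := fun v hv => hPX v (c.VP hv)
    let v' : X := ⟨(p1 * p2)⁻¹ * (d * p1 * d⁻¹), hVX _ hv⟩
    let w' : X := ⟨p1⁻¹ * (d * p2 * d⁻¹), hVX _ hw⟩
    let k' : X := ⟨k0, hVX _ hk0V⟩
    have e1 : d' * p1' * d'⁻¹ = p1' * p2' * v' := Subtype.ext (by
      show d * p1 * d⁻¹ = p1 * p2 * ((p1 * p2)⁻¹ * (d * p1 * d⁻¹))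
      group)
    have e2 : d' * p2' * d'⁻¹ = p1' * w' := Subtype.ext (by
      show d * p2 * d⁻¹ = p1 * (p1⁻¹ * (d * p2 * d⁻¹))
      group)
    have e3 : d' * k' * d'⁻¹ = (d' * p2' * d'⁻¹) * (d' * p1' * d'⁻¹) * (d' * p2' * d'⁻¹)⁻¹ *
        (d' * p1' * d'⁻¹)⁻¹ := Subtype.ext (by
      show d * (p2 * p1 * p2⁻¹ * p1⁻¹) * d⁻¹ = (d * p2 * d⁻¹) * (d * p1 * d⁻¹) * (d * p2 * d⁻¹)⁻¹ *
        (d * p1 * d⁻¹)⁻¹
      group)
    have e4 : (d' * k' * d'⁻¹)⁻¹ = (p1' * p2' * v') * (p1' * w') * (p1' * p2' * v')⁻¹ * (p1' * w')⁻¹ := by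
      rw [e3, e1, e2]; group
    have e5 : π (d' * k' * d'⁻¹)⁻¹ = π k' := by
      rw [e4]
      simp only [map_mul, map_inv]
      refine comm_lemma (hVP p1' v' hp1 hv) (hVP p1' w' hp1 hw) (hVP p2' w' hp2 hw)
        (hVP v' w' (c.VP hv) hw) ?_ (hVP p1' k' hp1 hk0V)
      have : k' = p2' * p1' * p2'⁻¹ * p1'⁻¹ := Subtype.ext rfl
      rw [this]
      simp only [map_mul, map_inv]
    have e6 : π (d' * k' * d'⁻¹) = π k' := by
      have e7 : π k' = (π k')⁻¹ := by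
        rw [← map_inv]
        congr 1
        exact Subtype.ext (inv_of_sq (c.hyp.sq k0 hk0V)).symm
      rw [map_inv] at e5
      rw [← inv_inv (π (d' * k' * d'⁻¹)), e5, ← e7]
    have e8 := (hpi k' (d' * k' * d'⁻¹)).1 e6.symm
    exact e8
  have hk01 : k0 = 1 ∨ k0 = z := fpfV c hdz hdy hdx hk0V hdk
  have h12c : π p1' * π p2' = π p2' * π p1' := by
    refine ((hcm p1' p2').2 ?_).eq
    show p2 * p1 = p1 * p2 ∨ p2 * p1 = z * (p1 * p2)
    have h1 : p2 * p1 = k0 * (p1 * p2) := by rw [hk0]; group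
    rcases hk01 with h2 | h2
    · left; rw [h1, h2, one_mul]
    · right; rw [h1, h2]
  -- centralizers modulo `z`
  have key : ∀ p q : X, (p : G) ∈ c.P → (q : G) ∈ c.P → π p * π q = π q * π p := by
    -- the preimage of a centraliser
    have hsub : ∀ a : X ⧸ Z, (∀ v : X, (v : G) ∈ V → a * π v = π v * a) → a * π p1' = π p1' * a →
        a * π p2' = π p2' * a → ∀ q : X, (q : G) ∈ c.P → a * π q = π q * a := by
      intro a hV1 h1 h2 q hq
      let K : Subgroup G := ((centralizer ({a} : Set (X ⧸ Z))).comap π).map X.subtype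
      have hK : ∀ g : X, a * π g = π g * a → (g : G) ∈ K := by
        intro g hg
        exact ⟨g, mem_centralizer_singleton_iff.2 hg.symm, rfl⟩
      have h3 := genP c hp1 h11 h12 hp2 h21 h22 (K := K) (fun v hv => hK ⟨v, hPX v (c.VP hv)⟩ (hV1 _ hv))
        (hK p1' h1) (hK p2' h2) hq
      obtain ⟨g, hg, hgq⟩ := h3
      have h4 : g = q := Subtype.ext hgq
      rw [← h4]
      exact (mem_centralizer_singleton_iff.1 hg).symm
    have s1 : ∀ q : X, (q : G) ∈ c.P → π p1' * π q = π q * π p1' :=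
      hsub _ (fun v hv => hVP p1' v hp1 hv) rfl h12c
    have s2 : ∀ q : X, (q : G) ∈ c.P → π p2' * π q = π q * π p2' :=
      hsub _ (fun v hv => hVP p2' v hp2 hv) h12c.symm rfl
    intro p q hp hq
    exact (hsub (π q) (fun v hv => hVP q v hq hv) (s1 q hq).symm (s2 q hq).symm p hp).symm
  have hcomm : ∀ p ∈ c.P, ∀ q ∈ c.P, p * q = q * p ∨ p * q = z * (q * p) := by
    intro p hp q hq
    exact (hcm ⟨q, hPX q hq⟩ ⟨p, hPX p hp⟩).1 (key ⟨q, hPX q hq⟩ ⟨p, hPX p hp⟩ hq hp)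
  refine ⟨c.cardP, zP, b.z1, zz, hzc, hcomm, fun p hp h => ?_⟩
  have hpV : p ∈ V := c.hyp.cent p fun v hv => h v (c.VP hv)
  have e1 : p1 * p * p1⁻¹ = p := by rw [conj_eq_iff]; exact (h p1 hp1).symm
  have e2 : p2 * p * p2⁻¹ = p := by rw [conj_eq_iff]; exact (h p2 hp2).symm
  have hz1 : ∀ a : G, z * a = a → False := fun a ha => b.z1 (by simpa using ha)
  have zy : z * y = y * z := c.hyp.comm b.hz b.hy
  rcases c.hyp.mem b hpV with h1 | h1 | h1 | h1 | h1 | h1 | h1 | h1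
  · exact Or.inl h1
  · exact Or.inr h1
  · exfalso; rw [h1, h11] at e1; exact hz1 _ e1
  · exfalso; rw [h1, conj_mul', hp1.2.1, h11] at e1; exact hz1 _ (mul_left_cancel e1)
  · exfalso; rw [h1, h22] at e2; exact hz1 _ e2
  · exfalso; rw [h1, conj_mul', hp2.2.1, h22] at e2; exact hz1 _ (mul_left_cancel e2)
  · exfalso; rw [h1, conj_mul', h11, h12, mul_assoc] at e1; exact hz1 _ e1
  · exfalso
    rw [h1, mul_assoc z y x, conj_mul', conj_mul' p1 y x, hp1.2.1, h11, h12, mul_assoc z y x] at e1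
    exact hz1 _ (mul_left_cancel e1)

end Cnf

end Cfsg.Agent.GH.C2GrowL3C
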