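import Cfsg.Agent.GH.C2GrowL3C

/-!
# GH-C2, growth, `M/V = L₃(2)`: the case `N_W(P) > P`
-/

set_option autoImplicit false

namespace Cfsg.Agent.GH.C2GrowL3D

open Subgroup Cfsg.Agent.GH.C2GrowL3Base Cfsg.Agent.GH.C2GrowL3V Cfsg.Agent.GH.C2GrowL3P
  Cfsg.Agent.GH.C2GrowL3X Cfsg.Agent.GH.C2GrowL3C

variable {G : Type*} [Group G] {V T : Subgroup G} {z y x : G}

/-- the element `d` -/
structure DD (V : Subgroup G) (z y x d : G) : Prop where
  norm : d ∈ normalizer (V : Set G)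
  three : d ^ 3 = 1
  dz : d * z * d⁻¹ = z
  dy : d * y * d⁻¹ = x
  dx : d * x * d⁻¹ = y * x

/-- conjugate subgroup -/
def cj (g : G) (A : Subgroup G) : Subgroup G := A.map (MulAut.conj g).toMonoidHom

theorem mem_cj {g a : G} {A : Subgroup G} : a ∈ cj g A ↔ g⁻¹ * a * g ∈ A := by
  constructor
  · rintro ⟨b, hb, rfl⟩
    have : g⁻¹ * (g * b * g⁻¹) * g = b := by group
    show g⁻¹ * (g * b * g⁻¹) * g ∈ A
    rw [this]; exact hb
  · intro h
    refine ⟨_, h, ?_⟩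
    show g * (g⁻¹ * a * g) * g⁻¹ = a
    group

theorem conj_mem_cj {g a : G} {A : Subgroup G} (ha : a ∈ A) : g * a * g⁻¹ ∈ cj g A := ⟨a, ha, rfl⟩

theorem card_cj (g : G) (A : Subgroup G) : Nat.card (cj g A) = Nat.card A :=
  Nat.card_congr (A.equivMapOfInjective _ (MulAut.conj g).injective).toEquiv.symm

/-- The situation `N_W(P) > P`. -/
structure Big (V T E : Subgroup G) (z y x : G) (c : Conf V T z y x) : Prop where
  PE : c.P ≤ E
  two : IsPGroup 2 E
  normP : ∀ g ∈ E, ∀ p ∈ c.P, g * p * g⁻¹ ∈ c.P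
  zE : ∀ g ∈ E, g * z * g⁻¹ = z
  inf : ∀ g ∈ E, g ∈ normalizer (V : Set G) → g ∈ c.P
  ne : ∃ g ∈ E, g ∉ c.P
  norm : ∀ g ∈ normalizer (V : Set G), g * z * g⁻¹ = z → ∀ k ∈ E, g * k * g⁻¹ ∈ E

/-- The output. -/
structure Conf2 (V T E C : Subgroup G) (z y x t : G) (c : Conf V T z y x) : Prop where
  PE : c.P ≤ E
  zE : ∀ g ∈ E, g * z * g⁻¹ = z
  tE : t ∈ E
  tP : t ∉ c.P
  idx : ∀ g ∈ E, g ∉ c.P → t⁻¹ * g ∈ c.P
  normP : ∀ g ∈ E, ∀ p ∈ c.P, g * p * g⁻¹ ∈ c.P
  inf : ∀ g ∈ E, g ∈ normalizer (V : Set G) → g ∈ c.P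
  TE : ∀ g ∈ T, ∀ k ∈ E, g * k * g⁻¹ ∈ E
  e8 : E8 c.P z C
  CE : ∀ g ∈ E, ∀ a ∈ C, g * a * g⁻¹ = a ∨ g * a * g⁻¹ = z * a
  memC : ∀ a ∈ c.P, (∀ g ∈ E, g * a * g⁻¹ = a ∨ g * a * g⁻¹ = z * a) → a ∈ C
  CV : ∀ a ∈ C, a ∈ V → a = 1 ∨ a = z
  Vt : ∀ v ∈ V, t * v * t⁻¹ ∈ V → v = 1 ∨ v = z

variable {c : Conf V T z y x}

/-- `d` has no fixed points on `P / ⟨z⟩` -/
theorem fpfP [Finite G] {d : G} (hd : DD V z y x d) {a : G} (ha : a ∈ c.P)
    (h : d * a * d⁻¹ = a ∨ d * a * d⁻¹ = z * a) : a = 1 ∨ a = z := by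
  have b := c.bas
  have zz := c.zz
  have h1 : ∀ v ∈ V, d * (a * v * a⁻¹) * d⁻¹ = a * (d * v * d⁻¹) * a⁻¹ := by
    intro v hv
    have h2 : d * (a * v * a⁻¹) * d⁻¹ = (d * a * d⁻¹) * (d * v * d⁻¹) * (d * a * d⁻¹)⁻¹ := by group
    rw [h2]
    rcases h with h | h
    · rw [h]
    · have h3 := (conj_eq_iff _ _ _).1 (show z * (a * (d * v * d⁻¹) * a⁻¹) * z⁻¹ = a * (d * v * d⁻¹) * a⁻¹ by
        rw [conj_eq_iff]
        exact c.hyp.comm b.hz (mem_norm ha.1 (mem_norm hd.norm hv)))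
      rw [h]
      calc z * a * (d * v * d⁻¹) * (z * a)⁻¹ = (z * (a * (d * v * d⁻¹) * a⁻¹)) * z⁻¹ := by group
        _ = a * (d * v * d⁻¹) * a⁻¹ := by rw [h3]; group
  have hay : a * y * a⁻¹ = y := by
    rcases ha.2.2 y b.hy with h2 | h2
    · exact h2
    · exfalso
      have h3 := h1 y b.hy
      rw [h2, conj_mul', hd.dz, hd.dy] at h3
      have h4 := h1 x b.hx
      rw [← h3, conj_mul', hd.dz, hd.dx, conj_mul' a y x, h2, ← h3] at h4
      have h5 : z * y * (z * x) = y * x := by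
        rw [mul_assoc, ← mul_assoc y z x, c.hyp.comm b.hy b.hz, mul_assoc z y x, ← mul_assoc z z, zz, one_mul]
      rw [h5] at h4
      exact b.z1 (by simpa using h4)
  have hax : a * x * a⁻¹ = x := by
    have h3 := h1 y b.hy
    rw [hay, hd.dy] at h3
    exact h3.symm
  exact Cnf.fpfV c hd.dz hd.dy hd.dx (c.hyp.mem_of_conj b ha.2.1 hay hax) h

theorem relIndex_of [Finite G] {d : G} (hd : DD V z y x d) {K : Subgroup G} (hKP : K ≤ c.P) (hz : z ∈ K)
    (hdK : ∀ a ∈ K, d * a * d⁻¹ ∈ K) : ∃ m, Nat.card K = 2 * m ∧ m ≡ 1 [MOD 3] := by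
  have zz := c.zz
  have h1 := mod_three (A := K) (B := zpowers z) hd.three hdK (fun b hb => by
    rw [mem_zpowers_two zz] at hb ⊢
    rcases hb with rfl | rfl
    · left; group
    · right; exact hd.dz) (fun a ha h => by
      rw [mem_zpowers_two zz] at h ⊢
      refine fpfP (c := c) hd (hKP ha) ?_
      rcases h with h | h
      · left
        rw [inv_mul_eq_one] at h
        exact h.symm
      · right
        rw [inv_mul_eq_iff_eq_mul] at h
        rw [h]
        exact (conj_eq_iff _ _ _).1 (hKP ha).2.1)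
  refine ⟨(zpowers z).relIndex K, ?_, h1⟩
  rw [← card_mul_relIndex (zpowers_le.2 hz : zpowers z ≤ K), card_zpowers_two zz c.bas.z1]

/-- squares of elements of `P` -/
theorem sqP [Finite G] {a : G} (ha : a ∈ c.P) : a * a = 1 ∨ a * a = z := by
  have X := Cnf.ex c
  refine X.cen _ (c.P.mul_mem ha ha) fun q hq => ?_
  rcases X.comm a ha q hq with h | h
  · rw [mul_assoc, h, ← mul_assoc, h, mul_assoc]
  · have h1 := X.zc a ha
    calc a * a * q = a * (a * q) := by group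
      _ = (a * z) * (q * a) := by rw [h]; group
      _ = z * (a * q) * a := by rw [h1]; group
      _ = (z * z) * (q * (a * a)) := by rw [h]; group
      _ = q * (a * a) := by rw [X.zz, one_mul]

/-- `C = {p ∈ P | [p, E] ≤ ⟨z⟩}` -/
def Cg (E : Subgroup G) (c : Conf V T z y x) : Subgroup G where
  carrier := {a | a ∈ c.P ∧ ∀ g ∈ E, g * a * g⁻¹ = a ∨ g * a * g⁻¹ = z * a}
  one_mem' := ⟨c.P.one_mem, fun g _ => Or.inl (by group)⟩
  mul_mem' := by
    rintro a b ⟨ha, ha'⟩ ⟨hb, hb'⟩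
    refine ⟨c.P.mul_mem ha hb, fun g hg => ?_⟩
    have h1 := (conj_eq_iff _ _ _).1 ha.2.1
    rw [conj_mul']
    rcases ha' g hg with h2 | h2 <;> rcases hb' g hg with h3 | h3 <;> rw [h2, h3]
    · left; rfl
    · right; rw [← mul_assoc, h1, mul_assoc]
    · right; rw [mul_assoc]
    · left
      rw [mul_assoc, ← mul_assoc a z b, h1, ← mul_assoc, ← mul_assoc, c.zz, one_mul]
  inv_mem' := by
    rintro a ⟨ha, ha'⟩
    refine ⟨c.P.inv_mem ha, fun g hg => ?_⟩
    have h1 := (conj_eq_iff _ _ _).1 ha.2.1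
    have h0 : g * a⁻¹ * g⁻¹ = (g * a * g⁻¹)⁻¹ := by group
    rw [h0]
    rcases ha' g hg with h2 | h2 <;> rw [h2]
    · left; rfl
    · right
      rw [← h1, mul_inv_rev, inv_of_sq c.zz]

theorem conf2 [Finite G] {E : Subgroup G} (B : Big V T E z y x c) : ∃ C t, Conf2 V T E C z y x t c := by
  classical
  obtain ⟨d, hd1, hd2, hd3, hd4, hd5⟩ := c.exists_d
  have hd : DD V z y x d := ⟨hd1, hd2, hd3, hd4, hd5⟩
  have X := Cnf.ex c
  have zz := c.zz
  have b := c.bas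
  have zP : z ∈ c.P := c.VP b.hz
  set C := Cg E c with hC
  have memC : ∀ a, a ∈ C ↔ a ∈ c.P ∧ ∀ g ∈ E, g * a * g⁻¹ = a ∨ g * a * g⁻¹ = z * a := fun a => Iff.rfl
  have hCP : C ≤ c.P := fun a ha => ha.1
  have hzC : z ∈ C := ⟨zP, fun g hg => Or.inl (B.zE g hg)⟩
  have hCE : ∀ g ∈ E, ∀ a ∈ C, g * a * g⁻¹ ∈ C := by
    intro g hg a ha
    rcases ha.2 g hg with h | h
    · rw [h]; exact ha
    · rw [h]; exact C.mul_mem hzC ha
  have hdC : ∀ a ∈ C, d * a * d⁻¹ ∈ C := by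
    intro a ha
    refine ⟨c.P_conj hd.norm hd.dz ha.1, fun g hg => ?_⟩
    have hdi : d⁻¹ * z * d⁻¹⁻¹ = z := by
      have h1 := hd.dz
      have : d⁻¹ * (d * z * d⁻¹) * d⁻¹⁻¹ = z := by group
      rwa [h1] at this
    have h1 := B.norm d⁻¹ (inv_mem hd.norm) hdi g hg
    have h2 : g * (d * a * d⁻¹) * g⁻¹ = d * ((d⁻¹ * g * d⁻¹⁻¹) * a * (d⁻¹ * g * d⁻¹⁻¹)⁻¹) * d⁻¹ := by group
    rw [h2]
    rcases ha.2 _ h1 with h3 | h3
    · left; rw [h3]
    · right; rw [h3, conj_mul', hd.dz]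
  have hzpE : ∀ t ∈ E, ∀ b ∈ zpowers z, t * b * t⁻¹ ∈ zpowers z := by
    intro t ht b hb
    rw [mem_zpowers_two zz] at hb ⊢
    rcases hb with rfl | rfl
    · left; group
    · right; exact B.zE t ht
  have hcz := card_zpowers_two zz b.z1
  -- fixed points modulo `z`
  have hfix : ∀ {A : Subgroup G}, A ≤ c.P → z ∈ A → 2 < Nat.card A → (∀ t ∈ E, ∀ a ∈ A, t * a * t⁻¹ ∈ A) →
      ∃ a ∈ A, a ≠ 1 ∧ a ≠ z ∧ a ∈ C := by
    intro A hAP hzA hA2 hAE
    have hAtwo : IsPGroup 2 A := c.P_two.to_le hAP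
    obtain ⟨a, ha, haz, h⟩ := exists_fix B.two hAtwo (zpowers_le.2 hzA) (by
      intro h; rw [← h, hcz] at hA2; omega) hAE hzpE
    rw [mem_zpowers_two zz] at haz
    push Not at haz
    refine ⟨a, ha, haz.1, haz.2, hAP ha, fun g hg => ?_⟩
    have h1 := h g hg
    rw [mem_zpowers_two zz] at h1
    rcases h1 with h1 | h1
    · left
      rw [inv_mul_eq_one] at h1
      exact h1.symm
    · right
      rw [inv_mul_eq_iff_eq_mul] at h1
      rw [h1]
      exact (conj_eq_iff _ _ _).1 (hAP ha).2.1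
  obtain ⟨g0, hg0E, hg0P⟩ := B.ne
  -- a subgroup of `P` whose elements are fixed mod `z` cannot be `V`
  have hVC : ¬ V ≤ C := by
    intro h
    refine hg0P (B.inf g0 hg0E ?_)
    rw [mem_normalizer_iff]
    have h1 : ∀ g ∈ E, ∀ v ∈ V, g * v * g⁻¹ ∈ V := by
      intro g hg v hv
      rcases (h hv).2 g hg with h2 | h2
      · rw [h2]; exact hv
      · rw [h2]; exact V.mul_mem b.hz hv
    intro v
    refine ⟨h1 g0 hg0E v, fun hv => ?_⟩
    have h2 := h1 g0⁻¹ (E.inv_mem hg0E) _ hv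
    have h3 : g0⁻¹ * (g0 * v * g0⁻¹) * g0⁻¹⁻¹ = v := by group
    rwa [h3] at h2
  -- order of `C`
  have hC8 : Nat.card C = 8 := by
    obtain ⟨m, hm, hm3⟩ := relIndex_of (c := c) hd hCP hzC hdC
    have h1 : Nat.card C ∣ 32 := X.card ▸ Subgroup.card_dvd_of_le hCP
    have h2 : Nat.card C ≠ 32 := by
      intro h2
      have h3 : C = c.P := Subgroup.eq_of_le_of_card_ge hCP (by rw [h2]; exact X.card.le)
      exact hVC (by rw [h3]; exact c.VP)
    have h3 : Nat.card C ≠ 2 := by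
      intro h3
      obtain ⟨a, ha, ha1, haz, haC⟩ := hfix le_rfl zP (by rw [X.card]; norm_num) B.normP
      have h4 : zpowers z = C := Subgroup.eq_of_le_of_card_ge (zpowers_le.2 hzC) (by rw [h3, hcz])
      rw [← h4, mem_zpowers_two zz] at haC
      rcases haC with h | h
      · exact ha1 h
      · exact haz h
    rw [hm] at h1 h2 h3 ⊢
    have h4 : m ∣ 16 := by
      have : 2 * m ∣ 2 * 16 := h1
      exact Nat.dvd_of_mul_dvd_mul_left (by norm_num) this
    have h5 : m ∈ Nat.divisors 16 := Nat.mem_divisors.2 ⟨h4, by norm_num⟩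
    have h6 : Nat.divisors 16 = {1, 2, 4, 8, 16} := by decide
    rw [h6] at h5
    simp only [Finset.mem_insert, Finset.mem_singleton] at h5
    have h7 : m % 3 = 1 := hm3
    omega
  -- an element of `C` outside `⟨z⟩`
  obtain ⟨a, haC, ha1, haz⟩ := exists_pick2 (C := C) (by rw [hC8]; norm_num) 1 z
  have hgen : ∀ {a : G}, a ∈ C → a ≠ 1 → a ≠ z → ∀ {S : Subgroup G}, S ≤ C → z ∈ S → a ∈ S →
      d * a * d⁻¹ ∈ S → S = C := by
    intro a haC ha1 haz S hS hz ha hda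
    have hcz' : a * z = z * a := (conj_eq_iff _ _ _).1 (hCP haC).2.1
    refine eq_of_three hC8 hS hz ha hda zz b.z1 ha1 haz ?_ ?_ ?_ ?_
    · intro h; exact ha1 (conj_inj (g := d) (by rw [h]; group))
    · intro h; exact haz (conj_inj (g := d) (by rw [h, hd.dz]))
    · intro h
      rcases fpfP (c := c) hd (hCP haC) (Or.inl h) with h1 | h1
      · exact ha1 h1
      · exact haz h1
    · intro h
      rcases fpfP (c := c) hd (hCP haC) (Or.inr (by rw [h, hcz'])) with h1 | h1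
      · exact ha1 h1
      · exact haz h1
  -- `C` is abelian
  have hCab : ∀ a ∈ C, ∀ b ∈ C, a * b = b * a := by
    set D : Subgroup G := c.P ⊓ centralizer (C : Set G) with hD
    have hDE : ∀ t ∈ E, ∀ q ∈ D, t * q * t⁻¹ ∈ D := by
      intro t ht q hq
      refine mem_inf.2 ⟨B.normP t ht q (mem_inf.1 hq).1, ?_⟩
      rw [mem_centralizer_iff]
      intro k hk
      have h1 := hCE t⁻¹ (E.inv_mem ht) k hk
      have h2 := mem_centralizer_iff.1 (mem_inf.1 hq).2 _ h1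
      calc k * (t * q * t⁻¹) = t * ((t⁻¹ * k * t⁻¹⁻¹) * q) * t⁻¹ := by group
        _ = t * (q * (t⁻¹ * k * t⁻¹⁻¹)) * t⁻¹ := by rw [h2]
        _ = t * q * t⁻¹ * k := by group
    have hzD : z ∈ D := mem_inf.2 ⟨zP, mem_centralizer_iff.2 fun k hk => (X.zc k (hCP hk))⟩
    -- order of `D`
    have hD8 : 8 ≤ Nat.card D := by
      set a' := d * a * d⁻¹ with ha'
      have ha'C : a' ∈ C := hdC a haC
      have h1 := X.card_cent (K := c.P) le_rfl (hCP haC)
      have h2 := X.card_cent (K := c.P ⊓ centralizer ({a} : Set G)) inf_le_left (hCP ha'C)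
      have h3 : c.P ⊓ centralizer ({a} : Set G) ⊓ centralizer ({a'} : Set G) ≤ D := by
        intro q hq
        have hqP := (mem_inf.1 (mem_inf.1 hq).1).1
        have e1 := mem_centralizer_singleton_iff.1 (mem_inf.1 (mem_inf.1 hq).1).2
        have e2 := mem_centralizer_singleton_iff.1 (mem_inf.1 hq).2
        refine mem_inf.2 ⟨hqP, ?_⟩
        have h4 : C ⊓ centralizer ({q} : Set G) = C := by
          refine hgen haC ha1 haz inf_le_left (mem_inf.2 ⟨hzC, ?_⟩) (mem_inf.2 ⟨haC, ?_⟩)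
            (mem_inf.2 ⟨ha'C, ?_⟩) <;> rw [mem_centralizer_singleton_iff]
          · exact (X.zc q hqP).symm
          · exact e1.symm
          · exact e2.symm
        rw [mem_centralizer_iff]
        intro k hk
        rw [SetLike.mem_coe, ← h4] at hk
        exact mem_centralizer_singleton_iff.1 (mem_inf.1 hk).2
      have h4 := Subgroup.card_le_of_le h3
      rw [X.card] at h1
      omega
    obtain ⟨q, hq, hq1, hqz, hqC⟩ := hfix (A := D) inf_le_left hzD (by omega) hDE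
    -- `Z(C)`
    set Z : Subgroup G := C ⊓ centralizer (C : Set G) with hZ
    have hZd : ∀ a ∈ Z, d * a * d⁻¹ ∈ Z := by
      intro a ha
      refine mem_inf.2 ⟨hdC a (mem_inf.1 ha).1, mem_centralizer_iff.2 fun k hk => ?_⟩
      -- `d⁻¹ k d ∈ C`
      have hdi : d⁻¹ * k * d ∈ C := by
        have h1 := hdC _ (hdC k hk)
        have h2 : d * (d * k * d⁻¹) * d⁻¹ = d⁻¹ * (d ^ 3 * k * (d ^ 3)⁻¹) * d := by
          simp only [pow_succ, pow_zero]; group
        rw [h2, hd.three] at h1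
        simpa using h1
      have h2 := mem_centralizer_iff.1 (mem_inf.1 ha).2 _ hdi
      calc k * (d * a * d⁻¹) = d * ((d⁻¹ * k * d) * a) * d⁻¹ := by group
        _ = d * (a * (d⁻¹ * k * d)) * d⁻¹ := by rw [h2]
        _ = d * a * d⁻¹ * k := by group
    have hqZ : q ∈ Z := mem_inf.2 ⟨hqC, (mem_inf.1 hq).2⟩
    have hzZ : z ∈ Z := mem_inf.2 ⟨hzC, (mem_inf.1 hzD).2⟩
    have hZC : Z = C := hgen hqC hq1 hqz inf_le_left hzZ hqZ (hZd q hqZ)
    intro a ha b' hb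
    rw [← hZC] at ha
    exact (mem_centralizer_iff.1 (mem_inf.1 ha).2 b' hb).symm
  -- `C` is elementary abelian
  have hCsq : ∀ a ∈ C, a * a = 1 := by
    obtain ⟨a', ha'C, ha'1, ha'z, ha'sq⟩ : ∃ a' ∈ C, a' ≠ 1 ∧ a' ≠ z ∧ a' * a' = 1 := by
      rcases sqP (c := c) (hCP haC) with h | h
      · exact ⟨a, haC, ha1, haz, h⟩
      have hda := hdC a haC
      have e1 : (d * a * d⁻¹) * (d * a * d⁻¹) = z := by rw [← conj_mul', h, hd.dz]
      have e2 := hCab a haC _ hda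
      refine ⟨a * (d * a * d⁻¹), C.mul_mem haC hda, ?_, ?_, ?_⟩
      · intro h1
        -- `d a d⁻¹ = a⁻¹ = z a`
        have h2 : d * a * d⁻¹ = z * a := by
          have h3 : d * a * d⁻¹ = a⁻¹ := eq_inv_of_mul_eq_one_right h1
          rw [h3, inv_eq_iff_mul_eq_one, ← mul_assoc, (conj_eq_iff _ _ _).1 (hCP haC).2.1, mul_assoc, h, zz]
        rcases fpfP (c := c) hd (hCP haC) (Or.inr h2) with h3 | h3
        · exact ha1 h3
        · exact haz h3
      · intro h1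
        have h2 : d * a * d⁻¹ = a := by
          rw [← h] at h1
          exact mul_left_cancel h1
        rcases fpfP (c := c) hd (hCP haC) (Or.inl h2) with h3 | h3
        · exact ha1 h3
        · exact haz h3
      · calc a * (d * a * d⁻¹) * (a * (d * a * d⁻¹)) = a * ((d * a * d⁻¹) * a) * (d * a * d⁻¹) := by group
          _ = (a * a) * ((d * a * d⁻¹) * (d * a * d⁻¹)) := by rw [← e2]; group
          _ = 1 := by rw [h, e1, zz]
    let S : Subgroup G :=
      { carrier := {a | a ∈ C ∧ a * a = 1}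
        one_mem' := ⟨C.one_mem, one_mul 1⟩
        mul_mem' := by
          rintro a b ⟨ha, ha'⟩ ⟨hb, hb'⟩
          refine ⟨C.mul_mem ha hb, ?_⟩
          have := hCab a ha b hb
          calc a * b * (a * b) = a * (b * a) * b := by group
            _ = (a * a) * (b * b) := by rw [← this]; group
            _ = 1 := by rw [ha', hb', one_mul]
        inv_mem' := by
          rintro a ⟨ha, ha'⟩
          refine ⟨C.inv_mem ha, ?_⟩
          rw [inv_of_sq ha']; exact ha' }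
    have hSC : S = C := by
      refine hgen ha'C ha'1 ha'z (fun a ha => ha.1) ⟨hzC, zz⟩ ⟨ha'C, ha'sq⟩ ⟨hdC a' ha'C, ?_⟩
      rw [← conj_mul', ha'sq]; group
    intro a ha
    rw [← hSC] at ha
    exact ha.2
  have e8C : E8 c.P z C := ⟨hCP, hC8, hzC, hCsq⟩
  have e8V : E8 c.P z V := ⟨c.VP, c.hyp.card, b.hz, c.hyp.sq⟩
  -- `C ∩ V`
  have hCV : ∀ a ∈ C, a ∈ V → a = 1 ∨ a = z := by
    intro a ha haV
    by_contra hcon
    push Not at hcon
    have h1 : C ⊓ V = C := hgen ha hcon.1 hcon.2 inf_le_left (mem_inf.2 ⟨hzC, b.hz⟩) (mem_inf.2 ⟨ha, haV⟩)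
      (mem_inf.2 ⟨hdC a ha, mem_norm hd.norm haV⟩)
    have h2 : C ≤ V := inf_eq_left.1 h1
    have h3 : C = V := Subgroup.eq_of_le_of_card_ge h2 (by rw [hC8, c.hyp.card])
    exact hVC h3.ge
  -- conjugates of `V` under `E - P`
  have hself : ∀ r : G, ∀ p : G, (∀ a ∈ cj r V, p * a = a * p) → p ∈ cj r V := by
    intro r p hp
    rw [mem_cj]
    refine c.hyp.cent _ fun v hv => ?_
    have h1 := hp _ (conj_mem_cj hv)
    calc r⁻¹ * p * r * v = r⁻¹ * (p * (r * v * r⁻¹)) * r := by group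
      _ = r⁻¹ * (r * v * r⁻¹ * p) * r := by rw [h1]
      _ = v * (r⁻¹ * p * r) := by group
  have e8r : ∀ r ∈ E, E8 c.P z (cj r V) := by
    intro r hr
    refine ⟨?_, by rw [card_cj, c.hyp.card], ?_, ?_⟩
    · rintro _ ⟨v, hv, rfl⟩
      exact B.normP r hr v (c.VP hv)
    · rw [mem_cj]
      have h1 := B.zE r⁻¹ (E.inv_mem hr)
      rw [inv_inv] at h1
      rw [h1]; exact b.hz
    · rintro _ ⟨v, hv, rfl⟩
      show (r * v * r⁻¹) * (r * v * r⁻¹) = 1
      rw [← conj_mul', c.hyp.sq v hv]; group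
  have hrC : ∀ r ∈ E, ∀ g ∈ cj r V, g ∈ C → g = 1 ∨ g = z := by
    intro r hr g hg hgC
    rw [mem_cj] at hg
    have h1 := hCE r⁻¹ (E.inv_mem hr) g hgC
    rw [inv_inv] at h1
    rcases hCV _ h1 hg with h2 | h2
    · left
      have : g = r * (r⁻¹ * g * r) * r⁻¹ := by group
      rw [this, h2]; group
    · right
      have : g = r * (r⁻¹ * g * r) * r⁻¹ := by group
      rw [this, h2, B.zE r hr]
  have hnorm : ∀ r : G, cj r V ≤ V → r ∈ normalizer (V : Set G) := by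
    intro r h
    have h1 : cj r V = V := Subgroup.eq_of_le_of_card_ge h (by rw [card_cj])
    rw [mem_normalizer_iff]
    intro v
    constructor
    · intro hv
      exact h (conj_mem_cj hv)
    · intro hv
      rw [← h1, mem_cj] at hv
      have : r⁻¹ * (r * v * r⁻¹) * r = v := by group
      rwa [this] at hv
  have hrV : ∀ r ∈ E, r ∉ c.P → ∀ g ∈ cj r V, g ∈ V → g = 1 ∨ g = z := by
    intro r hr hrP g hg hgV
    by_contra hcon
    push Not at hcon
    have h1 : Nat.card (cj r V ⊓ V : Subgroup G) ∣ 8 := c.hyp.card ▸ Subgroup.card_dvd_of_le inf_le_right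
    have h2 : Nat.card (cj r V ⊓ V : Subgroup G) ≠ 8 := by
      intro h2
      have h3 : cj r V ⊓ V = cj r V := Subgroup.eq_of_le_of_card_ge inf_le_left (by
        rw [h2, card_cj, c.hyp.card])
      exact hrP (B.inf r hr (hnorm r (inf_eq_left.1 h3)))
    have h3 : 2 < Nat.card (cj r V ⊓ V : Subgroup G) := by
      by_contra h3
      have h4 : zpowers z = cj r V ⊓ V := Subgroup.eq_of_le_of_card_ge
        (zpowers_le.2 (mem_inf.2 ⟨(e8r r hr).hz, b.hz⟩)) (by rw [hcz]; omega)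
      have h5 : g ∈ zpowers z := by rw [h4]; exact mem_inf.2 ⟨hg, hgV⟩
      rw [mem_zpowers_two zz] at h5
      rcases h5 with h5 | h5
      · exact hcon.1 h5
      · exact hcon.2 h5
    have h4 : Nat.card (cj r V ⊓ V : Subgroup G) = 4 := by
      rcases eight_cases h1 with h | h | h | h <;> omega
    obtain ⟨k, hk, hk1, hkz, hk'⟩ := X.lemmaA (e8r r hr) e8V e8C h4 (fun p _ h => hself r p h)
    rcases hk' with h5 | h5
    · rcases hrC r hr k h5 hk with h6 | h6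
      · exact hk1 h6
      · exact hkz h6
    · rcases hCV k hk h5 with h6 | h6
      · exact hk1 h6
      · exact hkz h6
  refine ⟨C, g0, B.PE, B.zE, hg0E, hg0P, ?_, B.normP, B.inf,
    fun g hg k hk => B.norm g (c.TN hg) (c.Tz g hg) k hk, e8C, fun g hg a ha => ha.2 g hg,
    fun a ha h => ⟨ha, h⟩, hCV, ?_⟩
  · intro g hg hgP
    have h1 : cj g V ≤ cj g0 V := X.lemmaB e8V e8C (e8r g hg) (e8r g0 hg0E) (fun k h1 h2 => hCV k h2 h1)
      (hrV g hg hgP) (hrC g hg) (hrV g0 hg0E hg0P) (hrC g0 hg0E)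
    refine B.inf _ (E.mul_mem (E.inv_mem hg0E) hg) (hnorm _ ?_)
    rintro _ ⟨v, hv, rfl⟩
    have h2 := h1 (conj_mem_cj hv)
    rw [mem_cj] at h2
    show (g0⁻¹ * g) * v * (g0⁻¹ * g)⁻¹ ∈ V
    have h3 : (g0⁻¹ * g) * v * (g0⁻¹ * g)⁻¹ = g0⁻¹ * (g * v * g⁻¹) * g0 := by group
    rw [h3]; exact h2
  · intro v hv hgv
    rcases hrV g0 hg0E hg0P _ (conj_mem_cj hv) hgv with h1 | h1
    · left
      exact conj_inj (g := g0) (by rw [h1]; group)
    · right
      exact conj_inj (g := g0) (by rw [h1, B.zE g0 hg0E])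

end Cfsg.Agent.GH.C2GrowL3D
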