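import Cfsg.Agent.GH.C2GrowL3D

/-!
# GH-C2, growth, `M/V = L₃(2)`: the elementary abelian group `F` of order 16
-/

set_option autoImplicit false

namespace Cfsg.Agent.GH.C2GrowL3F

open Subgroup Cfsg.Agent.GH.C2GrowL3Base Cfsg.Agent.GH.C2GrowL3V Cfsg.Agent.GH.C2GrowL3P
  Cfsg.Agent.GH.C2GrowL3X Cfsg.Agent.GH.C2GrowL3C Cfsg.Agent.GH.C2GrowL3D

variable {G : Type*} [Group G] {V T E C : Subgroup G} {z y x t : G} {c : Conf V T z y x}

theorem conj_inv_eq {g a : G} (h : g * a * g⁻¹ = a) : g⁻¹ * a * g⁻¹⁻¹ = a := by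
  have : g⁻¹ * (g * a * g⁻¹) * g⁻¹⁻¹ = a := by group
  rwa [h] at this

/-- `T ∪ t T` -/
def ext (T : Subgroup G) (t : G) (h2 : t * t ∈ T) (hn : ∀ g ∈ T, t * g * t⁻¹ ∈ T) : Subgroup G where
  carrier := {g | g ∈ T ∨ t⁻¹ * g ∈ T}
  one_mem' := Or.inl T.one_mem
  mul_mem' := by
    have hb' : ∀ y ∈ T, t⁻¹ * y * t ∈ T := fun y hy => by
      have h1 : t⁻¹ * y * t = (t * t)⁻¹ * (t * y * t⁻¹) * (t * t) := by group
      rw [h1]
      exact T.mul_mem (T.mul_mem (T.inv_mem h2) (hn y hy)) h2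
    rintro g h (hg | hg) (hh | hh)
    · exact Or.inl (T.mul_mem hg hh)
    · right
      have h1 : t⁻¹ * (g * h) = (t⁻¹ * g * t) * (t⁻¹ * h) := by group
      rw [h1]
      exact T.mul_mem (hb' g hg) hh
    · right
      have h1 : t⁻¹ * (g * h) = (t⁻¹ * g) * h := by group
      rw [h1]
      exact T.mul_mem hg hh
    · left
      have h1 : g * h = (t * (t⁻¹ * g) * t⁻¹) * (t * t) * (t⁻¹ * h) := by group
      rw [h1]
      exact T.mul_mem (T.mul_mem (hn _ hg) h2) hh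
  inv_mem' := by
    have hb' : ∀ y ∈ T, t⁻¹ * y * t ∈ T := fun y hy => by
      have h1 : t⁻¹ * y * t = (t * t)⁻¹ * (t * y * t⁻¹) * (t * t) := by group
      rw [h1]
      exact T.mul_mem (T.mul_mem (T.inv_mem h2) (hn y hy)) h2
    rintro g (hg | hg)
    · exact Or.inl (T.inv_mem hg)
    · right
      have h1 : t⁻¹ * g⁻¹ = t⁻¹ * (t⁻¹ * g)⁻¹ * t * (t * t)⁻¹ := by group
      rw [h1]
      exact T.mul_mem (hb' _ (T.inv_mem hg)) (T.inv_mem h2)

theorem mem_ext {T : Subgroup G} {t : G} {h2 : t * t ∈ T} {hn : ∀ g ∈ T, t * g * t⁻¹ ∈ T} {g : G} :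
    g ∈ ext T t h2 hn ↔ g ∈ T ∨ t⁻¹ * g ∈ T := Iff.rfl

namespace Conf2

variable (h : Conf2 V T E C z y x t c)
include h

theorem tz : t * z * t⁻¹ = z := h.zE t h.tE

theorem tt : t * t ∈ c.P := by
  by_contra h1
  have h2 := h.idx _ (E.mul_mem h.tE h.tE) h1
  rw [inv_mul_cancel_left] at h2
  exact h.tP h2

theorem ET [Finite G] : ∀ g ∈ E, ∀ k ∈ T, g * k * g⁻¹ ∈ T := by
  have key : ∀ k ∈ T, t * k * t⁻¹ ∈ T := by
    intro k hk
    have h1 : k * t * k⁻¹ ∈ E := h.TE k hk t h.tE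
    have h2 : k * t * k⁻¹ ∉ c.P := by
      intro h3
      apply h.tP
      have h4 := c.P_conj (c.TN (T.inv_mem hk)) (c.Tz _ (T.inv_mem hk)) h3
      have h5 : k⁻¹ * (k * t * k⁻¹) * k⁻¹⁻¹ = t := by group
      rwa [h5] at h4
    have h3 := h.normP t h.tE _ (c.P.inv_mem (h.idx _ h1 h2))
    have h4 : t * k * t⁻¹ = (t * (t⁻¹ * (k * t * k⁻¹))⁻¹ * t⁻¹) * k := by group
    rw [h4]
    exact T.mul_mem (c.PT h3) hk
  intro g hg k hk
  by_cases hgP : g ∈ c.P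
  · exact T.mul_mem (T.mul_mem (c.PT hgP) hk) (T.inv_mem (c.PT hgP))
  · have h1 := c.PT (h.idx g hg hgP)
    have h2 : g * k * g⁻¹ = t * ((t⁻¹ * g) * k * (t⁻¹ * g)⁻¹) * t⁻¹ := by group
    rw [h2]
    exact key _ (T.mul_mem (T.mul_mem h1 hk) (T.inv_mem h1))

omit h in
theorem e8V [Finite G] (c : Conf V T z y x) : E8 c.P z V := ⟨c.VP, c.hyp.card, c.bas.hz, c.hyp.sq⟩

theorem e8V' [Finite G] : E8 c.P z (cj t V) := by
  refine ⟨?_, by rw [card_cj, c.hyp.card], ?_, ?_⟩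
  · rintro _ ⟨v, hv, rfl⟩
    exact h.normP t h.tE v (c.VP hv)
  · rw [mem_cj]
    have h1 := conj_inv_eq (tz h)
    rw [inv_inv] at h1
    rw [h1]; exact c.bas.hz
  · rintro _ ⟨v, hv, rfl⟩
    show (t * v * t⁻¹) * (t * v * t⁻¹) = 1
    rw [← conj_mul', c.hyp.sq v hv]; group

theorem VV' [Finite G] : ∀ g ∈ V, g ∈ cj t V → g = 1 ∨ g = z := by
  intro g hg hg'
  obtain ⟨v, hv, rfl⟩ := hg'
  have h1 : t * v * t⁻¹ ∈ V := hg
  show t * v * t⁻¹ = 1 ∨ t * v * t⁻¹ = z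
  rcases h.Vt v hv h1 with h2 | h2
  · left; rw [h2]; group
  · right; rw [h2, tz h]

/-- `P = V V^t` -/
theorem exists_vw [Finite G] {p : G} (hp : p ∈ c.P) : ∃ v ∈ V, ∃ w ∈ V, p = v * (t * w * t⁻¹) := by
  have X := Cnf.ex c
  obtain ⟨a, ha, b, hb, hab⟩ := exists_mul_of_card (e8V c).le (e8V' h).le (by
    rw [X.card, (e8V c).card, (e8V' h).card]
    have : Nat.card (V ⊓ cj t V : Subgroup G) ≤ 2 := by
      rw [← card_zpowers_two X.zz X.z1]
      refine Subgroup.card_le_of_le fun g hg => ?_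
      rw [mem_zpowers_two X.zz]
      exact VV' h g (mem_inf.1 hg).1 (mem_inf.1 hg).2
    omega) hp
  obtain ⟨w, hw, rfl⟩ := hb
  exact ⟨a, ha, w, hw, hab⟩

/-- `v v^t ∈ C` -/
theorem dual [Finite G] {v : G} (hv : v ∈ V) : v * (t * v * t⁻¹) ∈ C := by
  have X := Cnf.ex c
  have hvP := c.VP hv
  have hwP : t * v * t⁻¹ ∈ c.P := h.normP t h.tE v hvP
  have hzV := c.bas.hz
  obtain ⟨v1, hv1, c1, hc1, h1⟩ := exists_mul_of_card (e8V c).le h.e8.le (by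
    rw [X.card, (e8V c).card, h.e8.card]
    have : Nat.card (V ⊓ C : Subgroup G) ≤ 2 := by
      rw [← card_zpowers_two X.zz X.z1]
      refine Subgroup.card_le_of_le fun g hg => ?_
      rw [mem_zpowers_two X.zz]
      exact h.CV g (mem_inf.1 hg).2 (mem_inf.1 hg).1
    omega) hwP
  have hv1P := c.VP hv1
  have haP : t * v1 * t⁻¹ ∈ c.P := h.normP t h.tE v1 hv1P
  -- `v = (t v1 t⁻¹) v1 (t v t⁻¹)` mod `z`
  have hc1' : c1 = v1 * (t * v * t⁻¹) := by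
    rw [h1, ← mul_assoc, c.hyp.sq v1 hv1, one_mul]
  have h2 : t * (t * v * t⁻¹) * t⁻¹ = (t * v1 * t⁻¹) * (t * c1 * t⁻¹) := by rw [h1]; group
  have h3 : t * (t * v * t⁻¹) * t⁻¹ ∈ V := by
    have h4 : t * (t * v * t⁻¹) * t⁻¹ = (t * t) * v * (t * t)⁻¹ := by group
    rw [h4]
    exact mem_norm (tt h).1 hv
  have hz1 : ∀ g : G, z * g ∈ V → g ∈ V := fun g hg => by
    have := V.mul_mem hzV hg
    rwa [← mul_assoc, c.zz, one_mul] at this
  -- `(t v1 t⁻¹) c1 ∈ V`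
  have h5 : (t * v1 * t⁻¹) * c1 ∈ V := by
    rw [h2] at h3
    rcases h.CE t h.tE c1 hc1 with h6 | h6
    · rw [h6] at h3; exact h3
    · rw [h6, ← mul_assoc, X.zc _ haP, mul_assoc] at h3
      exact hz1 _ h3
  have h6 : t * (v1 * v) * t⁻¹ ∈ V := by
    rw [conj_mul']
    rw [hc1', ← mul_assoc] at h5
    have h7 : v1 * ((t * v1 * t⁻¹) * (t * v * t⁻¹)) ∈ V := by
      rcases X.comm _ haP v1 hv1P with h8 | h8
      · rw [h8] at h5
        rwa [← mul_assoc]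
      · rw [h8] at h5
        have h9 : z * (v1 * (t * v1 * t⁻¹)) * (t * v * t⁻¹) = z * (v1 * ((t * v1 * t⁻¹) * (t * v * t⁻¹))) := by
          group
        rw [h9] at h5
        exact hz1 _ h5
    have h8 := V.mul_mem hv1 h7
    rwa [← mul_assoc, c.hyp.sq v1 hv1, one_mul] at h8
  rcases h.Vt _ (V.mul_mem hv1 hv) h6 with h7 | h7
  · have h8 : v1 = v := by
      rw [← inv_of_sq (c.hyp.sq v hv)]
      exact eq_inv_of_mul_eq_one_left h7
    rw [← h8, h8, ← h8]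
    rw [h8] at hc1'
    rw [h8, ← hc1']
    exact hc1
  · have h8 : v1 = z * v := by
      rw [← h7, mul_assoc, c.hyp.sq v hv, mul_one]
    have h9 : v * (t * v * t⁻¹) = z * c1 := by
      rw [hc1', h8]
      calc v * (t * v * t⁻¹) = (z * z) * (v * (t * v * t⁻¹)) := by rw [c.zz, one_mul]
        _ = z * (z * v * (t * v * t⁻¹)) := by group
    rw [h9]
    exact C.mul_mem h.e8.hz hc1

/-- `[v, v^t] = 1` -/
theorem comm_vt [Finite G] {v : G} (hv : v ∈ V) : v * (t * v * t⁻¹) = (t * v * t⁻¹) * v := by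
  refine comm_of_three (c.hyp.sq v hv) ?_ (h.e8.sq _ (dual h hv))
  rw [← conj_mul', c.hyp.sq v hv]; group

/-- `[y, x^t] = z` -/
theorem comm_yx' [Finite G] : y * (t * x * t⁻¹) = z * ((t * x * t⁻¹) * y) := by
  have X := Cnf.ex c
  have b := c.bas
  have hyP := c.VP b.hy
  have hx'P := h.normP t h.tE x (c.VP b.hx)
  refine (X.comm y hyP _ hx'P).resolve_left fun h1 => ?_
  have hall : ∀ p ∈ c.P, y * p = p * y := by
    intro p hp
    obtain ⟨v, hv, w, hw, rfl⟩ := exists_vw h hp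
    have h3 : y * (t * w * t⁻¹) = (t * w * t⁻¹) * y := by
      have hyy' := comm_vt h b.hy
      have hyz' : y * (t * z * t⁻¹) = (t * z * t⁻¹) * y := by rw [tz h, c.hyp.comm b.hy b.hz]
      have hmul : ∀ a b : G, y * (t * a * t⁻¹) = (t * a * t⁻¹) * y → y * (t * b * t⁻¹) = (t * b * t⁻¹) * y →
          y * (t * (a * b) * t⁻¹) = (t * (a * b) * t⁻¹) * y := by
        intro a b h4 h5
        rw [conj_mul']
        calc y * ((t * a * t⁻¹) * (t * b * t⁻¹)) = (y * (t * a * t⁻¹)) * (t * b * t⁻¹) := by group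
          _ = (t * a * t⁻¹) * (y * (t * b * t⁻¹)) := by rw [h4]; group
          _ = (t * a * t⁻¹) * (t * b * t⁻¹) * y := by rw [h5]; group
      rcases c.hyp.mem b hw with h4 | h4 | h4 | h4 | h4 | h4 | h4 | h4 <;> subst h4
      · group
      · exact hyz'
      · exact hyy'
      · exact hmul _ _ hyz' hyy'
      · exact h1
      · exact hmul _ _ hyz' h1
      · exact hmul _ _ hyy' h1
      · exact hmul _ _ (hmul _ _ hyz' hyy') h1
    calc y * (v * (t * w * t⁻¹)) = (y * v) * (t * w * t⁻¹) := by group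
      _ = v * (y * (t * w * t⁻¹)) := by rw [c.hyp.comm b.hy hv]; group
      _ = v * (t * w * t⁻¹) * y := by rw [h3]; group
  rcases X.cen y hyP hall with h2 | h2
  · exact b.y1 h2
  · exact b.yz h2

/-- `[x, y^t] = z` -/
theorem comm_xy' [Finite G] : x * (t * y * t⁻¹) = z * ((t * y * t⁻¹) * x) := by
  have X := Cnf.ex c
  have b := c.bas
  have hxP := c.VP b.hx
  have hy'P := h.normP t h.tE y (c.VP b.hy)
  have hx'P := h.normP t h.tE x (c.VP b.hx)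
  have h1 := comm_yx' h
  refine (X.comm x hxP _ hy'P).resolve_left fun h2 => ?_
  -- `[y x, y^t x^t] = 1`
  have h3 := comm_vt h (V.mul_mem b.hy b.hx)
  have hyy' := comm_vt h b.hy
  have hxx' := comm_vt h b.hx
  rw [conj_mul'] at h3
  set y' := t * y * t⁻¹ with hy'
  set x' := t * x * t⁻¹ with hx'
  have h4 : y * x * (y' * x') = z * (y' * x' * (y * x)) := by
    calc y * x * (y' * x') = y * (x * y') * x' := by group
      _ = (y * y') * (x * x') := by rw [h2]; group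
      _ = y' * (y * x') * x := by rw [hyy', hxx']; group
      _ = (y' * z) * (x' * y * x) := by rw [h1]; group
      _ = z * (y' * x' * (y * x)) := by rw [X.zc y' hy'P]; group
  rw [h4] at h3
  exact b.z1 (by simpa using h3)

end Conf2

/-- `F` -/
def Fg (T : Subgroup G) (y t : G) : Subgroup G :=
  T ⊓ centralizer ({y} : Set G) ⊓ centralizer ({t * y * t⁻¹} : Set G)

theorem mem_Fg {g : G} : g ∈ Fg T y t ↔ g ∈ T ∧ g * y * g⁻¹ = y ∧ g * (t * y * t⁻¹) * g⁻¹ = t * y * t⁻¹ := by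
  rw [Fg, mem_inf, mem_inf, mem_centralizer_singleton_iff, mem_centralizer_singleton_iff, conj_eq_iff,
    conj_eq_iff, and_assoc]

namespace Conf2

variable (h : Conf2 V T E C z y x t c)
include h

theorem zy' [Finite G] : z * (t * y * t⁻¹) = (t * y * t⁻¹) * z :=
  ((Cnf.ex c).zc _ (h.normP t h.tE y (c.VP c.bas.hy))).symm

theorem Ty' [Finite G] {g : G} (hg : g ∈ T) :
    g * (t * y * t⁻¹) * g⁻¹ = t * y * t⁻¹ ∨ g * (t * y * t⁻¹) * g⁻¹ = z * (t * y * t⁻¹) := by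
  have h1 := ET h t⁻¹ (E.inv_mem h.tE) g hg
  have h2 : g * (t * y * t⁻¹) * g⁻¹ = t * ((t⁻¹ * g * t⁻¹⁻¹) * y * (t⁻¹ * g * t⁻¹⁻¹)⁻¹) * t⁻¹ := by group
  rw [h2]
  rcases c.Ty _ h1 with h3 | h3
  · left; rw [h3]
  · right; rw [h3, conj_mul', tz h]

theorem normF [Finite G] {g f : G} (hg : g ∈ T) (hf : f ∈ Fg T y t) : g * f * g⁻¹ ∈ Fg T y t := by
  rw [mem_Fg] at hf ⊢
  obtain ⟨hf1, hf2, hf3⟩ := hf
  have hfz := c.Tz f hf1
  have key : ∀ u : G, (g⁻¹ * u * g⁻¹⁻¹ = u ∨ g⁻¹ * u * g⁻¹⁻¹ = z * u) → f * u * f⁻¹ = u →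
      g * f * g⁻¹ * u * (g * f * g⁻¹)⁻¹ = u := by
    intro u h1 h2
    have h3 : g * f * g⁻¹ * u * (g * f * g⁻¹)⁻¹ = g * (f * (g⁻¹ * u * g⁻¹⁻¹) * f⁻¹) * g⁻¹ := by group
    have h4 : f * (g⁻¹ * u * g⁻¹⁻¹) * f⁻¹ = g⁻¹ * u * g⁻¹⁻¹ := by
      rcases h1 with h1 | h1
      · rw [h1, h2]
      · rw [h1, conj_mul', hfz, h2]
    rw [h3, h4]; group
  exact ⟨T.mul_mem (T.mul_mem hg hf1) (T.inv_mem hg), key y (c.Ty _ (T.inv_mem hg)) hf2,
    key _ (Ty' h (T.inv_mem hg)) hf3⟩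

theorem tF [Finite G] {f : G} (hf : f ∈ Fg T y t) : t * f * t⁻¹ ∈ Fg T y t := by
  rw [mem_Fg] at hf ⊢
  obtain ⟨hf1, hf2, hf3⟩ := hf
  have hfz := c.Tz f hf1
  refine ⟨ET h t h.tE f hf1, ?_, ?_⟩
  · -- `t⁻¹ y t` is `t y t⁻¹` or `z (t y t⁻¹)`
    have h1 : t⁻¹ * y * t = t * y * t⁻¹ ∨ t⁻¹ * y * t = z * (t * y * t⁻¹) := by
      have h2 : t⁻¹ * y * t = t * (((t * t)⁻¹) * y * ((t * t)⁻¹)⁻¹) * t⁻¹ := by group
      rw [h2]
      rcases (c.P.inv_mem (tt h)).2.2 y c.bas.hy with h3 | h3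
      · left; rw [h3]
      · right; rw [h3, conj_mul', tz h]
    have h3 : t * f * t⁻¹ * y * (t * f * t⁻¹)⁻¹ = t * (f * (t⁻¹ * y * t) * f⁻¹) * t⁻¹ := by group
    have h4 : f * (t⁻¹ * y * t) * f⁻¹ = t⁻¹ * y * t := by
      rcases h1 with h1 | h1
      · rw [h1, hf3]
      · rw [h1, conj_mul', hfz, hf3]
    rw [h3, h4]; group
  · have h3 : t * f * t⁻¹ * (t * y * t⁻¹) * (t * f * t⁻¹)⁻¹ = t * (f * y * f⁻¹) * t⁻¹ := by group
    rw [h3, hf2]

theorem cardC2 [Finite G] : Nat.card (T ⊓ centralizer ({y} : Set G) : Subgroup G) = 32 ∧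
    Nat.card (Fg T y t) = 16 := by
  have X := Cnf.ex c
  have b := c.bas
  have hz1 : ∀ a : G, z * a = a → False := fun a ha => b.z1 (by simpa using ha)
  -- `x^t` moves `y`, `x` moves `y^t`
  have hx'T : t * x * t⁻¹ ∈ T := c.PT (h.normP t h.tE x (c.VP b.hx))
  have e1 : Nat.card T = 2 * Nat.card (T ⊓ centralizer ({y} : Set G) : Subgroup G) := by
    refine card_eq_two_mul inf_le_left (a := t * x * t⁻¹) hx'T ?_ ?_
    · intro h1
      have h2 := mem_centralizer_singleton_iff.1 (mem_inf.1 h1).2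
      have h3 := comm_yx' h
      rw [h2] at h3
      exact hz1 _ h3.symm
    · intro g hg hgy
      have h1 : g * y * g⁻¹ = z * y := (c.Ty g hg).resolve_left (fun h1 => hgy (mem_inf.2 ⟨hg, by
        rw [mem_centralizer_singleton_iff]; exact (conj_eq_iff _ _ _).1 h1⟩))
      refine mem_inf.2 ⟨T.mul_mem (T.inv_mem hx'T) hg, ?_⟩
      have h2 : (t * x * t⁻¹) * y * (t * x * t⁻¹)⁻¹ = z * y := by
        refine (c.Ty _ hx'T).resolve_left fun h3 => ?_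
        rw [conj_eq_iff] at h3
        have h4 := comm_yx' h
        rw [h3] at h4
        exact hz1 _ h4.symm
      rw [mem_centralizer_singleton_iff]
      calc (t * x * t⁻¹)⁻¹ * g * y = (t * x * t⁻¹)⁻¹ * (g * y * g⁻¹) * g := by group
        _ = (t * x * t⁻¹)⁻¹ * ((t * x * t⁻¹) * y * (t * x * t⁻¹)⁻¹) * g := by rw [h1, h2]
        _ = y * ((t * x * t⁻¹)⁻¹ * g) := by group
  have e2 : Nat.card (T ⊓ centralizer ({y} : Set G) : Subgroup G) = 2 * Nat.card (Fg T y t) := by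
    have hxC : x ∈ T ⊓ centralizer ({y} : Set G) :=
      mem_inf.2 ⟨c.PT (c.VP b.hx), mem_centralizer_singleton_iff.2 (c.hyp.comm b.hx b.hy)⟩
    have h2 : x * (t * y * t⁻¹) * x⁻¹ = z * (t * y * t⁻¹) := by
      rw [comm_xy' h]; group
    refine card_eq_two_mul inf_le_left (a := x) hxC ?_ ?_
    · intro h1
      rw [(mem_Fg.1 h1).2.2] at h2
      exact hz1 _ h2.symm
    · intro g hg hgy
      have h1 : g * (t * y * t⁻¹) * g⁻¹ = z * (t * y * t⁻¹) :=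
        (Ty' h (mem_inf.1 hg).1).resolve_left (fun h1 => hgy (mem_inf.2 ⟨hg, by
          rw [mem_centralizer_singleton_iff]; exact (conj_eq_iff _ _ _).1 h1⟩))
      refine mem_inf.2 ⟨mul_mem (inv_mem hxC) hg, ?_⟩
      rw [mem_centralizer_singleton_iff]
      calc x⁻¹ * g * (t * y * t⁻¹) = x⁻¹ * (g * (t * y * t⁻¹) * g⁻¹) * g := by group
        _ = x⁻¹ * (x * (t * y * t⁻¹) * x⁻¹) * g := by rw [h1, h2]
        _ = (t * y * t⁻¹) * (x⁻¹ * g) := by group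
  rw [c.cardT] at e1
  constructor <;> omega

theorem memF_z [Finite G] : z ∈ Fg T y t := by
  rw [mem_Fg]
  refine ⟨c.PT (c.VP c.bas.hz), ?_, ?_⟩
  · rw [conj_eq_iff, c.hyp.comm c.bas.hz c.bas.hy]
  · rw [conj_eq_iff, zy' h]

theorem memF_y [Finite G] : y ∈ Fg T y t := by
  rw [mem_Fg]
  refine ⟨c.PT (c.VP c.bas.hy), by group, ?_⟩
  rw [conj_eq_iff, comm_vt h c.bas.hy]

theorem memF_y' [Finite G] : t * y * t⁻¹ ∈ Fg T y t := tF h (memF_y h)

theorem y'_facts [Finite G] : t * y * t⁻¹ ≠ 1 ∧ t * y * t⁻¹ ≠ z ∧ t * y * t⁻¹ ≠ y ∧ t * y * t⁻¹ ≠ y * z := by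
  have b := c.bas
  have key : t * y * t⁻¹ ∉ V := by
    intro h1
    rcases h.Vt y b.hy h1 with h2 | h2
    · exact b.y1 h2
    · exact b.yz h2
  refine ⟨fun h1 => key ?_, fun h1 => key ?_, fun h1 => key ?_, fun h1 => key ?_⟩ <;> rw [h1]
  · exact V.one_mem
  · exact b.hz
  · exact b.hy
  · exact V.mul_mem b.hy b.hz

/-- `F ∩ P = ⟨z, y, y^t⟩` is central in `F` -/
theorem cardFP [Finite G] : Nat.card (Fg T y t ⊓ c.P : Subgroup G) = 8 := by
  have X := Cnf.ex c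
  have b := c.bas
  have hz1 : ∀ a : G, z * a = a → False := fun a ha => b.z1 (by simpa using ha)
  have e1 := X.card_cent_eq (c.VP b.hy) b.y1 b.yz
  have hy'P := h.normP t h.tE y (c.VP b.hy)
  have e2 : Nat.card (c.P ⊓ centralizer ({y} : Set G) : Subgroup G) =
      2 * Nat.card (Fg T y t ⊓ c.P : Subgroup G) := by
    have hxC : x ∈ c.P ⊓ centralizer ({y} : Set G) :=
      mem_inf.2 ⟨c.VP b.hx, mem_centralizer_singleton_iff.2 (c.hyp.comm b.hx b.hy)⟩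
    have hle : Fg T y t ⊓ c.P ≤ c.P ⊓ centralizer ({y} : Set G) := fun g hg =>
      mem_inf.2 ⟨(mem_inf.1 hg).2, by
        rw [mem_centralizer_singleton_iff]
        exact (conj_eq_iff _ _ _).1 (mem_Fg.1 (mem_inf.1 hg).1).2.1⟩
    have h2 : x * (t * y * t⁻¹) * x⁻¹ = z * (t * y * t⁻¹) := by
      rw [comm_xy' h]; group
    refine card_eq_two_mul hle (a := x) hxC ?_ ?_
    · intro h1
      rw [(mem_Fg.1 (mem_inf.1 h1).1).2.2] at h2
      exact hz1 _ h2.symm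
    · intro g hg hgy
      have hgP := (mem_inf.1 hg).1
      have hgT := c.PT hgP
      have h0 := mem_centralizer_singleton_iff.1 (mem_inf.1 hg).2
      have h1 : g * (t * y * t⁻¹) * g⁻¹ = z * (t * y * t⁻¹) :=
        (Ty' h hgT).resolve_left (fun h1 => hgy (mem_inf.2 ⟨mem_Fg.2 ⟨hgT, by
          rw [conj_eq_iff]; exact h0, h1⟩, hgP⟩))
      have h3 := mul_mem (inv_mem hxC) hg
      refine mem_inf.2 ⟨mem_Fg.2 ⟨c.PT (mem_inf.1 h3).1, ?_, ?_⟩, (mem_inf.1 h3).1⟩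
      · rw [conj_eq_iff]
        exact mem_centralizer_singleton_iff.1 (mem_inf.1 h3).2
      · rw [conj_eq_iff]
        calc x⁻¹ * g * (t * y * t⁻¹) = x⁻¹ * (g * (t * y * t⁻¹) * g⁻¹) * g := by group
          _ = x⁻¹ * (x * (t * y * t⁻¹) * x⁻¹) * g := by rw [h1, h2]
          _ = (t * y * t⁻¹) * (x⁻¹ * g) := by group
  omega

/-- a subgroup of `F ∩ P` containing `z`, `y`, `y^t` is `F ∩ P` -/
theorem eq_FP [Finite G] {S : Subgroup G} (hS : S ≤ Fg T y t ⊓ c.P) (hz : z ∈ S) (hy : y ∈ S)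
    (hy' : t * y * t⁻¹ ∈ S) : S = Fg T y t ⊓ c.P :=
  eq_of_three (cardFP h) hS hz hy hy' c.zz c.bas.z1 c.bas.y1 c.bas.yz (y'_facts h).1 (y'_facts h).2.1
    (y'_facts h).2.2.1 (y'_facts h).2.2.2

theorem commF [Finite G] {f g : G} (hf : f ∈ Fg T y t) (hg : g ∈ Fg T y t) : f * g = g * f := by
  have b := c.bas
  have hcen : ∀ f ∈ Fg T y t, ∀ k ∈ Fg T y t ⊓ c.P, f * k = k * f := by
    intro f hf k hk
    have h1 : (Fg T y t ⊓ c.P) ⊓ centralizer ({f} : Set G) = Fg T y t ⊓ c.P := by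
      refine eq_FP h inf_le_left (mem_inf.2 ⟨mem_inf.2 ⟨memF_z h, c.VP b.hz⟩, ?_⟩)
        (mem_inf.2 ⟨mem_inf.2 ⟨memF_y h, c.VP b.hy⟩, ?_⟩)
        (mem_inf.2 ⟨mem_inf.2 ⟨memF_y' h, h.normP t h.tE y (c.VP b.hy)⟩, ?_⟩) <;>
        rw [mem_centralizer_singleton_iff]
      · exact ((conj_eq_iff _ _ _).1 (c.Tz f (mem_Fg.1 hf).1)).symm
      · exact ((conj_eq_iff _ _ _).1 (mem_Fg.1 hf).2.1).symm
      · exact ((conj_eq_iff _ _ _).1 (mem_Fg.1 hf).2.2).symm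
    rw [← h1] at hk
    exact (mem_centralizer_singleton_iff.1 (mem_inf.1 hk).2).symm
  by_cases hfP : f ∈ Fg T y t ⊓ c.P
  · exact (hcen g hg f hfP).symm
  by_cases hgP : g ∈ Fg T y t ⊓ c.P
  · exact hcen f hf g hgP
  have h1 := inv_mul_mem_of_card (K := Fg T y t ⊓ c.P) (A := Fg T y t) inf_le_left
    (by rw [cardFP h, (cardC2 h).2]) hf hg hfP hgP
  have h2 := hcen f hf _ h1
  calc f * g = f * (f * (f⁻¹ * g)) := by group
    _ = f * (f⁻¹ * g * f) := by rw [h2]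
    _ = g * f := by group

/-- `C_F(x) = ⟨z, y⟩` -/
theorem cent_x [Finite G] {f : G} (hf : f ∈ Fg T y t) (hfx : f * x = x * f) :
    f ∈ V ∧ (f = 1 ∨ f = z ∨ f = y ∨ f = z * y) := by
  have b := c.bas
  have hf' := mem_Fg.1 hf
  have hfV : f ∈ V := c.hyp.mem_of_conj b (c.Tz f hf'.1) hf'.2.1 (by rw [conj_eq_iff]; exact hfx)
  refine ⟨hfV, ?_⟩
  have hz1 : ∀ a : G, z * a = a → False := fun a ha => b.z1 (by simpa using ha)
  -- `x` moves `y^t`
  have hx : ∀ u : G, u * (t * y * t⁻¹) * u⁻¹ = t * y * t⁻¹ → u * x ∉ Fg T y t := by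
    intro u hu h1
    have h2 := (mem_Fg.1 h1).2.2
    rw [conj_conj, show x * (t * y * t⁻¹) * x⁻¹ = z * (t * y * t⁻¹) by rw [comm_xy' h]; group, conj_mul', hu] at h2
    have h3 : u * z * u⁻¹ = 1 := mul_right_cancel (b := t * y * t⁻¹) (by rw [h2, one_mul])
    apply b.z1
    have : z = u⁻¹ * (u * z * u⁻¹) * u := by group
    rw [this, h3]; group
  have hzy' : z * (t * y * t⁻¹) * z⁻¹ = t * y * t⁻¹ := (mem_Fg.1 (memF_z h)).2.2
  have hyy' : y * (t * y * t⁻¹) * y⁻¹ = t * y * t⁻¹ := (mem_Fg.1 (memF_y h)).2.2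
  rcases c.hyp.mem b hfV with h1 | h1 | h1 | h1 | h1 | h1 | h1 | h1
  · exact Or.inl h1
  · exact Or.inr (Or.inl h1)
  · exact Or.inr (Or.inr (Or.inl h1))
  · exact Or.inr (Or.inr (Or.inr h1))
  · exfalso
    refine hx 1 (by group) ?_
    rw [one_mul, ← h1]; exact hf
  · exfalso
    refine hx z hzy' ?_
    rw [← h1]; exact hf
  · exfalso
    refine hx y hyy' ?_
    rw [← h1]; exact hf
  · exfalso
    refine hx (z * y) ?_ ?_
    · rw [conj_conj, hyy', hzy']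
    · rw [← h1]; exact hf

end Conf2

end Cfsg.Agent.GH.C2GrowL3F
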