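import Cfsg.Agent.GH.C2GrowL3A
import Cfsg.Agent.GH.C2SylPerm
import Cfsg.Agent.SectRankFour.C2.Par
import Cfsg.Agent.GH.C2KillT3

/-!
# GH-C2, growth, `M / O₂(M) = L₃(2)`: `2⁴ : 3² : D₈`

`main`: `K` finite solvable, `F = O₂(K) = 2⁴`, `C_K(F) = F`, `S1` a 2-subgroup of order 128 of `K`
containing `F` with `S1 / F` nonabelian.  Then `S1 ≅ 2 wr D₈` (`PcTypes.W8`), and `S1` is Sylow in `K`.
-/

set_option autoImplicit false

namespace Cfsg.Agent.GH.C2GrowL3K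

open Subgroup Cfsg

variable {G : Type*} [Group G]

/-- Fixed points of an element of order a power of `p`. -/
theorem card_modEq {p : ℕ} [hp : Fact p.Prime] (V : Subgroup G) [Finite V] {x : G} {m : ℕ}
    (hx : x ^ p ^ m = 1) (hn : ∀ v ∈ V, x * v * x⁻¹ ∈ V) :
    Nat.card V ≡ Nat.card (V ⊓ centralizer ({x} : Set G) : Subgroup G) [MOD p] := by
  classical
  have := Fintype.ofFinite V
  let g : Function.End V := fun v => ⟨x * v * x⁻¹, hn v v.2⟩
  have hg : ∀ n : ℕ, ∀ v : V, (((g ^ n) v : V) : G) = x ^ n * v * (x ^ n)⁻¹ := by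
    intro n
    induction n with
    | zero =>
      intro v
      rw [pow_zero, pow_zero]
      show (v : G) = 1 * v * 1⁻¹
      group
    | succ n ih =>
      intro v
      rw [pow_succ']
      show x * ((g ^ n) v : V) * x⁻¹ = _
      rw [ih, pow_succ']; group
  have hgp : g ^ p ^ m = 1 := by
    funext v
    apply Subtype.ext
    rw [hg, hx]
    show 1 * (v : G) * 1⁻¹ = v
    group
  have h1 := Equiv.Perm.card_fixedPoints_modEq hgp
  have h2 : Fintype.card g.fixedPoints =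
      Nat.card (V ⊓ centralizer ({x} : Set G) : Subgroup G) := by
    rw [← Nat.card_eq_fintype_card]
    refine Nat.card_congr ⟨fun v => ⟨v.1.1, v.1.2, ?_⟩, fun v => ⟨⟨v.1, v.2.1⟩, ?_⟩, ?_, ?_⟩
    · have h3 : x * v.1.1 * x⁻¹ = v.1.1 := congrArg Subtype.val v.2
      refine mem_centralizer_singleton_iff.mpr ?_
      calc (v.1.1 : G) * x = x * v.1.1 * x⁻¹ * x := by rw [h3]
        _ = x * v.1.1 := by group
    · apply Subtype.ext
      show x * v.1 * x⁻¹ = v.1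
      have h3 := mem_centralizer_singleton_iff.mp v.2.2
      rw [← h3]; group
    · intro v; rfl
    · intro v; rfl
  rw [← h2, Nat.card_eq_fintype_card]
  exact h1

/-- An element of 2-power order which commutes with an element of order 3 acting without fixed points on a
four-group `E` centralises `E`. -/
theorem fix_four {E : Subgroup G} (hE : Nat.card E = 4) {x b : G} {m : ℕ} (hx : x ^ 2 ^ m = 1)
    (hxb : x * b = b * x) (hxE : ∀ e ∈ E, x * e * x⁻¹ ∈ E) (hbE : ∀ e ∈ E, b * e * b⁻¹ ∈ E)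
    (hfp : ∀ e ∈ E, e * b = b * e → e = 1) : ∀ e ∈ E, x * e = e * x := by
  have h2f : Fact (Nat.Prime 2) := ⟨Nat.prime_two⟩
  have hfin : Finite E := Nat.finite_of_card_ne_zero (by rw [hE]; norm_num)
  set C := E ⊓ centralizer ({x} : Set G) with hC
  have hmod := card_modEq (p := 2) E hx hxE
  rw [← hC, hE] at hmod
  have hd : Nat.card C ∣ 4 := hE ▸ card_dvd_of_le inf_le_left
  have hle : Nat.card C ≤ 4 := Nat.le_of_dvd (by norm_num) hd
  have h24 : Nat.card C = 2 ∨ Nat.card C = 4 := by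
    interval_cases h : Nat.card C
    · omega
    · exact absurd hmod (by decide)
    · left; rfl
    · exact absurd hd (by decide)
    · right; rfl
  have hCE : C = E := by
    rcases h24 with h | h
    · exfalso
      obtain ⟨e, he, huniq⟩ := (Nat.card_eq_two_iff' (1 : C)).1 h
      have he1 := mem_centralizer_singleton_iff.1 (mem_inf.1 e.2).2
      have hb : b * (e : G) * b⁻¹ ∈ C := by
        refine ⟨hbE _ (mem_inf.1 e.2).1, mem_centralizer_singleton_iff.2 ?_⟩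
        have hxb' : b⁻¹ * x = x * b⁻¹ := by
          rw [inv_mul_eq_iff_eq_mul, ← mul_assoc, ← hxb, mul_inv_cancel_right]
        calc b * (e : G) * b⁻¹ * x = b * (e : G) * (b⁻¹ * x) := by group
          _ = b * ((e : G) * x) * b⁻¹ := by rw [hxb']; group
          _ = b * x * (e : G) * b⁻¹ := by rw [he1]; group
          _ = x * (b * (e : G) * b⁻¹) := by rw [← hxb]; group
      have h3 := huniq ⟨b * (e : G) * b⁻¹, hb⟩ (fun h4 => he (by
        have h5 : b * (e : G) * b⁻¹ = 1 := congrArg Subtype.val h4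
        exact Subtype.ext (conj_eq_one_iff.1 h5)))
      have h4 : b * (e : G) * b⁻¹ = e := congrArg Subtype.val h3
      exact he (Subtype.ext (hfp e (mem_inf.1 e.2).1 (mul_inv_eq_iff_eq_mul.1 h4).symm))
    · exact Subgroup.eq_of_le_of_card_ge inf_le_left (by rw [hE, h])
  intro e he
  rw [← hCE] at he
  exact (mem_centralizer_singleton_iff.1 (mem_inf.1 he).2).symm

/-- A group of order 3. -/
theorem exists_three {B : Subgroup G} (hB : Nat.card B = 3) :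
    ∃ b ∈ B, b ≠ 1 ∧ b ^ 3 = 1 ∧ ∀ y ∈ B, y = 1 ∨ y = b ∨ y = b⁻¹ := by
  have h3f : Fact (Nat.Prime 3) := ⟨Nat.prime_three⟩
  have hfin : Finite B := Nat.finite_of_card_ne_zero (by rw [hB]; norm_num)
  have hnt : Nontrivial B := Finite.one_lt_card_iff_nontrivial.1 (by rw [hB]; norm_num)
  obtain ⟨b, hb⟩ := exists_ne (1 : B)
  have hb3 : b ^ 3 = 1 := by rw [← hB]; exact pow_card_eq_one'
  refine ⟨b, b.2, fun h => hb (Subtype.ext h), congrArg Subtype.val hb3, fun y hy => ?_⟩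
  obtain ⟨k, hk⟩ := Submonoid.mem_powers_iff _ _ |>.1 (mem_powers_of_prime_card (p := 3) (g' := ⟨y, hy⟩) hB hb)
  have hy' : y = (b : G) ^ (k % 3) := by
    have h1 : (b : G) ^ k = y := congrArg Subtype.val hk
    have h2 : (b : G) ^ 3 = 1 := congrArg Subtype.val hb3
    rw [← h1]
    conv_lhs => rw [← Nat.div_add_mod k 3, pow_add, pow_mul, h2, one_pow, one_mul]
  have h3 : k % 3 < 3 := Nat.mod_lt _ (by norm_num)
  interval_cases h : k % 3
  · left; rw [hy', pow_zero]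
  · right; left; rw [hy', pow_one]
  · right; right
    rw [hy']
    have h2 : (b : G) ^ 3 = 1 := congrArg Subtype.val hb3
    refine eq_inv_of_mul_eq_one_left ?_
    rw [← pow_succ]
    exact h2

/-- The action of `N_K(A)`, `A = ⟨b1, b2⟩ = 3²` on `F = 2⁴`. -/
structure Dat (F K A : Subgroup G) (b1 b2 : G) : Prop where
  FK : ∀ k ∈ K, ∀ f ∈ F, k * f * k⁻¹ ∈ F
  Fsq : ∀ f ∈ F, f * f = 1
  card : Nat.card F = 16
  cent : ∀ k ∈ K, (∀ f ∈ F, k * f = f * k) → k ∈ F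
  AK : A ≤ K
  b1A : b1 ∈ A
  b2A : b2 ∈ A
  b2ne : b2 ≠ 1
  b2c : b2 ^ 3 = 1
  comm : b1 * b2 = b2 * b1
  F1 : Nat.card (F ⊓ centralizer ({b1} : Set G) : Subgroup G) = 4
  F2 : Nat.card (F ⊓ centralizer ({b2} : Set G) : Subgroup G) = 4
  bot : ∀ f ∈ F, f * b1 = b1 * f → f * b2 = b2 * f → f = 1
  sup : ∀ f ∈ F, ∃ f1 ∈ F, ∃ f2 ∈ F, f1 * b1 = b1 * f1 ∧ f2 * b2 = b2 * f2 ∧ f = f1 * f2
  perm : ∀ n ∈ K, (∀ a ∈ A, n * a * n⁻¹ ∈ A) →
    ((n * b1 * n⁻¹ = b1 ∨ n * b1 * n⁻¹ = b1⁻¹) ∧ (n * b2 * n⁻¹ = b2 ∨ n * b2 * n⁻¹ = b2⁻¹)) ∨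
    ((n * b1 * n⁻¹ = b2 ∨ n * b1 * n⁻¹ = b2⁻¹) ∧ (n * b2 * n⁻¹ = b1 ∨ n * b2 * n⁻¹ = b1⁻¹))
  frat : ∀ k ∈ K, ∃ f ∈ F, ∀ a ∈ A, (f * k) * a * (f * k)⁻¹ ∈ A
  FA : F ⊓ A = ⊥

namespace Dat

variable {F K A : Subgroup G} {b1 b2 : G}

theorem mem_E (d : Dat F K A b1 b2) {x b : G} (hx : x ∈ K) (hxb : x * b * x⁻¹ = b ∨ x * b * x⁻¹ = b⁻¹) :
    ∀ e ∈ F ⊓ centralizer ({b} : Set G), x * e * x⁻¹ ∈ F ⊓ centralizer ({b} : Set G) := by
  intro e he
  refine ⟨d.FK x hx e he.1, mem_centralizer_singleton_iff.2 ?_⟩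
  have h1 : e * b = b * e := mem_centralizer_singleton_iff.1 he.2
  rcases hxb with h | h
  · calc x * e * x⁻¹ * b = x * e * x⁻¹ * (x * b * x⁻¹) := by rw [h]
      _ = x * (e * b) * x⁻¹ := by group
      _ = x * (b * e) * x⁻¹ := by rw [h1]
      _ = x * b * x⁻¹ * (x * e * x⁻¹) := by group
      _ = b * (x * e * x⁻¹) := by rw [h]
  · have h2 : x * b⁻¹ * x⁻¹ = b := by
      have h3 : x * b⁻¹ * x⁻¹ = (x * b * x⁻¹)⁻¹ := by group
      rw [h3, h, inv_inv]
    have h4 : e * b⁻¹ = b⁻¹ * e := by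
      rw [mul_inv_eq_iff_eq_mul, mul_assoc, h1, inv_mul_cancel_left]
    calc x * e * x⁻¹ * b = x * e * x⁻¹ * (x * b⁻¹ * x⁻¹) := by rw [h2]
      _ = x * (e * b⁻¹) * x⁻¹ := by group
      _ = x * (b⁻¹ * e) * x⁻¹ := by rw [h4]
      _ = x * b⁻¹ * x⁻¹ * (x * e * x⁻¹) := by group
      _ = b * (x * e * x⁻¹) := by rw [h2]

/-- An element of 2-power order commuting with `b1` and normalising `⟨b2⟩` centralises `C_F(b2)`. -/
theorem fixF2 (d : Dat F K A b1 b2) {x : G} {m : ℕ} (hxK : x ∈ K) (hx : x ^ 2 ^ m = 1)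
    (h1 : x * b1 * x⁻¹ = b1) (h2 : x * b2 * x⁻¹ = b2 ∨ x * b2 * x⁻¹ = b2⁻¹) {e : G} (he : e ∈ F)
    (heb : e * b2 = b2 * e) : x * e = e * x := by
  refine fix_four d.F2 hx (mul_inv_eq_iff_eq_mul.1 h1) (d.mem_E hxK h2)
    (d.mem_E (d.AK d.b1A) (Or.inl (by rw [d.comm, mul_inv_cancel_right]))) ?_ e
    ⟨he, mem_centralizer_singleton_iff.2 heb⟩
  intro e he h
  exact d.bot e he.1 h (mem_centralizer_singleton_iff.1 he.2)

/-- An element of 2-power order commuting with `b2` and normalising `⟨b1⟩` centralises `C_F(b1)`. -/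
theorem fixF1 (d : Dat F K A b1 b2) {x : G} {m : ℕ} (hxK : x ∈ K) (hx : x ^ 2 ^ m = 1)
    (h1 : x * b1 * x⁻¹ = b1 ∨ x * b1 * x⁻¹ = b1⁻¹) (h2 : x * b2 * x⁻¹ = b2) {e : G} (he : e ∈ F)
    (heb : e * b1 = b1 * e) : x * e = e * x := by
  refine fix_four d.F1 hx (mul_inv_eq_iff_eq_mul.1 h2) (d.mem_E hxK h1)
    (d.mem_E (d.AK d.b2A) (Or.inl (by rw [← d.comm, mul_inv_cancel_right]))) ?_ e
    ⟨he, mem_centralizer_singleton_iff.2 heb⟩
  intro e he h
  exact d.bot e he.1 (mem_centralizer_singleton_iff.1 he.2) h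

theorem cent_all (d : Dat F K A b1 b2) {x : G} (hxK : x ∈ K)
    (h1 : ∀ e ∈ F, e * b1 = b1 * e → x * e = e * x) (h2 : ∀ e ∈ F, e * b2 = b2 * e → x * e = e * x) :
    x ∈ F := by
  refine d.cent x hxK fun f hf => ?_
  obtain ⟨f1, hf1, f2, hf2, e1, e2, rfl⟩ := d.sup f hf
  rw [← mul_assoc, h1 f1 hf1 e1, mul_assoc, h2 f2 hf2 e2, mul_assoc]

/-- A 2-element of `K` commuting with `A` is trivial. -/
theorem eq_one (d : Dat F K A b1 b2) {x : G} {m : ℕ} (hxK : x ∈ K) (hx : x ^ 2 ^ m = 1)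
    (h1 : x * b1 * x⁻¹ = b1) (h2 : x * b2 * x⁻¹ = b2) : x = 1 := by
  have h3 : x ∈ F := d.cent_all hxK (fun e he h => d.fixF1 hxK hx (Or.inl h1) h2 he h)
    (fun e he h => d.fixF2 hxK hx h1 (Or.inl h2) he h)
  exact d.bot x h3 (mul_inv_eq_iff_eq_mul.1 h1) (mul_inv_eq_iff_eq_mul.1 h2)

theorem F_norm (d : Dat F K A b1 b2) {x : G} (hx : x ∈ F)
    (hn : x ∈ normalizer (A : Set G)) : x = 1 := by
  have h1 : ∀ a ∈ A, x * a * x⁻¹ = a := by
    intro a ha
    have h2 : x * a * x⁻¹ * a⁻¹ ∈ F ⊓ A := by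
      refine ⟨?_, A.mul_mem ((mem_normalizer_iff.1 hn a).1 ha) (A.inv_mem ha)⟩
      have e : x * a * x⁻¹ * a⁻¹ = x * (a * x⁻¹ * a⁻¹) := by group
      rw [e]
      exact F.mul_mem hx (d.FK a (d.AK ha) _ (F.inv_mem hx))
    rw [d.FA, mem_bot] at h2
    exact mul_inv_eq_one.1 h2
  exact d.bot x hx (mul_inv_eq_iff_eq_mul.1 (h1 b1 d.b1A)) (mul_inv_eq_iff_eq_mul.1 (h1 b2 d.b2A))

/-- `|P| = 16 |N_P(A)|` -/
theorem card_eq [Finite G] (d : Dat F K A b1 b2) {P : Subgroup G} (hFP : F ≤ P) (hPK : P ≤ K) :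
    Nat.card P = 16 * Nat.card (P ⊓ normalizer (A : Set G) : Subgroup G) := by
  have h1 : P ⊓ normalizer (A : Set G) ≤ normalizer (F : Set G) := by
    intro x hx
    rw [mem_normalizer_iff]
    intro f
    refine ⟨fun hf => d.FK x (hPK hx.1) f hf, fun hf => ?_⟩
    have h2 := d.FK x⁻¹ (K.inv_mem (hPK hx.1)) _ hf
    have e : x⁻¹ * (x * f * x⁻¹) * x⁻¹⁻¹ = f := by group
    rwa [e] at h2
  have h2 := SectRankFour.C2.Par.card_sup_mul h1
  have h3 : F ⊔ (P ⊓ normalizer (A : Set G)) = P := by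
    refine le_antisymm (sup_le hFP inf_le_left) fun y hy => ?_
    obtain ⟨f, hf, hn⟩ := d.frat y (hPK hy)
    have h4 : f * y ∈ P ⊓ normalizer (A : Set G) := by
      refine ⟨P.mul_mem (hFP hf) hy, ?_⟩
      exact C2KillT3.mem_normalizer_of hn
    have e : y = f⁻¹ * (f * y) := by group
    rw [e]
    exact mul_mem (inv_mem ((le_sup_left (a := F)) hf)) (le_sup_right (a := F) h4)
  have h4 : F ⊓ (P ⊓ normalizer (A : Set G)) = ⊥ := by
    rw [eq_bot_iff]
    intro x hx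
    exact mem_bot.2 (d.F_norm hx.1 hx.2.2)
  rw [h3, h4, card_bot, mul_one, d.card] at h2
  exact h2

open Classical in
/-- The possible images of `(b1, b2)`. -/
noncomputable def imgs (b1 b2 : G) : Finset (G × G) :=
  [(b1, b2), (b1, b2⁻¹), (b1⁻¹, b2), (b1⁻¹, b2⁻¹), (b2, b1), (b2, b1⁻¹), (b2⁻¹, b1),
    (b2⁻¹, b1⁻¹)].toFinset

theorem card_imgs (b1 b2 : G) : Nat.card (imgs b1 b2) ≤ 8 := by
  classical
  rw [Nat.card_eq_fintype_card, Fintype.card_coe]
  exact List.toFinset_card_le _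

theorem mem_imgs (b1 b2 : G) (p : G × G) : p ∈ imgs b1 b2 ↔
    p = (b1, b2) ∨ p = (b1, b2⁻¹) ∨ p = (b1⁻¹, b2) ∨ p = (b1⁻¹, b2⁻¹) ∨ p = (b2, b1) ∨
      p = (b2, b1⁻¹) ∨ p = (b2⁻¹, b1) ∨ p = (b2⁻¹, b1⁻¹) := by
  classical
  rw [imgs, List.mem_toFinset]
  simp

theorem perm_mem (d : Dat F K A b1 b2) {P : Subgroup G} (hPK : P ≤ K) {x : G}
    (hx : x ∈ P ⊓ normalizer (A : Set G)) : (x * b1 * x⁻¹, x * b2 * x⁻¹) ∈ imgs b1 b2 := by
  rw [mem_imgs]
  simp only [Prod.mk.injEq]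
  rcases d.perm x (hPK hx.1) (fun a ha => (mem_normalizer_iff.1 hx.2 a).1 ha) with
    ⟨h1 | h1, h2 | h2⟩ | ⟨h1 | h1, h2 | h2⟩ <;> simp only [h1, h2, true_and, and_true, true_or, or_true]

/-- The conjugation map is injective on 2-groups. -/
theorem inj (d : Dat F K A b1 b2) {P : Subgroup G} (hP : IsPGroup 2 P) (hPK : P ≤ K) :
    Function.Injective (fun x : (P ⊓ normalizer (A : Set G) : Subgroup G) =>
      (⟨_, d.perm_mem hPK x.2⟩ : imgs b1 b2)) := by
  rintro ⟨x, hx⟩ ⟨y, hy⟩ hxy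
  have h1 := congrArg Subtype.val hxy
  simp only [Prod.mk.injEq] at h1
  apply Subtype.ext
  show x = y
  obtain ⟨m, hm⟩ := hP ⟨y⁻¹ * x, P.mul_mem (P.inv_mem hy.1) hx.1⟩
  have h2 : y⁻¹ * x = 1 := by
    refine d.eq_one (hPK (P.mul_mem (P.inv_mem hy.1) hx.1)) (m := m) (congrArg Subtype.val hm) ?_ ?_
    · have e : y⁻¹ * x * b1 * (y⁻¹ * x)⁻¹ = y⁻¹ * (x * b1 * x⁻¹) * y := by group
      rw [e, h1.1]; group
    · have e : y⁻¹ * x * b2 * (y⁻¹ * x)⁻¹ = y⁻¹ * (x * b2 * x⁻¹) * y := by group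
      rw [e, h1.2]; group
  exact (inv_mul_eq_one.1 h2).symm

theorem card_le [Finite G] (d : Dat F K A b1 b2) {P : Subgroup G} (hP : IsPGroup 2 P) (hFP : F ≤ P)
    (hPK : P ≤ K) : Nat.card P ≤ 128 := by
  rw [d.card_eq hFP hPK]
  have h1 := Nat.card_le_card_of_injective _ (d.inj hP hPK)
  have h2 := card_imgs b1 b2
  omega

theorem exists_mem [Finite G] (d : Dat F K A b1 b2) {P : Subgroup G} (hP : IsPGroup 2 P) (hFP : F ≤ P)
    (hPK : P ≤ K) (hc : Nat.card P = 128) {p : G × G} (hp : p ∈ imgs b1 b2) :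
    ∃ x ∈ P, x ∈ normalizer (A : Set G) ∧ x * b1 * x⁻¹ = p.1 ∧ x * b2 * x⁻¹ = p.2 := by
  have h1 := d.card_eq hFP hPK
  have h2 := (d.inj hP hPK).bijective_of_nat_card_le (by
    have := card_imgs b1 b2
    omega)
  obtain ⟨⟨x, hx⟩, h3⟩ := h2.2 ⟨p, hp⟩
  have h4 := congrArg Subtype.val h3
  exact ⟨x, hx.1, hx.2, congrArg Prod.fst h4, congrArg Prod.snd h4⟩

theorem Fcomm (d : Dat F K A b1 b2) {x y : G} (hx : x ∈ F) (hy : y ∈ F) : x * y = y * x := by
  have h1 := d.Fsq _ (F.mul_mem hx hy)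
  have e1 : x⁻¹ = x := inv_eq_of_mul_eq_one_left (d.Fsq x hx)
  have e2 : y⁻¹ = y := inv_eq_of_mul_eq_one_left (d.Fsq y hy)
  have e3 : (x * y)⁻¹ = x * y := inv_eq_of_mul_eq_one_left h1
  rw [mul_inv_rev, e1, e2] at e3
  exact e3.symm

/-- The relations of `W8`. -/
theorem sat_of (d : Dat F K A b1 b2) {j w f : G} (hj : j * j = 1) (hw : w * w = 1)
    (hB : j * (w * j * w) = (w * j * w) * j) (hk : (w * j * w) * f = f * (w * j * w))
    (hf : f ∈ F) (hfj : j * f * j ∈ F) (hfw : w * f * w ∈ F) (hfjw : w * (j * f * j) * w ∈ F)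
    (h1 : j * (w * f * w) = (w * f * w) * j)
    (h3 : j * (w * (j * f * j) * w) = (w * (j * f * j) * w) * j) :
    Pc.Sat PcTypes.W8 ![j, w, j * w * j, w * f * w, f, w * (j * f * j) * w, j * f * j] := by
  have J : ∀ x, j * (j * x) = x := fun x => by rw [← mul_assoc, hj, one_mul]
  have W : ∀ x, w * (w * x) = x := fun x => by rw [← mul_assoc, hw, one_mul]
  have B0 : w * (j * (w * j)) = j * (w * (j * w)) := by
    simpa only [mul_assoc] using hB.symm
  have B : ∀ x, w * (j * (w * (j * x))) = j * (w * (j * (w * x))) := fun x => by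
    have := congrArg (· * x) B0
    simpa only [mul_assoc] using this
  have K0 : f * (w * j) = w * (j * (w * (f * w))) := by
    have := congrArg (· * w) hk.symm
    simpa only [mul_assoc, hw, mul_one] using this
  have K : ∀ x, f * (w * (j * x)) = w * (j * (w * (f * (w * x)))) := fun x => by
    have := congrArg (· * x) K0
    simpa only [mul_assoc] using this
  have b3 : (j * w * j) * (w * (j * f * j) * w) = f * (j * w * j) := by
    calc (j * w * j) * (w * (j * f * j) * w) = (j * (w * j * w)) * j * f * j * w := by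
          simp only [mul_assoc]
      _ = (w * j * w) * (j * j) * f * j * w := by rw [hB, mul_assoc (w * j * w) j j]
      _ = (w * j * w * f) * j * w := by rw [hj, mul_one]
      _ = f * ((w * j * w) * j) * w := by rw [hk]; simp only [mul_assoc]
      _ = f * (j * w * j) * (w * w) := by rw [← hB]; simp only [mul_assoc]
      _ = f * (j * w * j) := by rw [hw, mul_one]
  have b4 : (j * w * j) * (j * f * j) = (w * f * w) * (j * w * j) := by
    calc (j * w * j) * (j * f * j) = j * w * (f * j) := by simp only [mul_assoc, J]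
      _ = w * ((w * j * w) * f) * j := by simp only [mul_assoc, W]
      _ = w * (f * (w * j * w)) * j := by rw [hk]
      _ = (w * f * w) * (j * w * j) := by simp only [mul_assoc]
  refine C2Syl.sat_W8 hj hw ?_ ?_ (d.Fsq _ hfw) (d.Fsq _ hf) (d.Fsq _ hfjw) (d.Fsq _ hfj)
    (d.Fcomm hfw hf) (d.Fcomm hfw hfjw) (d.Fcomm hfw hfj) (d.Fcomm hf hfjw) (d.Fcomm hf hfj)
    (d.Fcomm hfjw hfj) ?_ ?_ ?_ ?_ ?_ ?_ b3 b4 ?_ ?_ h1 ?_ h3 ?_ <;>
    simp only [mul_assoc, J, W, B0, B, K0, K, hj, hw, mul_one]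

/-- The Sylow subgroup is `2 wr D₈`. -/
theorem isType [Finite G] (d : Dat F K A b1 b2) {P : Subgroup G} (hP : IsPGroup 2 P) (hFP : F ≤ P)
    (hPK : P ≤ K) (hc : Nat.card P = 128) : PcTypes.IsType PcTypes.W8 P := by
  obtain ⟨j, hjP, hjA, hj1, hj2⟩ := d.exists_mem hP hFP hPK hc (p := (b1, b2⁻¹)) (by
    rw [mem_imgs]; simp)
  obtain ⟨w, hwP, hwA, hw1, hw2⟩ := d.exists_mem hP hFP hPK hc (p := (b2, b1)) (by
    rw [mem_imgs]; simp)
  simp only at hj1 hj2 hw1 hw2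
  have huniq : ∀ x ∈ P, x * b1 * x⁻¹ = b1 → x * b2 * x⁻¹ = b2 → x = 1 := by
    intro x hx h1 h2
    obtain ⟨m, hm⟩ := hP ⟨x, hx⟩
    exact d.eq_one (hPK hx) (m := m) (congrArg Subtype.val hm) h1 h2
  have cm : ∀ x y b : G, (x * y) * b * (x * y)⁻¹ = x * (y * b * y⁻¹) * x⁻¹ := by
    intro x y b; group
  have ci : ∀ x b : G, x * b⁻¹ * x⁻¹ = (x * b * x⁻¹)⁻¹ := by
    intro x b; group
  have hw : w * w = 1 := huniq _ (P.mul_mem hwP hwP) (by rw [cm, hw1, hw2]) (by rw [cm, hw2, hw1])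
  have hj : j * j = 1 := huniq _ (P.mul_mem hjP hjP) (by rw [cm, hj1, hj1])
    (by rw [cm, hj2, ci, hj2, inv_inv])
  have hwi : w⁻¹ = w := inv_eq_of_mul_eq_one_left hw
  have hji : j⁻¹ = j := inv_eq_of_mul_eq_one_left hj
  have hkP : w * j * w ∈ P := P.mul_mem (P.mul_mem hwP hjP) hwP
  have hk1 : (w * j * w) * b1 * (w * j * w)⁻¹ = b1⁻¹ := by
    rw [cm, hw1, cm, hj2, ci, hw2]
  have hk2 : (w * j * w) * b2 * (w * j * w)⁻¹ = b2 := by
    rw [cm, hw2, cm, hj1, hw1]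
  have hkk : (w * j * w) * (w * j * w) = 1 := huniq _ (P.mul_mem hkP hkP)
    (by rw [cm, hk1, ci, hk1, inv_inv]) (by rw [cm, hk2, hk2])
  have hB : j * (w * j * w) = (w * j * w) * j := by
    have g1 : (j * (w * j * w)) * b1 * (j * (w * j * w))⁻¹ = b1⁻¹ := by
      rw [cm, hk1, ci, hj1]
    have g2 : (j * (w * j * w)) * b2 * (j * (w * j * w))⁻¹ = b2⁻¹ := by
      rw [cm, hk2, hj2]
    have h1 : (j * (w * j * w)) * (j * (w * j * w)) = 1 := huniq _
      (P.mul_mem (P.mul_mem hjP hkP) (P.mul_mem hjP hkP))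
      (by rw [cm, g1, ci, g1, inv_inv])
      (by rw [cm, g2, ci, g2, inv_inv])
    have h2 : j * (w * j * w) = (j * (w * j * w))⁻¹ := (inv_eq_of_mul_eq_one_left h1).symm
    have h3 : (w * j * w)⁻¹ = w * j * w := inv_eq_of_mul_eq_one_left hkk
    rw [mul_inv_rev, h3, hji] at h2
    exact h2
  -- actions on `F`
  obtain ⟨mj, hmj⟩ := hP ⟨j, hjP⟩
  obtain ⟨mk, hmk⟩ := hP ⟨_, hkP⟩
  have hjF2 : ∀ e ∈ F, e * b2 = b2 * e → j * e = e * j := fun e he h =>
    d.fixF2 (hPK hjP) (m := mj) (congrArg Subtype.val hmj) hj1 (Or.inr hj2) he h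
  have hkF1 : ∀ e ∈ F, e * b1 = b1 * e → (w * j * w) * e = e * (w * j * w) := fun e he h =>
    d.fixF1 (hPK hkP) (m := mk) (congrArg Subtype.val hmk) (Or.inr hk1) hk2 he h
  obtain ⟨f, hf, hfb, hjf⟩ : ∃ f ∈ F, f * b1 = b1 * f ∧ j * f ≠ f * j := by
    by_contra hcon
    push Not at hcon
    have h1 := d.cent_all (hPK hjP) hcon hjF2
    have h2 := d.F_norm h1 hjA
    rw [h2, one_mul, inv_one, mul_one] at hj2
    apply d.b2ne
    have h3 : b2 * b2 = 1 := by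
      nth_rewrite 2 [hj2]
      exact mul_inv_cancel b2
    have h4 := d.b2c
    rw [pow_succ, pow_two, h3, one_mul] at h4
    exact h4
  have hKc : ∀ x ∈ P, ∀ e ∈ F, x * e * x⁻¹ ∈ F := fun x hx e he => d.FK x (hPK hx) e he
  have hfj : j * f * j ∈ F := by
    have := hKc j hjP f hf
    rwa [hji] at this
  have hfw : w * f * w ∈ F := by
    have := hKc w hwP f hf
    rwa [hwi] at this
  have hfjw : w * (j * f * j) * w ∈ F := by
    have := hKc w hwP _ hfj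
    rwa [hwi] at this
  -- `j f j` commutes with `b1`
  have e1 : ∀ x ∈ P, ∀ e ∈ F, ∀ b c : G, e * b = b * e → x * b * x⁻¹ = c →
      (x * e * x⁻¹) * c = c * (x * e * x⁻¹) := by
    intro x hx e he b c h1 h2
    rw [← h2]
    calc x * e * x⁻¹ * (x * b * x⁻¹) = x * (e * b) * x⁻¹ := by group
      _ = x * (b * e) * x⁻¹ := by rw [h1]
      _ = x * b * x⁻¹ * (x * e * x⁻¹) := by group
  have hfjb : (j * f * j) * b1 = b1 * (j * f * j) := by
    have := e1 j hjP f hf b1 b1 hfb hj1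
    rwa [hji] at this
  have hfwb : (w * f * w) * b2 = b2 * (w * f * w) := by
    have := e1 w hwP f hf b1 b2 hfb hw1
    rwa [hwi] at this
  have hfjwb : (w * (j * f * j) * w) * b2 = b2 * (w * (j * f * j) * w) := by
    have := e1 w hwP _ hfj b1 b2 hfjb hw1
    rwa [hwi] at this
  have hsat := d.sat_of hj hw hB (hkF1 f hf hfb) hf hfj hfw hfjw (hjF2 _ hfw hfwb)
    (hjF2 _ hfjw hfjwb)
  refine PcTypes.isType_of_closure hsat P ?_ (by rw [hc]; norm_num)
  have hmem : ∀ i, (![j, w, j * w * j, w * f * w, f, w * (j * f * j) * w, j * f * j] : Fin 7 → G) i ∈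
      closure (Set.range ![j, w, j * w * j, w * f * w, f, w * (j * f * j) * w, j * f * j]) :=
    fun i => subset_closure ⟨i, rfl⟩
  set C := closure (Set.range ![j, w, j * w * j, w * f * w, f, w * (j * f * j) * w, j * f * j]) with hC
  have cj : j ∈ C := hmem 0
  have cw : w ∈ C := hmem 1
  have cf : f ∈ C := hmem 4
  have cfj : j * f * j ∈ C := hmem 6
  refine le_antisymm ?_ ?_
  · rw [hC, closure_le]
    rintro _ ⟨i, rfl⟩
    fin_cases i
    · exact hjP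
    · exact hwP
    · exact P.mul_mem (P.mul_mem hjP hwP) hjP
    · exact hFP hfw
    · exact hFP hf
    · exact hFP hfjw
    · exact hFP hfj
  · -- `F ≤ C`
    have c1 : F ⊓ centralizer ({b1} : Set G) ≤ C := by
      have h1 : Nat.card ((F ⊓ centralizer ({b1} : Set G)) ⊓ C : Subgroup G) ∣ 4 :=
        d.F1 ▸ card_dvd_of_le inf_le_left
      set S := (F ⊓ centralizer ({b1} : Set G)) ⊓ C with hS
      have m1 : f ∈ S := ⟨⟨hf, mem_centralizer_singleton_iff.2 hfb⟩, cf⟩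
      have m2 : j * f * j ∈ S := ⟨⟨hfj, mem_centralizer_singleton_iff.2 hfjb⟩, cfj⟩
      have hf1 : f ≠ 1 := by
        rintro rfl
        exact hjf (by rw [mul_one, one_mul])
      have hf2 : j * f * j ≠ 1 := by
        intro h
        apply hf1
        have h4 : j * f = j⁻¹ := mul_eq_one_iff_eq_inv.1 h
        rw [hji] at h4
        exact mul_eq_left.1 h4
      have h3 : S = F ⊓ centralizer ({b1} : Set G) := by
        apply Subgroup.eq_of_le_of_card_ge inf_le_left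
        rw [d.F1]
        have := Nat.le_of_dvd (by norm_num) h1
        interval_cases h : Nat.card S
        · have := (Nat.card_pos (α := S)).ne'
          omega
        · exfalso
          rw [Subgroup.card_eq_one] at h
          rw [h, mem_bot] at m1
          exact hf1 m1
        · exfalso
          obtain ⟨e, he, hu⟩ := (Nat.card_eq_two_iff' (1 : S)).1 h
          have u1 := hu ⟨f, m1⟩ (fun h4 => hf1 (congrArg Subtype.val h4))
          have u2 := hu ⟨_, m2⟩ (fun h4 => hf2 (congrArg Subtype.val h4))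
          have u3 : j * f * j = f := congrArg Subtype.val (u2.trans u1.symm)
          apply hjf
          calc j * f = j * f * j * j := by rw [mul_assoc (j * f), hj, mul_one]
            _ = f * j := by rw [u3]
        · exact absurd h1 (by decide)
        · exact le_rfl
      exact inf_eq_left.1 h3
    have c2 : ∀ e ∈ F, e * b2 = b2 * e → e ∈ C := by
      intro e he h
      have h1 := e1 w hwP e he b2 b1 h hw2
      have h2 := c1 ⟨hKc w hwP e he, mem_centralizer_singleton_iff.2 h1⟩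
      have h3 : w⁻¹ * (w * e * w⁻¹) * w ∈ C := C.mul_mem (C.mul_mem (C.inv_mem cw) h2) cw
      have h4 : w⁻¹ * (w * e * w⁻¹) * w = e := by group
      rwa [h4] at h3
    have c3 : F ≤ C := by
      intro e he
      obtain ⟨f1, hf1, f2, hf2, h1, h2, rfl⟩ := d.sup e he
      exact C.mul_mem (c1 ⟨hf1, mem_centralizer_singleton_iff.2 h1⟩) (c2 f2 hf2 h2)
    -- `N_P(A) ≤ C`
    have s1 : ∀ n ∈ P, n * b1 * n⁻¹ = b1 → (n * b2 * n⁻¹ = b2 ∨ n * b2 * n⁻¹ = b2⁻¹) → n ∈ C := by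
      rintro n hn h1 (h2 | h2)
      · rw [huniq n hn h1 h2]
        exact C.one_mem
      · have h3 := huniq (j * n) (P.mul_mem hjP hn) (by rw [cm, h1, hj1])
          (by rw [cm, h2, ci, hj2, inv_inv])
        rw [mul_eq_one_iff_inv_eq.1 h3 |>.symm]
        exact C.inv_mem cj
    have s2 : ∀ n ∈ P, (n * b1 * n⁻¹ = b1 ∨ n * b1 * n⁻¹ = b1⁻¹) →
        (n * b2 * n⁻¹ = b2 ∨ n * b2 * n⁻¹ = b2⁻¹) → n ∈ C := by
      rintro n hn (h1 | h1) h2
      · exact s1 n hn h1 h2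
      · have h3 := s1 ((w * j * w) * n) (P.mul_mem hkP hn) (by rw [cm, h1, ci, hk1, inv_inv]) (by
          rcases h2 with h2 | h2
          · left; rw [cm, h2, hk2]
          · right; rw [cm, h2, ci, hk2])
        have h4 := C.mul_mem (C.inv_mem (C.mul_mem (C.mul_mem cw cj) cw)) h3
        rwa [inv_mul_cancel_left] at h4
    have s3 : ∀ n ∈ P, n ∈ normalizer (A : Set G) → n ∈ C := by
      intro n hn hA
      rcases d.perm n (hPK hn) (fun a ha => (mem_normalizer_iff.1 hA a).1 ha) with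
        ⟨h1, h2⟩ | ⟨h1, h2⟩
      · exact s2 n hn h1 h2
      · have h3 := s2 (w * n) (P.mul_mem hwP hn) (by
          rcases h1 with h1 | h1
          · left; rw [cm, h1, hw2]
          · right; rw [cm, h1, ci, hw2]) (by
          rcases h2 with h2 | h2
          · left; rw [cm, h2, hw1]
          · right; rw [cm, h2, ci, hw1])
        have h4 := C.mul_mem (C.inv_mem cw) h3
        rwa [inv_mul_cancel_left] at h4
    intro y hy
    obtain ⟨e, he, hn⟩ := d.frat y (hPK hy)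
    have h1 := s3 (e * y) (P.mul_mem (hFP he) hy) (C2KillT3.mem_normalizer_of hn)
    have h2 := C.mul_mem (C.inv_mem (c3 he)) h1
    rwa [inv_mul_cancel_left] at h2

end Dat

theorem exists_mul {H L : Subgroup G} (h : H ≤ normalizer (L : Set G)) {x : G} (hx : x ∈ H ⊔ L) :
    ∃ a ∈ H, ∃ b ∈ L, x = a * b := by
  have h1 : x ∈ ((H ⊔ L : Subgroup G) : Set G) := hx
  rw [coe_mul_of_left_le_normalizer_right H L h] at h1
  obtain ⟨a, ha, b, hb, rfl⟩ := h1
  exact ⟨a, ha, b, hb, rfl⟩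

/-- The data. -/
theorem exists_dat [Finite G] {F K A : Subgroup G}
    (hFK : ∀ k ∈ K, ∀ f ∈ F, k * f * k⁻¹ ∈ F) (hF16 : Nat.card F = 16) (hFsq : ∀ f ∈ F, f * f = 1)
    (hcent : ∀ k ∈ K, (∀ f ∈ F, k * f = f * k) → k ∈ F) (hAK : A ≤ K) (hA9 : Nat.card A = 9)
    (hA3 : ∀ x ∈ A, x ^ 3 = 1) (hAc : ∀ x ∈ A, ∀ y ∈ A, x * y = y * x)
    (hL : K ≤ normalizer ((F ⊔ A : Subgroup G) : Set G)) (h3 : ¬ 3 ∣ A.relIndex K) :
    ∃ b1 b2 : G, Dat F K A b1 b2 := by
  have h3f : Fact (Nat.Prime 3) := ⟨Nat.prime_three⟩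
  have hFc : ∀ x ∈ F, ∀ y ∈ F, x * y = y * x := by
    intro x hx y hy
    have h1 := hFsq _ (F.mul_mem hx hy)
    have e1 : x⁻¹ = x := inv_eq_of_mul_eq_one_left (hFsq x hx)
    have e2 : y⁻¹ = y := inv_eq_of_mul_eq_one_left (hFsq y hy)
    have e3 : (x * y)⁻¹ = x * y := inv_eq_of_mul_eq_one_left h1
    rw [mul_inv_rev, e1, e2] at e3
    exact e3.symm
  have hAF : A ≤ normalizer (F : Set G) := fun a ha =>
    C2KillT3.mem_normalizer_of (hFK a (hAK ha))
  have hinf : ∀ x ∈ A, x ∈ F → x = 1 := by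
    intro x hx hxF
    have h1 := hA3 x hx
    rw [pow_succ, pow_two, hFsq x hxF, one_mul] at h1
    exact h1
  have hFA : F ⊓ A = ⊥ := by
    rw [eq_bot_iff]
    intro x hx
    exact mem_bot.2 (hinf x hx.2 hx.1)
  have hf : A ⊓ centralizer (F : Set G) = ⊥ := by
    rw [eq_bot_iff]
    intro x hx
    refine mem_bot.2 (hinf x hx.1 (hcent x (hAK hx.1) fun f hf => ?_))
    exact (mem_centralizer_iff.1 hx.2 f hf).symm
  obtain ⟨-, B1, B2, hB1A, hB2A, hB1c, hB2c, hB12, -, hF1, hF2, hF12, hF12s, hz⟩ :=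
    SectRankFour.C2.ActFour.nine hFc (fun v hv => by rw [pow_two]; exact hFsq v hv) hF16.le
      hAc hA3 hA9 hAF hf
  obtain ⟨b1, hb1, hb1n, hb1c, hB1⟩ := exists_three hB1c
  obtain ⟨b2, hb2, hb2n, hb2c, hB2⟩ := exists_three hB2c
  -- centralizers of `B` and of its generator
  have hcen : ∀ {B : Subgroup G} {b : G}, b ∈ B → (∀ y ∈ B, y = 1 ∨ y = b ∨ y = b⁻¹) →
      ∀ x : G, x ∈ centralizer (B : Set G) ↔ x * b = b * x := by
    intro B b hb hB x
    constructor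
    · intro hx
      exact (mem_centralizer_iff.1 hx b hb).symm
    · intro hx
      rw [mem_centralizer_iff]
      intro y hy
      rcases hB y hy with rfl | rfl | rfl
      · rw [one_mul, mul_one]
      · exact hx.symm
      · rw [inv_mul_eq_iff_eq_mul, ← mul_assoc, ← hx, mul_inv_cancel_right]
  have eF1 : F ⊓ centralizer (B1 : Set G) = F ⊓ centralizer ({b1} : Set G) := by
    ext x
    rw [mem_inf, mem_inf, hcen hb1 hB1, mem_centralizer_singleton_iff]
  have eF2 : F ⊓ centralizer (B2 : Set G) = F ⊓ centralizer ({b2} : Set G) := by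
    ext x
    rw [mem_inf, mem_inf, hcen hb2 hB2, mem_centralizer_singleton_iff]
  rw [eF1] at hF1 hF12 hF12s
  rw [eF2] at hF2 hF12 hF12s
  -- the images of `b1`, `b2`
  have himg : ∀ n ∈ K, (∀ a ∈ A, n * a * n⁻¹ ∈ A) → ∀ b ∈ A,
      Nat.card (F ⊓ centralizer ({b} : Set G) : Subgroup G) = 4 → n * b * n⁻¹ ∈ B1 ∨ n * b * n⁻¹ ∈ B2 := by
    intro n hn hnA b hb hc
    by_contra hcon
    push Not at hcon
    have h1 := hz (n * b * n⁻¹) (hnA b hb) hcon.1 hcon.2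
    have h2 : F ⊓ centralizer ({b} : Set G) = ⊥ := by
      rw [eq_bot_iff]
      intro v hv
      have h4 : v * b = b * v := mem_centralizer_singleton_iff.1 hv.2
      have h5 : n * v * n⁻¹ ∈ F ⊓ centralizer ({n * b * n⁻¹} : Set G) := by
        refine ⟨hFK n hn v hv.1, mem_centralizer_singleton_iff.2 ?_⟩
        calc n * v * n⁻¹ * (n * b * n⁻¹) = n * (v * b) * n⁻¹ := by group
          _ = n * (b * v) * n⁻¹ := by rw [h4]
          _ = n * b * n⁻¹ * (n * v * n⁻¹) := by group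
      rw [h1, mem_bot] at h5
      exact mem_bot.2 (conj_eq_one_iff.1 h5)
    rw [h2, card_bot] at hc
    norm_num at hc
  have hne1 : ∀ n b : G, b ≠ 1 → n * b * n⁻¹ ≠ 1 := fun n b hb h => hb (conj_eq_one_iff.1 h)
  have hbot : ∀ x, x ∈ B1 → x ∈ B2 → x = 1 := by
    intro x h1 h2
    have : x ∈ B1 ⊓ B2 := ⟨h1, h2⟩
    rwa [hB12] at this
  have hn12 : b1 ≠ b2 := fun h => hb1n (hbot b1 hb1 (h ▸ hb2))
  have hn12' : b1 ≠ b2⁻¹ := fun h => hb1n (hbot b1 hb1 (h ▸ B2.inv_mem hb2))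
  refine ⟨b1, b2, hFK, hFsq, hF16, hcent, hAK, hB1A hb1, hB2A hb2, hb2n, hb2c,
    hAc _ (hB1A hb1) _ (hB2A hb2), hF1, hF2, ?_, ?_, ?_, ?_, hFA⟩
  · intro f hf h1 h2
    have h4 : f ∈ F ⊓ centralizer ({b1} : Set G) ⊓ (F ⊓ centralizer ({b2} : Set G)) :=
      ⟨⟨hf, mem_centralizer_singleton_iff.2 h1⟩, ⟨hf, mem_centralizer_singleton_iff.2 h2⟩⟩
    rw [hF12] at h4
    exact h4
  · intro f hf
    rw [← hF12s] at hf
    obtain ⟨f1, hf1, f2, hf2, rfl⟩ := exists_mul (fun x hx => C2KillT3.mem_normalizer_of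
      (fun y hy => by
        rw [hFc x hx.1 y hy.1, mul_inv_cancel_right]
        exact hy)) hf
    exact ⟨f1, hf1.1, f2, hf2.1, mem_centralizer_singleton_iff.1 hf1.2,
      mem_centralizer_singleton_iff.1 hf2.2, rfl⟩
  · intro n hn hnA
    have i1 := himg n hn hnA b1 (hB1A hb1) hF1
    have i2 := himg n hn hnA b2 (hB2A hb2) hF2
    have ci : ∀ x b : G, x * b⁻¹ * x⁻¹ = (x * b * x⁻¹)⁻¹ := by
      intro x b; group
    have hcase : ∀ {B : Subgroup G} {b : G}, (∀ y ∈ B, y = 1 ∨ y = b ∨ y = b⁻¹) →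
        n * b1 * n⁻¹ ∈ B → n * b2 * n⁻¹ ∈ B → False := by
      intro B b hB m1 m2
      have e1 := hB _ m1
      have e2 := hB _ m2
      have inj : ∀ x y : G, n * x * n⁻¹ = n * y * n⁻¹ → x = y := fun x y h => by
        simpa using h
      rcases e1 with e1 | e1 | e1
      · exact hne1 n b1 hb1n e1
      · rcases e2 with e2 | e2 | e2
        · exact hne1 n b2 hb2n e2
        · exact hn12 (inj _ _ (e1.trans e2.symm))
        · exact hn12' (inj _ _ (by rw [ci, e2, inv_inv, e1]))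
      · rcases e2 with e2 | e2 | e2
        · exact hne1 n b2 hb2n e2
        · exact hn12' (inj _ _ (by rw [ci, e2, e1]))
        · exact hn12 (inj _ _ (e1.trans e2.symm))
    rcases i1 with i1 | i1 <;> rcases i2 with i2 | i2
    · exact (hcase hB1 i1 i2).elim
    · left
      exact ⟨(hB1 _ i1).resolve_left (hne1 n b1 hb1n), (hB2 _ i2).resolve_left (hne1 n b2 hb2n)⟩
    · right
      exact ⟨(hB2 _ i1).resolve_left (hne1 n b1 hb1n), (hB1 _ i2).resolve_left (hne1 n b2 hb2n)⟩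
    · exact (hcase hB2 i1 i2).elim
  · intro k hk
    have hA2 : IsPGroup 3 A := IsPGroup.of_card (n := 2) (by rw [hA9]; norm_num)
    have h1 := SectRankFour.C2.Par.frattini hAK hA2 h3 hL hk
    have h2 : A ⊓ (F ⊔ A) = A := inf_eq_left.2 le_sup_right
    rw [h2, sup_comm] at h1
    obtain ⟨n, hn, l, hl, rfl⟩ := exists_mul (inf_le_left.trans hL) h1
    rw [sup_comm] at hl
    obtain ⟨a, ha, f, hf', rfl⟩ := exists_mul hAF hl
    -- `n a f = (n a f (n a)⁻¹) n a`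
    have hnaK : n * a ∈ K := K.mul_mem hn.1 (hAK ha)
    refine ⟨(n * a * f * (n * a)⁻¹)⁻¹, F.inv_mem (hFK _ hnaK f hf'), fun x hx => ?_⟩
    have e : (n * a * f * (n * a)⁻¹)⁻¹ * (n * (a * f)) = n * a := by group
    rw [e]
    have e2 : n * a * x * (n * a)⁻¹ = n * (a * x * a⁻¹) * n⁻¹ := by group
    rw [e2]
    exact (mem_normalizer_iff.1 hn.2 _).1 (A.mul_mem (A.mul_mem ha hx) (A.inv_mem ha))

/-- **Main theorem.** -/
theorem main {G : Type*} [Group G] [Finite G] {F S1 K : Subgroup G} (hFS : F ≤ S1) (hSK : S1 ≤ K)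
    (hFK : ∀ k ∈ K, ∀ f ∈ F, k * f * k⁻¹ ∈ F) (hF16 : Nat.card F = 16) (hFsq : ∀ f ∈ F, f * f = 1)
    (hcent : ∀ k ∈ K, (∀ f ∈ F, k * f = f * k) → k ∈ F) (hsolv : Group.IsSolvable K)
    (hO2 : ∀ R ≤ K, IsPGroup 2 R → (∀ k ∈ K, ∀ r ∈ R, k * r * k⁻¹ ∈ R) → R ≤ F)
    (hS1 : IsPGroup 2 S1) (hcard : Nat.card S1 = 128)
    (hna : ∃ a ∈ S1, ∃ b ∈ S1, a * b * a⁻¹ * b⁻¹ ∉ F) :
    Cfsg.Agent.GH.PcTypes.IsType Cfsg.Agent.GH.PcTypes.W8 S1 ∧
      ∀ Y ≤ K, IsPGroup 2 Y → S1 ≤ Y → Y = S1 := by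
  obtain ⟨a, ha, b, hb, hab⟩ := hna
  have hFleK : F ≤ K := hFS.trans hSK
  have hNn : (F.subgroupOf K).Normal := ⟨fun n hn g => by
    rw [mem_subgroupOf] at hn ⊢
    exact hFK g g.2 n hn⟩
  obtain ⟨m, hm⟩ := hS1 ⟨a * b * a⁻¹ * b⁻¹, S1.mul_mem (S1.mul_mem (S1.mul_mem ha hb)
    (S1.inv_mem ha)) (S1.inv_mem hb)⟩
  have hm' : (a * b * a⁻¹ * b⁻¹) ^ 2 ^ m = 1 := congrArg Subtype.val hm
  obtain ⟨A, hA9, hA3, hAc, hAn, hAi⟩ := C2GrowL3A.exists_nine (X := K) (N := F.subgroupOf K)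
    (by rw [SectRankFour.C2.Par.card_subgroupOf hFleK, hF16])
    (fun v hv => Subtype.ext (hFsq v hv))
    (fun k hk => by
      rw [mem_subgroupOf]
      refine hcent k k.2 fun f hf => ?_
      have h1 := mem_centralizer_iff.1 hk ⟨f, hFleK hf⟩ (mem_subgroupOf.2 hf)
      exact (congrArg Subtype.val h1).symm)
    (fun R hRn hR x hx => by
      rw [mem_subgroupOf]
      refine hO2 (R.map K.subtype) (map_subtype_le _) (hR.map _) ?_ ⟨x, hx, rfl⟩
      rintro k hk _ ⟨r, hr, rfl⟩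
      exact ⟨⟨k, hk⟩ * r * ⟨k, hk⟩⁻¹, hRn.conj_mem r hr _, rfl⟩)
    (a := ⟨a, hSK ha⟩) (b := ⟨b, hSK hb⟩) (n := m) (by rw [mem_subgroupOf]; exact hab)
    (Subtype.ext hm')
  have hmapN : (F.subgroupOf K).map K.subtype = F := by
    rw [subgroupOf_map_subtype, inf_eq_left.2 hFleK]
  have hAi' : (A.map K.subtype).relIndex K = A.index := by
    rw [Subgroup.relIndex, Subgroup.subgroupOf, Subgroup.comap_map_eq_self_of_injective K.subtype_injective]
  obtain ⟨b1, b2, d⟩ := exists_dat hFK hF16 hFsq hcent (A := A.map K.subtype) (map_subtype_le _)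
    (by rw [card_map_of_injective K.subtype_injective, hA9])
    (by
      rintro _ ⟨x, hx, rfl⟩
      rw [← map_pow, hA3 x hx, map_one])
    (by
      rintro _ ⟨x, hx, rfl⟩ _ ⟨y, hy, rfl⟩
      rw [← map_mul, hAc x hx y hy, map_mul])
    (by
      have h1 : F ⊔ A.map K.subtype = (F.subgroupOf K ⊔ A).map K.subtype := by
        rw [Subgroup.map_sup, hmapN]
      rw [h1]
      intro k hk
      apply C2KillT3.mem_normalizer_of
      rintro _ ⟨x, hx, rfl⟩
      exact ⟨⟨k, hk⟩ * x * ⟨k, hk⟩⁻¹, hAn.conj_mem x hx _, rfl⟩)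
    (by rw [hAi']; exact hAi)
  refine ⟨d.isType hS1 hFS hSK hcard, fun Y hY hY2 hSY => ?_⟩
  exact (Subgroup.eq_of_le_of_card_ge hSY (by rw [hcard]; exact d.card_le hY2 (hFS.trans hSY) hY)).symm

end Cfsg.Agent.GH.C2GrowL3K
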