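import Cfsg.Agent.GH.C2GrowL3F

/-!
# GH-C2, growth, `M/V = L₃(2)`: a normal elementary abelian group of order 16 not in `E` is `F`
-/

set_option autoImplicit false

namespace Cfsg.Agent.GH.C2GrowL3S

open Subgroup Cfsg.Agent.GH.C2GrowL3Base Cfsg.Agent.GH.C2GrowL3V Cfsg.Agent.GH.C2GrowL3P
  Cfsg.Agent.GH.C2GrowL3X Cfsg.Agent.GH.C2GrowL3C Cfsg.Agent.GH.C2GrowL3D
  Cfsg.Agent.GH.C2GrowL3F Cfsg.Agent.GH.C2GrowL3F.Conf2

variable {G : Type*} [Group G] {V T E C : Subgroup G} {z y x t : G} {c : Conf V T z y x}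

/-- `T` normalises `V^t` -/
theorem T_cj [Finite G] (h : Conf2 V T E C z y x t c) {k g : G} (hk : k ∈ T) (hg : g ∈ cj t V) :
    k * g * k⁻¹ ∈ cj t V := by
  rw [mem_cj] at hg ⊢
  have h1 := ET h t⁻¹ (E.inv_mem h.tE) k hk
  have h2 : t⁻¹ * (k * g * k⁻¹) * t = (t⁻¹ * k * t⁻¹⁻¹) * (t⁻¹ * g * t) * (t⁻¹ * k * t⁻¹⁻¹)⁻¹ := by group
  rw [h2]
  exact mem_norm (c.TN h1) hg

/-- (M1) -/
theorem mem_P_of_C [Finite G] (h : Conf2 V T E C z y x t c) {k : G} (hk : k ∈ T)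
    (hC : ∀ w ∈ C, k * w * k⁻¹ = w ∨ k * w * k⁻¹ = z * w) : k ∈ c.P := by
  rw [c.mem_P]
  refine ⟨c.TN hk, c.Tz k hk, fun v hv => ?_⟩
  have hzV' : z ∈ cj t V := (e8V' h).hz
  have h1 : k * (t * v * t⁻¹) * k⁻¹ ∈ cj t V := T_cj h hk (conj_mem_cj hv)
  have h2 := hC _ (dual h hv)
  rw [conj_mul'] at h2
  have h3 : v⁻¹ * (k * v * k⁻¹) ∈ V := V.mul_mem (V.inv_mem hv) (mem_norm (c.TN hk) hv)
  have h4 : v⁻¹ * (k * v * k⁻¹) ∈ cj t V := by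
    rcases h2 with h2 | h2
    · have h5 : v⁻¹ * (k * v * k⁻¹) = (t * v * t⁻¹) * (k * (t * v * t⁻¹) * k⁻¹)⁻¹ := by
        have h6 : k * v * k⁻¹ = (v * (t * v * t⁻¹)) * (k * (t * v * t⁻¹) * k⁻¹)⁻¹ := by
          rw [← h2, mul_inv_cancel_right]
        rw [h6]; group
      rw [h5]
      exact mul_mem (conj_mem_cj hv) (inv_mem h1)
    · have hvz : v⁻¹ * z = z * v⁻¹ := c.hyp.comm (V.inv_mem hv) c.bas.hz
      have h5 : v⁻¹ * (k * v * k⁻¹) = z * ((t * v * t⁻¹) * (k * (t * v * t⁻¹) * k⁻¹)⁻¹) := by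
        have h6 : k * v * k⁻¹ = (z * (v * (t * v * t⁻¹))) * (k * (t * v * t⁻¹) * k⁻¹)⁻¹ := by
          rw [← h2, mul_inv_cancel_right]
        rw [h6]
        calc v⁻¹ * (z * (v * (t * v * t⁻¹)) * (k * (t * v * t⁻¹) * k⁻¹)⁻¹)
            = (v⁻¹ * z) * v * (t * v * t⁻¹) * (k * (t * v * t⁻¹) * k⁻¹)⁻¹ := by group
          _ = _ := by rw [hvz]; group
      rw [h5]
      exact mul_mem hzV' (mul_mem (conj_mem_cj hv) (inv_mem h1))
  rcases VV' h _ h3 h4 with h5 | h5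
  · left
    rw [inv_mul_eq_one] at h5
    exact h5.symm
  · right
    have h6 : k * v * k⁻¹ = v * z := by rw [← h5]; group
    rw [h6, c.hyp.comm hv c.bas.hz]

/-- (M2) -/
theorem mem_E_of_C [Finite G] (h : Conf2 V T E C z y x t c) {g : G} (hg : g ∈ T ∨ t⁻¹ * g ∈ T)
    (hC : ∀ w ∈ C, g * w = w * g) : g ∈ E := by
  rcases hg with hg | hg
  · exact h.PE (mem_P_of_C h hg fun w hw => Or.inl ((conj_eq_iff _ _ _).2 (hC w hw)))
  · have h1 : t⁻¹ * g ∈ c.P := by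
      refine mem_P_of_C h hg fun w hw => ?_
      have h2 : g * w * g⁻¹ = w := (conj_eq_iff _ _ _).2 (hC w hw)
      rw [conj_conj, h2]
      exact h.CE _ (E.inv_mem h.tE) w hw
    have h2 := E.mul_mem h.tE (h.PE h1)
    rwa [mul_inv_cancel_left] at h2

/-- `C ∩ V^t = ⟨z⟩` -/
theorem C_cj [Finite G] (h : Conf2 V T E C z y x t c) : ∀ g ∈ C, g ∈ cj t V → g = 1 ∨ g = z := by
  intro g hg hg'
  have h1 := mem_cj.1 hg'
  have h2 := h.CE _ (E.inv_mem h.tE) g hg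
  rw [inv_inv] at h2
  have h3 : t⁻¹ * g * t ∈ C := by
    rcases h2 with h2 | h2 <;> rw [h2]
    · exact hg
    · exact C.mul_mem h.e8.hz hg
  have h5 : g = t * (t⁻¹ * g * t) * t⁻¹ := by group
  rcases h.CV _ h3 h1 with h4 | h4
  · left; rw [h5, h4]; group
  · right; rw [h5, h4, tz h]

/-- `a V a⁻¹ = V^t` for `a ∈ t T` -/
theorem conj_V [Finite G] (_h : Conf2 V T E C z y x t c) {a v : G} (ha : t⁻¹ * a ∈ T) (hv : v ∈ V) :
    a * v * a⁻¹ ∈ cj t V := by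
  rw [mem_cj]
  have h1 : t⁻¹ * (a * v * a⁻¹) * t = (t⁻¹ * a) * v * (t⁻¹ * a)⁻¹ := by group
  rw [h1]
  exact mem_norm (c.TN ha) hv

/-- `a V^t a⁻¹ = V` for `a ∈ t T` -/
theorem conj_V' [Finite G] (h : Conf2 V T E C z y x t c) {a g : G} (ha : t⁻¹ * a ∈ T) (hg : g ∈ cj t V) :
    a * g * a⁻¹ ∈ V := by
  have h1 := mem_cj.1 (T_cj h ha hg)
  have h2 : a * g * a⁻¹ = (t * t) * (t⁻¹ * (t⁻¹ * a * g * (t⁻¹ * a)⁻¹) * t) * (t * t)⁻¹ := by group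
  rw [h2]
  exact mem_norm (tt h).1 h1

theorem mem_T_of_not_mem [Finite G] (h : Conf2 V T E C z y x t c) {A : Subgroup G} (hA16 : Nat.card A = 16)
    (hAsq : ∀ a ∈ A, a * a = 1) (hAS : ∀ a ∈ A, a ∈ T ∨ t⁻¹ * a ∈ T)
    (hAT : ∀ g ∈ T, ∀ a ∈ A, g * a * g⁻¹ ∈ A) (hzA : z ∈ A) {a : G} (haA : a ∈ A)
    (haE : a ∉ E) : a ∈ T := by
  by_contra haT
  have hta : t⁻¹ * a ∈ T := (hAS a haA).resolve_left haT
  have b := c.bas
  have hz := b.hz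
  have haP : a ∉ c.P := fun h1 => haE (h.PE h1)
  -- `κ(v)`
  have hkA : ∀ v ∈ V, a * v * a⁻¹ * v⁻¹ ∈ A := by
    intro v hv
    have h1 : a * v * a⁻¹ * v⁻¹ = a * (v * a⁻¹ * v⁻¹) := by group
    rw [h1]
    exact A.mul_mem haA (hAT v (c.PT (c.VP hv)) _ (A.inv_mem haA))
  have hkP : ∀ v ∈ V, a * v * a⁻¹ * v⁻¹ ∈ c.P := fun v hv =>
    c.P.mul_mem ((e8V' h).le (conj_V h hta hv)) (c.P.inv_mem (c.VP hv))
  have hkB : ∀ v ∈ V, a * v * a⁻¹ * v⁻¹ ∈ A ⊓ c.P := fun v hv => mem_inf.2 ⟨hkA v hv, hkP v hv⟩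
  have hBsq : ∀ g ∈ A ⊓ c.P, g * g = 1 := fun g hg => hAsq g (mem_inf.1 hg).1
  have hzB : z ∈ A ⊓ c.P := mem_inf.2 ⟨hzA, c.VP hz⟩
  have hzV' : z ∈ cj t V := (e8V' h).hz
  -- `κ(v) ∈ V^t ↔ v ∈ V^t`
  have hkv : ∀ v ∈ V, a * v * a⁻¹ * v⁻¹ ∈ cj t V → v = 1 ∨ v = z := by
    intro v hv h1
    have h2 : v⁻¹ ∈ cj t V := by
      have h3 := mul_mem (inv_mem (conj_V h hta hv)) h1
      have h4 : (a * v * a⁻¹)⁻¹ * (a * v * a⁻¹ * v⁻¹) = v⁻¹ := by group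
      rwa [h4] at h3
    exact VV' h v hv (by simpa using inv_mem h2)
  have hprod : ∀ v ∈ V, ∀ w ∈ V, a * v * a⁻¹ * v⁻¹ = a * w * a⁻¹ * w⁻¹ ∨
      a * v * a⁻¹ * v⁻¹ = z * (a * w * a⁻¹ * w⁻¹) → w⁻¹ * v = 1 ∨ w⁻¹ * v = z := by
    intro v hv w hw hvw
    refine VV' h _ (V.mul_mem (V.inv_mem hw) hv) ?_
    rcases hvw with h1 | h1
    · have h2 : w⁻¹ * v = (a * w * a⁻¹)⁻¹ * (a * v * a⁻¹) := by
        have h3 : a * v * a⁻¹ = a * w * a⁻¹ * w⁻¹ * v := by rw [← h1]; group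
        rw [h3]; group
      rw [h2]
      exact mul_mem (inv_mem (conj_V h hta hw)) (conj_V h hta hv)
    · have h2 : w⁻¹ * v = (a * w * a⁻¹)⁻¹ * z⁻¹ * (a * v * a⁻¹) := by
        have h3 : a * v * a⁻¹ = z * (a * w * a⁻¹ * w⁻¹) * v := by rw [← h1]; group
        rw [h3]; group
      rw [h2]
      exact mul_mem (mul_mem (inv_mem (conj_V h hta hw)) (inv_mem hzV')) (conj_V h hta hv)
  -- the order of `B = A ∩ P`
  have hky1 : a * y * a⁻¹ * y⁻¹ ≠ 1 := by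
    intro h1
    rcases hkv y b.hy (by rw [h1]; exact one_mem _) with h2 | h2
    · exact b.y1 h2
    · exact b.yz h2
  have hkyz : a * y * a⁻¹ * y⁻¹ ≠ z := by
    intro h1
    rcases hkv y b.hy (by rw [h1]; exact hzV') with h2 | h2
    · exact b.y1 h2
    · exact b.yz h2
  have hcard : Nat.card (A ⊓ c.P : Subgroup G) = 8 := by
    have h4 : Nat.card (kl (A ⊓ c.P) hBsq z (a * y * a⁻¹ * y⁻¹) hzB (hkB y b.hy)) = 4 :=
      card_kl b.z1 hky1 hkyz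
    have hle : Nat.card (A ⊓ c.P : Subgroup G) ≤ 8 := by
      have h1 := card_mul_relIndex (inf_le_left : A ⊓ c.P ≤ A)
      have h2 : (A ⊓ c.P).relIndex A ≠ 1 := fun h2 =>
        haP (mem_inf.1 (Subgroup.relIndex_eq_one.1 h2 haA)).2
      have h3 : (A ⊓ c.P).relIndex A ≠ 0 := by
        intro h3
        rw [h3, mul_zero, hA16] at h1
        exact absurd h1 (by norm_num)
      rw [hA16] at h1
      have h5 : 2 ≤ (A ⊓ c.P).relIndex A := by omega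
      nlinarith
    have hx : a * x * a⁻¹ * x⁻¹ ∉ kl (A ⊓ c.P) hBsq z (a * y * a⁻¹ * y⁻¹) hzB (hkB y b.hy) := by
      rintro (h1 | h1 | h1 | h1)
      · rcases hkv x b.hx (by rw [h1]; exact one_mem _) with h2 | h2
        · exact b.x1 h2
        · exact b.xz h2
      · rcases hkv x b.hx (by rw [h1]; exact hzV') with h2 | h2
        · exact b.x1 h2
        · exact b.xz h2
      all_goals
        have h2 := hprod x b.hx y b.hy (by first | exact Or.inl h1 | exact Or.inr h1)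
        rcases h2 with h2 | h2
        · rw [inv_mul_eq_one] at h2
          exact b.xy h2.symm
        · have h3 : x = y * z := by rw [← h2]; group
          rw [c.hyp.comm b.hy b.hz] at h3
          exact b.xzy h3
    have h5 := card_two_mul_of (kl_le hzB (hkB y b.hy)) (hkB x b.hx) hx (by rw [h4]; exact hle)
    rw [h5, h4]
  have e8B : E8 c.P z (A ⊓ c.P) := ⟨inf_le_right, hcard, hzB, hBsq⟩
  have hBV : ∀ g ∈ A ⊓ c.P, g ∈ V → g = 1 ∨ g = z := by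
    intro g hg hgV
    have h1 : a * g * a⁻¹ = g := (conj_eq_iff _ _ _).2 (comm_of_sq hAsq haA (mem_inf.1 hg).1)
    have h2 := conj_V h hta hgV
    rw [h1] at h2
    exact VV' h g hgV h2
  have hBV' : ∀ g ∈ A ⊓ c.P, g ∈ cj t V → g = 1 ∨ g = z := by
    intro g hg hgV
    have h1 : a * g * a⁻¹ = g := (conj_eq_iff _ _ _).2 (comm_of_sq hAsq haA (mem_inf.1 hg).1)
    have h2 := conj_V' h hta hgV
    rw [h1] at h2
    exact VV' h g h2 hgV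
  have X := Cnf.ex c
  have hle : A ⊓ c.P ≤ C := X.lemmaB (e8V c) (e8V' h) e8B h.e8 (VV' h) hBV hBV' h.CV (C_cj h)
  have heq : A ⊓ c.P = C := Subgroup.eq_of_le_of_card_ge hle (by rw [hcard, h.e8.card])
  refine haE (mem_E_of_C h (Or.inr hta) fun w hw => ?_)
  rw [← heq] at hw
  exact comm_of_sq hAsq haA (mem_inf.1 hw).1

theorem eq_F [Finite G] (h : Conf2 V T E C z y x t c) {A : Subgroup G} (hA16 : Nat.card A = 16)
    (hAsq : ∀ a ∈ A, a * a = 1) (hAS : ∀ a ∈ A, a ∈ T ∨ t⁻¹ * a ∈ T)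
    (hAT : ∀ g ∈ T, ∀ a ∈ A, g * a * g⁻¹ ∈ A) (hAt : ∀ a ∈ A, t * a * t⁻¹ ∈ A) (hzA : z ∈ A)
    (hAE : ¬ A ≤ E) : A = Fg T y t := by
  have b := c.bas
  obtain ⟨a, haA, haE⟩ := SetLike.not_le_iff_exists.1 hAE
  have key : ∀ a ∈ A, a ∉ E → a ∈ T := fun a h1 h2 => mem_T_of_not_mem h hA16 hAsq hAS hAT hzA h1 h2
  have haT := key a haA haE
  have hAleT : A ≤ T := by
    intro g hg
    by_cases hgE : g ∈ E
    · have h1 : a * g ∉ E := fun h1 => haE ((E.mul_mem_cancel_right hgE).1 h1)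
      have h2 := key _ (A.mul_mem haA hg) h1
      exact (T.mul_mem_cancel_left haT).1 h2
    · exact key g hg hgE
  have haP : a ∉ c.P := fun h1 => haE (h.PE h1)
  -- `y ∈ A`
  have hyA : y ∈ A := by
    have h1 : ¬ ∀ v ∈ V, a * v * a⁻¹ = v ∨ a * v * a⁻¹ = z * v := fun h1 =>
      haP (c.mem_P.2 ⟨c.TN haT, c.Tz a haT, h1⟩)
    push Not at h1
    obtain ⟨v, hv, hv1, hv2⟩ := h1
    have hkA : a * v * a⁻¹ * v⁻¹ ∈ A := by
      have h1 : a * v * a⁻¹ * v⁻¹ = a * (v * a⁻¹ * v⁻¹) := by group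
      rw [h1]
      exact A.mul_mem haA (hAT v (c.PT (c.VP hv)) _ (A.inv_mem haA))
    have hkV : a * v * a⁻¹ * v⁻¹ ∈ V := V.mul_mem (mem_norm (c.TN haT) hv) (V.inv_mem hv)
    have hk1 : a * v * a⁻¹ * v⁻¹ ≠ 1 := fun h1 => hv1 (mul_inv_eq_one.1 h1)
    have hkz : a * v * a⁻¹ * v⁻¹ ≠ z := fun h1 => hv2 (mul_inv_eq_iff_eq_mul.1 h1)
    obtain ⟨g, hgT, hgz, hgy, hgx⟩ := c.exists_g1
    set κ := a * v * a⁻¹ * v⁻¹ with hκ
    have h2 : g * κ * g⁻¹ * κ⁻¹ ∈ A := A.mul_mem (hAT g hgT κ hkA) (A.inv_mem hkA)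
    have hzy := c.hyp.comm b.hz b.hy
    rcases c.hyp.mem b hkV with h3 | h3 | h3 | h3 | h3 | h3 | h3 | h3
    · exact absurd h3 hk1
    · exact absurd h3 hkz
    · rw [← h3]; exact hkA
    · have h4 := A.mul_mem hzA hkA
      rw [h3, ← mul_assoc, c.zz, one_mul] at h4
      exact h4
    · have h4 : g * κ * g⁻¹ * κ⁻¹ = y := by
        rw [h3, hgx]; group
      rwa [h4] at h2
    · have h4 : g * κ * g⁻¹ * κ⁻¹ = y := by
        rw [h3, conj_mul', hgz, hgx]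
        calc z * (y * x) * (z * x)⁻¹ = (z * y) * z⁻¹ := by group
          _ = y := by rw [hzy]; group
      rwa [h4] at h2
    · have h4 : g * κ * g⁻¹ * κ⁻¹ = y := by
        rw [h3, conj_mul', hgy, hgx]; group
      rwa [h4] at h2
    · have h4 : g * κ * g⁻¹ * κ⁻¹ = y := by
        rw [h3, conj_mul', conj_mul', hgz, hgy, hgx]
        calc z * y * (y * x) * (z * y * x)⁻¹ = (z * y) * z⁻¹ := by group
          _ = y := by rw [hzy]; group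
      rwa [h4] at h2
  have hy'A := hAt y hyA
  refine Subgroup.eq_of_le_of_card_ge (fun g hg => ?_) (by rw [hA16, (cardC2 h).2])
  rw [mem_Fg]
  exact ⟨hAleT hg, (conj_eq_iff _ _ _).2 (comm_of_sq hAsq hg hyA),
    (conj_eq_iff _ _ _).2 (comm_of_sq hAsq hg hy'A)⟩

end Cfsg.Agent.GH.C2GrowL3S
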