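import Cfsg.Agent.GH.C2GrowL3N
import Cfsg.Agent.GH.C2GrowL3S
import Cfsg.Agent.GH.C2GrowL3K
import Cfsg.Agent.GH.AFour
import Cfsg.Agent.GH.C2Extra

/-!
# GH-C2, growth, `M/V = L₃(2)`, `|V| = 8`: the final theorem
-/

set_option autoImplicit false

namespace Cfsg.Agent.GH.C2GrowL3Main

open Subgroup Cfsg Cfsg.Agent.ZN Cfsg.Agent.MinSimple.MinParabolic Cfsg.Agent.MinSimple.VModule
open Cfsg.Agent.GH.C2GrowL3Base Cfsg.Agent.GH.C2GrowL3V
  Cfsg.Agent.GH.C2GrowL3P Cfsg.Agent.GH.C2GrowL3X Cfsg.Agent.GH.C2GrowL3C Cfsg.Agent.GH.C2GrowL3D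
  Cfsg.Agent.GH.C2GrowL3F Cfsg.Agent.GH.C2GrowL3N

variable {G : Type*} [Group G] {V T E C : Subgroup G} {z y x t : G}

/-- Normaliser condition in a 2-group. -/
theorem exists_normalizing [Finite G] {T Y : Subgroup G} (hY : IsPGroup 2 Y) (hTY : T ≤ Y)
    (hne : T ≠ Y) : ∃ s ∈ Y, s ∉ T ∧ ∀ t ∈ T, s * t * s⁻¹ ∈ T := by
  have : Fact (Nat.Prime 2) := ⟨Nat.prime_two⟩
  have hnil : Group.IsNilpotent Y := hY.isNilpotent
  have hlt : T.subgroupOf Y < ⊤ := by
    rw [lt_top_iff_ne_top, Ne, Subgroup.subgroupOf_eq_top]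
    exact fun h => hne (le_antisymm hTY h)
  have h2 := Group.normalizerCondition_of_isNilpotent (T.subgroupOf Y) hlt
  obtain ⟨s, hs, hsT⟩ := SetLike.exists_of_lt h2
  refine ⟨s, s.2, fun h => hsT (Subgroup.mem_subgroupOf.2 h), fun t ht => ?_⟩
  have h3 := (Subgroup.mem_normalizer_iff.1 hs ⟨t, hTY ht⟩).1 (Subgroup.mem_subgroupOf.2 ht)
  exact Subgroup.mem_subgroupOf.1 h3

theorem mem_norm_of [Finite G] {A : Subgroup G} {g : G} (h : ∀ a ∈ A, g * a * g⁻¹ ∈ A) :
    g ∈ normalizer (A : Set G) := by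
  have h1 : cj g A ≤ A := by
    rintro _ ⟨f, hf, rfl⟩
    exact h f hf
  have h2 : cj g A = A := Subgroup.eq_of_le_of_card_ge h1 (by rw [card_cj])
  rw [mem_normalizer_iff]
  intro f
  refine ⟨h f, fun hf => ?_⟩
  rw [← h2, mem_cj] at hf
  have h3 : g⁻¹ * (g * f * g⁻¹) * g = f := by group
  rwa [h3] at hf

/-- The centre of `T`. -/
theorem center_T [Finite G] (c : Conf V T z y x) {g : G} (h : ∀ p ∈ c.P, g * p = p * g) : g = 1 ∨ g = z := by
  have hgV : g ∈ V := c.hyp.cent g fun v hv => h v (c.VP hv)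
  exact (Cnf.ex c).cen g (c.VP hgV) h

/-- A 2-subgroup of `N(V)` containing `T` is `T` -/
theorem eq_T [Finite G] (c : Conf V T z y x) {Y : Subgroup G} (hY2 : IsPGroup 2 Y) (hTY : T ≤ Y)
    (hY : Y ≤ normalizer (V : Set G)) : T = Y :=
  Subgroup.eq_of_le_of_card_ge hTY (by rw [c.cardT]; exact card_le c.hyp hY hY2)

/-- the inputs about `W = O₂(C_G(z))` -/
structure WHyp (W : Subgroup G) (c : Conf V T z y x) : Prop where
  two : IsPGroup 2 W
  cz : ∀ w ∈ W, w * z * w⁻¹ = z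
  norm : ∀ g : G, g * z * g⁻¹ = z → ∀ w ∈ W, g * w * g⁻¹ ∈ W
  VW : V ≤ W
  t0 : ∃ t0 : G, t0 * z * t0⁻¹ = z ∧ t0 ∉ normalizer (V : Set G)

section

variable {W : Subgroup G} {c : Conf V T z y x} (w : WHyp W c)
include w

theorem WN [Finite G] {g : G} (hg : g ∈ W) (hgV : g ∈ normalizer (V : Set G)) : g ∈ c.P := by
  obtain ⟨d, hd1, hd2, hd3, hd4, hd5⟩ := c.exists_d
  have hd : DD V z y x d := ⟨hd1, hd2, hd3, hd4, hd5⟩
  have b := c.bas
  have zz := c.zz
  have hcz := card_zpowers_two zz b.z1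
  obtain ⟨v0, hv0, hv0z, hv0f⟩ := exists_fix (T := W ⊓ normalizer (V : Set G)) (A := V) (B := zpowers z)
    (w.two.to_le inf_le_left) (isPGroup_of_sq c.hyp.sq) (zpowers_le.2 b.hz) (by
      intro h
      have := c.hyp.card
      rw [← h, hcz] at this
      omega) (fun t ht a ha => mem_norm (mem_inf.1 ht).2 ha) (fun t ht a ha => by
      rw [mem_zpowers_two zz] at ha ⊢
      rcases ha with rfl | rfl
      · left; group
      · right; exact w.cz t (mem_inf.1 ht).1)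
  rw [mem_zpowers_two zz] at hv0z
  push Not at hv0z
  let D : Subgroup G :=
    { carrier := {v | v ∈ V ∧ ∀ g ∈ W ⊓ normalizer (V : Set G), g * v * g⁻¹ = v ∨ g * v * g⁻¹ = z * v}
      one_mem' := ⟨V.one_mem, fun g _ => Or.inl (by group)⟩
      mul_mem' := by
        rintro a b ⟨ha, ha'⟩ ⟨hb, hb'⟩
        refine ⟨V.mul_mem ha hb, fun g hg => ?_⟩
        have h1 := c.hyp.comm ha c.bas.hz
        rw [conj_mul']
        rcases ha' g hg with h2 | h2 <;> rcases hb' g hg with h3 | h3 <;> rw [h2, h3]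
        · left; rfl
        · right; rw [← mul_assoc, h1, mul_assoc]
        · right; rw [mul_assoc]
        · left
          rw [mul_assoc, ← mul_assoc a z b, h1, ← mul_assoc, ← mul_assoc, zz, one_mul]
      inv_mem' := by
        rintro a ⟨ha, ha'⟩
        rw [inv_of_sq (c.hyp.sq a ha)]
        exact ⟨ha, ha'⟩ }
  have hDV : D ≤ V := fun v hv => hv.1
  have hv0D : v0 ∈ D := by
    refine ⟨hv0, fun g hg => ?_⟩
    have h1 := hv0f g hg
    rw [mem_zpowers_two zz] at h1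
    rcases h1 with h1 | h1
    · left; rw [inv_mul_eq_one] at h1; exact h1.symm
    · right; rw [inv_mul_eq_iff_eq_mul] at h1; rw [h1, c.hyp.comm hv0 b.hz]
  have hdD : d * v0 * d⁻¹ ∈ D := by
    refine ⟨mem_norm hd.norm hv0, fun g hg => ?_⟩
    have h1 : d⁻¹ * g * d⁻¹⁻¹ ∈ W ⊓ normalizer (V : Set G) :=
      mem_inf.2 ⟨w.norm d⁻¹ (conj_inv_eq hd.dz) g (mem_inf.1 hg).1,
        mul_mem (mul_mem (inv_mem hd.norm) (mem_inf.1 hg).2) (inv_mem (inv_mem hd.norm))⟩
    have h2 : g * (d * v0 * d⁻¹) * g⁻¹ = d * ((d⁻¹ * g * d⁻¹⁻¹) * v0 * (d⁻¹ * g * d⁻¹⁻¹)⁻¹) * d⁻¹ := by group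
    rw [h2]
    rcases hv0D.2 _ h1 with h3 | h3
    · left; rw [h3]
    · right; rw [h3, conj_mul', hd.dz]
  have hcz' : v0 * z = z * v0 := c.hyp.comm hv0 b.hz
  have hDV' : D = V := by
    refine eq_of_three c.hyp.card hDV (z := z) ⟨b.hz, fun g hg => Or.inl (w.cz g (mem_inf.1 hg).1)⟩ hv0D hdD zz
      b.z1 hv0z.1 hv0z.2 ?_ ?_ ?_ ?_
    · intro h; exact hv0z.1 (conj_inj (g := d) (by rw [h]; group))
    · intro h; exact hv0z.2 (conj_inj (g := d) (by rw [h, hd.dz]))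
    · intro h
      rcases Cnf.fpfV c hd.dz hd.dy hd.dx hv0 (Or.inl h) with h1 | h1
      · exact hv0z.1 h1
      · exact hv0z.2 h1
    · intro h
      rcases Cnf.fpfV c hd.dz hd.dy hd.dx hv0 (Or.inr (by rw [h, hcz'])) with h1 | h1
      · exact hv0z.1 h1
      · exact hv0z.2 h1
  refine ⟨hgV, w.cz g hg, fun v hv => ?_⟩
  rw [← hDV'] at hv
  exact hv.2 g (mem_inf.2 ⟨hg, hgV⟩)

/-- `P ≤ W` -/
theorem PW [Finite G] : c.P ≤ W := by
  obtain ⟨d, hd1, hd2, hd3, hd4, hd5⟩ := c.exists_d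
  have hd : DD V z y x d := ⟨hd1, hd2, hd3, hd4, hd5⟩
  have b := c.bas
  obtain ⟨t0, ht0z, ht0V⟩ := w.t0
  have hVne : V ≠ W := by
    intro h
    apply ht0V
    refine mem_norm_of fun v hv => ?_
    have h1 := w.norm t0 ht0z v (by rw [← h]; exact hv)
    rwa [← h] at h1
  obtain ⟨s, hsW, hsV, hs⟩ := exists_normalizing w.two w.VW hVne
  have hsN : s ∈ normalizer (V : Set G) := mem_norm_of hs
  set K : Subgroup G := W ⊓ normalizer (V : Set G) with hK
  have hKP : K ≤ c.P := fun g hg => WN w (mem_inf.1 hg).1 (mem_inf.1 hg).2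
  have hVK : V ≤ K := le_inf w.VW le_normalizer
  obtain ⟨m, hm, hm3⟩ := relIndex_of (c := c) hd hKP (hVK b.hz) (fun a ha =>
    mem_inf.2 ⟨w.norm d hd.dz a (mem_inf.1 ha).1,
      mul_mem (mul_mem hd.norm (mem_inf.1 ha).2) (inv_mem hd.norm)⟩)
  have X := Cnf.ex c
  have h1 : Nat.card K ∣ 32 := X.card ▸ Subgroup.card_dvd_of_le hKP
  have h2 : 8 < Nat.card K := by
    have h3 : 8 ≤ Nat.card K := c.hyp.card ▸ Subgroup.card_le_of_le hVK
    rcases Nat.lt_or_ge 8 (Nat.card K) with h4 | h4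
    · exact h4
    · exfalso
      have h5 : V = K := Subgroup.eq_of_le_of_card_ge hVK (by rw [c.hyp.card]; exact h4)
      apply hsV
      rw [h5]
      exact mem_inf.2 ⟨hsW, hsN⟩
  rw [hm] at h1 h2
  have h4 : m ∣ 16 := by
    have : 2 * m ∣ 2 * 16 := h1
    exact Nat.dvd_of_mul_dvd_mul_left (by norm_num) this
  have h5 : m ∈ Nat.divisors 16 := Nat.mem_divisors.2 ⟨h4, by norm_num⟩
  have h6 : Nat.divisors 16 = {1, 2, 4, 8, 16} := by decide
  rw [h6] at h5
  simp only [Finset.mem_insert, Finset.mem_singleton] at h5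
  have h7 : m % 3 = 1 := hm3
  have h8 : m = 16 := by omega
  have h9 : K = c.P := Subgroup.eq_of_le_of_card_ge hKP (by rw [hm, h8, X.card])
  rw [← h9]
  exact inf_le_left

/-- The case `W ≠ P`. -/
theorem big [Finite G] (hne : c.P ≠ W) : Big V T (W ⊓ normalizer (c.P : Set G)) z y x c := by
  obtain ⟨s, hsW, hsP, hs⟩ := exists_normalizing w.two (PW w) hne
  refine ⟨le_inf (PW w) le_normalizer, w.two.to_le inf_le_left, fun g hg p hp => mem_norm (mem_inf.1 hg).2 hp,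
    fun g hg => w.cz g (mem_inf.1 hg).1, fun g hg hgV => WN w (mem_inf.1 hg).1 hgV,
    ⟨s, mem_inf.2 ⟨hsW, mem_norm_of hs⟩, hsP⟩, fun g hg hgz k hk => mem_inf.2 ⟨w.norm g hgz k (mem_inf.1 hk).1, ?_⟩⟩
  have h1 : g ∈ normalizer (c.P : Set G) := mem_norm_of fun p hp => c.P_conj hg hgz hp
  exact mul_mem (mul_mem h1 (mem_inf.1 hk).2) (inv_mem h1)

end

/-- The second case: `S = T⟨t⟩` is of type `W8`. -/
theorem second [Finite G] (hc2 : IsCharacteristicTwoType G)
    (hsol : ∀ N : Subgroup G, IsTwoLocal N → 128 ∣ Nat.card N → Group.IsSolvable N)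
    {W : Subgroup G} {c : Conf V T z y x} (w : WHyp W c) (hne : c.P ≠ W) (S : Sylow 2 G) :
    PcTypes.IsType PcTypes.W8 ↥(S : Subgroup G) := by
  have : Fact (Nat.Prime 2) := ⟨Nat.prime_two⟩
  have B := big w hne
  obtain ⟨C, t, h⟩ := conf2 B
  set E : Subgroup G := W ⊓ normalizer (c.P : Set G) with hE
  have b := c.bas
  have htT : t ∉ T := fun ht => h.tP (h.inf t h.tE (c.TN ht))
  set F := Fg T y t with hF
  -- `S1`
  set S1 : Subgroup G := ext T t (c.PT (Conf2.tt h)) (fun g hg => Conf2.ET h t h.tE g hg) with hS1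
  have hTS1 : T ≤ S1 := fun g hg => Or.inl hg
  have htS1 : t ∈ S1 := Or.inr (by rw [inv_mul_cancel]; exact T.one_mem)
  have hcS1 : Nat.card S1 = 128 := by
    rw [card_eq_two_mul hTS1 htS1 htT (fun g hg hgT => hg.resolve_left hgT), c.cardT]
  have hS12 : IsPGroup 2 S1 := IsPGroup.of_card (n := 7) (by rw [hcS1]; norm_num)
  -- `K = N(F)`
  set K : Subgroup G := normalizer (F : Set G) with hK
  have hTK : T ≤ K := fun g hg => mem_norm_of fun f hf => Conf2.normF h hg hf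
  have htK : t ∈ K := mem_norm_of fun f hf => Conf2.tF h hf
  have hS1K : S1 ≤ K := by
    rintro g (hg | hg)
    · exact hTK hg
    · have := mul_mem htK (hTK hg)
      rwa [mul_inv_cancel_left] at this
  have hFT : F ≤ T := fun f hf => (mem_Fg.1 hf).1
  have hF2 : IsPGroup 2 F := isPGroup_of_sq (sqF h)
  have hF1 : F ≠ ⊥ := by
    intro h1
    have h2 := (Conf2.cardC2 h).2
    rw [← hF, h1, Subgroup.card_bot] at h2
    omega
  have hloc : IsTwoLocal K := ⟨F, hF2, hF1, rfl⟩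
  have hKs : Group.IsSolvable K := hsol K hloc (hcS1 ▸ Subgroup.card_dvd_of_le hS1K)
  have hFo : F ≤ o2 K := le_o2 le_normalizer hF2 le_rfl
  have ho2 : o2 K = F := by
    refine o2F h (o2_isPGroup K) hFo (fun k hk r hr => mem_norm (le_normalizer_o2 K hk) hr) ?_
    exact map_subtype_le _
  have hcent : ∀ k ∈ K, (∀ f ∈ F, k * f = f * k) → k ∈ F := by
    intro k hk h1
    have h2 := hc2.2 F hF2 hF1
    have h3 : (⟨k, hk⟩ : K) ∈ centralizer (pCore 2 K : Set K) := by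
      rw [mem_centralizer_iff]
      intro a ha
      apply Subtype.ext
      have h4 : (a : G) ∈ o2 K := ⟨a, ha, rfl⟩
      rw [ho2] at h4
      exact (h1 a h4).symm
    have h5 : k ∈ o2 K := ⟨⟨k, hk⟩, h2 h3, rfl⟩
    rwa [ho2] at h5
  have hmain := C2GrowL3K.main (F := F) (S1 := S1) (K := K) (hFT.trans hTS1) hS1K
    (fun k hk f hf => mem_norm hk hf) (Conf2.cardC2 h).2 (sqF h) hcent hKs (fun R hR hR2 hRn => by
      rw [← ho2]
      exact le_o2 hR hR2 (fun k hk => mem_norm_of (hRn k hk))) hS12 hcS1 ⟨t, htS1, x, hTS1 (c.PT (c.VP b.hx)), by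
      intro h1
      have h2 := (mem_Fg.1 h1).2.1
      have h3 : t * x * t⁻¹ * x⁻¹ * y * (t * x * t⁻¹ * x⁻¹)⁻¹ = (t * x * t⁻¹) * (x⁻¹ * y * x) * (t * x * t⁻¹)⁻¹ := by
        group
      have h4 : x⁻¹ * y * x = y := by rw [mul_assoc, c.hyp.comm b.hy b.hx]; group
      rw [h3, h4, conj_eq_iff] at h2
      have h5 := Conf2.comm_yx' h
      rw [h2] at h5
      exact b.z1 (by simpa using h5)⟩
  obtain ⟨htype, hsyl⟩ := hmain
  -- a Sylow subgroup containing `S1`
  obtain ⟨S', hS'⟩ := hS12.exists_le_sylow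
  have hS'2 : IsPGroup 2 (S' : Subgroup G) := S'.isPGroup'
  have heq : S1 = (S' : Subgroup G) := by
    by_contra hcon
    obtain ⟨s, hs, hsS1, hsn⟩ := exists_normalizing hS'2 hS' hcon
    have hsn' : ∀ g ∈ S1, s⁻¹ * g * s⁻¹⁻¹ ∈ S1 := fun g hg => mem_norm (inv_mem (mem_norm_of hsn)) hg
    -- `s` commutes with `z`
    have hsz : s * z * s⁻¹ = z := by
      have h1 : ∀ g ∈ S1, g * z * g⁻¹ = z := by
        rintro g (hg | hg)
        · exact c.Tz g hg
        · have h2 := c.Tz _ hg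
          have h3 : g * z * g⁻¹ = t * ((t⁻¹ * g) * z * (t⁻¹ * g)⁻¹) * t⁻¹ := by group
          rw [h3, h2, Conf2.tz h]
      have h2 : s * z * s⁻¹ = 1 ∨ s * z * s⁻¹ = z := by
        refine center_T c fun p hp => ?_
        have h3 := h1 _ (hsn' p (hTS1 (c.PT hp)))
        rw [conj_eq_iff] at h3
        calc s * z * s⁻¹ * p = s * (z * (s⁻¹ * p * s⁻¹⁻¹)) * s⁻¹ := by group
          _ = s * ((s⁻¹ * p * s⁻¹⁻¹) * z) * s⁻¹ := by rw [h3]
          _ = p * (s * z * s⁻¹) := by group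
      rcases h2 with h2 | h2
      · exfalso
        apply b.z1
        have : z = s⁻¹ * (s * z * s⁻¹) * s := by group
        rw [this, h2]; group
      · exact h2
    -- `E = W ∩ S1`
    have hEW : ∀ g, g ∈ E ↔ g ∈ W ∧ g ∈ S1 := by
      intro g
      constructor
      · intro hg
        refine ⟨(mem_inf.1 hg).1, ?_⟩
        by_cases hgP : g ∈ c.P
        · exact Or.inl (c.PT hgP)
        · exact Or.inr (c.PT (h.idx g hg hgP))
      · rintro ⟨hgW, hg | hg⟩
        · exact h.PE (WN w hgW (c.TN hg))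
        · have h1 : t⁻¹ * g ∈ c.P := WN w (W.mul_mem (W.inv_mem (mem_inf.1 h.tE).1) hgW) (c.TN hg)
          have h2 := E.mul_mem h.tE (h.PE h1)
          rwa [mul_inv_cancel_left] at h2
    have hsE : ∀ g ∈ E, s⁻¹ * g * s⁻¹⁻¹ ∈ E := by
      intro g hg
      rw [hEW] at hg ⊢
      exact ⟨w.norm s⁻¹ (conj_inv_eq hsz) g hg.1, hsn' g hg.2⟩
    have hA := C2GrowL3S.eq_F h (A := cj s F) (by rw [card_cj, hF, (Conf2.cardC2 h).2]) (by
      rintro _ ⟨f, hf, rfl⟩
      show (s * f * s⁻¹) * (s * f * s⁻¹) = 1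
      rw [← conj_mul', sqF h f hf]; group) (by
      rintro _ ⟨f, hf, rfl⟩
      exact hsn f (hTS1 (hFT hf))) (by
      intro g hg a ha
      rw [mem_cj] at ha ⊢
      have h1 := mem_norm (hS1K (hsn' g (hTS1 hg))) ha
      have h2 : s⁻¹ * (g * a * g⁻¹) * s = s⁻¹ * g * s⁻¹⁻¹ * (s⁻¹ * a * s) * (s⁻¹ * g * s⁻¹⁻¹)⁻¹ := by group
      rw [h2]; exact h1) (by
      intro a ha
      rw [mem_cj] at ha ⊢
      have h1 := mem_norm (hS1K (hsn' t htS1)) ha
      have h2 : s⁻¹ * (t * a * t⁻¹) * s = s⁻¹ * t * s⁻¹⁻¹ * (s⁻¹ * a * s) * (s⁻¹ * t * s⁻¹⁻¹)⁻¹ := by group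
      rw [h2]; exact h1) (by
      rw [mem_cj]
      have h1 := conj_inv_eq hsz
      rw [inv_inv] at h1
      rw [h1]; exact Conf2.memF_z h) (by
      intro h1
      have h2 : F ≤ F ⊓ c.P := by
        intro f hf
        refine mem_inf.2 ⟨hf, ?_⟩
        have h3 := hsE _ (h1 (conj_mem_cj hf))
        have h4 : s⁻¹ * (s * f * s⁻¹) * s⁻¹⁻¹ = f := by group
        rw [h4] at h3
        exact h.inf f h3 (c.TN (hFT hf))
      have h3 := Subgroup.card_le_of_le h2
      rw [hF, (Conf2.cardC2 h).2, Conf2.cardFP h] at h3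
      omega)
    -- `s ∈ K`
    have hsK : s ∈ K := by
      refine mem_norm_of fun f hf => ?_
      have h1 : s * f * s⁻¹ ∈ cj s F := conj_mem_cj hf
      rw [hA] at h1
      exact h1
    have h1 := hsyl ((S' : Subgroup G) ⊓ K) inf_le_right (hS'2.to_le inf_le_left) (le_inf hS' hS1K)
    apply hsS1
    rw [← h1]
    exact mem_inf.2 ⟨hs, hsK⟩
  have h1 : PcTypes.IsType PcTypes.W8 ↥(S' : Subgroup G) := by
    rw [← heq]; exact htype
  exact PcTypes.IsType.congr (S'.equiv S) h1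

/-- GROWTH for `M/V = L₃(2)`, `|V| = 8`. -/
theorem main [Finite G] (hr : SectionalPRankLE 2 4 G) (hc2 : IsCharacteristicTwoType G)
    (hsol : ∀ N : Subgroup G, IsTwoLocal N → 128 ∣ Nat.card N → Group.IsSolvable N)
    (hV : Hyp3 V) (hT : T ≤ normalizer (V : Set G)) (hT64 : Nat.card T = 64) (S : Sylow 2 G)
    (hTS : T ≤ (S : Subgroup G)) (hne : T ≠ (S : Subgroup G)) :
    C2Extra.Extra32 G ∨ PcTypes.IsType PcTypes.W8 ↥(S : Subgroup G) := by
  have : Fact (Nat.Prime 2) := ⟨Nat.prime_two⟩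
  obtain ⟨z, y, x, c⟩ := exists_conf hV hT hT64
  have b := c.bas
  have zz := c.zz
  have X := Cnf.ex c
  have hz2 : orderOf z = 2 := orderOf_eq_prime (by rw [pow_two, zz]) b.z1
  -- `t0`
  obtain ⟨t0, ht0S, ht0T, ht0n⟩ := exists_normalizing S.isPGroup' hTS hne
  have ht0V : t0 ∉ normalizer (V : Set G) := by
    intro h1
    have h2 := eq_T c (Y := (S : Subgroup G) ⊓ normalizer (V : Set G)) (S.isPGroup'.to_le inf_le_left)
      (le_inf hTS hT) inf_le_right
    apply ht0T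
    rw [h2]
    exact mem_inf.2 ⟨ht0S, h1⟩
  have ht0z : t0 * z * t0⁻¹ = z := by
    have h2 : t0 * z * t0⁻¹ = 1 ∨ t0 * z * t0⁻¹ = z := by
      refine center_T c fun p hp => ?_
      have h3 := c.Tz _ (mem_norm (inv_mem (mem_norm_of ht0n)) (c.PT hp))
      rw [conj_eq_iff] at h3
      calc t0 * z * t0⁻¹ * p = t0 * (z * (t0⁻¹ * p * t0⁻¹⁻¹)) * t0⁻¹ := by group
        _ = t0 * ((t0⁻¹ * p * t0⁻¹⁻¹) * z) * t0⁻¹ := by rw [h3]
        _ = p * (t0 * z * t0⁻¹) := by group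
    rcases h2 with h2 | h2
    · exfalso
      apply b.z1
      have : z = t0⁻¹ * (t0 * z * t0⁻¹) * t0 := by group
      rw [this, h2]; group
    · exact h2
  -- `H = C_G(z)`
  set H : Subgroup G := centralizer ({z} : Set G) with hH
  have memH : ∀ g : G, g ∈ H ↔ g * z * g⁻¹ = z := by
    intro g
    rw [hH, mem_centralizer_singleton_iff, conj_eq_iff]
  have hzp : IsPGroup 2 (zpowers z) := isPGroup_of_sq (fun v hv => by
    rw [mem_zpowers_two zz] at hv
    rcases hv with rfl | rfl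
    · exact one_mul 1
    · exact zz)
  have hzb : zpowers z ≠ ⊥ := fun h1 => b.z1 (Subgroup.zpowers_eq_bot.1 h1)
  have hHn : H = normalizer (zpowers z : Set G) := by
    ext g
    rw [memH]
    constructor
    · intro h1
      refine mem_norm_of fun a ha => ?_
      rw [mem_zpowers_two zz] at ha ⊢
      rcases ha with rfl | rfl
      · left; group
      · right; exact h1
    · intro h1
      have h2 := mem_norm h1 (mem_zpowers z)
      rw [mem_zpowers_two zz] at h2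
      rcases h2 with h2 | h2
      · exfalso
        apply b.z1
        have : z = g⁻¹ * (g * z * g⁻¹) * g := by group
        rw [this, h2]; group
      · exact h2
  have hHloc : IsTwoLocal H := ⟨zpowers z, hzp, hzb, hHn⟩
  have hHc2 : IsOfCharacteristicTwo ↥H := by
    have := hc2.2 _ hzp hzb
    rw [← hHn] at this
    exact this
  have hHcard : 128 ∣ Nat.card H := by
    have h1 : (T : Subgroup G) ≤ (S : Subgroup G) ⊓ H := le_inf hTS fun g hg => (memH g).2 (c.Tz g hg)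
    have h2 : t0 ∈ (S : Subgroup G) ⊓ H := mem_inf.2 ⟨ht0S, (memH t0).2 ht0z⟩
    have h3 : IsPGroup 2 ((S : Subgroup G) ⊓ H : Subgroup G) := S.isPGroup'.to_le inf_le_left
    obtain ⟨n, hn⟩ := IsPGroup.iff_card.1 h3
    have h4 : 64 < Nat.card ((S : Subgroup G) ⊓ H : Subgroup G) := by
      by_contra h5
      have h6 : T = (S : Subgroup G) ⊓ H := Subgroup.eq_of_le_of_card_ge h1 (by rw [hT64]; omega)
      exact ht0T (by rw [h6]; exact h2)
    have h5 : 7 ≤ n := by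
      by_contra h5
      have : 2 ^ n ≤ 2 ^ 6 := Nat.pow_le_pow_right (by norm_num) (by omega)
      omega
    have h6 : (128 : ℕ) ∣ Nat.card ((S : Subgroup G) ⊓ H : Subgroup G) := by
      rw [hn]
      exact (show (128 : ℕ) = 2 ^ 7 by norm_num) ▸ pow_dvd_pow 2 h5
    exact h6.trans (Subgroup.card_dvd_of_le inf_le_right)
  have hHs : Group.IsSolvable H := hsol H hHloc hHcard
  have hHc : H ⊓ centralizer (o2 H : Set G) ≤ o2 H := by
    rintro g ⟨hg, hg'⟩
    have h3 : (⟨g, hg⟩ : H) ∈ centralizer (pCore 2 H : Set H) := by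
      rw [mem_centralizer_iff]
      intro a ha
      exact Subtype.ext (mem_centralizer_iff.1 hg' a ⟨a, ha, rfl⟩)
    exact ⟨⟨g, hg⟩, hHc2 h3, rfl⟩
  obtain ⟨d, hd1, hd2, hd3, hd4, hd5⟩ := c.exists_d
  have hyx := c.hyp.comm b.hy b.hx
  have hyW : y ∈ o2 H := by
    refine AFour.mem_o2 hr hHs hHc (f := y) (θ := d) ?_ ((memH d).2 hd3) (c.hyp.sq y b.hy) ?_ ?_
    · rw [memH, conj_eq_iff, c.hyp.comm b.hy b.hz]
    · rw [hd4, hyx]
    · rw [hd4, hd5]
  have hnormW : ∀ g : G, g * z * g⁻¹ = z → ∀ w ∈ o2 H, g * w * g⁻¹ ∈ o2 H := fun g hg w hw =>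
    mem_norm (le_normalizer_o2 H ((memH g).2 hg)) hw
  have hxW : x ∈ o2 H := by rw [← hd4]; exact hnormW d hd3 y hyW
  have hzW : z ∈ o2 H := by
    refine hHc (mem_inf.2 ⟨(memH z).2 (by group), mem_centralizer_iff.2 fun w hw => ?_⟩)
    have h1 : w ∈ H := map_subtype_le _ hw
    exact (conj_eq_iff _ _ _).1 ((memH w).1 h1)
  have w : WHyp (o2 H) c := by
    refine ⟨o2_isPGroup H, fun w hw => (memH w).1 (map_subtype_le _ hw), hnormW, ?_, ⟨t0, ht0z, ht0V⟩⟩
    intro v hv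
    have hm : ∀ {a b : G}, a ∈ o2 H → b ∈ o2 H → a * b ∈ o2 H := fun ha hb => mul_mem ha hb
    rcases c.hyp.mem b hv with h1 | h1 | h1 | h1 | h1 | h1 | h1 | h1 <;> rw [h1]
    · exact one_mem _
    · exact hzW
    · exact hyW
    · exact hm hzW hyW
    · exact hxW
    · exact hm hzW hxW
    · exact hm hyW hxW
    · exact hm (hm hzW hyW) hxW
  by_cases hne : c.P = o2 H
  · left
    have h1 : C2GrowG.Extra (o2 H) T z := by
      rw [← hne]
      refine ⟨X.card, c.PT, X.hz, fun a ha b' hb => ?_, X.cen⟩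
      rw [mem_zpowers_two zz]
      rcases X.comm a ha b' hb with h2 | h2
      · left; rw [h2]; group
      · right; rw [h2]; group
    exact C2Extra.extra32_of hz2 hHc2 h1
  · right
    exact second hc2 hsol w hne S

end Cfsg.Agent.GH.C2GrowL3Main
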