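import Cfsg.Agent.GH.C2GrowL3F

/-!
# GH-C2, growth, `M/V = L₃(2)`: `F` is elementary abelian, `O₂(N(F)) = F`
-/

set_option autoImplicit false

namespace Cfsg.Agent.GH.C2GrowL3N

open Subgroup Cfsg.Agent.GH.C2GrowL3Base Cfsg.Agent.GH.C2GrowL3V Cfsg.Agent.GH.C2GrowL3P
  Cfsg.Agent.GH.C2GrowL3X Cfsg.Agent.GH.C2GrowL3C Cfsg.Agent.GH.C2GrowL3D Cfsg.Agent.GH.C2GrowL3F

variable {G : Type*} [Group G] {V T E C : Subgroup G} {z y x t : G} {c : Conf V T z y x}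

/-- the element `e` -/
structure EE (V : Subgroup G) (z y x e : G) : Prop where
  norm : e ∈ normalizer (V : Set G)
  three : e ^ 3 = 1
  ez : e * z * e⁻¹ = y
  ey : e * y * e⁻¹ = z * y
  ex : e * x * e⁻¹ = x

theorem exists_EE [Finite G] (c : Conf V T z y x) : ∃ e, EE V z y x e := by
  obtain ⟨e, h1, h2, h3, h4, h5⟩ := c.exists_e
  exact ⟨e, h1, h2, h3, h4, h5⟩

theorem mem_C2 {g : G} : g ∈ T ⊓ centralizer ({y} : Set G) ↔ g ∈ T ∧ g * y * g⁻¹ = y := by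
  rw [mem_inf, mem_centralizer_singleton_iff, conj_eq_iff]

/-- `e` normalises `C_T(y)` -/
theorem eC2 [Finite G] (c : Conf V T z y x) {e : G} (he : EE V z y x e) {g : G}
    (hg : g ∈ T ⊓ centralizer ({y} : Set G)) : e * g * e⁻¹ ∈ T ⊓ centralizer ({y} : Set G) := by
  rw [mem_C2] at hg ⊢
  obtain ⟨hgT, hgy⟩ := hg
  have hgz := c.Tz g hgT
  have b := c.bas
  have h1 : e * g * e⁻¹ * y * (e * g * e⁻¹)⁻¹ = y := by
    have h2 : e * g * e⁻¹ * y * (e * g * e⁻¹)⁻¹ = e * (g * (e⁻¹ * y * e) * g⁻¹) * e⁻¹ := by group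
    have h3 : e⁻¹ * y * e = z := by rw [← he.ez]; group
    rw [h2, h3, hgz, he.ez]
  have h4 : e * g * e⁻¹ * (z * y) * (e * g * e⁻¹)⁻¹ = z * y := by
    have h2 : e * g * e⁻¹ * (z * y) * (e * g * e⁻¹)⁻¹ = e * (g * (e⁻¹ * (z * y) * e) * g⁻¹) * e⁻¹ := by group
    have h3 : e⁻¹ * (z * y) * e = y := by rw [← he.ey]; group
    rw [h2, h3, hgy, he.ey]
  have h5 : e * g * e⁻¹ * z * (e * g * e⁻¹)⁻¹ = z := by
    have h6 : z = (z * y) * y := by rw [mul_assoc, c.hyp.sq y b.hy, mul_one]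
    have h7 : e * g * e⁻¹ * ((z * y) * y) * (e * g * e⁻¹)⁻¹ = (z * y) * y := by
      rw [conj_mul', h4, h1]
    rw [← h6] at h7
    exact h7
  exact ⟨c.mem_T (mul_mem (mul_mem he.norm (c.TN hgT)) (inv_mem he.norm)) h5 h1, h1⟩

/-- `e` has no fixed points on `⟨z, y⟩` -/
theorem fpf4 (c : Conf V T z y x) {e : G} (he : EE V z y x e) {u : G}
    (hu : u = 1 ∨ u = z ∨ u = y ∨ u = z * y) (h : e * u * e⁻¹ = u) : u = 1 := by
  have b := c.bas
  have yy := c.hyp.sq y b.hy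
  rcases hu with rfl | rfl | rfl | rfl
  · rfl
  · exfalso; rw [he.ez] at h; exact b.yz h
  · exfalso
    rw [he.ey] at h
    exact b.z1 (by simpa using h)
  · exfalso
    rw [conj_mul', he.ez, he.ey] at h
    -- `y * (z * y) = z`
    rw [← mul_assoc, c.hyp.comm b.hy b.hz, mul_assoc, yy, mul_one] at h
    exact b.y1 (by simpa using h)

section

variable (h : Conf2 V T E C z y x t c)
include h

theorem xF [Finite G] : x ∉ Fg T y t := by
  intro h1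
  have h2 := (mem_Fg.1 h1).2.2
  rw [conj_eq_iff, Conf2.comm_xy' h] at h2
  exact c.bas.z1 (by simpa using h2)

/-- `C_T(y) = F ∪ x F` -/
theorem C2_cases [Finite G] {g : G} (hg : g ∈ T ⊓ centralizer ({y} : Set G)) (hgF : g ∉ Fg T y t) :
    g⁻¹ * x ∈ Fg T y t := by
  have hxC : x ∈ T ⊓ centralizer ({y} : Set G) := mem_C2.2
    ⟨c.PT (c.VP c.bas.hx), by rw [conj_eq_iff, c.hyp.comm c.bas.hx c.bas.hy]⟩
  exact inv_mul_mem_of_card (K := Fg T y t) inf_le_left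
    (by rw [(Conf2.cardC2 h).1, (Conf2.cardC2 h).2]) hg hxC hgF (xF h)

/-- `F` is the only abelian subgroup of order 16 of `C_T(y)` -/
theorem eF [Finite G] {e : G} (he : EE V z y x e) {f : G} (hf : f ∈ Fg T y t) :
    e * f * e⁻¹ ∈ Fg T y t := by
  classical
  by_contra hcon
  have hFC : Fg T y t ≤ T ⊓ centralizer ({y} : Set G) := inf_le_left
  set A : Subgroup G := cj e (Fg T y t) with hA
  have hAC : A ≤ T ⊓ centralizer ({y} : Set G) := by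
    rintro _ ⟨g, hg, rfl⟩
    exact eC2 c he (hFC hg)
  have hAcomm : ∀ a ∈ A, ∀ b ∈ A, a * b = b * a := by
    rintro _ ⟨a, ha, rfl⟩ _ ⟨b, hb, rfl⟩
    show (e * a * e⁻¹) * (e * b * e⁻¹) = (e * b * e⁻¹) * (e * a * e⁻¹)
    rw [← conj_mul', ← conj_mul', Conf2.commF h ha hb]
  have hfA : e * f * e⁻¹ ∈ A := conj_mem_cj hf
  have h1 := card_mul_card_le hAC hFC
  rw [hA, card_cj, (Conf2.cardC2 h).1, (Conf2.cardC2 h).2, ← hA] at h1
  have h2 : 4 < Nat.card (A ⊓ Fg T y t : Subgroup G) := by omega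
  obtain ⟨g, hg, hg1, hgz, hgy, hgzy⟩ := exists_pick4 h2 1 z y (z * y)
  have hgA := (mem_inf.1 hg).1
  have hgF := (mem_inf.1 hg).2
  -- `g` commutes with `x`
  have h3 := C2_cases h (hAC hfA) hcon
  have h4 := hAcomm g hgA _ hfA
  have h5 := Conf2.commF h hgF h3
  have h6 : g * x = x * g := by
    calc g * x = (g * (e * f * e⁻¹)) * ((e * f * e⁻¹)⁻¹ * x) := by group
      _ = (e * f * e⁻¹) * (g * ((e * f * e⁻¹)⁻¹ * x)) := by rw [h4]; group
      _ = x * g := by rw [h5]; group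
  rcases (Conf2.cent_x h hgF h6).2 with h7 | h7 | h7 | h7
  · exact hg1 h7
  · exact hgz h7
  · exact hgy h7
  · exact hgzy h7

/-- `C_F(e) = 1` -/
theorem fpfF [Finite G] {e : G} (he : EE V z y x e) {f : G} (hf : f ∈ Fg T y t) (h1 : e * f * e⁻¹ = f) :
    f = 1 := by
  have b := c.bas
  have hf' := mem_Fg.1 hf
  -- `[f, x] ∈ ⟨z, y⟩`
  have h2 : x⁻¹ * (f * x * f⁻¹) ∈ kl V c.hyp.sq z y b.hz b.hy := by
    refine inv_mul_mem_of_card (kl_le b.hz b.hy) (c.hyp.kl_card b) b.hx (mem_norm (c.TN hf'.1) b.hx)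
      (c.hyp.x_not b) ?_
    intro h3
    apply c.hyp.x_not b
    have h4 : ∀ u ∈ kl V c.hyp.sq z y b.hz b.hy, f⁻¹ * u * f⁻¹⁻¹ = u := by
      have e1 := conj_inv_eq (c.Tz f hf'.1)
      have e2 := conj_inv_eq hf'.2.1
      rintro u (rfl | rfl | rfl | rfl)
      · group
      · exact e1
      · exact e2
      · rw [conj_mul', e1, e2]
    have h5 := h4 _ h3
    have h6 : f⁻¹ * (f * x * f⁻¹) * f⁻¹⁻¹ = x := by group
    rw [h6] at h5
    rw [← h5] at h3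
    exact h3
  have h3 : e * (x⁻¹ * (f * x * f⁻¹)) * e⁻¹ = x⁻¹ * (f * x * f⁻¹) := by
    have h4 : e * (x⁻¹ * (f * x * f⁻¹)) * e⁻¹ =
        (e * x * e⁻¹)⁻¹ * ((e * f * e⁻¹) * (e * x * e⁻¹) * (e * f * e⁻¹)⁻¹) := by group
    rw [h4, he.ex, h1]
  have h4 := fpf4 c he h2 h3
  rw [inv_mul_eq_one] at h4
  have h5 := Conf2.cent_x h hf ((conj_eq_iff _ _ _).1 h4.symm)
  exact fpf4 c he h5.2 h1

/-- `F` is elementary abelian -/
theorem sqF [Finite G] : ∀ f ∈ Fg T y t, f * f = 1 := by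
  obtain ⟨e, he⟩ := exists_EE c
  have b := c.bas
  let S : Subgroup G :=
    { carrier := {a | a ∈ Fg T y t ∧ a * a = 1}
      one_mem' := ⟨one_mem _, one_mul 1⟩
      mul_mem' := by
        rintro a b ⟨ha, ha'⟩ ⟨hb, hb'⟩
        refine ⟨mul_mem ha hb, ?_⟩
        have := Conf2.commF h ha hb
        calc a * b * (a * b) = a * (b * a) * b := by group
          _ = (a * a) * (b * b) := by rw [← this]; group
          _ = 1 := by rw [ha', hb', one_mul]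
      inv_mem' := by
        rintro a ⟨ha, ha'⟩
        refine ⟨inv_mem ha, ?_⟩
        rw [inv_of_sq ha']; exact ha' }
  have hSF : S ≤ Fg T y t := fun a ha => ha.1
  have h8 : 8 ≤ Nat.card S := by
    have h1 : (Fg T y t ⊓ c.P) ⊓ S = Fg T y t ⊓ c.P := by
      refine Conf2.eq_FP h inf_le_left (mem_inf.2 ⟨mem_inf.2 ⟨Conf2.memF_z h, c.VP b.hz⟩, Conf2.memF_z h, c.zz⟩)
        (mem_inf.2 ⟨mem_inf.2 ⟨Conf2.memF_y h, c.VP b.hy⟩, Conf2.memF_y h, c.hyp.sq y b.hy⟩)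
        (mem_inf.2 ⟨mem_inf.2 ⟨Conf2.memF_y' h, h.normP t h.tE y (c.VP b.hy)⟩, Conf2.memF_y' h, ?_⟩)
      rw [← conj_mul', c.hyp.sq y b.hy]; group
    have h2 : Fg T y t ⊓ c.P ≤ S := inf_eq_left.1 h1
    rw [← Conf2.cardFP h]
    exact Subgroup.card_le_of_le h2
  have h3 : (⊥ : Subgroup G).relIndex S ≡ 1 [MOD 3] := by
    refine mod_three he.three ?_ ?_ ?_
    · rintro a ⟨ha, ha'⟩
      refine ⟨eF h he ha, ?_⟩
      rw [← conj_mul', ha']; group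
    · intro a ha
      rw [Subgroup.mem_bot] at ha ⊢
      rw [ha]; group
    · intro a ha h1
      rw [Subgroup.mem_bot] at h1 ⊢
      rw [inv_mul_eq_one] at h1
      exact fpfF h he ha.1 h1.symm
  rw [Subgroup.relIndex_bot_left] at h3
  have h4 : Nat.card S ∣ 16 := (Conf2.cardC2 h).2 ▸ Subgroup.card_dvd_of_le hSF
  have h5 : Nat.card S = 16 := by
    obtain ⟨k, hk⟩ := h4
    have hk2 : k ≤ 2 := by
      by_contra hk2
      have : 8 * 3 ≤ Nat.card S * k := Nat.mul_le_mul h8 (by omega)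
      omega
    have h6 : Nat.card S % 3 = 1 := h3
    have hk0 : k ≠ 0 := by rintro rfl; omega
    interval_cases k <;> omega
  have h6 : S = Fg T y t := Subgroup.eq_of_le_of_card_ge hSF (by rw [h5, (Conf2.cardC2 h).2])
  intro f hf
  rw [← h6] at hf
  exact hf.2

/-- `O₂(N(F)) = F` -/
theorem o2F [Finite G] {R : Subgroup G} (hR : IsPGroup 2 R) (hFR : Fg T y t ≤ R)
    (hn : ∀ k ∈ normalizer (Fg T y t : Set G), ∀ r ∈ R, k * r * k⁻¹ ∈ R) (hRn : R ≤ normalizer (Fg T y t : Set G)) :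
    R = Fg T y t := by
  classical
  obtain ⟨e, he⟩ := exists_EE c
  have b := c.bas
  have hmemK : ∀ g : G, (∀ f ∈ Fg T y t, g * f * g⁻¹ ∈ Fg T y t) → g ∈ normalizer (Fg T y t : Set G) := by
    intro g hg
    have h1 : cj g (Fg T y t) ≤ Fg T y t := by
      rintro _ ⟨f, hf, rfl⟩
      exact hg f hf
    have h2 : cj g (Fg T y t) = Fg T y t := Subgroup.eq_of_le_of_card_ge h1 (by rw [card_cj])
    rw [mem_normalizer_iff]
    intro f
    refine ⟨hg f, fun hf => ?_⟩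
    rw [← h2, mem_cj] at hf
    have h3 : g⁻¹ * (g * f * g⁻¹) * g = f := by group
    rwa [h3] at hf
  have hTK : T ≤ normalizer (Fg T y t : Set G) := fun g hg => hmemK g fun f hf => Conf2.normF h hg hf
  have htK : t ∈ normalizer (Fg T y t : Set G) := hmemK t fun f hf => Conf2.tF h hf
  have heK : e ∈ normalizer (Fg T y t : Set G) := hmemK e fun f hf => eF h he hf
  -- `R ∩ N(V) ≤ T`
  have hRT : R ⊓ normalizer (V : Set G) ≤ T := by
    refine le_T c.hyp c.TN c.cardT inf_le_right (hR.to_le inf_le_left) ?_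
    intro g hg r hr
    exact mem_inf.2 ⟨hn g (hTK hg) r (mem_inf.1 hr).1,
      mul_mem (mul_mem (c.TN hg) (mem_inf.1 hr).2) (inv_mem (c.TN hg))⟩
  -- it centralises `y`
  have hRy : ∀ r ∈ R, r ∈ normalizer (V : Set G) → r * y * r⁻¹ = y := by
    intro r hr hrV
    have h1 : e⁻¹ * r * e⁻¹⁻¹ ∈ R := hn e⁻¹ (inv_mem heK) r hr
    have h2 : e⁻¹ * r * e⁻¹⁻¹ ∈ normalizer (V : Set G) :=
      mul_mem (mul_mem (inv_mem he.norm) hrV) (inv_mem (inv_mem he.norm))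
    have h3 := c.Tz _ (hRT (mem_inf.2 ⟨h1, h2⟩))
    have h4 : r * y * r⁻¹ = e * ((e⁻¹ * r * e⁻¹⁻¹) * (e⁻¹ * y * e) * (e⁻¹ * r * e⁻¹⁻¹)⁻¹) * e⁻¹ := by group
    have h5 : e⁻¹ * y * e = z := by rw [← he.ez]; group
    rw [h4, h5, h3, he.ez]
  have hRF : ∀ r ∈ R, r ∈ normalizer (V : Set G) → r ∈ Fg T y t := by
    intro r hr hrV
    have hrT : r ∈ T := hRT (mem_inf.2 ⟨hr, hrV⟩)
    refine mem_Fg.2 ⟨hrT, hRy r hr hrV, ?_⟩
    have h1 : t⁻¹ * r * t⁻¹⁻¹ ∈ R := hn t⁻¹ (inv_mem htK) r hr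
    have h2 : t⁻¹ * r * t⁻¹⁻¹ ∈ T := Conf2.ET h t⁻¹ (E.inv_mem h.tE) r hrT
    have h3 := hRy _ h1 (c.TN h2)
    have h4 : r * (t * y * t⁻¹) * r⁻¹ = t * ((t⁻¹ * r * t⁻¹⁻¹) * y * (t⁻¹ * r * t⁻¹⁻¹)⁻¹) * t⁻¹ := by group
    rw [h4, h3]
  by_contra hne
  have hT2 := isPGroup_of_64 c.cardT
  obtain ⟨r, hr, hrF, hrT⟩ := exists_fix hT2 hR hFR (Ne.symm hne) (fun g hg k hk => hn g (hTK hg) k hk)
    (fun g hg f hf => Conf2.normF h hg hf)
  apply hrF
  apply hRF r hr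
  -- `s = r⁻¹` normalises `V`
  have hs : ∀ v ∈ V, (r⁻¹ * v * r⁻¹⁻¹) * v⁻¹ ∈ Fg T y t := by
    intro v hv
    have h1 := hrT v (c.PT (c.VP hv))
    have h2 : (r⁻¹ * v * r⁻¹⁻¹) * v⁻¹ = r⁻¹ * (v * r * v⁻¹) := by group
    rw [h2]; exact h1
  set s := r⁻¹ with hsdef
  have hxF := hs x b.hx
  -- `w = s x s⁻¹ = f x`
  have hfx : ((s * x * s⁻¹) * x⁻¹) * x = x * ((s * x * s⁻¹) * x⁻¹) := by
    have h1 : (s * x * s⁻¹) * (s * x * s⁻¹) = 1 := by rw [← conj_mul', c.hyp.sq x b.hx]; group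
    have h2 := sqF h _ hxF
    set f := (s * x * s⁻¹) * x⁻¹ with hf
    have h3 : s * x * s⁻¹ = f * x := by rw [hf]; group
    rw [h3] at h1
    have xx := c.hyp.sq x b.hx
    exact comm_of_three h2 xx h1
  have hwV : s * x * s⁻¹ ∈ V := by
    have h1 := (Conf2.cent_x h hxF hfx).1
    have h2 := V.mul_mem h1 b.hx
    rwa [inv_mul_cancel_right] at h2
  have key : ∀ v ∈ V, v ∈ Fg T y t → s * v * s⁻¹ ∈ V := by
    intro v hv hvF
    have h1 : s * v * s⁻¹ ∈ Fg T y t := by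
      have := mul_mem (hs v hv) hvF
      rwa [inv_mul_cancel_right] at this
    -- commutes with `s x s⁻¹ = f x`
    have h2 : (s * v * s⁻¹) * (s * x * s⁻¹) = (s * x * s⁻¹) * (s * v * s⁻¹) := by
      rw [← conj_mul', ← conj_mul', c.hyp.comm hv b.hx]
    have h3 := Conf2.commF h h1 hxF
    refine (Conf2.cent_x h h1 ?_).1
    have h4 : x = ((s * x * s⁻¹) * x⁻¹)⁻¹ * (s * x * s⁻¹) := by group
    calc (s * v * s⁻¹) * x = (s * v * s⁻¹) * (((s * x * s⁻¹) * x⁻¹)⁻¹ * (s * x * s⁻¹)) := by rw [← h4]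
      _ = (((s * x * s⁻¹) * x⁻¹)⁻¹ * (((s * x * s⁻¹) * x⁻¹) * (s * v * s⁻¹))) *
            ((s * x * s⁻¹) * x⁻¹)⁻¹ * (s * x * s⁻¹) := by group
      _ = ((s * x * s⁻¹) * x⁻¹)⁻¹ * ((s * v * s⁻¹) * (s * x * s⁻¹)) := by rw [← h3]; group
      _ = (((s * x * s⁻¹) * x⁻¹)⁻¹ * (s * x * s⁻¹)) * (s * v * s⁻¹) := by rw [h2]; group
      _ = x * (s * v * s⁻¹) := by rw [← h4]
  have hzV := key z b.hz (Conf2.memF_z h)
  have hyV := key y b.hy (Conf2.memF_y h)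
  have hall : ∀ v ∈ V, s * v * s⁻¹ ∈ V := by
    intro v hv
    rcases c.hyp.mem b hv with h1 | h1 | h1 | h1 | h1 | h1 | h1 | h1 <;> subst h1
    · have : s * 1 * s⁻¹ = 1 := by group
      rw [this]; exact V.one_mem
    · exact hzV
    · exact hyV
    · rw [conj_mul']; exact V.mul_mem hzV hyV
    · exact hwV
    · rw [conj_mul']; exact V.mul_mem hzV hwV
    · rw [conj_mul']; exact V.mul_mem hyV hwV
    · rw [conj_mul', conj_mul']; exact V.mul_mem (V.mul_mem hzV hyV) hwV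
  have h1 : cj s V ≤ V := by
    rintro _ ⟨v, hv, rfl⟩
    exact hall v hv
  have h2 : cj s V = V := Subgroup.eq_of_le_of_card_ge h1 (by rw [card_cj])
  have h3 : s ∈ normalizer (V : Set G) := by
    rw [mem_normalizer_iff]
    intro v
    refine ⟨hall v, fun hv => ?_⟩
    rw [← h2, mem_cj] at hv
    have h3 : s⁻¹ * (s * v * s⁻¹) * s = v := by group
    rwa [h3] at hv
  have h4 := inv_mem h3
  rwa [hsdef, inv_inv] at h4

end

end Cfsg.Agent.GH.C2GrowL3N
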