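import Cfsg.Agent.GH.C2GrowL3V

/-!
# GH-C2, growth, `M/V = L₃(2)`: `P = O₂(C_M(z))`
-/

set_option autoImplicit false

namespace Cfsg.Agent.GH.C2GrowL3P

open Subgroup Cfsg.Agent.GH.C2GrowL3Base Cfsg.Agent.GH.C2GrowL3V

variable {G : Type*} [Group G] {V T : Subgroup G} {z y x : G}

theorem card_le [Finite G] (h : Hyp3 V) {Y : Subgroup G} (hY : Y ≤ normalizer (V : Set G))
    (hY2 : IsPGroup 2 Y) : Nat.card Y ≤ 64 := by
  have : Fact (Nat.Prime 2) := ⟨Nat.prime_two⟩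
  obtain ⟨n, hn⟩ := IsPGroup.iff_card.1 hY2
  have h1 : Nat.card Y ∣ 1344 := h.cardN ▸ Subgroup.card_dvd_of_le hY
  rw [hn] at h1 ⊢
  by_contra h2
  have h3 : 7 ≤ n := by
    by_contra h4
    have : 2 ^ n ≤ 2 ^ 6 := Nat.pow_le_pow_right (by norm_num) (by omega)
    omega
  have h4 : 2 ^ 7 ∣ 1344 := (pow_dvd_pow 2 h3).trans h1
  norm_num at h4

theorem isPGroup_of_64 {T : Subgroup G} (h : Nat.card T = 64) : IsPGroup 2 T := by
  have : Fact (Nat.Prime 2) := ⟨Nat.prime_two⟩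
  exact IsPGroup.of_card (n := 6) (by rw [h]; norm_num)

theorem isPGroup_of_sq {V : Subgroup G} (h : ∀ v ∈ V, v * v = 1) : IsPGroup 2 V := fun v =>
  ⟨1, Subtype.ext (by
    push_cast
    rw [pow_two]
    exact h v v.2)⟩

theorem le_T [Finite G] (h : Hyp3 V) (hT : T ≤ normalizer (V : Set G)) (hc : Nat.card T = 64)
    {Y : Subgroup G} (hY : Y ≤ normalizer (V : Set G)) (hY2 : IsPGroup 2 Y)
    (hn : ∀ t ∈ T, ∀ g ∈ Y, t * g * t⁻¹ ∈ Y) : Y ≤ T := by
  have : Fact (Nat.Prime 2) := ⟨Nat.prime_two⟩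
  have hTY : T ≤ normalizer (Y : Set G) := by
    intro t ht
    rw [mem_normalizer_iff]
    refine fun g => ⟨hn t ht g, fun hg => ?_⟩
    have h1 := hn t⁻¹ (T.inv_mem ht) _ hg
    have h2 : t⁻¹ * (t * g * t⁻¹) * t⁻¹⁻¹ = g := by group
    rwa [h2] at h1
  have h1 : IsPGroup 2 (T ⊔ Y : Subgroup G) := (isPGroup_of_64 hc).to_sup_of_normal_right' hY2 hTY
  have h2 := card_le h (sup_le hT hY) h1
  have h3 : T = T ⊔ Y := Subgroup.eq_of_le_of_card_ge le_sup_left (by rw [hc]; exact h2)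
  rw [h3]
  exact le_sup_right

/-- `T` and an adapted basis. -/
structure Conf (V T : Subgroup G) (z y x : G) : Prop where
  hyp : Hyp3 V
  bas : Bas V z y x
  TN : T ≤ normalizer (V : Set G)
  cardT : Nat.card T = 64
  Tz : ∀ t ∈ T, t * z * t⁻¹ = z
  Ty : ∀ t ∈ T, t * y * t⁻¹ = y ∨ t * y * t⁻¹ = z * y

theorem exists_conf [Finite G] (h : Hyp3 V) (hT : T ≤ normalizer (V : Set G)) (hc : Nat.card T = 64) :
    ∃ z y x : G, Conf V T z y x := by
  have hT2 := isPGroup_of_64 hc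
  have hV2 := isPGroup_of_sq h.sq
  have hne : (⊥ : Subgroup G) ≠ V := by
    intro h1
    have := h.card
    rw [← h1, Subgroup.card_bot] at this
    omega
  obtain ⟨z, hz, hz1, hzT⟩ := exists_fix hT2 hV2 bot_le hne (fun t ht a ha => mem_norm (hT ht) ha)
    (fun t _ b hb => by rw [Subgroup.mem_bot] at hb ⊢; rw [hb]; group)
  rw [Subgroup.mem_bot] at hz1
  have hzz : ∀ t ∈ T, t * z * t⁻¹ = z := by
    intro t ht
    have h1 := Subgroup.mem_bot.1 (hzT t ht)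
    rw [inv_mul_eq_one] at h1
    exact h1.symm
  have hzsq := h.sq z hz
  have hne2 : zpowers z ≠ V := by
    intro h1
    have h2 := h.card
    rw [← h1, card_zpowers_two hzsq hz1] at h2
    omega
  obtain ⟨y, hy, hy1, hyT⟩ := exists_fix hT2 hV2 (zpowers_le.2 hz) hne2
    (fun t ht a ha => mem_norm (hT ht) ha) (fun t ht b hb => by
      rw [mem_zpowers_two hzsq] at hb ⊢
      rcases hb with rfl | rfl
      · left; group
      · right; exact hzz t ht)
  rw [mem_zpowers_two hzsq] at hy1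
  push Not at hy1
  have hyy : ∀ t ∈ T, t * y * t⁻¹ = y ∨ t * y * t⁻¹ = z * y := by
    intro t ht
    have h1 := hyT t ht
    rw [mem_zpowers_two hzsq] at h1
    rcases h1 with h1 | h1
    · left
      rw [inv_mul_eq_one] at h1
      exact h1.symm
    · right
      rw [inv_mul_eq_iff_eq_mul] at h1
      rw [h1, h.comm hy hz]
  have hne3 : kl V h.sq z y hz hy ≠ V := by
    intro h1
    have h2 := h.card
    rw [← h1, card_kl hz1 hy1.1 hy1.2] at h2
    omega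
  obtain ⟨x, hx, hxk⟩ := SetLike.exists_of_lt (lt_of_le_of_ne (kl_le (hV := h.sq) (ha := hz) (hb := hy) hz hy) hne3)
  rw [mem_kl] at hxk
  push Not at hxk
  exact ⟨z, y, x, ⟨h, ⟨hz, hy, hx, hz1, hy1.1, hy1.2, hxk.1, hxk.2.1, hxk.2.2.1, hxk.2.2.2⟩, hT, hc, hzz, hyy⟩⟩

/-- `P = O₂(C_M(z))` -/
def Pg (V : Subgroup G) (z : G) (h : ∀ v ∈ V, v * v = 1) (hz : z ∈ V) : Subgroup G where
  carrier := {g | g ∈ normalizer (V : Set G) ∧ g * z * g⁻¹ = z ∧ ∀ v ∈ V, g * v * g⁻¹ = v ∨ g * v * g⁻¹ = z * v}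
  one_mem' := ⟨one_mem _, by group, fun v _ => Or.inl (by group)⟩
  mul_mem' := by
    rintro a b ⟨ha, ha1, ha2⟩ ⟨hb, hb1, hb2⟩
    refine ⟨mul_mem ha hb, ?_, fun v hv => ?_⟩
    · rw [conj_conj, hb1, ha1]
    · rw [conj_conj]
      rcases hb2 v hv with h1 | h1
      · rw [h1]; exact ha2 v hv
      · rw [h1, conj_mul', ha1]
        rcases ha2 v hv with h2 | h2
        · right; rw [h2]
        · left; rw [h2, ← mul_assoc, h z hz, one_mul]
  inv_mem' := by
    rintro a ⟨ha, ha1, ha2⟩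
    have hh : ∀ v ∈ V, a⁻¹ * v * a⁻¹⁻¹ ∈ V := fun v hv => mem_norm (inv_mem ha) hv
    refine ⟨inv_mem ha, ?_, fun v hv => ?_⟩
    · have : a⁻¹ * (a * z * a⁻¹) * a = z := by group
      rw [ha1] at this
      rw [inv_inv]; exact this
    · rcases ha2 _ (hh v hv) with h1 | h1
      · left
        have h2 : a * (a⁻¹ * v * a⁻¹⁻¹) * a⁻¹ = v := by group
        rw [h2] at h1
        exact h1.symm
      · right
        have h2 : a * (a⁻¹ * v * a⁻¹⁻¹) * a⁻¹ = v := by group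
        rw [h2] at h1
        have h3 : z * v = z * (z * (a⁻¹ * v * a⁻¹⁻¹)) := congrArg (z * ·) h1
        rw [← mul_assoc, h z hz, one_mul] at h3
        exact h3.symm

namespace Conf

/-- `P` -/
abbrev P (c : Conf V T z y x) : Subgroup G := Pg V z c.hyp.sq c.bas.hz

variable (c : Conf V T z y x)
include c

theorem zz : z * z = 1 := c.hyp.sq z c.bas.hz

theorem mem_P {g : G} : g ∈ c.P ↔ g ∈ normalizer (V : Set G) ∧ g * z * g⁻¹ = z ∧
    ∀ v ∈ V, g * v * g⁻¹ = v ∨ g * v * g⁻¹ = z * v := Iff.rfl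

theorem VP : V ≤ c.P := by
  intro v hv
  refine ⟨le_normalizer hv, ?_, fun w hw => Or.inl ?_⟩
  · rw [conj_eq_iff, c.hyp.comm hv c.bas.hz]
  · rw [conj_eq_iff, c.hyp.comm hv hw]

theorem P_sq {g : G} (hg : g ∈ c.P) : g * g ∈ V := by
  refine c.hyp.cent _ fun v hv => ?_
  rw [← conj_eq_iff, conj_conj]
  rcases hg.2.2 v hv with h1 | h1
  · rw [h1, h1]
  · rw [h1, conj_mul', hg.2.1, h1, ← mul_assoc, c.zz, one_mul]

theorem P_two : IsPGroup 2 c.P := by
  rintro ⟨g, hg⟩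
  refine ⟨2, Subtype.ext ?_⟩
  have h1 := c.hyp.sq _ (c.P_sq hg)
  have h2 : g ^ 2 ^ 2 = g * g * (g * g) := by
    have : (2 : ℕ) ^ 2 = 4 := by norm_num
    rw [this]
    simp only [pow_succ, pow_zero]
    group
  show g ^ 2 ^ 2 = 1
  rw [h2, h1]

/-- `P` is normal in `C_M(z)` -/
theorem P_conj {g p : G} (hg : g ∈ normalizer (V : Set G)) (hgz : g * z * g⁻¹ = z) (hp : p ∈ c.P) :
    g * p * g⁻¹ ∈ c.P := by
  obtain ⟨hp1, hp2, hp3⟩ := hp
  have hginv : g⁻¹ * z * g = z := by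
    have : g⁻¹ * (g * z * g⁻¹) * g = z := by group
    rwa [hgz] at this
  refine ⟨mul_mem (mul_mem hg hp1) (inv_mem hg), ?_, fun v hv => ?_⟩
  · calc g * p * g⁻¹ * z * (g * p * g⁻¹)⁻¹ = g * (p * (g⁻¹ * z * g) * p⁻¹) * g⁻¹ := by group
      _ = z := by rw [hginv, hp2, hgz]
  · have h1 : g⁻¹ * v * g ∈ V := by
      have := mem_norm (inv_mem hg) hv
      rwa [inv_inv] at this
    have h2 : g * p * g⁻¹ * v * (g * p * g⁻¹)⁻¹ = g * (p * (g⁻¹ * v * g) * p⁻¹) * g⁻¹ := by group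
    rcases hp3 _ h1 with h3 | h3
    · left
      rw [h2, h3]; group
    · right
      rw [h2, h3, conj_mul', hgz]
      congr 1
      group

theorem PT [Finite G] : c.P ≤ T :=
  le_T c.hyp c.TN c.cardT (fun _ hg => hg.1) c.P_two fun t ht _ hg => c.P_conj (c.TN ht) (c.Tz t ht) hg

theorem zy_bas : Bas V z (z * y) x := by
  have b := c.bas
  have hzz := c.zz
  refine ⟨b.hz, V.mul_mem b.hz b.hy, b.hx, b.z1, ?_, ?_, b.x1, b.xz, b.xzy, ?_⟩
  · intro h
    exact b.yz (by rw [← inv_of_sq hzz]; exact (inv_eq_of_mul_eq_one_right h).symm)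
  · intro h
    exact b.y1 (by simpa using h)
  · rw [← mul_assoc, hzz, one_mul]
    exact b.xy

theorem zx_bas : Bas V z y (z * x) := by
  have b := c.bas
  have hzz := c.zz
  refine ⟨b.hz, b.hy, V.mul_mem b.hz b.hx, b.z1, b.y1, b.yz, ?_, ?_, ?_, ?_⟩
  · intro h
    exact b.xz (by rw [← inv_of_sq hzz]; exact (inv_eq_of_mul_eq_one_right h).symm)
  · intro h
    exact b.x1 (by simpa using h)
  · intro h
    apply b.xzy
    rw [← h, ← mul_assoc, hzz, one_mul]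
  · intro h
    exact b.xy (mul_left_cancel h)

/-- `y ↦ y z` -/
theorem exists_p1 [Finite G] : ∃ g ∈ c.P, g * y * g⁻¹ = z * y ∧ g * x * g⁻¹ = x := by
  obtain ⟨g, hg, h1, h2, h3⟩ := c.hyp.trans c.bas c.zy_bas
  refine ⟨g, ⟨hg, h1, fun v hv => ?_⟩, h2, h3⟩
  have e := c.zz
  rcases c.hyp.mem c.bas hv with h | h | h | h | h | h | h | h <;> subst h
  · left; group
  · left; exact h1
  · right; exact h2
  · right; rw [conj_mul', h1, h2]
  · left; exact h3
  · left; rw [conj_mul', h1, h3]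
  · right; rw [conj_mul', h2, h3, mul_assoc]
  · right; rw [conj_mul', conj_mul', h1, h2, h3]; group

/-- `x ↦ x z` -/
theorem exists_p2 [Finite G] : ∃ g ∈ c.P, g * y * g⁻¹ = y ∧ g * x * g⁻¹ = z * x := by
  obtain ⟨g, hg, h1, h2, h3⟩ := c.hyp.trans c.bas c.zx_bas
  refine ⟨g, ⟨hg, h1, fun v hv => ?_⟩, h2, h3⟩
  have e := c.zz
  have hyz := c.hyp.comm c.bas.hy c.bas.hz
  rcases c.hyp.mem c.bas hv with h | h | h | h | h | h | h | h <;> subst h
  · left; group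
  · left; exact h1
  · left; exact h2
  · left; rw [conj_mul', h1, h2]
  · right; exact h3
  · right; rw [conj_mul', h1, h3]
  · right; rw [conj_mul', h2, h3, ← mul_assoc, hyz, mul_assoc]
  · right; rw [conj_mul', conj_mul', h1, h2, h3, mul_assoc z y, ← mul_assoc y z x, hyz]

theorem cardP [Finite G] : Nat.card c.P = 32 := by
  obtain ⟨p1, hp1, h11, h12⟩ := c.exists_p1
  obtain ⟨p2, hp2, h21, h22⟩ := c.exists_p2
  set A : Subgroup G := c.P ⊓ centralizer ({y} : Set G) with hA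
  have hAy : ∀ g ∈ A, g * y * g⁻¹ = y := fun g hg => by
    rw [conj_eq_iff, (mem_centralizer_singleton_iff.1 (mem_inf.1 hg).2)]
  have hVA : V ≤ A := by
    intro v hv
    refine mem_inf.2 ⟨c.VP hv, mem_centralizer_singleton_iff.2 ?_⟩
    rw [c.hyp.comm hv c.bas.hy]
  have h1 : Nat.card A = 2 * Nat.card V := by
    refine card_eq_two_mul hVA (a := p2) (mem_inf.2 ⟨hp2, mem_centralizer_singleton_iff.2 ?_⟩) ?_ ?_
    · rw [conj_eq_iff] at h21; rw [h21]
    · intro h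
      have h2 := c.hyp.comm h c.bas.hx
      rw [← conj_eq_iff, h22] at h2
      exact c.bas.z1 (mul_right_cancel (b := x) (by rw [h2, one_mul]))
    · intro b hb hbV
      have hb2 : b * x * b⁻¹ = z * x := by
        rcases (mem_inf.1 hb).1.2.2 x c.bas.hx with h2 | h2
        · exact absurd (c.hyp.mem_of_conj c.bas (mem_inf.1 hb).1.2.1 (hAy b hb) h2) hbV
        · exact h2
      refine c.hyp.cent _ fun v hv => ?_
      have h3 := c.hyp.conj_ext (g := b) (k := p2) c.bas (by rw [(mem_inf.1 hb).1.2.1, hp2.2.1])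
        (by rw [hAy b hb, h21]) (by rw [hb2, h22]) v hv
      calc p2⁻¹ * b * v = p2⁻¹ * (b * v * b⁻¹) * b := by group
        _ = p2⁻¹ * (p2 * v * p2⁻¹) * b := by rw [h3]
        _ = v * (p2⁻¹ * b) := by group
  have h2 : Nat.card c.P = 2 * Nat.card A := by
    refine card_eq_two_mul inf_le_left (a := p1) hp1 ?_ ?_
    · intro h
      have h2 := hAy p1 h
      rw [h11] at h2
      exact c.bas.z1 (mul_right_cancel (b := y) (by rw [h2, one_mul]))
    · intro b hb hbA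
      have hb2 : b * y * b⁻¹ = z * y := by
        rcases hb.2.2 y c.bas.hy with h2 | h2
        · exfalso
          refine hbA (mem_inf.2 ⟨hb, mem_centralizer_singleton_iff.2 ?_⟩)
          rw [conj_eq_iff] at h2; rw [h2]
        · exact h2
      refine mem_inf.2 ⟨c.P.mul_mem (c.P.inv_mem hp1) hb, mem_centralizer_singleton_iff.2 ?_⟩
      calc p1⁻¹ * b * y = p1⁻¹ * (b * y * b⁻¹) * b := by group
        _ = p1⁻¹ * (p1 * y * p1⁻¹) * b := by rw [hb2, h11]
        _ = y * (p1⁻¹ * b) := by group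
  rw [h2, h1, c.hyp.card]

/-- the element of order 3 of `C_M(z)` -/
theorem exists_d [Finite G] : ∃ d ∈ normalizer (V : Set G), d ^ 3 = 1 ∧ d * z * d⁻¹ = z ∧
    d * y * d⁻¹ = x ∧ d * x * d⁻¹ = y * x := by
  have b := c.bas
  have hcomm : ∀ {a b : G}, a ∈ V → b ∈ V → a * b = b * a := fun ha hb => c.hyp.comm ha hb
  have hyy := c.hyp.sq y b.hy
  have hb' : Bas V z x (y * x) := by
    refine ⟨b.hz, b.hx, V.mul_mem b.hy b.hx, b.z1, b.x1, b.xz, ?_, ?_, ?_, ?_⟩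
    · intro h
      exact b.xy (by rw [← inv_of_sq hyy]; exact (inv_eq_of_mul_eq_one_right h).symm)
    · intro h
      apply b.xzy
      rw [← h, hcomm (V.mul_mem b.hy b.hx) b.hy, ← mul_assoc, hyy, one_mul]
    · intro h
      exact b.y1 (by simpa using h)
    · intro h
      exact b.yz (mul_right_cancel h)
  obtain ⟨g, hg, h1, h2, h3⟩ := c.hyp.trans b hb'
  have hx' : g * (y * x) * g⁻¹ = y := by
    rw [conj_mul', h2, h3, hcomm b.hy b.hx, ← mul_assoc, c.hyp.sq x b.hx, one_mul]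
  obtain ⟨d, hd, hd3, hdg⟩ := c.hyp.three hg (by
    intro v hv
    have h5 : ∀ k : G, g * (g * (g * k * g⁻¹) * g⁻¹) * g⁻¹ = (g * g * g) * k * (g * g * g)⁻¹ := by
      intro k; group
    rw [h5]
    have h6 := c.hyp.conj_ext (g := g * g * g) (k := 1) b (by rw [← h5, h1, h1, h1]; group)
      (by rw [← h5, h2, h3, hx']; group) (by rw [← h5, h3, hx', h2]; group) v hv
    rw [h6]; group)
  exact ⟨d, hd, hd3, by rw [hdg z b.hz, h1], by rw [hdg y b.hy, h2], by rw [hdg x b.hx, h3]⟩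

/-- the element of order 3 normalising `⟨z, y⟩` -/
theorem exists_e [Finite G] : ∃ e ∈ normalizer (V : Set G), e ^ 3 = 1 ∧ e * z * e⁻¹ = y ∧
    e * y * e⁻¹ = z * y ∧ e * x * e⁻¹ = x := by
  have b := c.bas
  have hcomm : ∀ {a b : G}, a ∈ V → b ∈ V → a * b = b * a := fun ha hb => c.hyp.comm ha hb
  have hyy := c.hyp.sq y b.hy
  have hb' : Bas V y (z * y) x := by
    refine ⟨b.hy, V.mul_mem b.hz b.hy, b.hx, b.y1, c.zy_bas.y1, ?_, b.x1, b.xy, b.xzy, ?_⟩
    · intro h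
      exact b.z1 (by simpa using h)
    · rw [hcomm b.hz b.hy, ← mul_assoc, hyy, one_mul]
      exact b.xz
  obtain ⟨g, hg, h1, h2, h3⟩ := c.hyp.trans b hb'
  have hx' : g * (z * y) * g⁻¹ = z := by
    rw [conj_mul', h1, h2, hcomm b.hz b.hy, ← mul_assoc, hyy, one_mul]
  obtain ⟨d, hd, hd3, hdg⟩ := c.hyp.three hg (by
    intro v hv
    have h5 : ∀ k : G, g * (g * (g * k * g⁻¹) * g⁻¹) * g⁻¹ = (g * g * g) * k * (g * g * g)⁻¹ := by
      intro k; group
    rw [h5]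
    have h6 := c.hyp.conj_ext (g := g * g * g) (k := 1) b (by rw [← h5, h1, h2, hx']; group)
      (by rw [← h5, h2, hx', h1]; group) (by rw [← h5, h3, h3, h3]; group) v hv
    rw [h6]; group)
  exact ⟨d, hd, hd3, by rw [hdg z b.hz, h1], by rw [hdg y b.hy, h2], by rw [hdg x b.hx, h3]⟩

/-- the elements of `M` centralising `z` and `y` lie in `T` -/
theorem mem_T [Finite G] {g : G} (hg : g ∈ normalizer (V : Set G)) (h1 : g * z * g⁻¹ = z)
    (h2 : g * y * g⁻¹ = y) : g ∈ T := by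
  have : Fact (Nat.Prime 2) := ⟨Nat.prime_two⟩
  set Y : Subgroup G := normalizer (V : Set G) ⊓ centralizer ({z} : Set G) ⊓ centralizer ({y} : Set G)
  have hY : Nat.card Y = 32 := (c.hyp.facts c.bas).2.2.2
  have hmem : ∀ g, g ∈ Y ↔ g ∈ normalizer (V : Set G) ∧ g * z * g⁻¹ = z ∧ g * y * g⁻¹ = y := by
    intro g
    rw [mem_inf, mem_inf, mem_centralizer_singleton_iff, mem_centralizer_singleton_iff, conj_eq_iff,
      conj_eq_iff, and_assoc]
  have hYT : Y ≤ T := by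
    refine le_T c.hyp c.TN c.cardT (fun g hg => ((hmem g).1 hg).1)
      (IsPGroup.of_card (n := 5) (by rw [hY]; norm_num)) ?_
    intro t ht k hk
    obtain ⟨k1, k2, k3⟩ := (hmem k).1 hk
    have hti : t⁻¹ ∈ T := T.inv_mem ht
    have e1 : t⁻¹ * z * t = z := by
      have := c.Tz _ hti
      rwa [inv_inv] at this
    have e2 : t⁻¹ * y * t = y ∨ t⁻¹ * y * t = z * y := by
      have := c.Ty _ hti
      rwa [inv_inv] at this
    refine (hmem _).2 ⟨mul_mem (mul_mem (c.TN ht) k1) (inv_mem (c.TN ht)), ?_, ?_⟩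
    · calc t * k * t⁻¹ * z * (t * k * t⁻¹)⁻¹ = t * (k * (t⁻¹ * z * t) * k⁻¹) * t⁻¹ := by group
        _ = z := by rw [e1, k2, c.Tz t ht]
    · have e3 : t * k * t⁻¹ * y * (t * k * t⁻¹)⁻¹ = t * (k * (t⁻¹ * y * t) * k⁻¹) * t⁻¹ := by group
      have e4 : k * (t⁻¹ * y * t) * k⁻¹ = t⁻¹ * y * t := by
        rcases e2 with e2 | e2
        · rw [e2, k3]
        · rw [e2, conj_mul', k2, k3]
      rw [e3, e4]; group
  exact hYT ((hmem g).2 ⟨hg, h1, h2⟩)

/-- `x ↦ x y` in `T` -/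
theorem exists_g1 [Finite G] : ∃ g ∈ T, g * z * g⁻¹ = z ∧ g * y * g⁻¹ = y ∧ g * x * g⁻¹ = y * x := by
  have b := c.bas
  have hcomm : ∀ {a b : G}, a ∈ V → b ∈ V → a * b = b * a := fun ha hb => c.hyp.comm ha hb
  have hyy := c.hyp.sq y b.hy
  have hb' : Bas V z y (y * x) := by
    refine ⟨b.hz, b.hy, V.mul_mem b.hy b.hx, b.z1, b.y1, b.yz, ?_, ?_, ?_, ?_⟩
    · intro h
      exact b.xy (by rw [← inv_of_sq hyy]; exact (inv_eq_of_mul_eq_one_right h).symm)
    · intro h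
      apply b.xzy
      rw [← h, hcomm (V.mul_mem b.hy b.hx) b.hy, ← mul_assoc, hyy, one_mul]
    · intro h
      exact b.x1 (by simpa using h)
    · intro h
      rw [hcomm b.hz b.hy] at h
      exact b.xz (mul_left_cancel h)
  obtain ⟨g, hg, h1, h2, h3⟩ := c.hyp.trans b hb'
  exact ⟨g, c.mem_T hg h1 h2, h1, h2, h3⟩

end Conf

end Cfsg.Agent.GH.C2GrowL3P
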