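import Cfsg.Agent.GH.C2GrowL3Base

/-!
# GH-C2, growth, `M/V = L₃(2)`: the action of `M = N_G(V)` on `V`
-/

set_option autoImplicit false

namespace Cfsg.Agent.GH.C2GrowL3V

open Subgroup Cfsg.Agent.GH.C2GrowL3Base

variable {G : Type*} [Group G]

theorem conj_mul' (g x y : G) : g * (x * y) * g⁻¹ = (g * x * g⁻¹) * (g * y * g⁻¹) := by group

theorem conj_conj (g k x : G) : (g * k) * x * (g * k)⁻¹ = g * (k * x * k⁻¹) * g⁻¹ := by group

theorem conj_eq_iff (g x y : G) : g * x * g⁻¹ = y ↔ g * x = y * g := by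
  constructor
  · intro h; rw [← h]; group
  · intro h; rw [h]; group

theorem conj_inj {g x y : G} (h : g * x * g⁻¹ = g * y * g⁻¹) : x = y :=
  mul_left_cancel (mul_right_cancel h)

theorem inv_of_sq {a : G} (h : a * a = 1) : a⁻¹ = a := inv_eq_of_mul_eq_one_left h

theorem comm_of_sq {V : Subgroup G} (hV : ∀ v ∈ V, v * v = 1) {a b : G} (ha : a ∈ V) (hb : b ∈ V) :
    a * b = b * a := by
  have h1 : (a * b) * (a * b) = 1 := hV _ (V.mul_mem ha hb)
  have h2 : a * b = (a * b)⁻¹ := eq_inv_of_mul_eq_one_left h1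
  rw [mul_inv_rev, inv_of_sq (hV a ha), inv_of_sq (hV b hb)] at h2
  exact h2

theorem mem_zpowers_two {z g : G} (hz : z * z = 1) : g ∈ zpowers z ↔ g = 1 ∨ g = z := by
  constructor
  · rintro ⟨n, rfl⟩
    rcases Int.even_or_odd' n with ⟨k, rfl | rfl⟩
    · left
      show z ^ (2 * k) = 1
      rw [zpow_mul]
      have : z ^ (2 : ℤ) = 1 := by
        rw [show (2 : ℤ) = ((2 : ℕ) : ℤ) from rfl, zpow_natCast, pow_two, hz]
      rw [this, one_zpow]
    · right
      show z ^ (2 * k + 1) = z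
      rw [zpow_add, zpow_mul]
      have : z ^ (2 : ℤ) = 1 := by
        rw [show (2 : ℤ) = ((2 : ℕ) : ℤ) from rfl, zpow_natCast, pow_two, hz]
      rw [this, one_zpow, one_mul, zpow_one]
  · rintro (rfl | rfl)
    · exact one_mem _
    · exact mem_zpowers _

theorem card_zpowers_two {z : G} (hz : z * z = 1) (hz1 : z ≠ 1) : Nat.card (zpowers z) = 2 := by
  rw [Nat.card_zpowers]
  have : Fact (Nat.Prime 2) := ⟨Nat.prime_two⟩
  exact orderOf_eq_prime (by rw [pow_two]; exact hz) hz1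

/-- The four-group `⟨a, b⟩`. -/
def kl (V : Subgroup G) (hV : ∀ v ∈ V, v * v = 1) (a b : G) (ha : a ∈ V) (hb : b ∈ V) : Subgroup G where
  carrier := {g | g = 1 ∨ g = a ∨ g = b ∨ g = a * b}
  one_mem' := Or.inl rfl
  mul_mem' := by
    have haa := hV a ha
    have hbb := hV b hb
    have hab := comm_of_sq hV ha hb
    have h1 : a * (a * b) = b := by rw [← mul_assoc, haa, one_mul]
    have h2 : b * (a * b) = a := by rw [hab, ← mul_assoc, hbb, one_mul]
    have h3 : a * b * a = b := by rw [hab, mul_assoc, haa, mul_one]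
    have h4 : a * b * b = a := by rw [mul_assoc, hbb, mul_one]
    have h5 : a * b * (a * b) = 1 := hV _ (V.mul_mem ha hb)
    rintro g h (rfl | rfl | rfl | rfl) (rfl | rfl | rfl | rfl) <;>
      simp only [Set.mem_ofPred_eq, one_mul, mul_one, haa, hbb, h1, h2, h3, h4, h5, hab.symm, true_or, or_true]
  inv_mem' := by
    rintro g (rfl | rfl | rfl | rfl)
    · left; exact inv_one
    · right; left; exact inv_of_sq (hV _ ha)
    · right; right; left; exact inv_of_sq (hV _ hb)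
    · right; right; right; exact inv_of_sq (hV _ (V.mul_mem ha hb))

theorem mem_kl {V : Subgroup G} {hV : ∀ v ∈ V, v * v = 1} {a b : G} {ha : a ∈ V} {hb : b ∈ V} {g : G} :
    g ∈ kl V hV a b ha hb ↔ g = 1 ∨ g = a ∨ g = b ∨ g = a * b := Iff.rfl

theorem kl_le {V : Subgroup G} {hV : ∀ v ∈ V, v * v = 1} {a b : G} {ha : a ∈ V} {hb : b ∈ V}
    {K : Subgroup G} (haK : a ∈ K) (hbK : b ∈ K) : kl V hV a b ha hb ≤ K := by
  rintro g (rfl | rfl | rfl | rfl)
  · exact K.one_mem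
  · exact haK
  · exact hbK
  · exact K.mul_mem haK hbK

theorem card_kl [Finite G] {V : Subgroup G} {hV : ∀ v ∈ V, v * v = 1} {a b : G} {ha : a ∈ V} {hb : b ∈ V}
    (ha1 : a ≠ 1) (hb1 : b ≠ 1) (hab : b ≠ a) : Nat.card (kl V hV a b ha hb) = 4 := by
  have h1 : Nat.card (zpowers a) = 2 := card_zpowers_two (hV a ha) ha1
  have hle : zpowers a ≤ kl V hV a b ha hb := by
    rw [zpowers_le]
    exact Or.inr (Or.inl rfl)
  have hbz : b ∉ zpowers a := by
    rw [mem_zpowers_two (hV a ha)]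
    rintro (h | h)
    · exact hb1 h
    · exact hab h
  rw [card_eq_two_mul hle (a := b) (Or.inr (Or.inr (Or.inl rfl))) hbz ?_, h1]
  intro c hc hcz
  rw [mem_zpowers_two (hV a ha)] at hcz ⊢
  push Not at hcz
  rcases hc with h | h | h | h
  · exact absurd h hcz.1
  · exact absurd h hcz.2
  · left; rw [h]; group
  · right
    rw [h, inv_of_sq (hV b hb), comm_of_sq hV ha hb, ← mul_assoc, hV b hb, one_mul]

/-- The hypothesis `M/V = GL₃(2)`. -/
structure Hyp3 (V : Subgroup G) : Prop where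
  card : Nat.card V = 8
  sq : ∀ v ∈ V, v * v = 1
  cent : ∀ g : G, (∀ v ∈ V, g * v = v * g) → g ∈ V
  cardN : Nat.card (normalizer (V : Set G)) = 1344

/-- a basis of `V` -/
structure Bas (V : Subgroup G) (z y x : G) : Prop where
  hz : z ∈ V
  hy : y ∈ V
  hx : x ∈ V
  z1 : z ≠ 1
  y1 : y ≠ 1
  yz : y ≠ z
  x1 : x ≠ 1
  xz : x ≠ z
  xy : x ≠ y
  xzy : x ≠ z * y

theorem mem_norm {V : Subgroup G} {g v : G} (hg : g ∈ normalizer (V : Set G)) (hv : v ∈ V) :
    g * v * g⁻¹ ∈ V := (mem_normalizer_iff.1 hg v).1 hv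

section

variable {V : Subgroup G}

theorem Hyp3.comm (h : Hyp3 V) {a b : G} (ha : a ∈ V) (hb : b ∈ V) : a * b = b * a :=
  comm_of_sq h.sq ha hb

theorem Hyp3.kl_card [Finite G] (h : Hyp3 V) {z y x : G} (b : Bas V z y x) :
    Nat.card V = 2 * Nat.card (kl V h.sq z y b.hz b.hy) := by
  rw [card_kl b.z1 b.y1 b.yz, h.card]

theorem Hyp3.x_not (h : Hyp3 V) {z y x : G} (b : Bas V z y x) : x ∉ kl V h.sq z y b.hz b.hy := by
  rintro (h1 | h1 | h1 | h1)
  · exact b.x1 h1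
  · exact b.xz h1
  · exact b.xy h1
  · exact b.xzy h1

/-- the elements of `V` -/
theorem Hyp3.mem [Finite G] (h : Hyp3 V) {z y x v : G} (b : Bas V z y x) (hv : v ∈ V) :
    v = 1 ∨ v = z ∨ v = y ∨ v = z * y ∨ v = x ∨ v = z * x ∨ v = y * x ∨ v = z * y * x := by
  by_cases hk : v ∈ kl V h.sq z y b.hz b.hy
  · rcases hk with h1 | h1 | h1 | h1 <;> simp [h1]
  · have h1 := inv_mul_mem_of_card (kl_le b.hz b.hy) (h.kl_card b) b.hx hv (h.x_not b) hk
    have h2 : v = x⁻¹ * v * x := by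
      rw [inv_of_sq (h.sq x b.hx), h.comm b.hx hv, mul_assoc, h.sq x b.hx, mul_one]
    rcases h1 with h3 | h3 | h3 | h3 <;> rw [h3] at h2 <;> rw [h2] <;> simp

/-- two elements of `N(V)` acting in the same way on a basis act in the same way on `V` -/
theorem Hyp3.conj_ext [Finite G] (h : Hyp3 V) {z y x g k : G} (b : Bas V z y x)
    (hz : g * z * g⁻¹ = k * z * k⁻¹) (hy : g * y * g⁻¹ = k * y * k⁻¹)
    (hx : g * x * g⁻¹ = k * x * k⁻¹) : ∀ v ∈ V, g * v * g⁻¹ = k * v * k⁻¹ := by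
  intro v hv
  rcases h.mem b hv with h1 | h1 | h1 | h1 | h1 | h1 | h1 | h1 <;> subst h1
  · group
  · exact hz
  · exact hy
  · rw [conj_mul', hz, hy, ← conj_mul']
  · exact hx
  · rw [conj_mul', hz, hx, ← conj_mul']
  · rw [conj_mul', hy, hx, ← conj_mul']
  · rw [conj_mul', conj_mul' g z y, hz, hy, hx, ← conj_mul', ← conj_mul']

theorem Hyp3.mem_of_conj [Finite G] (h : Hyp3 V) {z y x g : G} (b : Bas V z y x)
    (hz : g * z * g⁻¹ = z) (hy : g * y * g⁻¹ = y) (hx : g * x * g⁻¹ = x) : g ∈ V := by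
  refine h.cent g fun v hv => ?_
  have h1 := h.conj_ext (k := 1) b (by rw [hz]; group) (by rw [hy]; group) (by rw [hx]; group) v hv
  rw [conj_eq_iff] at h1
  rw [h1]; group

theorem orb_facts [Finite G] {H K : Subgroup G} {y : G} (hKV : K ≤ V)
    (h : ∀ g ∈ H, g * y * g⁻¹ ∈ V ∧ g * y * g⁻¹ ∉ K) :
    Nat.card {w : G // ∃ g ∈ H, g * y * g⁻¹ = w} + Nat.card K ≤ Nat.card V ∧
      (Nat.card V ≤ Nat.card {w : G // ∃ g ∈ H, g * y * g⁻¹ = w} + Nat.card K →
        ∀ w ∈ V, w ∉ K → ∃ g ∈ H, g * y * g⁻¹ = w) := by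
  set O : Set G := {w | ∃ g ∈ H, g * y * g⁻¹ = w} with hO
  have h1 : Nat.card {w : G // ∃ g ∈ H, g * y * g⁻¹ = w} = O.ncard := rfl
  have h2 : Nat.card K = (K : Set G).ncard := rfl
  have h3 : Nat.card V = (V : Set G).ncard := rfl
  have hsub : O ⊆ (V : Set G) \ K := by
    rintro w ⟨g, hg, rfl⟩
    exact h g hg
  have h4 : ((V : Set G) \ K).ncard = (V : Set G).ncard - (K : Set G).ncard :=
    Set.ncard_sdiff hKV (Set.toFinite _)
  have h5 : (K : Set G).ncard ≤ (V : Set G).ncard := Set.ncard_le_ncard hKV (Set.toFinite _)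
  have h6 := Set.ncard_le_ncard hsub (Set.toFinite _)
  rw [h1, h2, h3]
  refine ⟨by omega, fun h7 => ?_⟩
  have h8 := Set.eq_of_subset_of_ncard_le hsub (by omega) (Set.toFinite _)
  intro w hw hwK
  have h9 : w ∈ O := by rw [h8]; exact ⟨hw, hwK⟩
  exact h9

theorem Hyp3.facts [Finite G] (h : Hyp3 V) {z y x : G} (b : Bas V z y x) :
    (∀ w ∈ V, w ≠ 1 → ∃ g ∈ normalizer (V : Set G), g * z * g⁻¹ = w) ∧
    (∀ w ∈ V, w ≠ 1 → w ≠ z → ∃ g ∈ normalizer (V : Set G), g * z * g⁻¹ = z ∧ g * y * g⁻¹ = w) ∧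
    (∀ w ∈ V, w ≠ 1 → w ≠ z → w ≠ y → w ≠ z * y →
      ∃ g ∈ normalizer (V : Set G), g * z * g⁻¹ = z ∧ g * y * g⁻¹ = y ∧ g * x * g⁻¹ = w) ∧
    Nat.card (normalizer (V : Set G) ⊓ centralizer ({z} : Set G) ⊓ centralizer ({y} : Set G) :
      Subgroup G) = 32 := by
  set N := normalizer (V : Set G) with hN
  set H1 := N ⊓ centralizer ({z} : Set G) with hH1
  set H2 := H1 ⊓ centralizer ({y} : Set G) with hH2
  set H3 := H2 ⊓ centralizer ({x} : Set G) with hH3
  have hc1 : ∀ g ∈ H1, g * z * g⁻¹ = z := fun g hg => by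
    rw [conj_eq_iff, (mem_centralizer_singleton_iff.1 (mem_inf.1 hg).2)]
  have hc2 : ∀ g ∈ H2, g * y * g⁻¹ = y := fun g hg => by
    rw [conj_eq_iff, (mem_centralizer_singleton_iff.1 (mem_inf.1 hg).2)]
  have hc3 : ∀ g ∈ H3, g * x * g⁻¹ = x := fun g hg => by
    rw [conj_eq_iff, (mem_centralizer_singleton_iff.1 (mem_inf.1 hg).2)]
  have l1 : H1 ≤ N := inf_le_left
  have l2 : H2 ≤ H1 := inf_le_left
  have l3 : H3 ≤ H2 := inf_le_left
  have e1 := card_orb N z
  have e2 := card_orb H1 y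
  have e3 := card_orb H2 x
  rw [← hH1] at e1
  rw [← hH2] at e2
  rw [← hH3] at e3
  have hzsq := h.sq z b.hz
  have f1 := orb_facts (V := V) (H := N) (K := ⊥) (y := z) bot_le (fun g hg =>
    ⟨mem_norm hg b.hz, fun hb => b.z1 (by
      rw [Subgroup.mem_bot] at hb
      exact conj_inj (g := g) (by rw [hb]; group))⟩)
  have f2 := orb_facts (V := V) (H := H1) (K := zpowers z) (y := y) (zpowers_le.2 b.hz) (fun g hg =>
    ⟨mem_norm (l1 hg) b.hy, fun hb => by
      rw [mem_zpowers_two hzsq] at hb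
      rcases hb with hb | hb
      · exact b.y1 (conj_inj (g := g) (by rw [hb]; group))
      · exact b.yz (conj_inj (g := g) (by rw [hb, hc1 g hg]))⟩)
  have f3 := orb_facts (V := V) (H := H2) (K := kl V h.sq z y b.hz b.hy) (y := x) (kl_le b.hz b.hy)
    (fun g hg =>
    ⟨mem_norm (l1 (l2 hg)) b.hx, fun hb => by
      rcases hb with hb | hb | hb | hb
      · exact b.x1 (conj_inj (g := g) (by rw [hb]; group))
      · exact b.xz (conj_inj (g := g) (by rw [hb, hc1 g (l2 hg)]))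
      · exact b.xy (conj_inj (g := g) (by rw [hb, hc2 g hg]))
      · exact b.xzy (conj_inj (g := g) (by rw [hb, conj_mul', hc1 g (l2 hg), hc2 g hg]))⟩)
  have hH3V : H3 ≤ V := fun g hg =>
    h.mem_of_conj b (hc1 g (l2 (l3 hg))) (hc2 g (l3 hg)) (hc3 g hg)
  have c3 : Nat.card H3 ≤ 8 := by rw [← h.card]; exact Subgroup.card_le_of_le hH3V
  rw [h.card, Subgroup.card_bot] at f1
  rw [h.card, card_zpowers_two hzsq b.z1] at f2
  rw [h.card, card_kl b.z1 b.y1 b.yz] at f3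
  have hcN : Nat.card N = 1344 := h.cardN
  rw [hcN] at e1
  set o1 := Nat.card {w : G // ∃ g ∈ N, g * z * g⁻¹ = w}
  set o2 := Nat.card {w : G // ∃ g ∈ H1, g * y * g⁻¹ = w}
  set o3 := Nat.card {w : G // ∃ g ∈ H2, g * x * g⁻¹ = w}
  set n1 := Nat.card H1
  set n2 := Nat.card H2
  set n3 := Nat.card H3
  have g1 : o1 ≤ 7 := by omega
  have g2 : o2 ≤ 6 := by omega
  have g3 : o3 ≤ 4 := by omega
  have k2 : n2 ≤ 32 := by rw [e3]; calc n3 * o3 ≤ 8 * 4 := Nat.mul_le_mul c3 g3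
      _ = 32 := by norm_num
  have k1 : n1 ≤ 192 := by rw [e2]; calc n2 * o2 ≤ 32 * 6 := Nat.mul_le_mul k2 g2
      _ = 192 := by norm_num
  have q1 : o1 = 7 := by
    by_contra hne
    have : o1 ≤ 6 := by omega
    have := Nat.mul_le_mul k1 this
    omega
  have r1 : n1 = 192 := by rw [q1] at e1; omega
  have q2 : o2 = 6 := by
    by_contra hne
    have : o2 ≤ 5 := by omega
    have := Nat.mul_le_mul k2 this
    omega
  have r2 : n2 = 32 := by rw [q2] at e2; omega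
  have q3 : o3 = 4 := by
    by_contra hne
    have : o3 ≤ 3 := by omega
    have := Nat.mul_le_mul c3 this
    omega
  have s1 := f1.2 (by omega)
  have s2 := f2.2 (by omega)
  have s3 := f3.2 (by omega)
  refine ⟨fun w hw hw1 => s1 w hw (fun hb => hw1 (Subgroup.mem_bot.1 hb)), fun w hw hw1 hwz => ?_,
    fun w hw hw1 hwz hwy hwzy => ?_, r2⟩
  · obtain ⟨g, hg, hg2⟩ := s2 w hw (by
      rw [mem_zpowers_two hzsq]
      rintro (hb | hb)
      · exact hw1 hb
      · exact hwz hb)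
    exact ⟨g, l1 hg, hc1 g hg, hg2⟩
  · obtain ⟨g, hg, hg2⟩ := s3 w hw (by
      rintro (hb | hb | hb | hb)
      · exact hw1 hb
      · exact hwz hb
      · exact hwy hb
      · exact hwzy hb)
    exact ⟨g, l1 (l2 hg), hc1 g (l2 hg), hc2 g hg, hg2⟩

/-- `N(V)` is transitive on the bases of `V`. -/
theorem Hyp3.trans [Finite G] (h : Hyp3 V) {z y x z' y' x' : G} (b : Bas V z y x)
    (b' : Bas V z' y' x') : ∃ g ∈ normalizer (V : Set G),
      g * z * g⁻¹ = z' ∧ g * y * g⁻¹ = y' ∧ g * x * g⁻¹ = x' := by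
  obtain ⟨g1, hg1, h1⟩ := (h.facts b).1 z' b'.hz b'.z1
  have hn : ∀ {g v w : G}, g * v * g⁻¹ = g * w * g⁻¹ → v = w := fun {g v w} hh => conj_inj hh
  have b1 : Bas V z' (g1 * y * g1⁻¹) (g1 * x * g1⁻¹) :=
    { hz := b'.hz
      hy := mem_norm hg1 b.hy
      hx := mem_norm hg1 b.hx
      z1 := b'.z1
      y1 := fun hh => b.y1 (hn (g := g1) (by rw [hh]; group))
      yz := fun hh => b.yz (hn (g := g1) (by rw [hh, h1]))
      x1 := fun hh => b.x1 (hn (g := g1) (by rw [hh]; group))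
      xz := fun hh => b.xz (hn (g := g1) (by rw [hh, h1]))
      xy := fun hh => b.xy (hn (g := g1) hh)
      xzy := fun hh => b.xzy (hn (g := g1) (by rw [hh, conj_mul', h1])) }
  obtain ⟨g2, hg2, h2, h3⟩ := (h.facts b1).2.1 y' b'.hy b'.y1 b'.yz
  have b2 : Bas V z' y' (g2 * (g1 * x * g1⁻¹) * g2⁻¹) :=
    { hz := b'.hz
      hy := b'.hy
      hx := mem_norm hg2 b1.hx
      z1 := b'.z1
      y1 := b'.y1
      yz := b'.yz
      x1 := fun hh => b1.x1 (hn (g := g2) (by rw [hh]; group))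
      xz := fun hh => b1.xz (hn (g := g2) (by rw [hh, h2]))
      xy := fun hh => b1.xy (hn (g := g2) (by rw [hh, h3]))
      xzy := fun hh => b1.xzy (hn (g := g2) (by rw [hh, conj_mul', h2, h3])) }
  obtain ⟨g3, hg3, h4, h5, h6⟩ := (h.facts b2).2.2.1 x' b'.hx b'.x1 b'.xz b'.xy b'.xzy
  refine ⟨g3 * (g2 * g1), mul_mem hg3 (mul_mem hg2 hg1), ?_, ?_, ?_⟩
  · rw [conj_conj, conj_conj, h1, h2, h4]
  · rw [conj_conj, conj_conj, h3, h5]
  · rw [conj_conj, conj_conj, h6]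

/-- an element acting with order 3 on `V` may be chosen of order 3 -/
theorem Hyp3.three (h : Hyp3 V) {g : G} (hg : g ∈ normalizer (V : Set G))
    (h3 : ∀ v ∈ V, g * (g * (g * v * g⁻¹) * g⁻¹) * g⁻¹ = v) :
    ∃ d ∈ normalizer (V : Set G), d ^ 3 = 1 ∧ ∀ v ∈ V, d * v * d⁻¹ = g * v * g⁻¹ := by
  have h1 : g * g * g ∈ V := by
    refine h.cent _ fun v hv => ?_
    have h2 := h3 v hv
    calc g * g * g * v = g * (g * (g * v * g⁻¹) * g⁻¹) * g⁻¹ * (g * g * g) := by group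
      _ = v * (g * g * g) := by rw [h2]
  refine ⟨g * g * g * g, mul_mem (mul_mem (mul_mem hg hg) hg) hg, ?_, fun v hv => ?_⟩
  · have h2 := h.sq _ h1
    have h4 : (g * g * g * g) ^ 3 = (g * g * g * (g * g * g)) * (g * g * g * (g * g * g)) := by
      simp only [pow_succ, pow_zero]
      group
    rw [h4, h2, one_mul]
  · have h2 := h.comm h1 (mem_norm hg hv)
    calc g * g * g * g * v * (g * g * g * g)⁻¹ = g * g * g * (g * v * g⁻¹) * (g * g * g)⁻¹ := by group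
      _ = g * v * g⁻¹ := by rw [h2]; group

end

end Cfsg.Agent.GH.C2GrowL3V
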