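import Cfsg.Agent.GH.C2GrowL3P

/-!
# GH-C2, growth, `M/V = L₃(2)`: the extraspecial group `P`, lemmas A and B
-/

set_option autoImplicit false

namespace Cfsg.Agent.GH.C2GrowL3X

open Subgroup Cfsg.Agent.GH.C2GrowL3Base Cfsg.Agent.GH.C2GrowL3V Cfsg.Agent.GH.C2GrowL3P

variable {G : Type*} [Group G]

/-- `P` is extraspecial of order 32 with centre `{1, z}` -/
structure Ex (P : Subgroup G) (z : G) : Prop where
  card : Nat.card P = 32
  hz : z ∈ P
  z1 : z ≠ 1
  zz : z * z = 1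
  zc : ∀ p ∈ P, p * z = z * p
  comm : ∀ p ∈ P, ∀ q ∈ P, p * q = q * p ∨ p * q = z * (q * p)
  cen : ∀ p ∈ P, (∀ q ∈ P, p * q = q * p) → p = 1 ∨ p = z

theorem eight_cases {n : ℕ} (h : n ∣ 8) : n = 1 ∨ n = 2 ∨ n = 4 ∨ n = 8 := by
  have h1 : n ∈ Nat.divisors 8 := Nat.mem_divisors.2 ⟨h, by norm_num⟩
  have h2 : Nat.divisors 8 = {1, 2, 4, 8} := by decide
  rw [h2] at h1
  simpa only [Finset.mem_insert, Finset.mem_singleton] using h1

/-- a subgroup of order 8 is determined by three independent elements -/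
theorem eq_of_three [Finite G] {C S : Subgroup G} (hC : Nat.card C = 8) (hS : S ≤ C) {z a b : G}
    (hz : z ∈ S) (ha : a ∈ S) (hb : b ∈ S) (hzz : z * z = 1) (hz1 : z ≠ 1) (ha1 : a ≠ 1) (haz : a ≠ z)
    (hb1 : b ≠ 1) (hbz : b ≠ z) (hba : b ≠ a) (hbaz : b ≠ a * z) : S = C := by
  refine Subgroup.eq_of_le_of_card_ge hS ?_
  rw [hC]
  by_contra hlt
  have hS4 := eight_cases (hC ▸ Subgroup.card_dvd_of_le hS)
  have hzS : zpowers z ≤ S := zpowers_le.2 hz
  have hc := card_zpowers_two hzz hz1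
  have haz' : a ∉ zpowers z := by
    rw [mem_zpowers_two hzz]
    rintro (h | h)
    · exact ha1 h
    · exact haz h
  have hbz' : b ∉ zpowers z := by
    rw [mem_zpowers_two hzz]
    rintro (h | h)
    · exact hb1 h
    · exact hbz h
  have hle : 4 ≤ Nat.card S := by
    by_contra h4
    have h5 : Nat.card S ≤ 2 := by omega
    have h6 : zpowers z = S := Subgroup.eq_of_le_of_card_ge hzS (by rw [hc]; exact h5)
    exact haz' (by rw [h6]; exact ha)
  have h4 : Nat.card S = 2 * Nat.card (zpowers z) := by rw [hc]; omega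
  have h8 := inv_mul_mem_of_card hzS h4 ha hb haz' hbz'
  rw [mem_zpowers_two hzz] at h8
  rcases h8 with h8 | h8
  · rw [inv_mul_eq_one] at h8
    exact hba h8.symm
  · rw [inv_mul_eq_iff_eq_mul] at h8
    exact hbaz h8

theorem exists_pick [Finite G] {C : Subgroup G} (s : Finset G) (hs : s.card < Nat.card C) :
    ∃ c ∈ C, c ∉ s := by
  by_contra hcon
  push Not at hcon
  have h1 : (C : Set G).ncard ≤ (s : Set G).ncard :=
    Set.ncard_le_ncard (fun c hc => hcon c hc) (Set.toFinite _)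
  rw [Set.ncard_coe_finset] at h1
  have h2 : Nat.card C = (C : Set G).ncard := rfl
  omega

theorem exists_pick2 [Finite G] [DecidableEq G] {C : Subgroup G} (hC : 2 < Nat.card C) (a b : G) :
    ∃ c ∈ C, c ≠ a ∧ c ≠ b := by
  obtain ⟨c, hc, hc'⟩ := exists_pick (C := C) {a, b} (lt_of_le_of_lt Finset.card_le_two hC)
  simp only [Finset.mem_insert, Finset.mem_singleton, not_or] at hc'
  exact ⟨c, hc, hc'.1, hc'.2⟩

theorem exists_pick4 [Finite G] [DecidableEq G] {C : Subgroup G} (hC : 4 < Nat.card C) (a b d e : G) :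
    ∃ c ∈ C, c ≠ a ∧ c ≠ b ∧ c ≠ d ∧ c ≠ e := by
  obtain ⟨c, hc, hc'⟩ := exists_pick (C := C) {a, b, d, e} (lt_of_le_of_lt Finset.card_le_four hC)
  simp only [Finset.mem_insert, Finset.mem_singleton, not_or] at hc'
  exact ⟨c, hc, hc'.1, hc'.2.1, hc'.2.2.1, hc'.2.2.2⟩

/-- an elementary abelian subgroup of order 8 of `P` containing `z` -/
structure E8 (P : Subgroup G) (z : G) (A : Subgroup G) : Prop where
  le : A ≤ P
  card : Nat.card A = 8
  hz : z ∈ A
  sq : ∀ a ∈ A, a * a = 1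

theorem E8.comm {P A : Subgroup G} {z : G} (h : E8 P z A) {a b : G} (ha : a ∈ A) (hb : b ∈ A) :
    a * b = b * a := comm_of_sq h.sq ha hb

/-- two involutions with an involution as product commute -/
theorem comm_of_three {a b : G} (ha : a * a = 1) (hb : b * b = 1) (hab : (a * b) * (a * b) = 1) :
    a * b = b * a := by
  have h2 : a * b = (a * b)⁻¹ := eq_inv_of_mul_eq_one_left hab
  rw [mul_inv_rev, inv_of_sq ha, inv_of_sq hb] at h2
  exact h2

namespace Ex

variable {P : Subgroup G} {z : G} (X : Ex P z)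
include X

theorem comm_mul {p q r : G} (hp : p ∈ P) (hq : q ∈ P) (hr : r ∈ P) (h1 : p * q ≠ q * p)
    (h2 : p * r ≠ r * p) : p * (q * r) = (q * r) * p := by
  have e1 := (X.comm p hp q hq).resolve_left h1
  have e2 := (X.comm p hp r hr).resolve_left h2
  have e3 := X.zc q hq
  calc p * (q * r) = (p * q) * r := by group
    _ = z * (q * (p * r)) := by rw [e1]; group
    _ = z * (q * z) * (r * p) := by rw [e2]; group
    _ = (z * z) * (q * (r * p)) := by rw [e3]; group
    _ = (q * r) * p := by rw [X.zz, one_mul]; group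

/-- the centraliser in `K ≤ P` of an element has index at most 2 -/
theorem card_cent [Finite G] {K : Subgroup G} (hK : K ≤ P) {p : G} (hp : p ∈ P) :
    Nat.card K ≤ 2 * Nat.card (K ⊓ centralizer ({p} : Set G) : Subgroup G) := by
  by_cases h : ∀ q ∈ K, p * q = q * p
  · have h1 : K ⊓ centralizer ({p} : Set G) = K := by
      rw [inf_eq_left]
      intro q hq
      rw [mem_centralizer_singleton_iff]
      exact (h q hq).symm
    rw [h1]
    omega
  · push Not at h
    obtain ⟨q, hq, hpq⟩ := h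
    refine (card_eq_two_mul inf_le_left (a := q) hq ?_ ?_).le
    · intro h1
      exact hpq (mem_centralizer_singleton_iff.1 (mem_inf.1 h1).2).symm
    · intro r hr hr'
      have hpr : p * r ≠ r * p := by
        intro h1
        exact hr' (mem_inf.2 ⟨hr, mem_centralizer_singleton_iff.2 h1.symm⟩)
      refine mem_inf.2 ⟨K.mul_mem (K.inv_mem hq) hr, mem_centralizer_singleton_iff.2 ?_⟩
      have h2 : p * q⁻¹ ≠ q⁻¹ * p := by
        intro h3
        apply hpq
        calc p * q = q * (q⁻¹ * p) * q := by group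
          _ = q * (p * q⁻¹) * q := by rw [h3]
          _ = q * p := by group
      exact (X.comm_mul hp (P.inv_mem (hK hq)) (hK hr) h2 hpr).symm

theorem card_cent_eq [Finite G] {p : G} (hp : p ∈ P) (hp1 : p ≠ 1) (hpz : p ≠ z) :
    Nat.card (P ⊓ centralizer ({p} : Set G) : Subgroup G) = 16 := by
  have h1 := X.card_cent le_rfl hp
  rw [X.card] at h1
  have h2 : Nat.card (P ⊓ centralizer ({p} : Set G) : Subgroup G) ∣ 32 :=
    X.card ▸ Subgroup.card_dvd_of_le inf_le_left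
  have h3 : Nat.card (P ⊓ centralizer ({p} : Set G) : Subgroup G) ≠ 32 := by
    intro h4
    have h5 : P ⊓ centralizer ({p} : Set G) = P :=
      Subgroup.eq_of_le_of_card_ge inf_le_left (by rw [h4, X.card])
    rcases X.cen p hp (fun q hq => by
      rw [← h5] at hq
      exact (mem_centralizer_singleton_iff.1 (mem_inf.1 hq).2).symm) with h6 | h6
    · exact hp1 h6
    · exact hpz h6
  obtain ⟨k, hk⟩ := h2
  have hk0 : k ≠ 0 := by rintro rfl; omega
  have hk1 : k ≠ 1 := by rintro rfl; omega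
  have hk2 : k ≤ 2 := by
    by_contra h
    have h4 : 16 * 3 ≤ Nat.card (P ⊓ centralizer ({p} : Set G) : Subgroup G) * k :=
      Nat.mul_le_mul (by omega) (by omega)
    omega
  have hk3 : k = 2 := by omega
  subst hk3
  omega

/-- LEMMA A -/
theorem lemmaA [Finite G] {A B C : Subgroup G} (hA : E8 P z A) (hB : E8 P z B) (hC : E8 P z C)
    (hAB : Nat.card (A ⊓ B : Subgroup G) = 4) (hself : ∀ p ∈ P, (∀ a ∈ A, p * a = a * p) → p ∈ A) :
    ∃ c ∈ C, c ≠ 1 ∧ c ≠ z ∧ (c ∈ A ∨ c ∈ B) := by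
  classical
  obtain ⟨u, hu, hu1, huz⟩ := exists_pick2 (C := A ⊓ B) (by rw [hAB]; norm_num) 1 z
  have huA := (mem_inf.1 hu).1
  have huB := (mem_inf.1 hu).2
  have huP := hA.le huA
  obtain ⟨c1, hc1, hc11, hc1z⟩ := exists_pick2 (C := C) (by rw [hC.card]; norm_num) 1 z
  obtain ⟨c2, hc2, hc21, hc2z, hc2c, hc2cz⟩ := exists_pick4 (C := C) (by rw [hC.card]; norm_num) 1 z c1 (c1 * z)
  -- an element of `C` commuting with `u`
  obtain ⟨c, hc, hc1', hcz', hcu⟩ : ∃ c ∈ C, c ≠ 1 ∧ c ≠ z ∧ u * c = c * u := by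
    by_cases h1 : u * c1 = c1 * u
    · exact ⟨c1, hc1, hc11, hc1z, h1⟩
    by_cases h2 : u * c2 = c2 * u
    · exact ⟨c2, hc2, hc21, hc2z, h2⟩
    refine ⟨c1 * c2, C.mul_mem hc1 hc2, ?_, ?_, X.comm_mul huP (hC.le hc1) (hC.le hc2) h1 h2⟩
    · intro h
      apply hc2c
      rw [← inv_of_sq (hC.sq c1 hc1)]
      exact eq_inv_of_mul_eq_one_right h
    · intro h
      apply hc2cz
      rw [← h, ← mul_assoc, hC.sq c1 hc1, one_mul]
  set U : Subgroup G := P ⊓ centralizer ({u} : Set G) with hU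
  have hUc : Nat.card U = 16 := X.card_cent_eq huP hu1 huz
  have hAU : A ≤ U := fun a ha => mem_inf.2 ⟨hA.le ha, mem_centralizer_singleton_iff.2 (hA.comm ha huA)⟩
  have hBU : B ≤ U := fun a ha => mem_inf.2 ⟨hB.le ha, mem_centralizer_singleton_iff.2 (hB.comm ha huB)⟩
  have hcU : c ∈ U := mem_inf.2 ⟨hC.le hc, mem_centralizer_singleton_iff.2 hcu.symm⟩
  obtain ⟨a, ha, b, hb, hab⟩ := exists_mul_of_card hAU hBU (by rw [hUc, hAB, hA.card, hB.card]) hcU
  have hcomm : a * b = b * a := comm_of_three (hA.sq a ha) (hB.sq b hb) (by rw [← hab]; exact hC.sq c hc)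
  refine ⟨c, hc, hc1', hcz', ?_⟩
  by_cases haB : a ∈ B
  · right; rw [hab]; exact B.mul_mem haB hb
  left
  rw [hab]
  refine A.mul_mem ha (hself b (hB.le hb) fun a' ha' => ?_)
  by_cases haB' : a' ∈ B
  · exact hB.comm hb haB'
  · have h1 := inv_mul_mem_of_card (K := A ⊓ B) (A := A) inf_le_left (by rw [hAB, hA.card]) ha ha'
      (fun h => haB (mem_inf.1 h).2) (fun h => haB' (mem_inf.1 h).2)
    have h2 := hB.comm hb (mem_inf.1 h1).2
    calc b * a' = (b * a) * (a⁻¹ * a') := by group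
      _ = a * (b * (a⁻¹ * a')) := by rw [← hcomm]; group
      _ = a' * b := by rw [h2]; group

/-- LEMMA B -/
theorem lemmaB [Finite G] {A B C1 C2 : Subgroup G} (hA : E8 P z A) (hB : E8 P z B) (hC1 : E8 P z C1)
    (hC2 : E8 P z C2) (hAB : ∀ g ∈ A, g ∈ B → g = 1 ∨ g = z) (hC1A : ∀ g ∈ C1, g ∈ A → g = 1 ∨ g = z)
    (hC1B : ∀ g ∈ C1, g ∈ B → g = 1 ∨ g = z) (hC2A : ∀ g ∈ C2, g ∈ A → g = 1 ∨ g = z)
    (hC2B : ∀ g ∈ C2, g ∈ B → g = 1 ∨ g = z) : C1 ≤ C2 := by
  intro c1 hc1
  by_cases hcz : c1 = 1 ∨ c1 = z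
  · rcases hcz with rfl | rfl
    · exact C2.one_mem
    · exact hC2.hz
  have hinf : ∀ {A B : Subgroup G}, (∀ g ∈ A, g ∈ B → g = 1 ∨ g = z) →
      Nat.card (A ⊓ B : Subgroup G) ≤ 2 := by
    intro A B h
    rw [← card_zpowers_two X.zz X.z1]
    refine Subgroup.card_le_of_le fun g hg => ?_
    rw [mem_zpowers_two X.zz]
    exact h g (mem_inf.1 hg).1 (mem_inf.1 hg).2
  obtain ⟨a, ha, b, hb, hab⟩ := exists_mul_of_card hA.le hB.le (by
    rw [X.card, hA.card, hB.card]
    calc 32 * Nat.card (A ⊓ B : Subgroup G) ≤ 32 * 2 := Nat.mul_le_mul_left _ (hinf hAB)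
      _ = 8 * 8 := by norm_num) (hC1.le hc1)
  obtain ⟨c2, hc2, b', hb', hcb⟩ := exists_mul_of_card hC2.le hB.le (by
    rw [X.card, hC2.card, hB.card]
    calc 32 * Nat.card (C2 ⊓ B : Subgroup G) ≤ 32 * 2 := Nat.mul_le_mul_left _ (hinf hC2B)
      _ = 8 * 8 := by norm_num) (hA.le ha)
  have haz : ¬ (a = 1 ∨ a = z) := by
    intro h
    refine hcz (hC1B c1 hc1 ?_)
    rw [hab]
    rcases h with rfl | rfl
    · exact B.mul_mem B.one_mem hb
    · exact B.mul_mem hB.hz hb
  have hbz : ¬ (b = 1 ∨ b = z) := by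
    intro h
    refine hcz (hC1A c1 hc1 ?_)
    rw [hab]
    rcases h with rfl | rfl
    · exact A.mul_mem ha A.one_mem
    · exact A.mul_mem ha hA.hz
  have hbz' : ¬ (b' = 1 ∨ b' = z) := by
    intro h
    refine haz (hC2A a ?_ ha)
    rw [hcb]
    rcases h with rfl | rfl
    · exact C2.mul_mem hc2 C2.one_mem
    · exact C2.mul_mem hc2 hC2.hz
  push Not at hbz hbz' haz
  have e1 : a * b = b * a := comm_of_three (hA.sq a ha) (hB.sq b hb) (by rw [← hab]; exact hC1.sq c1 hc1)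
  have e2 : c2 = a * b' := by
    rw [hcb, mul_assoc, hB.sq b' hb', mul_one]
  have e3 : a * b' = b' * a := comm_of_three (hA.sq a ha) (hB.sq b' hb') (by rw [← e2]; exact hC2.sq c2 hc2)
  -- `b' ∈ b ⟨z⟩`
  have h1 : b' = b ∨ b' = b * z := by
    by_contra hcon
    push Not at hcon
    have hS : B ⊓ centralizer ({a} : Set G) = B := by
      refine eq_of_three hB.card inf_le_left (z := z) (a := b) (b := b')
        (mem_inf.2 ⟨hB.hz, mem_centralizer_singleton_iff.2 (X.zc a (hA.le ha)).symm⟩)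
        (mem_inf.2 ⟨hb, mem_centralizer_singleton_iff.2 e1.symm⟩)
        (mem_inf.2 ⟨hb', mem_centralizer_singleton_iff.2 e3.symm⟩) X.zz X.z1 hbz.1 hbz.2 hbz'.1 hbz'.2
        hcon.1 hcon.2
    have h2 := X.cen a (hA.le ha) (by
      intro p hp
      obtain ⟨a1, ha1, b1, hb1, rfl⟩ := exists_mul_of_card hA.le hB.le (by
        rw [X.card, hA.card, hB.card]
        calc 32 * Nat.card (A ⊓ B : Subgroup G) ≤ 32 * 2 := Nat.mul_le_mul_left _ (hinf hAB)
          _ = 8 * 8 := by norm_num) hp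
      rw [← hS] at hb1
      have h3 := mem_centralizer_singleton_iff.1 (mem_inf.1 hb1).2
      have h4 := hA.comm ha ha1
      calc a * (a1 * b1) = (a * a1) * b1 := by group
        _ = a1 * (a * b1) := by rw [h4]; group
        _ = a1 * b1 * a := by rw [← h3]; group)
    rcases h2 with h2 | h2
    · exact haz.1 h2
    · exact haz.2 h2
  rcases h1 with h1 | h1
  · rw [hab, ← h1, ← e2]; exact hc2
  · have h2 : c1 = c2 * z := by
      rw [hab, e2, h1]
      have : a * (b * z) * z = a * b * (z * z) := by group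
      rw [this, X.zz, mul_one]
    rw [h2]
    exact C2.mul_mem hc2 hC2.hz

end Ex

end Cfsg.Agent.GH.C2GrowL3X
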