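import Cfsg.Agent.GH.GL4NatSyl

/-!
# GH-C2, `GL(4,2)`: output in the natural case (helper871)
-/

set_option autoImplicit false

namespace Cfsg.Agent.GH.GL4

open Subgroup

variable {Y V : Type*} [Group Y] [Group V] {φ : Y →* MulAut V}

/-- (N1): the four-group is a Sylow 2-subgroup [`A₅`, `3 × A₅`] -/
def N1 (φ : Y →* MulAut V) : Prop := ∃ (U : Subgroup V) (a d : Y), NatD φ U a d ∧
  Nat.card (closure ({a, d * a * d⁻¹} : Set Y)) = 4 ∧
  ∃ P : Sylow 2 Y, (P : Subgroup Y) = closure {a, d * a * d⁻¹}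

/-- (N2): the Sylow 2-subgroups are dihedral of order 8 [`S₅`, `(3 × A₅):2`, `A₆`, `A₇`] -/
def N2 (φ : Y →* MulAut V) : Prop := ∃ (U : Subgroup V) (a d t : Y), NatD φ U a d ∧
  Nat.card (closure ({a, d * a * d⁻¹} : Set Y)) = 4 ∧
  t * t = 1 ∧ t * d * t⁻¹ = d⁻¹ ∧ t * a = a * t ∧ (∃ u ∈ U, φ t u ≠ u) ∧ (∀ u ∈ U, φ t u ∈ U) ∧
  ∃ P : Sylow 2 Y, (P : Subgroup Y) = closure {t, a, d * a * d⁻¹} ∧ Nat.card P = 8

/-- (N3) [`S₆`, `A₈`] -/
def N3 (φ : Y →* MulAut V) : Prop := ∃ (U : Subgroup V) (a d t : Y), NatD φ U a d ∧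
  Nat.card (closure ({a, d * a * d⁻¹} : Set Y)) = 4 ∧
  t * t = 1 ∧ t * d = d * t ∧ t * a = a * t ∧ (∀ u ∈ U, φ t u = u) ∧ t ∉ closure {a, d * a * d⁻¹}

namespace Model

variable (K : Model φ)

theorem has_lF {x : Y} (hx : K.m x = 63554) (hN : K.Has 22833) : (∀ M ∈ lF, K.Has M) ∧ K.Has 9133 := by
  have h2 : K.Has 38369 := by
    have := K.has_ev hx hN hN 5 6953
    have e : ev 22833 22833 5 6953 33825 = 38369 := by decide +kernel
    rwa [e] at this
  have hd : K.Has 9133 := by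
    have := K.has_ev hx hN hN 3 106
    have e : ev 22833 22833 3 106 33825 = 9133 := by decide +kernel
    rwa [e] at this
  have h3 : K.Has 18673 := by
    have := K.has_mu hN h2
    have e : mu 22833 38369 = 18673 := by decide +kernel
    rwa [e] at this
  refine ⟨?_, hd⟩
  intro M hM
  simp only [lF, List.mem_cons, List.not_mem_nil, or_false] at hM
  rcases hM with rfl | rfl | rfl | rfl
  · exact ⟨1, K.m_one⟩
  · exact hN
  · exact h2
  · exact h3

theorem nat_out [Finite Y] (hφ : Function.Injective φ) {x : Y} (hx : K.m x = 63554) (hN : K.Has 22833) :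
    N1 φ ∨ N2 φ ∨ N3 φ := by
  obtain ⟨hF, d, hd⟩ := K.has_lF hx hN
  obtain ⟨a, ha⟩ := hN
  have haF : K.m a ∈ lF1 := by rw [ha]; decide
  rcases K.nat_cases' hφ hF hd with ⟨P, hP⟩ | ⟨t, h1, h2, htT, htF, P, hP⟩ | ⟨t, ht, htF⟩
  · left
    refine ⟨K.U, a, d, K.natD hφ haF hd, ?_, P, ?_⟩
    · rw [K.closure_F hφ haF hd, K.card_F hφ hF]
    · rw [K.closure_F hφ haF hd, hP]
  · right; left
    obtain ⟨htt, htd, htc, htU⟩ := K.tT_spec hφ hd htT
    obtain ⟨M, hM, hMc⟩ : ∃ M ∈ lF1, mu (K.m t) M = mu M (K.m t) := by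
      rcases htc with h | h | h
      · exact ⟨_, by decide, h⟩
      · exact ⟨_, by decide, h⟩
      · exact ⟨_, by decide, h⟩
    have hsub : ∀ M ∈ lF1, M ∈ lF := by decide
    have hMF : M ∈ lF := hsub M hM
    obtain ⟨b, rfl⟩ := hF M hMF
    have hcl := K.closure_F hφ hM hd
    refine ⟨K.U, b, d, t, K.natD hφ hM hd, ?_, htt, htd, ?_, ?_, fun u hu => K.pres_U hφ hF h1 hu, P, ?_, ?_⟩
    · rw [hcl, K.card_F hφ hF]
    · apply K.m_inj hφ
      rw [K.m_mul, K.m_mul]
      exact hMc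
    · by_contra hcon
      push Not at hcon
      exact htU (K.trivU_iff.mpr hcon)
    · rw [hP]
      apply le_antisymm
      · rintro y (hy | hy)
        · rw [← hcl] at hy
          exact closure_mono (fun z hz => Or.inr hz) hy
        · rw [← hcl] at hy
          have h3 : y * t ∈ closure ({t, b, d * b * d⁻¹} : Set Y) :=
            closure_mono (fun z hz => Or.inr hz) hy
          have h4 : t ∈ closure ({t, b, d * b * d⁻¹} : Set Y) := subset_closure (Or.inl rfl)
          have h5 := mul_mem h3 (inv_mem h4)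
          rwa [mul_inv_cancel_right] at h5
      · rw [closure_le]
        rintro y (rfl | hy)
        · exact Or.inr (by rw [htt]; exact one_mem _)
        · left
          rw [← hcl]
          exact subset_closure hy
    · have h5 : Nat.card P = Nat.card (P : Subgroup Y) := rfl
      rw [h5, hP, card_ext h1 h2 htF, K.card_F hφ hF]
  · right; right
    obtain ⟨htt, htd, htc, htU⟩ := K.t0T_spec hφ hd ht
    have hcl := K.closure_F hφ haF hd
    refine ⟨K.U, a, d, t, K.natD hφ haF hd, ?_, htt, htd, ?_, ?_, ?_⟩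
    · rw [hcl, K.card_F hφ hF]
    · apply K.m_inj hφ
      rw [K.m_mul, K.m_mul, ha]
      exact htc
    · exact K.trivU_iff.mp htU
    · rw [hcl]
      exact htF

end Model

end Cfsg.Agent.GH.GL4
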