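import Cfsg.Agent.GH.C2GrowN2
import Cfsg.Agent.GH.GL4NatOut

/-!
# GH-C2, growth: from helper871's `GL4.N2` to `NTwo` (helper445)
-/

set_option autoImplicit false

namespace Cfsg.Agent.GH.C2GrowN2Glue

open Cfsg Subgroup C2GrowIn C2GrowN2

variable {Y V : Type*} [Group Y] [Group V] {φ : Y →* MulAut V}

theorem ntwo_of_N2 [Finite Y] [Finite V] (sqV : ∀ v : V, v * v = 1) (h : GL4.N2 φ) :
    ∃ (F : Subgroup Y) (U : Subgroup V) (d t : Y) (P : Sylow 2 Y), NTwo φ F U d t (P : Subgroup Y) := by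
  obtain ⟨U, a, d, t, hN, hF4, htt, htd, hta, htU, -, P, hP, hP8⟩ := h
  obtain ⟨b, hb⟩ : ∃ b, b = d * a * d⁻¹ := ⟨_, rfl⟩
  have aa := hN.aa
  have bb : b * b = 1 := by
    have h1 : b * b = d * (a * a) * d⁻¹ := by rw [hb]; group
    rw [h1, aa]; group
  have ab : a * b = b * a := by rw [hb]; exact hN.comm
  have hdb : d * b * d⁻¹ = a * b := by
    have h1 := hN.prod
    rw [← hb] at h1
    have h2 : d * b * d⁻¹ = (a * b)⁻¹ := eq_inv_of_mul_eq_one_right h1
    rw [h2, mul_inv_rev, inv_eq_of_mul_eq_one_left aa, inv_eq_of_mul_eq_one_left bb, ab]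
  have hdab : d * (a * b) * d⁻¹ = a := by
    have h1 : d * (a * b) * d⁻¹ = (d * a * d⁻¹) * (d * b * d⁻¹) := by group
    rw [h1, ← hb, hdb, ab, ← mul_assoc, bb, one_mul]
  have hcl : closure ({a, d * a * d⁻¹} : Set Y) = four a b aa bb ab := by
    rw [← hb]
    apply le_antisymm
    · rw [closure_le]
      rintro y (rfl | rfl)
      · exact mem_four.2 (Or.inr (Or.inl rfl))
      · exact mem_four.2 (Or.inr (Or.inr (Or.inl rfl)))
    · have h1 : a ∈ closure ({a, b} : Set Y) := subset_closure (Or.inl rfl)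
      have h2 : b ∈ closure ({a, b} : Set Y) := subset_closure (Or.inr rfl)
      rintro y (rfl | rfl | rfl | rfl)
      · exact one_mem _
      · exact h1
      · exact h2
      · exact mul_mem h1 h2
  rw [hcl] at hF4
  have hφ : ∀ (x y : Y) (w : V), φ (x * y) w = φ x (φ y w) := fun x y w => by
    rw [map_mul, MulAut.mul_apply]
  have hcomm : ∀ v w : V, v * w = w * v := fun v w =>
    C2GrowG.comm_of_sq (W := ⊤) (fun w _ => sqV w) (mem_top v) (mem_top w)
  have hdi : ∀ w : V, φ d (φ d⁻¹ w) = w := fun w => by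
    rw [← hφ, mul_inv_cancel, map_one, MulAut.one_apply]
  have hdi' : ∀ w : V, φ d⁻¹ (φ d w) = w := fun w => by
    rw [← hφ, inv_mul_cancel, map_one, MulAut.one_apply]
  have hd3 : d⁻¹ = d * d := by
    have h1 := hN.d3
    exact inv_eq_of_mul_eq_one_left h1
  have hdU : ∀ w : V, φ d⁻¹ w ∈ U ↔ w ∈ U := by
    intro w
    constructor
    · intro h1
      rw [← hdi w]
      exact hN.dU _ h1
    · intro h1
      rw [hd3, hφ]
      exact hN.dU _ (hN.dU _ h1)
  -- transport by `d`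
  have hgood : ∀ f : Y, ((∀ w, φ f w = w ↔ w ∈ U) ∧ ∀ u ∈ U, ∃ w, w * φ f w = u) →
      ((∀ w, φ (d * f * d⁻¹) w = w ↔ w ∈ U) ∧ ∀ u ∈ U, ∃ w, w * φ (d * f * d⁻¹) w = u) := by
    rintro f ⟨h1, h2⟩
    refine ⟨fun w => ?_, fun u hu => ?_⟩
    · rw [hφ, hφ, ← hdU w, ← h1 (φ d⁻¹ w)]
      constructor
      · intro h3
        have h4 := congrArg (φ d⁻¹) h3
        rwa [hdi'] at h4
      · intro h3
        rw [h3, hdi]
    · obtain ⟨w, hw⟩ := h2 _ ((hdU u).2 hu)
      refine ⟨φ d w, ?_⟩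
      rw [hφ, hφ, hdi', ← map_mul, hw, hdi]
  have hga : (∀ w, φ a w = w ↔ w ∈ U) ∧ ∀ u ∈ U, ∃ w, w * φ a w = u := by
    refine ⟨hN.fa, fun u hu => ?_⟩
    obtain ⟨v, hv⟩ := hN.sur u hu
    refine ⟨v, ?_⟩
    rw [inv_eq_of_mul_eq_one_left (sqV v)] at hv
    rw [hcomm]; exact hv
  have hgb := hgood a hga
  rw [← hb] at hgb
  have hgab := hgood b hgb
  rw [hdb] at hgab
  have hall : ∀ f ∈ four a b aa bb ab, f ≠ 1 →
      ((∀ w, φ f w = w ↔ w ∈ U) ∧ ∀ u ∈ U, ∃ w, w * φ f w = u) := by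
    intro f hf hf1
    rcases mem_four.1 hf with rfl | rfl | rfl | rfl
    · exact absurd rfl hf1
    · exact hga
    · exact hgb
    · exact hgab
  have htb : t * b * t⁻¹ = a * b := by
    have h1 : t * b * t⁻¹ = (t * d * t⁻¹) * (t * a * t⁻¹) * (t * d * t⁻¹)⁻¹ := by rw [hb]; group
    have h2 : t * a * t⁻¹ = a := by rw [hta]; group
    rw [h1, h2, htd, hd3]
    have h3 : d * d * a * (d * d)⁻¹ = d * (d * a * d⁻¹) * d⁻¹ := by group
    rw [h3, ← hb, hdb]
  refine ⟨four a b aa bb ab, U, d, t, P,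
    { sqW := sqV
      cardU := hN.cardU
      cardF := hF4
      sqF := ?_
      dF := ?_
      dtr := ?_
      ddd := hN.d3
      fix := fun f hf hf1 => (hall f hf hf1).1
      onto := fun f hf hf1 => (hall f hf hf1).2
      tt := htt
      td := htd
      tF := ?_
      tU := htU
      P_eq := ?_
      cardP := hP8 }⟩
  · intro f hf
    rcases mem_four.1 hf with rfl | rfl | rfl | rfl
    · exact one_mul 1
    · exact aa
    · exact bb
    · calc a * b * (a * b) = a * (b * a) * b := by group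
        _ = a * (a * b) * b := by rw [ab]
        _ = (a * a) * (b * b) := by group
        _ = 1 := by rw [aa, bb, one_mul]
  · intro f hf
    rcases mem_four.1 hf with rfl | rfl | rfl | rfl
    · rw [mul_one, mul_inv_cancel]; exact one_mem _
    · rw [← hb]; exact mem_four.2 (Or.inr (Or.inr (Or.inl rfl)))
    · rw [hdb]; exact mem_four.2 (Or.inr (Or.inr (Or.inr rfl)))
    · rw [hdab]; exact mem_four.2 (Or.inr (Or.inl rfl))
  · intro f hf g hg hf1 hg1
    have e0 : ∀ x : Y, d ^ 0 * x * (d ^ 0)⁻¹ = x := fun x => by simp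
    have e1 : ∀ x : Y, d ^ 1 * x * (d ^ 1)⁻¹ = d * x * d⁻¹ := fun x => by simp
    have e2 : ∀ x : Y, d ^ 2 * x * (d ^ 2)⁻¹ = d * (d * x * d⁻¹) * d⁻¹ := fun x => by
      rw [pow_two]; group
    rcases mem_four.1 hf with rfl | rfl | rfl | rfl
    · exact absurd rfl hf1
    · rcases mem_four.1 hg with rfl | rfl | rfl | rfl
      · exact absurd rfl hg1
      · exact ⟨0, e0 _⟩
      · exact ⟨1, by rw [e1, hb]⟩
      · exact ⟨2, by rw [e2, ← hb, hdb]⟩
    · rcases mem_four.1 hg with rfl | rfl | rfl | rfl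
      · exact absurd rfl hg1
      · exact ⟨2, by rw [e2, hdb, hdab]⟩
      · exact ⟨0, e0 _⟩
      · exact ⟨1, by rw [e1, hdb]⟩
    · rcases mem_four.1 hg with rfl | rfl | rfl | rfl
      · exact absurd rfl hg1
      · exact ⟨1, by rw [e1, hdab]⟩
      · exact ⟨2, by rw [e2, hdab, hb]⟩
      · exact ⟨0, e0 _⟩
  · intro f hf
    rcases mem_four.1 hf with rfl | rfl | rfl | rfl
    · rw [mul_one, mul_inv_cancel]; exact one_mem _
    · have h2 : t * f * t⁻¹ = f := by rw [hta]; group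
      rw [h2]; exact hf
    · rw [htb]; exact mem_four.2 (Or.inr (Or.inr (Or.inr rfl)))
    · have h1 : t * (a * b) * t⁻¹ = (t * a * t⁻¹) * (t * b * t⁻¹) := by group
      have h2 : t * a * t⁻¹ = a := by rw [hta]; group
      rw [h1, h2, htb, ← mul_assoc, aa, one_mul]
      exact mem_four.2 (Or.inr (Or.inr (Or.inl rfl)))
  · rw [hP, ← hcl, ← hb]
    apply le_antisymm
    · rw [closure_le]
      rintro y (rfl | rfl | rfl)
      · exact mem_sup_right (mem_zpowers _)
      · exact mem_sup_left (subset_closure (Or.inl rfl))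
      · exact mem_sup_left (subset_closure (Or.inr rfl))
    · refine sup_le (closure_mono (fun z hz => Or.inr hz)) ?_
      rw [zpowers_le]
      exact subset_closure (Or.inl rfl)

end Cfsg.Agent.GH.C2GrowN2Glue
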