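import Cfsg.Agent.GH.C2Grow256

/-!
# GH-C2, growth: transitivity of `N_G(V)` on `V` in the natural case
-/

set_option autoImplicit false

namespace Cfsg.Agent.GH.C2GrowTrans

open Subgroup
open Cfsg.Agent.J2Sylow.Model Cfsg.Agent.GH.C2Rel Cfsg.Agent.GH.C2Hom

variable {G : Type*} [Group G]

/-- Fixed points of an element of order dividing 5. -/
theorem fix5 [Finite G] {x : G} (hx : x ^ 5 = 1) {A : Subgroup G} (hn : x ∈ normalizer (A : Set G)) :
    Nat.card A ≡ Nat.card ↥(A ⊓ centralizer ({x} : Set G)) [MOD 5] := by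
  have hf : Fact (Nat.Prime 5) := ⟨by norm_num⟩
  have hP : IsPGroup 5 (zpowers x) := by
    rintro ⟨y, hy⟩
    obtain ⟨n, rfl⟩ := mem_zpowers_iff.mp hy
    refine ⟨1, Subtype.ext ?_⟩
    show (x ^ n) ^ 5 ^ 1 = 1
    rw [pow_one, ← zpow_natCast, ← zpow_mul, mul_comm, zpow_mul, zpow_natCast, hx, one_zpow]
  have hzn : ∀ p ∈ zpowers x, ∀ a ∈ A, p * a * p⁻¹ ∈ A := fun p hp a ha =>
    C2GrowG.conj_mem ((zpowers_le.mpr hn) hp) ha
  let act : MulAction (zpowers x) A :=
    { smul := fun p a => ⟨p * a * (p : G)⁻¹, hzn p p.2 a a.2⟩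
      one_smul := fun a => Subtype.ext (by
        show (1 : G) * a * (1 : G)⁻¹ = a
        simp)
      mul_smul := fun p q a => Subtype.ext (by
        show (p * q : G) * a * (p * q : G)⁻¹ = p * (q * a * (q : G)⁻¹) * (p : G)⁻¹
        group) }
  have h1 := hP.card_modEq_card_fixedPoints A
  have h2 : Nat.card (MulAction.fixedPoints (zpowers x) A) =
      Nat.card ↥(A ⊓ centralizer ({x} : Set G)) := by
    refine Nat.card_congr
      { toFun := fun a => ⟨a.1, mem_inf.mpr ⟨a.1.2, ?_⟩⟩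
        invFun := fun a => ⟨⟨a.1, (mem_inf.mp a.2).1⟩, ?_⟩
        left_inv := fun _ => rfl
        right_inv := fun _ => rfl }
    · rw [mem_centralizer_singleton_iff]
      have h3 : x * (a.1 : G) * x⁻¹ = a.1 := congrArg Subtype.val (a.2 ⟨x, mem_zpowers x⟩)
      exact (mul_inv_eq_iff_eq_mul.mp h3).symm
    · rintro ⟨y, hy⟩
      refine Subtype.ext ?_
      show y * (a.1 : G) * y⁻¹ = a.1
      obtain ⟨n, rfl⟩ := mem_zpowers_iff.mp hy
      have h3 : Commute x (a.1 : G) := (mem_centralizer_singleton_iff.mp (mem_inf.mp a.2).2).symm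
      rw [(h3.zpow_left n).eq, mul_inv_cancel_right]
  rwa [h2] at h1

theorem conj_all [Finite G] {X Y Z : F4 → G} {s r : G} (hu : UT X Y Z) (hsr : SR X Y Z s r)
    {V : Subgroup G} (hVm : ∀ g, g ∈ V ↔ ∃ b c, g = Y b * Z c)
    (hC : ∀ g, (∀ v ∈ V, g * v = v * g) → g ∈ V) (h5 : 5 ∣ Nat.card (normalizer (V : Set G))) :
    ∀ b c : F4, (b ≠ 0 ∨ c ≠ 0) → ∃ g, g * (Y b * Z c) * g⁻¹ = Z 1 := by
  have hf : Fact (Nat.Prime 5) := ⟨by norm_num⟩
  have hY0 : Y 0 = 1 := UT.Y0 hu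
  have hZ0 : Z 0 = 1 := UT.Z0 hu
  obtain ⟨⟨x, hxN⟩, hx5⟩ := exists_prime_orderOf_dvd_card' 5 h5
  have hxo : orderOf x = 5 := by rw [← hx5]; exact (orderOf_mk x hxN).symm
  have hx : x ^ 5 = 1 := by rw [← hxo]; exact pow_orderOf_eq_one x
  -- conjugacy classes
  let K : G → Prop := fun y => ∃ g, g * y * g⁻¹ = Z 1
  have hK : ∀ y k, K (k * y * k⁻¹) → K y := by
    rintro y k ⟨g, hg⟩
    exact ⟨g * k, by rw [← hg]; group⟩
  have hrZ : ∀ c, r * Z c * r⁻¹ = Z (F4.u * c) := fun c => mul_inv_eq_iff_eq_mul.mpr (hsr.rZ c)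
  have hrY : ∀ c, r * Y c * r⁻¹ = Y (F4.w * c) := fun c => mul_inv_eq_iff_eq_mul.mpr (hsr.rY c)
  have hKZ1 : K (Z 1) := ⟨1, by group⟩
  have hKw : K (Z F4.w) := hK _ r (by rw [hrZ]; exact hKZ1)
  have hKu : K (Z F4.u) := hK _ r (by rw [hrZ]; exact hKw)
  have hKZ : ∀ c, c ≠ 0 → K (Z c) := by
    intro c hc
    cases c
    · exact absurd rfl hc
    · exact hKZ1
    · exact hKw
    · exact hKu
  -- reduction of `Y b Z c` to `Y 1`
  have hKY : K (Y 1) → ∀ b c, b ≠ 0 → K (Y b * Z c) := by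
    intro h1 b c hb
    have h2 : K (Y F4.u) := hK _ r (by rw [hrY]; exact h1)
    have h3 : K (Y F4.w) := hK _ r (by rw [hrY]; exact h2)
    have h4 : K (Y b) := by
      cases b
      · exact absurd rfl hb
      · exact h1
      · exact h3
      · exact h2
    have h5 : ∀ b c : F4, b ≠ 0 → ∃ a, a * b = c := by decide
    obtain ⟨a, ha⟩ := h5 b c hb
    apply hK _ (X a)
    have h6 : X a * (Y b * Z c) * (X a)⁻¹ = Y b := by
      rw [← mul_assoc, hu.XY, ha, mul_assoc (Y b), mul_assoc (X a), hu.ZZ, F4.add_self, hZ0, mul_one]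
      group
    rw [h6]; exact h4
  have hKY' : ∀ b c, b ≠ 0 → K (Y b * Z c) → K (Y 1) := by
    intro b c hb h1
    have h5 : ∀ b c : F4, b ≠ 0 → ∃ a, a * b = c := by decide
    obtain ⟨a, ha⟩ := h5 b c hb
    have h6 : X a * Y b * (X a)⁻¹ = Y b * Z c := by
      rw [hu.XY, ha, ← hu.ZX]; group
    have h7 : K (Y b) := hK _ (X a) (by rw [h6]; exact h1)
    have h8 : ∀ b, K (Y (F4.w * b)) → K (Y b) := fun b h => hK _ r (by rw [hrY]; exact h)
    cases b
    · exact absurd rfl hb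
    · exact h7
    · exact h8 1 h7
    · exact h8 1 (h8 F4.w h7)
  by_contra hcon
  have hnot : ¬ K (Y 1) := by
    intro h1
    apply hcon
    intro b c hbc
    by_cases hb : b = 0
    · subst hb
      rw [hY0, one_mul]
      exact hKZ c (hbc.resolve_left (fun h => h rfl))
    · exact hKY h1 b c hb
  -- the subgroup `Z₀`
  let A : Subgroup G :=
    { carrier := {g | ∃ c, g = Z c}
      one_mem' := ⟨0, hZ0.symm⟩
      mul_mem' := by
        rintro _ _ ⟨c, rfl⟩ ⟨d, rfl⟩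
        exact ⟨c + d, hu.ZZ c d⟩
      inv_mem' := by
        rintro _ ⟨c, rfl⟩
        refine ⟨c, ?_⟩
        rw [inv_eq_iff_mul_eq_one, hu.ZZ, F4.add_self, hZ0] }
  have hAV : A ≤ V := by
    rintro _ ⟨c, rfl⟩
    exact (hVm _).mpr ⟨0, c, by rw [hY0, one_mul]⟩
  have hZinj : Function.Injective Z := by
    intro c d hcd
    by_contra hne
    have h1 : Z (c + d) = 1 := by rw [← hu.ZZ, hcd, hu.ZZ, F4.add_self, hZ0]
    refine hu.Z1 (c + d) ?_ h1
    revert hne
    clear h1 hcd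
    revert c d
    decide
  have hcardA : Nat.card A = 4 := by
    have e : F4 ≃ A := Equiv.ofBijective (fun c => (⟨Z c, c, rfl⟩ : A)) ⟨fun c d hcd =>
      hZinj (congrArg Subtype.val hcd), fun ⟨g, c, hc⟩ => ⟨c, Subtype.ext hc.symm⟩⟩
    rw [← Nat.card_congr e, Nat.card_eq_fintype_card]
    rfl
  have hxA : x ∈ normalizer (A : Set G) := by
    apply C2GrowG.mem_normalizer_of
    rintro _ ⟨c, rfl⟩
    have h1 := C2GrowG.conj_mem hxN (hAV ⟨c, rfl⟩)
    obtain ⟨b', c', h2⟩ := (hVm _).mp h1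
    by_cases hb : b' = 0
    · rw [hb, hY0, one_mul] at h2
      exact ⟨c', h2⟩
    · exfalso
      apply hnot
      apply hKY' b' c' hb
      rw [← h2]
      by_cases hc : c = 0
      · exfalso
        rw [hc, hZ0] at h2
        have h3 : Y b' * Z c' = 1 := by rw [← h2]; group
        have h4 : Y b' = Z c' := by
          have e1 : Z c' * Z c' = 1 := by rw [hu.ZZ, F4.add_self, hZ0]
          calc Y b' = Y b' * (Z c' * Z c') := by rw [e1, mul_one]
            _ = (Y b' * Z c') * Z c' := by group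
            _ = Z c' := by rw [h3, one_mul]
        have h5 : Z b' = 1 := by
          have h6 := hu.XY 1 b'
          rw [h4, one_mul, ← mul_assoc, hu.ZX] at h6
          exact (mul_eq_left.mp h6.symm)
        exact hu.Z1 b' hb h5
      · obtain ⟨g, hg⟩ := hKZ c hc
        exact ⟨g * x⁻¹, by rw [← hg]; group⟩
  have hcA := fix5 hx hxA
  have hcV := fix5 hx hxN
  rw [hcardA] at hcA
  have hle : Nat.card ↥(A ⊓ centralizer ({x} : Set G)) ≤ 4 := by
    rw [← hcardA]; exact card_le_of_le inf_le_left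
  have h4 : Nat.card ↥(A ⊓ centralizer ({x} : Set G)) = 4 := by
    have e : 4 % 5 = Nat.card ↥(A ⊓ centralizer ({x} : Set G)) % 5 := hcA
    omega
  have h5' : 4 ∣ Nat.card ↥(V ⊓ centralizer ({x} : Set G)) := by
    rw [← h4]
    exact card_dvd_of_le (inf_le_inf_right _ hAV)
  -- `|V| = 16`
  have hYZinj : ∀ b c b' c', Y b * Z c = Y b' * Z c' → b = b' ∧ c = c' := by
    intro b c b' c' h1
    have h2 : Y (b + b') = Z (c + c') := by
      rw [← hu.YY, ← hu.ZZ]
      have e1 : Z c * Z c = 1 := by rw [hu.ZZ, F4.add_self, hZ0]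
      have e2 : Y b' * Y b' = 1 := by rw [hu.YY, F4.add_self, hY0]
      have e3 : Y b * Y b' = Y b' * Y b := by rw [hu.YY, hu.YY, add_comm]
      calc Y b * Y b' = Y b' * (Y b * Z c) * Z c := by rw [e3, mul_assoc, mul_assoc, e1, mul_one]
        _ = Y b' * (Y b' * Z c') * Z c := by rw [h1]
        _ = (Y b' * Y b') * (Z c' * Z c) := by group
        _ = Z c * Z c' := by rw [e2, one_mul, hu.ZZ, hu.ZZ, add_comm]
    have h3 : b + b' = 0 := by
      by_contra hne
      have h6 := hu.XY 1 (b + b')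
      rw [h2, one_mul, ← mul_assoc, hu.ZX] at h6
      exact hu.Z1 _ hne (mul_eq_left.mp h6.symm)
    have k : ∀ b b' : F4, b + b' = 0 → b = b' := by decide
    have h4 := k _ _ h3
    refine ⟨h4, ?_⟩
    rw [h4] at h1
    exact hZinj (mul_left_cancel h1)
  have hcardV : Nat.card V = 16 := by
    have e : F4 × F4 ≃ V := Equiv.ofBijective
      (fun p => (⟨Y p.1 * Z p.2, (hVm _).mpr ⟨_, _, rfl⟩⟩ : V))
      ⟨fun p q hpq => by
        obtain ⟨h1, h2⟩ := hYZinj _ _ _ _ (congrArg Subtype.val hpq)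
        exact Prod.ext h1 h2, fun ⟨g, hg⟩ => by
        obtain ⟨b, c, h1⟩ := (hVm g).mp hg
        exact ⟨(b, c), Subtype.ext h1.symm⟩⟩
    rw [← Nat.card_congr e, Nat.card_eq_fintype_card]
    rfl
  rw [hcardV] at hcV
  have h6 : Nat.card ↥(V ⊓ centralizer ({x} : Set G)) ∣ 16 := by
    rw [← hcardV]; exact card_dvd_of_le inf_le_left
  have h7 : Nat.card ↥(V ⊓ centralizer ({x} : Set G)) = 16 := by
    have e : 16 % 5 = Nat.card ↥(V ⊓ centralizer ({x} : Set G)) % 5 := hcV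
    generalize Nat.card ↥(V ⊓ centralizer ({x} : Set G)) = n at *
    have h8 : n ≤ 16 := Nat.le_of_dvd (by norm_num) h6
    interval_cases n <;> omega
  have h8 : V ⊓ centralizer ({x} : Set G) = V := eq_of_le_of_card_ge inf_le_left (by rw [h7, hcardV])
  have h9 : x ∈ V := hC x fun v hv => by
    have h10 := (mem_inf.mp (h8.symm ▸ hv : v ∈ V ⊓ centralizer ({x} : Set G))).2
    exact (mem_centralizer_singleton_iff.mp h10).symm
  have h10 : orderOf x ∣ 16 := by
    rw [← hcardV]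
    have := orderOf_dvd_natCard (⟨x, h9⟩ : V)
    rwa [orderOf_mk] at this
  rw [hxo] at h10
  omega

end Cfsg.Agent.GH.C2GrowTrans
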