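import Cfsg.Agent.GH.C2Mod

/-!
# GH-C2, growth: the homomorphism from the model
-/

set_option autoImplicit false
set_option linter.unusedSimpArgs false

namespace Cfsg.Agent.GH.C2Hom

open Cfsg.Agent.J2Sylow.Model Cfsg.Agent.GH.C2Rel Cfsg.Agent.GH.C2Mod

variable {G : Type*} [Group G] {X Y Z : F4 → G} {s r t : G}

namespace UT

variable (h : UT X Y Z)

include h

theorem Z0 : Z 0 = 1 := by
  have h1 := h.ZZ 0 0
  rw [add_zero] at h1
  exact mul_eq_left.mp h1

theorem X0 : X 0 = 1 := by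
  have h1 := h.XX 0 0
  rw [add_zero] at h1
  exact mul_eq_left.mp h1

theorem Y0 : Y 0 = 1 := by
  have h1 := h.YY 0 0
  rw [add_zero] at h1
  exact mul_eq_left.mp h1

theorem XX' (a b : F4) (g : G) : X a * (X b * g) = X (a + b) * g := by rw [← mul_assoc, h.XX]
theorem YY' (a b : F4) (g : G) : Y a * (Y b * g) = Y (a + b) * g := by rw [← mul_assoc, h.YY]
theorem ZZ' (a b : F4) (g : G) : Z a * (Z b * g) = Z (a + b) * g := by rw [← mul_assoc, h.ZZ]
theorem XY' (a b : F4) (g : G) : X a * (Y b * g) = Y b * (X a * (Z (a * b) * g)) := by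
  rw [← mul_assoc, h.XY]; simp only [mul_assoc]
theorem ZX' (c a : F4) (g : G) : Z c * (X a * g) = X a * (Z c * g) := by
  rw [← mul_assoc, h.ZX, mul_assoc]
theorem ZY' (c b : F4) (g : G) : Z c * (Y b * g) = Y b * (Z c * g) := by
  rw [← mul_assoc, h.ZY, mul_assoc]

end UT

/-- the map -/
def el (X Y Z : F4 → G) (s t : G) (m : M) : G :=
  Y m.b * (X m.a * (Z m.c * ((if m.t then t else 1) * (if m.s then s else 1))))

theorem mul_eq (h : UT X Y Z) (hs : SR X Y Z s r) (ht : Swap X Y Z s r t) (m n : M) :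
    el X Y Z s t (m * n) = el X Y Z s t m * el X Y Z s t n := by
  obtain ⟨xa, xb, xc, xt, xs⟩ := m
  obtain ⟨ya, yb, yc, yt, ys⟩ := n
  have sX' : ∀ a (g : G), s * (X a * g) = X (F4.fr a) * (s * g) := fun a g => by
    rw [← mul_assoc, hs.sX, mul_assoc]
  have sY' : ∀ a (g : G), s * (Y a * g) = Y (F4.fr a) * (s * g) := fun a g => by
    rw [← mul_assoc, hs.sY, mul_assoc]
  have sZ' : ∀ a (g : G), s * (Z a * g) = Z (F4.fr a) * (s * g) := fun a g => by
    rw [← mul_assoc, hs.sZ, mul_assoc]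
  have tX' : ∀ a (g : G), t * (X a * g) = Y a * (t * g) := fun a g => by
    rw [← mul_assoc, ht.tX, mul_assoc]
  have tY : ∀ a, t * Y a = X a * t := fun a => by
    have h1 := ht.tX a
    have h2 := ht.tt
    calc t * Y a = t * (Y a * t) * t := by rw [mul_assoc, mul_assoc, h2, mul_one]
      _ = (t * t) * (X a * t) := by rw [← h1]; simp only [mul_assoc]
      _ = X a * t := by rw [h2, one_mul]
  have tY' : ∀ a (g : G), t * (Y a * g) = X a * (t * g) := fun a g => by
    rw [← mul_assoc, tY, mul_assoc]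
  have tZ' : ∀ a (g : G), t * (Z a * g) = Z a * (t * g) := fun a g => by
    rw [← mul_assoc, ht.tZ, mul_assoc]
  have ss' : ∀ g : G, s * (s * g) = g := fun g => by rw [← mul_assoc, hs.ss, one_mul]
  have tt' : ∀ g : G, t * (t * g) = g := fun g => by rw [← mul_assoc, ht.tt, one_mul]
  have st : s * t = t * s := ht.ts.symm
  have st' : ∀ g : G, s * (t * g) = t * (s * g) := fun g => by rw [← mul_assoc, st, mul_assoc]
  cases xt <;> cases xs <;>
    simp only [M.mul_ff, M.mul_ft, M.mul_tf, M.mul_tt, el, Bool.false_eq_true, if_false, if_true,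
      one_mul, mul_one, mul_assoc, h.XX, h.YY, h.ZZ, h.XY, h.ZX, h.ZY, UT.XX' h, UT.YY' h, UT.ZZ' h,
      UT.XY' h, UT.ZX' h, UT.ZY' h, hs.sX, hs.sY, hs.sZ, sX', sY', sZ', ht.tX, tY, tZ', tX', tY',
      ht.tZ, ss', tt', hs.ss, ht.tt, st, st'] <;>
  cases yt <;> cases ys <;>
    simp only [Bool.false_eq_true, Bool.not_true, Bool.not_false, if_false, if_true, one_mul,
      mul_one, hs.ss, ht.tt, ss', tt', st, st', hs.sX, sX', hs.sY, sY', hs.sZ, sZ', tX', tY', tZ',
      ht.tX, tY, ht.tZ]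
  all_goals simp only [add_comm, add_left_comm, add_assoc, mul_comm]

/-- the homomorphism -/
def hom (h : UT X Y Z) (hs : SR X Y Z s r) (ht : Swap X Y Z s r t) : M →* G :=
  MonoidHom.mk' (el X Y Z s t) (mul_eq h hs ht)

theorem key1 : ∀ m : M, (m.t = true ∨ m.s = true) → ∃ a b : F4,
    ((⟨a, b, 0, false, false⟩ : M) * m * (⟨a, b, 0, false, false⟩ : M)⁻¹ * m⁻¹).a ≠ 0 ∧
    ((⟨a, b, 0, false, false⟩ : M) * m * (⟨a, b, 0, false, false⟩ : M)⁻¹ * m⁻¹).t = false ∧
    ((⟨a, b, 0, false, false⟩ : M) * m * (⟨a, b, 0, false, false⟩ : M)⁻¹ * m⁻¹).s = false := by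
  decide

theorem key2 : ∀ m : M, m.t = false → m.s = false → (m.a ≠ 0 ∨ m.b ≠ 0) → ∃ a b c : F4, c ≠ 0 ∧
    (⟨a, b, 0, false, false⟩ : M) * m * (⟨a, b, 0, false, false⟩ : M)⁻¹ * m⁻¹ = M.zz c := by
  decide

theorem injective_of {φ : M →* G} (h : ∀ c, c ≠ 0 → φ (M.zz c) ≠ 1) : Function.Injective φ := by
  have h2 : ∀ m : M, m.t = false → m.s = false → (m.a ≠ 0 ∨ m.b ≠ 0) → φ m ≠ 1 := by
    intro m h1 h2 h3 h4
    obtain ⟨a, b, c, hc, h5⟩ := key2 m h1 h2 h3
    apply h c hc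
    rw [← h5, map_mul, map_mul, map_mul, map_inv, map_inv, h4]
    group
  have h3 : ∀ m : M, (m.t = true ∨ m.s = true) → φ m ≠ 1 := by
    intro m h1 h4
    obtain ⟨a, b, h5, h6, h7⟩ := key1 m h1
    apply h2 _ h6 h7 (Or.inl h5)
    rw [map_mul, map_mul, map_mul, map_inv, map_inv, h4]
    group
  rw [injective_iff_map_eq_one]
  intro m hm
  obtain ⟨a, b, c, t, s⟩ := m
  cases t
  · cases s
    · by_cases ha : a = 0
      · by_cases hb : b = 0
        · by_cases hc : c = 0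
          · subst ha hb hc; rfl
          · subst ha hb
            exact absurd hm (h c hc)
        · exact absurd hm (h2 _ rfl rfl (Or.inr hb))
      · exact absurd hm (h2 _ rfl rfl (Or.inl ha))
    · exact absurd hm (h3 _ (Or.inr rfl))
  · exact absurd hm (h3 _ (Or.inl rfl))

/-- `S` is the image of the model, `r` the element of order 3. -/
structure Ctx (S : Subgroup G) (φ : M →* G) (r : G) : Prop where
  inj : Function.Injective φ
  mem : ∀ g, g ∈ S ↔ ∃ m, φ m = g
  rrr : r * r * r = 1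
  rt : r * φ M.τ = φ M.τ * r
  rx : ∀ a b c : F4, r * φ ⟨a, b, c, false, false⟩ =
    φ ⟨F4.w * a, F4.w * b, F4.u * c, false, false⟩ * r

theorem exists_ctx {S : Subgroup G} (h : UT X Y Z) (hs : SR X Y Z s r) (ht : Swap X Y Z s r t)
    (hm : ∀ g, g ∈ S ↔ ∃ a b c, g = Y b * X a * Z c ∨ g = Y b * X a * Z c * s ∨
        g = Y b * X a * Z c * t ∨ g = Y b * X a * Z c * t * s) :
    ∃ φ : M →* G, Ctx S φ r ∧ (∀ c, φ (M.zz c) = Z c) ∧ (∀ a, φ (M.xx a) = X a) ∧
      (∀ b, φ (M.yy b) = Y b) ∧ φ M.τ = t ∧ φ M.σ = s := by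
  have hZ0 := UT.Z0 h
  have hX0 := UT.X0 h
  have hY0 := UT.Y0 h
  have hz : ∀ c, hom h hs ht (M.zz c) = Z c := fun c => by
    show Y 0 * (X 0 * (Z c * (1 * 1))) = Z c
    rw [hX0, hY0]; simp
  have hx : ∀ a, hom h hs ht (M.xx a) = X a := fun c => by
    show Y 0 * (X c * (Z 0 * (1 * 1))) = X c
    rw [hZ0, hY0]; simp
  have hy : ∀ b, hom h hs ht (M.yy b) = Y b := fun c => by
    show Y c * (X 0 * (Z 0 * (1 * 1))) = Y c
    rw [hX0, hZ0]; simp
  have htt : hom h hs ht M.τ = t := by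
    show Y 0 * (X 0 * (Z 0 * (t * 1))) = t
    rw [hX0, hY0, hZ0]; simp
  have hss : hom h hs ht M.σ = s := by
    show Y 0 * (X 0 * (Z 0 * (1 * s))) = s
    rw [hX0, hY0, hZ0]; simp
  refine ⟨hom h hs ht, ⟨?_, ?_, hs.rrr, ?_, ?_⟩, hz, hx, hy, htt, hss⟩
  · apply injective_of
    intro c hc
    rw [hz]
    exact h.Z1 c hc
  · intro g
    rw [hm]
    constructor
    · rintro ⟨a, b, c, rfl | rfl | rfl | rfl⟩
      · refine ⟨⟨a, b, c, false, false⟩, ?_⟩
        show Y b * (X a * (Z c * (1 * 1))) = _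
        simp only [mul_one, mul_assoc]
      · refine ⟨⟨a, b, c, false, true⟩, ?_⟩
        show Y b * (X a * (Z c * (1 * s))) = _
        simp only [one_mul, mul_assoc]
      · refine ⟨⟨a, b, c, true, false⟩, ?_⟩
        show Y b * (X a * (Z c * (t * 1))) = _
        simp only [mul_one, mul_assoc]
      · refine ⟨⟨a, b, c, true, true⟩, ?_⟩
        show Y b * (X a * (Z c * (t * s))) = _
        simp only [mul_assoc]
    · rintro ⟨⟨a, b, c, t', s'⟩, rfl⟩
      refine ⟨a, b, c, ?_⟩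
      cases t' <;> cases s'
      · left
        show Y b * (X a * (Z c * (1 * 1))) = _
        simp only [mul_one, mul_assoc]
      · right; left
        show Y b * (X a * (Z c * (1 * s))) = _
        simp only [one_mul, mul_assoc]
      · right; right; left
        show Y b * (X a * (Z c * (t * 1))) = _
        simp only [mul_one, mul_assoc]
      · right; right; right
        show Y b * (X a * (Z c * (t * s))) = _
        simp only [mul_assoc]
  · rw [htt]
    exact ht.tr.symm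
  · intro a b c
    show r * (Y b * (X a * (Z c * (1 * 1)))) =
      (Y (F4.w * b) * (X (F4.w * a) * (Z (F4.u * c) * (1 * 1)))) * r
    simp only [mul_one]
    rw [← mul_assoc, hs.rY, mul_assoc, ← mul_assoc r, hs.rX, mul_assoc, hs.rZ]
    simp only [mul_assoc]

end Cfsg.Agent.GH.C2Hom
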