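import Cfsg.Agent.GH.C2L3Defs

/-!
# GH-C2, `X / V = L₃(2)`: charts of elementary groups and actions in coordinates
-/

set_option autoImplicit false

namespace Cfsg.Agent.GH.C2L3

open Subgroup Cfsg.Agent.GH.Pc Cfsg.Agent.GH.PcTypes Cfsg.Agent.GH.C2Syl

variable {X : Type*} [Group X]

abbrev A3 := ZMod 2 × ZMod 2 × ZMod 2
abbrev A4 := ZMod 2 × A3

theorem z2 : ∀ x : ZMod 2, x = 0 ∨ x = 1 := by decide

/-- `g ^ x` -/
def pw (g : X) (x : ZMod 2) : X := if x = 0 then 1 else g

@[simp] theorem pw_zero (g : X) : pw g 0 = 1 := by simp [pw]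

@[simp] theorem pw_one (g : X) : pw g 1 = g := by simp [pw]

theorem pw_add {g : X} (hg : g * g = 1) (x y : ZMod 2) : pw g (x + y) = pw g x * pw g y := by
  have h11 : (1 : ZMod 2) + 1 = 0 := by decide
  rcases z2 x with rfl | rfl <;> rcases z2 y with rfl | rfl <;> simp [hg, h11]

/-- A chart of an elementary abelian group. -/
structure Ch {A : Type} [AddCommGroup A] (t : A → X) : Prop where
  add : ∀ u v, t (u + v) = t u * t v
  inj : ∀ u, t u = 1 → u = 0

namespace Ch

variable {A : Type} [AddCommGroup A] {t : A → X} (h : Ch t)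

include h in
theorem zero : t 0 = 1 := by
  have h1 := h.add 0 0
  rw [add_zero] at h1
  exact left_eq_mul.mp h1

include h in
theorem neg (u : A) : t (-u) = (t u)⁻¹ := by
  rw [eq_inv_iff_mul_eq_one, ← h.add, neg_add_cancel, h.zero]

include h in
theorem injective : Function.Injective t := by
  intro u v huv
  have h1 : u - v = 0 := h.inj _ (by rw [sub_eq_add_neg, h.add, h.neg, huv, mul_inv_cancel])
  exact sub_eq_zero.mp h1

include h in
theorem comm (u v : A) : t u * t v = t v * t u := by rw [← h.add, add_comm, h.add]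

include h in
theorem ext {e : X} (he : e * e = 1) (hc : ∀ u, e * t u = t u * e) (hne : ∀ u, t u ≠ e) :
    Ch (fun u : ZMod 2 × A => pw e u.1 * t u.2) where
  add u v := by
    have h1 : ∀ x : ZMod 2, ∀ u, pw e x * t u = t u * pw e x := by
      intro x u
      rcases z2 x with rfl | rfl
      · simp
      · simpa using hc u
    show pw e (u.1 + v.1) * t (u.2 + v.2) = pw e u.1 * t u.2 * (pw e v.1 * t v.2)
    rw [pw_add he, h.add, mul_assoc, ← mul_assoc (pw e v.1), h1, mul_assoc, mul_assoc]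
  inj u hu := by
    obtain ⟨x, u⟩ := u
    simp only at hu
    rcases z2 x with rfl | rfl
    · rw [pw_zero, one_mul] at hu
      rw [h.inj u hu]
      rfl
    · exfalso
      rw [pw_one] at hu
      apply hne (-u)
      rw [h.neg]
      exact (eq_inv_of_mul_eq_one_left hu).symm

end Ch

theorem ch_pw {e : X} (he : e * e = 1) (h1 : e ≠ 1) : Ch (fun x : ZMod 2 => pw e x) where
  add := pw_add he
  inj x hx := by
    rcases z2 x with rfl | rfl
    · rfl
    · rw [pw_one] at hx
      exact absurd hx h1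

/-- `t` is a chart of `V`. -/
structure Cht {A : Type} [AddCommGroup A] (t : A → X) (V : Subgroup X) : Prop extends Ch t where
  mem : ∀ v, v ∈ V ↔ ∃ u, t u = v

theorem Cht.of_card {A : Type} [AddCommGroup A] [Finite A] {t : A → X} {V : Subgroup X} (h : Ch t)
    (hm : ∀ u, t u ∈ V) (hc : Nat.card V = Nat.card A) : Cht t V where
  toCh := h
  mem v := by
    constructor
    · intro hv
      have hf : Finite V := Nat.finite_of_card_ne_zero (by rw [hc]; exact Nat.card_pos.ne')
      let f : A → V := fun u => ⟨t u, hm u⟩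
      have hi : Function.Injective f := fun u v huv => h.injective (congrArg Subtype.val huv)
      have hb : Function.Bijective f := (Nat.bijective_iff_injective_and_card f).2 ⟨hi, hc.symm⟩
      obtain ⟨u, hu⟩ := hb.2 ⟨v, hv⟩
      exact ⟨u, congrArg Subtype.val hu⟩
    · rintro ⟨u, rfl⟩
      exact hm u

theorem exists_notMem_range {A : Type} [Finite A] {t : A → X} {V : Subgroup X}
    (hc : Nat.card A < Nat.card V) : ∃ e ∈ V, ∀ u, t u ≠ e := by
  have hf : Finite V := Nat.finite_of_card_ne_zero (by omega)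
  by_contra hcon
  push Not at hcon
  let g : V → A := fun v => (hcon v v.2).choose
  have hg : ∀ v : V, t (g v) = v := fun v => (hcon v v.2).choose_spec
  have hi : Function.Injective g := fun v w hvw => Subtype.ext (by rw [← hg v, ← hg w, hvw])
  have := Nat.card_le_card_of_injective g hi
  omega

theorem comm_of_sq {V : Subgroup X} (hsq : ∀ v ∈ V, v * v = 1) {v w : X} (hv : v ∈ V) (hw : w ∈ V) :
    v * w = w * v := by
  have h1 := hsq _ (V.mul_mem hv hw)
  have h2 : v * w = (v * w)⁻¹ := (inv_eq_of_mul_eq_one_left h1).symm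
  rw [mul_inv_rev, inv_eq_of_mul_eq_one_left (hsq _ hv), inv_eq_of_mul_eq_one_left (hsq _ hw)] at h2
  exact h2

theorem exists_cht3 {V : Subgroup X} (hsq : ∀ v ∈ V, v * v = 1) (h8 : Nat.card V = 8) :
    ∃ t : A3 → X, Cht t V := by
  have cZ : Nat.card (ZMod 2) = 2 := by simp
  have cU : Nat.card Unit = 1 := by simp
  obtain ⟨e1, m1, n1⟩ := exists_notMem_range (A := Unit) (t := fun _ => (1 : X)) (V := V)
    (by rw [h8, cU]; norm_num)
  have t1 := ch_pw (hsq _ m1) (Ne.symm (n1 ()))
  have mm1 : ∀ x : ZMod 2, pw e1 x ∈ V := by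
    intro x
    rcases z2 x with rfl | rfl
    · rw [pw_zero]; exact V.one_mem
    · rw [pw_one]; exact m1
  obtain ⟨e2, m2, n2⟩ := exists_notMem_range (A := ZMod 2) (t := fun x => pw e1 x) (V := V)
    (by rw [h8, cZ]; norm_num)
  have t2 := t1.ext (hsq _ m2) (fun u => comm_of_sq hsq m2 (mm1 u)) n2
  have mm2 : ∀ u : ZMod 2 × ZMod 2, pw e2 u.1 * pw e1 u.2 ∈ V := by
    intro u
    refine V.mul_mem ?_ (mm1 _)
    rcases z2 u.1 with h | h
    · rw [h, pw_zero]; exact V.one_mem
    · rw [h, pw_one]; exact m2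
  obtain ⟨e3, m3, n3⟩ := exists_notMem_range (A := ZMod 2 × ZMod 2)
    (t := fun u => pw e2 u.1 * pw e1 u.2) (V := V) (by rw [h8, Nat.card_prod, cZ]; norm_num)
  have t3 := t2.ext (hsq _ m3) (fun u => comm_of_sq hsq m3 (mm2 u)) n3
  refine ⟨_, Cht.of_card t3 ?_ (by rw [h8, Nat.card_prod, Nat.card_prod, cZ])⟩
  intro u
  refine V.mul_mem ?_ (mm2 _)
  rcases z2 u.1 with h | h
  · rw [h, pw_zero]; exact V.one_mem
  · rw [h, pw_one]; exact m3

/-- Extension of a chart of `W` to `V` of twice the order. -/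
theorem Cht.ext {A : Type} [AddCommGroup A] [Finite A] {t : A → X} {V W : Subgroup X} (h : Cht t W)
    (hWV : W ≤ V) (hsq : ∀ v ∈ V, v * v = 1) (hc : Nat.card V = 2 * Nat.card A) {e : X}
    (he : e ∈ V) (heW : e ∉ W) : Cht (fun u : ZMod 2 × A => pw e u.1 * t u.2) V := by
  have hm : ∀ u, t u ∈ V := fun u => hWV ((h.mem _).mpr ⟨u, rfl⟩)
  refine Cht.of_card (h.toCh.ext (hsq _ he) (fun u => comm_of_sq hsq he (hm u))
    (fun u hu => heW ((h.mem _).mpr ⟨u, hu⟩))) ?_ ?_
  · intro u
    refine V.mul_mem ?_ (hm _)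
    rcases z2 u.1 with h | h
    · rw [h, pw_zero]; exact V.one_mem
    · rw [h, pw_one]; exact he
  · rw [hc, Nat.card_prod]
    simp

/-- The element `g` acts as `F` in the chart `t`. -/
def Act {A : Type} (t : A → X) (g : X) (F : A → A) : Prop := ∀ u, g * t u * g⁻¹ = t (F u)

namespace Act

variable {A : Type} {t : A → X}

theorem mul {g h : X} {F K : A → A} (hg : Act t g F) (hh : Act t h K) :
    Act t (g * h) (fun u => F (K u)) := fun u => by
  rw [← hg, ← hh]; group

theorem inv {g : X} {F K : A → A} (hg : Act t g F) (hK : ∀ u, F (K u) = u) : Act t g⁻¹ K := fun u => by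
  have h1 := hg (K u)
  rw [hK] at h1
  rw [← h1]; group

theorem congr {g : X} {F K : A → A} (hg : Act t g F) (hK : ∀ u, F u = K u) : Act t g K := fun u => by
  rw [hg, hK]

theorem one : Act t 1 (fun u => u) := fun u => by group

theorem uniq [AddCommGroup A] (ht : Ch t) {g : X} {F K : A → A} (hg : Act t g F) (hg' : Act t g K)
    (u : A) : F u = K u := by
  apply ht.injective
  rw [← hg, ← hg']

theorem additive [AddCommGroup A] (ht : Ch t) {g : X} {F : A → A} (hg : Act t g F) (u v : A) :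
    F (u + v) = F u + F v := by
  apply ht.injective
  rw [← hg, ht.add, ht.add, ← hg, ← hg]; group

end Act

theorem exists_F {A : Type} [AddCommGroup A] {t : A → X} {V : Subgroup X} (h : Cht t V)
    (hn : V.Normal) (g : X) : ∃ F : A → A, Act t g F := by
  have h1 : ∀ u, ∃ w, t w = g * t u * g⁻¹ := fun u =>
    (h.mem _).mp (hn.conj_mem _ ((h.mem _).mpr ⟨u, rfl⟩) g)
  choose F hF using h1
  exact ⟨F, fun u => (hF u).symm⟩

/-! ### every automorphism of a group of order 8 is induced -/

def dot3 (r : A3 × A3 × A3) (u : A3) : A3 :=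
  (u.1 * r.1.1 + u.2.1 * r.2.1.1 + u.2.2 * r.2.2.1,
   u.1 * r.1.2.1 + u.2.1 * r.2.1.2.1 + u.2.2 * r.2.2.2.1,
   u.1 * r.1.2.2 + u.2.1 * r.2.1.2.2 + u.2.2 * r.2.2.2.2)

theorem additive3 {F : A3 → A3} (hF : ∀ u v, F (u + v) = F u + F v) (u : A3) :
    F u = dot3 (F (1, 0, 0), F (0, 1, 0), F (0, 0, 1)) u := by
  have h0 : F (0, 0, 0) = (0, 0, 0) := by
    have h1 := hF 0 0
    rw [add_zero] at h1
    exact left_eq_add.mp h1
  obtain ⟨x, y, z⟩ := u
  have h11 : ((1, 1, 0) : A3) = (1, 0, 0) + (0, 1, 0) := by decide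
  have h12 : ((1, 0, 1) : A3) = (1, 0, 0) + (0, 0, 1) := by decide
  have h13 : ((0, 1, 1) : A3) = (0, 1, 0) + (0, 0, 1) := by decide
  have h14 : ((1, 1, 1) : A3) = (1, 0, 0) + (0, 1, 0) + (0, 0, 1) := by decide
  rcases z2 x with rfl | rfl <;> rcases z2 y with rfl | rfl <;> rcases z2 z with rfl | rfl
  · rw [h0]; simp [dot3]
  · simp [dot3]
  · simp [dot3]
  · rw [h13, hF]; simp [dot3]; rfl
  · simp [dot3]
  · rw [h12, hF]; simp [dot3]; rfl
  · rw [h11, hF]; simp [dot3]; rfl
  · rw [h14, hF, hF]; simp [dot3]; rfl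

def Indep (r : A3 × A3 × A3) : Prop := ∀ u : A3, dot3 r u = 0 → u = 0

instance (r : A3 × A3 × A3) : Decidable (Indep r) := by unfold Indep; infer_instance

theorem card_indep : Fintype.card {r : A3 × A3 × A3 // Indep r} = 168 := by decide +kernel

theorem exists_act [Finite X] {V W : Subgroup X} {t : A3 → X} (ht : Cht t W) (hn : W.Normal)
    (hcent : ∀ g : X, (∀ w ∈ W, g * w * g⁻¹ = w) → g ∈ V) (hidx : V.index = 168) {F : A3 → A3}
    (hF : ∀ u v, F (u + v) = F u + F v) (hinj : ∀ u, F u = 0 → u = 0) : ∃ g : X, Act t g F := by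
  choose K hK using fun q : X ⧸ V => exists_F ht hn q.out
  let f : X ⧸ V → {r : A3 × A3 × A3 // Indep r} := fun q =>
    ⟨(K q (1, 0, 0), K q (0, 1, 0), K q (0, 0, 1)), fun u hu => by
      have h1 := additive3 ((hK q).additive ht.toCh) u
      rw [hu] at h1
      have h2 := hK q u
      rw [h1, ht.zero] at h2
      apply ht.inj
      have h3 : t u = q.out⁻¹ * (q.out * t u * q.out⁻¹) * q.out := by group
      rw [h3, h2]; group⟩
  have hfi : Function.Injective f := by
    intro p q hpq
    have h0 := congrArg Subtype.val hpq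
    have h1 : ∀ u, K p u = K q u := fun u => by
      rw [additive3 ((hK p).additive ht.toCh) u, additive3 ((hK q).additive ht.toCh) u]
      exact congrArg (fun r => dot3 r u) h0
    have h2 : p.out⁻¹ * q.out ∈ V := by
      apply hcent
      intro w hw
      obtain ⟨u, rfl⟩ := (ht.mem _).mp hw
      have h3 : p.out⁻¹ * q.out * t u * (p.out⁻¹ * q.out)⁻¹ = p.out⁻¹ * (q.out * t u * q.out⁻¹) * p.out := by
        group
      rw [h3, hK q, ← h1, ← hK p]; group
    rw [← p.out_eq', ← q.out_eq']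
    exact QuotientGroup.eq.mpr h2
  have hb : Function.Bijective f := by
    refine (Nat.bijective_iff_injective_and_card f).2 ⟨hfi, ?_⟩
    rw [Nat.card_eq_fintype_card (α := {r : A3 × A3 × A3 // Indep r}), card_indep]
    exact hidx
  have hr : Indep (F (1, 0, 0), F (0, 1, 0), F (0, 0, 1)) := fun u hu => by
    rw [← additive3 hF] at hu
    exact hinj u hu
  obtain ⟨q, hq⟩ := hb.2 ⟨_, hr⟩
  refine ⟨q.out, (hK q).congr fun u => ?_⟩
  rw [additive3 ((hK q).additive ht.toCh) u, additive3 hF u]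
  exact congrArg (fun r => dot3 r u) (congrArg Subtype.val hq)

end Cfsg.Agent.GH.C2L3
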