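import Cfsg.Agent.GH.C2L3Three

/-!
# GH-C2, `X / V = L₃(2)`, `|V| = 16`: actions in coordinates, the two cohomology computations
-/

set_option autoImplicit false

namespace Cfsg.Agent.GH.C2L3

open Subgroup Cfsg.Agent.GH.Pc Cfsg.Agent.GH.PcTypes Cfsg.Agent.GH.C2Syl

def sm (x : ZMod 2) (m : A3) : A3 := (x * m.1, x * m.2.1, x * m.2.2)

/-- `v ↦ v m` -/
def E (m : A3) (F : A3 → A3) (u : A4) : A4 := (u.1, sm u.1 m + F u.2)

set_option synthInstance.maxHeartbeats 2000000 in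
set_option synthInstance.maxSize 4096 in
/-- the standard action in case (3/1) -/
theorem coh31 : ∀ mr : A3, E mr Three.Fr (E mr Three.Fr (E mr Three.Fr (1, 0))) = (1, 0) →
    ∀ ma : A3, E ma Three.Fa (E ma Three.Fa (1, 0)) = (1, 0) →
    E ma Three.Fa (E mr Three.Fr (E ma Three.Fa (E mr Three.Fr (E ma Three.Fa
      (E mr Three.Fr (1, 0)))))) = (1, 0) →
    ∀ ms : A3, E ms Three.Fs (E ms Three.Fs (1, 0)) = (1, 0) →
    E ms Three.Fs (E mr Three.Fr (E ms Three.Fs (E mr Three.Fr (1, 0)))) = (1, 0) →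
    E ms Three.Fs (E ma Three.Fa (1, 0)) = E ma Three.Fa (E ms Three.Fs (1, 0)) →
    ∃ n : A3, E mr Three.Fr (1, n) = (1, n) ∧
      ((E ma Three.Fa (1, n) = (1, n) ∧ E ms Three.Fs (1, n) = (1, n)) ∨
       (E ma Three.Fa (1, n) = (1, n + (0, 0, 1)) ∧ E ms Three.Fs (1, n) = (1, n + (1, 0, 0)))) := by
  decide +kernel

/-- the projection -/
def pr (u : A4) : A3 := (u.1, u.2.1, u.2.2.1)

def dt (l u : A3) : ZMod 2 := l.1 * u.1 + (l.2.1 * u.2.1 + l.2.2 * u.2.2)

/-- `F` on the quotient -/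
def D (l : A3) (F : A3 → A3) (u : A4) : A4 :=
  ((F (pr u)).1, (F (pr u)).2.1, (F (pr u)).2.2, u.2.2.2 + dt l (pr u))

/-- change of the chart -/
def M (μ : A3) (u : A4) : A4 := (u.1, u.2.1, u.2.2.1, u.2.2.2 + dt μ (pr u))

namespace One

def Fa (u : A3) : A3 := (u.1 + u.2.2, u.2.1, u.2.2)

theorem good : Good Three.Fr Fa Three.Fs where
  r3 := by decide
  a2 := by decide
  s2 := by decide
  ba := by decide
  sa := by decide
  sb := by decide
  free := by decide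

end One

set_option synthInstance.maxHeartbeats 2000000 in
set_option synthInstance.maxSize 4096 in
/-- the standard action in case (1 \ 3) -/
theorem coh13 : ∀ lr : A3, (∀ u, D lr Three.Fr (D lr Three.Fr (D lr Three.Fr u)) = u) →
    ∀ la : A3, (∀ u, D la One.Fa (D la One.Fa u) = u) →
    (∀ u, D la One.Fa (D lr Three.Fr (D la One.Fa (D lr Three.Fr (D la One.Fa
      (D lr Three.Fr u))))) = u) →
    ∀ ls : A3, (∀ u, D ls Three.Fs (D ls Three.Fs u) = u) →
    (∀ u, D ls Three.Fs (D lr Three.Fr (D ls Three.Fs (D lr Three.Fr u))) = u) →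
    (∀ u, D ls Three.Fs (D la One.Fa u) = D la One.Fa (D ls Three.Fs u)) →
    ∃ μ : A3, (∀ u, D lr Three.Fr (M μ u) = M μ (D 0 Three.Fr u)) ∧
      ((∀ u, D la One.Fa (M μ u) = M μ (D 0 One.Fa u)) ∧
          (∀ u, D ls Three.Fs (M μ u) = M μ (D 0 Three.Fs u)) ∨
       (∀ u, D la One.Fa (M μ u) = M μ (D (0, 1, 0) One.Fa u)) ∧
          (∀ u, D ls Three.Fs (M μ u) = M μ (D (1, 0, 0) Three.Fs u))) := by
  decide +kernel

end Cfsg.Agent.GH.C2L3
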