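import Cfsg.Agent.GH.C2Syl

/-!
# GH-C2, `X / V = L₃(2)`: the hypotheses (interface) for the Sylow 2-subgroups
-/

set_option autoImplicit false

namespace Cfsg.Agent.GH.C2L3

open Subgroup Cfsg.Agent.GH.Pc Cfsg.Agent.GH.PcTypes Cfsg.Agent.GH.C2Syl

variable {X : Type*} [Group X]

/-- `V` is elementary of order 8, self-centralising, `|X / V| = 168`. -/
structure Mod3 (V : Subgroup X) : Prop where
  el : El V
  card : Nat.card V = 8
  cent : ∀ g : X, (∀ v ∈ V, g * v * g⁻¹ = v) → g ∈ V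
  index : V.index = 168

/-- `V` is elementary of order 16 with an invariant subgroup `W` of order 8 on which `X / V` is faithful,
and no fixed vector outside `W`. -/
structure Mod31 (V W : Subgroup X) : Prop where
  el : El V
  card : Nat.card V = 16
  Wn : W.Normal
  WV : W ≤ V
  cardW : Nat.card W = 8
  cent : ∀ g : X, (∀ w ∈ W, g * w * g⁻¹ = w) → g ∈ V
  index : V.index = 168
  nofix : ∀ v ∈ V, (∀ g : X, g * v * g⁻¹ = v) → v ∈ W

/-- `V` is elementary of order 16 with a fixed vector `v₀ ≠ 1`, `X / V` is faithful on `V / ⟨v₀⟩`, and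
there is no invariant complement. -/
structure Mod13 (V : Subgroup X) (v₀ : X) : Prop where
  el : El V
  card : Nat.card V = 16
  mem : v₀ ∈ V
  ne : v₀ ≠ 1
  fix : ∀ g : X, g * v₀ * g⁻¹ = v₀
  cent : ∀ g : X, (∀ v ∈ V, g * v * g⁻¹ = v ∨ g * v * g⁻¹ = v * v₀) → g ∈ V
  index : V.index = 168
  nocomp : ∀ W : Subgroup X, W.Normal → W ≤ V → Nat.card W = 8 → v₀ ∈ W

/-- The exceptional nonsplit situation. -/
structure IsX1 (T V W : Subgroup X) : Prop where
  uniq : ∀ A : Subgroup X, A ≤ T → Nat.card A = 16 → (∀ g ∈ A, g * g = 1) → A = V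
  exists_T0 : ∃ T₀ : Subgroup X, T₀ ≤ T ∧ Nat.card T₀ = 64 ∧ T₀ ⊓ V = W

end Cfsg.Agent.GH.C2L3
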