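import Cfsg.Agent.GH.C2L3Coh

/-!
# GH-C2, `X / V = L₃(2)`, `|V| = 16`: the Sylow 2-subgroup `M22T`, and the exceptional case
-/

set_option autoImplicit false

namespace Cfsg.Agent.GH.C2L3

open Subgroup Cfsg.Agent.GH.Pc Cfsg.Agent.GH.PcTypes Cfsg.Agent.GH.C2Syl

variable {X : Type*} [Group X] {V T : Subgroup X}

/-- The maps for `NatF`. -/
structure NatD (Fa Fb Fs : A4 → A4) : Prop where
  fb : ∀ u, Fb u = u ↔ Fa u = u
  fc : ∀ u, Fa (Fb u) = u ↔ Fa u = u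
  ca : ∀ u, Fa (Fa u + u) = Fa u + u
  cb : ∀ u, Fa (Fb u + u) = Fb u + u
  sur : ∀ u, Fa u = u → ∃ m, Fa m + m = u
  tU : ∀ u, Fa u = u → Fa (Fs u) = Fs u
  ht : ∃ u, Fa u = u ∧ Fs u ≠ u
  card : Nat.card {u : A4 // Fa u = u} = 4

theorem mem_U {t : A4 → X} (ht : Cht t V) {a : X} {Fa : A4 → A4} (ha : Act t a Fa) (u : A4) :
    t u ∈ V ⊓ centralizer {a} ↔ Fa u = u := by
  rw [mem_inf, mem_centralizer_singleton_iff]
  constructor
  · rintro ⟨-, h1⟩
    apply ht.injective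
    rw [← ha, ← h1]; group
  · intro h1
    refine ⟨(ht.mem _).mpr ⟨u, rfl⟩, ?_⟩
    have h2 := ha u
    rw [h1, mul_inv_eq_iff_eq_mul] at h2
    exact h2.symm

theorem card_U {t : A4 → X} (ht : Cht t V) {a : X} {Fa : A4 → A4} (ha : Act t a Fa) :
    Nat.card (V ⊓ centralizer {a} : Subgroup X) = Nat.card {u : A4 // Fa u = u} := by
  symm
  refine Nat.card_eq_of_bijective (fun u => ⟨t u.1, (mem_U ht ha _).mpr u.2⟩) ⟨?_, ?_⟩
  · intro u v huv
    exact Subtype.ext (ht.injective (congrArg Subtype.val huv))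
  · rintro ⟨x, hx⟩
    obtain ⟨u, rfl⟩ := (ht.mem x).mp hx.1
    exact ⟨⟨u, (mem_U ht ha u).mp hx⟩, rfl⟩

theorem char2'' : ∀ u : A4, u + u = 0 := by decide

theorem cm_t {t : A4 → X} (ht : Cht t V) {g : X} {F : A4 → A4} (hg : Act t g F) (u : A4) :
    g * t u * g⁻¹ * (t u)⁻¹ = t (F u + u) := by
  rw [hg, ht.add, ← ht.neg]
  congr 2
  rw [neg_eq_iff_add_eq_zero]
  exact char2'' u

/-- The standard generators with `a b c = 1` give the type `M22T`. -/
theorem isType_M22T_of (hV : El V) {t : A4 → X} (ht : Cht t V) {Fr Fa Fs Fb : A4 → A4} {r a s : X}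
    (h : Std t Fr Fa Fs r a s) (hb : Act t (r * a * r⁻¹) Fb) (hN : NatD Fa Fb Fs)
    (hw : a * (r * a * r⁻¹) * (r * (r * a * r⁻¹) * r⁻¹) = 1)
    (hT : Nat.card T = 128) (hVT : V ≤ T) (haT : a ∈ T) (hbT : r * a * r⁻¹ ∈ T) (hsT : s ∈ T)
    (hcov : ∀ g ∈ T, ∃ α β γ, (pw s γ * pw (r * a * r⁻¹) β * pw a α)⁻¹ * g ∈ V) :
    IsType M22T T := by
  have hsb := h.sb
  have hbb := h.bb
  have hcc : (r * (r * a * r⁻¹) * r⁻¹) * (r * (r * a * r⁻¹) * r⁻¹) = 1 := by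
    have h6 : (r * (r * a * r⁻¹) * r⁻¹) * (r * (r * a * r⁻¹) * r⁻¹) =
      r * ((r * a * r⁻¹) * (r * a * r⁻¹)) * r⁻¹ := by group
    rw [h6, hbb]; group
  generalize r * a * r⁻¹ = b at *
  generalize r * b * r⁻¹ = c at *
  have haa := h.aa
  have hss := h.ss
  have ha := h.a1
  have hs := h.s1
  have hai : a⁻¹ = a := inv_eq_of_mul_eq_one_left haa
  have hbi : b⁻¹ = b := inv_eq_of_mul_eq_one_left hbb
  have hci : c⁻¹ = c := inv_eq_of_mul_eq_one_left hcc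
  have hc : c = a * b := by
    rw [← hci]
    exact (eq_inv_of_mul_eq_one_left hw).symm
  have hab : a * b = b * a := by
    have h1 : (a * b)⁻¹ = a * b := by rw [← hc, hci]
    rw [mul_inv_rev, hai, hbi] at h1
    exact h1.symm
  have hsb' : s * b = a * b * s := by rw [← hc, ← hsb]; group
  have hsa' : s * a = a * s := by
    have h1 := h.sa
    rw [mul_inv_eq_iff_eq_mul] at h1
    exact h1
  have hU : ∀ {g : X} {F : A4 → A4}, Act t g F → (∀ u, F u = u ↔ Fa u = u) →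
      ∀ v ∈ V, g * v * g⁻¹ = v ↔ v ∈ V ⊓ centralizer {a} := by
    intro g F hg hF v hv
    obtain ⟨u, rfl⟩ := (ht.mem v).mp hv
    rw [mem_U ht ha, hg, ← hF]
    exact ⟨fun h1 => ht.injective h1, fun h1 => by rw [h1]⟩
  have hcm : ∀ {g : X} {F : A4 → A4}, Act t g F → (∀ u, Fa (F u + u) = F u + u) →
      ∀ v ∈ V, g * v * g⁻¹ * v⁻¹ ∈ V ⊓ centralizer {a} := by
    intro g F hg hF v hv
    obtain ⟨u, rfl⟩ := (ht.mem v).mp hv
    rw [cm_t ht hg, mem_U ht ha]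
    exact hF u
  have hNF : NatF V (V ⊓ centralizer {a}) a b :=
    { le := inf_le_left
      card := by rw [card_U ht ha, hN.card]
      fa := hU ha (fun u => Iff.rfl)
      fb := hU hb hN.fb
      fc := hU (ha.mul hb) hN.fc
      ca := hcm ha hN.ca
      cb := hcm hb hN.cb }
  refine hNF.isType_M22T hV ?_ haa hbb hab hss hsa' hsb' ?_ ?_ hT hVT haT hbT hsT ?_
  · intro x hx
    obtain ⟨u, rfl⟩ := (ht.mem x).mp hx.1
    obtain ⟨m, hm⟩ := hN.sur u ((mem_U ht ha u).mp hx)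
    exact ⟨t m, (ht.mem _).mpr ⟨m, rfl⟩, by rw [cm_t ht ha, hm]⟩
  · intro x hx
    obtain ⟨u, rfl⟩ := (ht.mem x).mp hx.1
    rw [hs, mem_U ht ha]
    exact hN.tU u ((mem_U ht ha u).mp hx)
  · obtain ⟨u, h1, h2⟩ := hN.ht
    refine ⟨t u, (mem_U ht ha u).mpr h1, ?_⟩
    rw [hs]
    exact fun h3 => h2 (ht.injective h3)
  · intro g hg
    obtain ⟨α, β, γ, h1⟩ := hcov g hg
    refine ⟨_, ?_, h1⟩
    have k1 : s ∈ closure ({s, a, b} : Set X) := subset_closure (by simp)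
    have k2 : b ∈ closure ({s, a, b} : Set X) := subset_closure (by simp)
    have k3 : a ∈ closure ({s, a, b} : Set X) := subset_closure (by simp)
    have hp : ∀ {y : X}, y ∈ closure ({s, a, b} : Set X) → ∀ x : ZMod 2,
        pw y x ∈ closure ({s, a, b} : Set X) := by
      intro y hy x
      rcases z2 x with rfl | rfl
      · rw [pw_zero]; exact one_mem _
      · rw [pw_one]; exact hy
    exact mul_mem (mul_mem (hp k1 _) (hp k2 _)) (hp k3 _)

end Cfsg.Agent.GH.C2L3
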