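import Cfsg.Agent.GH.C2L3XOne

/-!
# GH-C2, `X / V = L₃(2)`, `|V| = 16`, `v₀` fixed: the Sylow 2-subgroup is `M22T`
-/

set_option autoImplicit false

namespace Cfsg.Agent.GH.C2L3

open Subgroup Pointwise Cfsg.Agent.GH.Pc Cfsg.Agent.GH.PcTypes Cfsg.Agent.GH.C2Syl

variable {X : Type*} [Group X] {V : Subgroup X} {v₀ : X}

theorem exists_cht4 (hsq : ∀ v ∈ V, v * v = 1) (h16 : Nat.card V = 16) (hv₀ : v₀ ∈ V) (hne : v₀ ≠ 1) :
    ∃ t : A4 → X, Cht t V ∧ t (0, 0, 0, 1) = v₀ := by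
  have cZ : Nat.card (ZMod 2) = 2 := by simp
  have t1 := ch_pw (hsq _ hv₀) hne
  have mp : ∀ {e : X}, e ∈ V → ∀ x : ZMod 2, pw e x ∈ V := by
    intro e he x
    rcases z2 x with rfl | rfl
    · rw [pw_zero]; exact V.one_mem
    · rw [pw_one]; exact he
  obtain ⟨e2, m2, n2⟩ := exists_notMem_range (A := ZMod 2) (t := fun x => pw v₀ x) (V := V)
    (by rw [h16, cZ]; norm_num)
  have t2 := t1.ext (hsq _ m2) (fun u => comm_of_sq hsq m2 (mp hv₀ u)) n2
  have mm2 : ∀ u : ZMod 2 × ZMod 2, pw e2 u.1 * pw v₀ u.2 ∈ V := fun u =>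
    V.mul_mem (mp m2 _) (mp hv₀ _)
  obtain ⟨e3, m3, n3⟩ := exists_notMem_range (A := ZMod 2 × ZMod 2)
    (t := fun u => pw e2 u.1 * pw v₀ u.2) (V := V) (by rw [h16, Nat.card_prod, cZ]; norm_num)
  have t3 := t2.ext (hsq _ m3) (fun u => comm_of_sq hsq m3 (mm2 u)) n3
  have mm3 : ∀ u : A3, pw e3 u.1 * (pw e2 u.2.1 * pw v₀ u.2.2) ∈ V := fun u =>
    V.mul_mem (mp m3 _) (mm2 _)
  obtain ⟨e4, m4, n4⟩ := exists_notMem_range (A := A3)
    (t := fun u => pw e3 u.1 * (pw e2 u.2.1 * pw v₀ u.2.2)) (V := V)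
    (by rw [h16, Nat.card_prod, Nat.card_prod, cZ]; norm_num)
  have t4 := t3.ext (hsq _ m4) (fun u => comm_of_sq hsq m4 (mm3 u)) n4
  refine ⟨_, Cht.of_card t4 (fun u => V.mul_mem (mp m4 _) (mm3 _))
    (by rw [h16, Nat.card_prod, Nat.card_prod, Nat.card_prod, cZ]), ?_⟩
  simp

theorem add4 {f : A4 → ZMod 2} (hf : ∀ u v, f (u + v) = f u + f v) (u : A4) :
    f u = u.1 * f (1, 0, 0, 0) + (u.2.1 * f (0, 1, 0, 0) + (u.2.2.1 * f (0, 0, 1, 0) +
      u.2.2.2 * f (0, 0, 0, 1))) := by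
  have h0 : f (0, 0, 0, 0) = 0 := by
    have h1 := hf 0 0
    rw [add_zero] at h1
    exact left_eq_add.mp h1
  obtain ⟨x, y, z, w⟩ := u
  have h : ((x, y, z, w) : A4) = (x, 0, 0, 0) + ((0, y, 0, 0) + ((0, 0, z, 0) + (0, 0, 0, w))) := by
    simp
  have e1 : f (x, 0, 0, 0) = x * f (1, 0, 0, 0) := by
    rcases z2 x with rfl | rfl <;> simp [h0]
  have e2 : f (0, y, 0, 0) = y * f (0, 1, 0, 0) := by
    rcases z2 y with rfl | rfl <;> simp [h0]
  have e3 : f (0, 0, z, 0) = z * f (0, 0, 1, 0) := by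
    rcases z2 z with rfl | rfl <;> simp [h0]
  have e4 : f (0, 0, 0, w) = w * f (0, 0, 0, 1) := by
    rcases z2 w with rfl | rfl <;> simp [h0]
  rw [h, hf, hf, hf, e1, e2, e3, e4]
  simp

/-- the quotient by the central involution -/
structure Quo (t : A4 → X) (V : Subgroup X) (v₀ : X) {X' : Type*} [Group X'] (π : X →* X') : Prop where
  cht : Cht t V
  e0 : t (0, 0, 0, 1) = v₀
  sur : Function.Surjective π
  ker : ∀ g, π g = 1 ↔ g = 1 ∨ g = v₀

/-- the chart of the quotient -/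
def qt {X' : Type*} [Group X'] (π : X →* X') (t : A4 → X) (u : A3) : X' := π (t (u.1, u.2.1, u.2.2, 0))

namespace Quo

variable {X' : Type*} [Group X'] {π : X →* X'} {t : A4 → X} (h : Quo t V v₀ π)

include h

theorem pi_v0 : π v₀ = 1 := (h.ker _).mpr (Or.inr rfl)

theorem pi_t (u : A4) : π (t u) = qt π t (pr u) := by
  obtain ⟨x, y, z, w⟩ := u
  have e : ((x, y, z, w) : A4) = (x, y, z, 0) + (0, 0, 0, w) := by simp
  rw [e, h.cht.add, map_mul]
  have e1 : π (t (0, 0, 0, w)) = 1 := by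
    rcases z2 w with rfl | rfl
    · have h1 := h.cht.zero
      rw [show (0 : A4) = (0, 0, 0, 0) from rfl] at h1
      rw [h1, map_one]
    · rw [h.e0, h.pi_v0]
  rw [e1, mul_one]
  simp [qt, pr]

theorem qcht : Cht (qt π t) (V.map π) where
  add u v := by
    simp only [qt]
    rw [← map_mul, ← h.cht.add]
    simp
  inj u hu := by
    rcases (h.ker _).mp hu with h1 | h1
    · have h2 := h.cht.inj _ h1
      obtain ⟨x, y, z⟩ := u
      simp only [Prod.mk_eq_zero] at h2 ⊢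
      exact ⟨h2.1, h2.2.1, h2.2.2.1⟩
    · rw [← h.e0] at h1
      have h2 := h.cht.injective h1
      have h3 : (0 : ZMod 2) = 1 := congrArg (fun u : A4 => u.2.2.2) h2
      exact absurd h3 (by decide)
  mem v := by
    constructor
    · rintro ⟨x, hx, rfl⟩
      obtain ⟨u, rfl⟩ := (h.cht.mem x).mp hx
      exact ⟨pr u, (h.pi_t u).symm⟩
    · rintro ⟨u, rfl⟩
      exact ⟨_, (h.cht.mem _).mpr ⟨_, rfl⟩, rfl⟩

/-- lifting an action -/
theorem exists_D (hn : V.Normal) (hfix : ∀ g : X, g * v₀ * g⁻¹ = v₀) {g : X} {F : A3 → A3}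
    (hg : Act (qt π t) (π g) F) : ∃ l : A3, Act t g (D l F) := by
  obtain ⟨K, hK⟩ := exists_F h.cht hn g
  have hadd := hK.additive h.cht.toCh
  have hpr : ∀ u, pr (K u) = F (pr u) := by
    intro u
    apply h.qcht.injective
    rw [← h.pi_t, ← hg, ← h.pi_t, ← hK, map_mul, map_mul, map_inv]
  have hK1 : K (0, 0, 0, 1) = (0, 0, 0, 1) := by
    apply h.cht.injective
    rw [← hK, h.e0, hfix]
  refine ⟨((K (1, 0, 0, 0)).2.2.2, (K (0, 1, 0, 0)).2.2.2, (K (0, 0, 1, 0)).2.2.2), hK.congr ?_⟩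
  intro u
  have h1 := add4 (f := fun u => (K u).2.2.2) (fun u v => by rw [hadd]; rfl) u
  simp only [hK1] at h1
  have h2 := hpr u
  refine Prod.ext ?_ (Prod.ext ?_ (Prod.ext ?_ ?_))
  · exact congrArg (fun v : A3 => v.1) h2
  · exact congrArg (fun v : A3 => v.2.1) h2
  · exact congrArg (fun v : A3 => v.2.2) h2
  · rw [h1]
    simp only [D, dt, pr]
    ring

end Quo

/-- the quotient data exist -/
theorem Mod13.exists_quo (h : Mod13 V v₀) :
    ∃ (t : A4 → X) (Z : Subgroup X) (_ : Z.Normal), Quo t V v₀ (QuotientGroup.mk' Z) := by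
  obtain ⟨t, ht, h0⟩ := exists_cht4 h.el.sq h.card h.mem h.ne
  have hsq := h.el.sq _ h.mem
  let Z : Subgroup X :=
    { carrier := {1, v₀}
      one_mem' := Or.inl rfl
      mul_mem' := by
        rintro x y (rfl | rfl) (rfl | rfl)
        · left; rw [mul_one]
        · right; rw [one_mul]; rfl
        · right; rw [mul_one]; rfl
        · left; exact hsq
      inv_mem' := by
        rintro x (rfl | rfl)
        · left; rw [inv_one]
        · right; exact inv_eq_of_mul_eq_one_left hsq }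
  have hZ : Z.Normal := ⟨by
    rintro x (rfl | rfl) g
    · left; group
    · right; exact h.fix g⟩
  refine ⟨t, Z, hZ, ht, h0, QuotientGroup.mk'_surjective Z, fun g => ?_⟩
  rw [QuotientGroup.mk'_apply, QuotientGroup.eq_one_iff]
  rfl

namespace OneThree

def Fr := D 0 Three.Fr
def Fa := D (0, 1, 0) One.Fa
def Fs := D (1, 0, 0) Three.Fs
def Fb (u : A4) : A4 := Fr (Fa (Fr (Fr u)))

set_option synthInstance.maxHeartbeats 2000000 in
set_option synthInstance.maxSize 4096 in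
theorem natD : NatD Fa Fb Fs where
  fb := by decide +kernel
  fc := by decide +kernel
  ca := by decide +kernel
  cb := by decide +kernel
  sur := by decide +kernel
  tU := by decide +kernel
  ht := by decide +kernel
  card := by
    rw [Nat.card_eq_fintype_card]
    decide +kernel

set_option synthInstance.maxHeartbeats 2000000 in
set_option synthInstance.maxSize 4096 in
theorem key1 : ∀ u, Fr u = Fa u → Fs u = Fa u → u = 0 ∨ u = (0, 0, 0, 1) := by decide +kernel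

set_option synthInstance.maxHeartbeats 2000000 in
set_option synthInstance.maxSize 4096 in
theorem key2 : ∀ u, Fa u = u → ∃ m, m + Fa m + u = 0 := by decide +kernel

set_option synthInstance.maxHeartbeats 2000000 in
set_option synthInstance.maxSize 4096 in
theorem key3 : ∀ u, Fr u = u → Fs u = u → ∃ m, Fr m = m ∧ m + Fs m + u = 0 := by decide +kernel

set_option synthInstance.maxHeartbeats 2000000 in
set_option synthInstance.maxSize 4096 in
theorem key4 : ∀ u, u + Fa u = 0 → Fs u = u → ∃ m, m + Fa m = 0 ∧ m + Fs m + u = 0 := by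
  decide +kernel

end OneThree

/-- No functional nontrivial on `v₀` is invariant under a subgroup of odd index. -/
theorem Mod13.no_comp [Finite X] (h : Mod13 V v₀) {T : Subgroup X} (hT : T.index = 21)
    {t : A4 → X} (ht : Cht t V) (h0 : t (0, 0, 0, 1) = v₀)
    (hfix : ∀ g ∈ T, ∃ K : A4 → A4, Act t g K ∧ ∀ u, (K u).2.2.2 = u.2.2.2) : False := by
  choose K hK using fun g : X => exists_F ht h.el.normal g
  have hfin : Fintype (X ⧸ T) := Fintype.ofFinite _
  have hadd : ∀ g u v, K g (u + v) = K g u + K g v := fun g => (hK g).additive ht.toCh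
  have hmulK : ∀ (g k : X) (u : A4), K (g * k) u = K g (K k u) := fun g k m =>
    (hK (g * k)).uniq ht.toCh ((hK g).mul (hK k)) m
  have hK1 : ∀ g, K g (0, 0, 0, 1) = (0, 0, 0, 1) := fun g => by
    apply ht.injective
    rw [← hK, h0, h.fix]
  have hK0 : ∀ u, K 1 u = u := fun u => (hK 1).uniq ht.toCh Act.one u
  let ρ : X → (A4 → ZMod 2) → (A4 → ZMod 2) := fun g f u => f (K g⁻¹ u)
  let m₀ : A4 → ZMod 2 := fun u => u.2.2.2
  have hT' : ∀ g ∈ T, ρ g m₀ = m₀ := by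
    intro g hg
    obtain ⟨F, hF, hF'⟩ := hfix g⁻¹ (T.inv_mem hg)
    funext u
    show (K g⁻¹ u).2.2.2 = u.2.2.2
    rw [(hK g⁻¹).uniq ht.toCh hF u, hF']
  have key := avg ρ (fun g m n => rfl) (fun g k m => by
    funext u
    show m (K (g * k)⁻¹ u) = m (K k⁻¹ (K g⁻¹ u))
    rw [mul_inv_rev, hmulK]) T m₀ hT'
  set n : A4 → ZMod 2 := ∑ q : X ⧸ T, ρ q.out m₀ with hn
  have hnu : ∀ u, n u = ∑ q : X ⧸ T, (K q.out⁻¹ u).2.2.2 := fun u => by
    rw [hn, Finset.sum_apply]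
  have hnadd : ∀ u v, n (u + v) = n u + n v := by
    intro u v
    rw [hnu, hnu, hnu, ← Finset.sum_add_distrib]
    refine Finset.sum_congr rfl fun q _ => ?_
    rw [hadd]
    rfl
  have hn1 : n (0, 0, 0, 1) = 1 := by
    rw [hnu, Finset.sum_congr rfl (fun q _ => by rw [hK1]), Finset.sum_const, Finset.card_univ,
      ← Nat.card_eq_fintype_card]
    have h3 : Nat.card (X ⧸ T) = 21 := hT
    rw [h3]
    decide
  have hninv : ∀ (g : X) (u : A4), n (K g u) = n u := by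
    intro g u
    have h1 := congrFun (key g⁻¹) u
    have h2 : ρ g⁻¹ n u = n (K g u) := by
      show n (K g⁻¹⁻¹ u) = _
      rw [inv_inv]
    rw [← h2]
    exact h1
  have hn0 : n 0 = 0 := by
    have h1 := hnadd 0 0
    rw [add_zero] at h1
    exact left_eq_add.mp h1
  let W : Subgroup X :=
    { carrier := {x | ∃ u, t u = x ∧ n u = 0}
      one_mem' := ⟨0, ht.zero, hn0⟩
      mul_mem' := by
        rintro x y ⟨u, rfl, hu⟩ ⟨v, rfl, hv⟩
        exact ⟨u + v, ht.add u v, by rw [hnadd, hu, hv, add_zero]⟩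
      inv_mem' := by
        rintro x ⟨u, rfl, hu⟩
        refine ⟨u, ?_, hu⟩
        rw [← ht.neg]
        congr 1
        rw [eq_neg_iff_add_eq_zero]
        exact char2' u }
  have hWn : W.Normal := ⟨by
    rintro x ⟨u, rfl, hu⟩ g
    exact ⟨K g u, (hK g u).symm, by rw [hninv, hu]⟩⟩
  have hWV : W ≤ V := by
    rintro x ⟨u, rfl, -⟩
    exact (ht.mem _).mpr ⟨u, rfl⟩
  have hv₀W : v₀ ∉ W := by
    rintro ⟨u, hu, hu0⟩
    rw [← h0] at hu
    rw [ht.injective hu, hn1] at hu0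
    exact absurd hu0 (by decide)
  obtain ⟨Z, z1, z2', z3, z4⟩ := exists_double (Y := W) (b := v₀)
    (by rw [h.el.sq _ h.mem]; exact W.one_mem) (fun y hy => hWn.conj_mem y hy v₀) hv₀W
  have hZV : Z = V := by
    apply le_antisymm
    · intro g hg
      rcases z4 g hg with h1 | h1
      · exact hWV h1
      · have h2 := V.mul_mem h.mem (hWV h1)
        rwa [mul_inv_cancel_left] at h2
    · intro v hv
      obtain ⟨u, rfl⟩ := (ht.mem v).mp hv
      rcases z2 (n u) with h1 | h1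
      · exact z1 ⟨u, rfl, h1⟩
      · have h2 : t (u + (0, 0, 0, 1)) ∈ W := ⟨_, rfl, by rw [hnadd, h1, hn1]; decide⟩
        rw [ht.add, h0] at h2
        have h3 := Z.mul_mem (z1 h2) (Z.inv_mem z2')
        rwa [mul_inv_cancel_right] at h3
  rw [hZV, h.card] at z3
  exact hv₀W (h.nocomp W hWn hWV (by omega))

theorem M_add : ∀ μ : A3, ∀ u v : A4, M μ (u + v) = M μ u + M μ v := by decide +kernel

theorem M_M : ∀ μ : A3, ∀ u : A4, M μ (M μ u) = u := by decide +kernel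

theorem M_e : ∀ μ : A3, M μ (0, 0, 0, 1) = (0, 0, 0, 1) := by decide

theorem cht_M {t : A4 → X} (ht : Cht t V) (μ : A3) : Cht (fun u => t (M μ u)) V where
  add u v := by rw [M_add, ht.add]
  inj u hu := by
    have h1 := ht.inj _ hu
    have h2 := M_M μ u
    rw [h1] at h2
    rw [← h2]
    have h3 : M μ 0 = 0 := by
      have h4 := M_add μ 0 0
      rw [add_zero] at h4
      exact left_eq_add.mp h4
    exact h3
  mem v := by
    constructor
    · intro hv
      obtain ⟨u, rfl⟩ := (ht.mem v).mp hv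
      exact ⟨M μ u, by rw [M_M]⟩
    · rintro ⟨u, rfl⟩
      exact (ht.mem _).mpr ⟨_, rfl⟩

theorem act_M {t : A4 → X} {g : X} {K F : A4 → A4} {μ : A3} (hg : Act t g K)
    (hKF : ∀ u, K (M μ u) = M μ (F u)) : Act (fun u => t (M μ u)) g F := fun u => by
  show g * t (M μ u) * g⁻¹ = t (M μ (F u))
  rw [hg, hKF]

theorem qt_M {X' : Type*} [Group X'] {π : X →* X'} {t : A4 → X} (h : Quo t V v₀ π) (μ : A3) :
    Quo (fun u => t (M μ u)) V v₀ π ∧ qt π (fun u => t (M μ u)) = qt π t := by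
  refine ⟨⟨cht_M h.cht μ, by rw [M_e, h.e0], h.sur, h.ker⟩, ?_⟩
  funext u
  show π (t (M μ _)) = _
  rw [h.pi_t]
  congr 1

set_option synthInstance.maxHeartbeats 2000000 in
set_option synthInstance.maxSize 4096 in
theorem last0 : ∀ (α β γ : ZMod 2) (u : A4), (pf (D 0 Three.Fs) γ
    (pf (fun u => D 0 Three.Fr (D 0 One.Fa (D 0 Three.Fr (D 0 Three.Fr u)))) β
      (pf (D 0 One.Fa) α u))).2.2.2 = u.2.2.2 := by decide +kernel

theorem D0_r3 : ∀ u, D 0 Three.Fr (D 0 Three.Fr (D 0 Three.Fr u)) = u := by decide +kernel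

/-- The raw generators in case (1 \ 3). -/
theorem Mod13.exists_raw [Finite X] (h : Mod13 V v₀) :
    ∃ (t : A4 → X) (Z : Subgroup X) (_ : Z.Normal) (r a s : X), Quo t V v₀ (QuotientGroup.mk' Z) ∧
      (∀ g, Act (qt (QuotientGroup.mk' Z) t) (QuotientGroup.mk' Z g) (fun u => u) → g ∈ V) ∧
      Act (qt (QuotientGroup.mk' Z) t) (QuotientGroup.mk' Z r) Three.Fr ∧
      Act (qt (QuotientGroup.mk' Z) t) (QuotientGroup.mk' Z a) One.Fa ∧
      Act (qt (QuotientGroup.mk' Z) t) (QuotientGroup.mk' Z s) Three.Fs ∧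
      Act t r OneThree.Fr ∧ Act t a OneThree.Fa ∧ Act t s OneThree.Fs := by
  obtain ⟨t, Z, hZ, hQ⟩ := h.exists_quo
  have hπ : ∃ π : X →* X ⧸ Z, π = QuotientGroup.mk' Z := ⟨_, rfl⟩
  obtain ⟨π, hπe⟩ := hπ
  rw [← hπe] at hQ
  have hVn' : (V.map π).Normal := h.el.normal.map π hQ.sur
  have hc : ∀ g, Act (qt π t) (π g) (fun u => u) → g ∈ V := by
    intro g hg
    apply h.cent
    intro v hv
    obtain ⟨u, rfl⟩ := (hQ.cht.mem v).mp hv
    have h1 := hg (pr u)
    rw [← hQ.pi_t, ← map_mul, ← map_inv, ← map_mul] at h1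
    have h2 : π ((t u)⁻¹ * (g * t u * g⁻¹)) = 1 := by rw [map_mul, h1, map_inv, inv_mul_cancel]
    rcases (hQ.ker _).mp h2 with h3 | h3
    · left
      exact (inv_mul_eq_one.mp h3).symm
    · right
      rw [← h3]; group
  have hcent : ∀ g : X ⧸ Z, (∀ w ∈ V.map π, g * w * g⁻¹ = w) → g ∈ V.map π := by
    intro g hg
    obtain ⟨g, rfl⟩ := hQ.sur g
    refine ⟨g, hc g fun u => ?_, rfl⟩
    exact hg _ ((hQ.qcht.mem _).mpr ⟨u, rfl⟩)
  have hidx : (V.map π).index = 168 := by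
    rw [Subgroup.index_map_eq _ hQ.sur, h.index]
    intro g hg
    rcases (hQ.ker g).mp hg with h1 | h1
    · rw [h1]; exact V.one_mem
    · rw [h1]; exact h.mem
  have ex : ∀ {F : A3 → A3}, (∀ u v, F (u + v) = F u + F v) → (∀ u, F u = 0 → u = 0) →
      ∃ g : X, Act (qt π t) (π g) F := by
    intro F hF hi
    obtain ⟨g, hg⟩ := exists_act hQ.qcht hVn' hcent hidx hF hi
    obtain ⟨g, rfl⟩ := hQ.sur g
    exact ⟨g, hg⟩
  obtain ⟨r, hr⟩ := ex (F := Three.Fr) (by decide) (by decide)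
  obtain ⟨a, ha⟩ := ex (F := One.Fa) (by decide) (by decide)
  obtain ⟨s, hs⟩ := ex (F := Three.Fs) (by decide) (by decide)
  obtain ⟨lr, hr4⟩ := hQ.exists_D h.el.normal h.fix hr
  obtain ⟨la, ha4⟩ := hQ.exists_D h.el.normal h.fix ha
  obtain ⟨ls, hs4⟩ := hQ.exists_D h.el.normal h.fix hs
  have key : ∀ {g : X} {F : A3 → A3} {F' : A4 → A4}, Act (qt π t) (π g) F → (∀ u, F u = u) →
      Act t g F' → ∀ u, F' u = u := by
    intro g F F' h1 h2 h3 u
    exact h3.uniq hQ.cht.toCh (act_V hQ.cht (hc g (h1.congr h2))) u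
  have pm : ∀ {g k : X} {F K : A3 → A3}, Act (qt π t) (π g) F → Act (qt π t) (π k) K →
      Act (qt π t) (π (g * k)) (fun u => F (K u)) := by
    intro g k F K h1 h2
    rw [map_mul]
    exact h1.mul h2
  have pin : ∀ {g : X} {F K : A3 → A3}, Act (qt π t) (π g) F → (∀ u, F (K u) = u) →
      Act (qt π t) (π g⁻¹) K := by
    intro g F K h1 h2
    rw [map_inv]
    exact h1.inv h2
  have eaa := key (pm ha ha) (by decide) (ha4.mul ha4)
  have ess := key (pm hs hs) (by decide) (hs4.mul hs4)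
  have hai := pin (K := One.Fa) ha (by decide)
  have hsi := pin (K := Three.Fs) hs (by decide)
  have hai4 := ha4.inv eaa
  have hsi4 := hs4.inv ess
  have err := key (pm hr (pm hr hr)) (by decide) (hr4.mul (hr4.mul hr4))
  have ear := key (pm ha (pm hr (pm ha (pm hr (pm ha hr))))) (by decide)
    (ha4.mul (hr4.mul (ha4.mul (hr4.mul (ha4.mul hr4)))))
  have esr := key (pm hs (pm hr (pm hs hr))) (by decide) (hs4.mul (hr4.mul (hs4.mul hr4)))
  have esa := key (pm hs (pm ha (pm hsi hai))) (by decide) (hs4.mul (ha4.mul (hsi4.mul hai4)))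
  have esa' : ∀ u, D ls Three.Fs (D la One.Fa u) = D la One.Fa (D ls Three.Fs u) := by
    intro u
    have h1 := esa (D la One.Fa (D ls Three.Fs u))
    simp only [eaa, ess] at h1
    exact h1
  obtain ⟨μ, m1, m2⟩ := coh13 lr err la eaa ear ls ess esr esa'
  obtain ⟨hQ', hqt⟩ := qt_M hQ μ
  have hr5 := act_M hr4 m1
  rcases m2 with ⟨m2, m3⟩ | ⟨m2, m3⟩
  · exfalso
    have ha5 := act_M ha4 m2
    have hs5 := act_M hs4 m3
    rw [← hqt] at hr ha hs hc
    generalize (fun u => t (M μ u)) = t' at *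
    obtain ⟨⟨T₁, t1, t2, t3, t4, t5, t6⟩, -⟩ := exists_T1_act π hQ'.qcht.toCh h.el.normal
      (fun g => ⟨hc g, fun hg u => by
        have h5 := act_V hQ'.cht hg (u.1, u.2.1, u.2.2, 0)
        show π g * π (t' (u.1, u.2.1, u.2.2, 0)) * (π g)⁻¹ = π (t' (u.1, u.2.1, u.2.2, 0))
        rw [← map_mul, ← map_inv, ← map_mul, h5]⟩) One.good hr ha hs
    refine h.no_comp (index_of_card h.index t1) hQ'.cht hQ'.e0 ?_
    intro g hg
    obtain ⟨α, β, γ, h5⟩ := t6 g hg
    have hb5 := (hr5.mul ha5).mul (hr5.inv (K := fun u => D 0 Three.Fr (D 0 Three.Fr u)) D0_r3)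
    have h6 := (((act_pw hs5 γ).mul (act_pw hb5 β)).mul (act_pw ha5 α)).mul (act_V hQ'.cht h5)
    rw [mul_inv_cancel_left] at h6
    exact ⟨_, h6, fun u => last0 α β γ u⟩
  · subst hπe
    refine ⟨_, Z, hZ, r, a, s, hQ', ?_, ?_, ?_, ?_, hr5, act_M ha4 m2, act_M hs4 m3⟩
    · rw [hqt]; exact hc
    · rw [hqt]; exact hr
    · rw [hqt]; exact ha
    · rw [hqt]; exact hs

theorem OneThree.r3 : ∀ u, OneThree.Fr (OneThree.Fr (OneThree.Fr u)) = u := by decide +kernel
theorem OneThree.a2 : ∀ u, OneThree.Fa (OneThree.Fa u) = u := by decide +kernel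
theorem OneThree.s2 : ∀ u, OneThree.Fs (OneThree.Fs u) = u := by decide +kernel
theorem OneThree.sr : ∀ u, OneThree.Fs (OneThree.Fr (OneThree.Fs u)) = OneThree.Fr (OneThree.Fr u) := by
  decide +kernel
theorem OneThree.sa : ∀ u, OneThree.Fs (OneThree.Fa (OneThree.Fs u)) = OneThree.Fa u := by
  decide +kernel
theorem OneThree.ar : ∀ u, OneThree.Fa (OneThree.Fr (OneThree.Fa (OneThree.Fr (OneThree.Fa
    (OneThree.Fr u))))) = u := by decide +kernel

/-- **Case (1 \ 3)**: the Sylow 2-subgroup has type `M22T`. -/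
theorem Mod13.isType [Finite X] (h : Mod13 V v₀) (T : Sylow 2 X) : IsType M22T T := by
  obtain ⟨t, Z, hZ, r₀, a₀, s₀, hQ, hc', qr, qa, qs, hr₀, ha₀, hs₀⟩ := h.exists_raw
  have ht := hQ.cht
  have hπV : ∀ g, g ∈ V → Act (qt (QuotientGroup.mk' Z) t) (QuotientGroup.mk' Z g) (fun u => u) := by
    intro g hg u
    have h5 := act_V ht hg (u.1, u.2.1, u.2.2, 0)
    show QuotientGroup.mk' Z g * QuotientGroup.mk' Z (t (u.1, u.2.1, u.2.2, 0)) *
      (QuotientGroup.mk' Z g)⁻¹ = QuotientGroup.mk' Z (t (u.1, u.2.1, u.2.2, 0))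
    rw [← map_mul, ← map_inv, ← map_mul, h5]
  have hc : ∀ g, Act t g (fun u => u) → g ∈ V := fun g hg => h.cent g fun v hv => by
    obtain ⟨u, rfl⟩ := (ht.mem v).mp hv
    exact Or.inl (hg u)
  obtain ⟨r, hrrr, hr⟩ := exists_order_three ht char2' hc OneThree.r3 hr₀
  obtain ⟨u, hu⟩ := exists_t ht hc (ha₀.mul ha₀) OneThree.a2
  have hfix : OneThree.Fa u = u := by
    apply ht.injective
    rw [← ha₀, hu]; group
  obtain ⟨m, hm⟩ := OneThree.key2 u hfix
  have ha₁ : (t m * a₀) * (t m * a₀) = 1 := by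
    rw [sq_mul ht ha₀ hu.symm, hm, ht.zero]
  have ha₂ : Act t (t m * a₀) OneThree.Fa := act_mul_t ht ha₀ m
  obtain ⟨s₁, hs₁, hs₁'⟩ := exists_inverting ht char2' hc OneThree.r3 OneThree.s2 OneThree.sr hrrr hr
    hs₀
  obtain ⟨s, hss, hsr, hs⟩ := exists_s ht hc OneThree.s2 hr hs₁' hs₁
    (fun u _ h2 h3 => OneThree.key3 u h2 h3)
  obtain ⟨a, haa, hsa, ha⟩ := exists_a ht hc OneThree.s2 OneThree.sa ha₂ hs ha₁ hss char2'
    OneThree.key4
  have hS : Std t OneThree.Fr OneThree.Fa OneThree.Fs r a s := ⟨hr, ha, hs, hrrr, haa, hss, hsr, hsa⟩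
  -- replace `a` by `v₀ a` if necessary
  have hcen : ∀ g : X, g * v₀ = v₀ * g := fun g => by
    have h1 := h.fix g
    rw [mul_inv_eq_iff_eq_mul] at h1
    exact h1
  have hv2 := h.el.sq _ h.mem
  obtain ⟨a, hS, hw⟩ : ∃ a, Std t OneThree.Fr OneThree.Fa OneThree.Fs r a s ∧
      a * (r * a * r⁻¹) * (r * (r * a * r⁻¹) * r⁻¹) = 1 := by
    obtain ⟨u, hu, hu1, hu2⟩ := hS.exists_w ht hc char2' OneThree.ar
    rcases OneThree.key1 u hu1 hu2 with rfl | rfl
    · exact ⟨a, hS, by rw [hu, ht.zero]⟩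
    · rw [hQ.e0] at hu
      have e1 : ∀ g y : X, g * (v₀ * y) * g⁻¹ = v₀ * (g * y * g⁻¹) := fun g y => by
        rw [← mul_assoc, hcen]; group
      refine ⟨v₀ * a, ⟨hr, ?_, hs, hrrr, ?_, hss, hsr, ?_⟩, ?_⟩
      · exact (act_V ht h.mem).mul ha
      · have h1 : v₀ * a * (v₀ * a) = v₀ * (a * v₀) * a := by group
        rw [h1, hcen, ← mul_assoc, hv2, one_mul, haa]
      · rw [e1, hsa]
      · rw [e1, e1]
        generalize r * a * r⁻¹ = b at *
        generalize r * b * r⁻¹ = c at *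
        have h1 : v₀ * a * (v₀ * b) * (v₀ * c) = v₀ * (a * v₀) * (b * v₀) * c := by group
        rw [h1, hcen, hcen]
        have h2 : v₀ * (v₀ * a) * (v₀ * b) * c = (v₀ * v₀) * (a * v₀) * b * c := by group
        rw [h2, hv2, one_mul, hcen]
        have h3 : v₀ * a * b * c = v₀ * (a * b * c) := by group
        rw [h3, hu, hv2]
  have hri : ∀ u, OneThree.Fr (OneThree.Fr (OneThree.Fr u)) = u := OneThree.r3
  have hb : Act t (r * a * r⁻¹) OneThree.Fb :=
    (hS.r1.mul hS.a1).mul (hS.r1.inv (K := fun u => OneThree.Fr (OneThree.Fr u)) hri)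
  -- the actions on the quotient
  have q1 : ∀ {g k : X} {F : A4 → A4} {F' : A3 → A3}, Act t g F → Act t k F →
      Act (qt (QuotientGroup.mk' Z) t) (QuotientGroup.mk' Z k) F' →
      Act (qt (QuotientGroup.mk' Z) t) (QuotientGroup.mk' Z g) F' := by
    intro g k F F' h1 h2 h3
    obtain ⟨m, hm⟩ := exists_t_of_eq ht hc h1 h2
    rw [hm, map_mul]
    exact (hπV _ ((ht.mem _).mpr ⟨m, rfl⟩)).mul h3
  obtain ⟨⟨T₁, t1, t2, t3, t4, t5, t6⟩, -⟩ := exists_T1_act (QuotientGroup.mk' Z) hQ.qcht.toCh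
    h.el.normal (fun g => ⟨hc' g, hπV g⟩) One.good (q1 hS.r1 hr₀ qr) (q1 hS.a1 ha₀ qa)
    (q1 hS.s1 hs₀ qs)
  have hodd : ¬ 2 ∣ T₁.index := by rw [index_of_card h.index t1]; norm_num
  have h128 : Nat.card T₁ = 128 := by rw [t1, h.card]
  exact isType_sylow (isType_M22T_of h.el ht hS hb OneThree.natD hw h128 t2 t3 t4 t5 t6) hodd T

end Cfsg.Agent.GH.C2L3
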