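import Cfsg.Agent.GH.C2L3Act

/-!
# GH-C2, `X / V = L₃(2)`: standard generators of a Sylow 2-subgroup
-/

set_option autoImplicit false
set_option linter.unusedSectionVars false

namespace Cfsg.Agent.GH.C2L3

open Subgroup Cfsg.Agent.GH.Pc Cfsg.Agent.GH.PcTypes Cfsg.Agent.GH.C2Syl
open Cfsg.Agent.TwoFusion.SectionalRank

variable {X : Type*} [Group X]

/-- Doubling a subgroup. -/
theorem exists_double [Finite X] {Y : Subgroup X} {b : X} (hbb : b * b ∈ Y)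
    (hb : ∀ y ∈ Y, b * y * b⁻¹ ∈ Y) (hbY : b ∉ Y) :
    ∃ Z : Subgroup X, Y ≤ Z ∧ b ∈ Z ∧ Nat.card Z = 2 * Nat.card Y ∧
      ∀ g ∈ Z, g ∈ Y ∨ b⁻¹ * g ∈ Y := by
  set Z := C2Base.ext Y b hbb hb with hZ
  have hYZ : Y ≤ Z := fun y hy => Or.inl hy
  have hbZ : b ∈ Z := by
    right
    rw [inv_mul_cancel]
    exact Y.one_mem
  refine ⟨Z, hYZ, hbZ, ?_, fun g hg => hg⟩
  have h1 : Nat.card Z = Y.relIndex Z * Nat.card Y := card_eq_relIndex_mul Z Y hYZ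
  rw [h1]
  congr 1
  show (Y.subgroupOf Z).index = 2
  rw [Subgroup.index_eq_two_iff]
  refine ⟨⟨b, hbZ⟩, fun g => ?_⟩
  rw [mem_subgroupOf, mem_subgroupOf]
  show Xor (g * b ∈ Y) ((g : X) ∈ Y)
  obtain ⟨g, hg | hg⟩ := g
  · right
    refine ⟨hg, fun h2 => hbY ?_⟩
    have h3 := Y.mul_mem (Y.inv_mem hg) h2
    simpa using h3
  · have h4 : g * b ∈ Y := by
      have h5 : g * b = b * (b⁻¹ * g) * b⁻¹ * (b * b) := by group
      rw [h5]
      exact Y.mul_mem (hb _ hg) hbb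
    left
    refine ⟨h4, fun h2 => hbY ?_⟩
    have h3 := Y.mul_mem h2 (Y.inv_mem hg)
    have h6 : g * (b⁻¹ * g)⁻¹ = b := by group
    rwa [h6] at h3

/-- The group `N⟨a, b, s⟩` with `N⟨a, b, s⟩ / N` dihedral of order 8. -/
theorem exists_T1 [Finite X] {N : Subgroup X} (hN : N.Normal) {a b s : X}
    (haa : a * a ∈ N) (hbb : b * b ∈ N) (hss : s * s ∈ N)
    (hab : b * a * b⁻¹ * a⁻¹ ∈ N) (hsa : s * a * s⁻¹ * a⁻¹ ∈ N) (hsb : s * b * s⁻¹ * (b * a)⁻¹ ∈ N)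
    (hk : ∀ α β γ, pw s γ * pw b β * pw a α ∈ N → α = 0 ∧ β = 0 ∧ γ = 0) :
    ∃ T : Subgroup X, Nat.card T = 8 * Nat.card N ∧ N ≤ T ∧ a ∈ T ∧ b ∈ T ∧ s ∈ T ∧
      ∀ g ∈ T, ∃ α β γ, (pw s γ * pw b β * pw a α)⁻¹ * g ∈ N := by
  have h10 : (1 : ZMod 2) ≠ 0 := by decide
  obtain ⟨Y, y1, y2, y3, y4⟩ := exists_double haa (fun y hy => hN.conj_mem y hy a)
    (fun h => h10 (hk 1 0 0 (by simpa using h)).1)
  have hbaY : b * a * b⁻¹ ∈ Y := by
    have h1 := Y.mul_mem (y1 hab) y2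
    simpa using h1
  obtain ⟨Z, w1, w2, w3, w4⟩ := exists_double (Y := Y) (b := b) (y1 hbb) (by
    intro y hy
    rcases y4 y hy with h | h
    · exact y1 (hN.conj_mem y h b)
    · have h1 : b * y * b⁻¹ = (b * a * b⁻¹) * (b * (a⁻¹ * y) * b⁻¹) := by group
      rw [h1]
      exact Y.mul_mem hbaY (y1 (hN.conj_mem _ h b))) (by
    intro h
    rcases y4 b h with h | h
    · exact h10 (hk 0 1 0 (by simpa using h)).2.1
    · apply h10
      refine (hk 1 1 0 ?_).1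
      have h1 : pw s 0 * pw b 1 * pw a 1 = a * (a⁻¹ * b) * a⁻¹ * (a * a) := by
        rw [pw_zero, pw_one, pw_one]; group
      rw [h1]
      exact N.mul_mem (hN.conj_mem _ h a) haa)
  have hsaZ : s * a * s⁻¹ ∈ Y := by
    have h1 := Y.mul_mem (y1 hsa) y2
    simpa using h1
  have hsbZ : s * b * s⁻¹ ∈ Z := by
    have h1 := Z.mul_mem (w1 (y1 hsb)) (Z.mul_mem w2 (w1 y2))
    rwa [inv_mul_cancel_right] at h1
  obtain ⟨T, t1, t2, t3, t4⟩ := exists_double (Y := Z) (b := s) (w1 (y1 hss)) (by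
    have hY : ∀ y ∈ Y, s * y * s⁻¹ ∈ Y := by
      intro y hy
      rcases y4 y hy with h | h
      · exact y1 (hN.conj_mem y h s)
      · have h1 : s * y * s⁻¹ = (s * a * s⁻¹) * (s * (a⁻¹ * y) * s⁻¹) := by group
        rw [h1]
        exact Y.mul_mem hsaZ (y1 (hN.conj_mem _ h s))
    intro y hy
    rcases w4 y hy with h | h
    · exact w1 (hY y h)
    · have h1 : s * y * s⁻¹ = (s * b * s⁻¹) * (s * (b⁻¹ * y) * s⁻¹) := by group
      rw [h1]
      exact Z.mul_mem hsbZ (w1 (hY _ h))) (by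
    intro h
    have key : ∀ β α, (pw b β * pw a α)⁻¹ * s ∈ N → False := by
      intro β α h1
      apply h10
      -- `s = b^β a^α n`, `s² ∈ N`, so `s b^β a^α ∈ N`
      have h2 : s * (pw b β * pw a α) ∈ N := by
        have h3 : s * (pw b β * pw a α) = (s * s) * ((pw b β * pw a α)⁻¹ * s)⁻¹ := by group
        rw [h3]
        exact N.mul_mem hss (N.inv_mem h1)
      exact (hk α β 1 (by rw [pw_one, mul_assoc]; exact h2)).2.2
    rcases w4 s h with h | h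
    · rcases y4 s h with h | h
      · exact key 0 0 (by simpa using h)
      · exact key 0 1 (by simpa using h)
    · rcases y4 _ h with h | h
      · exact key 1 0 (by simpa using h)
      · exact key 1 1 (by simpa [mul_assoc] using h))
  refine ⟨T, by rw [t3, w3, y3]; ring, y1.trans (w1.trans t1), t1 (w1 y2), t1 w2, t2, ?_⟩
  intro g hg
  have hY : ∀ g ∈ Y, ∃ α, (pw a α)⁻¹ * g ∈ N := fun g hg => by
    rcases y4 g hg with h | h
    · exact ⟨0, by simpa using h⟩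
    · exact ⟨1, by simpa using h⟩
  have hZ : ∀ g ∈ Z, ∃ α β, (pw b β * pw a α)⁻¹ * g ∈ N := fun g hg => by
    rcases w4 g hg with h | h
    · obtain ⟨α, h1⟩ := hY _ h
      exact ⟨α, 0, by simpa using h1⟩
    · obtain ⟨α, h1⟩ := hY _ h
      exact ⟨α, 1, by simpa [mul_assoc] using h1⟩
  rcases t4 g hg with h | h
  · obtain ⟨α, β, h1⟩ := hZ _ h
    exact ⟨α, β, 0, by simpa using h1⟩
  · obtain ⟨α, β, h1⟩ := hZ _ h
    exact ⟨α, β, 1, by simpa [mul_assoc] using h1⟩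

/-! ### standard generators -/

section std

variable {A : Type} [AddCommGroup A] {t : A → X} {V : Subgroup X}

theorem act_V (h : Cht t V) {v : X} (hv : v ∈ V) : Act t v (fun u => u) := fun u => by
  obtain ⟨w, rfl⟩ := (h.mem v).mp hv
  rw [h.comm]; group

theorem act_t (h : Cht t V) (m : A) : Act t (t m) (fun u => u) := act_V h ((h.mem _).mpr ⟨m, rfl⟩)

/-- Squares of elements `t m * g`. -/
theorem sq_mul (h : Cht t V) {g : X} {F : A → A} (hg : Act t g F) {u : A} (hu : g * g = t u) (m : A) :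
    (t m * g) * (t m * g) = t (m + F m + u) := by
  rw [h.add, h.add, ← hg, ← hu]; group

theorem act_mul_t (h : Cht t V) {g : X} {F : A → A} (hg : Act t g F) (m : A) : Act t (t m * g) F :=
  (act_t h m).mul hg

/-- `hc`: elements acting trivially are in `V`. -/
theorem exists_t (h : Cht t V) (hc : ∀ g, Act t g (fun u => u) → g ∈ V) {g : X} {F : A → A}
    (hg : Act t g F) (hF : ∀ u, F u = u) : ∃ u, t u = g := (h.mem g).mp (hc g (hg.congr hF))

/-- Two elements with the same action. -/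
theorem exists_t_of_eq (h : Cht t V) (hc : ∀ g, Act t g (fun u => u) → g ∈ V) {g k : X} {F : A → A}
    (hg : Act t g F) (hk : Act t k F) : ∃ m, g = t m * k := by
  have h1 : g * k⁻¹ ∈ V := by
    apply hc
    intro u
    have h2 : g * k⁻¹ * t u * (g * k⁻¹)⁻¹ = g * (k⁻¹ * t u * k) * g⁻¹ := by group
    -- `k` acts bijectively
    obtain ⟨w, hw⟩ : ∃ w, t w = k⁻¹ * t u * k := by
      obtain ⟨n, hn⟩ : ∃ n : X, n ∈ V ∧ n = k⁻¹ * t u * k := by
        refine ⟨_, ?_, rfl⟩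
        apply hc
        intro y
        have h3 : k⁻¹ * t u * k * t y * (k⁻¹ * t u * k)⁻¹ =
            k⁻¹ * (t u * (k * t y * k⁻¹) * (t u)⁻¹) * k := by group
        rw [h3, hk, act_t h u, ← hk]; group
      rw [← hn.2]
      exact (h.mem n).mp hn.1
    rw [h2, ← hw, hg, ← hk, hw]; group
  obtain ⟨m, hm⟩ := (h.mem _).mp h1
  exact ⟨m, by rw [hm]; group⟩

structure Std (t : A → X) (Fr Fa Fs : A → A) (r a s : X) : Prop where
  r1 : Act t r Fr
  a1 : Act t a Fa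
  s1 : Act t s Fs
  rrr : r * r * r = 1
  aa : a * a = 1
  ss : s * s = 1
  srs : s * r * s⁻¹ = r⁻¹
  sa : s * a * s⁻¹ = a

/-- An element of order 3 with the given action. -/
theorem exists_order_three (h : Cht t V) (h2 : ∀ u : A, u + u = 0)
    (hc : ∀ g, Act t g (fun u => u) → g ∈ V) {Fr : A → A} (hr3 : ∀ u, Fr (Fr (Fr u)) = u) {r₀ : X}
    (hr₀ : Act t r₀ Fr) : ∃ r, r * r * r = 1 ∧ Act t r Fr := by
  obtain ⟨u, hu⟩ := exists_t h hc (hr₀.mul (hr₀.mul hr₀)) hr3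
  refine ⟨t u * r₀, ?_, act_mul_t h hr₀ u⟩
  rw [hu]
  have h3 : (r₀ * (r₀ * r₀)) * (r₀ * (r₀ * r₀)) = 1 := by
    rw [← hu, ← h.add, h2, h.zero]
  have h4 : r₀ * (r₀ * r₀) * r₀ * (r₀ * (r₀ * r₀) * r₀) * (r₀ * (r₀ * r₀) * r₀) =
      ((r₀ * (r₀ * r₀)) * (r₀ * (r₀ * r₀))) * ((r₀ * (r₀ * r₀)) * (r₀ * (r₀ * r₀))) := by group
  rw [h4, h3, one_mul]

/-- A lift inverting `r`. -/
theorem exists_inverting (h : Cht t V) (h2 : ∀ u : A, u + u = 0)
    (hc : ∀ g, Act t g (fun u => u) → g ∈ V) {Fr Fs : A → A}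
    (hr3 : ∀ u, Fr (Fr (Fr u)) = u) (hs2 : ∀ u, Fs (Fs u) = u)
    (hsr : ∀ u, Fs (Fr (Fs u)) = Fr (Fr u)) {r s₀ : X} (hrrr : r * r * r = 1) (hr : Act t r Fr)
    (hs₀ : Act t s₀ Fs) : ∃ s, s * r * s⁻¹ = r⁻¹ ∧ Act t s Fs := by
  have hri : r⁻¹ = r * r := by
    rw [eq_comm]
    exact eq_inv_of_mul_eq_one_left hrrr
  have hs₀i : Act t s₀⁻¹ Fs := hs₀.inv hs2
  have h1 : Act t (r * (s₀ * (r * s₀⁻¹))) (fun u => Fr (Fs (Fr (Fs u)))) :=
    hr.mul (hs₀.mul (hr.mul hs₀i))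
  obtain ⟨m, hm⟩ := exists_t h hc h1 (fun u => by rw [hsr, hr3])
  have h3 : s₀ * r * s₀⁻¹ = r⁻¹ * t m := by rw [hm]; group
  -- `m + Fr m + Fr (Fr m) = 0`
  have h4 : m + Fr m + Fr (Fr m) = 0 := by
    apply h.inj
    rw [h.add, h.add, ← hr, ← hr]
    have h5 : (s₀ * r * s₀⁻¹) * (s₀ * r * s₀⁻¹) * (s₀ * r * s₀⁻¹) = 1 := by
      have h6 : (s₀ * r * s₀⁻¹) * (s₀ * r * s₀⁻¹) * (s₀ * r * s₀⁻¹) = s₀ * (r * r * r) * s₀⁻¹ := by group
      rw [h6, hrrr]; group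
    rw [h3] at h5
    -- conj relation `r⁻¹ m = (r² m r⁻²) r⁻¹`
    have h7 : r⁻¹ * t m * (r⁻¹ * t m) * (r⁻¹ * t m) =
        r⁻¹ * (t m * (r⁻¹ * t m * r) * (r⁻¹ * r⁻¹ * t m * r * r)) * r⁻¹ * r⁻¹ := by group
    have h8 : r⁻¹ * t m * r = t (Fr (Fr m)) := by
      have h9 := (hr.mul hr) m
      rw [← h9, hri]
      have h10 : r * r * t m * r = r * r * t m * (r * r)⁻¹ * (r * r * r) := by group
      rw [h10, hrrr, mul_one]
    have h9 : r⁻¹ * r⁻¹ * t m * r * r = t (Fr m) := by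
      have h10 : r⁻¹ * r⁻¹ * t m * r * r = r⁻¹ * (r⁻¹ * t m * r) * r := by group
      rw [h10, h8]
      have h11 := hr (Fr m)
      rw [← h11]; group
    rw [h7, h8, h9] at h5
    have h12 : t m * t (Fr (Fr m)) * t (Fr m) = r * (r⁻¹ * (t m * t (Fr (Fr m)) * t (Fr m)) * r⁻¹ * r⁻¹) *
        (r * r) := by group
    rw [hr, hr]
    rw [mul_assoc, h.comm (Fr m), ← mul_assoc, h12, h5, mul_one, ← mul_assoc, hrrr]
  refine ⟨t (Fr m) * s₀, ?_, act_mul_t h hs₀ _⟩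
  have h5 : t (Fr m) * s₀ * r * (t (Fr m) * s₀)⁻¹ = t (Fr m) * (s₀ * r * s₀⁻¹) * (t (Fr m))⁻¹ := by group
  rw [h5, h3]
  have h6 : t (Fr m) * (r⁻¹ * t m) * (t (Fr m))⁻¹ = r⁻¹ * ((r * t (Fr m) * r⁻¹) * t m * (t (Fr m))⁻¹) := by
    group
  rw [h6, hr, ← h.neg, ← h.add, ← h.add]
  have h7 : Fr (Fr m) + m + -Fr m = 0 := by
    have h8 : -Fr m = Fr m := by
      rw [neg_eq_iff_add_eq_zero]
      exact h2 _
    rw [h8, ← h4]; abel
  rw [h7, h.zero, mul_one]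

/-- The element `s` as an involution inverting `r`. -/
theorem exists_s (h : Cht t V) {Fr Fs : A → A}
    (hc : ∀ g, Act t g (fun u => u) → g ∈ V) (hs2 : ∀ u, Fs (Fs u) = u)
    {r s : X} (hr : Act t r Fr) (hs : Act t s Fs) (hsr : s * r * s⁻¹ = r⁻¹)
    (HS : ∀ u, s * s = t u → Fr u = u → Fs u = u → ∃ m, Fr m = m ∧ m + Fs m + u = 0) :
    ∃ s, s * s = 1 ∧ s * r * s⁻¹ = r⁻¹ ∧ Act t s Fs := by
  obtain ⟨u, hu⟩ := exists_t h hc (hs.mul hs) hs2
  have h1 : Fr u = u := by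
    apply h.injective
    rw [← hr, hu]
    have h2 : s * s * r * (s * s)⁻¹ = r := by
      have h3 : s * s * r * (s * s)⁻¹ = s * (s * r * s⁻¹) * s⁻¹ := by group
      have h4 : s * r⁻¹ * s⁻¹ = (s * r * s⁻¹)⁻¹ := by group
      rw [h3, hsr, h4, hsr, inv_inv]
    calc r * (s * s) * r⁻¹ = (s * s * r * (s * s)⁻¹) * (s * s) * r⁻¹ := by rw [h2]
      _ = s * s := by group
  have h3 : Fs u = u := by
    apply h.injective
    rw [← hs, hu]; group
  obtain ⟨m, m1, m2⟩ := HS u hu.symm h1 h3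
  refine ⟨t m * s, ?_, ?_, act_mul_t h hs m⟩
  · rw [sq_mul h hs hu.symm, m2, h.zero]
  · have h4 : t m * s * r * (t m * s)⁻¹ = t m * (s * r * s⁻¹) * (t m)⁻¹ := by group
    rw [h4, hsr]
    have h5 : r * t m * r⁻¹ = t m := by rw [hr, m1]
    have h6 : t m * r⁻¹ = r⁻¹ * t m := by
      rw [eq_inv_mul_iff_mul_eq, ← mul_assoc, h5]
    rw [h6]; group

/-- The involution `a` commuting with `s`. -/
theorem exists_a (h : Cht t V) {Fa Fs : A → A}
    (hc : ∀ g, Act t g (fun u => u) → g ∈ V) (hs2 : ∀ u, Fs (Fs u) = u)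
    (hsa : ∀ u, Fs (Fa (Fs u)) = Fa u) {a s : X} (ha : Act t a Fa) (hs : Act t s Fs)
    (haa : a * a = 1) (hss : s * s = 1) (h2 : ∀ u : A, u + u = 0)
    (HC : ∀ u, u + Fa u = 0 → Fs u = u → ∃ m, m + Fa m = 0 ∧ m + Fs m + u = 0) :
    ∃ a, a * a = 1 ∧ s * a * s⁻¹ = a ∧ Act t a Fa := by
  have h1 : Act t (s * (a * s⁻¹)) Fa := (hs.mul (ha.mul (hs.inv hs2))).congr hsa
  obtain ⟨u, hu⟩ := exists_t_of_eq h hc h1 ha
  have hu' : s * a * s⁻¹ = t u * a := by rw [← hu]; group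
  have haa' : a * a = t 0 := by rw [haa, h.zero]
  have e1 : u + Fa u = 0 := by
    apply h.inj
    have h3 := sq_mul h ha haa' u
    rw [add_zero] at h3
    rw [← h3, ← hu']
    have h4 : s * a * s⁻¹ * (s * a * s⁻¹) = s * (a * a) * s⁻¹ := by group
    rw [h4, haa]; group
  have e2 : Fs u = u := by
    apply h.injective
    rw [← hs]
    have h3 : s * (s * a * s⁻¹) * s⁻¹ = a := by
      have h4 : s * (s * a * s⁻¹) * s⁻¹ = (s * s) * a * (s * s)⁻¹ := by group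
      rw [h4, hss]; group
    rw [hu'] at h3
    have h4 : s * t u * s⁻¹ = (s * (t u * a) * s⁻¹) * (s * a * s⁻¹)⁻¹ := by group
    rw [h4, h3, hu']
    have h5 : a * (t u * a)⁻¹ = (t u)⁻¹ := by group
    rw [h5, ← h.neg]
    congr 1
    rw [neg_eq_iff_add_eq_zero]
    exact h2 u
  obtain ⟨m, m1, m2⟩ := HC u e1 e2
  refine ⟨t m * a, ?_, ?_, act_mul_t h ha m⟩
  · rw [sq_mul h ha haa', add_zero, m1, h.zero]
  · have h3 : s * (t m * a) * s⁻¹ = (s * t m * s⁻¹) * (s * a * s⁻¹) := by group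
    rw [h3, hs, hu', ← mul_assoc, ← h.add]
    congr 2
    have h4 : Fs m + u = m + (m + Fs m + u) := by
      calc Fs m + u = (m + m) + (Fs m + u) := by rw [h2, zero_add]
        _ = m + (m + Fs m + u) := by abel
    rw [h4, m2, add_zero]

end std

namespace Std

variable {A : Type} [AddCommGroup A] {t : A → X} {V : Subgroup X} {Fr Fa Fs : A → A} {r a s : X}
  (h : Std t Fr Fa Fs r a s)

include h

theorem bb : (r * a * r⁻¹) * (r * a * r⁻¹) = 1 := by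
  have h1 : (r * a * r⁻¹) * (r * a * r⁻¹) = r * (a * a) * r⁻¹ := by group
  rw [h1, h.aa]; group

theorem rc : r * (r * (r * a * r⁻¹) * r⁻¹) * r⁻¹ = a := by
  have h1 : r * (r * (r * a * r⁻¹) * r⁻¹) * r⁻¹ = (r * r * r) * a * (r * r * r)⁻¹ := by group
  rw [h1, h.rrr]; group

theorem sb : s * (r * a * r⁻¹) * s⁻¹ = r * (r * a * r⁻¹) * r⁻¹ := by
  have h1 : s * (r * a * r⁻¹) * s⁻¹ = (s * r * s⁻¹) * (s * a * s⁻¹) * (s * r * s⁻¹)⁻¹ := by group
  rw [h1, h.srs, h.sa]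
  have h2 : r⁻¹ = r * r := by
    rw [eq_comm]
    exact eq_inv_of_mul_eq_one_left h.rrr
  have h3 : r * (r * a * r⁻¹) * r⁻¹ = (r * r) * a * (r * r)⁻¹ := by group
  rw [h3, ← h2]

theorem sc : s * (r * (r * a * r⁻¹) * r⁻¹) * s⁻¹ = r * a * r⁻¹ := by
  rw [← h.sb]
  have h1 : s * (s * (r * a * r⁻¹) * s⁻¹) * s⁻¹ = (s * s) * (r * a * r⁻¹) * (s * s)⁻¹ := by group
  rw [h1, h.ss]; group

/-- The element `w = a b c`. -/
theorem exists_w (ht : Cht t V) (hc : ∀ g, Act t g (fun u => u) → g ∈ V) (h2 : ∀ u : A, u + u = 0)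
    (har : ∀ u, Fa (Fr (Fa (Fr (Fa (Fr u))))) = u) :
    ∃ u, a * (r * a * r⁻¹) * (r * (r * a * r⁻¹) * r⁻¹) = t u ∧ Fr u = Fa u ∧ Fs u = Fa u := by
  set b := r * a * r⁻¹ with hb
  set c := r * b * r⁻¹ with hcd
  have h1 : a * b * c = a * (r * (a * (r * (a * r)))) * (r * r * r)⁻¹ := by rw [hcd, hb]; group
  have h3 : a * b * c = a * (r * (a * (r * (a * r)))) := by rw [h1, h.rrr]; group
  obtain ⟨u, hu⟩ := exists_t ht hc
    (h.a1.mul (h.r1.mul (h.a1.mul (h.r1.mul (h.a1.mul h.r1))))) har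
  have hw : a * b * c = t u := by rw [h3, hu]
  have hai : a⁻¹ = a := inv_eq_of_mul_eq_one_left h.aa
  have haw : a * (a * b * c) * a⁻¹ = b * c * a := by
    have h4 : a * (a * b * c) * a⁻¹ = (a * a) * (b * c * a⁻¹) := by group
    rw [h4, h.aa, one_mul, hai]
  refine ⟨u, hw, ?_, ?_⟩
  · apply ht.injective
    rw [← h.r1, ← h.a1, ← hw, haw]
    have h4 : r * (a * b * c) * r⁻¹ = (r * a * r⁻¹) * (r * b * r⁻¹) * (r * c * r⁻¹) := by group
    rw [h4, h.rc]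
  · apply ht.injective
    rw [← h.s1, ← h.a1, ← hw, haw]
    have h4 : s * (a * b * c) * s⁻¹ = (s * a * s⁻¹) * (s * b * s⁻¹) * (s * c * s⁻¹) := by group
    rw [h4, h.sa, h.sb, h.sc, ← hb, ← hcd]
    -- `a c b = (b c a)⁻¹ = b c a`
    have h5 : (b * c * a) * (b * c * a) = 1 := by
      rw [← haw, hw, h.a1, ← ht.add, h2, ht.zero]
    have hbi : b⁻¹ = b := inv_eq_of_mul_eq_one_left h.bb
    have hci : c⁻¹ = c := by
      have h6 : c * c = 1 := by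
        have h7 : c * c = r * (b * b) * r⁻¹ := by rw [hcd]; group
        rw [h7, h.bb]; group
      exact inv_eq_of_mul_eq_one_left h6
    have h6 : (b * c * a)⁻¹ = a * c * b := by
      have h7 : (b * c * a)⁻¹ = a⁻¹ * c⁻¹ * b⁻¹ := by group
      rw [h7, hai, hbi, hci]
    rw [← h6]
    exact inv_eq_of_mul_eq_one_left h5

end Std

/-! ### the subgroup `T₁` from the action -/

/-- `F ^ x` -/
def pf {A : Type} (F : A → A) (x : ZMod 2) (u : A) : A := if x = 0 then u else F u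

theorem act_pw {A : Type} {t : A → X} {g : X} {F : A → A} (hg : Act t g F) (x : ZMod 2) :
    Act t (pw g x) (pf F x) := by
  rcases z2 x with rfl | rfl
  · intro u
    simp [pf]
  · intro u
    simpa [pf] using hg u

/-- The conditions on the three maps. -/
structure Good (Fr Fa Fs : A3 → A3) : Prop where
  r3 : ∀ u, Fr (Fr (Fr u)) = u
  a2 : ∀ u, Fa (Fa u) = u
  s2 : ∀ u, Fs (Fs u) = u
  ba : ∀ u, Fr (Fa (Fr (Fr (Fa u)))) = Fa (Fr (Fa (Fr (Fr u))))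
  sa : ∀ u, Fs (Fa u) = Fa (Fs u)
  sb : ∀ u, Fs (Fr (Fa (Fr (Fr (Fs u))))) = Fr (Fa (Fr (Fr (Fa u))))
  free : ∀ α β γ, (∀ u, pf Fs γ (pf (fun u => Fr (Fa (Fr (Fr u)))) β (pf Fa α u)) = u) →
    α = 0 ∧ β = 0 ∧ γ = 0

theorem exists_T1_act [Finite X] {X' : Type*} [Group X'] (π : X →* X') {t : A3 → X'} (ht : Ch t)
    {V : Subgroup X} (hn : V.Normal) (hV : ∀ g, Act t (π g) (fun u => u) ↔ g ∈ V)
    {Fr Fa Fs : A3 → A3} (hF : Good Fr Fa Fs) {r a s : X} (hr : Act t (π r) Fr)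
    (ha : Act t (π a) Fa) (hs : Act t (π s) Fs) :
    (∃ T : Subgroup X, Nat.card T = 8 * Nat.card V ∧ V ≤ T ∧ a ∈ T ∧ r * a * r⁻¹ ∈ T ∧ s ∈ T ∧
      ∀ g ∈ T, ∃ α β γ, (pw s γ * pw (r * a * r⁻¹) β * pw a α)⁻¹ * g ∈ V) ∧
    ∀ α β γ, pw s γ * pw (r * a * r⁻¹) β * pw a α ∈ V → α = 0 ∧ β = 0 ∧ γ = 0 := by
  have hri : Act t (π r)⁻¹ (fun u => Fr (Fr u)) := hr.inv hF.r3
  have hb : Act t (π (r * a * r⁻¹)) (fun u => Fr (Fa (Fr (Fr u)))) := by
    rw [map_mul, map_mul, map_inv]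
    exact (hr.mul ha).mul hri
  have hai : Act t (π a)⁻¹ Fa := ha.inv hF.a2
  have hsi : Act t (π s)⁻¹ Fs := hs.inv hF.s2
  have hb2 : ∀ u, Fr (Fa (Fr (Fr (Fr (Fa (Fr (Fr u))))))) = u := by
    intro u
    rw [hF.r3, hF.a2, hF.r3]
  have hbi : Act t (π (r * a * r⁻¹))⁻¹ (fun u => Fr (Fa (Fr (Fr u)))) := hb.inv hb2
  clear hri hr
  generalize r * a * r⁻¹ = b at hb hbi ⊢
  have hfree : ∀ α β γ, pw s γ * pw b β * pw a α ∈ V → α = 0 ∧ β = 0 ∧ γ = 0 := by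
    intro α β γ h
    rw [← hV, map_mul, map_mul] at h
    have hpw : ∀ (g : X) (x : ZMod 2), π (pw g x) = pw (π g) x := by
      intro g x
      rcases z2 x with rfl | rfl <;> simp
    rw [hpw, hpw, hpw] at h
    apply hF.free
    intro u
    exact (((act_pw hs γ).mul (act_pw hb β)).mul (act_pw ha α)).uniq ht h u
  refine ⟨exists_T1 hn ((hV _).mp ?_) ((hV _).mp ?_) ((hV _).mp ?_) ((hV _).mp ?_) ((hV _).mp ?_)
    ((hV _).mp ?_) hfree, hfree⟩
  · rw [map_mul]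
    exact (ha.mul ha).congr hF.a2
  · rw [map_mul]
    exact (hb.mul hb).congr hb2
  · rw [map_mul]
    exact (hs.mul hs).congr hF.s2
  · rw [map_mul, map_mul, map_mul, map_inv, map_inv]
    refine (((hb.mul ha).mul hbi).mul hai).congr fun u => ?_
    rw [hF.ba, hb2, hF.a2]
  · rw [map_mul, map_mul, map_mul, map_inv, map_inv]
    refine (((hs.mul ha).mul hsi).mul hai).congr fun u => ?_
    rw [hF.sa, hF.s2, hF.a2]
  · rw [map_mul, map_mul, map_mul, map_inv, map_inv, map_mul, mul_inv_rev]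
    refine (((hs.mul hb).mul hsi).mul (hai.mul hbi)).congr fun u => ?_
    rw [hF.sb, hF.a2, hb2]

/-- From one Sylow 2-subgroup to all. -/
theorem isType_sylow [Finite X] {n : ℕ} {P : Pres n} {T₁ : Subgroup X} (h : IsType P T₁)
    (hodd : ¬ 2 ∣ T₁.index) (T : Sylow 2 X) : IsType P T := by
  have hp : IsPGroup 2 T₁ := IsPGroup.of_card h.1
  have : Fact (Nat.Prime 2) := ⟨Nat.prime_two⟩
  let S : Sylow 2 X := hp.toSylow hodd
  exact IsType.congr (Sylow.equiv S T) h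

theorem index_of_card [Finite X] {V T : Subgroup X} (hidx : V.index = 168)
    (hT : Nat.card T = 8 * Nat.card V) : T.index = 21 := by
  have h1 := V.card_mul_index
  have h2 := T.card_mul_index
  rw [hidx] at h1
  rw [hT, ← h1] at h2
  have h3 : 0 < Nat.card V := Nat.card_pos
  have h4 : Nat.card V * (8 * T.index) = Nat.card V * 168 := by rw [← h2]; ring
  have h5 := Nat.eq_of_mul_eq_mul_left h3 h4
  omega

/-! ### averaging -/

theorem avg {M : Type*} [AddCommGroup M] (ρ : X → M → M)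
    (hadd : ∀ g m n, ρ g (m + n) = ρ g m + ρ g n) (hmul : ∀ g k m, ρ (g * k) m = ρ g (ρ k m))
    (T : Subgroup X) [Fintype (X ⧸ T)] (m₀ : M) (hT : ∀ g ∈ T, ρ g m₀ = m₀) (g : X) :
    ρ g (∑ q : X ⧸ T, ρ q.out m₀) = ∑ q : X ⧸ T, ρ q.out m₀ := by
  let φ : M →+ M := AddMonoidHom.mk' (ρ g) (hadd g)
  have h1 : ρ g (∑ q : X ⧸ T, ρ q.out m₀) = ∑ q : X ⧸ T, ρ g (ρ q.out m₀) :=
    map_sum φ _ _
  rw [h1]
  refine Fintype.sum_equiv (MulAction.toPerm g) _ _ fun q => ?_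
  rw [← hmul]
  have h2 : (MulAction.toPerm g q).out⁻¹ * (g * q.out) ∈ T := by
    rw [← QuotientGroup.eq, QuotientGroup.out_eq']
    show g • q = _
    conv_lhs => rw [← q.out_eq']
    rfl
  have h3 : g * q.out = (MulAction.toPerm g q).out * ((MulAction.toPerm g q).out⁻¹ * (g * q.out)) := by
    group
  rw [h3, hmul, hT _ h2]

end Cfsg.Agent.GH.C2L3
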