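import Cfsg.Agent.GH.C2L3Coh

/-!
# GH-C2, `X / V = L₃(2)`, `|V| = 16`, `W < V` of order 8: standard generators
-/

set_option autoImplicit false

namespace Cfsg.Agent.GH.C2L3

open Subgroup Cfsg.Agent.GH.Pc Cfsg.Agent.GH.PcTypes Cfsg.Agent.GH.C2Syl

variable {X : Type*} [Group X] {V W : Subgroup X}

/-- the chart of `V` extending the chart `t` of `W` -/
def ex4 (t : A3 → X) (v : X) (u : A4) : X := pw v u.1 * t u.2

theorem Cht.ex4 {t : A3 → X} (ht : Cht t W) (hWV : W ≤ V) (hsq : ∀ v ∈ V, v * v = 1)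
    (h16 : Nat.card V = 16) {v : X} (hv : v ∈ V) (hvW : v ∉ W) : Cht (ex4 t v) V :=
  ht.ext hWV hsq (by rw [h16]; simp) hv hvW

theorem ex4_mem {t : A3 → X} (ht : Cht t W) {v : X} (hvW : v ∉ W) (u : A4) :
    ex4 t v u ∈ W ↔ u.1 = 0 := by
  obtain ⟨x, n⟩ := u
  have hn : t n ∈ W := (ht.mem _).mpr ⟨n, rfl⟩
  rcases z2 x with rfl | rfl
  · simpa [ex4] using hn
  · constructor
    · intro h
      exfalso
      apply hvW
      have h1 := W.mul_mem h (W.inv_mem hn)
      simpa [ex4] using h1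
    · intro h
      exact absurd h (show (1 : ZMod 2) ≠ 0 by decide)

theorem sm_zero (m : A3) : sm 0 m = 0 := by simp [sm]

theorem sm_one (m : A3) : sm 1 m = m := by simp [sm]

theorem act_E {t : A3 → X} (ht : Cht t W) {g v : X} {F : A3 → A3} (hg : Act t g F) {m : A3}
    (hm : g * v * g⁻¹ = v * t m) : Act (ex4 t v) g (E m F) := by
  rintro ⟨x, n⟩
  rcases z2 x with rfl | rfl
  · show g * (pw v 0 * t n) * g⁻¹ = pw v 0 * t (sm 0 m + F n)
    rw [pw_zero, one_mul, one_mul, sm_zero, zero_add, hg]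
  · show g * (pw v 1 * t n) * g⁻¹ = pw v 1 * t (sm 1 m + F n)
    rw [pw_one, sm_one, ht.add, ← hg, ← mul_assoc v, ← hm]
    group

theorem exists_E {t : A3 → X} (ht : Cht t W) (hn : V.Normal) (hWn : W.Normal) {v : X} (hv : v ∈ V)
    (hvW : v ∉ W) (h4 : Cht (ex4 t v) V) (g : X) : ∃ m, g * v * g⁻¹ = v * t m := by
  obtain ⟨⟨x, m⟩, h1⟩ := (h4.mem _).mp (hn.conj_mem v hv g)
  have h2 : g * v * g⁻¹ ∉ W := by
    intro h3
    apply hvW
    have h4 := hWn.conj_mem _ h3 g⁻¹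
    have h5 : g⁻¹ * (g * v * g⁻¹) * g⁻¹⁻¹ = v := by group
    rwa [h5] at h4
  rcases z2 x with rfl | rfl
  · exfalso
    apply h2
    rw [← h1, ex4_mem ht hvW]
  · refine ⟨m, ?_⟩
    rw [← h1]
    simp [ex4]

theorem char2' : ∀ u : A4, u + u = 0 := by decide

/-- No vector outside `W` is fixed by a subgroup of odd index. -/
theorem Mod31.no_fixed [Finite X] (h : Mod31 V W) {T : Subgroup X} (hT : T.index = 21) {v : X}
    (hv : v ∈ V) (hvW : v ∉ W) (hfix : ∀ g ∈ T, g * v * g⁻¹ = v) : False := by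
  obtain ⟨t, ht⟩ := exists_cht3 (fun v hv => h.el.sq v (h.WV hv)) h.cardW
  have h4 := ht.ex4 h.WV h.el.sq h.card hv hvW
  choose K hK using fun g : X => exists_F h4 h.el.normal g
  have hfin : Fintype (X ⧸ T) := Fintype.ofFinite _
  have hT' : ∀ g ∈ T, K g (1, 0) = (1, 0) := by
    intro g hg
    apply h4.injective
    rw [← hK]
    have h1 : ex4 t v (1, 0) = v := by simp [ex4, ht.zero]
    rw [h1]
    exact hfix g hg
  have hmul : ∀ (g k : X) (m : A4), K (g * k) m = K g (K k m) := fun g k m =>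
    (hK (g * k)).uniq h4.toCh ((hK g).mul (hK k)) m
  have hfirst : ∀ g, (K g (1, 0)).1 = 1 := by
    intro g
    obtain ⟨m, hm⟩ := exists_E ht h.el.normal h.Wn hv hvW h4 g
    have h1 : K g (1, 0) = (1, m) := by
      apply h4.injective
      rw [← hK]
      simp [ex4, ht.zero, hm]
    rw [h1]
  have key := avg K (fun g m n => (hK g).additive h4.toCh m n) hmul T (1, 0) hT'
  set n := ∑ q : X ⧸ T, K q.out (1, 0) with hn
  have h1 : n.1 = 1 := by
    have h2 : n.1 = ∑ q : X ⧸ T, (K q.out (1, 0)).1 := by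
      rw [hn]
      exact map_sum (AddMonoidHom.fst (ZMod 2) A3) _ _
    rw [h2, Finset.sum_congr rfl (fun q _ => hfirst q.out), Finset.sum_const, Finset.card_univ,
      ← Nat.card_eq_fintype_card]
    have h3 : Nat.card (X ⧸ T) = 21 := hT
    rw [h3]
    decide
  have h2 : ex4 t v n ∈ W := by
    apply h.nofix _ ((h4.mem _).mpr ⟨n, rfl⟩)
    intro g
    rw [hK, key]
  rw [ex4_mem ht hvW, h1] at h2
  exact absurd h2 (by decide)

namespace ThreeOne

def Fr := E 0 Three.Fr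
def Fa := E (0, 0, 1) Three.Fa
def Fs := E (1, 0, 0) Three.Fs

end ThreeOne

/-- The standard generators in case (3/1). -/
theorem Mod31.exists_raw [Finite X] (h : Mod31 V W) :
    ∃ (t : A3 → X) (v r a s : X), Cht t W ∧ v ∈ V ∧ v ∉ W ∧ Act t r Three.Fr ∧ Act t a Three.Fa ∧
      Act t s Three.Fs ∧ r * v * r⁻¹ = v ∧ a * v * a⁻¹ = v * t (0, 0, 1) ∧
      s * v * s⁻¹ = v * t (1, 0, 0) := by
  obtain ⟨t, ht⟩ := exists_cht3 (fun v hv => h.el.sq v (h.WV hv)) h.cardW
  have hc : ∀ g, Act t g (fun u => u) → g ∈ V := fun g hg => h.cent g fun v hv => by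
    obtain ⟨u, rfl⟩ := (ht.mem v).mp hv
    exact hg u
  have ex : ∀ {F : A3 → A3}, (∀ u v, F (u + v) = F u + F v) → (∀ u, F u = 0 → u = 0) →
      ∃ g : X, Act t g F := fun hF hi => exists_act ht h.Wn h.cent h.index hF hi
  obtain ⟨r, hr⟩ := ex (F := Three.Fr) (by decide) (by decide)
  obtain ⟨a, ha⟩ := ex (F := Three.Fa) (by decide) (by decide)
  obtain ⟨s, hs⟩ := ex (F := Three.Fs) (by decide) (by decide)
  obtain ⟨v, hv, hvW⟩ : ∃ v ∈ V, v ∉ W := by
    by_contra hcon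
    push Not at hcon
    have h1 := Subgroup.card_le_of_le (show V ≤ W from hcon)
    rw [h.card, h.cardW] at h1
    omega
  have h4 := ht.ex4 h.WV h.el.sq h.card hv hvW
  obtain ⟨mr, hmr⟩ := exists_E ht h.el.normal h.Wn hv hvW h4 r
  obtain ⟨ma, hma⟩ := exists_E ht h.el.normal h.Wn hv hvW h4 a
  obtain ⟨ms, hms⟩ := exists_E ht h.el.normal h.Wn hv hvW h4 s
  have hr4 := act_E ht hr hmr
  have ha4 := act_E ht ha hma
  have hs4 := act_E ht hs hms
  -- elements trivial on `W` are trivial on `V`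
  have key : ∀ {g : X} {F : A3 → A3} {F' : A4 → A4}, Act t g F → (∀ u, F u = u) →
      Act (ex4 t v) g F' → ∀ u, F' u = u := by
    intro g F F' h1 h2 h3 u
    exact h3.uniq h4.toCh (act_V h4 (hc g (h1.congr h2))) u
  have eaa := key (ha.mul ha) (by decide) (ha4.mul ha4)
  have ess := key (hs.mul hs) (by decide) (hs4.mul hs4)
  have hai : Act t a⁻¹ Three.Fa := ha.inv (by decide)
  have hsi : Act t s⁻¹ Three.Fs := hs.inv (by decide)
  have hai4 := ha4.inv eaa
  have hsi4 := hs4.inv ess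
  have err := key (hr.mul (hr.mul hr)) (by decide) (hr4.mul (hr4.mul hr4)) (1, 0)
  have ear := key (ha.mul (hr.mul (ha.mul (hr.mul (ha.mul hr))))) (by decide)
    (ha4.mul (hr4.mul (ha4.mul (hr4.mul (ha4.mul hr4))))) (1, 0)
  have esr := key (hs.mul (hr.mul (hs.mul hr))) (by decide)
    (hs4.mul (hr4.mul (hs4.mul hr4))) (1, 0)
  have esa := key (hs.mul (ha.mul (hsi.mul hai))) (by decide)
    (hs4.mul (ha4.mul (hsi4.mul hai4))) (E ma Three.Fa (E ms Three.Fs (1, 0)))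
  simp only [eaa, ess] at esa
  obtain ⟨n, h1, h2⟩ := coh31 mr err ma (eaa _) ear ms (ess _) esr esa
  have e0 : ∀ m, ex4 t v (1, m) = v * t m := fun m => by simp [ex4]
  have hv'V : v * t n ∈ V := V.mul_mem hv (h.WV ((ht.mem _).mpr ⟨n, rfl⟩))
  have hv'W : v * t n ∉ W := fun h3 => hvW (by
    have h5 := W.mul_mem h3 (W.inv_mem ((ht.mem (t n)).mpr ⟨n, rfl⟩))
    rwa [mul_inv_cancel_right] at h5)
  have fr : r * (v * t n) * r⁻¹ = v * t n := by
    rw [← e0, hr4, h1]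
  rcases h2 with ⟨h2, h3⟩ | ⟨h2, h3⟩
  · exfalso
    have fa : a * (v * t n) * a⁻¹ = v * t n := by rw [← e0, ha4, h2]
    have fs : s * (v * t n) * s⁻¹ = v * t n := by rw [← e0, hs4, h3]
    obtain ⟨⟨T₁, t1, t2, t3, t4, t5, t6⟩, -⟩ := exists_T1_act (MonoidHom.id X) ht.toCh h.el.normal
      (fun g => ⟨hc g, fun hg u => by
        have h5 := act_V h4 hg (0, u)
        simpa [ex4] using h5⟩) Three.good hr ha hs
    refine h.no_fixed (index_of_card h.index t1) hv'V hv'W ?_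
    have hC : ∀ {g : X}, g * (v * t n) * g⁻¹ = v * t n ↔ g ∈ centralizer {v * t n} := by
      intro g
      rw [mem_centralizer_singleton_iff, mul_inv_eq_iff_eq_mul, eq_comm (a := g * _)]
    intro g hg
    obtain ⟨α, β, γ, h5⟩ := t6 g hg
    have hVc : V ≤ centralizer {v * t n} := fun x hx => by
      rw [← hC, h.el.comm hx hv'V]; group
    have c1 : a ∈ centralizer {v * t n} := hC.mp fa
    have c2 : r ∈ centralizer {v * t n} := hC.mp fr
    have c3 : s ∈ centralizer {v * t n} := hC.mp fs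
    have c4 : r * a * r⁻¹ ∈ centralizer {v * t n} := mul_mem (mul_mem c2 c1) (inv_mem c2)
    have hp : ∀ {y : X}, y ∈ centralizer {v * t n} → ∀ x : ZMod 2,
        pw y x ∈ centralizer {v * t n} := by
      intro y hy x
      rcases z2 x with rfl | rfl
      · rw [pw_zero]; exact one_mem _
      · rw [pw_one]; exact hy
    have h6 := mul_mem (mul_mem (mul_mem (hp c3 γ) (hp c4 β)) (hp c1 α)) (hVc h5)
    rw [mul_inv_cancel_left] at h6
    exact hC.mpr h6
  · refine ⟨t, v * t n, r, a, s, ht, hv'V, hv'W, hr, ha, hs, fr, ?_, ?_⟩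
    · rw [← e0, ha4, h2, e0, e0, ht.add, mul_assoc]
    · rw [← e0, hs4, h3, e0, e0, ht.add, mul_assoc]

set_option synthInstance.maxHeartbeats 2000000 in
set_option synthInstance.maxSize 4096 in
/-- The standard generators in case (3/1). -/
theorem Mod31.exists_std [Finite X] (h : Mod31 V W) :
    ∃ (t : A4 → X) (r a s : X), Cht t V ∧ (∀ u, t u ∈ W ↔ u.1 = 0) ∧
      Std t ThreeOne.Fr ThreeOne.Fa ThreeOne.Fs r a s := by
  obtain ⟨t, v, r₀, a₀, s₀, ht, hv, hvW, hr, ha, hs, hrv, hav, hsv⟩ := h.exists_raw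
  have h4 := ht.ex4 h.WV h.el.sq h.card hv hvW
  have hc : ∀ g, Act (ex4 t v) g (fun u => u) → g ∈ V := fun g hg => h.cent g fun w hw => by
    obtain ⟨u, rfl⟩ := (ht.mem w).mp hw
    simpa [ex4] using hg (0, u)
  have hr₀ : Act (ex4 t v) r₀ ThreeOne.Fr := act_E ht hr (by rw [hrv, ht.zero, mul_one])
  have ha₀ : Act (ex4 t v) a₀ ThreeOne.Fa := act_E ht ha hav
  have hs₀ : Act (ex4 t v) s₀ ThreeOne.Fs := act_E ht hs hsv
  refine ⟨ex4 t v, ?_⟩
  have hW := ex4_mem ht hvW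
  generalize ex4 t v = t at *
  obtain ⟨r, hrrr, hr⟩ := exists_order_three h4 char2' hc (by decide) hr₀
  obtain ⟨u, hu⟩ := exists_t h4 hc (ha₀.mul ha₀) (by decide)
  have hfix : ThreeOne.Fa u = u := by
    apply h4.injective
    rw [← ha₀, hu]; group
  have key1 : ∀ u, ThreeOne.Fa u = u → ∃ m, m + ThreeOne.Fa m + u = 0 := by decide
  obtain ⟨m, hm⟩ := key1 u hfix
  have ha₁ : (t m * a₀) * (t m * a₀) = 1 := by
    rw [sq_mul h4 ha₀ hu.symm, hm, h4.zero]
  have ha₂ : Act t (t m * a₀) ThreeOne.Fa := act_mul_t h4 ha₀ m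
  obtain ⟨s₁, hs₁, hs₁'⟩ := exists_inverting h4 char2' hc (by decide) (by decide) (by decide) hrrr hr
    hs₀
  have key2 : ∀ u, ThreeOne.Fr u = u → ThreeOne.Fs u = u →
      ∃ m, ThreeOne.Fr m = m ∧ m + ThreeOne.Fs m + u = 0 := by decide
  obtain ⟨s, hss, hsr, hs⟩ := exists_s h4 hc (by decide) hr hs₁' hs₁ (fun u _ h2 h3 => key2 u h2 h3)
  obtain ⟨a, haa, hsa, ha⟩ := exists_a h4 hc (by decide) (by decide) ha₂ hs ha₁ hss char2' (by decide)
  exact ⟨r, a, s, h4, hW, hr, ha, hs, hrrr, haa, hss, hsr, hsa⟩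

end Cfsg.Agent.GH.C2L3
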