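import Cfsg.Agent.GH.C2L3End
import Cfsg.Agent.GH.C2L3ThreeOne
import Cfsg.Agent.GH.C2SevenBase

/-!
# GH-C2, `X / V = L₃(2)`, case (3/1): the Sylow 2-subgroup is `M22T` or exceptional
-/

set_option autoImplicit false

namespace Cfsg.Agent.GH.C2L3

open Subgroup Pointwise Cfsg.Agent.GH.Pc Cfsg.Agent.GH.PcTypes Cfsg.Agent.GH.C2Syl

variable {X : Type*} [Group X] {V W T : Subgroup X}

namespace ThreeOne

def Fb := E (0, 1, 1) Three.Fb

theorem hFb : ∀ u, Fr (Fa (Fr (Fr u))) = Fb u := by decide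

set_option synthInstance.maxHeartbeats 2000000 in
set_option synthInstance.maxSize 4096 in
theorem natD : NatD Fa Fb Fs where
  fb := by decide
  fc := by decide
  ca := by decide
  cb := by decide
  sur := by decide
  tU := by decide
  ht := by decide
  card := by
    rw [Nat.card_eq_fintype_card]
    decide +kernel

/-- the action of the element with parameters `α β γ` -/
def Fk (p : A3) (u : A4) : A4 := pf Fs p.2.2 (pf Fb p.2.1 (pf Fa p.1 u))

def Inv (p : A3) : Prop := ∀ u, Fk p (Fk p u) = u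
def Com (p q : A3) : Prop := ∀ u, Fk p (Fk q u) = Fk q (Fk p u)

instance (p : A3) : Decidable (Inv p) := by unfold Inv; infer_instance
instance (p q : A3) : Decidable (Com p q) := by unfold Com; infer_instance

def ph (p : A3) : ZMod 2 × ZMod 2 := (p.1, p.2.1 + p.2.2)

set_option synthInstance.maxHeartbeats 2000000 in
set_option synthInstance.maxSize 4096 in
theorem d1 : ∀ p q : A3, Inv p → Inv q → Com p q → ph p = ph q → p = q := by decide +kernel

set_option synthInstance.maxHeartbeats 2000000 in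
set_option synthInstance.maxSize 4096 in
theorem d2 : ∀ p : A3, Inv p → p ≠ 0 → Fintype.card {u : A4 // Fk p u = u} ≤ 4 := by decide +kernel

set_option synthInstance.maxHeartbeats 2000000 in
set_option synthInstance.maxSize 4096 in
theorem d3 : ∀ p q : A3, Inv p → Inv q → Com p q → p ≠ 0 → q ≠ 0 → p ≠ q →
    (p.2.2 = 0 ∧ q.2.2 = 0) ∨ Fintype.card {u : A4 // Fk p u = u ∧ Fk q u = u} ≤ 2 := by
  decide +kernel

set_option synthInstance.maxHeartbeats 2000000 in
set_option synthInstance.maxSize 4096 in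
theorem d4 : ∀ p q z : A3, p ≠ 0 → q ≠ 0 → p ≠ q → p.2.2 = 0 → q.2.2 = 0 →
    (∀ u, Fk z u = Fk p (Fk q u)) →
    (p = (1, 0, 0) ∨ q = (1, 0, 0) ∨ z = (1, 0, 0)) ∧
    (p = (0, 1, 0) ∨ q = (0, 1, 0) ∨ z = (0, 1, 0)) := by decide +kernel

theorem fk0 : ∀ u, Fk 0 u = u := by decide

theorem fk1 : ∀ u, Fk (1, 0, 0) u = Fa u := by decide

theorem fk2 : ∀ u, Fk (0, 1, 0) u = Fb u := by decide

end ThreeOne

open ThreeOne

/-- the chart of `W` -/
theorem cht_W {t : A4 → X} (ht : Cht t V) (hWV : W ≤ V) (hW : ∀ u, t u ∈ W ↔ u.1 = 0) :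
    Cht (fun u : A3 => t (0, u)) W where
  add u v := by
    show t (0, u + v) = t (0, u) * t (0, v)
    rw [← ht.add]
    congr 1
  inj u hu := by
    have h1 := ht.inj _ hu
    exact congrArg Prod.snd h1
  mem v := by
    constructor
    · intro hv
      obtain ⟨⟨x, u⟩, rfl⟩ := (ht.mem v).mp (hWV hv)
      have h1 : x = 0 := (hW _).mp hv
      subst h1
      exact ⟨u, rfl⟩
    · rintro ⟨u, rfl⟩
      exact (hW _).mpr rfl

theorem act_W {t : A4 → X} {g : X} {m : A3} {F : A3 → A3} (hg : Act t g (E m F)) :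
    Act (fun u : A3 => t (0, u)) g F := fun u => by
  have h1 := hg (0, u)
  rw [h1]
  show t (0, sm 0 m + F u) = t (0, F u)
  rw [sm_zero, zero_add]

theorem nat_card_le {P : A4 → Prop} [DecidablePred P] {t : A4 → X} (ht : Cht t V) {N : Subgroup X}
    (hN : N ≤ V) (hP : ∀ u, t u ∈ N → P u) {n : ℕ} (hn : Fintype.card {u : A4 // P u} ≤ n) :
    Nat.card N ≤ n := by
  refine le_trans ?_ hn
  rw [← Nat.card_eq_fintype_card]
  have h1 : ∀ x : N, ∃ u, t u = x := fun x => (ht.mem _).mp (hN x.2)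
  choose f hf using h1
  refine Nat.card_le_card_of_injective (fun x : N => (⟨f x, hP _ (by rw [hf]; exact x.2)⟩ :
    {u : A4 // P u})) ?_
  intro x y hxy
  have h2 : f x = f y := congrArg Subtype.val hxy
  exact Subtype.ext (by rw [← hf x, ← hf y, h2])

/-- In the exceptional case `V` is the only subgroup of type `2⁴` of `T`. -/
theorem uniq_of [Finite X] {t : A4 → X} (ht : Cht t V)
    (hc : ∀ g, Act t g (fun u => u) → g ∈ V)
    {r a s : X} (h : Std t ThreeOne.Fr ThreeOne.Fa ThreeOne.Fs r a s)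
    (hb : Act t (r * a * r⁻¹) ThreeOne.Fb)
    (hw : a * (r * a * r⁻¹) * (r * (r * a * r⁻¹) * r⁻¹) = t (0, 1, 0, 1))
    (h16 : Nat.card V = 16)
    (hcov : ∀ g ∈ T, ∃ α β γ, (pw s γ * pw (r * a * r⁻¹) β * pw a α)⁻¹ * g ∈ V)
    {A : Subgroup X} (hAT : A ≤ T) (hA : Nat.card A = 16) (hsq : ∀ g ∈ A, g * g = 1) : A = V := by
  by_contra hne
  have hbb := h.bb
  have hcc : (r * (r * a * r⁻¹) * r⁻¹) * (r * (r * a * r⁻¹) * r⁻¹) = 1 := by
    have h6 : (r * (r * a * r⁻¹) * r⁻¹) * (r * (r * a * r⁻¹) * r⁻¹) =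
      r * ((r * a * r⁻¹) * (r * a * r⁻¹)) * r⁻¹ := by group
    rw [h6, hbb]; group
  generalize r * a * r⁻¹ = b at *
  generalize r * b * r⁻¹ = c at *
  have hcomm : ∀ x ∈ A, ∀ y ∈ A, x * y = y * x := fun x hx y hy => comm_of_sq hsq hx hy
  -- parameters
  have hex : ∀ x : A, ∃ p : A3, Act t (x : X) (Fk p) := by
    intro x
    obtain ⟨α, β, γ, h1⟩ := hcov x (hAT x.2)
    refine ⟨(α, β, γ), ?_⟩
    have h2 := (((act_pw h.s1 γ).mul (act_pw hb β)).mul (act_pw h.a1 α)).mul (act_V ht h1)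
    rw [mul_inv_cancel_left] at h2
    exact h2
  choose p hp using hex
  have hinv : ∀ x : A, Inv (p x) := fun x u => by
    have h1 := (hp x).mul (hp x)
    rw [hsq x x.2] at h1
    exact h1.uniq ht.toCh Act.one u
  have hcom : ∀ x y : A, Com (p x) (p y) := fun x y u => by
    have h1 := (hp x).mul (hp y)
    rw [hcomm x x.2 y y.2] at h1
    exact h1.uniq ht.toCh ((hp y).mul (hp x)) u
  have hmemV : ∀ x y : A, p x = p y → (x : X)⁻¹ * y ∈ V := by
    intro x y hxy
    apply hc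
    intro u
    have h1 := hp y u
    rw [← hxy, ← hp x] at h1
    have h2 : (x : X)⁻¹ * y * t u * ((x : X)⁻¹ * y)⁻¹ = (x : X)⁻¹ * (y * t u * (y : X)⁻¹) * x := by group
    rw [h2, h1]; group
  have hp0 : ∀ x : A, (x : X) ∈ V ↔ p x = 0 := by
    intro x
    constructor
    · intro hx
      have h1 := (hp x).uniq ht.toCh (act_V ht hx)
      -- `Fk p = id` only for `p = 0`
      have h2 : ∀ q : A3, (∀ u, Fk q u = u) → q = 0 := by decide +kernel
      exact h2 _ h1
    · intro hx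
      apply hc
      exact (hp x).congr (fun u => by rw [hx]; exact fk0 u)
  set N := A ⊓ V with hN
  have hNA : N ≤ A := inf_le_left
  have hNV : N ≤ V := inf_le_right
  have hfixN : ∀ (x : A) (u : A4), t u ∈ N → Fk (p x) u = u := by
    intro x u hu
    apply ht.injective
    rw [← hp x, hcomm x x.2 (t u) (hNA hu)]; group
  -- `|N| ≥ 4`
  have c4 : 4 ≤ Nat.card N := by
    have h1 := C2SevenBase.card_le_mul hNA (fun x : A => ph (p x)) (fun x y hxy =>
      ⟨A.mul_mem (A.inv_mem x.2) y.2, hmemV x y (d1 _ _ (hinv x) (hinv y) (hcom x y) hxy)⟩)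
    rw [hA, Nat.card_prod] at h1
    simp only [Nat.card_zmod] at h1
    omega
  -- an element outside `V`
  obtain ⟨x, hxV⟩ : ∃ x : A, (x : X) ∉ V := by
    by_contra hcon
    push Not at hcon
    apply hne
    have h1 : A ≤ V := fun y hy => hcon ⟨y, hy⟩
    exact Subgroup.eq_of_le_of_card_ge h1 (by rw [hA, h16])
  have hxp : p x ≠ 0 := fun h1 => hxV ((hp0 x).mpr h1)
  have c4' : Nat.card N ≤ 4 := nat_card_le ht hNV (fun u hu => hfixN x u hu) (d2 _ (hinv x) hxp)
  -- another coset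
  obtain ⟨y, hy0, hyx⟩ : ∃ y : A, p y ≠ 0 ∧ p y ≠ p x := by
    by_contra hcon
    push Not at hcon
    have h1 := C2SevenBase.card_le_mul hNA (fun z : A => decide (p z = 0)) (fun y z hyz => by
      refine ⟨A.mul_mem (A.inv_mem y.2) z.2, hmemV y z ?_⟩
      simp only [decide_eq_decide] at hyz
      by_cases h2 : p y = 0
      · rw [h2, hyz.mp h2]
      · rw [hcon y h2, hcon z (fun h3 => h2 (hyz.mpr h3))])
    rw [hA] at h1
    simp at h1
    omega
  rcases d3 _ _ (hinv x) (hinv y) (hcom x y) hxp hy0 (Ne.symm hyx) with ⟨g1, g2⟩ | h2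
  swap
  · have h3 : Nat.card N ≤ 2 := nat_card_le ht hNV (fun u hu => ⟨hfixN x u hu, hfixN y u hu⟩) h2
    omega
  -- elements over `a` and `b`
  have hz : ∀ u, Fk (p (x * y)) u = Fk (p x) (Fk (p y) u) := fun u =>
    (hp (x * y)).uniq ht.toCh ((hp x).mul (hp y)) u
  obtain ⟨q1, q2⟩ := d4 _ _ _ hxp hy0 (Ne.symm hyx) g1 g2 hz
  have e1 : ∃ z : A, p z = (1, 0, 0) := by
    rcases q1 with h1 | h1 | h1
    · exact ⟨_, h1⟩
    · exact ⟨_, h1⟩
    · exact ⟨_, h1⟩
  have e2 : ∃ z : A, p z = (0, 1, 0) := by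
    rcases q2 with h1 | h1 | h1
    · exact ⟨_, h1⟩
    · exact ⟨_, h1⟩
    · exact ⟨_, h1⟩
  obtain ⟨z1, hz1⟩ := e1
  obtain ⟨z2', hz2⟩ := e2
  -- `N` is the whole fixed space of `a`
  have hNU : ∀ u, ThreeOne.Fa u = u → t u ∈ N := by
    have h5 : N ≤ V ⊓ centralizer {a} := by
      intro v hv
      obtain ⟨u, rfl⟩ := (ht.mem v).mp (hNV hv)
      rw [mem_U ht h.a1, ← fk1, ← hz1]
      exact hfixN z1 u hv
    have h6 : N = V ⊓ centralizer {a} := by
      apply Subgroup.eq_of_le_of_card_ge h5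
      rw [card_U ht h.a1, natD.card]
      exact c4
    intro u hu
    rw [h6]
    exact (mem_U ht h.a1 u).mpr hu
  have haA : a ∈ A := by
    have h5 : Act t (z1 : X) ThreeOne.Fa := (hp z1).congr (fun u => by rw [hz1]; exact fk1 u)
    obtain ⟨m, hm⟩ := exists_t_of_eq ht hc h5 h.a1
    have h6 := sq_mul ht h.a1 (u := 0) (by rw [h.aa, ht.zero]) m
    rw [← hm, hsq z1 z1.2, add_zero] at h6
    have h7 : m + ThreeOne.Fa m = 0 := ht.inj _ h6.symm
    have h8 : ∀ m, m + ThreeOne.Fa m = 0 → ThreeOne.Fa m = m := by decide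
    have h9 := hNA (hNU m (h8 m h7))
    have h10 : a = (t m)⁻¹ * z1 := by rw [hm]; group
    rw [h10]
    exact A.mul_mem (A.inv_mem h9) z1.2
  have hbA : b ∈ A := by
    have h5 : Act t (z2' : X) ThreeOne.Fb := (hp z2').congr (fun u => by rw [hz2]; exact fk2 u)
    obtain ⟨m, hm⟩ := exists_t_of_eq ht hc h5 hb
    have h6 := sq_mul ht hb (u := 0) (by rw [hbb, ht.zero]) m
    rw [← hm, hsq z2' z2'.2, add_zero] at h6
    have h7 : m + ThreeOne.Fb m = 0 := ht.inj _ h6.symm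
    have h8 : ∀ m, m + ThreeOne.Fb m = 0 → ThreeOne.Fa m = m := by decide
    have h9 := hNA (hNU m (h8 m h7))
    have h10 : b = (t m)⁻¹ * z2' := by rw [hm]; group
    rw [h10]
    exact A.mul_mem (A.inv_mem h9) z2'.2
  -- contradiction
  have hab := hcomm a haA b hbA
  have h5 : (a * b) * (a * b) = 1 := hsq _ (A.mul_mem haA hbA)
  have h6 : c = (a * b) * t (0, 1, 0, 1) := by
    rw [← hw, ← mul_assoc, h5, one_mul]
  have h7 : (a * b) * t (0, 1, 0, 1) * ((a * b) * t (0, 1, 0, 1)) = 1 := by rw [← h6, hcc]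
  have h8 := (h.a1.mul hb) (0, 1, 0, 1)
  have h9 : (a * b)⁻¹ = a * b := inv_eq_of_mul_eq_one_left h5
  rw [h9] at h8
  have h10 : t (ThreeOne.Fa (ThreeOne.Fb (0, 1, 0, 1)) + (0, 1, 0, 1)) = 1 := by
    rw [ht.add, ← h8, ← h7]
    simp only [mul_assoc]
  have h11 := ht.inj _ h10
  exact absurd h11 (by decide)

/-- Transport of the exceptional case to a conjugate. -/
theorem IsX1.conj {T T' : Subgroup X} (h : IsX1 T V W) (hV : V.Normal) (hW : W.Normal) {g : X}
    (hg : ∀ x, x ∈ T' ↔ g⁻¹ * x * g ∈ T) : IsX1 T' V W := by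
  have key : ∀ (N : Subgroup X), N.Normal → ∀ x, g⁻¹ * x * g ∈ N ↔ x ∈ N := by
    intro N hN x
    constructor
    · intro h1
      have h2 := hN.conj_mem _ h1 g
      have h3 : g * (g⁻¹ * x * g) * g⁻¹ = x := by group
      rwa [h3] at h2
    · intro h1
      have h2 := hN.conj_mem _ h1 g⁻¹
      simpa using h2
  let φ := (MulAut.conj g).toMonoidHom
  have hφ : Function.Injective φ := (MulAut.conj g).injective
  have hmap : ∀ (A : Subgroup X) (x : X), x ∈ A.map φ ↔ g⁻¹ * x * g ∈ A := by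
    intro A x
    constructor
    · rintro ⟨y, hy, rfl⟩
      have h1 : g⁻¹ * (g * y * g⁻¹) * g = y := by group
      show g⁻¹ * (g * y * g⁻¹) * g ∈ A
      rwa [h1]
    · intro h1
      refine ⟨_, h1, ?_⟩
      show g * (g⁻¹ * x * g) * g⁻¹ = x
      group
  constructor
  · intro A hA h16 hsq
    let ψ := (MulAut.conj g⁻¹).toMonoidHom
    have hψ : Function.Injective ψ := (MulAut.conj g⁻¹).injective
    have hmap' : ∀ x : X, x ∈ A.map ψ ↔ g * x * g⁻¹ ∈ A := by
      intro x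
      constructor
      · rintro ⟨y, hy, rfl⟩
        have h1 : g * (g⁻¹ * y * g⁻¹⁻¹) * g⁻¹ = y := by group
        show g * (g⁻¹ * y * g⁻¹⁻¹) * g⁻¹ ∈ A
        rwa [h1]
      · intro h1
        refine ⟨_, h1, ?_⟩
        show g⁻¹ * (g * x * g⁻¹) * g⁻¹⁻¹ = x
        group
    have h1 : A.map ψ = V := by
      apply h.uniq
      · intro x hx
        rw [hmap'] at hx
        have h2 := (hg _).mp (hA hx)
        have h3 : g⁻¹ * (g * x * g⁻¹) * g = x := by group
        rwa [h3] at h2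
      · rw [card_map_of_injective hψ, h16]
      · intro x hx
        rw [hmap'] at hx
        have h2 := hsq _ hx
        have h3 : g * x * g⁻¹ * (g * x * g⁻¹) = g * (x * x) * g⁻¹ := by group
        rw [h3] at h2
        have h4 : x * x = g⁻¹ * (g * (x * x) * g⁻¹) * g := by group
        rw [h4, h2]; group
    ext x
    have h2 : g⁻¹ * x * g ∈ A.map ψ ↔ x ∈ A := by
      rw [hmap']
      have h3 : g * (g⁻¹ * x * g) * g⁻¹ = x := by group
      rw [h3]
    rw [← h2, h1, key V hV]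
  · obtain ⟨T₀, h1, h2, h3⟩ := h.exists_T0
    refine ⟨T₀.map φ, ?_, by rw [card_map_of_injective hφ, h2], ?_⟩
    · intro x hx
      rw [hmap] at hx
      exact (hg x).mpr (h1 hx)
    · ext x
      rw [mem_inf, hmap, ← key V hV, ← mem_inf, h3, key W hW]

theorem sylow_conj [Finite X] {T₁ : Subgroup X} {n : ℕ} (hc : Nat.card T₁ = 2 ^ n)
    (hodd : ¬ 2 ∣ T₁.index) (T : Sylow 2 X) : ∃ g : X, ∀ x, x ∈ (T : Subgroup X) ↔ g⁻¹ * x * g ∈ T₁ := by
  have : Fact (Nat.Prime 2) := ⟨Nat.prime_two⟩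
  have hp : IsPGroup 2 T₁ := IsPGroup.of_card hc
  let S : Sylow 2 X := hp.toSylow hodd
  obtain ⟨g, hg⟩ := MulAction.exists_smul_eq X S T
  refine ⟨g, fun x => ?_⟩
  rw [← hg]
  have h1 : ((g • S : Sylow 2 X) : Subgroup X) = MulAut.conj g • (S : Subgroup X) := rfl
  rw [h1, Subgroup.mem_pointwise_smul_iff_inv_smul_mem, ← map_inv]
  show g⁻¹ * x * g⁻¹⁻¹ ∈ (S : Subgroup X) ↔ _
  rw [inv_inv]
  rfl

set_option synthInstance.maxHeartbeats 2000000 in
set_option synthInstance.maxSize 4096 in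
theorem key31 : ∀ u, ThreeOne.Fr u = ThreeOne.Fa u → ThreeOne.Fs u = ThreeOne.Fa u →
    u = 0 ∨ u = (0, 1, 0, 1) := by decide

/-- **Case (3/1)**: the Sylow 2-subgroup has type `M22T`, or we are in the exceptional case. -/
theorem Mod31.isType [Finite X] (h : Mod31 V W) (T : Sylow 2 X) :
    IsType M22T T ∨ IsX1 (T : Subgroup X) V W := by
  obtain ⟨t, r, a, s, ht, hWt, hS⟩ := h.exists_std
  have hc : ∀ g, Act t g (fun u => u) → g ∈ V := fun g hg => h.cent g fun w hw => by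
    obtain ⟨u, rfl⟩ := (ht.mem w).mp (h.WV hw)
    exact hg u
  have htW := cht_W ht h.WV hWt
  have hb : Act t (r * a * r⁻¹) ThreeOne.Fb :=
    ((hS.r1.mul hS.a1).mul (hS.r1.inv (K := fun u => ThreeOne.Fr (ThreeOne.Fr u)) (by decide))).congr
      hFb
  obtain ⟨⟨T₁, t1, t2, t3, t4, t5, t6⟩, t7⟩ := exists_T1_act (MonoidHom.id X) htW.toCh h.el.normal
    (fun g => ⟨fun hg => h.cent g fun w hw => by
        obtain ⟨u, rfl⟩ := (htW.mem w).mp hw
        exact hg u, fun hg u => act_V ht hg (0, u)⟩) Three.good (act_W hS.r1) (act_W hS.a1)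
      (act_W hS.s1)
  have hidx := index_of_card h.index t1
  have hodd : ¬ 2 ∣ T₁.index := by rw [hidx]; norm_num
  have h128 : Nat.card T₁ = 128 := by rw [t1, h.card]
  obtain ⟨u, hu, hu1, hu2⟩ := hS.exists_w ht hc char2' (by decide)
  rcases key31 u hu1 hu2 with rfl | rfl
  · left
    rw [ht.zero] at hu
    exact isType_sylow (isType_M22T_of h.el ht hS hb natD hu h128 t2 t3 t4 t5 t6) hodd T
  · right
    obtain ⟨g, hg⟩ := sylow_conj (n := 7) (by rw [h128]; norm_num) hodd T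
    refine IsX1.conj ⟨fun A hA h16 hsq => uniq_of ht hc hS hb hu h.card t6 hA h16 hsq, ?_⟩
      h.el.normal h.Wn hg
    have hw : t (0, 1, 0, 1) ∈ W := (hWt _).mpr rfl
    have hsb := hS.sb
    have hbb := hS.bb
    have hcc : (r * (r * a * r⁻¹) * r⁻¹) * (r * (r * a * r⁻¹) * r⁻¹) = 1 := by
      have h6 : (r * (r * a * r⁻¹) * r⁻¹) * (r * (r * a * r⁻¹) * r⁻¹) =
        r * ((r * a * r⁻¹) * (r * a * r⁻¹)) * r⁻¹ := by group
      rw [h6, hbb]; group
    generalize r * a * r⁻¹ = b at *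
    generalize r * b * r⁻¹ = c at *
    have hai : a⁻¹ = a := inv_eq_of_mul_eq_one_left hS.aa
    have hbi : b⁻¹ = b := inv_eq_of_mul_eq_one_left hbb
    have hc' : c = b * a * t (0, 1, 0, 1) := by
      rw [← hu]
      have h1 : b * a * (a * b * c) = b * (a * a) * b * c := by group
      rw [h1, hS.aa, mul_one, hbb, one_mul]
    have hba : b * a = c * (t (0, 1, 0, 1))⁻¹ := by rw [hc']; group
    have e1 : b * a * b⁻¹ * a⁻¹ ∈ W := by
      rw [hai, hbi]
      have h1 : b * a * b * a = (c * (t (0, 1, 0, 1))⁻¹ * c⁻¹) * (c * c) * (t (0, 1, 0, 1))⁻¹ := by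
        have h2 : b * a * b * a = (b * a) * (b * a) := by group
        rw [h2, hba]; group
      rw [h1, hcc, mul_one]
      exact W.mul_mem (h.Wn.conj_mem _ (W.inv_mem hw) c) (W.inv_mem hw)
    have e2 : s * b * s⁻¹ * (b * a)⁻¹ ∈ W := by
      rw [hsb, hc']
      exact h.Wn.conj_mem _ hw (b * a)
    obtain ⟨T₀, w1, w2, w3, w4, w5, w6⟩ := exists_T1 (N := W) h.Wn (a := a) (b := b) (s := s)
      (by rw [hS.aa]; exact W.one_mem) (by rw [hbb]; exact W.one_mem)
      (by rw [hS.ss]; exact W.one_mem) e1 (by rw [hS.sa, mul_inv_cancel]; exact W.one_mem) e2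
      (fun α β γ h1 => t7 α β γ (h.WV h1))
    have hp : ∀ {y : X}, y ∈ T₁ → ∀ x : ZMod 2, pw y x ∈ T₁ := by
      intro y hy x
      rcases z2 x with rfl | rfl
      · rw [pw_zero]; exact one_mem _
      · rw [pw_one]; exact hy
    refine ⟨T₀, ?_, by rw [w1, h.cardW], ?_⟩
    · intro g hg
      obtain ⟨α, β, γ, h1⟩ := w6 g hg
      have h2 := T₁.mul_mem (T₁.mul_mem (T₁.mul_mem (hp t5 γ) (hp t4 β)) (hp t3 α)) (t2 (h.WV h1))
      rwa [mul_inv_cancel_left] at h2
    · apply le_antisymm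
      · rintro g ⟨h1, h2⟩
        obtain ⟨α, β, γ, h3⟩ := w6 g h1
        have h4 : pw s γ * pw b β * pw a α ∈ V := by
          have h5 := V.mul_mem h2 (V.inv_mem (h.WV h3))
          have h6 : g * ((pw s γ * pw b β * pw a α)⁻¹ * g)⁻¹ = pw s γ * pw b β * pw a α := by group
          rwa [h6] at h5
        obtain ⟨rfl, rfl, rfl⟩ := t7 α β γ h4
        simpa using h3
      · exact le_inf w2 h.WV

end Cfsg.Agent.GH.C2L3
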