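import Cfsg.Agent.GH.C2L3Three
import Cfsg.Agent.GH.C2L3XOne
import Cfsg.Agent.GH.C2L3OneThree

/-!
# GH-C2, `X / V = L₃(2)`: the Sylow 2-subgroups (summary)
-/

set_option autoImplicit false

namespace Cfsg.Agent.GH.C2L3

open Cfsg.Agent.GH.PcTypes

variable {X : Type*} [Group X] [Finite X] {V W : Subgroup X} {v₀ : X}

theorem isType_of_mod3 (h : Mod3 V) (T : Sylow 2 X) : IsType W24 T ∨ IsType G23 T := h.isType T

theorem isType_of_mod31 (h : Mod31 V W) (T : Sylow 2 X) :
    IsType M22T T ∨ IsX1 (T : Subgroup X) V W := h.isType T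

theorem isType_of_mod13 (h : Mod13 V v₀) (T : Sylow 2 X) : IsType M22T T := h.isType T

end Cfsg.Agent.GH.C2L3
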