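import Cfsg.Agent.GH.C2L3Std
import Cfsg.Agent.GH.C2SylPerm

/-!
# GH-C2, `X / V = L₃(2)`, `|V| = 8`: the Sylow 2-subgroup is `W24` or `G23`
-/

set_option autoImplicit false
set_option linter.unusedSimpArgs false

namespace Cfsg.Agent.GH.C2L3

open Subgroup Cfsg.Agent.GH.Pc Cfsg.Agent.GH.PcTypes Cfsg.Agent.GH.C2Syl

variable {X : Type*} [Group X]

namespace Three

def Fr (u : A3) : A3 := (u.1, u.2.2, u.2.1 + u.2.2)
def Fa (u : A3) : A3 := (u.1, u.1 + u.2.1, u.2.2)
def Fs (u : A3) : A3 := (u.1, u.2.1 + u.2.2, u.2.2)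
def Fh (u : A3) : A3 := (u.1, u.2.1 + u.2.2, u.1 + u.2.2)
def Fg (u : A3) : A3 := (u.2.2, u.2.1, u.1)
def Fb (u : A3) : A3 := (u.1, u.2.1, u.1 + u.2.2)
def Fc (u : A3) : A3 := (u.1, u.1 + u.2.1, u.1 + u.2.2)

theorem good : Good Fr Fa Fs where
  r3 := by decide
  a2 := by decide
  s2 := by decide
  ba := by decide
  sa := by decide
  sb := by decide
  free := by decide

end Three

open Three

theorem char2 : ∀ u : A3, u + u = 0 := by decide

/-- The standard generators in case (3). -/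
theorem Mod3.exists_std [Finite X] {V : Subgroup X} (h : Mod3 V) :
    ∃ (t : A3 → X) (r a s : X), Cht t V ∧ Std t Fr Fa Fs r a s := by
  obtain ⟨t, ht⟩ := exists_cht3 h.el.sq h.card
  have hc : ∀ g, Act t g (fun u => u) → g ∈ V := fun g hg => h.cent g fun v hv => by
    obtain ⟨u, rfl⟩ := (ht.mem v).mp hv
    exact hg u
  have ex : ∀ {F : A3 → A3}, (∀ u v, F (u + v) = F u + F v) → (∀ u, F u = 0 → u = 0) →
      ∃ g : X, Act t g F := fun hF hi => exists_act ht h.el.normal h.cent h.index hF hi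
  obtain ⟨r₀, hr₀⟩ := ex (F := Fr) (by decide) (by decide)
  obtain ⟨s₀, hs₀⟩ := ex (F := Fs) (by decide) (by decide)
  obtain ⟨h₀, hh₀⟩ := ex (F := Fh) (by decide) (by decide)
  obtain ⟨g₀, hg₀⟩ := ex (F := Fg) (by decide) (by decide)
  obtain ⟨r, hrrr, hr⟩ := exists_order_three ht char2 hc (by decide) hr₀
  -- the involution `a`
  have hx : Act t (h₀ * h₀) Fa := (hh₀.mul hh₀).congr (by decide)
  obtain ⟨u, hu⟩ := exists_t ht hc (hx.mul hx) (by decide)
  have hfix : Fh u = u := by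
    apply ht.injective
    rw [← hh₀, hu]; group
  have key1 : ∀ u, Fh u = u → ∃ m, m + Fa m + u = 0 := by decide
  have key2 : ∀ u n, n + Fs n + u = 0 → Fr u = u → u = 0 := by decide
  obtain ⟨m, hm⟩ := key1 u hfix
  have ha₁ : (t m * (h₀ * h₀)) * (t m * (h₀ * h₀)) = 1 := by
    rw [sq_mul ht hx hu.symm, hm, ht.zero]
  have ha₂ : Act t (t m * (h₀ * h₀)) Fa := act_mul_t ht hx m
  generalize t m * (h₀ * h₀) = a₁ at ha₁ ha₂
  have hy : Act t (g₀ * (a₁ * g₀⁻¹)) Fs :=
    (hg₀.mul (ha₂.mul (hg₀.inv (K := Fg) (by decide)))).congr (by decide)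
  have hyy : (g₀ * (a₁ * g₀⁻¹)) * (g₀ * (a₁ * g₀⁻¹)) = 1 := by
    have h1 : (g₀ * (a₁ * g₀⁻¹)) * (g₀ * (a₁ * g₀⁻¹)) = g₀ * (a₁ * a₁) * g₀⁻¹ := by group
    rw [h1, ha₁]; group
  obtain ⟨s₁, hs₁, hs₁'⟩ := exists_inverting ht char2 hc (by decide) (by decide) (by decide) hrrr hr
    hs₀
  obtain ⟨s, hss, hsr, hs⟩ := exists_s ht hc (by decide) hr hs₁' hs₁ (by
    intro u h1 h2 h3
    obtain ⟨n, hn⟩ := exists_t_of_eq ht hc hy hs₁'
    have h4 : n + Fs n + u = 0 := by
      apply ht.inj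
      rw [← sq_mul ht hs₁' h1, ← hn, hyy]
    have h5 : u = 0 := key2 u n h4 h2
    subst h5
    exact ⟨0, by decide, by decide⟩)
  obtain ⟨a, haa, hsa, ha⟩ := exists_a ht hc (by decide) (by decide) ha₂ hs ha₁ hss char2 (by decide)
  exact ⟨t, r, a, s, ht, hr, ha, hs, hrrr, haa, hss, hsr, hsa⟩

section ident

variable {t : A3 → X} {V T : Subgroup X} {b c s : X}

theorem closure_V (ht : Cht t V) {K : Subgroup X} (h1 : t (1, 0, 0) ∈ K) (h2 : t (0, 1, 0) ∈ K)
    (h3 : t (0, 0, 1) ∈ K) : V ≤ K := by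
  intro v hv
  obtain ⟨⟨x, y, z⟩, rfl⟩ := (ht.mem v).mp hv
  have e : ((x, y, z) : A3) = (x, 0, 0) + (0, y, 0) + (0, 0, z) := by simp
  rw [e, ht.add, ht.add]
  refine K.mul_mem (K.mul_mem ?_ ?_) ?_
  · rcases z2 x with rfl | rfl
    · have h4 := ht.zero
      rw [show (0 : A3) = (0, 0, 0) from rfl] at h4
      rw [h4]; exact K.one_mem
    · exact h1
  · rcases z2 y with rfl | rfl
    · have h4 := ht.zero
      rw [show (0 : A3) = (0, 0, 0) from rfl] at h4
      rw [h4]; exact K.one_mem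
    · exact h2
  · rcases z2 z with rfl | rfl
    · have h4 := ht.zero
      rw [show (0 : A3) = (0, 0, 0) from rfl] at h4
      rw [h4]; exact K.one_mem
    · exact h3

theorem isType_W24_of (ht : Cht t V) (hb : Act t b Fb) (hc : Act t c Fc) (hs : Act t s Fs)
    (hbb : b * b = 1) (hcc : c * c = 1) (hss : s * s = 1) (hcb : c * b = b * c)
    (hsb : s * b = c * s) (hsc : s * c = b * s) (hT : Nat.card T = 64) (hVT : V ≤ T) (hbT : b ∈ T)
    (hcT : c ∈ T) (hsT : s ∈ T)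
    (hcov : ∀ g ∈ T, ∃ k ∈ closure ({s, b, c} ∪ (V : Set X)), k⁻¹ * g ∈ V) : IsType W24 T := by
  have cj : ∀ {g : X} {F : A3 → A3}, Act t g F → ∀ u, g * t u = t (F u) * g := fun hg u => by
    rw [← hg]; group
  have cj' : ∀ {g : X} {F : A3 → A3}, Act t g F → ∀ u x, g * (t u * x) = t (F u) * (g * x) :=
    fun hg u x => by rw [← hg]; group
  have tt : ∀ u v, t u * t v = t (u + v) := fun u v => (ht.add u v).symm
  have tt' : ∀ u v x, t u * (t v * x) = t (u + v) * x := fun u v x => by rw [ht.add, mul_assoc]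
  have hbb' : ∀ x, b * (b * x) = x := fun x => by rw [← mul_assoc, hbb, one_mul]
  have hcc' : ∀ x, c * (c * x) = x := fun x => by rw [← mul_assoc, hcc, one_mul]
  have hss' : ∀ x, s * (s * x) = x := fun x => by rw [← mul_assoc, hss, one_mul]
  have hcb' : ∀ x, c * (b * x) = b * (c * x) := fun x => by rw [← mul_assoc, hcb, mul_assoc]
  have hsb' : ∀ x, s * (b * x) = c * (s * x) := fun x => by rw [← mul_assoc, hsb, mul_assoc]
  have hsc' : ∀ x, s * (c * x) = b * (s * x) := fun x => by rw [← mul_assoc, hsc, mul_assoc]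
  have z1 : ∀ u, u = 0 → t u = 1 := fun u hu => by rw [hu, ht.zero]
  have z3 : ∀ u x, u = 0 → t u * x = x := fun u x hu => by rw [hu, ht.zero, one_mul]
  have hsat : Sat W24 ![t (1, 0, 0), s, b, t (0, 0, 1) * b, c, t (0, 1, 1) * c] := by
    refine sat_W24 ?_ ?_ ?_ ?_ ?_ ?_ ?_ ?_ ?_ ?_ ?_ ?_ ?_ ?_ ?_ ?_ ?_ ?_ ?_ ?_ ?_ <;>
      (simp only [mul_assoc, mul_one, one_mul, cj hb, cj' hb, cj hc, cj' hc, cj hs, cj' hs, tt, tt',
        hbb, hbb', hcc, hcc', hss, hss', hcb, hcb', hsb, hsb', hsc, hsc']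
       first
        | done
        | exact z1 _ (by decide)
        | exact z3 _ _ (by decide)
        | exact (z3 _ _ (by decide)).symm
        | (refine congrArg₂ (· * ·) (congrArg t ?_) rfl; decide)
        | exact congrArg t (by decide))
  have hmem : ∀ i, (![t (1, 0, 0), s, b, t (0, 0, 1) * b, c, t (0, 1, 1) * c] : Fin 6 → X) i ∈
      closure (Set.range ![t (1, 0, 0), s, b, t (0, 0, 1) * b, c, t (0, 1, 1) * c]) :=
    fun i => subset_closure ⟨i, rfl⟩
  refine isType_of_closure hsat T ?_ (by rw [hT]; norm_num)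
  set K := closure (Set.range ![t (1, 0, 0), s, b, t (0, 0, 1) * b, c, t (0, 1, 1) * c]) with hK
  have k0 : t (1, 0, 0) ∈ K := hmem 0
  have k1 : s ∈ K := hmem 1
  have k2 : b ∈ K := hmem 2
  have k3 : t (0, 0, 1) * b ∈ K := hmem 3
  have k4 : c ∈ K := hmem 4
  have k5 : t (0, 1, 1) * c ∈ K := hmem 5
  have k3' : t (0, 0, 1) ∈ K := by simpa using K.mul_mem k3 (K.inv_mem k2)
  have k5' : t (0, 1, 1) ∈ K := by simpa using K.mul_mem k5 (K.inv_mem k4)
  have k6 : t (0, 1, 0) ∈ K := by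
    have h1 := K.mul_mem k3' k5'
    rw [tt] at h1
    exact h1
  have hVK : V ≤ K := closure_V ht k0 k6 k3'
  have mT : ∀ u, t u ∈ T := fun u => hVT ((ht.mem _).mpr ⟨u, rfl⟩)
  apply closure_eq_of_cover (V := V) _ hVK
  · intro g hg
    obtain ⟨k, hk, h1⟩ := hcov g hg
    refine ⟨k, ?_, h1⟩
    have h2 : closure ({s, b, c} ∪ (V : Set X)) ≤ K := by
      rw [closure_le]
      rintro y ((rfl | rfl | rfl) | hy)
      · exact k1
      · exact k2
      · exact k4
      · exact hVK hy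
    exact h2 hk
  · intro i
    fin_cases i
    · exact mT _
    · exact hsT
    · exact hbT
    · exact T.mul_mem (mT _) hbT
    · exact hcT
    · exact T.mul_mem (mT _) hcT

theorem sat_G23 {r s p q P Q : X} (hr : r * r = 1) (hs : s * s = 1) (hp : p * p = P) (hq : q * q = Q)
    (hP : P * P = 1) (hQ : Q * Q = 1) (h1 : r * s = s * r) (h2 : r * p = q * r) (h3 : r * q = p * r)
    (h4 : r * P = Q * r) (h5 : r * Q = P * r) (h6 : s * p = p * P * s) (h7 : s * q = q * Q * s)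
    (h8 : s * P = P * s) (h9 : s * Q = Q * s) (h10 : p * q = q * p) (h11 : p * P = P * p)
    (h12 : p * Q = Q * p) (h13 : q * P = P * q) (h14 : q * Q = Q * q) (h15 : P * Q = Q * P) :
    Sat G23 ![r, s, p, q, P, Q] where
  sq i := by fin_cases i <;> (simp [G23]; assumption)
  cj i j hij := by
    fin_cases i <;> fin_cases j <;> first
      | (exfalso; revert hij; decide)
      | (simp [G23, cjOf, ← mul_assoc]; assumption)

theorem isType_G23_of (ht : Cht t V) (hb : Act t b Fb) (hc : Act t c Fc) (hs : Act t s Fs)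
    (hbb : b * b = 1) (hcc : c * c = 1) (hss : s * s = 1) (hcb : c * b = t (0, 1, 0) * (b * c))
    (hsb : s * b = c * s) (hsc : s * c = b * s) (hT : Nat.card T = 64) (hVT : V ≤ T) (hbT : b ∈ T)
    (hcT : c ∈ T) (hsT : s ∈ T)
    (hcov : ∀ g ∈ T, ∃ k ∈ closure ({s, b, c} ∪ (V : Set X)), k⁻¹ * g ∈ V) : IsType G23 T := by
  have cj : ∀ {g : X} {F : A3 → A3}, Act t g F → ∀ u, g * t u = t (F u) * g := fun hg u => by
    rw [← hg]; group
  have cj' : ∀ {g : X} {F : A3 → A3}, Act t g F → ∀ u x, g * (t u * x) = t (F u) * (g * x) :=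
    fun hg u x => by rw [← hg]; group
  have tt : ∀ u v, t u * t v = t (u + v) := fun u v => (ht.add u v).symm
  have tt' : ∀ u v x, t u * (t v * x) = t (u + v) * x := fun u v x => by rw [ht.add, mul_assoc]
  have hbb' : ∀ x, b * (b * x) = x := fun x => by rw [← mul_assoc, hbb, one_mul]
  have hcc' : ∀ x, c * (c * x) = x := fun x => by rw [← mul_assoc, hcc, one_mul]
  have hss' : ∀ x, s * (s * x) = x := fun x => by rw [← mul_assoc, hss, one_mul]
  have hcb' : ∀ x, c * (b * x) = t (0, 1, 0) * (b * (c * x)) := fun x => by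
    rw [← mul_assoc, hcb, mul_assoc, mul_assoc]
  have hsb' : ∀ x, s * (b * x) = c * (s * x) := fun x => by rw [← mul_assoc, hsb, mul_assoc]
  have hsc' : ∀ x, s * (c * x) = b * (s * x) := fun x => by rw [← mul_assoc, hsc, mul_assoc]
  have z1 : ∀ u, u = 0 → t u = 1 := fun u hu => by rw [hu, ht.zero]
  have z3 : ∀ u x, u = 0 → t u * x = x := fun u x hu => by rw [hu, ht.zero, one_mul]
  have hsat : Sat G23 ![s, t (1, 0, 0), t (1, 0, 0) * c, t (1, 0, 0) * b, t (0, 1, 1), t (0, 0, 1)] := by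
    refine sat_G23 ?_ ?_ ?_ ?_ ?_ ?_ ?_ ?_ ?_ ?_ ?_ ?_ ?_ ?_ ?_ ?_ ?_ ?_ ?_ ?_ ?_ <;>
      (simp only [mul_assoc, mul_one, one_mul, cj hb, cj' hb, cj hc, cj' hc, cj hs, cj' hs, tt, tt',
        hbb, hbb', hcc, hcc', hss, hss', hcb, hcb', hsb, hsb', hsc, hsc']
       first
        | done
        | exact z1 _ (by decide)
        | exact z3 _ _ (by decide)
        | exact (z3 _ _ (by decide)).symm
        | (refine congrArg₂ (· * ·) (congrArg t ?_) rfl; decide)
        | exact congrArg t (by decide))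
  have hmem : ∀ i, (![s, t (1, 0, 0), t (1, 0, 0) * c, t (1, 0, 0) * b, t (0, 1, 1), t (0, 0, 1)] :
      Fin 6 → X) i ∈
      closure (Set.range ![s, t (1, 0, 0), t (1, 0, 0) * c, t (1, 0, 0) * b, t (0, 1, 1), t (0, 0, 1)]) :=
    fun i => subset_closure ⟨i, rfl⟩
  refine isType_of_closure hsat T ?_ (by rw [hT]; norm_num)
  set K := closure (Set.range ![s, t (1, 0, 0), t (1, 0, 0) * c, t (1, 0, 0) * b, t (0, 1, 1),
    t (0, 0, 1)]) with hK
  have k0 : s ∈ K := hmem 0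
  have k1 : t (1, 0, 0) ∈ K := hmem 1
  have k2 : t (1, 0, 0) * c ∈ K := hmem 2
  have k3 : t (1, 0, 0) * b ∈ K := hmem 3
  have k4 : t (0, 1, 1) ∈ K := hmem 4
  have k5 : t (0, 0, 1) ∈ K := hmem 5
  have k2' : c ∈ K := by simpa using K.mul_mem (K.inv_mem k1) k2
  have k3' : b ∈ K := by simpa using K.mul_mem (K.inv_mem k1) k3
  have k6 : t (0, 1, 0) ∈ K := by
    have h1 := K.mul_mem k4 k5
    rw [tt] at h1
    exact h1
  have hVK : V ≤ K := closure_V ht k1 k6 k5
  have mT : ∀ u, t u ∈ T := fun u => hVT ((ht.mem _).mpr ⟨u, rfl⟩)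
  apply closure_eq_of_cover (V := V) _ hVK
  · intro g hg
    obtain ⟨k, hk, h1⟩ := hcov g hg
    refine ⟨k, ?_, h1⟩
    have h2 : closure ({s, b, c} ∪ (V : Set X)) ≤ K := by
      rw [closure_le]
      rintro y ((rfl | rfl | rfl) | hy)
      · exact k0
      · exact k3'
      · exact k2'
      · exact hVK hy
    exact h2 hk
  · intro i
    fin_cases i
    · exact hsT
    · exact mT _
    · exact T.mul_mem (mT _) hcT
    · exact T.mul_mem (mT _) hbT
    · exact mT _
    · exact mT _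

end ident

/-- **Case (3)**: the Sylow 2-subgroup has type `W24` or `G23`. -/
theorem Mod3.isType [Finite X] {V : Subgroup X} (h : Mod3 V) (T : Sylow 2 X) :
    IsType W24 T ∨ IsType G23 T := by
  obtain ⟨t, r, a, s, ht, hS⟩ := h.exists_std
  have hc : ∀ g, Act t g (fun u => u) → g ∈ V := fun g hg => h.cent g fun v hv => by
    obtain ⟨u, rfl⟩ := (ht.mem v).mp hv
    exact hg u
  have hri : Act t r⁻¹ (fun u => Fr (Fr u)) := hS.r1.inv (by decide)
  have hb : Act t (r * a * r⁻¹) Fb := ((hS.r1.mul hS.a1).mul hri).congr (by decide)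
  have hcA : Act t (r * (r * a * r⁻¹) * r⁻¹) Fc := ((hS.r1.mul hb).mul hri).congr (by decide)
  obtain ⟨⟨T₁, t1, t2, t3, t4, t5, t6⟩, -⟩ := exists_T1_act (MonoidHom.id X) ht.toCh h.el.normal
    (fun g => ⟨hc g, fun hg => act_V ht hg⟩) good hS.r1 hS.a1 hS.s1
  have hidx := index_of_card h.index t1
  have hodd : ¬ 2 ∣ T₁.index := by rw [hidx]; norm_num
  obtain ⟨u, hu, hu1, hu2⟩ := hS.exists_w ht hc char2 (by decide)
  have hsb := hS.sb
  have hsc := hS.sc
  have hbb := hS.bb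
  have hcc : (r * (r * a * r⁻¹) * r⁻¹) * (r * (r * a * r⁻¹) * r⁻¹) = 1 := by
    have h6 : (r * (r * a * r⁻¹) * r⁻¹) * (r * (r * a * r⁻¹) * r⁻¹) =
      r * ((r * a * r⁻¹) * (r * a * r⁻¹)) * r⁻¹ := by group
    rw [h6, hbb]; group
  have hss := hS.ss
  have haa := hS.aa
  generalize r * a * r⁻¹ = b at *
  generalize r * b * r⁻¹ = c at *
  have hsb' : s * b = c * s := by rw [← hsb]; group
  have hsc' : s * c = b * s := by rw [← hsc]; group
  have hai : a⁻¹ = a := inv_eq_of_mul_eq_one_left haa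
  have hbi : b⁻¹ = b := inv_eq_of_mul_eq_one_left hbb
  have hci : c⁻¹ = c := inv_eq_of_mul_eq_one_left hcc
  -- `b c = a w`, `a = w c b`
  have e1 : b * c = a * t u := by rw [← hu, ← mul_assoc, ← mul_assoc, haa, one_mul]
  have e2 : a = t u * (c * b) := by
    rw [← hu]
    have h7 : a * b * c * (c * b) = a * b * (c * c) * b := by group
    rw [h7, hcc, mul_one, mul_assoc, hbb, mul_one]
  have hcT : c ∈ T₁ := by
    rw [← hsb]
    exact T₁.mul_mem (T₁.mul_mem t5 t4) (T₁.inv_mem t5)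
  have hcov : ∀ g ∈ T₁, ∃ k ∈ closure ({s, b, c} ∪ (V : Set X)), k⁻¹ * g ∈ V := by
    intro g hg
    obtain ⟨α, β, γ, h1⟩ := t6 g hg
    refine ⟨_, ?_, h1⟩
    have k1 : s ∈ closure ({s, b, c} ∪ (V : Set X)) := subset_closure (by simp)
    have k2 : b ∈ closure ({s, b, c} ∪ (V : Set X)) := subset_closure (by simp)
    have k3 : c ∈ closure ({s, b, c} ∪ (V : Set X)) := subset_closure (by simp)
    have k4 : a ∈ closure ({s, b, c} ∪ (V : Set X)) := by
      rw [e2]
      exact mul_mem (subset_closure (Or.inr ((ht.mem _).mpr ⟨u, rfl⟩))) (mul_mem k3 k2)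
    have hp : ∀ {y : X}, y ∈ closure ({s, b, c} ∪ (V : Set X)) → ∀ x : ZMod 2,
        pw y x ∈ closure ({s, b, c} ∪ (V : Set X)) := by
      intro y hy x
      rcases z2 x with rfl | rfl
      · rw [pw_zero]; exact one_mem _
      · rw [pw_one]; exact hy
    exact mul_mem (mul_mem (hp k1 _) (hp k2 _)) (hp k4 _)
  have h64 : Nat.card T₁ = 64 := by rw [t1, h.card]
  have key : ∀ u, Fr u = Fa u → Fs u = Fa u → u = 0 ∨ u = (1, 0, 1) := by decide
  rcases key u hu1 hu2 with rfl | rfl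
  · left
    have hcb : c * b = b * c := by rw [e1, e2, ht.zero]; group
    exact isType_sylow (isType_W24_of ht hb hcA hS.s1 hbb hcc hss hcb hsb' hsc' h64 t2 t4 hcT t5 hcov)
      hodd T
  · right
    have hcb : c * b = t (0, 1, 0) * (b * c) := by
      have h1 : a * t (1, 0, 1) = t (1, 1, 1) * a := by
        have h2 := hS.a1 (1, 0, 1)
        have h3 : Fa (1, 0, 1) = (1, 1, 1) := by decide
        rw [h3] at h2
        rw [← h2]; group
      have h2 : b * c = t (1, 1, 1) * t (1, 0, 1) * (c * b) := by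
        rw [mul_assoc, ← e2, e1, h1]
      rw [h2, ← ht.add, ← mul_assoc, ← ht.add]
      have h3 : ((0, 1, 0) : A3) + ((1, 1, 1) + (1, 0, 1)) = 0 := by decide
      rw [h3, ht.zero, one_mul]
    exact isType_sylow (isType_G23_of ht hb hcA hS.s1 hbb hcc hss hcb hsb' hsc' h64 t2 t4 hcT t5 hcov)
      hodd T

end Cfsg.Agent.GH.C2L3
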