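import Cfsg.Agent.GH.Branches
import Cfsg.Agent.GH.C2Frame
import Cfsg.Agent.GH.C2ExtraK4

/-!
# GH-C2: the branch theorem from its two sides

`G` is of characteristic 2 type and some 2-local subgroup is not solvable.  `M` = nonsolvable 2-local
with a 2-subgroup `T` of maximal order (`C2Frame.MaxLocal`).  `Five G`: the case `5 ∣ |M|`;
`Seven G`: the case `¬ 5 ∣ |M|`.
-/

set_option autoImplicit false

open Cfsg Subgroup
open Cfsg.Agent.GH.Defs

namespace Cfsg.Agent.GH.C2Main

/-- The side `5 ∣ |M|`. -/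
def Five (G : Type*) [Group G] : Prop :=
  ∀ M T : Subgroup G, C2Frame.MaxLocal M T → 5 ∣ Nat.card M → GType G ∨ C2Extra.Extra32 G

/-- The side `¬ 5 ∣ |M|`. -/
def Seven (G : Type*) [Group G] : Prop :=
  ∀ M T : Subgroup G, C2Frame.MaxLocal M T → ¬ 5 ∣ Nat.card M → GType G ∨ C2Extra.Extra32 G

variable {G : Type*} [Group G] [Finite G]

theorem of_sides (h5 : Five G) (h7 : Seven G) (hc : IsCharacteristicTwoType G)
    (hN : ¬ Branches.LocSolv G) : GType G ∨ C2Extra.Extra32 G := by
  unfold Branches.LocSolv at hN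
  push Not at hN
  obtain ⟨N, hN, hns⟩ := hN
  obtain ⟨M, T, hM⟩ := C2Frame.exists_maxLocal hc hN hns
  by_cases h : 5 ∣ Nat.card M
  · exact h5 M T hM h
  · exact h7 M T hM h

/-- The branch GH-C2 in the form of `Branches`. -/
theorem k4_of_sides (h : Hyp G) (R : LargeExtra.W2.Simple.Recog G) (h5 : Five G) (h7 : Seven G)
    (hc : IsCharacteristicTwoType G) (hN : ¬ Branches.LocSolv G) : GType G ∨ K4 G := by
  rcases of_sides h5 h7 hc hN with h1 | h1
  · exact Or.inl h1
  · exact Or.inr (C2ExtraK4.k4_of_extra32 (C2ExtraK4.st1759 h R) h1)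

end Cfsg.Agent.GH.C2Main
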