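import Cfsg.Agent.GH.C2Rel

/-!
# GH-C2, growth: the group of order 256 over `UT₃(4)`

`M`: elements `Y b X a Z c t^i s^j`, `t` the swap, `s` the field automorphism.
-/

set_option autoImplicit false

namespace Cfsg.Agent.GH.C2Mod

open Cfsg.Agent.J2Sylow.Model Cfsg.Agent.GH.C2Rel

/-- The group of order 256. -/
structure M : Type where
  /-- coordinate of `X` -/
  a : F4
  /-- coordinate of `Y` -/
  b : F4
  /-- coordinate of `Z` -/
  c : F4
  /-- swap -/
  t : Bool
  /-- field automorphism -/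
  s : Bool
  deriving DecidableEq

namespace M

open F4

/-- product -/
def mul (x y : M) : M :=
  match x.t, x.s with
  | false, false => ⟨x.a + y.a, x.b + y.b, x.c + y.c + x.a * y.b, y.t, y.s⟩
  | false, true => ⟨x.a + fr y.a, x.b + fr y.b, x.c + fr y.c + x.a * fr y.b, y.t, !y.s⟩
  | true, false => ⟨x.a + y.b, x.b + y.a, x.c + (y.c + y.a * y.b) + x.a * y.a, !y.t, y.s⟩
  | true, true => ⟨x.a + fr y.b, x.b + fr y.a, x.c + (fr y.c + fr y.a * fr y.b) + x.a * fr y.a,
      !y.t, !y.s⟩

/-- inverse -/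
def inv (x : M) : M :=
  match x.t, x.s with
  | false, false => ⟨x.a, x.b, x.c + x.a * x.b, false, false⟩
  | false, true => ⟨fr x.a, fr x.b, fr (x.c + x.a * x.b), false, true⟩
  | true, false => ⟨x.b, x.a, x.c, true, false⟩
  | true, true => ⟨fr x.b, fr x.a, fr x.c, true, true⟩

/-- identity -/
def one : M := ⟨o, o, o, false, false⟩

instance : Mul M := ⟨mul⟩
instance : Inv M := ⟨inv⟩
instance : One M := ⟨one⟩

instance decForall (p : M → Prop) [DecidablePred p] : Decidable (∀ x, p x) :=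
  decidable_of_iff (∀ a b c : F4, p ⟨a, b, c, false, false⟩ ∧ p ⟨a, b, c, false, true⟩ ∧
      p ⟨a, b, c, true, false⟩ ∧ p ⟨a, b, c, true, true⟩)
    ⟨fun h x => by
      obtain ⟨a, b, c, t, s⟩ := x
      cases t <;> cases s
      · exact (h a b c).1
      · exact (h a b c).2.1
      · exact (h a b c).2.2.1
      · exact (h a b c).2.2.2, fun h a b c => ⟨h _, h _, h _, h _⟩⟩

theorem one_def : (1 : M) = ⟨0, 0, 0, false, false⟩ := rfl

theorem inv_mul_cancel' : ∀ x : M, x⁻¹ * x = 1 := by decide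

theorem one_mul' : ∀ x : M, 1 * x = x := by decide

theorem mul_one' : ∀ x : M, x * 1 = x := by decide

theorem mul_ff (xa xb xc : F4) (y : M) : (⟨xa, xb, xc, false, false⟩ : M) * y =
    ⟨xa + y.a, xb + y.b, xc + y.c + xa * y.b, y.t, y.s⟩ := rfl

theorem mul_ft (xa xb xc : F4) (y : M) : (⟨xa, xb, xc, false, true⟩ : M) * y =
    ⟨xa + fr y.a, xb + fr y.b, xc + fr y.c + xa * fr y.b, y.t, !y.s⟩ := rfl

theorem mul_tf (xa xb xc : F4) (y : M) : (⟨xa, xb, xc, true, false⟩ : M) * y =
    ⟨xa + y.b, xb + y.a, xc + (y.c + y.a * y.b) + xa * y.a, !y.t, y.s⟩ := rfl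

theorem mul_tt (xa xb xc : F4) (y : M) : (⟨xa, xb, xc, true, true⟩ : M) * y =
    ⟨xa + fr y.b, xb + fr y.a, xc + (fr y.c + fr y.a * fr y.b) + xa * fr y.a, !y.t, !y.s⟩ := rfl

protected theorem mul_assoc (x y z : M) : x * y * z = x * (y * z) := by
  obtain ⟨xa, xb, xc, xt, xs⟩ := x
  obtain ⟨ya, yb, yc, yt, ys⟩ := y
  obtain ⟨za, zb, zc, zt, zs⟩ := z
  cases xt <;> cases xs <;> cases yt <;> cases ys <;>
    simp only [mul_ff, mul_ft, mul_tf, mul_tt, M.mk.injEq, fr_add, fr_mul, fr_fr,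
      Bool.not_not, and_true, Bool.not_true, Bool.not_false] <;> refine ⟨?_, ?_, ?_⟩ <;>
    first
    | ring1
    | (linear_combination (-(ya * zb)) * two_eq)
    | (linear_combination (-(ya * fr zb)) * two_eq)
    | (linear_combination (-(fr ya * zb)) * two_eq)
    | (linear_combination (-(fr ya * fr zb)) * two_eq)
    | (linear_combination (-(za * zb + ya * za)) * two_eq)
    | (linear_combination (-(fr za * fr zb + ya * fr za)) * two_eq)
    | (linear_combination (-(fr za * fr zb + fr ya * fr za)) * two_eq)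
    | (linear_combination (-(za * zb + fr ya * za)) * two_eq)

instance : Group M where
  mul_assoc := M.mul_assoc
  one_mul := one_mul'
  mul_one := mul_one'
  inv_mul_cancel := inv_mul_cancel'

/-- listing -/
def equivProd : M ≃ F4 × F4 × F4 × Bool × Bool where
  toFun x := (x.a, x.b, x.c, x.t, x.s)
  invFun y := ⟨y.1, y.2.1, y.2.2.1, y.2.2.2.1, y.2.2.2.2⟩
  left_inv _ := rfl
  right_inv _ := rfl

instance : Fintype M := Fintype.ofEquiv _ equivProd.symm

theorem card_M : Nat.card M = 256 := by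
  rw [Nat.card_congr equivProd]
  simp [Nat.card_eq_fintype_card]
  decide

/-- the element `Z c` -/
abbrev zz (c : F4) : M := ⟨0, 0, c, false, false⟩
/-- the element `X a` -/
abbrev xx (a : F4) : M := ⟨a, 0, 0, false, false⟩
/-- the element `Y b` -/
abbrev yy (b : F4) : M := ⟨0, b, 0, false, false⟩
/-- the swap -/
abbrev τ : M := ⟨0, 0, 0, true, false⟩
/-- the field automorphism -/
abbrev σ : M := ⟨0, 0, 0, false, true⟩

/-- every involution of `T₀ t` is conjugate to `t` -/
theorem invT : ∀ x : M, x * x = 1 → x.t = true → x.s = false →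
    ∃ a b : F4, x = ⟨a, b, 0, false, false⟩ * τ * ⟨a, b, 0, false, false⟩⁻¹ := by decide

/-- every involution of `T₀ s` is conjugate to `s` -/
theorem invS : ∀ x : M, x * x = 1 → x.t = false → x.s = true →
    ∃ a b c : F4, x = ⟨a, b, c, false, false⟩ * σ * ⟨a, b, c, false, false⟩⁻¹ := by decide

/-- involutions of `T₀` -/
theorem invT0 : ∀ x : M, x * x = 1 → x.t = false → x.s = false → x.a = 0 ∨ x.b = 0 := by decide

theorem card_cent_T : Fintype.card {x : M // x * τ = τ * x} = 16 := by decide +kernel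

theorem card_cent_S : Fintype.card {x : M // x * σ = σ * x} = 32 := by decide +kernel

theorem cent_T : ∀ x : M, x.s = false → x * τ = τ * x → x.a = 0 ∧ x.b = 0 := by decide

theorem conj_zz : ∀ (x : M) (c : F4), x * zz c * x⁻¹ = if x.s then zz (fr c) else zz c := by decide

/-- involutions outside `Z₀` have three conjugates under `B₀` -/
theorem three : ∀ x : M, x * x = 1 → ¬ (x.a = 0 ∧ x.b = 0 ∧ x.t = false ∧ x.s = false) →
    ∃ p q : F4, (⟨p, p, 0, false, false⟩ : M) * x * (⟨p, p, 0, false, false⟩ : M)⁻¹ ≠ x ∧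
      (⟨q, q, 0, false, false⟩ : M) * x * (⟨q, q, 0, false, false⟩ : M)⁻¹ ≠ x ∧
      (⟨p, p, 0, false, false⟩ : M) * x * (⟨p, p, 0, false, false⟩ : M)⁻¹ ≠
        (⟨q, q, 0, false, false⟩ : M) * x * (⟨q, q, 0, false, false⟩ : M)⁻¹ := by decide

end M

end Cfsg.Agent.GH.C2Mod
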