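import Cfsg.Agent.SectRankFour.C2.LemmaT

/-!
# GH-C2, LEMMA K

`comm_of_core`: `Y` solvable, `O₂(Y) = 1`, `|Y| = 2^a m` with `m ∣ 315`: a 3-element `y` normalising a
2-subgroup `A` centralises it.

`lemmaK`: `H ≤ G` solvable, `C_H(O₂(H)) ≤ O₂(H)`, sectional 2-rank at most 4; `y ∈ H` a 3-element
normalising the 2-subgroup `A ≤ H`: `[A, y] ≤ O₂(H)`.
-/

set_option autoImplicit false

namespace Cfsg.Agent.GH.C2Odd

open Subgroup Cfsg
open Cfsg.Agent.ZN (o2)
open Cfsg.Agent.MinSimple.MinParabolic Cfsg.Agent.MinSimple.VModule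
open Cfsg.Agent.SectRankFour.C2

section core

variable {Y : Type*} [Group Y] [Finite Y]

/-- The Fitting subgroup of a group with `O₂ = 1` has odd order. -/
theorem odd_card_fitting (h : pCore 2 Y = ⊥) : Odd (Nat.card (fittingSubgroup Y)) := by
  have hf : Fact (Nat.Prime 2) := ⟨Nat.prime_two⟩
  have h2 : fittingSubgroup Y ≤ pPrimeCore 2 Y := by
    rw [Lib.Cores.fittingSubgroup_eq_iSup_pCore]
    refine iSup_le fun p => ?_
    have hp : Fact (p : ℕ).Prime := ⟨p.2⟩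
    by_cases hp2 : (p : ℕ) = 2
    · rw [hp2, h]
      exact bot_le
    · refine Lib.Cores.le_pPrimeCore (Lib.Cores.pCore_normal _) ?_
      obtain ⟨n, hn⟩ := IsPGroup.iff_card.mp (Lib.Cores.pCore_isPGroup (G := Y) (p : ℕ))
      rw [hn]
      exact Nat.Coprime.pow_left n ((Nat.coprime_primes p.2 Nat.prime_two).mpr hp2)
  have h3 : Odd (Nat.card (pPrimeCore 2 Y)) :=
    Nat.coprime_two_right.mp (Lib.Cores.pPrimeCore_coprime 2)
  exact h3.of_dvd_nat (card_dvd_of_le h2)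

/-- A 3-element centralises `O₃(Y)` if `27` does not divide `|Y|`. -/
theorem mem_centralizer_three (h27 : ¬ 27 ∣ Nat.card Y) {y : Y} {k : ℕ} (hy : y ^ 3 ^ k = 1) :
    y ∈ centralizer (pCore 3 Y : Set Y) := by
  have hf3 : Fact (Nat.Prime 3) := ⟨Nat.prime_three⟩
  have n3 : (pCore 3 Y).Normal := Lib.Cores.pCore_normal 3
  have h1 : IsPGroup 3 (zpowers y) := by
    rintro ⟨x, hx⟩
    obtain ⟨n, rfl⟩ := mem_zpowers_iff.mp hx
    refine ⟨k, Subtype.ext ?_⟩
    push_cast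
    rw [← zpow_natCast, ← zpow_mul, mul_comm, zpow_mul]
    push_cast
    have : y ^ ((3 : ℤ) ^ k) = 1 := by exact_mod_cast hy
    rw [this, one_zpow]
  have h2 : IsPGroup 3 (pCore 3 Y ⊔ zpowers y : Subgroup Y) :=
    IsPGroup.to_sup_of_normal_left (Lib.Cores.pCore_isPGroup 3) h1
  obtain ⟨n, hn⟩ := IsPGroup.iff_card.mp h2
  have hn2 : n ≤ 2 := by
    by_contra hcon
    apply h27
    have h3 : 3 ^ 3 ∣ 3 ^ n := pow_dvd_pow 3 (by omega)
    rw [← hn] at h3
    exact (show 27 = 3 ^ 3 by norm_num) ▸ h3.trans (Subgroup.card_subgroup_dvd_card _)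
  have hcomm : ∀ a ∈ (pCore 3 Y ⊔ zpowers y : Subgroup Y), ∀ b ∈ (pCore 3 Y ⊔ zpowers y : Subgroup Y),
      a * b = b * a := by
    intro a ha b hb
    interval_cases n
    · rw [pow_zero] at hn
      have := Subgroup.card_eq_one.mp hn
      rw [this, mem_bot] at ha hb
      rw [ha, hb]
    · rw [pow_one] at hn
      have : IsCyclic (pCore 3 Y ⊔ zpowers y : Subgroup Y) := isCyclic_of_prime_card hn
      exact congrArg Subtype.val ((IsCyclic.commGroup (α := (pCore 3 Y ⊔ zpowers y : Subgroup Y))).mul_comm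
        ⟨a, ha⟩ ⟨b, hb⟩)
    · have := IsPGroup.isMulCommutative_of_card_eq_prime_sq hn
      exact congrArg Subtype.val (this.is_comm.comm (⟨a, ha⟩ : (pCore 3 Y ⊔ zpowers y : Subgroup Y)) ⟨b, hb⟩)
  exact mem_centralizer_iff.mpr fun v hv =>
    hcomm v (mem_sup_left hv) y (mem_sup_right (mem_zpowers y))

/-- **Lemma K**, in the quotient. -/
theorem comm_of_core (hsol : Group.IsSolvable Y) (h2 : pCore 2 Y = ⊥) {a m : ℕ}
    (hcard : Nat.card Y = 2 ^ a * m) (hm : m ∣ 315) {A : Subgroup Y} (hA : IsPGroup 2 A) {y : Y}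
    {k : ℕ} (hy : y ^ 3 ^ k = 1) (hyA : ∀ x ∈ A, y * x * y⁻¹ ∈ A) {x : Y} (hx : x ∈ A) :
    x * y = y * x := by
  classical
  have hf2 : Fact (Nat.Prime 2) := ⟨Nat.prime_two⟩
  have hf3 : Fact (Nat.Prime 3) := ⟨Nat.prime_three⟩
  have hf5 : Fact (Nat.Prime 5) := ⟨Nat.prime_five⟩
  have hf7 : Fact (Nat.Prime 7) := ⟨by norm_num⟩
  have hdvd : Nat.card Y ∣ 2 ^ a * 315 := by rw [hcard]; exact Nat.mul_dvd_mul_left _ hm
  have hcop : ∀ r : ℕ, r.Prime → r ≠ 2 → ∀ k, r ^ k ∣ Nat.card Y → r ^ k ∣ 315 := by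
    intro r hr hr2 k hk
    refine Nat.Coprime.dvd_of_dvd_mul_left ?_ (hk.trans hdvd)
    exact Nat.Coprime.pow _ _ ((Nat.coprime_primes hr Nat.prime_two).mpr hr2)
  have h27 : ¬ 27 ∣ Nat.card Y := by
    intro h
    have h1 := hcop 3 Nat.prime_three (by norm_num) 3 (by norm_num; exact h)
    revert h1; decide
  set F := fittingSubgroup Y with hF
  have hFc : centralizer (F : Set Y) ≤ F := Cfsg.Agent.S0044.result
  have n3 : (pCore 3 Y).Normal := Lib.Cores.pCore_normal 3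
  have n5 : (pCore 5 Y).Normal := Lib.Cores.pCore_normal 5
  have n7 : (pCore 7 Y).Normal := Lib.Cores.pCore_normal 7
  have hcyc : ∀ r : ℕ, r.Prime → r ≠ 2 → ¬ r ^ 2 ∣ 315 → IsCyclic (pCore r Y) := by
    intro r hr hr2 hd
    have hf : Fact r.Prime := ⟨hr⟩
    obtain ⟨k, hk⟩ := IsPGroup.iff_card.mp (Lib.Cores.pCore_isPGroup (G := Y) r)
    have h1 := hcop r hr hr2 k (hk ▸ Subgroup.card_subgroup_dvd_card _)
    have h3 : k ≤ 1 := by
      by_contra h3
      exact hd ((pow_dvd_pow r (by omega)).trans h1)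
    interval_cases k
    · have : Subsingleton (pCore r Y) := (Nat.card_eq_one_iff_unique.mp (by rw [hk, pow_zero])).1
      exact isCyclic_of_subsingleton
    · exact isCyclic_of_prime_card (by rw [hk, pow_one])
  have y3 := mem_centralizer_three h27 hy
  set g := x * y * x⁻¹ * y⁻¹ with hg
  have g3 : g ∈ centralizer (pCore 3 Y : Set Y) := by
    have hn : (centralizer (pCore 3 Y : Set Y)).Normal := inferInstance
    exact mul_mem (hn.conj_mem y y3 x) (inv_mem y3)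
  have g5 : g ∈ centralizer (pCore 5 Y : Set Y) :=
    LemmaT.commutator_mem_centralizer (hcyc 5 Nat.prime_five (by norm_num) (by decide)) x y
  have g7 : g ∈ centralizer (pCore 7 Y : Set Y) :=
    LemmaT.commutator_mem_centralizer (hcyc 7 (by norm_num) (by norm_num) (by decide)) x y
  have gF : g ∈ centralizer (F : Set Y) := by
    have hle : F ≤ centralizer ({g} : Set Y) := by
      rw [hF, Lib.Cores.fittingSubgroup_eq_iSup_pCore]
      refine iSup_le fun p => ?_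
      have hp : Fact (p : ℕ).Prime := ⟨p.2⟩
      intro v hv
      rw [mem_centralizer_singleton_iff]
      by_cases e2 : (p : ℕ) = 2
      · rw [e2, h2, mem_bot] at hv
        rw [hv, one_mul, mul_one]
      by_cases e3 : (p : ℕ) = 3
      · rw [e3] at hv; exact mem_centralizer_iff.mp g3 v hv
      by_cases e5 : (p : ℕ) = 5
      · rw [e5] at hv; exact mem_centralizer_iff.mp g5 v hv
      by_cases e7 : (p : ℕ) = 7
      · rw [e7] at hv; exact mem_centralizer_iff.mp g7 v hv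
      · obtain ⟨k, hk⟩ := IsPGroup.iff_card.mp (Lib.Cores.pCore_isPGroup (G := Y) (p : ℕ))
        have h1 := hcop p p.2 e2 k (hk ▸ Subgroup.card_subgroup_dvd_card _)
        have h3 : k = 0 := by
          by_contra h3
          have h4 : (p : ℕ) ∣ 3 * (3 * (5 * 7)) := (dvd_pow_self _ h3).trans h1
          rcases (Nat.Prime.dvd_mul p.2).mp h4 with h5 | h5
          · exact e3 ((Nat.prime_dvd_prime_iff_eq p.2 Nat.prime_three).mp h5)
          rcases (Nat.Prime.dvd_mul p.2).mp h5 with h5 | h5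
          · exact e3 ((Nat.prime_dvd_prime_iff_eq p.2 Nat.prime_three).mp h5)
          rcases (Nat.Prime.dvd_mul p.2).mp h5 with h5 | h5
          · exact e5 ((Nat.prime_dvd_prime_iff_eq p.2 Nat.prime_five).mp h5)
          · exact e7 ((Nat.prime_dvd_prime_iff_eq p.2 (by norm_num)).mp h5)
        rw [h3, pow_zero] at hk
        rw [Subgroup.card_eq_one.mp hk, mem_bot] at hv
        rw [hv, one_mul, mul_one]
    exact mem_centralizer_iff.mpr fun v hv => mem_centralizer_singleton_iff.mp (hle hv)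
  -- `g` is a 2-element in `F`, hence trivial
  have gA : g ∈ A := by
    have h3 : g = x * (y * x⁻¹ * y⁻¹) := by rw [hg]; group
    rw [h3]
    exact mul_mem hx (hyA _ (inv_mem hx))
  have h3 : g = 1 := by
    have h4 : g ∈ F := hFc gF
    obtain ⟨n, hn⟩ := hA ⟨g, gA⟩
    have hn' : g ^ 2 ^ n = 1 := congrArg Subtype.val hn
    have h5 : orderOf g ∣ 2 ^ n := orderOf_dvd_of_pow_eq_one hn'
    have h6 : orderOf g ∣ Nat.card F := by
      have := orderOf_dvd_natCard (⟨g, h4⟩ : F)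
      rwa [Subgroup.orderOf_mk] at this
    have h7 : (Nat.card F).Coprime (2 ^ n) :=
      Nat.Coprime.pow_right _ (Nat.coprime_two_right.mpr (odd_card_fitting h2))
    exact orderOf_eq_one_iff.mp (Nat.eq_one_of_dvd_coprimes h7 h6 h5)
  rw [hg, mul_inv_eq_one, mul_inv_eq_iff_eq_mul] at h3
  exact h3

end core

universe u

variable {G : Type u} [Group G] [Finite G]

/-- The order of `X / O₂(X)`. -/
theorem card_quot (hr : SectionalPRankLE 2 4 G) {T X : Subgroup G} (hT : IsPGroup 2 T)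
    (hsyl : ¬ 2 ∣ T.relIndex X) (hc : X ⊓ centralizer (o2 X : Set G) ≤ o2 X) :
    ∃ a m, Nat.card (X ⧸ pCore 2 X) = 2 ^ a * m ∧ m ∣ 315 := by
  have h2 : Fact (Nat.Prime 2) := ⟨Nat.prime_two⟩
  have hd := Par.relIndex_dvd hr hT hsyl hc
  set Q : Subgroup X := pCore 2 X with hQ
  have hQn : Q.Normal := Lib.Cores.pCore_normal 2
  have hQS : Q ≤ T.subgroupOf X := by
    intro x hx
    exact mem_subgroupOf.mpr (o2_le_of_sylow hT hsyl ⟨x, hx, rfl⟩)
  have h1 : Q.relIndex (T.subgroupOf X) * (T.subgroupOf X).index = Q.index :=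
    Subgroup.relIndex_mul_index hQS
  have hp : IsPGroup 2 (T.subgroupOf X) := hT.comap_of_injective _ X.subtype_injective
  obtain ⟨n, hn⟩ := IsPGroup.iff_card.mp hp
  have h3 : Q.relIndex (T.subgroupOf X) ∣ 2 ^ n := by
    rw [← hn]; exact Subgroup.relIndex_dvd_card _ _
  obtain ⟨a, -, ha⟩ := (Nat.dvd_prime_pow Nat.prime_two).mp h3
  refine ⟨a, T.relIndex X, ?_, hd⟩
  rw [← Subgroup.index_eq_card, ← h1, ha]
  rfl

/-- **Lemma K**. -/
theorem lemmaK (hr : SectionalPRankLE 2 4 G) {T H : Subgroup G} (hT : IsPGroup 2 T)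
    (hsyl : ¬ 2 ∣ T.relIndex H) (hsol : Group.IsSolvable H)
    (hc : H ⊓ centralizer (o2 H : Set G) ≤ o2 H) {A : Subgroup G} (hA : IsPGroup 2 A) (hAH : A ≤ H)
    {y : G} (hyH : y ∈ H) {k : ℕ} (hy : y ^ 3 ^ k = 1) (hyA : ∀ x ∈ A, y * x * y⁻¹ ∈ A) {x : G}
    (hx : x ∈ A) : x * y * x⁻¹ * y⁻¹ ∈ o2 H := by
  have h2 : Fact (Nat.Prime 2) := ⟨Nat.prime_two⟩
  obtain ⟨a, m, hcard, hm⟩ := card_quot hr hT hsyl hc
  have hQn : (pCore 2 H).Normal := Lib.Cores.pCore_normal 2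
  have hsol' : Group.IsSolvable (H ⧸ pCore 2 H) := inferInstance
  set π := QuotientGroup.mk' (pCore 2 H) with hπ
  have hA' : IsPGroup 2 ((A.subgroupOf H).map π) := (hA.comap_of_injective _ H.subtype_injective).map π
  have hy' : (π ⟨y, hyH⟩) ^ 3 ^ k = 1 := by
    rw [← map_pow]
    have : (⟨y, hyH⟩ : H) ^ 3 ^ k = 1 := Subtype.ext (by push_cast; exact hy)
    rw [this, map_one]
  have hyA' : ∀ w ∈ (A.subgroupOf H).map π, π ⟨y, hyH⟩ * w * (π ⟨y, hyH⟩)⁻¹ ∈ (A.subgroupOf H).map π := by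
    rintro _ ⟨w, hw, rfl⟩
    exact ⟨⟨y, hyH⟩ * w * ⟨y, hyH⟩⁻¹, mem_subgroupOf.mpr (by
      push_cast
      exact hyA _ (mem_subgroupOf.mp hw)), by rw [map_mul, map_mul, map_inv]⟩
  have h3 := comm_of_core hsol' (Lib.Cores.pCore_quotient_pCore 2) hcard hm hA' hy' hyA'
    (x := π ⟨x, hAH hx⟩) ⟨⟨x, hAH hx⟩, mem_subgroupOf.mpr hx, rfl⟩
  refine ⟨⟨x, hAH hx⟩ * ⟨y, hyH⟩ * ⟨x, hAH hx⟩⁻¹ * ⟨y, hyH⟩⁻¹, ?_, by simp⟩
  show _ ∈ pCore 2 H
  rw [← QuotientGroup.eq_one_iff]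
  show π _ = 1
  rw [map_mul, map_mul, map_mul, map_inv, map_inv, h3]
  group

end Cfsg.Agent.GH.C2Odd
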