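import Cfsg.Agent.GH.C2RankMat
import Cfsg.Agent.GH.C2Five

/-!
# GH-C2 (T3): `4³.L₃(2)` has sectional 2-rank at least 5 (any extension)
-/

set_option autoImplicit false
set_option maxHeartbeats 800000

namespace Cfsg.Agent.GH.C2RankFour

open Subgroup Cfsg.Agent.TwoFusion.SectionalRank Cfsg.Agent.GH.C2Base Cfsg.Agent.GH.C2Five

/-- the coordinate space -/
abbrev V := Fin 3 → ZMod 4

/-- A chart `(ℤ/4)³ ≃ P` of a normal subgroup. -/
structure Chart {X : Type*} [Group X] (P : Subgroup X) (t : V → X) : Prop where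
  add : ∀ u v, t (u + v) = t u * t v
  inj : Function.Injective t
  mem : ∀ x, x ∈ P ↔ ∃ u, t u = x
  norm : ∀ x, ∀ p ∈ P, x * p * x⁻¹ ∈ P

namespace Chart

variable {X : Type*} [Group X] {P : Subgroup X} {t : V → X} (h : Chart P t)

include h

theorem mem_t (u : V) : t u ∈ P := (h.mem _).mpr ⟨u, rfl⟩

theorem zero : t 0 = 1 := by
  have := h.add 0 0
  rw [add_zero] at this
  exact left_eq_mul.mp this

theorem neg (u : V) : t (-u) = (t u)⁻¹ := by
  rw [eq_inv_iff_mul_eq_one, ← h.add, neg_add_cancel, h.zero]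

theorem comm (u v : V) : t u * t v = t v * t u := by
  rw [← h.add, add_comm, h.add]

theorem comm' {p q : X} (hp : p ∈ P) (hq : q ∈ P) : p * q = q * p := by
  obtain ⟨u, rfl⟩ := (h.mem p).mp hp
  obtain ⟨v, rfl⟩ := (h.mem q).mp hq
  exact h.comm u v

theorem exists_act (x : X) (u : V) : ∃ w, t w = x * t u * x⁻¹ :=
  (h.mem _).mp (h.norm x _ (h.mem_t u))

/-- the action on coordinates -/
noncomputable def act (x : X) : V →ₗ[ZMod 4] V :=
  AddMonoidHom.toZModLinearMap 4 (AddMonoidHom.mk' (fun u => (h.exists_act x u).choose)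
    (fun u v => h.inj (by
      rw [(h.exists_act x (u + v)).choose_spec, h.add, h.add, (h.exists_act x u).choose_spec,
        (h.exists_act x v).choose_spec]
      group)))

theorem t_act (x : X) (u : V) : t (h.act x u) = x * t u * x⁻¹ :=
  (h.exists_act x u).choose_spec

theorem act_eq {x : X} {u w : V} (e : x * t u * x⁻¹ = t w) : h.act x u = w :=
  h.inj (by rw [h.t_act, e])

theorem act_mul (x y : X) (u : V) : h.act (x * y) u = h.act x (h.act y u) :=
  h.act_eq (by rw [h.t_act, h.t_act]; group)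

theorem act_one (u : V) : h.act 1 u = u := h.act_eq (by group)

theorem act_inv (x : X) (u : V) : h.act x⁻¹ (h.act x u) = u := by
  rw [← h.act_mul, inv_mul_cancel, h.act_one]

theorem act_of_mem {p : X} (hp : p ∈ P) (u : V) : h.act p u = u :=
  h.act_eq (by rw [h.comm' hp (h.mem_t u)]; group)

/-- the action as a homomorphism -/
noncomputable def actHom : X →* (V →ₗ[ZMod 4] V) where
  toFun := h.act
  map_one' := LinearMap.ext fun u => h.act_one u
  map_mul' x y := LinearMap.ext fun u => h.act_mul x y u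

theorem det_eq_one (hperf : commutator X = ⊤) (x : X) : LinearMap.det (h.act x) = 1 := by
  let f : X →* (ZMod 4)ˣ := ((LinearMap.det : (V →ₗ[ZMod 4] V) →* ZMod 4).comp h.actHom).toHomUnits
  have h1 : commutator X ≤ f.ker := Abelianization.commutator_subset_ker f
  rw [hperf] at h1
  have h2 : f x = 1 := h1 (mem_top x)
  have h3 := congrArg Units.val h2
  exact h3

end Chart

/-- coordinates as a triple -/
def toT (u : V) : C2RankMat.T := (u 0, u 1, u 2)

theorem toT_inj : Function.Injective toT := by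
  intro u v huv
  simp only [toT, Prod.mk.injEq] at huv
  funext i
  fin_cases i
  · exact huv.1
  · exact huv.2.1
  · exact huv.2.2

/-- the `i`-th row of a linear map -/
noncomputable def row (f : V →ₗ[ZMod 4] V) (i : Fin 3) : C2RankMat.T :=
  (f ![1, 0, 0] i, f ![0, 1, 0] i, f ![0, 0, 1] i)

theorem vec_eq (u : V) : u = u 0 • ![1, 0, 0] + u 1 • ![0, 1, 0] + u 2 • ![0, 0, 1] := by
  funext i
  fin_cases i <;> simp

theorem toT_apply (f : V →ₗ[ZMod 4] V) (u : V) :
    toT (f u) = C2RankMat.ap (row f 0) (row f 1) (row f 2) (toT u) := by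
  have h1 : ∀ i, f u i = C2RankMat.dot (f ![1, 0, 0] i) (f ![0, 1, 0] i) (f ![0, 0, 1] i) (u 0) (u 1) (u 2) := by
    intro i
    conv_lhs => rw [vec_eq u]
    rw [map_add, map_add, map_smul, map_smul, map_smul]
    simp only [Pi.add_apply, Pi.smul_apply, smul_eq_mul, C2RankMat.dot]
    ring
  simp only [toT, C2RankMat.ap, row, h1]

theorem det_eq (f : V →ₗ[ZMod 4] V) :
    LinearMap.det f = C2RankMat.det (row f 0) (row f 1) (row f 2) := by
  rw [← LinearMap.det_toMatrix', Matrix.det_fin_three]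
  have e0 : (Pi.single 0 1 : V) = ![1, 0, 0] := by funext i; fin_cases i <;> rfl
  have e1 : (Pi.single 1 1 : V) = ![0, 1, 0] := by funext i; fin_cases i <;> rfl
  have e2 : (Pi.single 2 1 : V) = ![0, 0, 1] := by funext i; fin_cases i <;> rfl
  simp only [LinearMap.toMatrix'_apply, e0, e1, e2, C2RankMat.det, row]
  ring

theorem main_mat (f : V →ₗ[ZMod 4] V) (hdet : LinearMap.det f = 1)
    (h1 : f ![2, 0, 0] = ![2, 0, 0]) (h2 : f ![0, 2, 0] = ![2, 2, 0]) (h3 : f ![0, 0, 2] = ![0, 2, 2])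
    (h4 : ∀ u, f (f (f (f u))) = u) :
    (f (f ![1, 0, 0]) = ![1, 0, 0] ∨ f (f ![1, 0, 0]) = ![3, 0, 0]) ∧
      ∀ u, f u = u → u = 0 ∨ u = ![2, 0, 0] ∨ u = ![0, 0, 1] + f (f ![0, 0, 1]) ∨
        u = -(![0, 0, 1] + f (f ![0, 0, 1])) := by
  have k1 : ∀ i, 2 * f ![1, 0, 0] i = 2 * (![1, 0, 0] : V) i := by
    intro i
    have e : (![2, 0, 0] : V) = (2 : ZMod 4) • ![1, 0, 0] := by decide
    rw [e, map_smul] at h1
    have := congrFun h1 i
    simpa using this
  have k2 : ∀ i, 2 * f ![0, 1, 0] i = 2 * (![1, 1, 0] : V) i := by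
    intro i
    have e : (![0, 2, 0] : V) = (2 : ZMod 4) • ![0, 1, 0] := by decide
    have e' : (![2, 2, 0] : V) = (2 : ZMod 4) • ![1, 1, 0] := by decide
    rw [e, e', map_smul] at h2
    have := congrFun h2 i
    simpa using this
  have k3 : ∀ i, 2 * f ![0, 0, 1] i = 2 * (![0, 1, 1] : V) i := by
    intro i
    have e : (![0, 0, 2] : V) = (2 : ZMod 4) • ![0, 0, 1] := by decide
    have e' : (![0, 2, 2] : V) = (2 : ZMod 4) • ![0, 1, 1] := by decide
    rw [e, e', map_smul] at h3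
    have := congrFun h3 i
    simpa using this
  obtain ⟨a1, b1⟩ := C2RankMat.exists_tw _ _ (k1 0)
  obtain ⟨a4, b4⟩ := C2RankMat.exists_tw _ _ (k1 1)
  obtain ⟨a7, b7⟩ := C2RankMat.exists_tw _ _ (k1 2)
  obtain ⟨a2, b2⟩ := C2RankMat.exists_tw _ _ (k2 0)
  obtain ⟨a5, b5⟩ := C2RankMat.exists_tw _ _ (k2 1)
  obtain ⟨a8, b8⟩ := C2RankMat.exists_tw _ _ (k2 2)
  obtain ⟨a3, b3⟩ := C2RankMat.exists_tw _ _ (k3 0)
  obtain ⟨a6, b6⟩ := C2RankMat.exists_tw _ _ (k3 1)
  obtain ⟨a9, b9⟩ := C2RankMat.exists_tw _ _ (k3 2)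
  have r0 : row f 0 = (C2RankMat.tw 1 a1, C2RankMat.tw 1 a2, C2RankMat.tw 0 a3) := by
    simp only [row, b1, b2, b3]; rfl
  have r1 : row f 1 = (C2RankMat.tw 0 a4, C2RankMat.tw 1 a5, C2RankMat.tw 1 a6) := by
    simp only [row, b4, b5, b6]; rfl
  have r2 : row f 2 = (C2RankMat.tw 0 a7, C2RankMat.tw 0 a8, C2RankMat.tw 1 a9) := by
    simp only [row, b7, b8, b9]; rfl
  have key := C2RankMat.all_good a1 a2 a3 a4 a5 a6 a7 a8 a9
  rw [← r0, ← r1, ← r2] at key
  have hap : ∀ u : V, C2RankMat.ap (row f 0) (row f 1) (row f 2) (toT u) = toT (f u) := fun u =>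
    (toT_apply f u).symm
  have t1 : ((1, 0, 0) : C2RankMat.T) = toT ![1, 0, 0] := rfl
  have t2 : ((0, 1, 0) : C2RankMat.T) = toT ![0, 1, 0] := rfl
  have t3 : ((0, 0, 1) : C2RankMat.T) = toT ![0, 0, 1] := rfl
  have t4 : ((3, 0, 0) : C2RankMat.T) = toT ![3, 0, 0] := rfl
  have t5 : ((2, 0, 0) : C2RankMat.T) = toT ![2, 0, 0] := rfl
  have t0 : ((0, 0, 0) : C2RankMat.T) = toT 0 := rfl
  have tadd : ∀ u v : V, toT u + toT v = toT (u + v) := fun u v => rfl
  have tneg : ∀ u : V, - toT u = toT (-u) := fun u => rfl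
  have key' := key (by rw [← det_eq, hdet])
    (by rw [t1, hap, hap, hap, hap, h4]) (by rw [t2, hap, hap, hap, hap, h4])
    (by rw [t3, hap, hap, hap, hap, h4])
  refine ⟨?_, ?_⟩
  · rcases key'.1 with e | e
    · left
      rw [t1, hap, hap] at e
      exact toT_inj e
    · right
      rw [t1, hap, hap, t4] at e
      exact toT_inj e
  · intro u hu
    have hu' : ((u 0, u 1, u 2) : C2RankMat.T) = toT u := rfl
    have := key'.2 (u 0) (u 1) (u 2) (by rw [hu', hap, hu])
    rw [hu', t0, t5, t3, hap, hap, tadd, tneg] at this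
    rcases this with e | e | e | e
    · exact Or.inl (toT_inj e)
    · exact Or.inr (Or.inl (toT_inj e))
    · exact Or.inr (Or.inr (Or.inl (toT_inj e)))
    · exact Or.inr (Or.inr (Or.inr (toT_inj e)))

end Cfsg.Agent.GH.C2RankFour
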