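import Cfsg.Agent.GH.C2RankFour

/-!
# GH-C2 (T3): `4³.L₃(2)` has sectional 2-rank at least 5 (any extension): the group part
-/

set_option autoImplicit false
set_option maxHeartbeats 1000000

namespace Cfsg.Agent.GH.C2RankFour

open Subgroup Cfsg.Agent.TwoFusion.SectionalRank Cfsg.Agent.GH.C2Base Cfsg.Agent.GH.C2Five

/-- The variant of `exists_ext` with the description of the elements. -/
theorem exists_ext' {X : Type*} [Group X] [Finite X] {Y N : Subgroup X} (h : ElemSection 2 Y N) {b : X}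
    (hbb : b * b ∈ N) (hby : ∀ y ∈ Y, b * y * b⁻¹ * y⁻¹ ∈ N) (hbY : b ∉ Y) :
    ∃ Z : Subgroup X, ElemSection 2 Z N ∧ Y ≤ Z ∧ b ∈ Z ∧ Nat.card Z = 2 * Nat.card Y ∧
      ∀ z ∈ Z, z ∈ Y ∨ b⁻¹ * z ∈ Y := by
  obtain ⟨Z, h1, h2, h3, h4⟩ := exists_ext h hbb hby hbY
  refine ⟨Z, h1, h2, h3, h4, fun z hz => ?_⟩
  have h5 : Y.relIndex Z = 2 := by
    have h6 := card_eq_relIndex_mul Z Y h2
    have h7 : 0 < Nat.card Y := Nat.card_pos
    rw [h4] at h6
    exact (Nat.eq_of_mul_eq_mul_right h7 h6).symm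
  have h6 := Subgroup.mul_mem_iff_of_index_two (H := Y.subgroupOf Z) h5
    (a := (⟨b, h3⟩ : Z)⁻¹) (b := ⟨z, hz⟩)
  rw [inv_mem_iff, mem_subgroupOf, mem_subgroupOf, mem_subgroupOf] at h6
  by_cases h7 : z ∈ Y
  · exact Or.inl h7
  · exact Or.inr (h6.mpr (iff_of_false hbY h7))

/-- The image of an additive subgroup of the coordinate space. -/
def Chart.sub {X : Type*} [Group X] {P : Subgroup X} {t : V → X} (h : Chart P t) (S : AddSubgroup V) :
    Subgroup X where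
  carrier := {x | ∃ u ∈ S, t u = x}
  one_mem' := ⟨0, S.zero_mem, h.zero⟩
  mul_mem' := by
    rintro _ _ ⟨u, hu, rfl⟩ ⟨v, hv, rfl⟩
    exact ⟨u + v, S.add_mem hu hv, h.add u v⟩
  inv_mem' := by
    rintro _ ⟨u, hu, rfl⟩
    exact ⟨-u, S.neg_mem hu, h.neg u⟩

namespace Chart

variable {X : Type*} [Group X] {P : Subgroup X} {t : V → X} (h : Chart P t)

theorem mem_sub {S : AddSubgroup V} {x : X} : x ∈ h.sub S ↔ ∃ u ∈ S, t u = x := Iff.rfl

theorem t_mem_sub {S : AddSubgroup V} {u : V} : t u ∈ h.sub S ↔ u ∈ S := by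
  constructor
  · rintro ⟨v, hv, e⟩
    rwa [← h.inj e]
  · exact fun hu => ⟨u, hu, rfl⟩

theorem sub_le (S : AddSubgroup V) : h.sub S ≤ P := by
  rintro _ ⟨u, -, rfl⟩
  exact h.mem_t u

theorem card_sub (S : AddSubgroup V) : Nat.card (h.sub S) = Nat.card S := by
  refine (Nat.card_congr (Equiv.ofBijective (fun u : S => (⟨t u, u, u.2, rfl⟩ : h.sub S)) ⟨?_, ?_⟩)).symm
  · intro u v e
    exact Subtype.ext (h.inj (congrArg Subtype.val e))
  · rintro ⟨_, u, hu, rfl⟩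
    exact ⟨⟨u, hu⟩, rfl⟩

end Chart

/-- `N₀ = {0, 2e₁}` -/
def SN : AddSubgroup V where
  carrier := {u | (u 0) * 2 = 0 ∧ u 1 = 0 ∧ u 2 = 0}
  zero_mem' := by decide
  add_mem' := by
    rintro a b ⟨h1, h2, h3⟩ ⟨h4, h5, h6⟩
    refine ⟨?_, ?_, ?_⟩
    · show (a 0 + b 0) * 2 = 0
      rw [add_mul, h1, h4, add_zero]
    · show a 1 + b 1 = 0
      rw [h2, h5, add_zero]
    · show a 2 + b 2 = 0
      rw [h3, h6, add_zero]
  neg_mem' := by
    rintro a ⟨h1, h2, h3⟩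
    refine ⟨?_, ?_, ?_⟩
    · show (-a 0) * 2 = 0
      rw [neg_mul, h1, neg_zero]
    · show - a 1 = 0
      rw [h2, neg_zero]
    · show - a 2 = 0
      rw [h3, neg_zero]

/-- `R = {u | 2u ∈ {0, 2e₁}}` -/
def SR : AddSubgroup V where
  carrier := {u | (u 1) * 2 = 0 ∧ (u 2) * 2 = 0}
  zero_mem' := by decide
  add_mem' := by
    rintro a b ⟨h1, h2⟩ ⟨h4, h5⟩
    refine ⟨?_, ?_⟩
    · show (a 1 + b 1) * 2 = 0
      rw [add_mul, h1, h4, add_zero]
    · show (a 2 + b 2) * 2 = 0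
      rw [add_mul, h2, h5, add_zero]
  neg_mem' := by
    rintro a ⟨h1, h2⟩
    refine ⟨?_, ?_⟩
    · show (-a 1) * 2 = 0
      rw [neg_mul, h1, neg_zero]
    · show (-a 2) * 2 = 0
      rw [neg_mul, h2, neg_zero]

theorem mem_SN {u : V} : u ∈ SN ↔ (u 0) * 2 = 0 ∧ u 1 = 0 ∧ u 2 = 0 := Iff.rfl
theorem mem_SR {u : V} : u ∈ SR ↔ (u 1) * 2 = 0 ∧ (u 2) * 2 = 0 := Iff.rfl

instance : DecidablePred (· ∈ SN) := fun u => inferInstanceAs (Decidable ((u 0) * 2 = 0 ∧ u 1 = 0 ∧ u 2 = 0))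
instance : DecidablePred (· ∈ SR) := fun u => inferInstanceAs (Decidable ((u 1) * 2 = 0 ∧ (u 2) * 2 = 0))

theorem card_SN : Nat.card SN = 2 := by
  rw [Nat.card_eq_fintype_card]
  decide +kernel

theorem card_SR : Nat.card SR = 16 := by
  rw [Nat.card_eq_fintype_card]
  decide +kernel

theorem SN_iff (u : V) : u ∈ SN ↔ u = 0 ∨ u = ![2, 0, 0] := by
  constructor
  · rintro ⟨h1, h2, h3⟩
    have h4 : ∀ a : ZMod 4, a * 2 = 0 → a = 0 ∨ a = 2 := by decide
    rcases h4 _ h1 with e | e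
    · left
      funext i
      fin_cases i
      · exact e
      · exact h2
      · exact h3
    · right
      funext i
      fin_cases i
      · exact e
      · exact h2
      · exact h3
  · rintro (rfl | rfl)
    · exact SN.zero_mem
    · decide

/-- The data of the theorem. -/
structure Data {X : Type*} [Group X] (P : Subgroup X) (t : V → X) (c r : X) : Prop extends Chart P t where
  perf : commutator X = ⊤
  ker : ∀ x, x * t ![2, 0, 0] = t ![2, 0, 0] * x → x * t ![0, 2, 0] = t ![0, 2, 0] * x →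
    x * t ![0, 0, 2] = t ![0, 0, 2] * x → x ∈ P
  c1 : c * t ![2, 0, 0] * c⁻¹ = t ![2, 0, 0]
  c2 : c * t ![0, 2, 0] * c⁻¹ = t ![2, 2, 0]
  c3 : c * t ![0, 0, 2] * c⁻¹ = t ![0, 2, 2]
  r1 : r * t ![2, 0, 0] * r⁻¹ = t ![2, 0, 0]
  r2 : r * t ![0, 2, 0] * r⁻¹ = t ![0, 0, 2]
  r3 : r * t ![0, 0, 2] * r⁻¹ = t ![0, 2, 2]

namespace Data

variable {X : Type*} [Group X] {P : Subgroup X} {t : V → X} {c r : X} (h : Data P t c r)

include h

/-- membership in `P` from the action on `2V` -/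
theorem mem_of_act {x : X} (h1 : h.act x ![2, 0, 0] = ![2, 0, 0]) (h2 : h.act x ![0, 2, 0] = ![0, 2, 0])
    (h3 : h.act x ![0, 0, 2] = ![0, 0, 2]) : x ∈ P := by
  have k : ∀ u, h.act x u = u → x * t u = t u * x := fun u hu => by
    have := h.t_act x u
    rw [hu] at this
    exact (eq_mul_inv_iff_mul_eq.mp this).symm
  exact h.ker x (k _ h1) (k _ h2) (k _ h3)

theorem ac1 : h.act c ![2, 0, 0] = ![2, 0, 0] := h.act_eq h.c1
theorem ac2 : h.act c ![0, 2, 0] = ![2, 2, 0] := h.act_eq h.c2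
theorem ac3 : h.act c ![0, 0, 2] = ![0, 2, 2] := h.act_eq h.c3
theorem ar1 : h.act r ![2, 0, 0] = ![2, 0, 0] := h.act_eq h.r1
theorem ar2 : h.act r ![0, 2, 0] = ![0, 0, 2] := h.act_eq h.r2
theorem ar3 : h.act r ![0, 0, 2] = ![0, 2, 2] := h.act_eq h.r3

theorem acc2 : h.act c (h.act c ![0, 2, 0]) = ![0, 2, 0] := by
  have e : (![2, 2, 0] : V) = ![2, 0, 0] + ![0, 2, 0] := by decide
  rw [h.ac2, e, map_add, h.ac1, h.ac2]
  decide

theorem acc3 : h.act c (h.act c ![0, 0, 2]) = ![2, 0, 2] := by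
  have e : (![0, 2, 2] : V) = ![0, 2, 0] + ![0, 0, 2] := by decide
  rw [h.ac3, e, map_add, h.ac2, h.ac3]
  decide

theorem c4_mem : c * (c * (c * c)) ∈ P := by
  apply h.mem_of_act
  · rw [h.act_mul, h.act_mul, h.act_mul, h.ac1, h.ac1, h.ac1, h.ac1]
  · rw [h.act_mul, h.act_mul, h.act_mul, h.acc2, h.acc2]
  · have e : (![2, 0, 2] : V) = ![2, 0, 0] + ![0, 0, 2] := by decide
    rw [h.act_mul, h.act_mul, h.act_mul, h.acc3, e, map_add, map_add, h.ac1, h.ac1, h.acc3]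
    decide

theorem act4 (u : V) : h.act c (h.act c (h.act c (h.act c u))) = u := by
  rw [← h.act_mul, ← h.act_mul, ← h.act_mul]
  have e : c * c * c * c = c * (c * (c * c)) := by group
  rw [e]
  exact h.act_of_mem h.c4_mem u

/-- the element `x` over the transvection `a = c²` with `x² ∈ ⟨e⟩` -/
theorem exists_x : ∃ x : X, (∀ u, h.act x u = h.act c (h.act c u)) ∧ x * x ∈ h.sub SN := by
  obtain ⟨f, hf⟩ := (h.mem _).mp h.c4_mem
  have hfix : h.act c f = f := h.act_eq (by rw [hf]; group)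
  have hm := (main_mat (h.act c) (h.det_eq_one h.perf c) h.ac1 h.ac2 h.ac3 h.act4).2 f hfix
  -- the lift `t u c²`
  have key : ∀ w : V, w + h.act c (h.act c w) + f ∈ SN →
      ∃ x : X, (∀ u, h.act x u = h.act c (h.act c u)) ∧ x * x ∈ h.sub SN := by
    intro w hw
    refine ⟨t w * (c * c), fun u => ?_, ?_⟩
    · rw [h.act_mul, h.act_of_mem (h.mem_t w), h.act_mul]
    · have e : t w * (c * c) * (t w * (c * c)) = t (w + h.act c (h.act c w) + f) := by
        rw [h.add, h.add, h.t_act, h.t_act, hf]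
        simp only [mul_assoc, inv_mul_cancel_left]
      rw [e]
      exact h.t_mem_sub.mpr hw
  rcases hm with e | e | e | e
  · exact key 0 (by rw [e, map_zero, map_zero]; exact SN.zero_mem)
  · exact key 0 (by rw [e, map_zero, map_zero]; decide)
  · refine key (-![0, 0, 1]) ?_
    rw [e, map_neg, map_neg, ← neg_add, neg_add_cancel]
    exact SN.zero_mem
  · refine key (![0, 0, 1]) ?_
    rw [e, add_neg_cancel]
    exact SN.zero_mem

/-- `[R, x] ≤ ⟨e⟩` in coordinates -/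
theorem act_SR {x : X} (hx : ∀ u, h.act x u = h.act c (h.act c u)) {u : V} (hu : u ∈ SR) :
    h.act x u + -u ∈ SN := by
  have hm := (main_mat (h.act c) (h.det_eq_one h.perf c) h.ac1 h.ac2 h.ac3 h.act4).1
  have h2 : ∀ a : ZMod 4, a * 2 = 0 → a = 0 ∨ a = 2 := by decide
  obtain ⟨hu1, hu2⟩ := hu
  rw [hx]
  have hdec : u = u 0 • ![1, 0, 0] + (![0, u 1, 0] + ![0, 0, u 2]) := by
    funext i
    fin_cases i <;> simp
  have e1 : h.act c (h.act c ![0, u 1, 0]) = ![0, u 1, 0] := by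
    rcases h2 _ hu1 with e | e <;> rw [e]
    · have e' : (![0, 0, 0] : V) = 0 := by decide
      rw [e', map_zero, map_zero]
    · exact h.acc2
  have e2 : h.act c (h.act c ![0, 0, u 2]) = ![u 2, 0, u 2] := by
    rcases h2 _ hu2 with e | e <;> rw [e]
    · have e' : (![0, 0, 0] : V) = 0 := by decide
      rw [e', map_zero, map_zero]
    · exact h.acc3
  rw [hdec, map_add, map_add, map_add, map_add, map_smul, map_smul, e1, e2]
  rcases hm with e | e <;> rw [e, mem_SN]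
  · refine ⟨?_, ?_, ?_⟩
    · simp only [Pi.add_apply, Pi.neg_apply, Pi.smul_apply, Matrix.cons_val_zero, smul_eq_mul]
      have := hu2
      ring_nf
      ring_nf at this
      exact this
    · simp
    · simp
  · refine ⟨?_, ?_, ?_⟩
    · simp only [Pi.add_apply, Pi.neg_apply, Pi.smul_apply, Matrix.cons_val_zero, smul_eq_mul]
      have h5 : ∀ a b : ZMod 4, b * 2 = 0 → (a * 3 + (0 + b) + -(a * 1 + (0 + 0))) * 2 = 0 := by decide
      exact h5 _ _ hu2
    · simp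
    · simp

/-- The properties of the elements over the transvections. -/
structure Good (g : X) : Prop where
  cen : ∀ n ∈ h.sub SN, g * n * g⁻¹ = n
  sq : g * g ∈ h.sub SN
  comm : ∀ y ∈ h.sub SR, g * y * g⁻¹ * y⁻¹ ∈ h.sub SN
  mem : ∀ p ∈ P, g * p * g⁻¹ * p⁻¹ ∈ h.sub SR

theorem cen_of {g : X} (hg : h.act g ![2, 0, 0] = ![2, 0, 0]) : ∀ n ∈ h.sub SN, g * n * g⁻¹ = n := by
  rintro _ ⟨u, hu, rfl⟩
  rw [← h.t_act]
  rcases (SN_iff u).mp hu with rfl | rfl
  · rw [map_zero]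
  · rw [hg]

theorem r_SR {y : X} (hy : y ∈ h.sub SR) : r * y * r⁻¹ ∈ h.sub SR ∧ r⁻¹ * y * r ∈ h.sub SR := by
  -- `y ∈ R ↔ y ∈ P ∧ y² ∈ N`
  have key : ∀ u : V, u ∈ SR ↔ u + u ∈ SN := by
    intro u
    rw [mem_SR, mem_SN]
    have h1 : ∀ a b c : ZMod 4, (b * 2 = 0 ∧ c * 2 = 0) ↔ ((a + a) * 2 = 0 ∧ b + b = 0 ∧ c + c = 0) := by
      decide
    exact h1 (u 0) (u 1) (u 2)
  have key2 : ∀ x : X, x ∈ h.sub SR ↔ x ∈ P ∧ x * x ∈ h.sub SN := by
    intro x
    constructor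
    · rintro ⟨u, hu, rfl⟩
      exact ⟨h.mem_t u, by rw [← h.add, h.t_mem_sub]; exact (key u).mp hu⟩
    · rintro ⟨hx, hx2⟩
      obtain ⟨u, rfl⟩ := (h.mem x).mp hx
      rw [← h.add, h.t_mem_sub] at hx2
      exact h.t_mem_sub.mpr ((key u).mpr hx2)
  have hr := h.cen_of h.ar1
  obtain ⟨h1, h2⟩ := (key2 y).mp hy
  constructor
  · rw [key2]
    refine ⟨h.norm r y h1, ?_⟩
    have e : r * y * r⁻¹ * (r * y * r⁻¹) = r * (y * y) * r⁻¹ := by group
    rw [e, hr _ h2]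
    exact h2
  · rw [key2]
    refine ⟨?_, ?_⟩
    · have := h.norm r⁻¹ y h1
      rwa [inv_inv] at this
    · have e : r⁻¹ * y * r * (r⁻¹ * y * r) = r⁻¹ * (y * y) * r := by group
      rw [e]
      have h3 := hr _ h2
      have h4 : r⁻¹ * (y * y) * r = y * y := by
        conv_lhs => rw [← h3]
        group
      rw [h4]
      exact h2

theorem good_conj {g : X} (hg : h.Good g) : h.Good (r * g * r⁻¹) := by
  have hr := h.cen_of h.ar1
  have hr' : ∀ n ∈ h.sub SN, r⁻¹ * n * r = n := fun n hn => by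
    conv_lhs => rw [← hr n hn]
    group
  constructor
  · intro n hn
    have e : r * g * r⁻¹ * n * (r * g * r⁻¹)⁻¹ = r * (g * (r⁻¹ * n * r) * g⁻¹) * r⁻¹ := by group
    rw [e, hr' n hn, hg.cen n hn, hr n hn]
  · have e : r * g * r⁻¹ * (r * g * r⁻¹) = r * (g * g) * r⁻¹ := by group
    rw [e, hr _ hg.sq]
    exact hg.sq
  · intro y hy
    have e : r * g * r⁻¹ * y * (r * g * r⁻¹)⁻¹ * y⁻¹ =
        r * (g * (r⁻¹ * y * r) * g⁻¹ * (r⁻¹ * y * r)⁻¹) * r⁻¹ := by group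
    have h1 := hg.comm _ (h.r_SR hy).2
    rw [e, hr _ h1]
    exact h1
  · intro p hp
    have e : r * g * r⁻¹ * p * (r * g * r⁻¹)⁻¹ * p⁻¹ =
        r * (g * (r⁻¹ * p * r) * g⁻¹ * (r⁻¹ * p * r)⁻¹) * r⁻¹ := by group
    have h2 := h.norm r⁻¹ p hp
    rw [inv_inv] at h2
    have h1 := hg.mem _ h2
    rw [e]
    exact (h.r_SR h1).1

theorem good_x {x : X} (hx : ∀ u, h.act x u = h.act c (h.act c u)) (hxx : x * x ∈ h.sub SN) :
    h.Good x := by
  constructor
  · exact h.cen_of (by rw [hx, h.ac1, h.ac1])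
  · exact hxx
  · rintro _ ⟨u, hu, rfl⟩
    rw [← h.t_act, ← h.neg, ← h.add, h.t_mem_sub]
    exact h.act_SR hx hu
  · intro p hp
    obtain ⟨u, rfl⟩ := (h.mem p).mp hp
    rw [← h.t_act, ← h.neg, ← h.add, h.t_mem_sub]
    -- `2(αu - u) ∈ ⟨2e₁⟩`
    have h2 : ∀ a : ZMod 4, a • (![2, 0, 0] : V) = ![a * 2, 0, 0] := by decide
    have e2 : (2 : ZMod 4) • h.act x u = h.act x ![u 0 * 2, u 1 * 2, u 2 * 2] := by
      rw [← map_smul]
      congr 1
      funext i
      fin_cases i <;> simp [mul_comm]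
    have hdec : (![u 0 * 2, u 1 * 2, u 2 * 2] : V) =
        u 0 • ![2, 0, 0] + (u 1 • ![0, 2, 0] + u 2 • ![0, 0, 2]) := by
      funext i
      fin_cases i <;> simp
    have x1 : h.act x ![2, 0, 0] = ![2, 0, 0] := by rw [hx, h.ac1, h.ac1]
    have x2 : h.act x ![0, 2, 0] = ![0, 2, 0] := by rw [hx, h.acc2]
    have x3 : h.act x ![0, 0, 2] = ![2, 0, 2] := by rw [hx, h.acc3]
    rw [hdec, map_add, map_add, map_smul, map_smul, map_smul, x1, x2, x3] at e2
    have f1 := congrFun e2 1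
    have f2 := congrFun e2 2
    simp only [Pi.smul_apply, Pi.add_apply, smul_eq_mul, Matrix.cons_val_one, Matrix.cons_val_zero,
      Matrix.cons_val, mul_zero, zero_add, add_zero] at f1 f2
    rw [mem_SR]
    constructor
    · show (h.act x u 1 + - u 1) * 2 = 0
      rw [add_mul, mul_comm (h.act x u 1), f1, neg_mul, add_neg_cancel]
    · show (h.act x u 2 + - u 2) * 2 = 0
      rw [add_mul, mul_comm (h.act x u 2), f2, neg_mul, add_neg_cancel]

theorem sq_R {y : X} (hy : y ∈ h.sub SR) : y * y ∈ h.sub SN := by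
  obtain ⟨u, hu, rfl⟩ := hy
  rw [← h.add, h.t_mem_sub, mem_SN]
  obtain ⟨h1, h2⟩ := hu
  have h3 : ∀ a b c : ZMod 4, (b * 2 = 0 ∧ c * 2 = 0) → ((a + a) * 2 = 0 ∧ b + b = 0 ∧ c + c = 0) := by
    decide
  exact h3 (u 0) (u 1) (u 2) ⟨h1, h2⟩

theorem elem : ElemSection 2 (h.sub SR) (h.sub SN) where
  le := by
    rintro _ ⟨u, ⟨-, h2, h3⟩, rfl⟩
    refine ⟨u, ⟨?_, ?_⟩, rfl⟩
    · rw [h2, zero_mul]
    · rw [h3, zero_mul]
  comm := by
    rintro a ha b hb
    rw [h.comm' (h.sub_le _ ha) (h.sub_le _ hb)]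
    have e : b * a * a⁻¹ * b⁻¹ = 1 := by group
    rw [e]
    exact (h.sub SN).one_mem
  pow := by
    intro a ha
    rw [pow_two]
    exact h.sq_R ha

/-- **`4³.L₃(2)` has sectional 2-rank at least 5.** -/
theorem false_of_r4 [Finite X] (hr : R4 X) : False := by
  obtain ⟨x, hx, hxx⟩ := h.exists_x
  set N := h.sub SN with hN
  set R := h.sub SR with hR
  have gx := h.good_x hx hxx
  set y := r * x * r⁻¹ with hy
  have gy : h.Good y := h.good_conj gx
  set z := r * y * r⁻¹ with hz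
  have gz : h.Good z := h.good_conj gy
  have hNR : N ≤ R := h.elem.le
  -- the actions on `2V`
  have x1 : h.act x ![2, 0, 0] = ![2, 0, 0] := by rw [hx, h.ac1, h.ac1]
  have x2 : h.act x ![0, 2, 0] = ![0, 2, 0] := by rw [hx, h.acc2]
  have x3 : h.act x ![0, 0, 2] = ![2, 0, 2] := by rw [hx, h.acc3]
  have hconj : ∀ g : X, ∀ u : V, h.act (r * g * r⁻¹) (h.act r u) = h.act r (h.act g u) := by
    intro g u
    rw [← h.act_mul, ← h.act_mul]
    congr 1
    congr 1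
    group
  have s1 : (![2, 0, 2] : V) = ![2, 0, 0] + ![0, 0, 2] := by decide
  have s2 : (![2, 2, 0] : V) = ![2, 0, 0] + ![0, 2, 0] := by decide
  have s3 : (![0, 2, 2] : V) = ![0, 2, 0] + ![0, 0, 2] := by decide
  have s4 : (![2, 2, 2] : V) = ![2, 0, 0] + ![0, 2, 2] := by decide
  have y1 : h.act y ![2, 0, 0] = ![2, 0, 0] := by
    have := hconj x ![2, 0, 0]
    rwa [h.ar1, x1, h.ar1] at this
  have y3 : h.act y ![0, 0, 2] = ![0, 0, 2] := by
    have := hconj x ![0, 2, 0]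
    rwa [h.ar2, x2, h.ar2] at this
  have y2 : h.act y ![0, 2, 0] = ![2, 2, 0] := by
    have := hconj x ![0, 0, 2]
    rw [h.ar3, x3, s1, map_add, h.ar1, h.ar3, ← hy, s3, map_add, y3] at this
    have e := congrArg (· - (![0, 0, 2] : V)) this
    simp only [add_sub_cancel_right] at e
    rw [e]
    decide
  have z1 : h.act z ![2, 0, 0] = ![2, 0, 0] := by
    have := hconj y ![2, 0, 0]
    rwa [h.ar1, y1, h.ar1] at this
  have z3 : h.act z ![0, 0, 2] = ![2, 0, 2] := by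
    have := hconj y ![0, 2, 0]
    rw [h.ar2, y2, s2, map_add, h.ar1, h.ar2] at this
    rw [this]
    decide
  have z2 : h.act z ![0, 2, 0] = ![2, 2, 0] := by
    have := hconj y ![0, 0, 2]
    rw [h.ar3, y3, h.ar3, ← hz, s3, map_add, z3] at this
    have e := congrArg (· - (![2, 0, 2] : V)) this
    simp only [add_sub_cancel_right] at e
    rw [e]
    decide
  -- `w = x y z ∈ R`
  set w := x * y * z with hw
  have hwP : w ∈ P := by
    apply h.mem_of_act
    · rw [hw, h.act_mul, h.act_mul, z1, y1, x1]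
    · rw [hw, h.act_mul, h.act_mul, z2, s2, map_add, map_add, y1, y2, x1, s2, map_add, x1, x2]
      decide
    · rw [hw, h.act_mul, h.act_mul, z3, s1, map_add, map_add, y1, y3, x1, x3]
      decide
  have hr3 : r * (r * r) ∈ P := by
    apply h.mem_of_act
    · rw [h.act_mul, h.act_mul, h.ar1, h.ar1, h.ar1]
    · rw [h.act_mul, h.act_mul, h.ar2, h.ar3, s3, map_add, h.ar2, h.ar3]
      decide
    · rw [h.act_mul, h.act_mul, h.ar3, s3, map_add, map_add, h.ar2, h.ar3, s3, map_add, h.ar2, h.ar3]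
      decide
  have hwR : w ∈ R := by
    -- `r w r⁻¹ w⁻¹ ∈ R`
    have e1 : r * w * r⁻¹ * w⁻¹ =
        (x⁻¹ * (w * x * w⁻¹ * x⁻¹) * x) *
          (w * ((x⁻¹ * (r * (r * r)) * x) * (r * (r * r))⁻¹) * w⁻¹) := by
      have e2 : r * w * r⁻¹ = x⁻¹ * w * x * ((x⁻¹ * (r * (r * r)) * x) * (r * (r * r))⁻¹) := by
        rw [hw, hz, hy]
        group
      rw [e2]
      group
    have hxR : ∀ p ∈ P, x⁻¹ * p * x * p⁻¹ ∈ R := by
      intro p hp
      have hp' := h.norm x⁻¹ p hp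
      rw [inv_inv] at hp'
      have h1 := gx.mem _ hp'
      have e : x⁻¹ * p * x * p⁻¹ = (x * (x⁻¹ * p * x) * x⁻¹ * (x⁻¹ * p * x)⁻¹)⁻¹ := by group
      rw [e]
      exact R.inv_mem h1
    have hxN : ∀ q ∈ R, x⁻¹ * q * x ∈ R := by
      intro q hq
      have h1 := hxR q (h.sub_le _ hq)
      have h2 := R.mul_mem h1 hq
      have e : x⁻¹ * q * x * q⁻¹ * q = x⁻¹ * q * x := by group
      rwa [e] at h2
    have f1 : x⁻¹ * (w * x * w⁻¹ * x⁻¹) * x ∈ R := by
      apply hxN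
      have h1 := gx.mem w hwP
      have e : w * x * w⁻¹ * x⁻¹ = (x * w * x⁻¹ * w⁻¹)⁻¹ := by group
      rw [e]
      exact R.inv_mem h1
    have f2 : w * ((x⁻¹ * (r * (r * r)) * x) * (r * (r * r))⁻¹) * w⁻¹ ∈ R := by
      have h1 := hxR _ hr3
      rw [h.comm' hwP (h.sub_le _ h1), mul_inv_cancel_right]
      exact h1
    have h5 : r * w * r⁻¹ * w⁻¹ ∈ R := by
      rw [e1]
      exact R.mul_mem f1 f2
    -- coordinates
    obtain ⟨u, hu⟩ := (h.mem w).mp hwP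
    rw [← hu, ← h.t_act, ← h.neg, ← h.add, h.t_mem_sub] at h5
    rw [← hu]
    refine h.t_mem_sub.mpr ?_
    have e2 : (2 : ZMod 4) • h.act r u = h.act r ![u 0 * 2, u 1 * 2, u 2 * 2] := by
      rw [← map_smul]
      congr 1
      funext i
      fin_cases i <;> simp [mul_comm]
    have hdec : (![u 0 * 2, u 1 * 2, u 2 * 2] : V) =
        u 0 • ![2, 0, 0] + (u 1 • ![0, 2, 0] + u 2 • ![0, 0, 2]) := by
      funext i
      fin_cases i <;> simp
    rw [hdec, map_add, map_add, map_smul, map_smul, map_smul, h.ar1, h.ar2, h.ar3] at e2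
    have g1 := congrFun e2 1
    have g2 := congrFun e2 2
    simp only [Pi.smul_apply, Pi.add_apply, smul_eq_mul, Matrix.cons_val_one, Matrix.cons_val_zero,
      Matrix.cons_val, mul_zero, zero_add, add_zero] at g1 g2
    obtain ⟨h6, h7⟩ := h5
    have h6' : (h.act r u 1 + - u 1) * 2 = 0 := h6
    have h7' : (h.act r u 2 + - u 2) * 2 = 0 := h7
    rw [mem_SR]
    have key : ∀ p q a b : ZMod 4, 2 * p = b * 2 → 2 * q = a * 2 + b * 2 → (p + -a) * 2 = 0 →
        (q + -b) * 2 = 0 → a * 2 = 0 ∧ b * 2 = 0 := by decide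
    exact key _ _ (u 1) (u 2) g1 g2 h6' h7'
  -- `(x y)² ∈ N`
  have hxy : (x * y) * (x * y) ∈ N := by
    have e : x * y = w * z⁻¹ := by rw [hw]; group
    have e2 : w * z⁻¹ * (w * z⁻¹) =
        (w * (z⁻¹ * (w * z * w⁻¹ * z⁻¹) * z) * w⁻¹) * (w * w) * (z * z)⁻¹ := by
      group
    have h1 := gz.comm w hwR
    have h5 : z⁻¹ * (w * z * w⁻¹ * z⁻¹) * z ∈ N := by
      have e3 : z⁻¹ * (w * z * w⁻¹ * z⁻¹) * z = z⁻¹ * (z * w * z⁻¹ * w⁻¹)⁻¹ * z := by group
      rw [e3]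
      have h2 := gz.cen _ (N.inv_mem h1)
      have h4 : z⁻¹ * (z * w * z⁻¹ * w⁻¹)⁻¹ * z = (z * w * z⁻¹ * w⁻¹)⁻¹ := by
        conv_lhs => rw [← h2]
        group
      rw [h4]
      exact N.inv_mem h1
    rw [e, e2]
    refine N.mul_mem (N.mul_mem ?_ (h.sq_R hwR)) (N.inv_mem gz.sq)
    rw [h.comm' hwP (h.sub_le _ (hNR h5)), mul_inv_cancel_right]
    exact h5
  -- `[y, x] ∈ N`
  have hyx : y * x * y⁻¹ * x⁻¹ ∈ N := by
    have cx : ∀ n ∈ N, x * n = n * x := fun n hn => by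
      have := gx.cen n hn
      rwa [mul_inv_eq_iff_eq_mul] at this
    have cy : ∀ n ∈ N, y * n = n * y := fun n hn => by
      have := gy.cen n hn
      rwa [mul_inv_eq_iff_eq_mul] at this
    have e1 : y⁻¹ = y * (y * y)⁻¹ := by group
    have e2 : x⁻¹ = x * (x * x)⁻¹ := by group
    have h1 : y * x * y * x ∈ N := by
      have e : y * x * y * x = x⁻¹ * ((x * y) * (x * y)) * x := by group
      rw [e]
      have h2 := cx _ hxy
      have h3 : x⁻¹ * (x * y * (x * y)) * x = x * y * (x * y) := by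
        rw [mul_assoc, ← h2, inv_mul_cancel_left]
      rw [h3]
      exact hxy
    have e3 : y * x * y⁻¹ * x⁻¹ = (y * x * y * x) * (y * y)⁻¹ * (x * x)⁻¹ := by
      have h4 := cx _ (N.inv_mem gy.sq)
      calc y * x * y⁻¹ * x⁻¹ = y * x * (y * (y * y)⁻¹) * (x * (x * x)⁻¹) := by rw [← e1, ← e2]
        _ = y * x * y * ((y * y)⁻¹ * x) * (x * x)⁻¹ := by group
        _ = y * x * y * (x * (y * y)⁻¹) * (x * x)⁻¹ := by rw [h4]
        _ = (y * x * y * x) * (y * y)⁻¹ * (x * x)⁻¹ := by group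
    rw [e3]
    exact N.mul_mem (N.mul_mem h1 (N.inv_mem gy.sq)) (N.inv_mem gx.sq)
  -- the section
  have hxR : x ∉ R := by
    rintro ⟨u, -, hu⟩
    have h1 := h.act_of_mem (h.mem_t u) ![0, 0, 2]
    rw [hu, x3] at h1
    exact absurd h1 (by decide)
  obtain ⟨Z, z1', z2', z3', z4', z5'⟩ := exists_ext' h.elem (b := x) gx.sq gx.comm hxR
  have hyZ : y ∉ Z := by
    intro hyZ
    rcases z5' y hyZ with ⟨u, -, hu⟩ | ⟨u, -, hu⟩
    · have h1 := h.act_of_mem (h.mem_t u) ![0, 2, 0]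
      rw [hu, y2] at h1
      exact absurd h1 (by decide)
    · have h1 := h.act_of_mem (h.mem_t u) ![0, 0, 2]
      rw [hu, h.act_mul, y3] at h1
      have h2 := congrArg (h.act x) h1
      rw [← h.act_mul, mul_inv_cancel, h.act_one, x3] at h2
      exact absurd h2 (by decide)
  have hcomm : ∀ q ∈ Z, y * q * y⁻¹ * q⁻¹ ∈ N := by
    intro q hq
    rcases z5' q hq with hq | hq
    · exact gy.comm q hq
    · have e : y * q * y⁻¹ * q⁻¹ = (y * x * y⁻¹ * x⁻¹) *
          (x * (y * (x⁻¹ * q) * y⁻¹ * (x⁻¹ * q)⁻¹) * x⁻¹) := by group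
      have h1 := gy.comm _ hq
      rw [e, gx.cen _ h1]
      exact N.mul_mem hyx h1
  obtain ⟨Z', w1, -, -, w4⟩ := exists_ext z1' (b := y) gy.sq hcomm hyZ
  have h1 := hr _ _ w1
  rw [w4, z4', h.card_sub, h.card_sub, card_SN, card_SR] at h1
  omega

end Data

end Cfsg.Agent.GH.C2RankFour
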