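import Mathlib

/-!
# GH-C2 (T3): finite linear algebra over `ℤ/4` for the kill of `4³.L₃(2)`
-/

set_option autoImplicit false

namespace Cfsg.Agent.GH.C2RankMat

/-- the value `j` or `j + 2`, for a bit -/
def tw (j : ZMod 4) (e : Bool) : ZMod 4 := cond e (j + 2) j

theorem exists_tw : ∀ x j : ZMod 4, 2 * x = 2 * j → ∃ e, x = tw j e := by decide

/-- coordinates of `m v` for the matrix with rows `(a₁ a₂ a₃)`, ... -/
def dot (a₁ a₂ a₃ v₁ v₂ v₃ : ZMod 4) : ZMod 4 := a₁ * v₁ + a₂ * v₂ + a₃ * v₃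

/-- rows and vectors as triples -/
abbrev T := ZMod 4 × ZMod 4 × ZMod 4

def ap (a b c v : T) : T :=
  (dot a.1 a.2.1 a.2.2 v.1 v.2.1 v.2.2, dot b.1 b.2.1 b.2.2 v.1 v.2.1 v.2.2,
    dot c.1 c.2.1 c.2.2 v.1 v.2.1 v.2.2)

def det (a b c : T) : ZMod 4 :=
  a.1 * (b.2.1 * c.2.2 - b.2.2 * c.2.1) - a.2.1 * (b.1 * c.2.2 - b.2.2 * c.1) +
    a.2.2 * (b.1 * c.2.1 - b.2.1 * c.1)

/-- the conclusion for one matrix -/
def good (a b c : T) : Prop :=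
  det a b c = 1 →
  ap a b c (ap a b c (ap a b c (ap a b c (1, 0, 0)))) = (1, 0, 0) →
  ap a b c (ap a b c (ap a b c (ap a b c (0, 1, 0)))) = (0, 1, 0) →
  ap a b c (ap a b c (ap a b c (ap a b c (0, 0, 1)))) = (0, 0, 1) →
  (ap a b c (ap a b c (1, 0, 0)) = (1, 0, 0) ∨ ap a b c (ap a b c (1, 0, 0)) = (3, 0, 0)) ∧
  ∀ x y z : ZMod 4, ap a b c (x, y, z) = (x, y, z) →
    (x, y, z) = (0, 0, 0) ∨ (x, y, z) = (2, 0, 0) ∨
    (x, y, z) = (0, 0, 1) + ap a b c (ap a b c (0, 0, 1)) ∨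
    (x, y, z) = -((0, 0, 1) + ap a b c (ap a b c (0, 0, 1)))

instance (a b c : T) : Decidable (good a b c) := by unfold good; infer_instance

theorem all_good : ∀ e₁ e₂ e₃ e₄ e₅ e₆ e₇ e₈ e₉ : Bool,
    good (tw 1 e₁, tw 1 e₂, tw 0 e₃) (tw 0 e₄, tw 1 e₅, tw 1 e₆) (tw 0 e₇, tw 0 e₈, tw 1 e₉) := by
  decide +kernel

end Cfsg.Agent.GH.C2RankMat
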