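import Cfsg.Agent.J2Sylow.Model

/-!
# GH-C2, growth: relations of the groups of order 64, 128, 256 over `UT₃(4)`

`X a`, `Y b`, `Z c` (`a b c : F4`) are the root elements of `UT₃(4)`; general element
`Y b * X a * Z c`.  `s` is the field automorphism, `r` the element of order 3
(`X a ↦ X (w a)`, `Y b ↦ Y (w b)`, `Z c ↦ Z (u c)`, `u = w²`), `t` interchanges `X` and `Y`.
-/

set_option autoImplicit false

namespace Cfsg.Agent.GH.C2Rel

open Cfsg.Agent.J2Sylow.Model

variable {G : Type*} [Group G]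

/-- Coordinates of `UT₃(4)`. -/
structure UT (X Y Z : F4 → G) : Prop where
  XX : ∀ a b, X a * X b = X (a + b)
  YY : ∀ a b, Y a * Y b = Y (a + b)
  ZZ : ∀ a b, Z a * Z b = Z (a + b)
  XY : ∀ a b, X a * Y b = Y b * (X a * Z (a * b))
  ZX : ∀ c a, Z c * X a = X a * Z c
  ZY : ∀ c b, Z c * Y b = Y b * Z c
  Z1 : ∀ c, c ≠ 0 → Z c ≠ 1

/-- The field involution `s` and the element `r` of order 3. -/
structure SR (X Y Z : F4 → G) (s r : G) : Prop where
  ss : s * s = 1
  sX : ∀ a, s * X a = X (F4.fr a) * s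
  sY : ∀ a, s * Y a = Y (F4.fr a) * s
  sZ : ∀ a, s * Z a = Z (F4.fr a) * s
  rrr : r * r * r = 1
  rX : ∀ a, r * X a = X (F4.w * a) * r
  rY : ∀ a, r * Y a = Y (F4.w * a) * r
  rZ : ∀ a, r * Z a = Z (F4.u * a) * r
  sr : s * r * s = r * r

/-- The swap `t`. -/
structure Swap (X Y Z : F4 → G) (s r t : G) : Prop where
  tt : t * t = 1
  tX : ∀ a, t * X a = Y a * t
  tZ : ∀ a, t * Z a = Z a * t
  ts : t * s = s * t
  tr : t * r = r * t

end Cfsg.Agent.GH.C2Rel
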