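import Mathlib
import Cfsg.Agent.GH.C2SevenBase
import Cfsg.Agent.GH.C2Five

/-!
# GH-C2, `M/Q = L₃(2)`, growth `T < S`, the cases `Q ≠ 2³`  (helper130's text, bb 5867 (III)(a)-(c))

* `false_of_center`: `c` an involution of `Q` with `M = C_G(c)`, `Ω₁(Q) = V × ⟨c⟩`;
* `false_of_fixed`: `c` is the only involution of `Q` fixed by `T`;
* `false_of_three_one`: `Q` elementary abelian of order 16, no element of `T - Q` centralizes an element of `Q - V`.
-/

set_option autoImplicit false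
set_option maxHeartbeats 800000

namespace Cfsg.Agent.GH.C2SevenGrow

open Subgroup Cfsg.Agent.GH.C2SevenBase Cfsg.Agent.TwoFusion.SectionalRank Cfsg.Agent.GH.C2Five

variable {G : Type*} [Group G]

/-- `M = N_G(Q)`, `C_G(Q) ≤ Q`, `Q ≤ T ≤ M`, `T` a 2-group, `t` normalizes `T`, `t² ∈ T`, `t ∉ M`. -/
structure Grow (M Q T : Subgroup G) (t : G) : Prop where
  normM : ∀ g, (∀ x ∈ Q, g * x * g⁻¹ ∈ Q) → g ∈ M
  centQ : ∀ g, (∀ x ∈ Q, g * x = x * g) → g ∈ Q
  T2 : IsPGroup 2 T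
  TM : T ≤ M
  QT : Q ≤ T
  tT : ∀ x ∈ T, t * x * t⁻¹ ∈ T
  tt : t * t ∈ T
  tM : t ∉ M

namespace Grow

variable {M Q T : Subgroup G} {t : G} (g : Grow M Q T t)

include g in
theorem tT' {x : G} (hx : x ∈ T) : t⁻¹ * x * t ∈ T := by
  have h1 : t⁻¹ * x * t = t * ((t * t)⁻¹ * x * (t * t)) * t⁻¹ := by group
  rw [h1]
  exact g.tT _ (T.mul_mem (T.mul_mem (T.inv_mem g.tt) hx) g.tt)

end Grow

/-- the conjugate `t X t⁻¹` -/
abbrev cj (t : G) (X : Subgroup G) : Subgroup G := X.map (MulAut.conj t).toMonoidHom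

theorem mem_cj {t x : G} {X : Subgroup G} : x ∈ cj t X ↔ t⁻¹ * x * t ∈ X := by
  constructor
  · rintro ⟨y, hy, rfl⟩
    have : t⁻¹ * ((MulAut.conj t).toMonoidHom y) * t = y := by
      simp [MulAut.conj_apply, mul_assoc]
    rw [this]
    exact hy
  · intro h
    exact ⟨t⁻¹ * x * t, h, by simp [MulAut.conj_apply, mul_assoc]⟩

theorem conj_mem_cj {t x : G} {X : Subgroup G} (hx : x ∈ X) : t * x * t⁻¹ ∈ cj t X :=
  mem_cj.mpr (by
    have : t⁻¹ * (t * x * t⁻¹) * t = x := by group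
    rwa [this])

theorem card_cj (t : G) (X : Subgroup G) : Nat.card (cj t X) = Nat.card X :=
  card_map_of_injective (MulAut.conj t).injective

section center

variable [Finite G] {M Q V T : Subgroup G} {c t : G}

/-- the fixed vector: for a `C_M(v)`-invariant 2-group `P ≤ T` centralizing `v`, the action on `V` is by
transvections with centre `v`. -/
theorem centre_type (h : Nat3 M Q V) (g : Grow M Q T t) {P : Subgroup G} (hPT : P ≤ T) {v : G}
    (hv : v ∈ V) (hv1 : v ≠ 1) (hvT : ∀ x ∈ T, x * v = v * x)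
    (hP : ∀ m ∈ M, m * v = v * m → ∀ p ∈ P, m⁻¹ * p * m ∈ P) :
    ∀ p ∈ P, ∀ w ∈ V, p * w * p⁻¹ = w ∨ p * w * p⁻¹ = w * v := by
  have hvv := h.sqV v hv
  have hVT : V ≤ T := h.VQ.trans g.QT
  have hzc : Nat.card (zpowers v) = 2 := by
    rw [Nat.card_zpowers]
    exact orderOf_eq_prime (by rw [pow_two]; exact hvv) hv1
  have hzm : ∀ x ∈ zpowers v, x = 1 ∨ x = v := by
    rintro _ ⟨n, rfl⟩
    rcases Int.even_or_odd' n with ⟨k, rfl | rfl⟩
    · left
      have : v ^ (2 * k) = (v * v) ^ k := by rw [← pow_two, ← zpow_natCast, ← zpow_mul]; rfl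
      simp only [this, hvv, one_zpow]
    · right
      have : v ^ (2 * k + 1) = (v * v) ^ k * v := by
        rw [← pow_two, ← zpow_natCast, ← zpow_mul, zpow_add_one]; rfl
      simp only [this, hvv, one_zpow, one_mul]
  obtain ⟨W, hZW, hWV, hWc, hWT⟩ := exists_step (T := T) (Z := zpowers v) (V := V) g.T2 hVT
    (zpowers_le.mpr hv) (fun hc => by
      have := card_le_of_le hc
      rw [h.cardV, hzc] at this
      omega) (fun x hx => h.normV x (g.TM hx)) (fun x hx y hy => by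
      rcases hzm y hy with rfl | rfl
      · rw [mul_one, mul_inv_cancel]; exact one_mem _
      · rw [hvT x hx, mul_inv_cancel_right]; exact hy)
  rw [hzc] at hWc
  obtain ⟨w, hw, hw1, hwv⟩ := exists_out_two (V := W) (by rw [hWc]; norm_num) 1 v
  have hvW : v ∈ W := hZW (mem_zpowers v)
  have hwV := hWV hw
  -- `W = {1, v, w, w v}`
  have hWm : ∀ x ∈ W, x = 1 ∨ x = v ∨ x = w ∨ x = w * v := by
    by_contra hc
    push Not at hc
    obtain ⟨x, hx, x1, x2, x3, x4⟩ := hc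
    -- five different elements in `W`
    have h5 : ({1, v, w, w * v, x} : Set G) ⊆ W := by
      rintro y (rfl | rfl | rfl | rfl | rfl)
      · exact one_mem _
      · exact hvW
      · exact hw
      · exact W.mul_mem hw hvW
      · exact hx
    have h6 := Set.ncard_le_ncard h5 (Set.toFinite _)
    have h7 : (W : Set G).ncard = 4 := by
      have : (W : Set G).ncard = Nat.card W := rfl
      rw [this, hWc]
    have e1 : w ≠ w * v := fun hc => hv1 (by simpa using hc)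
    have e2 : (1 : G) ≠ w * v := fun hc => hwv (by
      have := eq_inv_of_mul_eq_one_left hc.symm
      rw [this, h.inv_eq hv])
    have e3 : v ≠ w * v := fun hc => hw1 (by simpa using hc)
    have h8 : ({1, v, w, w * v, x} : Set G).ncard = 5 := by
      rw [Set.ncard_insert_of_notMem (by
          rintro (hc | hc | hc | hc)
          exacts [hv1 hc.symm, hw1 hc.symm, e2 hc, x1 hc.symm]),
        Set.ncard_insert_of_notMem (by
          rintro (hc | hc | hc)
          exacts [hwv hc.symm, e3 hc, x2 hc.symm]),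
        Set.ncard_insert_of_notMem (by
          rintro (hc | hc)
          exacts [e1 hc, x3 hc.symm]),
        Set.ncard_pair (fun hc => x4 hc.symm)]
    rw [h7, h8] at h6
    omega
  intro p hp w' hw'
  by_cases hw1' : w' = 1
  · left
    rw [hw1', mul_one, mul_inv_cancel]
  by_cases hwv' : w' = v
  · left
    rw [hwv', hvT p (hPT hp), mul_inv_cancel_right]
  obtain ⟨m, hm, m1, m2⟩ := h.two hv hwV hw' hv1 hw1 hwv hw1' hwv'
  have hmv : m * v = v * m := by
    calc m * v = (m * v * m⁻¹) * m := by group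
      _ = v * m := by rw [m1]
  have hp' := hP m hm hmv p hp
  have h3 : p * w' * p⁻¹ = m * ((m⁻¹ * p * m) * w * (m⁻¹ * p * m)⁻¹) * m⁻¹ := by
    rw [← m2]; group
  have h4 := hWT _ (hPT hp') w hw
  rcases hWm _ h4 with h5 | h5 | h5 | h5
  · exfalso
    apply hw1
    have := congrArg (fun y => (m⁻¹ * p * m)⁻¹ * y * (m⁻¹ * p * m)) h5
    simpa [mul_assoc] using this
  · exfalso
    apply hwv
    have h6 : (m⁻¹ * p * m) * w * (m⁻¹ * p * m)⁻¹ = (m⁻¹ * p * m) * v * (m⁻¹ * p * m)⁻¹ := by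
      rw [h5, hvT _ (hPT hp'), mul_inv_cancel_right]
    simpa using h6
  · left
    rw [h3, h5, m2]
  · right
    rw [h3, h5]
    calc m * (w * v) * m⁻¹ = (m * w * m⁻¹) * (m * v * m⁻¹) := by group
      _ = w' * v := by rw [m1, m2]

/-- The centralizer in `V` of a `C_M(v)`-invariant subgroup `P` with `[V, P] ≠ 1` is `⟨v⟩`. -/
theorem cent_le (h : Nat3 M Q V) {P : Subgroup G} {v : G} (hv : v ∈ V) (hv1 : v ≠ 1)
    (hP : ∀ m ∈ M, m * v = v * m → ∀ p ∈ P, m⁻¹ * p * m ∈ P) {w : G} (hw : w ∈ V) (hw1 : w ≠ 1)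
    (hwv : w ≠ v) (hvP : ∀ p ∈ P, p * v = v * p) (hwP : ∀ p ∈ P, p * w = w * p) :
    ∀ p ∈ P, ∀ u ∈ V, p * u = u * p := by
  intro p hp u hu
  by_cases hu1 : u = 1
  · rw [hu1, mul_one, one_mul]
  by_cases huv : u = v
  · rw [huv]; exact hvP p hp
  obtain ⟨m, hm, m1, m2⟩ := h.two hv hw hu hv1 hw1 hwv hu1 huv
  have hmv : m * v = v * m := by
    calc m * v = (m * v * m⁻¹) * m := by group
      _ = v * m := by rw [m1]
  have h1 := hwP _ (hP m hm hmv p hp)
  calc p * u = m * ((m⁻¹ * p * m) * w) * m⁻¹ := by rw [← m2]; group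
    _ = m * (w * (m⁻¹ * p * m)) * m⁻¹ := by rw [h1]
    _ = (m * w * m⁻¹) * p := by group
    _ = u * p := by rw [m2]

/-- **Growth, case (a)**: `c` an involution of `Q - V`, `M = C_G(c)`, `Ω₁(Q) ≤ V ∪ V c`. -/
theorem false_of_center (h : Nat3 M Q V) (g : Grow M Q T t)
    (hcM : ∀ x : G, x ∈ M ↔ x * c = c * x) (hcQ : c ∈ Q) (hcV : c ∉ V) (hcc : c * c = 1)
    (hΩ : ∀ x ∈ Q, x * x = 1 → x ∈ V ∨ x * c ∈ V)
    (hk : (R4 G ∧ ∀ x ∈ Q, x * x = 1) ∨ ∃ n, 1 ≤ n ∧ (∃ d ∈ Q, d ^ (2 ^ n) = c) ∧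
      ∀ x ∈ Q, x ^ (2 ^ n) = 1 ∨ x ^ (2 ^ n) = c) : False := by
  -- notation
  have hQM := h.QM
  have httM : t * t ∈ M := g.TM g.tt
  set c' := t * c * t⁻¹ with hc'
  have hcT : ∀ x ∈ T, x * c = c * x := fun x hx => (hcM x).mp (g.TM hx)
  have hc'T : ∀ x ∈ T, x * c' = c' * x := by
    intro x hx
    have h1 := hcT _ (g.tT' hx)
    calc x * c' = t * ((t⁻¹ * x * t) * c) * t⁻¹ := by rw [hc']; group
      _ = t * (c * (t⁻¹ * x * t)) * t⁻¹ := by rw [h1]
      _ = c' * x := by rw [hc']; group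
  have hc'Q : c' ∈ Q := g.centQ c' (fun x hx => (hc'T x (g.QT hx)).symm)
  have hc'c' : c' * c' = 1 := by
    calc c' * c' = t * (c * c) * t⁻¹ := by rw [hc']; group
      _ = 1 := by rw [hcc]; group
  have hne : c' ≠ c := by
    intro hc
    apply g.tM
    rw [hcM]
    calc t * c = (t * c * t⁻¹) * t := by group
      _ = c * t := by rw [← hc', hc]
  have hcne : c' ≠ 1 := by
    intro hc
    have h1 : c = 1 := by
      calc c = t⁻¹ * (t * c * t⁻¹) * t := by group
        _ = 1 := by rw [← hc', hc]; group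
    exact hcV (h1 ▸ one_mem V)
  -- `v`
  obtain ⟨v, hv, hvc⟩ : ∃ v ∈ V, v = c' ∨ v = c' * c := by
    rcases hΩ c' hc'Q hc'c' with h1 | h1
    · exact ⟨c', h1, Or.inl rfl⟩
    · exact ⟨c' * c, h1, Or.inr rfl⟩
  have hv1 : v ≠ 1 := by
    rcases hvc with h1 | h1
    · rw [h1]; exact hcne
    · intro h2
      rw [h1] at h2
      apply hne
      have := eq_inv_of_mul_eq_one_left h2
      rw [this]
      exact inv_eq_of_mul_eq_one_left hcc
  have hvT : ∀ x ∈ T, x * v = v * x := by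
    intro x hx
    rcases hvc with h1 | h1
    · rw [h1]; exact hc'T x hx
    · rw [h1]
      calc x * (c' * c) = (x * c') * c := by group
        _ = c' * (x * c) := by rw [hc'T x hx]; group
        _ = c' * c * x := by rw [hcT x hx]; group
  -- elements of `M` centralizing `v` centralize `c'`
  have hvc' : ∀ m ∈ M, m * v = v * m → m * c' = c' * m := by
    intro m hm hmv
    have hmc := (hcM m).mp hm
    rcases hvc with h1 | h1
    · rw [← h1]; exact hmv
    · have h2 : c' = v * c := by rw [h1, mul_assoc, hcc, mul_one]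
      rw [h2, ← mul_assoc, hmv, mul_assoc, hmc, mul_assoc]
  set Q' := cj t Q with hQ'
  have hQ'T : Q' ≤ T := by
    intro x hx
    rw [hQ', mem_cj] at hx
    have h1 := g.tT _ (g.QT hx)
    have h2 : t * (t⁻¹ * x * t) * t⁻¹ = x := by group
    rwa [h2] at h1
  -- claim 1
  have hinv : ∀ m ∈ M, m * v = v * m → ∀ p ∈ Q', m⁻¹ * p * m ∈ Q' := by
    intro m hm hmv p hp
    have h1 := hvc' m hm hmv
    have h2 : t⁻¹ * m * t ∈ M := by
      rw [hcM]
      calc t⁻¹ * m * t * c = t⁻¹ * (m * (t * c * t⁻¹)) * t := by group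
        _ = t⁻¹ * ((t * c * t⁻¹) * m) * t := by rw [← hc', h1]
        _ = c * (t⁻¹ * m * t) := by group
    rw [hQ', mem_cj] at hp ⊢
    have h3 := h.normQ _ (M.inv_mem h2) _ hp
    have h4 : (t⁻¹ * m * t)⁻¹ * (t⁻¹ * p * t) * ((t⁻¹ * m * t)⁻¹)⁻¹ = t⁻¹ * (m⁻¹ * p * m) * t := by
      group
    rwa [h4] at h3
  -- claim 2
  have htr : ∀ p ∈ Q', ∀ w ∈ V, p * w * p⁻¹ = w ∨ p * w * p⁻¹ = w * v :=
    centre_type h g hQ'T hv hv1 hvT hinv
  -- claim 3
  have hQne : ¬ Q' ≤ Q := by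
    intro hle
    have h1 : Q' = Q := by
      refine Subgroup.eq_of_le_of_card_ge hle ?_
      rw [hQ', card_cj]
    apply g.tM
    refine g.normM t (fun x hx => ?_)
    rw [← h1]
    exact conj_mem_cj hx
  have hfix : ∀ w ∈ V, (∀ p ∈ Q', p * w = w * p) → w = 1 ∨ w = v := by
    intro w hw hc
    by_contra hcon
    push Not at hcon
    apply hQne
    intro p hp
    exact h.cent p (g.TM (hQ'T hp)) (fun u hu => cent_le h hv hv1 hinv hw hcon.1 hcon.2
      (fun p hp => hvT p (hQ'T hp)) hc p hp u hu)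
  -- claim 4
  set v' := t * v * t⁻¹ with hv'
  have htr' : ∀ x ∈ Q, ∀ w ∈ V, x * (t * w * t⁻¹) * x⁻¹ = t * w * t⁻¹ ∨
      x * (t * w * t⁻¹) * x⁻¹ = t * w * t⁻¹ * v' := by
    intro x hx w hw
    have h1 : t⁻¹ * x * t ∈ Q' := by
      rw [hQ', mem_cj]
      have h2 := h.normQ _ (M.inv_mem httM) x hx
      have h3 : (t * t)⁻¹ * x * ((t * t)⁻¹)⁻¹ = t⁻¹ * (t⁻¹ * x * t) * t := by
        simp only [mul_inv_rev, inv_inv, mul_assoc]
      rwa [h3] at h2
    have h2 : x * (t * w * t⁻¹) * x⁻¹ = t * ((t⁻¹ * x * t) * w * (t⁻¹ * x * t)⁻¹) * t⁻¹ := by group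
    rcases htr _ h1 w hw with h3 | h3
    · left; rw [h2, h3]
    · right; rw [h2, h3, hv']; group
  -- abelian
  have hQ'comm : ∀ x ∈ Q', ∀ y ∈ Q', x * y = y * x := by
    intro x hx y hy
    rw [hQ', mem_cj] at hx hy
    have h1 := h.comm _ hx _ hy
    calc x * y = t * ((t⁻¹ * x * t) * (t⁻¹ * y * t)) * t⁻¹ := by group
      _ = t * ((t⁻¹ * y * t) * (t⁻¹ * x * t)) * t⁻¹ := by rw [h1]
      _ = y * x := by group
  -- claim 5
  obtain ⟨w, hw, w', hw', hww⟩ : ∃ w ∈ V, ∃ w' ∈ cj t V, w' * w ≠ w * w' := by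
    by_contra hcon
    push Not at hcon
    have hV'Q' : cj t V ≤ Q' := map_mono h.VQ
    have h1 : cj t V ≤ Q := fun x hx =>
      h.cent x (g.TM (hQ'T (hV'Q' hx))) (fun u hu => hcon u hu x hx)
    have hsq : ∀ x ∈ cj t V, x * x = 1 := by
      intro x hx
      rw [mem_cj] at hx
      have h2 := h.sqV _ hx
      calc x * x = t * ((t⁻¹ * x * t) * (t⁻¹ * x * t)) * t⁻¹ := by group
        _ = 1 := by rw [h2]; group
    -- elements of `V'` in `V` are in `{1, v}`
    have h2 : ∀ x ∈ cj t V, x ∈ V → x = 1 ∨ x = v := fun x hx hxV =>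
      hfix x hxV (fun p hp => hQ'comm p hp x (hV'Q' hx))
    have h8 : Nat.card (cj t V) = 8 := by rw [card_cj, h.cardV]
    obtain ⟨x, hx, x1, x2⟩ := exists_out_two (V := cj t V) (by rw [h8]; norm_num) 1 v
    have hxV : x ∉ V := fun hc => by
      rcases h2 x hx hc with h3 | h3
      exacts [x1 h3, x2 h3]
    have hxc : x * c ∈ V := (hΩ x (h1 hx) (hsq x hx)).resolve_left hxV
    obtain ⟨y, hy, y1, y2, y3, y4⟩ := exists_out (V := cj t V) (by rw [h8]; norm_num) 1 v x (x * v)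
    have hyV : y ∉ V := fun hc => by
      rcases h2 y hy hc with h3 | h3
      exacts [y1 h3, y2 h3]
    have hyc : y * c ∈ V := (hΩ y (h1 hy) (hsq y hy)).resolve_left hyV
    have hxyV : x * y ∈ V := by
      have h3 := V.mul_mem hxc hyc
      have h4 : x * c * (y * c) = x * y := by
        have h5 : c * y = y * c := h.comm c hcQ y (h1 hy)
        calc x * c * (y * c) = x * (c * y) * c := by group
          _ = x * (y * c) * c := by rw [h5]
          _ = x * y * (c * c) := by group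
          _ = x * y := by rw [hcc, mul_one]
      rwa [h4] at h3
    have hxx : x⁻¹ = x := inv_eq_of_mul_eq_one_left (hsq x hx)
    rcases h2 (x * y) (mul_mem hx hy) hxyV with h3 | h3
    · apply y3
      rw [eq_inv_of_mul_eq_one_right h3, hxx]
    · apply y4
      rw [← h3, ← mul_assoc, hsq x hx, one_mul]
  -- claim 6
  have hw'Q' : w' ∈ Q' := map_mono h.VQ hw'
  have hvv' : v' = v := by
    have h1 : w' * w * w'⁻¹ = w * v := by
      rcases htr w' hw'Q' w hw with h1 | h1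
      · exfalso
        exact hww (by
          calc w' * w = (w' * w * w'⁻¹) * w' := by group
            _ = w * w' := by rw [h1])
      · exact h1
    obtain ⟨u, hu, rfl⟩ := hw'
    have hue : (MulAut.conj t).toMonoidHom u = t * u * t⁻¹ := rfl
    have h2 : w * (t * u * t⁻¹) * w⁻¹ = t * u * t⁻¹ * v' := by
      rcases htr' w (h.VQ hw) u hu with h2 | h2
      · exfalso
        apply hww
        rw [hue]
        calc t * u * t⁻¹ * w = (w * (t * u * t⁻¹) * w⁻¹) * w := by rw [h2]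
          _ = w * (t * u * t⁻¹) := by group
      · exact h2
    rw [hue] at h1
    have h3 : w * (t * u * t⁻¹) * w⁻¹ * (t * u * t⁻¹)⁻¹ =
        ((t * u * t⁻¹) * w * (t * u * t⁻¹)⁻¹ * w⁻¹)⁻¹ := by group
    rw [h2, h1] at h3
    have h4 : w * v * w⁻¹ = v := by rw [h.commV hw hv, mul_inv_cancel_right]
    rw [h4, h.inv_eq hv] at h3
    have hv'T : t * u * t⁻¹ * v' * (t * u * t⁻¹)⁻¹ = v' := by
      rw [hv']
      have h5 : u * v * u⁻¹ = v := by rw [h.commV hu hv, mul_inv_cancel_right]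
      calc t * u * t⁻¹ * (t * v * t⁻¹) * (t * u * t⁻¹)⁻¹ = t * (u * v * u⁻¹) * t⁻¹ := by group
        _ = t * v * t⁻¹ := by rw [h5]
    rw [hv'T] at h3
    exact h3
  -- claim 7
  have hvc2 : v = c' * c := by
    rcases hvc with h1 | h1
    · exfalso
      apply hne
      have h2 : t * c' * t⁻¹ = c' := by
        have h3 : t * v * t⁻¹ = v := by rw [← hv']; exact hvv'
        rwa [h1] at h3
      have h3 : t * c' * t⁻¹ = (t * t) * c * (t * t)⁻¹ := by rw [hc']; group
      rw [(hcM _).mp httM, mul_inv_cancel_right] at h3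
      rw [← h2, h3]
    · exact h1
  have hc'V : c' ∉ V := by
    intro hc
    apply hcV
    have h1 : c = c' * v := by rw [hvc2, ← mul_assoc, hc'c', one_mul]
    rw [h1]
    exact V.mul_mem hc hv
  -- claim 8
  have hQ'M : Q' ≤ M := hQ'T.trans g.TM
  have h4 : Nat.card Q ≤ 4 * Nat.card (Q ⊓ Q' : Subgroup G) := by
    obtain ⟨a, ha, a1, a2⟩ := exists_out_two (V := V) (by rw [h.cardV]; norm_num) 1 v
    obtain ⟨b, hb, b1, b2, b3, b4⟩ := exists_out (V := V) (by rw [h.cardV]; norm_num) 1 v a (a * v)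
    classical
    have h1 := card_le_mul (P := Q') (D := Q ⊓ Q') inf_le_right (α := Bool × Bool)
      (fun p => (decide ((p : G) * a * (p : G)⁻¹ = a), decide ((p : G) * b * (p : G)⁻¹ = b))) (by
        intro x y hxy
        have hxyQ' : (x : G)⁻¹ * y ∈ Q' := Q'.mul_mem (Q'.inv_mem x.2) y.2
        refine ⟨?_, hxyQ'⟩
        simp only [Prod.mk.injEq, decide_eq_decide] at hxy
        obtain ⟨e1, e2⟩ := hxy
        have key : ∀ u ∈ V, ((x : G) * u * (x : G)⁻¹ = u ↔ (y : G) * u * (y : G)⁻¹ = u) →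
            (x : G)⁻¹ * y * u = u * ((x : G)⁻¹ * y) := by
          intro u hu he
          have e3 : (x : G) * u * (x : G)⁻¹ = (y : G) * u * (y : G)⁻¹ := by
            rcases htr x x.2 u hu with e | e <;> rcases htr y y.2 u hu with e' | e'
            · rw [e, e']
            · rw [he.mp e, e]
            · rw [he.mpr e', e']
            · rw [e, e']
          calc (x : G)⁻¹ * y * u = (x : G)⁻¹ * (y * u * (y : G)⁻¹) * y := by group
            _ = (x : G)⁻¹ * (x * u * (x : G)⁻¹) * y := by rw [e3]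
            _ = u * ((x : G)⁻¹ * y) := by group
        refine h.cent _ (M.mul_mem (M.inv_mem (hQ'M x.2)) (hQ'M y.2)) (fun u hu => ?_)
        -- the centralizer of `x⁻¹ y` in `V` contains `v, a, b`
        set p := (x : G)⁻¹ * y with hp
        have hpv : p * v = v * p := hvT p (hQ'T hxyQ')
        have hpa : p * a = a * p := key a ha e1
        have hpb : p * b = b * p := key b hb e2
        have hC : V ≤ centralizer {p} := by
          have hdiv : Nat.card (V ⊓ centralizer {p} : Subgroup G) ∣ 8 := by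
            rw [← h.cardV]
            exact card_dvd_of_le inf_le_left
          have hmem : ∀ u ∈ V, p * u = u * p → u ∈ V ⊓ centralizer {p} := fun u hu hc =>
            ⟨hu, mem_centralizer_singleton_iff.mpr hc.symm⟩
          have h5 : 4 < Nat.card (V ⊓ centralizer {p} : Subgroup G) := by
            have h5 : ({1, v, a, a * v, b} : Set G) ⊆ (V ⊓ centralizer {p} : Subgroup G) := by
              rintro y (rfl | rfl | rfl | rfl | rfl)
              · exact one_mem _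
              · exact hmem _ hv hpv
              · exact hmem _ ha hpa
              · exact mul_mem (hmem _ ha hpa) (hmem _ hv hpv)
              · exact hmem _ hb hpb
            have h6 := Set.ncard_le_ncard h5 (Set.toFinite _)
            have e1 : a ≠ a * v := fun hc => hv1 (by simpa using hc)
            have e2 : (1 : G) ≠ a * v := fun hc => a2 (by
              have := eq_inv_of_mul_eq_one_left hc.symm
              rw [this, h.inv_eq hv])
            have e3 : v ≠ a * v := fun hc => a1 (by simpa using hc)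
            have h8 : ({1, v, a, a * v, b} : Set G).ncard = 5 := by
              rw [Set.ncard_insert_of_notMem (by
                  rintro (hc | hc | hc | hc)
                  exacts [hv1 hc.symm, a1 hc.symm, e2 hc, b1 hc.symm]),
                Set.ncard_insert_of_notMem (by
                  rintro (hc | hc | hc)
                  exacts [a2 hc.symm, e3 hc, b2 hc.symm]),
                Set.ncard_insert_of_notMem (by
                  rintro (hc | hc)
                  exacts [e1 hc, b3 hc.symm]),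
                Set.ncard_pair (fun hc => b4 hc.symm)]
            have e4 : ((V ⊓ centralizer {p} : Subgroup G) : Set G).ncard =
              Nat.card (V ⊓ centralizer {p} : Subgroup G) := rfl
            rw [h8, e4] at h6
            omega
          have h6 : Nat.card (V ⊓ centralizer {p} : Subgroup G) = 8 := by
            have h7 := Nat.le_of_dvd (by norm_num) hdiv
            interval_cases hcard : Nat.card (V ⊓ centralizer {p} : Subgroup G) <;> omega
          have h7 : V ⊓ centralizer {p} = V :=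
            Subgroup.eq_of_le_of_card_ge inf_le_left (by rw [h6, h.cardV])
          exact inf_eq_left.mp h7
        exact (mem_centralizer_singleton_iff.mp (hC hu)).symm)
    have h2 : Nat.card (Bool × Bool) = 4 := by simp
    rw [h2, hQ', card_cj] at h1
    exact h1
  -- claim 9
  have hDV : Nat.card ((Q ⊓ Q') ⊓ V : Subgroup G) ≤ 2 := by
    refine card_le_of_subset (s := {1, v}) (Set.toFinite _) ?_ (ncard_le_two 1 v)
    rintro x ⟨⟨hxQ, hxQ'⟩, hxV⟩
    exact hfix x hxV (fun p hp => hQ'comm p hp x hxQ')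
  rcases hk with ⟨hr, hel⟩ | ⟨n, hn, ⟨d, hd, hdc⟩, hpow⟩
  · -- `k = 1`
    have hD4 : Nat.card (Q ⊓ Q' : Subgroup G) ≤ 4 := by
      by_contra hcon
      obtain ⟨x, ⟨hx, hx'⟩, x1, x2, -, -⟩ := exists_out (V := Q ⊓ Q') (by omega) 1 v 1 1
      have hmem : ∀ x ∈ Q ⊓ Q', x ∈ V → x = 1 ∨ x = v := fun x hx hxV =>
        hfix x hxV (fun p hp => hQ'comm p hp x hx.2)
      have hxV : x ∉ V := fun hc => by
        rcases hmem x ⟨hx, hx'⟩ hc with h3 | h3
        exacts [x1 h3, x2 h3]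
      obtain ⟨y, ⟨hy, hy'⟩, y1, y2, y3, y4⟩ := exists_out (V := Q ⊓ Q') (by omega) 1 v x (x * v)
      have hyV : y ∉ V := fun hc => by
        rcases hmem y ⟨hy, hy'⟩ hc with h3 | h3
        exacts [y1 h3, y2 h3]
      have hxc := (hΩ x hx (hel x hx)).resolve_left hxV
      have hyc := (hΩ y hy (hel y hy)).resolve_left hyV
      have hxyV : x * y ∈ V := by
        have h3 := V.mul_mem hxc hyc
        have h4 : x * c * (y * c) = x * y := by
          have h5 : c * y = y * c := h.comm c hcQ y hy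
          calc x * c * (y * c) = x * (c * y) * c := by group
            _ = x * (y * c) * c := by rw [h5]
            _ = x * y * (c * c) := by group
            _ = x * y := by rw [hcc, mul_one]
        rwa [h4] at h3
      have hxx : x⁻¹ = x := inv_eq_of_mul_eq_one_left (hel x hx)
      rcases hmem (x * y) (mul_mem ⟨hx, hx'⟩ ⟨hy, hy'⟩) hxyV with h3 | h3
      · apply y3
        rw [eq_inv_of_mul_eq_one_right h3, hxx]
      · apply y4
        rw [← h3, ← mul_assoc, hel x hx, one_mul]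
    have h16 : 16 ≤ Nat.card Q := by
      obtain ⟨k, hk⟩ := card_dvd_of_le h.VQ
      rw [h.cardV] at hk
      have hk0 : Nat.card Q ≠ 0 := Nat.card_pos.ne'
      rcases Nat.lt_or_ge k 2 with hk2 | hk2
      · exfalso
        have h9 : k = 1 := by
          rcases Nat.lt_or_ge k 1 with h9 | h9
          · interval_cases k
            omega
          · omega
        rw [h9] at hk
        apply hcV
        have : V = Q := Subgroup.eq_of_le_of_card_ge h.VQ (by rw [hk, h.cardV])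
        rw [this]; exact hcQ
      · omega
    have hnorm : ∀ p ∈ Q', ∀ x ∈ Q, p * x * p⁻¹ ∈ Q := fun p hp => h.normQ p (hQ'M hp)
    have hR := card_sup_mul hnorm
    rw [hQ', card_cj, ← hQ'] at hR
    have hR64 : 64 ≤ Nat.card (Q ⊔ Q' : Subgroup G) := by
      by_contra hcon
      have h9 : Nat.card (Q ⊔ Q' : Subgroup G) * Nat.card (Q ⊓ Q' : Subgroup G) ≤ 63 * 4 :=
        Nat.mul_le_mul (by omega) hD4
      have h10 : 16 * 16 ≤ Nat.card Q * Nat.card Q := Nat.mul_le_mul h16 h16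
      omega
    have hvv := h.sqV v hv
    have hvQ' : v ∈ Q' := by
      have h9 := conj_mem_cj (t := t) (h.VQ hv)
      rw [← hv', hvv'] at h9
      exact h9
    have hRT : Q ⊔ Q' ≤ T := sup_le g.QT hQ'T
    have hzm : ∀ x ∈ zpowers v, x = 1 ∨ x = v := by
      rintro _ ⟨n, rfl⟩
      rcases Int.even_or_odd' n with ⟨k, rfl | rfl⟩
      · left
        have : v ^ (2 * k) = (v * v) ^ k := by rw [← pow_two, ← zpow_natCast, ← zpow_mul]; rfl
        simp only [this, hvv, one_zpow]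
      · right
        have : v ^ (2 * k + 1) = (v * v) ^ k * v := by
          rw [← pow_two, ← zpow_natCast, ← zpow_mul, zpow_add_one]; rfl
        simp only [this, hvv, one_zpow, one_mul]
    have hsec : ElemSection 2 (Q ⊔ Q') (zpowers v) := by
      refine elem_of_sq (zpowers_le.mpr (mem_sup_left (h.VQ hv))) (fun x hx n hn => ?_) (fun r hr' => ?_)
      · rcases hzm n hn with rfl | rfl
        · rw [mul_one, mul_inv_cancel]; exact one_mem _
        · rw [hvT x (hRT hx), mul_inv_cancel_right]; exact hn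
      · obtain ⟨x, hx, p, hp, rfl⟩ := exists_mem_sup hnorm hr'
        have hpp : p * p = 1 := by
          have h9 := hel _ (mem_cj.mp hp)
          calc p * p = t * ((t⁻¹ * p * t) * (t⁻¹ * p * t)) * t⁻¹ := by group
            _ = 1 := by rw [h9]; group
        have hpx : p * x * p⁻¹ = x ∨ p * x * p⁻¹ = x * v := by
          rcases hΩ x hx (hel x hx) with h9 | h9
          · exact htr p hp x h9
          · have h10 : p * (x * c) * p⁻¹ = (p * x * p⁻¹) * c := by
              have h11 := hcT p (hQ'T hp)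
              calc p * (x * c) * p⁻¹ = p * x * p⁻¹ * (p * c) * p⁻¹ := by group
                _ = p * x * p⁻¹ * (c * p) * p⁻¹ := by rw [h11]
                _ = (p * x * p⁻¹) * c := by group
            rcases htr p hp _ h9 with h11 | h11
            · left
              rw [h10] at h11
              exact mul_right_cancel h11
            · right
              rw [h10, mul_assoc x c v, h.comm c hcQ v (h.VQ hv), ← mul_assoc x v c] at h11
              exact mul_right_cancel h11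
        have h11 : x * p * (x * p) = x * (p * x * p⁻¹) * (p * p) := by group
        rw [h11, hpp, mul_one]
        rcases hpx with h12 | h12
        · rw [h12, hel x hx]; exact one_mem _
        · rw [h12, ← mul_assoc, hel x hx, one_mul]; exact mem_zpowers v
    have h12 := hr _ _ hsec
    have h13 : Nat.card (zpowers v) = 2 := by
      rw [Nat.card_zpowers]
      exact orderOf_eq_prime (by rw [pow_two]; exact hvv) hv1
    rw [h13] at h12
    omega
  · have hmul := exists_mul (D := Q ⊓ Q') (V := V) (Q := Q) inf_le_left h.VQ (by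
      rw [h.cardV]
      calc Nat.card Q * Nat.card ((Q ⊓ Q') ⊓ V : Subgroup G)
          ≤ (4 * Nat.card (Q ⊓ Q' : Subgroup G)) * 2 := Nat.mul_le_mul h4 hDV
        _ = Nat.card (Q ⊓ Q' : Subgroup G) * 8 := by ring)
    obtain ⟨d1, ⟨hd1, hd1'⟩, u, hu, hdu⟩ := hmul d hd
    have h5 : u ^ (2 ^ n) = 1 := by
      obtain ⟨k, rfl⟩ : ∃ k, n = k + 1 := ⟨n - 1, by omega⟩
      rw [pow_succ, mul_comm, pow_mul, pow_two, h.sqV u hu, one_pow]
    have h6 : d1 ^ (2 ^ n) = c := by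
      have h7 : Commute d1 u := h.comm d1 hd1 u (h.VQ hu)
      rw [hdu, h7.mul_pow, h5, mul_one] at hdc
      exact hdc
    have h7 : t * d1 * t⁻¹ ∈ Q := by
      have hd1' : t⁻¹ * d1 * t ∈ Q := mem_cj.mp hd1'
      have h8 := h.normQ _ httM _ hd1'
      have h9 : t * t * (t⁻¹ * d1 * t) * (t * t)⁻¹ = t * d1 * t⁻¹ := by group
      rwa [h9] at h8
    have h8 : (t * d1 * t⁻¹) ^ (2 ^ n) = c' := by
      rw [conj_pow, h6]
    rcases hpow _ h7 with h9 | h9
    · rw [h8] at h9; exact hcne h9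
    · rw [h8] at h9; exact hne h9

end center

/-- **Growth, case (b)**: `c` is the only involution of `Q` fixed by `T` and `C_G(c) ≤ M`. -/
theorem false_of_fixed {M Q T : Subgroup G} {c t : G} (g : Grow M Q T t)
    (hcM : ∀ x : G, x * c = c * x → x ∈ M) (hcT : ∀ x ∈ T, x * c = c * x) (hc1 : c ≠ 1)
    (hcc : c * c = 1) (hfix : ∀ x ∈ Q, x * x = 1 → (∀ y ∈ T, y * x = x * y) → x = 1 ∨ x = c) :
    False := by
  set c' := t * c * t⁻¹ with hc'
  have hc'T : ∀ x ∈ T, x * c' = c' * x := by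
    intro x hx
    have h1 := hcT _ (g.tT' hx)
    calc x * c' = t * ((t⁻¹ * x * t) * c) * t⁻¹ := by rw [hc']; group
      _ = t * (c * (t⁻¹ * x * t)) * t⁻¹ := by rw [h1]
      _ = c' * x := by rw [hc']; group
  have hc'Q : c' ∈ Q := g.centQ c' (fun x hx => (hc'T x (g.QT hx)).symm)
  have hc'c' : c' * c' = 1 := by
    calc c' * c' = t * (c * c) * t⁻¹ := by rw [hc']; group
      _ = 1 := by rw [hcc]; group
  rcases hfix c' hc'Q hc'c' hc'T with h1 | h1
  · apply hc1
    calc c = t⁻¹ * (t * c * t⁻¹) * t := by group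
      _ = 1 := by rw [← hc', h1]; group
  · apply g.tM
    apply hcM
    calc t * c = (t * c * t⁻¹) * t := by group
      _ = c * t := by rw [← hc', h1]

section threeOne

variable [Finite G]

/-- Two elements outside a subgroup of index 2. -/
theorem mul_mem_of_card {V Q : Subgroup G} (hVQ : V ≤ Q) (hc : Nat.card Q = 2 * Nat.card V) {x y : G}
    (hx : x ∈ Q) (hy : y ∈ Q) (hxV : x ∉ V) (hyV : y ∉ V) : x * y ∈ V := by
  have h1 : (V.subgroupOf Q).index = 2 := by
    have h2 := (V.subgroupOf Q).card_mul_index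
    rw [Nat.card_congr (Subgroup.subgroupOfEquivOfLe hVQ).toEquiv, hc, mul_comm] at h2
    exact Nat.eq_of_mul_eq_mul_right Nat.card_pos h2
  have h3 := Subgroup.mul_mem_iff_of_index_two h1 (a := ⟨x, hx⟩) (b := ⟨y, hy⟩)
  have h4 : (⟨x, hx⟩ * ⟨y, hy⟩ : Q) ∈ V.subgroupOf Q := by
    rw [h3]
    exact ⟨fun h => absurd h hxV, fun h => absurd h hyV⟩
  exact h4

/-- The square of an automorphism of `Q` fixing `F < V < Q` (indices 2) acts trivially on `Q / F`. -/
theorem sq_trivial {F V Q : Subgroup G} (hFV : F ≤ V) (hVQ : V ≤ Q) (hcV : Nat.card V = 2 * Nat.card F)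
    (hcQ : Nat.card Q = 2 * Nat.card V) (hcomm : ∀ x ∈ Q, ∀ y ∈ Q, x * y = y * x)
    (hel : ∀ x ∈ Q, x * x = 1) {y : G} (hyF : ∀ x ∈ F, y * x * y⁻¹ ∈ F) (hyF' : ∀ x ∈ F, y⁻¹ * x * y ∈ F)
    (hyV : ∀ x ∈ V, y * x * y⁻¹ ∈ V) (hyV' : ∀ x ∈ V, y⁻¹ * x * y ∈ V)
    (hyQ : ∀ x ∈ Q, y * x * y⁻¹ ∈ Q) : ∀ x ∈ Q, (y * y) * x * (y * y)⁻¹ * x⁻¹ ∈ F := by
  -- `φ(x) x ∈ F` for `x ∈ V`
  have h1 : ∀ x ∈ V, y * x * y⁻¹ * x ∈ F := by
    intro x hx
    by_cases hxF : x ∈ F
    · exact F.mul_mem (hyF x hxF) hxF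
    · refine mul_mem_of_card hFV hcV (hyV x hx) hx (fun hc => hxF ?_) hxF
      have h2 := hyF' _ hc
      have h3 : y⁻¹ * (y * x * y⁻¹) * y = x := by group
      rwa [h3] at h2
  have h2 : ∀ x ∈ Q, y * x * y⁻¹ * x ∈ V := by
    intro x hx
    by_cases hxF : x ∈ V
    · exact V.mul_mem (hyV x hxF) hxF
    · refine mul_mem_of_card hVQ hcQ (hyQ x hx) hx (fun hc => hxF ?_) hxF
      have h2 := hyV' _ hc
      have h3 : y⁻¹ * (y * x * y⁻¹) * y = x := by group
      rwa [h3] at h2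
  intro x hx
  have hxx := hel x hx
  have h3 := h1 _ (h2 x hx)
  have h4 : (y * y) * x * (y * y)⁻¹ * x⁻¹ = y * (y * x * y⁻¹ * x) * y⁻¹ * (y * x * y⁻¹ * x) := by
    have h5 := hel _ (hyQ x hx)
    have h6 : x⁻¹ = x := inv_eq_of_mul_eq_one_left hxx
    calc (y * y) * x * (y * y)⁻¹ * x⁻¹ = y * (y * x * y⁻¹) * y⁻¹ * x := by
          rw [h6]; simp only [mul_inv_rev, mul_assoc]
      _ = y * (y * x * y⁻¹) * y⁻¹ * ((y * x * y⁻¹) * (y * x * y⁻¹)) * x := by rw [h5, mul_one]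
      _ = y * (y * x * y⁻¹ * x) * y⁻¹ * (y * x * y⁻¹ * x) := by group
  rw [h4]
  exact h3

variable {M Q V T : Subgroup G} {t : G}

/-- **Growth, case (c)**: `Q` elementary abelian of order 16 with `T / Q` semiregular on `Q - V`. -/
theorem false_of_three_one (h : Nat3 M Q V) (g : Grow M Q T t) (hQ16 : Nat.card Q = 16)
    (hel : ∀ x ∈ Q, x * x = 1) (hreg : ∀ x ∈ Q, x ∉ V → ∀ y ∈ T, y * x = x * y → y ∈ Q)
    (hT : Nat.card T ≤ 128) (hna : ∃ a ∈ T, ∃ b ∈ T, a * b * a⁻¹ * b⁻¹ ∉ Q) : False := by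
  have httM : t * t ∈ M := g.TM g.tt
  set Q' := cj t Q with hQ'
  have hQ'T : Q' ≤ T := by
    intro x hx
    rw [hQ', mem_cj] at hx
    have h1 := g.tT _ (g.QT hx)
    have h2 : t * (t⁻¹ * x * t) * t⁻¹ = x := by group
    rwa [h2] at h1
  have hQ'M : Q' ≤ M := hQ'T.trans g.TM
  have hcQ' : Nat.card Q' = 16 := by rw [hQ', card_cj, hQ16]
  have hQne : ¬ Q' ≤ Q := by
    intro hle
    have h1 : Q' = Q := Subgroup.eq_of_le_of_card_ge hle (by rw [hcQ', hQ16])
    apply g.tM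
    refine g.normM t (fun x hx => ?_)
    rw [← h1]
    exact conj_mem_cj hx
  have hQ'comm : ∀ x ∈ Q', ∀ y ∈ Q', x * y = y * x := by
    intro x hx y hy
    rw [hQ', mem_cj] at hx hy
    have h1 := h.comm _ hx _ hy
    calc x * y = t * ((t⁻¹ * x * t) * (t⁻¹ * y * t)) * t⁻¹ := by group
      _ = t * ((t⁻¹ * y * t) * (t⁻¹ * x * t)) * t⁻¹ := by rw [h1]
      _ = y * x := by group
  have hel' : ∀ x ∈ Q', x * x = 1 := by
    intro p hp
    have h9 := hel _ (mem_cj.mp hp)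
    calc p * p = t * ((t⁻¹ * p * t) * (t⁻¹ * p * t)) * t⁻¹ := by group
      _ = 1 := by rw [h9]; group
  have htQ' : ∀ x ∈ Q', t * x * t⁻¹ ∈ Q := by
    intro x hx
    have h8 := h.normQ _ httM _ (mem_cj.mp hx)
    have h9 : t * t * (t⁻¹ * x * t) * (t * t)⁻¹ = t * x * t⁻¹ := by group
    rwa [h9] at h8
  set F := Q ⊓ Q' with hF
  -- step 1
  have hFC : ∀ p ∈ Q', p ∉ Q → F ≤ V ⊓ centralizer {p} := by
    rintro p hp hpQ x ⟨hx, hx'⟩
    have h1 := hQ'comm p hp x hx'
    refine ⟨?_, mem_centralizer_singleton_iff.mpr h1.symm⟩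
    by_contra hxV
    exact hpQ (hreg x hx hxV p (hQ'T hp) h1)
  have hC4 : ∀ p ∈ Q', p ∉ Q → Nat.card (V ⊓ centralizer {p} : Subgroup G) ≤ 4 := by
    intro p hp hpQ
    by_contra hcon
    have hdiv : Nat.card (V ⊓ centralizer {p} : Subgroup G) ∣ 8 := by
      rw [← h.cardV]
      exact card_dvd_of_le inf_le_left
    have h6 : Nat.card (V ⊓ centralizer {p} : Subgroup G) = 8 := by
      have h7 := Nat.le_of_dvd (by norm_num) hdiv
      interval_cases hcard : Nat.card (V ⊓ centralizer {p} : Subgroup G) <;> omega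
    have h7 : V ⊓ centralizer {p} = V :=
      Subgroup.eq_of_le_of_card_ge inf_le_left (by rw [h6, h.cardV])
    exact hpQ (h.cent p (hQ'M hp) (fun v hv =>
      (mem_centralizer_singleton_iff.mp ((inf_eq_left.mp h7) hv)).symm))
  obtain ⟨p0, hp0, hp0Q⟩ := SetLike.not_le_iff_exists.mp hQne
  -- step 2
  have hnorm : ∀ p ∈ Q', ∀ x ∈ Q, p * x * p⁻¹ ∈ Q := fun p hp => h.normQ p (hQ'M hp)
  have hR := card_sup_mul hnorm
  rw [hQ16, hcQ', ← hF] at hR
  have hRT : Q ⊔ Q' ≤ T := sup_le g.QT hQ'T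
  have hF4 : Nat.card F = 4 := by
    have h1 : Nat.card F ≤ 4 := (card_le_of_le (hFC p0 hp0 hp0Q)).trans (hC4 p0 hp0 hp0Q)
    have h2 : Nat.card (Q ⊔ Q' : Subgroup G) ≤ 128 := (card_le_of_le hRT).trans hT
    have h3 : Nat.card F ∣ 16 := by rw [← hQ16]; exact card_dvd_of_le inf_le_left
    have h4 : Nat.card F ≠ 2 := by
      intro h4
      rw [h4] at hR
      have h5 : Nat.card (Q ⊔ Q' : Subgroup G) = 128 := by omega
      have h6 : Q ⊔ Q' = T := Subgroup.eq_of_le_of_card_ge hRT (by rw [h5]; exact hT)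
      obtain ⟨a, ha, b, hb, hab⟩ := hna
      rw [← h6] at ha hb
      obtain ⟨x, hx, p, hp, rfl⟩ := exists_mem_sup hnorm ha
      obtain ⟨y, hy, q, hq, rfl⟩ := exists_mem_sup hnorm hb
      apply hab
      have h7 : x * p * (y * q) * (x * p)⁻¹ * (y * q)⁻¹ =
          x * (p * y * p⁻¹) * ((p * q) * (q * p)⁻¹) * (y * (q * x * q⁻¹))⁻¹ := by
        simp only [mul_inv_rev, inv_inv]
        group
      rw [h7, hQ'comm p hp q hq, mul_inv_cancel, mul_one]
      exact Q.mul_mem (Q.mul_mem hx (hnorm p hp y hy)) (Q.inv_mem (Q.mul_mem hy (hnorm q hq x hx)))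
    have h5 : Nat.card F ≠ 0 := Nat.card_pos.ne'
    have h6 : Nat.card F ≠ 3 := by intro h6; rw [h6] at h3; omega
    have h7 : Nat.card F ≠ 1 := by intro h7; rw [h7] at hR; omega
    omega
  have hFV : F ≤ V := (hFC p0 hp0 hp0Q).trans inf_le_left
  have hCF : ∀ p ∈ Q', p ∉ Q → ∀ x ∈ V, p * x = x * p → x ∈ F := by
    intro p hp hpQ x hx hc
    have h1 : F = V ⊓ centralizer {p} :=
      Subgroup.eq_of_le_of_card_ge (hFC p hp hpQ) (by rw [hF4]; exact hC4 p hp hpQ)
    rw [h1]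
    exact ⟨hx, mem_centralizer_singleton_iff.mpr hc.symm⟩
  have hcV2 : Nat.card V = 2 * Nat.card F := by rw [h.cardV, hF4]
  have hcQ2 : Nat.card Q = 2 * Nat.card V := by rw [h.cardV, hQ16]
  -- step 3
  have hinv : ∀ r ∈ Q ⊔ Q', r * r = 1 → r ∈ Q ∨ r ∈ Q' := by
    intro r hr hrr
    obtain ⟨x, hx, p, hp, rfl⟩ := exists_mem_sup hnorm hr
    by_cases hpQ : p ∈ Q
    · exact Or.inl (Q.mul_mem hx hpQ)
    · right
      have h1 : x * (p * x * p⁻¹) = 1 := by
        calc x * (p * x * p⁻¹) = (x * p * (x * p)) * (p * p)⁻¹ := by group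
          _ = 1 := by rw [hrr, hel' p hp]; group
      have h2 : p * x = x * p := by
        have h3 : p * x * p⁻¹ = x := by
          rw [eq_inv_of_mul_eq_one_right h1]
          exact inv_eq_of_mul_eq_one_left (hel x hx)
        calc p * x = (p * x * p⁻¹) * p := by group
          _ = x * p := by rw [h3]
      have hxV : x ∈ V := by
        by_contra hxV
        exact hpQ (hreg x hx hxV p (hQ'T hp) h2)
      exact Q'.mul_mem (hCF p hp hpQ x hxV h2).2 hp
  -- step 4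
  have htF : ∀ x ∈ F, t * x * t⁻¹ ∈ F := fun x hx => ⟨htQ' x hx.2, conj_mem_cj hx.1⟩
  have htF' : ∀ x ∈ F, t⁻¹ * x * t ∈ F := by
    intro x hx
    have h1 : cj t F = F := Subgroup.eq_of_le_of_card_ge (by
      rintro _ ⟨y, hy, rfl⟩
      exact htF y hy) (by rw [card_cj])
    have h2 : x ∈ cj t F := by rw [h1]; exact hx
    exact mem_cj.mp h2
  -- step 5
  obtain ⟨f1, hf1, f11, -⟩ := exists_out_two (V := F) (by rw [hF4]; norm_num) 1 1
  obtain ⟨f2, hf2, f21, f22⟩ := exists_out_two (V := F) (by rw [hF4]; norm_num) 1 f1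
  have hVF : ¬ V ≤ F := fun hc => by
    have := card_le_of_le hc
    rw [h.cardV, hF4] at this
    omega
  obtain ⟨c, hc, hcF⟩ := SetLike.not_le_iff_exists.mp hVF
  have hf12 : f1 * f2 ∈ F := F.mul_mem hf1 hf2
  have hne : ∀ x ∈ F, c ≠ x := fun x hx hcx => hcF (hcx ▸ hx)
  have hinvF : ∀ x ∈ F, x⁻¹ = x := fun x hx => h.inv_eq (hFV hx)
  have e12 : f1 * f2 ≠ 1 := fun hc => f22 (by
    rw [eq_inv_of_mul_eq_one_right hc, hinvF f1 hf1])
  have e1 : f1 * f2 ≠ f2 := fun hc => f11 (by simpa using hc)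
  have e2 : f1 * f2 ≠ f1 := fun hc => f21 (by simpa using hc)
  obtain ⟨θ, hθ, θ1, θ2, θ3⟩ := h.tri f1 (hFV hf1) f2 (hFV hf2) c hc f2 (hFV hf2) (f1 * f2)
    (hFV hf12) c hc ⟨f11, f21, f22, hne 1 F.one_mem, hne f1 hf1, hne f2 hf2, hne _ hf12⟩
    ⟨f21, e12, e1, hne 1 F.one_mem, hne f2 hf2, hne _ hf12, hne _ (F.mul_mem hf2 hf12)⟩
  -- `F = {1, f1, f2, f1 f2}`
  have hFm : ∀ x ∈ F, x = 1 ∨ x = f1 ∨ x = f2 ∨ x = f1 * f2 := by
    by_contra hcc
    push Not at hcc
    obtain ⟨x, hx, x1, x2, x3, x4⟩ := hcc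
    have h5 : ({1, f1, f2, f1 * f2, x} : Set G) ⊆ F := by
      rintro y (rfl | rfl | rfl | rfl | rfl)
      · exact one_mem _
      · exact hf1
      · exact hf2
      · exact hf12
      · exact hx
    have h6 := Set.ncard_le_ncard h5 (Set.toFinite _)
    have h7 : (F : Set G).ncard = 4 := by
      have : (F : Set G).ncard = Nat.card F := rfl
      rw [this, hF4]
    have h8 : ({1, f1, f2, f1 * f2, x} : Set G).ncard = 5 := by
      rw [Set.ncard_insert_of_notMem (by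
          rintro (hc | hc | hc | hc)
          exacts [f11 hc.symm, f21 hc.symm, e12 hc.symm, x1 hc.symm]),
        Set.ncard_insert_of_notMem (by
          rintro (hc | hc | hc)
          exacts [f22 hc.symm, e2 hc.symm, x2 hc.symm]),
        Set.ncard_insert_of_notMem (by
          rintro (hc | hc)
          exacts [e1 hc.symm, x3 hc.symm]),
        Set.ncard_pair (fun hc => x4 hc.symm)]
    rw [h7, h8] at h6
    omega
  have hθF : ∀ x ∈ F, θ * x * θ⁻¹ ∈ F := by
    intro x hx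
    rcases hFm x hx with rfl | rfl | rfl | rfl
    · rw [mul_one, mul_inv_cancel]; exact one_mem _
    · rw [θ1]; exact hf2
    · rw [θ2]; exact hf12
    · have : θ * (f1 * f2) * θ⁻¹ = (θ * f1 * θ⁻¹) * (θ * f2 * θ⁻¹) := by group
      rw [this, θ1, θ2]
      exact F.mul_mem hf2 hf12
  -- step 6: `C_M(F) = R`
  have hval : ∀ y ∈ M, (∀ x ∈ F, y * x = x * y) → y * c * y⁻¹ * c⁻¹ ∈ F := by
    intro y hy hyF
    rw [h.inv_eq hc]
    refine mul_mem_of_card hFV hcV2 (h.normV y hy c hc) hc (fun hcc => hcF ?_) hcF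
    have h1 := hyF _ hcc
    have h2 : y * c * y⁻¹ = c := by
      have h3 : y⁻¹ * (y * (y * c * y⁻¹)) * y = y⁻¹ * ((y * c * y⁻¹) * y) * y := by rw [h1]
      have h4 : y⁻¹ * (y * (y * c * y⁻¹)) * y = y * c := by group
      have h5 : y⁻¹ * ((y * c * y⁻¹) * y) * y = c * y := by group
      rw [h4, h5] at h3
      rw [h3, mul_inv_cancel_right]
    rwa [h2] at hcc
  have hVgen : ∀ y ∈ M, (∀ x ∈ F, y * x = x * y) → y * c = c * y → y ∈ Q := by
    intro y hy hyF hyc
    refine h.cent y hy (fun v hv => ?_)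
    by_cases hvF : v ∈ F
    · exact hyF v hvF
    · have h1 := mul_mem_of_card hFV hcV2 hv hc hvF hcF
      have h2 : v = v * c * c := by rw [mul_assoc, h.sqV c hc, mul_one]
      rw [h2]
      calc y * (v * c * c) = (y * (v * c)) * c := by group
        _ = (v * c * y) * c := by rw [hyF _ h1]
        _ = v * c * (y * c) := by group
        _ = v * c * (c * y) := by rw [hyc]
        _ = v * c * c * y := by group
  have hQ'F : ∀ p ∈ Q', ∀ x ∈ F, p * x = x * p := fun p hp x hx => hQ'comm p hp x hx.2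
  have hsurj : ∀ f ∈ F, ∃ p ∈ Q', p * c * p⁻¹ * c⁻¹ = f := by
    classical
    let α := {f : G // ∃ p ∈ Q', p * c * p⁻¹ * c⁻¹ = f}
    have h1 := card_le_mul (P := Q') (D := F) inf_le_right (α := α)
      (fun p => ⟨(p : G) * c * (p : G)⁻¹ * c⁻¹, p, p.2, rfl⟩) (by
        intro x y hxy
        have h1 : (x : G) * c * (x : G)⁻¹ = y * c * (y : G)⁻¹ := by
          have := congrArg Subtype.val hxy
          exact mul_right_cancel this
        have hm : (x : G)⁻¹ * y ∈ Q' := Q'.mul_mem (Q'.inv_mem x.2) y.2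
        refine ⟨hVgen _ (hQ'M hm) (hQ'F _ hm) ?_, hm⟩
        calc (x : G)⁻¹ * y * c = (x : G)⁻¹ * (y * c * (y : G)⁻¹) * y := by group
          _ = (x : G)⁻¹ * (x * c * (x : G)⁻¹) * y := by rw [h1]
          _ = c * ((x : G)⁻¹ * y) := by group)
    rw [hcQ', hF4] at h1
    have h2 : ({f : G | ∃ p ∈ Q', p * c * p⁻¹ * c⁻¹ = f} : Set G) ⊆ F := by
      rintro f ⟨p, hp, rfl⟩
      exact hval p (hQ'M hp) (hQ'F p hp)
    have h3 : ({f : G | ∃ p ∈ Q', p * c * p⁻¹ * c⁻¹ = f} : Set G).ncard = Nat.card α := rfl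
    have h4 : (F : Set G).ncard = 4 := by
      have : (F : Set G).ncard = Nat.card F := rfl
      rw [this, hF4]
    have h5 := Set.eq_of_subset_of_ncard_le h2 (by rw [h3, h4]; omega) (Set.toFinite _)
    intro f hf
    have h6 : f ∈ ({f : G | ∃ p ∈ Q', p * c * p⁻¹ * c⁻¹ = f} : Set G) := by rw [h5]; exact hf
    exact h6
  have hCR : ∀ y ∈ M, (∀ x ∈ F, y * x = x * y) → y ∈ Q ⊔ Q' := by
    intro y hy hyF
    obtain ⟨p, hp, hpc⟩ := hsurj _ (hval y hy hyF)
    have hpc' : p * c * p⁻¹ = y * c * y⁻¹ := mul_right_cancel hpc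
    have h1 : p⁻¹ * y ∈ Q := by
      refine hVgen _ (M.mul_mem (M.inv_mem (hQ'M hp)) hy) (fun x hx => ?_) ?_
      · have h2 := hQ'F _ (Q'.inv_mem hp) x hx
        calc p⁻¹ * y * x = p⁻¹ * (y * x) := by group
          _ = (p⁻¹ * x) * y := by rw [hyF x hx]; group
          _ = x * (p⁻¹ * y) := by rw [h2]; group
      · calc p⁻¹ * y * c = p⁻¹ * (y * c * y⁻¹) * y := by group
          _ = p⁻¹ * (p * c * p⁻¹) * y := by rw [hpc']
          _ = c * (p⁻¹ * y) := by group
    have h2 : y = p * (p⁻¹ * y) := by group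
    rw [h2]
    exact mul_mem (mem_sup_right hp) (mem_sup_left h1)
  have hRF : ∀ r ∈ Q ⊔ Q', ∀ x ∈ F, r * x = x * r := by
    intro r hr x hx
    obtain ⟨y, hy, p, hp, rfl⟩ := exists_mem_sup hnorm hr
    calc y * p * x = y * (p * x) := by group
      _ = (y * x) * p := by rw [hQ'F p hp x hx]; group
      _ = x * (y * p) := by rw [h.comm y hy x hx.1]; group
  -- step 7
  have hθF' : ∀ x ∈ F, θ⁻¹ * x * θ ∈ F := by
    intro x hx
    have h1 : cj θ F = F := Subgroup.eq_of_le_of_card_ge (by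
      rintro _ ⟨y, hy, rfl⟩
      exact hθF y hy) (by rw [card_cj])
    have h2 : x ∈ cj θ F := by rw [h1]; exact hx
    exact mem_cj.mp h2
  set θ' := t * θ * t⁻¹ with hθ'
  have hθR : ∀ r ∈ Q ⊔ Q', θ * r * θ⁻¹ ∈ Q ⊔ Q' := by
    intro r hr
    have hrM : r ∈ M := g.TM (hRT hr)
    refine hCR _ (M.mul_mem (M.mul_mem hθ hrM) (M.inv_mem hθ)) (fun x hx => ?_)
    have h1 := hRF r hr _ (hθF' x hx)
    calc θ * r * θ⁻¹ * x = θ * (r * (θ⁻¹ * x * θ)) * θ⁻¹ := by group
      _ = θ * ((θ⁻¹ * x * θ) * r) * θ⁻¹ := by rw [h1]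
      _ = x * (θ * r * θ⁻¹) := by group
  have htR : ∀ r ∈ Q ⊔ Q', t * r * t⁻¹ ∈ Q ⊔ Q' := by
    intro r hr
    obtain ⟨y, hy, p, hp, rfl⟩ := exists_mem_sup hnorm hr
    have h1 : t * (y * p) * t⁻¹ = (t * y * t⁻¹) * (t * p * t⁻¹) := by group
    rw [h1]
    exact mul_mem (mem_sup_right (conj_mem_cj hy)) (mem_sup_left (htQ' p hp))
  have htR' : ∀ r ∈ Q ⊔ Q', t⁻¹ * r * t ∈ Q ⊔ Q' := by
    intro r hr
    have h1 : cj t (Q ⊔ Q') = Q ⊔ Q' := Subgroup.eq_of_le_of_card_ge (by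
      rintro _ ⟨y, hy, rfl⟩
      exact htR y hy) (by rw [card_cj])
    have h2 : r ∈ cj t (Q ⊔ Q') := by rw [h1]; exact hr
    exact mem_cj.mp h2
  have hθ'R : ∀ r ∈ Q ⊔ Q', θ' * r * θ'⁻¹ ∈ Q ⊔ Q' := by
    intro r hr
    have h1 : θ' * r * θ'⁻¹ = t * (θ * (t⁻¹ * r * t) * θ⁻¹) * t⁻¹ := by rw [hθ']; group
    rw [h1]
    exact htR _ (hθR _ (htR' r hr))
  have hθ'Q' : cj θ' Q' = Q' := by
    refine Subgroup.eq_of_le_of_card_ge ?_ (by rw [card_cj θ' Q'])
    rintro _ ⟨y, hy, rfl⟩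
    have h1 : (MulAut.conj θ').toMonoidHom y = t * (θ * (t⁻¹ * y * t) * θ⁻¹) * t⁻¹ := by
      change θ' * y * θ'⁻¹ = _
      rw [hθ']; group
    rw [h1]
    exact conj_mem_cj (h.normQ θ hθ _ (mem_cj.mp hy))
  have hθ'M : θ' ∈ M := by
    have h1 : ((cj θ' Q : Subgroup G) : Set G) ⊆ (Q : Set G) ∪ (Q' : Set G) := by
      rintro _ ⟨y, hy, rfl⟩
      change θ' * y * θ'⁻¹ ∈ Q ∨ θ' * y * θ'⁻¹ ∈ Q'
      refine hinv _ (hθ'R y (mem_sup_left hy)) ?_
      calc θ' * y * θ'⁻¹ * (θ' * y * θ'⁻¹) = θ' * (y * y) * θ'⁻¹ := by group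
        _ = 1 := by rw [hel y hy]; group
    rcases SubgroupClass.subset_union.mp h1 with h2 | h2
    · exact g.normM θ' (fun x hx => h2 (conj_mem_cj hx))
    · exfalso
      apply hQne
      have h3 : cj θ' Q = cj θ' Q' := by
        rw [hθ'Q']
        exact Subgroup.eq_of_le_of_card_ge h2 (by rw [card_cj θ' Q, hcQ', hQ16])
      have h4 : Q = Q' := Subgroup.map_injective (MulAut.conj θ').injective h3
      exact h4.ge
  have hθ'F : ∀ x ∈ F, θ' * x * θ'⁻¹ ∈ F := by
    intro x hx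
    have h1 : θ' * x * θ'⁻¹ = t * (θ * (t⁻¹ * x * t) * θ⁻¹) * t⁻¹ := by rw [hθ']; group
    rw [h1]
    exact htF _ (hθF _ (htF' x hx))
  have hθ'F' : ∀ x ∈ F, θ'⁻¹ * x * θ' ∈ F := by
    intro x hx
    have h1 : θ'⁻¹ * x * θ' = t * (θ⁻¹ * (t⁻¹ * x * t) * θ) * t⁻¹ := by rw [hθ']; group
    rw [h1]
    exact htF _ (hθF' _ (htF' x hx))
  have hM' : ∀ y ∈ M, ∀ x ∈ V, y⁻¹ * x * y ∈ V := by
    intro y hy x hx
    have h1 := h.normV y⁻¹ (M.inv_mem hy) x hx
    rwa [inv_inv] at h1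
  have hsqθ' := sq_trivial hFV h.VQ hcV2 hcQ2 h.comm hel hθ'F hθ'F' (h.normV θ' hθ'M) (hM' θ' hθ'M)
    (h.normQ θ' hθ'M)
  have hθθ : ∀ p ∈ Q', (θ * θ) * p * (θ * θ)⁻¹ * p⁻¹ ∈ F := by
    intro p hp
    have h1 := htF' _ (hsqθ' _ (htQ' p hp))
    have h2 : t⁻¹ * (θ' * θ' * (t * p * t⁻¹) * (θ' * θ')⁻¹ * (t * p * t⁻¹)⁻¹) * t =
        (θ * θ) * p * (θ * θ)⁻¹ * p⁻¹ := by
      rw [hθ']; group
    rwa [h2] at h1
  -- step 9
  set f := p0 * c * p0⁻¹ * c⁻¹ with hf
  have hfF : f ∈ F := hval p0 (hQ'M hp0) (hQ'F p0 hp0)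
  have hf1' : f ≠ 1 := by
    intro hf0
    apply hp0Q
    refine hVgen p0 (hQ'M hp0) (hQ'F p0 hp0) ?_
    have h1 : p0 * c * p0⁻¹ = c := mul_inv_eq_one.mp (by rw [← hf]; exact hf0)
    calc p0 * c = (p0 * c * p0⁻¹) * p0 := by group
      _ = c * p0 := by rw [h1]
  have hθc : (θ * θ) * c * (θ * θ)⁻¹ = c := by
    calc (θ * θ) * c * (θ * θ)⁻¹ = θ * (θ * c * θ⁻¹) * θ⁻¹ := by group
      _ = c := by rw [θ3, θ3]
  have hfix : (θ * θ) * f * (θ * θ)⁻¹ = f := by
    obtain ⟨f', hf', e⟩ : ∃ f' ∈ F, (θ * θ) * p0 * (θ * θ)⁻¹ = f' * p0 :=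
      ⟨_, hθθ p0 hp0, by group⟩
    have h1 : (θ * θ) * f * (θ * θ)⁻¹ = ((θ * θ) * p0 * (θ * θ)⁻¹) * ((θ * θ) * c * (θ * θ)⁻¹) *
        ((θ * θ) * p0 * (θ * θ)⁻¹)⁻¹ * ((θ * θ) * c * (θ * θ)⁻¹)⁻¹ := by
      rw [hf]; group
    rw [h1, hθc, e]
    have h2 : f' * (p0 * c * p0⁻¹) = (p0 * c * p0⁻¹) * f' :=
      h.comm f' hf'.1 _ (h.VQ (h.normV p0 (hQ'M hp0) c hc))
    calc f' * p0 * c * (f' * p0)⁻¹ * c⁻¹ = (f' * (p0 * c * p0⁻¹)) * f'⁻¹ * c⁻¹ := by group
      _ = f := by rw [h2, hf]; group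
  -- `θ²` moves `f1, f2, f1 f2`
  have m1 : (θ * θ) * f1 * (θ * θ)⁻¹ = f1 * f2 := by
    calc (θ * θ) * f1 * (θ * θ)⁻¹ = θ * (θ * f1 * θ⁻¹) * θ⁻¹ := by group
      _ = f1 * f2 := by rw [θ1, θ2]
  have m2 : (θ * θ) * f2 * (θ * θ)⁻¹ = f1 := by
    have hcm := h.commV (hFV hf1) (hFV hf2)
    calc (θ * θ) * f2 * (θ * θ)⁻¹ = θ * (θ * f2 * θ⁻¹) * θ⁻¹ := by group
      _ = θ * (f1 * f2) * θ⁻¹ := by rw [θ2]
      _ = (θ * f1 * θ⁻¹) * (θ * f2 * θ⁻¹) := by group
      _ = f2 * (f1 * f2) := by rw [θ1, θ2]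
      _ = f2 * (f2 * f1) := by rw [hcm]
      _ = f1 := by rw [← mul_assoc, h.sqV f2 (hFV hf2), one_mul]
  rcases hFm f hfF with h1 | h1 | h1 | h1
  · exact hf1' h1
  · rw [h1, m1] at hfix
    exact e2 hfix
  · rw [h1, m2] at hfix
    exact f22 hfix.symm
  · rw [h1] at hfix
    have h2 : (θ * θ) * (f1 * f2) * (θ * θ)⁻¹ =
        ((θ * θ) * f1 * (θ * θ)⁻¹) * ((θ * θ) * f2 * (θ * θ)⁻¹) := by group
    rw [h2, m1, m2] at hfix
    exact f11 (by simpa using hfix)

end threeOne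

end Cfsg.Agent.GH.C2SevenGrow
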