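import Cfsg.Agent.GH.C2ThreeOne

/-!
# GH-C2 (T3), statement ONE: the shape of `Q` in the second alternative
-/

set_option autoImplicit false

namespace Cfsg.Agent.GH.C2SevenShape

open Subgroup Cfsg.Agent.GH.C2Five Cfsg.Agent.GH.C2ThreeNat Cfsg.Agent.GH.C2ThreeMin
open Cfsg.Agent.GH.C2ThreeMinE Cfsg.Agent.GH.C2ThreeOne

variable {X : Type*} [Group X] [Finite X] {Q W : Subgroup X} {y : X}

/-- `Q` is abelian, and its squares are powers of `g²`, `g⁴ = 1`. -/
theorem exists_g (hr : R4 X) (h : Hyp Q W y) (h8 : Nat.card W = 8) :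
    ∃ (w : T3 → X) (g : X), NatMod Q W w ∧ Hyp.C Q y = zpowers g ∧ g * g * (g * g) = 1 := by
  obtain ⟨w, hw⟩ := exists_coord h.w2 h8
  have hn := natMod_of h.l h.wn h.wq hw h.hy h.ne
  have hinf : W ⊓ Hyp.C Q y = ⊥ := by
    rw [eq_bot_iff]
    intro v hv
    exact mem_bot.2 (NatFix hn h.hy h.yQ hv.1 (Hyp.mem_C.1 hv.2).2)
  have hc : 8 * Nat.card (W ⊓ Hyp.C Q y : Subgroup X) ≤ Nat.card W := by
    rw [hinf, card_bot, h8]
  obtain ⟨g, hg⟩ := h.exists_gen hr hc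
  refine ⟨w, g, hn, hg, ?_⟩
  by_cases hg2 : g * g = 1
  · rw [hg2, one_mul]
  have hg1 : g ≠ 1 := fun h0 => hg2 (by rw [h0, one_mul])
  by_cases hgc : ∀ x, x * g = g * x
  · exact absurd ((h.cen hn hg hgc).four hr) hg2
  have hgQ := (h.gC hg).1
  obtain ⟨X1, hX1n, hX1i, hX1⟩ := h.exists_X1 hn hg hg2
  have hle : W ⊔ zpowers (g * g) ≤ X1 := hX1 ▸ inf_le_left
  have hWX : ∀ v ∈ W, v ∈ X1 := fun v hv => hle (mem_sup_left hv)
  have hgX : g * g ∈ X1 := hle (mem_sup_right (mem_zpowers _))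
  have hc1 := h.cen1 hn hg hg1 hX1i hX1 (fun p => hWX _ (hn.coord.mem_w p)) hgX
  exact congrArg Subtype.val (hc1.four (r4_subgroup hr X1))

/-- The shape of `Q` if there is an isolated involution. -/
theorem shape_of_two (hr : R4 X) (h : Hyp Q W y) (h8 : Nat.card W = 8) {z0 : X}
    (hzc : ∀ x, x * z0 = z0 * x) (hinv : ∀ u : X, u * u = 1 → u ∈ W ∨ u * z0 ∈ W) :
    (∀ a ∈ Q, ∀ b ∈ Q, a * b = b * a) ∧
    ((∀ x ∈ Q, x * x = 1) ∨ ((∃ d ∈ Q, d * d = z0) ∧ ∀ x ∈ Q, x * x = 1 ∨ x * x = z0)) := by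
  obtain ⟨w, g, hn, hg, hg4⟩ := exists_g hr h h8
  refine ⟨fun a ha b hb => h.qcomm hg ha hb, ?_⟩
  by_cases hg2 : g * g = 1
  · left
    intro x hx
    obtain ⟨k, hk⟩ := h.sq_of_mem hn hg hx
    rw [hk, hg2, one_zpow]
  right
  have hgg : g * g = g ^ (2 : ℤ) := by rw [zpow_ofNat, pow_two]
  have hyg : y * g = g * y := (h.gC hg).2
  have hz : g * g = z0 := by
    rcases hinv (g * g) hg4 with h1 | h1
    · exfalso
      rw [hgg] at h1
      exact hg2 (hgg.trans (h.inf8 hn hg h1))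
    · -- commutes with `y`
      have h2 : y * (g * g * z0) = (g * g * z0) * y := by
        calc y * (g * g * z0) = (y * g) * g * z0 := by group
          _ = (g * y) * g * z0 := by rw [hyg]
          _ = g * (y * g) * z0 := by group
          _ = g * (g * y) * z0 := by rw [hyg]
          _ = g * g * (y * z0) := by group
          _ = g * g * (z0 * y) := by rw [hzc y]
          _ = (g * g * z0) * y := by group
      have h3 := NatFix hn h.hy h.yQ h1 h2
      have h4 : g * g * z0 = g * g * (g * g) := by rw [h3, hg4]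
      exact (mul_left_cancel h4).symm
  refine ⟨⟨g, (h.gC hg).1, hz⟩, fun x hx => ?_⟩
  obtain ⟨k, hk⟩ := h.sq_of_mem hn hg hx
  rw [hz] at hk hg4
  rcases Int.even_or_odd' k with ⟨r, rfl | rfl⟩
  · left
    rw [hk, zpow_mul, zpow_ofNat, pow_two, hg4, one_zpow]
  · right
    rw [hk, zpow_add_one, zpow_mul, zpow_ofNat, pow_two, hg4, one_zpow, one_mul]

end Cfsg.Agent.GH.C2SevenShape
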