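import Cfsg.Agent.GH.C2SevenP5
import Cfsg.Agent.GH.C2SevenKill
import Cfsg.Agent.GH.C2KillT3
import Cfsg.Agent.GH.C2L3Syl
import Cfsg.Agent.GH.C2GrowL3Main
import Cfsg.Agent.GH.C2Types
import Cfsg.Agent.GH.C2SevenShape

/-!
# GH-C2, `5 ∤ |M|`: the main theorem of the `L₃(2)` side
-/

set_option autoImplicit false

namespace Cfsg.Agent.GH.C2SevenMain

open Subgroup Cfsg Cfsg.Agent.GH.C2Five Cfsg.Agent.GH.C2Frame Cfsg.Agent.GH.C2ThreeNat
open Cfsg.Agent.GH.C2ThreeMin Cfsg.Agent.GH.C2ThreeOne Cfsg.Agent.GH.C2SevenKill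
open Cfsg.Agent.GH.PcTypes Cfsg.Agent.GH.Defs Cfsg.Agent.GH.C2Extra
open Cfsg.Agent.ZN (o2)
open Cfsg.Agent.SectRankFour.C2

universe u

/-! ### abstract part: the alternatives for `X` -/

section abstract_part

variable {X : Type u} [Group X] [Finite X] {Q W : Subgroup X} {y : X}

/-- The second alternative of the structure theorem, with the shape of `Q`. -/
def Two' (Q W : Subgroup X) : Prop :=
  ∃ z0 ∈ Q, z0 ∉ W ∧ z0 * z0 = 1 ∧ (∀ x, x * z0 = z0 * x) ∧
    (∀ u : X, u * u = 1 → u ∈ W ∨ u * z0 ∈ W) ∧ (∀ a ∈ Q, ∀ b ∈ Q, a * b = b * a) ∧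
    ((∀ x ∈ Q, x * x = 1) ∨ ((∃ d ∈ Q, d * d = z0) ∧ ∀ x ∈ Q, x * x = 1 ∨ x * x = z0))

/-- The output of the structure theorem (T3). -/
structure Out (Q W : Subgroup X) (y : X) : Prop where
  l : L32 Q
  hy : y ^ 7 = 1
  minc : Minc Q W y
  sq : ∀ v ∈ W, v * v = 1
  alt : Q = W ∨ (Nat.card W = 8 ∧ (Two' Q W ∨ Three Q W))

theorem exists_y (hQ : L32 Q) (hc : centralizer (Q : Set X) ≤ Q) :
    ∃ y : X, y ^ 7 = 1 ∧ y ∉ Q ∧ ∃ v ∈ Q, y * v ≠ v * y := by
  have h7 : Fact (Nat.Prime 7) := ⟨by norm_num⟩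
  have h2 : Fact (Nat.Prime 2) := ⟨Nat.prime_two⟩
  have hd : 7 ∣ Nat.card X := by
    have h1 := Q.index_dvd_card
    rw [hQ.index] at h1
    exact (by norm_num : 7 ∣ 168).trans h1
  obtain ⟨y, hy⟩ := exists_prime_orderOf_dvd_card' 7 hd
  have hy7 : y ^ 7 = 1 := by rw [← hy]; exact pow_orderOf_eq_one y
  have hyQ : y ∉ Q := by
    intro h
    obtain ⟨n, hn⟩ := hQ.two ⟨y, h⟩
    have h1 : y ^ 2 ^ n = 1 := congrArg Subtype.val hn
    have h3 := orderOf_dvd_of_pow_eq_one h1
    rw [hy] at h3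
    exact absurd ((by norm_num : Nat.Prime 7).dvd_of_dvd_pow h3) (by norm_num)
  refine ⟨y, hy7, hyQ, ?_⟩
  by_contra h
  push Not at h
  exact hyQ (hc (mem_centralizer_iff.mpr fun v hv => (h v hv).symm))

omit [Finite X] in
/-- Case `|Q| = 8`. -/
theorem mod3 (h : Out Q W y) (hQW : Q = W) (hc : centralizer (Q : Set X) ≤ Q) (h8 : Nat.card W = 8) :
    C2L3.Mod3 Q where
  el := ⟨h.l.normal, by rw [hQW]; exact h.sq⟩
  card := by rw [hQW]; exact h8
  cent := fun g hg => hc (mem_centralizer_iff.mpr fun v hv => by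
    rw [eq_comm, ← mul_inv_eq_iff_eq_mul]; exact hg v hv)
  index := h.l.index

/-- Case `|Q| = 16`, `Q` of type `1\3`. -/
theorem mod13 (h : Out Q W y) (hQW : Q = W) (h16 : Nat.card W = 16) {c : X} (hcW : c ∈ W) (hc1 : c ≠ 1)
    (hc : ∀ x : X, x * c = c * x) (hy : ∀ v ∈ W, y * v = v * y → v = 1 ∨ v = c) :
    C2L3.Mod13 Q c where
  el := ⟨h.l.normal, by rw [hQW]; exact h.sq⟩
  card := by rw [hQW]; exact h16
  mem := by rw [hQW]; exact hcW
  ne := hc1
  fix := fun g => by rw [hc]; group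
  cent := by
    -- the elements acting trivially on `Q / ⟨c⟩`
    subst hQW
    have hcc := h.sq c hcW
    have hcm := comm_of_sq_one h.sq
    let K : Subgroup X :=
      { carrier := {g | ∀ v ∈ Q, g * v * g⁻¹ = v ∨ g * v * g⁻¹ = v * c}
        one_mem' := fun v _ => Or.inl (by group)
        mul_mem' := by
          intro a b ha hb v hv
          have e : a * b * v * (a * b)⁻¹ = a * (b * v * b⁻¹) * a⁻¹ := by group
          rw [e]
          have e2 : ∀ u, a * (u * c) * a⁻¹ = a * u * a⁻¹ * c := fun u => by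
            calc a * (u * c) * a⁻¹ = a * u * (c * a⁻¹) := by group
              _ = a * u * a⁻¹ * c := by rw [← hc a⁻¹]; group
          rcases hb v hv with h1 | h1 <;> rw [h1]
          · exact ha v hv
          · rw [e2]
            rcases ha v hv with h2 | h2 <;> rw [h2]
            · exact Or.inr rfl
            · left; rw [mul_assoc, hcc, mul_one]
        inv_mem' := by
          intro a ha v hv
          have e2 : ∀ u, a⁻¹ * (u * c) * a⁻¹⁻¹ = a⁻¹ * u * a⁻¹⁻¹ * c := fun u => by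
            calc a⁻¹ * (u * c) * a⁻¹⁻¹ = a⁻¹ * u * (c * a) := by group
              _ = a⁻¹ * u * a⁻¹⁻¹ * c := by rw [← hc a]; group
          rcases ha v hv with h1 | h1
          · left
            have : a⁻¹ * v * a⁻¹⁻¹ = a⁻¹ * (a * v * a⁻¹) * a⁻¹⁻¹ := by rw [h1]
            rw [this]; group
          · right
            have h3 : v = a⁻¹ * v * a⁻¹⁻¹ * c := by
              rw [← e2, ← h1]; group
            conv_rhs => rw [h3]
            rw [mul_assoc _ c c, hcc, mul_one] }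
    have hKn : K.Normal := by
      refine ⟨fun g hg x v hv => ?_⟩
      have hv' : x⁻¹ * v * x ∈ Q := by simpa using h.l.normal.conj_mem v hv x⁻¹
      have e : x * g * x⁻¹ * v * (x * g * x⁻¹)⁻¹ = x * (g * (x⁻¹ * v * x) * g⁻¹) * x⁻¹ := by group
      rw [e]
      rcases hg _ hv' with h1 | h1
      · left; rw [h1]; group
      · right; rw [h1]
        calc x * (x⁻¹ * v * x * c) * x⁻¹ = v * x * (c * x⁻¹) := by group
          _ = v * c := by rw [← hc x⁻¹]; group
    have hQK : Q ≤ K := fun g hg v hv => Or.inl (by rw [hcm g hg v hv]; group)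
    rcases h.l.simple K hKn hQK with h1 | h1
    · intro g hg
      have : g ∈ K := hg
      rw [h1] at this
      exact this
    · exfalso
      obtain ⟨v, hv, hne⟩ := h.minc.ne
      have hyK : y ∈ K := by rw [h1]; exact mem_top y
      apply hne
      rcases hyK v hv with h2 | h2
      · exact mul_inv_eq_iff_eq_mul.mp h2
      · exfalso
        have hp : ∀ k : ℕ, y ^ k * v * (y ^ k)⁻¹ = v * c ^ k := by
          intro k
          induction k with
          | zero => group
          | succ k ih =>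
            have e : y ^ (k + 1) * v * (y ^ (k + 1))⁻¹ = y * (y ^ k * v * (y ^ k)⁻¹) * y⁻¹ := by
              rw [pow_succ']; group
            have e3 : y * c ^ k = c ^ k * y :=
              ((show Commute y c from hc y).pow_right k).eq
            rw [e, ih]
            calc y * (v * c ^ k) * y⁻¹ = y * v * (y⁻¹ * y) * c ^ k * y⁻¹ := by group
              _ = (y * v * y⁻¹) * (y * c ^ k) * y⁻¹ := by group
              _ = (v * c) * (c ^ k * y) * y⁻¹ := by rw [h2, e3]
              _ = v * c ^ (k + 1) := by rw [pow_succ']; group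
        have h7 := hp 7
        rw [h.hy] at h7
        have hc7 : c ^ 7 = c := by
          have h4 : c ^ 7 = (c ^ 2) ^ 3 * c := by rw [← pow_mul, ← pow_succ]
          rw [h4, pow_two, hcc, one_pow, one_mul]
        rw [hc7] at h7
        apply hc1
        have h8 : v = v * c := by simpa using h7
        exact mul_eq_left.mp h8.symm
  index := h.l.index
  nocomp := by
    intro N hN hNQ hN8
    exfalso
    rw [hQW] at hNQ
    have hne : N ≠ W := by
      rintro rfl
      rw [h16] at hN8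
      exact absurd hN8 (by norm_num)
    have h1 : N ≤ zpowers c := by
      intro v hv
      rcases hy v (hNQ hv) (h.minc.min N hN hNQ hne v hv) with h2 | h2
      · rw [h2]; exact one_mem _
      · rw [h2]; exact mem_zpowers c
    have h2 := Subgroup.card_le_of_le h1
    rw [hN8, Nat.card_zpowers, orderOf_eq_prime (by rw [pow_two]; exact h.sq c hcW) hc1] at h2
    omega

/-- Case `3/1`. -/
theorem mod31 (h : Out Q W y) (h8 : Nat.card W = 8) (h3 : Three Q W) : C2L3.Mod31 Q W where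
  el := ⟨h.l.normal, h3.2.1⟩
  card := h3.1
  Wn := h.minc.normal
  WV := h.minc.le
  cardW := h8
  cent := by
    obtain ⟨w, hw⟩ := exists_coord h.sq h8
    have hn := natMod_of h.l h.minc.normal h.minc.le hw h.hy h.minc.ne
    intro g hg
    exact (hn.cent g).mp fun v hv => mul_inv_eq_iff_eq_mul.mp (hg v hv)
  index := h.l.index
  nofix := by
    intro v hv hfix
    by_contra hvW
    have h1 : ∀ b ∈ Q, b ∉ W → b = v := by
      intro b hb hbW
      obtain ⟨x, hx⟩ := h3.2.2 v hv hvW b hb hbW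
      rw [← hx, hfix]
    obtain ⟨u, hu, hu1⟩ : ∃ u ∈ W, u ≠ 1 := by
      obtain ⟨u, hu, hne⟩ := h.minc.ne
      refine ⟨u, hu, ?_⟩
      rintro rfl
      exact hne (by simp)
    have h2 := h1 (u * v) (mul_mem (h.minc.le hu) hv) (fun h2 => hvW (by
      simpa using mul_mem (inv_mem hu) h2))
    exact hu1 (mul_eq_right.mp h2)

end abstract_part

/-! ### the frame -/

section frame

variable {G : Type u} [Group G] [Finite G] {M T : Subgroup G}

omit [Finite G] in
theorem exists_sylM (h : MaxLocal M T) : ∃ P : Sylow 2 ↥M, (P : Subgroup ↥M) = T.subgroupOf M := by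
  have h2 : Fact (Nat.Prime 2) := ⟨Nat.prime_two⟩
  have h1 : IsPGroup 2 (T.subgroupOf M) := h.pT.comap_of_injective M.subtype M.subtype_injective
  exact ⟨h1.toSylow h.syl, rfl⟩

omit [Finite G] in
theorem isType_T {n : ℕ} {A : Cfsg.Agent.GH.Pc.Pres n} (h : MaxLocal M T) {P : Sylow 2 ↥M}
    (hP : (P : Subgroup ↥M) = T.subgroupOf M) (hA : IsType A ↥(P : Subgroup ↥M)) : IsType A ↥T := by
  have h1 : IsType A ↥(T.subgroupOf M) := by rw [← hP]; exact hA
  exact h1.congr (subgroupOfEquivOfLe h.le)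

omit [Finite G] in
theorem card_o2 : Nat.card ((o2 M).subgroupOf M) = Nat.card (o2 M) :=
  Nat.card_congr (subgroupOfEquivOfLe (map_subtype_le _)).toEquiv

theorem card_T (h : MaxLocal M T) (hidx : ((o2 M).subgroupOf M).index = 168) :
    Nat.card T = 8 * Nat.card (o2 M) ∧ Nat.card M = 168 * Nat.card (o2 M) := by
  have h2 : Fact (Nat.Prime 2) := ⟨Nat.prime_two⟩
  have hM : Nat.card M = 168 * Nat.card (o2 M) := by
    rw [← card_o2, ← hidx, mul_comm]
    exact (Subgroup.card_mul_index _).symm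
  refine ⟨?_, hM⟩
  have h1 : T.relIndex M * Nat.card T = Nat.card M := by
    have := (T.subgroupOf M).card_mul_index
    rw [Nat.card_congr (subgroupOfEquivOfLe h.le).toEquiv] at this
    rw [mul_comm]; exact this
  obtain ⟨n, hn⟩ := IsPGroup.iff_card.mp h.pT
  obtain ⟨m, hm⟩ := IsPGroup.iff_card.mp (h.pT.to_le h.o2_le_T)
  rw [hM, hn, hm] at h1
  rw [hn, hm]
  have hodd : Nat.Coprime 2 (T.relIndex M) := (Nat.Prime.coprime_iff_not_dvd Nat.prime_two).mpr h.syl
  apply Nat.dvd_antisymm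
  · have h3 : (2 ^ n).Coprime 21 := Nat.Coprime.pow_left n (by norm_num)
    refine h3.dvd_of_dvd_mul_left ?_
    rw [show 21 * (8 * 2 ^ m) = 168 * 2 ^ m by ring, ← h1]
    exact dvd_mul_left _ _
  · have h3 : (8 * 2 ^ m).Coprime (T.relIndex M) := by
      rw [show 8 * 2 ^ m = 2 ^ (m + 3) by ring]
      exact Nat.Coprime.pow_left _ hodd
    refine h3.dvd_of_dvd_mul_left ?_
    rw [h1, show 168 * 2 ^ m = 21 * (8 * 2 ^ m) by ring]
    exact dvd_mul_left _ _

variable {Q W : Subgroup ↥M} {y : ↥M}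

theorem hmax (h : MaxLocal M T) : ∀ P : Subgroup G, IsPGroup 2 P → T ≤ P → P ≤ M → P ≤ T :=
  fun _ hP hTP hPM => (h.eq_T hP hPM hTP).le

omit [Finite G] in
theorem o2_sq (hQ : Q = (o2 M).subgroupOf M) (hsq : ∀ x ∈ Q, x * x = 1) : ∀ v ∈ o2 M, v * v = 1 := by
  intro v hv
  have hvM : v ∈ M := map_subtype_le _ hv
  exact congrArg Subtype.val (hsq ⟨v, hvM⟩ (by rw [hQ]; exact hv))

/-- `|Q| = 8`, growth. -/
theorem grow_eight (hG : Defs.Hyp G) (hc2 : IsCharacteristicTwoType G) (h : MaxLocal M T)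
    (hQ : Q = (o2 M).subgroupOf M) (ho : Out Q W y) (hQW : Q = W) (h8 : Nat.card W = 8) (S : Sylow 2 G)
    (hTS : T ≤ (S : Subgroup G)) (hne : T ≠ (S : Subgroup G)) : GType G ∨ Extra32 G := by
  have h2 : Fact (Nat.Prime 2) := ⟨Nat.prime_two⟩
  have ho8 : Nat.card (o2 M) = 8 := by rw [← card_o2, ← hQ, hQW, h8]
  obtain ⟨hT, hM⟩ := card_T h (by rw [← hQ]; exact ho.l.index)
  rw [ho8] at hT hM
  have hV : C2GrowL3V.Hyp3 (o2 M) := by
    refine ⟨ho8, o2_sq hQ (by rw [hQW]; exact ho.sq), ?_, ?_⟩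
    · intro g hg
      exact h.cent_le (mem_centralizer_iff.mpr fun v hv => (hg v hv).symm)
    · rw [h.eq, hM]
  have hsol : ∀ N : Subgroup G, IsTwoLocal N → 128 ∣ Nat.card N → Group.IsSolvable N := by
    rintro N ⟨U, hU, hU1, rfl⟩ hd
    obtain ⟨R, hR⟩ := Sylow.exists_subgroup_card_pow_prime (G := ↥(normalizer (U : Set G))) 2 (n := 7)
      (by norm_num; exact hd)
    have hR' : Nat.card (R.map (normalizer (U : Set G)).subtype) = 128 := by
      rw [card_map_of_injective (subtype_injective _), hR]; norm_num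
    refine h.solv U hU hU1 (R.map (normalizer (U : Set G)).subtype) ?_ (map_subtype_le _) ?_
    · exact IsPGroup.of_card (n := 7) (by rw [hR']; norm_num)
    · rw [hR', hT]; norm_num
  rcases C2GrowL3Main.main hG.rank4 hc2 hsol hV (by rw [h.eq]; exact h.le) (by rw [hT]) S hTS hne with h1 | h1
  · exact Or.inr h1
  · exact Or.inl (Or.inl ⟨S, C2Types.sType_W8 h1⟩)

/-- second alternative, `T = S` -/
theorem two_sylow (hG : Defs.Hyp G) (h : MaxLocal M T) (hQ : Q = (o2 M).subgroupOf M)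
    (ho : Out Q W y) (h2 : Two' Q W) : False := by
  have := hG.simple
  obtain ⟨z0, hzQ, hzW, hzz, hzc, hinv, -, -⟩ := h2
  have hWn := ho.minc.normal
  let E : Subgroup ↥M :=
    { carrier := {x | x ∈ W ∨ x * z0 ∈ W}
      one_mem' := Or.inl (one_mem _)
      mul_mem' := by
        rintro a b (ha | ha) (hb | hb)
        · exact Or.inl (mul_mem ha hb)
        · right; rw [mul_assoc]; exact mul_mem ha hb
        · right
          rw [mul_assoc, hzc b, ← mul_assoc]; exact mul_mem ha hb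
        · left
          have e : a * b = a * z0 * (b * z0) := by
            calc a * b = a * b * (z0 * z0) := by rw [hzz, mul_one]
              _ = a * (b * z0) * z0 := by group
              _ = a * (z0 * b) * z0 := by rw [hzc b]
              _ = a * z0 * (b * z0) := by group
          rw [e]; exact mul_mem ha hb
      inv_mem' := by
        rintro a (ha | ha)
        · exact Or.inl (inv_mem ha)
        · right
          have e : a⁻¹ * z0 = (a * z0)⁻¹ := by
            have e1 : z0⁻¹ = z0 := inv_eq_of_mul_eq_one_left hzz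
            rw [mul_inv_rev, e1, hzc]
          rw [e]; exact inv_mem ha }
  have hE : ∀ x, x ∈ E ↔ (x ∈ W ∨ x * z0 ∈ W) := fun _ => Iff.rfl
  have hEn : E.Normal := by
    refine ⟨fun x hx g => ?_⟩
    rcases (hE x).mp hx with h1 | h1
    · exact Or.inl (hWn.conj_mem x h1 g)
    · right
      have e : g * x * g⁻¹ * z0 = g * (x * z0) * g⁻¹ := by
        calc g * x * g⁻¹ * z0 = g * x * (g⁻¹ * z0) := by group
          _ = g * (x * z0) * g⁻¹ := by rw [hzc]; group
      rw [e]
      exact hWn.conj_mem _ h1 g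
  have hEQ : E ≤ Q := by
    rintro x (hx | hx)
    · exact ho.minc.le hx
    · have h1 := ho.minc.le hx
      simpa using mul_mem h1 (inv_mem hzQ)
  have hEsq : ∀ v ∈ E, v * v = 1 := by
    rintro x (hx | hx)
    · exact ho.sq x hx
    · have h1 := ho.sq _ hx
      calc x * x = x * x * (z0 * z0) := by rw [hzz, mul_one]
        _ = x * (x * z0) * z0 := by group
        _ = x * (z0 * x) * z0 := by rw [hzc x]
        _ = x * z0 * (x * z0) := by group
        _ = 1 := h1
  have hVo : E.map M.subtype ≤ o2 M := by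
    rintro _ ⟨x, hx, rfl⟩
    have h1 := hEQ hx
    rw [hQ] at h1
    exact h1
  have hz0 : (z0 : G) ≠ 1 := by
    intro h1
    apply hzW
    have h3 : z0 = 1 := Subtype.ext h1
    rw [h3]; exact one_mem _
  have hzE : z0 ∈ E := Or.inr (by rw [hzz]; exact one_mem _)
  have hMV : normalizer ((E.map M.subtype : Subgroup G) : Set G) = M := by
    refine h.max _ ((h.pT.to_le h.o2_le_T).to_le hVo) ?_ ?_
    · intro h1
      have h3 : (z0 : G) ∈ E.map M.subtype := mem_map_of_mem M.subtype hzE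
      rw [h1, mem_bot] at h3
      exact hz0 h3
    · intro g hg
      refine C2KillT3.mem_normalizer_of ?_
      rintro _ ⟨x, hx, rfl⟩
      exact ⟨⟨g, hg⟩ * x * ⟨g, hg⟩⁻¹, hEn.conj_mem x hx _, rfl⟩
  refine C2KillT3.false_of_fifteen hG.nonComm hMV (hVo.trans h.o2_le_T) h.pT (hmax h) ?_ ?_
    (mem_map_of_mem M.subtype hzE) hz0 ?_
  · rintro _ ⟨x, hx, rfl⟩
    exact congrArg Subtype.val (hEsq x hx)
  · intro t ht htt
    have h1 := hinv ⟨t, h.le ht⟩ (Subtype.ext htt)
    exact ⟨⟨t, h.le ht⟩, h1, rfl⟩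
  · intro m hm
    have h1 := congrArg Subtype.val (hzc ⟨m, hm⟩)
    exact mul_inv_eq_iff_eq_mul.mpr h1

/-- third alternative, exceptional Sylow group, `T = S` -/
theorem three_x1 (hG : Defs.Hyp G) (h : MaxLocal M T) (hQ : Q = (o2 M).subgroupOf M)
    (ho : Out Q W y) (h8 : Nat.card W = 8) (h3 : Three Q W)
    (hx : C2L3.IsX1 (T.subgroupOf M) Q W) : False := by
  have := hG.simple
  have h2 : Fact (Nat.Prime 2) := ⟨Nat.prime_two⟩
  have ho16 : Nat.card (o2 M) = 16 := by rw [← card_o2, ← hQ, h3.1]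
  obtain ⟨hT, hM⟩ := card_T h (by rw [← hQ]; exact ho.l.index)
  rw [ho16] at hT hM
  obtain ⟨T₀, hT0, hT0c, hT0V⟩ := hx.exists_T0
  obtain ⟨v, hv, hvW⟩ : ∃ v ∈ Q, v ∉ W := by
    by_contra hcon
    push Not at hcon
    have h1 := Subgroup.card_le_of_le (show Q ≤ W from hcon)
    rw [h8, h3.1] at h1
    omega
  have hT0T : T₀.map M.subtype ≤ T := by
    rintro _ ⟨x, hx, rfl⟩
    exact hT0 hx
  refine C2KillT3.false_of_X1' hG.nonComm (M := M) (V := o2 M) (T := T) (T0 := T₀.map M.subtype)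
    (W := W.map M.subtype) h.eq h.o2_le_T h.pT (hmax h) (o2_sq hQ h3.2.1) ?_ hT0T ?_ ?_ ?_
    (v := (v : G)) ?_ ?_
  · intro A hAT hAsq hAc
    have hAM : A ≤ M := hAT.trans h.le
    have h1 := hx.uniq (A.subgroupOf M) (fun x hx => hAT hx)
      (by rw [Nat.card_congr (subgroupOfEquivOfLe hAM).toEquiv, hAc, ho16])
      (fun g hg => Subtype.ext (hAsq g hg))
    intro a ha
    have h4 : (⟨a, hAM ha⟩ : ↥M) ∈ A.subgroupOf M := ha
    rw [h1, hQ] at h4
    exact h4
  · have h4 : Nat.card T = (T₀.map M.subtype).relIndex T * Nat.card (T₀.map M.subtype) :=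
      Cfsg.Agent.TwoFusion.SectionalRank.card_eq_relIndex_mul T _ hT0T
    rw [card_map_of_injective (subtype_injective _), hT0c, hT] at h4
    omega
  · rintro m hm _ ⟨w, hw, rfl⟩
    exact ⟨⟨m, hm⟩ * w * ⟨m, hm⟩⁻¹, ho.minc.normal.conj_mem w hw _, rfl⟩
  · rintro _ ⟨x, hx, rfl⟩ hxo
    have h4 : x ∈ T₀ ⊓ Q := ⟨hx, by rw [hQ]; exact hxo⟩
    rw [hT0V] at h4
    exact mem_map_of_mem M.subtype h4
  · have h4 := hv
    rw [hQ] at h4
    exact h4
  · rintro ⟨x, hx, hxv⟩
    exact hvW (by rwa [← Subtype.ext hxv])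

/-- `5 ∤ |M|`, from the structure theorem -/
theorem main_of_out (hG : Defs.Hyp G) (hc2 : IsCharacteristicTwoType G) (h : MaxLocal M T)
    (hQ : Q = (o2 M).subgroupOf M) (ho : Out Q W y) : GType G ∨ Extra32 G := by
  have h2 : Fact (Nat.Prime 2) := ⟨Nat.prime_two⟩
  have hr : R4 G := r4_iff.mpr hG.rank4
  have hrM : R4 ↥M := r4_subgroup hr M
  have hQc : centralizer (Q : Set ↥M) ≤ Q := by
    rw [hQ, C2SevenP5.subgroupOf_eq]
    exact C2SevenP5.cent_le h.char2
  obtain ⟨P, hP⟩ := exists_sylM h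
  obtain ⟨S, hTS⟩ := h.pT.exists_le_sylow
  have hty : ∀ {n : ℕ} {A : Cfsg.Agent.GH.Pc.Pres n}, T = (S : Subgroup G) →
      IsType A ↥(P : Subgroup ↥M) → IsType A ↥(S : Subgroup G) := by
    intro n A hTS hA
    rw [← hTS]
    exact isType_T h hP hA
  rcases ho.alt with hQW | ⟨h8, h23⟩
  · rcases shape hrM ho.l ho.hy ho.minc ho.sq with ⟨h8, -⟩ | ⟨h16, c, hcW, hc1, hc, hyc⟩
    · by_cases hne : T = (S : Subgroup G)
      · rcases C2L3.isType_of_mod3 (mod3 ho hQW hQc h8) P with h1 | h1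
        · exact Or.inl (Or.inl ⟨S, C2Types.sType_W24 (hty hne h1)⟩)
        · exact Or.inl (Or.inl ⟨S, C2Types.sType_G23 (hty hne h1)⟩)
      · exact grow_eight hG hc2 h hQ ho hQW h8 S hTS hne
    · by_cases hne : T = (S : Subgroup G)
      · have h1 := C2L3.isType_of_mod13 (mod13 ho hQW h16 hcW hc1 hc hyc) P
        exact Or.inl (Or.inl ⟨S, C2Types.sType_M22T (hty hne h1)⟩)
      · exfalso
        refine kill_fixed h S.isPGroup' (lt_of_le_of_ne hTS hne) hQ (by rw [hQW]; exact h16)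
          (by rw [hQW]; exact ho.sq) (c := c) (y := y) (by rw [hQW]; exact hcW) hc hc1 ho.hy
          (by rw [hQW]; exact ho.minc.ne) ?_
        rw [hQW]
        exact ho.minc.min
  · obtain ⟨w, hw⟩ := exists_coord ho.sq h8
    have hn := natMod_of ho.l ho.minc.normal ho.minc.le hw ho.hy ho.minc.ne
    rcases h23 with h2' | h3
    · exfalso
      by_cases hne : T = (S : Subgroup G)
      · exact two_sylow hG h hQ ho h2'
      · obtain ⟨z0, hzQ, hzW, hzz, hzc, hinv, hcomm, hk⟩ := h2'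
        exact kill_center h S.isPGroup' (lt_of_le_of_ne hTS hne) hQ hr hn hcomm hzQ hzW hzz hzc
          (fun x _ hx => hinv x hx) hk
    · by_cases hne : T = (S : Subgroup G)
      · rcases C2L3.isType_of_mod31 (mod31 ho h8 h3) P with h1 | h1
        · exact Or.inl (Or.inl ⟨S, C2Types.sType_M22T (hty hne h1)⟩)
        · exfalso
          rw [hP] at h1
          exact three_x1 hG h hQ ho h8 h3 h1
      · exfalso
        exact kill_three_one h S.isPGroup' (lt_of_le_of_ne hTS hne) hQ ho.l.index hn h3.1 h3.2.1 h3.2.2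

/-- (T3), statement TWO: `y` centralises `Q / W` -/
def T3 : Prop := ∀ (X : Type u) [Group X] [Finite X] (Q W : Subgroup X) (y : X), R4 X → L32 Q →
  centralizer (Q : Set X) ≤ Q → y ^ 7 = 1 → Minc Q W y → ∀ q ∈ Q, y * q * y⁻¹ * q⁻¹ ∈ W

theorem out_of_one {X : Type u} [Group X] [Finite X] {Q W : Subgroup X} {y : X} (hr : R4 X)
    (hQ : L32 Q) (hy : y ^ 7 = 1) (hW : Minc Q W y) (hone : ∀ q ∈ Q, y * q * y⁻¹ * q⁻¹ ∈ W) :
    Out Q W y := by
  have hsq := C2ThreeMinE.minc_sq hr hQ hy hW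
  refine ⟨hQ, hy, hW, hsq, ?_⟩
  rcases one hr hQ hy hW hone with h1 | ⟨h8, z0, h1, h2, h3, h4, h5⟩ | ⟨h8, h1⟩
  · exact Or.inl h1
  · right
    obtain ⟨h6, h7⟩ := C2SevenShape.shape_of_two hr (hyp_of hQ hy hW hsq hone) h8 h4 h5
    exact ⟨h8, Or.inl ⟨z0, h1, h2, h3, h4, h5, h6, h7⟩⟩
  · exact Or.inr ⟨h8, Or.inr h1⟩

/-- the main theorem of the `L₃(2)` side, given (T3) -/
theorem main_of_T3 (hT3 : T3.{u}) (hG : Defs.Hyp G) (hc2 : IsCharacteristicTwoType G)
    (h : MaxLocal M T) (h5 : ¬ 5 ∣ Nat.card M) : GType G ∨ Extra32 G := by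
  have hr : R4 G := r4_iff.mpr hG.rank4
  have hrM : R4 ↥M := r4_subgroup hr M
  have hl := C2SevenP5.of_maxLocal' hr h h5
  have hQc : centralizer (((o2 M).subgroupOf M : Subgroup ↥M) : Set ↥M) ≤ (o2 M).subgroupOf M := by
    rw [C2SevenP5.subgroupOf_eq]
    exact C2SevenP5.cent_le h.char2
  obtain ⟨y, hy, -, hne⟩ := exists_y hl hQc
  obtain ⟨W, hW, -⟩ := exists_minc hl.normal le_rfl hne
  exact main_of_out hG hc2 h rfl (out_of_one hrM hl hy hW (hT3 ↥M _ W y hrM hl hQc hy hW))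

end frame

end Cfsg.Agent.GH.C2SevenMain
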