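import Cfsg.Agent.GH.GL4Seven
import Cfsg.Agent.GH.C2FiveGlue
import Cfsg.Agent.GH.C2ThreeNat
import Cfsg.Agent.GH.C2Frame

/-!
# GH-C2, (P5): a maximal 2-local of order prime to 5 is of type `L₃(2)` over its `O₂`

* `of_maxLocal` : `MaxLocal M T`, `R4 G`, `5 ∤ |M|` ⇒ `L32 (pCore 2 ↥M)` (in the group `↥M`);
* `of_maxLocal'` : the same for `(o2 M).subgroupOf M`.
-/

set_option autoImplicit false

namespace Cfsg.Agent.GH.C2SevenP5

open Subgroup Cfsg Cfsg.Agent.GH.C2SevenTop Cfsg.Agent.GH.C2Five Cfsg.Agent.GH.C2FiveGlue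
open Cfsg.Agent.GH.C2ThreeNat Cfsg.Agent.GH.C2Frame
open Cfsg.Agent.ZN (o2)

universe u

variable {X : Type u} [Group X] [Finite X]

theorem l32
    (hr : R4 X) (hc : centralizer (pCore 2 X : Set X) ≤ pCore 2 X)
    (hs : ¬ Group.IsSolvable X) (h5 : ¬ 5 ∣ Nat.card X) : L32 (pCore 2 X) := by
  have h2 : Fact (Nat.Prime 2) := ⟨Nat.prime_two⟩
  have hact := exists_act hr hc
  set Q : Subgroup X := pCore 2 X with hQ
  obtain ⟨F, hF, φ, hker, hV2, h16⟩ := hact
  have hQn : Q.Normal := Lib.Cores.pCore_normal 2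
  have hQp : IsPGroup 2 Q := Lib.Cores.pCore_isPGroup 2
  let φ' : X ⧸ Q →* MulAut (Q.map (QuotientGroup.mk' F)) :=
    QuotientGroup.lift Q φ (fun g hg => (hker g).mpr hg)
  have hinj : Function.Injective φ' := by
    rw [injective_iff_map_eq_one]
    intro y hy
    obtain ⟨g, rfl⟩ := QuotientGroup.mk_surjective y
    exact (QuotientGroup.eq_one_iff g).mpr ((hker g).mp hy)
  have hQs : Group.IsSolvable Q := by
    have := hQp.isNilpotent
    infer_instance
  have hYs : ¬ Group.IsSolvable (X ⧸ Q) := fun h => hs (solvable_of_quotient Q hQs h)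
  have hY5 : ¬ 5 ∣ Nat.card (X ⧸ Q) := fun h => h5 (h.trans (card_quotient_dvd_card Q))
  have hY2 : ∀ N : Subgroup (X ⧸ Q), N.Normal → IsPGroup 2 N → N = ⊥ := by
    intro N hN hNp
    have h1 : (N.comap (QuotientGroup.mk' Q)).Normal := hN.comap _
    have h3 : IsPGroup 2 (N.comap (QuotientGroup.mk' Q)) := by
      refine hNp.comap_of_ker_isPGroup _ ?_
      rw [QuotientGroup.ker_mk']
      exact hQp
    have h4 : N.comap (QuotientGroup.mk' Q) ≤ Q := Lib.Cores.le_pCore h1 h3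
    rw [eq_bot_iff]
    intro y hy
    obtain ⟨g, rfl⟩ := QuotientGroup.mk'_surjective Q y
    exact (QuotientGroup.eq_one_iff g).mpr (h4 hy)
  obtain ⟨hcd, hsim⟩ := GL4Seven.card_and_simple hinj hV2 h16 hYs hY5 hY2
  refine ⟨hQn, hQp, ?_, ?_⟩
  · rw [Subgroup.index_eq_card]
    exact hcd
  · intro N hN hQN
    rcases simple_of_dvd hYs (dvd_of_eq hcd) (N.map (QuotientGroup.mk' Q))
      (hN.map _ (QuotientGroup.mk'_surjective Q)) with h | h
    · left
      refine le_antisymm ?_ hQN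
      intro g hg
      have h1 : (QuotientGroup.mk' Q g) ∈ N.map (QuotientGroup.mk' Q) := mem_map_of_mem _ hg
      rw [h, mem_bot] at h1
      exact (QuotientGroup.eq_one_iff g).mp h1
    · right
      have h1 := congrArg (Subgroup.comap (QuotientGroup.mk' Q)) h
      rw [comap_map_eq, QuotientGroup.ker_mk', comap_top, sup_eq_left.mpr hQN] at h1
      exact h1

theorem cent_le {G : Type u} [Group G] {M : Subgroup G} (hc : M ⊓ centralizer (o2 M : Set G) ≤ o2 M) :
    centralizer (pCore 2 ↥M : Set ↥M) ≤ pCore 2 ↥M := by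
  intro x hx
  have h1 : (x : G) ∈ M ⊓ centralizer (o2 M : Set G) := by
    refine ⟨x.2, mem_centralizer_iff.mpr ?_⟩
    rintro _ ⟨y, hy, rfl⟩
    exact congrArg Subtype.val (mem_centralizer_iff.mp hx y hy)
  obtain ⟨y, hy, hyx⟩ := hc h1
  rwa [Subtype.ext hyx] at hy

theorem subgroupOf_eq {G : Type u} [Group G] {M : Subgroup G} : (o2 M).subgroupOf M = pCore 2 ↥M :=
  comap_map_eq_self_of_injective M.subtype_injective _

/-- (P5) -/
theorem of_maxLocal {G : Type u} [Group G] [Finite G] {M T : Subgroup G} (hr : R4 G)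
    (h : MaxLocal M T) (h5 : ¬ 5 ∣ Nat.card M) : L32 (pCore 2 ↥M) :=
  l32 (r4_subgroup hr M) (cent_le h.char2) h.ns h5

/-- (P5), for `O₂(M)` as a subgroup of `G` -/
theorem of_maxLocal' {G : Type u} [Group G] [Finite G] {M T : Subgroup G} (hr : R4 G)
    (h : MaxLocal M T) (h5 : ¬ 5 ∣ Nat.card M) : L32 ((o2 M).subgroupOf M) := by
  rw [subgroupOf_eq]
  exact of_maxLocal hr h h5

end Cfsg.Agent.GH.C2SevenP5
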