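import Cfsg.Agent.S0144
import Cfsg.Agent.Transfer.ElemAbAut

/-!
# GH-C2: nonsolvable subgroups of `GL₄(2)` of order prime to 5

* `card_of_dvd` : a nonsolvable group whose order divides 168 has order 168.
* `simple_of_dvd` : its normal subgroups are trivial.
* `card_dvd` : `Y` acts faithfully on the elementary abelian group `V` of order at most 16, `5` does not
  divide `|Y|`, `Y` is not solvable and has no nontrivial normal 2-subgroup: `|Y|` divides 168.
-/

set_option autoImplicit false

namespace Cfsg.Agent.GH.C2SevenTop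

open Subgroup

/-! ### groups of order dividing 168 -/

section small

theorem solvable_of_dvd {Y : Type*} [Group Y] [Finite Y] {p q a b : ℕ} (hp : p.Prime) (hq : q.Prime)
    (h : Nat.card Y ∣ p ^ a * q ^ b) : Group.IsSolvable Y := by
  obtain ⟨d₁, d₂, h1, h2, h3⟩ := exists_dvd_and_dvd_of_dvd_mul h
  obtain ⟨i, -, rfl⟩ := (Nat.dvd_prime_pow hp).mp h1
  obtain ⟨j, -, rfl⟩ := (Nat.dvd_prime_pow hq).mp h2
  exact S0144.result p q i j hp hq h3

theorem solvable_of_quotient {Y : Type*} [Group Y] (N : Subgroup Y) [N.Normal] (h1 : Group.IsSolvable N)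
    (h2 : Group.IsSolvable (Y ⧸ N)) : Group.IsSolvable Y := by
  refine Group.isSolvable_of_ker_le_range N.subtype (QuotientGroup.mk' N) ?_
  rw [QuotientGroup.ker_mk', range_subtype]

/-- A nonsolvable group whose order divides 168 has order 168. -/
theorem card_of_dvd {Y : Type*} [Group Y] [Finite Y] (hs : ¬ Group.IsSolvable Y)
    (hd : Nat.card Y ∣ 168) : Nat.card Y = 168 := by
  have h7 : Fact (Nat.Prime 7) := ⟨by norm_num⟩
  have hd7 : 7 ∣ Nat.card Y := by
    by_contra h
    have hc : (Nat.card Y).Coprime 7 := ((Nat.Prime.coprime_iff_not_dvd (by norm_num)).mpr h).symm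
    have h1 : Nat.card Y ∣ 2 ^ 3 * 3 ^ 1 := by
      refine hc.dvd_of_dvd_mul_right (n := 7) ?_
      exact hd
    exact hs (solvable_of_dvd Nat.prime_two Nat.prime_three h1)
  have hd56 : ¬ Nat.card Y ∣ 2 ^ 3 * 7 ^ 1 := fun h =>
    hs (solvable_of_dvd Nat.prime_two (by norm_num) h)
  obtain ⟨P⟩ : Nonempty (Sylow 7 Y) := inferInstance
  -- the number of Sylow 7-subgroups
  have hn1 : Nat.card (Sylow 7 Y) ≡ 1 [MOD 7] := card_sylow_modEq_one 7 Y
  have hPc : Nat.card P = 7 := by
    have h1 := P.card_eq_multiplicity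
    have h2 : (Nat.card Y).factorization 7 = 1 := by
      obtain ⟨k, hk⟩ := hd7
      have h3 : k ∣ 24 := by
        rw [hk] at hd
        exact (Nat.mul_dvd_mul_iff_left (by norm_num : 0 < 7)).mp (by
          rw [show (168 : ℕ) = 7 * 24 by norm_num] at hd; exact hd)
      have h4 : ¬ 7 ∣ k := fun h => absurd (h.trans h3) (by norm_num)
      rw [hk, Nat.factorization_mul (by norm_num) (by rintro rfl; exact h4 (dvd_zero 7))]
      rw [Finsupp.add_apply, Nat.Prime.factorization_self (by norm_num),
        Nat.factorization_eq_zero_of_not_dvd h4]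
    rw [h1, h2, pow_one]
  have hidx : Nat.card (Sylow 7 Y) ∣ (P : Subgroup Y).index := Sylow.card_dvd_index P
  have hidx2 : (P : Subgroup Y).index * 7 = Nat.card Y := by
    have h1 := (P : Subgroup Y).card_mul_index
    rw [hPc] at h1
    rw [mul_comm]
    exact h1
  have hidx3 : (P : Subgroup Y).index ∣ 24 := by
    rw [← hidx2] at hd
    exact (Nat.mul_dvd_mul_iff_right (by norm_num : 0 < 7)).mp (by
      rw [show (168 : ℕ) = 24 * 7 by norm_num] at hd; exact hd)
  have hn2 : Nat.card (Sylow 7 Y) = 1 ∨ Nat.card (Sylow 7 Y) = 8 := by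
    have h1 := hidx.trans hidx3
    have h2 : Nat.card (Sylow 7 Y) ≤ 24 := Nat.le_of_dvd (by norm_num) h1
    generalize Nat.card (Sylow 7 Y) = n at h1 h2 hn1
    have h3 : ∀ n ≤ 24, n ∣ 24 → n % 7 = 1 % 7 → n = 1 ∨ n = 8 := by decide
    exact h3 n h2 h1 hn1
  rcases hn2 with h1 | h1
  · -- `P` is normal
    exfalso
    have hPn : (P : Subgroup Y).Normal := by
      have : Subsingleton (Sylow 7 Y) := (Nat.card_eq_one_iff_unique.mp h1).1
      exact Sylow.normal_of_subsingleton P
    refine hs (solvable_of_quotient (P : Subgroup Y) ?_ ?_)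
    · exact S0144.result 7 7 1 0 (by norm_num) (by norm_num) (by rw [hPc]; norm_num)
    · refine solvable_of_dvd Nat.prime_two Nat.prime_three (a := 3) (b := 1) ?_
      rw [← Subgroup.index_eq_card]
      exact hidx3
  · rw [h1] at hidx
    obtain ⟨k, hk⟩ := hidx
    rw [hk] at hidx2 hidx3
    have h3 : k ∣ 3 := (Nat.mul_dvd_mul_iff_left (by norm_num : 0 < 8)).mp (by
      rw [show (24 : ℕ) = 8 * 3 by norm_num] at hidx3; exact hidx3)
    rcases (Nat.dvd_prime Nat.prime_three).mp h3 with rfl | rfl
    · exact absurd (by rw [← hidx2]; norm_num) hd56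
    · rw [← hidx2]

/-- Normal subgroups of a nonsolvable group whose order divides 168. -/
theorem simple_of_dvd {Y : Type*} [Group Y] [Finite Y] (hs : ¬ Group.IsSolvable Y)
    (hd : Nat.card Y ∣ 168) (N : Subgroup Y) (hN : N.Normal) : N = ⊥ ∨ N = ⊤ := by
  by_cases h1 : Group.IsSolvable N
  · left
    have h2 : ¬ Group.IsSolvable (Y ⧸ N) := fun h => hs (solvable_of_quotient N h1 h)
    have h3 := card_of_dvd h2 ((Subgroup.card_quotient_dvd_card N).trans hd)
    have h4 := Subgroup.card_eq_card_quotient_mul_card_subgroup N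
    rw [h3, card_of_dvd hs hd] at h4
    exact Subgroup.eq_bot_of_card_eq N (by omega)
  · right
    have h3 := card_of_dvd h1 ((Subgroup.card_subgroup_dvd_card N).trans hd)
    exact Subgroup.eq_top_of_card_eq N (by rw [h3, card_of_dvd hs hd])

end small

end Cfsg.Agent.GH.C2SevenTop
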