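import Cfsg.Agent.GH.PcTypes
import Cfsg.Agent.GH.C2Base

/-!
# GH-C2, case `V = O₂(X) = 2⁴`: explicit Sylow 2-subgroups

`V` is a normal elementary abelian subgroup of `X`; all statements are about elements of `X`.
-/

set_option autoImplicit false

namespace Cfsg.Agent.GH.C2Syl

open Subgroup Cfsg.Agent.GH.Pc Cfsg.Agent.GH.PcTypes

variable {X : Type*} [Group X] {V : Subgroup X}

/-! ### words -/

theorem sat_UT34 {a b v₁ v₂ u₁ u₂ : X} (ha : a * a = 1) (hb : b * b = 1) (hab : a * b = b * a)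
    (hv₁ : v₁ * v₁ = 1) (hv₂ : v₂ * v₂ = 1) (hu₁ : u₁ * u₁ = 1) (hu₂ : u₂ * u₂ = 1)
    (h1 : v₁ * v₂ = v₂ * v₁) (h2 : v₁ * u₁ = u₁ * v₁) (h3 : v₁ * u₂ = u₂ * v₁)
    (h4 : v₂ * u₁ = u₁ * v₂) (h5 : v₂ * u₂ = u₂ * v₂) (h6 : u₁ * u₂ = u₂ * u₁)
    (a1 : a * v₁ = v₁ * u₁ * a) (a2 : a * v₂ = v₂ * u₂ * a) (a3 : a * u₁ = u₁ * a)
    (a4 : a * u₂ = u₂ * a) (b1 : b * v₁ = v₁ * u₂ * b) (b2 : b * v₂ = v₂ * u₁ * u₂ * b)
    (b3 : b * u₁ = u₁ * b) (b4 : b * u₂ = u₂ * b) : Sat UT34 ![a, b, v₁, v₂, u₁, u₂] where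
  sq i := by fin_cases i <;> (simp [UT34]; assumption)
  cj i j hij := by
    fin_cases i <;> fin_cases j <;> first
      | (exfalso; revert hij; decide)
      | (simp [UT34, cjOf, ← mul_assoc]; assumption)

theorem sat_M22T {t a b v₁ v₂ u₁ u₂ : X} (ht : t * t = 1) (ha : a * a = 1) (hb : b * b = 1)
    (hab : a * b = b * a)
    (hv₁ : v₁ * v₁ = 1) (hv₂ : v₂ * v₂ = 1) (hu₁ : u₁ * u₁ = 1) (hu₂ : u₂ * u₂ = 1)
    (h1 : v₁ * v₂ = v₂ * v₁) (h2 : v₁ * u₁ = u₁ * v₁) (h3 : v₁ * u₂ = u₂ * v₁)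
    (h4 : v₂ * u₁ = u₁ * v₂) (h5 : v₂ * u₂ = u₂ * v₂) (h6 : u₁ * u₂ = u₂ * u₁)
    (a1 : a * v₁ = v₁ * u₁ * a) (a2 : a * v₂ = v₂ * u₂ * a) (a3 : a * u₁ = u₁ * a)
    (a4 : a * u₂ = u₂ * a) (b1 : b * v₁ = v₁ * u₂ * b) (b2 : b * v₂ = v₂ * u₁ * u₂ * b)
    (b3 : b * u₁ = u₁ * b) (b4 : b * u₂ = u₂ * b)
    (t1 : t * a = a * t) (t2 : t * b = a * b * t) (t3 : t * v₁ = v₁ * t)
    (t4 : t * v₂ = v₁ * v₂ * t) (t5 : t * u₁ = u₁ * t) (t6 : t * u₂ = u₁ * u₂ * t) :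
    Sat M22T ![t, a, b, v₁, v₂, u₁, u₂] where
  sq i := by fin_cases i <;> (simp [M22T]; assumption)
  cj i j hij := by
    fin_cases i <;> fin_cases j <;> first
      | (exfalso; revert hij; decide)
      | (simp [M22T, cjOf, ← mul_assoc]; assumption)

/-! ### the hypotheses -/

/-- `V` is a normal elementary abelian subgroup. -/
structure El (V : Subgroup X) : Prop where
  normal : V.Normal
  sq : ∀ v ∈ V, v * v = 1

namespace El

theorem inv (h : El V) {v : X} (hv : v ∈ V) : v⁻¹ = v := inv_eq_of_mul_eq_one_left (h.sq v hv)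

theorem comm (h : El V) {v w : X} (hv : v ∈ V) (hw : w ∈ V) : v * w = w * v := by
  have h1 := h.sq _ (V.mul_mem hv hw)
  have h2 : v * w = (v * w)⁻¹ := (h.inv (V.mul_mem hv hw)).symm
  rw [mul_inv_rev, h.inv hv, h.inv hw] at h2
  exact h2

theorem conj (h : El V) (g : X) {v : X} (hv : v ∈ V) : g * v * g⁻¹ ∈ V := h.normal.conj_mem v hv g

/-- the commutator `[g, v]` -/
theorem cm (h : El V) (g : X) {v : X} (hv : v ∈ V) : g * v * g⁻¹ * v ∈ V :=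
  V.mul_mem (h.conj g hv) hv

end El

/-- A coset with an element of order 2 modulo `V` acting like a free involution contains an involution. -/
theorem exists_invol (hV : El V) {a₀ : X} (h1 : a₀ * a₀ ∈ V)
    (h2 : ∀ v ∈ V, a₀ * v * a₀⁻¹ = v → ∃ w ∈ V, a₀ * w * a₀⁻¹ * w⁻¹ = v) :
    ∃ v ∈ V, (v * a₀) * (v * a₀) = 1 := by
  obtain ⟨v, hv, h3⟩ := h2 _ h1 (by group)
  rw [hV.inv hv] at h3
  refine ⟨v, hv, ?_⟩
  have h4 : v * a₀ * (v * a₀) = v * (a₀ * v * a₀⁻¹ * v) * v⁻¹ * (a₀ * a₀) := by group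
  rw [h4, h3, hV.comm hv h1, mul_inv_cancel_right]
  exact hV.sq _ h1

/-- If `d` acts fixed point freely on `V` and `[d, w] ∈ U`, `U` invariant, then `w ∈ U`. -/
theorem mem_of_cm [Finite X] {U : Subgroup X} (hUV : U ≤ V) {d : X}
    (hd : ∀ v ∈ V, d * v * d⁻¹ = v → v = 1) (hdU : ∀ u ∈ U, d * u * d⁻¹ ∈ U) {w : X} (hw : w ∈ V)
    (h : d * w * d⁻¹ * w⁻¹ ∈ U) : w ∈ U := by
  let f : U → U := fun u => ⟨d * u * d⁻¹ * (u : X)⁻¹, U.mul_mem (hdU u u.2) (U.inv_mem u.2)⟩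
  have key : ∀ p q : X, p ∈ V → q ∈ V → d * p * d⁻¹ * p⁻¹ = d * q * d⁻¹ * q⁻¹ → p = q := by
    intro p q hp hq h1
    have h2 : q⁻¹ * p = 1 := by
      apply hd _ (V.mul_mem (V.inv_mem hq) hp)
      have h3 : d * (q⁻¹ * p) * d⁻¹ = q⁻¹ * (d * q * d⁻¹ * q⁻¹)⁻¹ * (d * p * d⁻¹ * p⁻¹) * p := by
        group
      rw [h3, h1]
      group
    exact (inv_mul_eq_one.mp h2).symm
  have hf : Function.Injective f := fun p q hpq =>
    Subtype.ext (key p q (hUV p.2) (hUV q.2) (congrArg Subtype.val hpq))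
  obtain ⟨u, hu⟩ := (Finite.injective_iff_surjective.mp hf) ⟨_, h⟩
  have h1 := key u w (hUV u.2) hw (congrArg Subtype.val hu)
  rw [← h1]
  exact u.2

/-- The three conjugates of an involution under an element of order three form a four-group. -/
theorem klein [Finite X] {U : Subgroup X} (hUV : U ≤ V) {d a : X}
    (hd3 : d * d * d = 1) (hd : ∀ v ∈ V, d * v * d⁻¹ = v → v = 1)
    (hdU : ∀ u ∈ U, d * u * d⁻¹ ∈ U) (haa : a * a = 1)
    (hF : a * (d * a * d⁻¹) * (d * (d * a * d⁻¹) * d⁻¹) ∈ V)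
    (hUa : ∀ u ∈ U, a * u * a⁻¹ = u) (hcm : ∀ v ∈ V, a * v * a⁻¹ * v⁻¹ ∈ U) :
    d * (d * a * d⁻¹) * d⁻¹ = a * (d * a * d⁻¹) ∧ a * (d * a * d⁻¹) = (d * a * d⁻¹) * a := by
  have ha : a⁻¹ = a := inv_eq_of_mul_eq_one_left haa
  set b := d * a * d⁻¹ with hb
  set c := d * b * d⁻¹ with hc
  have hdc : d * c * d⁻¹ = a := by
    have h1 : d * c * d⁻¹ = (d * d * d) * a * (d * d * d)⁻¹ := by rw [hc, hb]; group
    rw [h1, hd3]; group
  have hbb : b * b = 1 := by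
    have h1 : b * b = d * (a * a) * d⁻¹ := by rw [hb]; group
    rw [h1, haa]; group
  have hcc : c * c = 1 := by
    have h1 : c * c = d * (b * b) * d⁻¹ := by rw [hc]; group
    rw [h1, hbb]; group
  have hb' : b⁻¹ = b := inv_eq_of_mul_eq_one_left hbb
  have h1 : d * (a * b * c) * d⁻¹ = a * (a * b * c) * a⁻¹ := by
    have h2 : d * (a * b * c) * d⁻¹ = (d * a * d⁻¹) * (d * b * d⁻¹) * (d * c * d⁻¹) := by group
    rw [h2, hdc, ← hb, ← hc, ha]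
    simp only [← mul_assoc]
    rw [haa, one_mul]
  have h2 : a * b * c ∈ U := mem_of_cm hUV hd hdU hF (by rw [h1]; exact hcm _ hF)
  have h3 : a * b * c = 1 := hd _ hF (by rw [h1]; exact hUa _ h2)
  have h4 : c = b * a := by
    have h5 : c = (a * b)⁻¹ * (a * b * c) := by group
    rw [h5, h3, mul_one, mul_inv_rev, ha, hb']
  have h5 : a * b = b * a := by
    rw [h4] at hcc
    have h6 : a * b = (b * a)⁻¹ := by rw [mul_inv_rev, ha, hb']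
    rw [h6]
    exact inv_eq_of_mul_eq_one_left hcc
  exact ⟨by rw [h4, h5], h5⟩

section commutators

variable {a : X}

theorem cm_mul (hV : El V) {v w : X} (hv : v ∈ V) (hw : w ∈ V) :
    a * (v * w) * a⁻¹ * (v * w)⁻¹ = (a * v * a⁻¹ * v⁻¹) * (a * w * a⁻¹ * w⁻¹) := by
  have h1 : a * (v * w) * a⁻¹ * (v * w)⁻¹ = (a * v * a⁻¹) * ((a * w * a⁻¹ * w⁻¹) * v⁻¹) := by group
  rw [h1, hV.comm (V.mul_mem (hV.conj a hw) (V.inv_mem hw)) (V.inv_mem hv), ← mul_assoc]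

/-- A four-group is determined by two of its involutions. -/
theorem four_cases {U : Subgroup X} (hU4 : Nat.card U = 4) {p q : X} (hp : p ∈ U) (hq : q ∈ U)
    (hp2 : p * p = 1) (hq2 : q * q = 1) (hp1 : p ≠ 1) (hq1 : q ≠ 1) (hpq : p ≠ q) {u : X}
    (hu : u ∈ U) : u = 1 ∨ u = p ∨ u = q ∨ u = p * q := by
  have hfin : Finite U := Nat.finite_of_card_ne_zero (by rw [hU4]; norm_num)
  have h1 : ({1, p, q, p * q} : Set X) ⊆ (U : Set X) := by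
    intro x hx
    simp only [Set.mem_insert_iff, Set.mem_singleton_iff] at hx
    rcases hx with rfl | rfl | rfl | rfl
    · exact U.one_mem
    · exact hp
    · exact hq
    · exact U.mul_mem hp hq
  have h2 : ({1, p, q, p * q} : Set X).ncard = 4 := by
    rw [Set.ncard_insert_of_notMem, Set.ncard_insert_of_notMem, Set.ncard_pair]
    · intro h
      apply hp1
      simpa using h
    · simp only [Set.mem_insert_iff, Set.mem_singleton_iff, not_or]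
      refine ⟨hpq, fun h => hq1 ?_⟩
      simpa using h
    · simp only [Set.mem_insert_iff, Set.mem_singleton_iff, not_or]
      refine ⟨hp1.symm, hq1.symm, fun h => hpq ?_⟩
      have h3 : p⁻¹ = p := inv_eq_of_mul_eq_one_left hp2
      rw [← h3]
      exact inv_eq_of_mul_eq_one_right h.symm
  have h3 : ({1, p, q, p * q} : Set X) = (U : Set X) := by
    apply Set.eq_of_subset_of_ncard_le h1
    · rw [h2]
      exact le_of_eq hU4
  have h4 : u ∈ ({1, p, q, p * q} : Set X) := by rw [h3]; exact hu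
  simpa using h4

/-- Equal commutators. -/
theorem fix_of_cm_eq {v w : X} (h : a * v * a⁻¹ * v⁻¹ = a * w * a⁻¹ * w⁻¹) :
    a * (w⁻¹ * v) * a⁻¹ = w⁻¹ * v := by
  have h3 : a * (w⁻¹ * v) * a⁻¹ = w⁻¹ * (a * w * a⁻¹ * w⁻¹)⁻¹ * (a * v * a⁻¹ * v⁻¹) * v := by
    group
  rw [h3, h]
  group

/-- The commutator with a product. -/
theorem cm_prod {U : Subgroup X} (hUa : ∀ u ∈ U, a * u * a⁻¹ = u) {b v : X}
    (h : b * v * b⁻¹ * v⁻¹ ∈ U) :
    a * b * v * (a * b)⁻¹ * v⁻¹ = (b * v * b⁻¹ * v⁻¹) * (a * v * a⁻¹ * v⁻¹) := by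
  have h1 : a * b * v * (a * b)⁻¹ * v⁻¹ =
      (a * (b * v * b⁻¹ * v⁻¹) * a⁻¹) * (a * v * a⁻¹ * v⁻¹) := by group
  rw [h1, hUa _ h]

end commutators

/-- A four-group acting on `V` as the unipotent radical of `SL₂(4)`. -/
structure NatF (V U : Subgroup X) (a b : X) : Prop where
  le : U ≤ V
  card : Nat.card U = 4
  fa : ∀ v ∈ V, a * v * a⁻¹ = v ↔ v ∈ U
  fb : ∀ v ∈ V, b * v * b⁻¹ = v ↔ v ∈ U
  fc : ∀ v ∈ V, a * b * v * (a * b)⁻¹ = v ↔ v ∈ U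
  ca : ∀ v ∈ V, a * v * a⁻¹ * v⁻¹ ∈ U
  cb : ∀ v ∈ V, b * v * b⁻¹ * v⁻¹ ∈ U

theorem NatF.rel (hV : El V) {U : Subgroup X} {a b : X} (h : NatF V U a b) {v₁ v₂ : X}
    (hv₁ : v₁ ∈ V) (hv₁' : v₁ ∉ U) (hv₂ : v₂ ∈ V)
    (h12 : a * v₂ * a⁻¹ * v₂⁻¹ = b * v₁ * b⁻¹ * v₁⁻¹) :
    b * v₂ * b⁻¹ * v₂⁻¹ = (a * v₁ * a⁻¹ * v₁⁻¹) * (b * v₁ * b⁻¹ * v₁⁻¹) ∧
    (∀ u ∈ U, u = 1 ∨ u = a * v₁ * a⁻¹ * v₁⁻¹ ∨ u = b * v₁ * b⁻¹ * v₁⁻¹ ∨
      u = (a * v₁ * a⁻¹ * v₁⁻¹) * (b * v₁ * b⁻¹ * v₁⁻¹)) ∧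
    ∀ v ∈ V, v ∈ U ∨ v₁⁻¹ * v ∈ U ∨ v₂⁻¹ * v ∈ U ∨ (v₁ * v₂)⁻¹ * v ∈ U := by
  have hUa : ∀ u ∈ U, a * u * a⁻¹ = u := fun u hu => (h.fa u (h.le hu)).mpr hu
  have e1 : ∀ {g v : X}, g * v * g⁻¹ * v⁻¹ = 1 ↔ g * v * g⁻¹ = v := mul_inv_eq_one
  set u₁ := a * v₁ * a⁻¹ * v₁⁻¹ with hu₁
  set u₂ := b * v₁ * b⁻¹ * v₁⁻¹ with hu₂
  have m1 : u₁ ∈ U := h.ca _ hv₁
  have m2 : u₂ ∈ U := h.cb _ hv₁
  have s1 := hV.sq _ (h.le m1)
  have s2 := hV.sq _ (h.le m2)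
  have n1 : u₁ ≠ 1 := fun e => hv₁' ((h.fa _ hv₁).mp (e1.mp e))
  have n2 : u₂ ≠ 1 := fun e => hv₁' ((h.fb _ hv₁).mp (e1.mp e))
  have n12 : u₁ ≠ u₂ := fun e => by
    apply hv₁'
    rw [← h.fc _ hv₁, ← e1, cm_prod hUa m2, ← hu₁, ← hu₂, e]
    exact s2
  have hcase : ∀ u ∈ U, u = 1 ∨ u = u₁ ∨ u = u₂ ∨ u = u₁ * u₂ := fun u hu =>
    four_cases h.card m1 m2 s1 s2 n1 n2 n12 hu
  have hv₂' : v₂ ∉ U := fun h2 => n2 (by rw [← h12, e1]; exact hUa _ h2)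
  set y := b * v₂ * b⁻¹ * v₂⁻¹ with hy
  have my : y ∈ U := h.cb _ hv₂
  refine ⟨?_, hcase, ?_⟩
  · rcases hcase y my with e | e | e | e
    · exact absurd ((h.fb _ hv₂).mp (e1.mp e)) hv₂'
    · exfalso
      have h5 : (u₂ * u₁) * (u₁ * u₂) = 1 := by rw [mul_assoc, ← mul_assoc u₁, s1, one_mul, s2]
      have h3 : v₁ * v₂ ∈ U := by
        rw [← h.fc _ (V.mul_mem hv₁ hv₂), ← e1, cm_mul hV hv₁ hv₂, cm_prod hUa m2,
          cm_prod hUa my, h12, ← hy, e]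
        exact h5
      have h4 : u₁ * u₂ = 1 := by
        rw [hu₁, ← h12, ← cm_mul hV hv₁ hv₂, e1]
        exact hUa _ h3
      apply n12
      rw [mul_eq_one_iff_eq_inv, hV.inv (h.le m2)] at h4
      exact h4
    · exfalso
      apply hv₂'
      rw [← h.fc _ hv₂, ← e1, cm_prod hUa my, ← hy, h12, e]
      exact s2
    · exact e
  · intro v hv
    have hmem : ∀ w ∈ V, a * v * a⁻¹ * v⁻¹ = a * w * a⁻¹ * w⁻¹ → w⁻¹ * v ∈ U := fun w hw he =>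
      (h.fa _ (V.mul_mem (V.inv_mem hw) hv)).mp (fix_of_cm_eq he)
    rcases hcase _ (h.ca _ hv) with e | e | e | e
    · left
      exact (h.fa _ hv).mp (e1.mp e)
    · right; left
      exact hmem _ hv₁ e
    · right; right; left
      exact hmem _ hv₂ (by rw [e, h12])
    · right; right; right
      exact hmem _ (V.mul_mem hv₁ hv₂) (by rw [e, cm_mul hV hv₁ hv₂, h12])

/-- Generation of `T` by the normal words. -/
theorem closure_eq_of_cover {n : ℕ} {x : Fin n → X} {T : Subgroup X} (hx : ∀ i, x i ∈ T)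
    (hV : V ≤ closure (Set.range x)) (hT : ∀ g ∈ T, ∃ k ∈ closure (Set.range x), k⁻¹ * g ∈ V) :
    closure (Set.range x) = T := by
  apply le_antisymm
  · rw [closure_le]
    rintro _ ⟨i, rfl⟩
    exact hx i
  · intro g hg
    obtain ⟨k, hk, h1⟩ := hT g hg
    have h2 := mul_mem hk (hV h1)
    rwa [mul_inv_cancel_left] at h2

/-- Case (N1): `UT₃(4)`. -/
theorem NatF.isType_UT34 (hV : El V) {U : Subgroup X} {a b : X} (h : NatF V U a b)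
    (hsur : ∀ u ∈ U, ∃ v ∈ V, a * v * a⁻¹ * v⁻¹ = u) (h16 : Nat.card V = 16)
    (haa : a * a = 1) (hbb : b * b = 1) (hab : a * b = b * a) {T : Subgroup X}
    (hT : Nat.card T = 64) (hVT : V ≤ T) (haT : a ∈ T) (hbT : b ∈ T)
    (hcov : ∀ g ∈ T, ∃ k ∈ closure ({a, b} : Set X), k⁻¹ * g ∈ V) : IsType UT34 T := by
  obtain ⟨v₁, hv₁, hv₁'⟩ : ∃ v ∈ V, v ∉ U := by
    by_contra hcon
    push Not at hcon
    have h1 : V ≤ U := hcon
    have : Finite U := Nat.finite_of_card_ne_zero (by rw [h.card]; norm_num)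
    have h2 := Subgroup.card_le_of_le h1
    rw [h16, h.card] at h2
    omega
  obtain ⟨v₂, hv₂, h12⟩ := hsur _ (h.cb _ hv₁)
  obtain ⟨r1, r2, r3⟩ := h.rel hV hv₁ hv₁' hv₂ h12
  set u₁ := a * v₁ * a⁻¹ * v₁⁻¹ with hu₁
  set u₂ := b * v₁ * b⁻¹ * v₁⁻¹ with hu₂
  have m1 : u₁ ∈ U := h.ca _ hv₁
  have m2 : u₂ ∈ U := h.cb _ hv₁
  have hUa : ∀ u ∈ U, a * u * a⁻¹ = u := fun u hu => (h.fa u (h.le hu)).mpr hu
  have hUb : ∀ u ∈ U, b * u * b⁻¹ = u := fun u hu => (h.fb u (h.le hu)).mpr hu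
  have cj : ∀ {g v w : X}, g * v * g⁻¹ * v⁻¹ = w → v ∈ V → w ∈ V → g * v = v * w * g := by
    intro g v w h1 h2 h3
    rw [hV.comm h2 h3, ← h1]; group
  have cj' : ∀ {g v : X}, g * v * g⁻¹ = v → g * v = v * g := by
    intro g v h1
    rw [mul_inv_eq_iff_eq_mul] at h1
    exact h1
  have hsat : Sat UT34 ![a, b, v₁, v₂, u₁, u₂] :=
    sat_UT34 haa hbb hab (hV.sq _ hv₁) (hV.sq _ hv₂) (hV.sq _ (h.le m1)) (hV.sq _ (h.le m2))
      (hV.comm hv₁ hv₂) (hV.comm hv₁ (h.le m1)) (hV.comm hv₁ (h.le m2)) (hV.comm hv₂ (h.le m1))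
      (hV.comm hv₂ (h.le m2)) (hV.comm (h.le m1) (h.le m2))
      (cj rfl hv₁ (h.le m1)) (cj h12 hv₂ (h.le m2)) (cj' (hUa _ m1)) (cj' (hUa _ m2))
      (cj rfl hv₁ (h.le m2)) (by
        rw [mul_assoc v₂]
        exact cj r1 hv₂ (V.mul_mem (h.le m1) (h.le m2)))
      (cj' (hUb _ m1)) (cj' (hUb _ m2))
  refine isType_of_closure hsat T ?_ (by rw [hT]; norm_num)
  have hmem : ∀ i, (![a, b, v₁, v₂, u₁, u₂] : Fin 6 → X) i ∈
      closure (Set.range ![a, b, v₁, v₂, u₁, u₂]) := fun i => subset_closure ⟨i, rfl⟩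
  set K := closure (Set.range ![a, b, v₁, v₂, u₁, u₂]) with hK
  have k0 : a ∈ K := hmem 0
  have k1 : b ∈ K := hmem 1
  have k2 : v₁ ∈ K := hmem 2
  have k3 : v₂ ∈ K := hmem 3
  have k4 : u₁ ∈ K := hmem 4
  have k5 : u₂ ∈ K := hmem 5
  have hUK : U ≤ K := fun u hu => by
    rcases r2 u hu with e | e | e | e <;> rw [e]
    · exact K.one_mem
    · exact k4
    · exact k5
    · exact K.mul_mem k4 k5
  have hVK : V ≤ K := fun v hv => by
    rcases r3 v hv with e | e | e | e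
    · exact hUK e
    · have := K.mul_mem k2 (hUK e)
      rwa [mul_inv_cancel_left] at this
    · have := K.mul_mem k3 (hUK e)
      rwa [mul_inv_cancel_left] at this
    · have := K.mul_mem (K.mul_mem k2 k3) (hUK e)
      rwa [mul_inv_cancel_left] at this
  apply closure_eq_of_cover (V := V) _ hVK
  · intro g hg
    obtain ⟨k, hk, h1⟩ := hcov g hg
    refine ⟨k, ?_, h1⟩
    have h2 : closure ({a, b} : Set X) ≤ K := by
      rw [closure_le]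
      rintro y (rfl | rfl)
      · exact k0
      · exact k1
    exact h2 hk
  · intro i
    fin_cases i
    · exact haT
    · exact hbT
    · exact hVT hv₁
    · exact hVT hv₂
    · exact hVT (h.le m1)
    · exact hVT (h.le m2)

/-- The fixed points of an involution on a four-group. -/
theorem exists_fix (hV : El V) {U : Subgroup X} (hUV : U ≤ V) (hU4 : Nat.card U = 4) {t : X}
    (htt : t * t = 1) (tU : ∀ u ∈ U, t * u * t⁻¹ ∈ U) (ht : ∃ u ∈ U, t * u * t⁻¹ ≠ u) :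
    ∃ z ∈ U, ∃ e ∈ U, z ≠ 1 ∧ t * z * t⁻¹ = z ∧ t * e * t⁻¹ = z * e ∧
      ∀ u ∈ U, t * u * t⁻¹ = u → u = 1 ∨ u = z := by
  obtain ⟨u, hu, hne⟩ := ht
  have ht' : t⁻¹ = t := inv_eq_of_mul_eq_one_left htt
  set w := t * u * t⁻¹ with hw
  have hwU : w ∈ U := tU u hu
  have htw : t * w * t⁻¹ = u := by
    have h1 : t * w * t⁻¹ = (t * t) * u * (t * t)⁻¹ := by rw [hw]; group
    rw [h1, htt]; group
  have su := hV.sq _ (hUV hu)
  have sw := hV.sq _ (hUV hwU)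
  have huw := hV.comm (hUV hu) (hUV hwU)
  have hu1 : u ≠ 1 := by
    rintro rfl
    apply hne
    rw [hw]; group
  have hw1 : w ≠ 1 := by
    intro h1
    rw [h1] at htw
    apply hu1
    rw [← htw]; group
  refine ⟨u * w, U.mul_mem hu hwU, u, hu, ?_, ?_, ?_, ?_⟩
  · intro h1
    apply hne
    have h2 : u⁻¹ = u := inv_eq_of_mul_eq_one_left su
    rw [← h2]
    exact (inv_eq_of_mul_eq_one_right h1).symm
  · have h1 : t * (u * w) * t⁻¹ = (t * u * t⁻¹) * (t * w * t⁻¹) := by group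
    rw [h1, htw, ← hw, huw]
  · rw [huw, mul_assoc w, su, mul_one]
  · intro v hv hfix
    rcases four_cases hU4 hu hwU su sw hu1 hw1 (Ne.symm hne) hv with e | e | e | e
    · exact Or.inl e
    · exfalso
      rw [e, ← hw] at hfix
      exact hne hfix
    · exfalso
      rw [e, htw] at hfix
      exact hne hfix.symm
    · exact Or.inr e

/-- Correcting a representative. -/
theorem adjust (hV : El V) {U : Subgroup X} (hUV : U ≤ V) {t : X} (htt : t * t = 1)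
    {z e : X} (he : e ∈ U) (hte : t * e * t⁻¹ = z * e)
    (hz : ∀ u ∈ U, t * u * t⁻¹ = u → u = 1 ∨ u = z) {v m : X} (hv : v ∈ V) (hm : m ∈ V)
    (htm : t * m * t⁻¹ = m) (hw : (v * m)⁻¹ * (t * v * t⁻¹) ∈ U) :
    ∃ u ∈ U, t * (v * u) * t⁻¹ = v * u * m := by
  set w := (v * m)⁻¹ * (t * v * t⁻¹) with hwd
  have hw' : t * v * t⁻¹ = v * m * w := by rw [hwd]; group
  have hwV : w ∈ V := hUV hw
  have h1 : t * w * t⁻¹ = w := by
    have h2 : v = (t * v * t⁻¹) * (t * m * t⁻¹) * (t * w * t⁻¹) := by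
      have h3 : (t * v * t⁻¹) * (t * m * t⁻¹) * (t * w * t⁻¹) = t * (v * m * w) * t⁻¹ := by group
      rw [h3, ← hw']
      have h4 : t * (t * v * t⁻¹) * t⁻¹ = (t * t) * v * (t * t)⁻¹ := by group
      rw [h4, htt]; group
    rw [hw', htm] at h2
    have h5 : v * m * w * m = v * w := by
      rw [mul_assoc v, hV.comm hm hwV, mul_assoc, mul_assoc, hV.sq m hm, mul_one]
    rw [h5, mul_assoc] at h2
    have h6 : w * (t * w * t⁻¹) = 1 := by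
      have h7 := congrArg (v⁻¹ * ·) h2
      simpa using h7.symm
    have h8 : w⁻¹ = w := hV.inv hwV
    have h9 := inv_eq_of_mul_eq_one_right h6
    rw [← h9]
    exact h8
  rcases hz w hw h1 with h2 | h2
  · refine ⟨1, U.one_mem, ?_⟩
    rw [mul_one, hw', h2, mul_one]
  · refine ⟨e, he, ?_⟩
    have h3 : t * (v * e) * t⁻¹ = (t * v * t⁻¹) * (t * e * t⁻¹) := by group
    have hzz : z * z = 1 := by rw [← h2]; exact hV.sq _ hwV
    rw [h3, hw', hte, h2, mul_assoc (v * m), ← mul_assoc z, hzz, one_mul, mul_assoc,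
      hV.comm hm (hUV he), ← mul_assoc]

/-- Case (N2): type `M₂₂`. -/
theorem NatF.isType_M22T (hV : El V) {U : Subgroup X} {a b t : X} (h : NatF V U a b)
    (hsur : ∀ u ∈ U, ∃ v ∈ V, a * v * a⁻¹ * v⁻¹ = u)
    (haa : a * a = 1) (hbb : b * b = 1) (hab : a * b = b * a) (htt : t * t = 1)
    (hta : t * a = a * t) (htb : t * b = a * b * t) (tU : ∀ u ∈ U, t * u * t⁻¹ ∈ U)
    (ht : ∃ u ∈ U, t * u * t⁻¹ ≠ u) {T : Subgroup X}
    (hT : Nat.card T = 128) (hVT : V ≤ T) (haT : a ∈ T) (hbT : b ∈ T) (htT : t ∈ T)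
    (hcov : ∀ g ∈ T, ∃ k ∈ closure ({t, a, b} : Set X), k⁻¹ * g ∈ V) : IsType M22T T := by
  obtain ⟨z, hz, e, he, hz1, htz, hte, hzc⟩ := exists_fix hV h.le h.card htt tU ht
  have hUa : ∀ u ∈ U, a * u * a⁻¹ = u := fun u hu => (h.fa u (h.le hu)).mpr hu
  have hUb : ∀ u ∈ U, b * u * b⁻¹ = u := fun u hu => (h.fb u (h.le hu)).mpr hu
  have e1 : ∀ {g v : X}, g * v * g⁻¹ * v⁻¹ = 1 ↔ g * v * g⁻¹ = v := mul_inv_eq_one
  -- the commutator map is equivariant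
  have hta' : ∀ v : X, a * (t * v * t⁻¹) * a⁻¹ * (t * v * t⁻¹)⁻¹ = t * (a * v * a⁻¹ * v⁻¹) * t⁻¹ := by
    intro v
    have h1 : a * (t * v * t⁻¹) * a⁻¹ * (t * v * t⁻¹)⁻¹ = (a * t) * v * (a * t)⁻¹ * t * v⁻¹ * t⁻¹ := by
      group
    rw [h1, ← hta]; group
  -- `v₁`
  obtain ⟨w₁, hw₁, hw₁z⟩ := hsur z hz
  obtain ⟨x₁, hx₁, hx₁t⟩ := adjust hV h.le htt he hte hzc hw₁ V.one_mem (by group) (by
    rw [mul_one]
    apply (h.fa _ (V.mul_mem (V.inv_mem hw₁) (hV.conj t hw₁))).mp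
    apply fix_of_cm_eq
    rw [hta', hw₁z, htz])
  rw [mul_one] at hx₁t
  set v₁ := w₁ * x₁ with hv₁d
  have hv₁ : v₁ ∈ V := V.mul_mem hw₁ (h.le hx₁)
  have hav₁ : a * v₁ * a⁻¹ * v₁⁻¹ = z := by
    rw [hv₁d, cm_mul hV hw₁ (h.le hx₁), hw₁z, e1.mpr (hUa _ hx₁), mul_one]
  have hv₁' : v₁ ∉ U := fun h1 => hz1 (by rw [← hav₁, e1]; exact hUa _ h1)
  set y := b * v₁ * b⁻¹ * v₁⁻¹ with hy
  have hyU : y ∈ U := h.cb _ hv₁
  have hty : t * y * t⁻¹ = y * z := by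
    have h1 : t * y * t⁻¹ = (t * b) * v₁ * (t * b)⁻¹ * (t * v₁ * t⁻¹)⁻¹ := by rw [hy]; group
    rw [h1, htb, hx₁t]
    have h2 : a * b * t * v₁ * (a * b * t)⁻¹ * v₁⁻¹ = a * b * (t * v₁ * t⁻¹) * (a * b)⁻¹ * v₁⁻¹ := by
      group
    rw [h2, hx₁t, cm_prod hUa hyU, hav₁]
  -- `v₂`
  obtain ⟨w₂, hw₂, hw₂y⟩ := hsur y hyU
  obtain ⟨x₂, hx₂, hx₂t⟩ := adjust hV h.le htt he hte hzc hw₂ hv₁ hx₁t (by
    apply (h.fa _ (V.mul_mem (V.inv_mem (V.mul_mem hw₂ hv₁)) (hV.conj t hw₂))).mp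
    apply fix_of_cm_eq
    rw [hta', hw₂y, cm_mul hV hw₂ hv₁, hw₂y, hav₁, hty])
  set v₂ := w₂ * x₂ with hv₂d
  have hv₂ : v₂ ∈ V := V.mul_mem hw₂ (h.le hx₂)
  have h12 : a * v₂ * a⁻¹ * v₂⁻¹ = y := by
    rw [hv₂d, cm_mul hV hw₂ (h.le hx₂), hw₂y, e1.mpr (hUa _ hx₂), mul_one]
  obtain ⟨r1, r2, r3⟩ := h.rel hV hv₁ hv₁' hv₂ h12
  rw [hav₁, ← hy] at r1 r2
  have cj : ∀ {g v w : X}, g * v * g⁻¹ * v⁻¹ = w → v ∈ V → w ∈ V → g * v = v * w * g := by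
    intro g v w h1 h2 h3
    rw [hV.comm h2 h3, ← h1]; group
  have cj' : ∀ {g v : X}, g * v * g⁻¹ = v → g * v = v * g := by
    intro g v h1
    rw [mul_inv_eq_iff_eq_mul] at h1
    exact h1
  have hzV := h.le hz
  have hyV := h.le hyU
  have hsat : Sat M22T ![t, a, b, v₁, v₂, z, y] :=
    sat_M22T htt haa hbb hab (hV.sq _ hv₁) (hV.sq _ hv₂) (hV.sq _ hzV) (hV.sq _ hyV)
      (hV.comm hv₁ hv₂) (hV.comm hv₁ hzV) (hV.comm hv₁ hyV) (hV.comm hv₂ hzV)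
      (hV.comm hv₂ hyV) (hV.comm hzV hyV)
      (cj hav₁ hv₁ hzV) (cj h12 hv₂ hyV) (cj' (hUa _ hz)) (cj' (hUa _ hyU))
      (cj rfl hv₁ hyV) (by
        rw [mul_assoc v₂]
        exact cj r1 hv₂ (V.mul_mem hzV hyV))
      (cj' (hUb _ hz)) (cj' (hUb _ hyU)) hta htb (cj' hx₁t)
      (by rw [hV.comm hv₁ hv₂, ← hx₂t]; group) (cj' htz)
      (by rw [hV.comm hzV hyV, ← hty]; group)
  refine isType_of_closure hsat T ?_ (by rw [hT]; norm_num)
  have hmem : ∀ i, (![t, a, b, v₁, v₂, z, y] : Fin 7 → X) i ∈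
      closure (Set.range ![t, a, b, v₁, v₂, z, y]) := fun i => subset_closure ⟨i, rfl⟩
  set K := closure (Set.range ![t, a, b, v₁, v₂, z, y]) with hK
  have k : t ∈ K := hmem 0
  have k0 : a ∈ K := hmem 1
  have k1 : b ∈ K := hmem 2
  have k2 : v₁ ∈ K := hmem 3
  have k3 : v₂ ∈ K := hmem 4
  have k4 : z ∈ K := hmem 5
  have k5 : y ∈ K := hmem 6
  have hUK : U ≤ K := fun u hu => by
    rcases r2 u hu with e | e | e | e <;> rw [e]
    · exact K.one_mem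
    · exact k4
    · exact k5
    · exact K.mul_mem k4 k5
  have hVK : V ≤ K := fun v hv => by
    rcases r3 v hv with e | e | e | e
    · exact hUK e
    · have := K.mul_mem k2 (hUK e)
      rwa [mul_inv_cancel_left] at this
    · have := K.mul_mem k3 (hUK e)
      rwa [mul_inv_cancel_left] at this
    · have := K.mul_mem (K.mul_mem k2 k3) (hUK e)
      rwa [mul_inv_cancel_left] at this
  apply closure_eq_of_cover (V := V) _ hVK
  · intro g hg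
    obtain ⟨k', hk, h1⟩ := hcov g hg
    refine ⟨k', ?_, h1⟩
    have h2 : closure ({t, a, b} : Set X) ≤ K := by
      rw [closure_le]
      rintro y (rfl | rfl | rfl)
      · exact k
      · exact k0
      · exact k1
    exact h2 hk
  · intro i
    fin_cases i
    · exact htT
    · exact haT
    · exact hbT
    · exact hVT hv₁
    · exact hVT hv₂
    · exact hVT hzV
    · exact hVT hyV

end Cfsg.Agent.GH.C2Syl
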