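import Cfsg.Agent.GH.GL4OrbOut

/-!
# GH-C2, `GL(4,2)`: nonsolvable subgroups of order divisible by five (helper871)

`gl4_five` : `Y` finite, acting faithfully on `V` elementary abelian of order 16, `Y` not solvable,
`5 ∣ |Y|`: one of `N1`, `N2`, `N3`, `O1`, `O2`.
-/

set_option autoImplicit false

namespace Cfsg.Agent.GH.GL4

open Subgroup
open scoped commutatorElement

variable {Y V : Type*} [Group Y] [Group V] {φ : Y →* MulAut V}

theorem solvable_of_two {C : Subgroup Y} (h1 : ∀ y z : Y, ⁅y, z⁆ ∈ C) (h2 : ∀ a ∈ C, ∀ b ∈ C, a * b = b * a) :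
    Group.IsSolvable Y := by
  refine ⟨⟨2, ?_⟩⟩
  have h3 : derivedSeries Y 1 ≤ C := by
    rw [derivedSeries_succ, derivedSeries_zero, commutator_le]
    intro a _ b _
    exact h1 a b
  rw [eq_bot_iff, derivedSeries_succ, commutator_le]
  intro a ha b hb
  rw [mem_bot, commutatorElement_eq_one_iff_mul_comm]
  exact h2 a (h3 ha) b (h3 hb)

/-- the matrix commuting with `X` with first column `a` -/
def mat (a : ℕ) : ℕ := GL4.mk a (ap 63554 a) (ap 63554 (ap 63554 a)) (ap 63554 (ap 63554 (ap 63554 a)))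

theorem mat_comm : ∀ a < 16, ∀ b < 16, mu (mat a) (mat b) = mu (mat b) (mat a) := by decide +kernel

namespace Model

variable (K : Model φ)

theorem eq_mat {x y : Y} (hx : K.m x = 63554) (h : y * x = x * y) : K.m y = mat (ap (K.m y) 1) := by
  have hap : ∀ a, ap (K.m y) (ap 63554 a) = ap 63554 (ap (K.m y) a) := by
    intro a
    rw [← ap_mu, ← ap_mu, ← hx, ← K.m_mul, ← K.m_mul, h]
  have e1 : ap (K.m y) 2 = ap 63554 (ap (K.m y) 1) := by rw [← hap]; rfl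
  have e2 : ap (K.m y) 4 = ap 63554 (ap 63554 (ap (K.m y) 1)) := by rw [← e1, ← hap]; rfl
  have e3 : ap (K.m y) 8 = ap 63554 (ap 63554 (ap 63554 (ap (K.m y) 1))) := by rw [← e2, ← hap]; rfl
  have c0 : col (K.m y) 0 = ap (K.m y) 1 := (ap_pow (K.m y) (k := 0) (by norm_num)).symm
  have c1 : col (K.m y) 1 = ap (K.m y) 2 := (ap_pow (K.m y) (k := 1) (by norm_num)).symm
  have c2 : col (K.m y) 2 = ap (K.m y) 4 := (ap_pow (K.m y) (k := 2) (by norm_num)).symm
  have c3 : col (K.m y) 3 = ap (K.m y) 8 := (ap_pow (K.m y) (k := 3) (by norm_num)).symm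
  have e := eq_mk (K.m_lt y)
  rw [c0, c1, c2, c3, e1, e2, e3] at e
  exact e

theorem solvable (hφ : Function.Injective φ) {x : Y} (hx : K.m x = 63554) (hx5 : x ^ 5 = 1)
    (h : ∀ y, y ∈ HG hx5) : Group.IsSolvable Y := by
  -- `y x y⁻¹` is a power of `x`
  have hpow : ∀ y : Y, ∃ k : ℕ, y * x * y⁻¹ = x ^ k := by
    intro y
    obtain ⟨k, -, -, hk⟩ := h y
    exact ⟨k, by rw [hk, mul_inv_cancel_right]⟩
  have hpow' : ∀ (y : Y) (k : ℕ), y * x * y⁻¹ = x ^ k → ∀ n : ℕ, y * x ^ n * y⁻¹ = x ^ (k * n) := by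
    intro y k hk n
    have h1 : y * x ^ n * y⁻¹ = (y * x * y⁻¹) ^ n := (conj_pow ..).symm
    rw [h1, hk, ← pow_mul]
  apply solvable_of_two (C := centralizer ({x} : Set Y))
  · intro y z
    obtain ⟨k, hk⟩ := hpow y
    obtain ⟨l, hl⟩ := hpow z
    rw [mem_centralizer_singleton_iff]
    have h1 : (y * z) * x * (y * z)⁻¹ = (z * y) * x * (z * y)⁻¹ := by
      have e1 : (y * z) * x * (y * z)⁻¹ = y * (z * x * z⁻¹) * y⁻¹ := by group
      have e2 : (z * y) * x * (z * y)⁻¹ = z * (y * x * y⁻¹) * z⁻¹ := by group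
      rw [e1, e2, hk, hl, hpow' y k hk, hpow' z l hl, Nat.mul_comm]
    -- `(z y)⁻¹ (y z)` commutes with `x`; conjugate
    have h2 : ⁅y, z⁆ = (y * z) * (z * y)⁻¹ := by rw [commutatorElement_def]; group
    have hinv : ∃ n : ℕ, (z * y)⁻¹ * x * (z * y) = x ^ n := by
      obtain ⟨n, hn⟩ := hpow (z * y)⁻¹
      exact ⟨n, by rw [inv_inv] at hn; exact hn⟩
    obtain ⟨n, hn⟩ := hinv
    have h3 : ∀ m : ℕ, (y * z) * x ^ m * (y * z)⁻¹ = (z * y) * x ^ m * (z * y)⁻¹ := by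
      intro m
      have a1 : (y * z) * x ^ m * (y * z)⁻¹ = ((y * z) * x * (y * z)⁻¹) ^ m := (conj_pow ..).symm
      have a2 : (z * y) * x ^ m * (z * y)⁻¹ = ((z * y) * x * (z * y)⁻¹) ^ m := (conj_pow ..).symm
      rw [a1, a2, h1]
    have h4 : ⁅y, z⁆ * x * ⁅y, z⁆⁻¹ = x := by
      rw [h2]
      calc (y * z) * (z * y)⁻¹ * x * ((y * z) * (z * y)⁻¹)⁻¹
          = (y * z) * ((z * y)⁻¹ * x * (z * y)) * (y * z)⁻¹ := by group
        _ = (z * y) * ((z * y)⁻¹ * x * (z * y)) * (z * y)⁻¹ := by rw [hn, h3]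
        _ = x := by group
    rw [mul_inv_eq_iff_eq_mul] at h4
    exact h4
  · intro a ha b hb
    rw [mem_centralizer_singleton_iff] at ha hb
    apply K.m_inj hφ
    rw [K.m_mul, K.m_mul, K.eq_mat hx ha, K.eq_mat hx hb]
    exact mat_comm _ (ap_lt _ _) _ (ap_lt _ _)

end Model

/-- **Nonsolvable subgroups of `GL(4,2)` of order divisible by five.** -/
theorem gl4_five [Finite Y] (hφ : Function.Injective φ) (hV : Nat.card V = 16) (hsq : ∀ v : V, v * v = 1)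
    (hns : ¬ Group.IsSolvable Y) (h5 : 5 ∣ Nat.card Y) : N1 φ ∨ N2 φ ∨ N3 φ ∨ O1 φ ∨ O2 φ := by
  have : Fact (Nat.Prime 5) := ⟨by norm_num⟩
  obtain ⟨x, hx⟩ := exists_prime_orderOf_dvd_card' 5 h5
  have hx5 : x ^ 5 = 1 := by rw [← hx]; exact pow_orderOf_eq_one x
  have hx1 : x ≠ 1 := by
    rintro rfl
    rw [orderOf_one] at hx
    norm_num at hx
  obtain ⟨v, hv⟩ : ∃ v : V, v ≠ 1 := by
    by_contra hcon
    push Not at hcon
    have : Nat.card V = 1 := by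
      rw [Nat.card_eq_one_iff_unique]
      exact ⟨⟨fun a b => by rw [hcon a, hcon b]⟩, ⟨1⟩⟩
    omega
  obtain ⟨K, hKx, -⟩ := exists_model_five hφ hV hsq hx5 hx1 hv
  rcases K.five_cases hφ hKx hx5 with h | h | ⟨j, hj1, hj3, hp, y1, hy1⟩
  · exact absurd (K.solvable hφ hKx hx5 h) hns
  · rcases K.nat_out hφ hKx h with h1 | h1 | h1
    · exact Or.inl h1
    · exact Or.inr (Or.inl h1)
    · exact Or.inr (Or.inr (Or.inl h1))
  · obtain ⟨K', hKx', hp'⟩ := K.rebase hφ hKx hj1 hj3 hp hV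
    rcases K'.orb_out hφ hKx' hx5 hp' hy1 with h1 | h1
    · exact Or.inr (Or.inr (Or.inr (Or.inl h1)))
    · exact Or.inr (Or.inr (Or.inr (Or.inr h1)))

end Cfsg.Agent.GH.GL4
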