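import Cfsg.Agent.GH.C2SylGlue
import Cfsg.Agent.GH.GL4Main

/-!
# GH-C2: helper871's list for `GL(4,2)` in the form used by `C2SylGlue.main`
-/

set_option autoImplicit false

namespace Cfsg.Agent.GH.C2SylConv

open Subgroup Cfsg.Agent.GH.Pc Cfsg.Agent.GH.PcTypes Cfsg.Agent.GH.C2Syl
open Cfsg.Agent.GH.C2SylGlue Cfsg.Agent.TwoFusion.SectionalRank

variable {Y W : Type*} [Group Y] [Group W] {φ : Y →* MulAut W}

theorem natF5_of {U : Subgroup W} {a d : Y} (h : GL4.NatD φ U a d) : NatF5 φ U a d where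
  cardU := h.cardU
  ff := h.aa
  ddd := h.d3
  prod := h.prod
  fpf := h.fpf
  dU := h.dU
  fix := h.fa
  cm := h.ca
  sur := h.sur

theorem n1_of (h : GL4.N1 φ) : C2SylGlue.N1 φ := by
  obtain ⟨U, a, d, h1, h2, P, hP⟩ := h
  refine ⟨U, a, d, natF5_of h1, P, ?_, hP⟩
  change Nat.card (P : Subgroup Y) = 4
  rw [hP, h2]

theorem n2_of (h : GL4.N2 φ) : C2SylGlue.N2 φ := by
  obtain ⟨U, a, d, t, h1, -, h2, h3, h4, h5, -, P, hP, hP8⟩ := h
  exact ⟨U, a, d, t, natF5_of h1, h2, h3, by rw [h4, mul_inv_cancel_right], h5, P, hP8, hP⟩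

theorem n3_of (h : GL4.N3 φ) : C2SylGlue.N3 φ := by
  obtain ⟨U, a, d, t, h1, -, h2, h3, h4, h5, h6⟩ := h
  exact ⟨U, a, d, t, natF5_of h1, h2, h3, h4, h5, h6⟩

theorem o1_of (h : GL4.O1 φ) : C2SylGlue.O1 φ := by
  obtain ⟨e, a, b, h1, h2, h3, -, -, -, -, P, hP, hP4⟩ := h
  exact ⟨e, a, b, h1, h2, h3, P, hP4, hP⟩

theorem o2_of (h : GL4.O2 φ) : C2SylGlue.O2 φ := by
  obtain ⟨e, t, a, b, d, y, h1, ht, ha, -, -, -, -, -, -, -, hd, -, hh, -, -, -, -, -, P, hP, hP8⟩ := h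
  exact ⟨e, t, a, d, h1, ht, ha, hd, hh, P, hP8, hP⟩

theorem out_of (h : GL4.N1 φ ∨ GL4.N2 φ ∨ GL4.N3 φ ∨ GL4.O1 φ ∨ GL4.O2 φ) :
    C2SylGlue.N1 φ ∨ C2SylGlue.N2 φ ∨ C2SylGlue.N3 φ ∨ C2SylGlue.O1 φ ∨ C2SylGlue.O2 φ := by
  rcases h with h | h | h | h | h
  · exact Or.inl (n1_of h)
  · exact Or.inr (Or.inl (n2_of h))
  · exact Or.inr (Or.inr (Or.inl (n3_of h)))
  · exact Or.inr (Or.inr (Or.inr (Or.inl (o1_of h))))
  · exact Or.inr (Or.inr (Or.inr (Or.inr (o2_of h))))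

/-! ### transport along `e : V ≃* V'` -/

section tr

variable {W' : Type*} [Group W']

/-- The same action on an isomorphic copy. -/
def tr (e : W ≃* W') (φ : Y →* MulAut W) : Y →* MulAut W' :=
  (MulAut.congr e).toMonoidHom.comp φ

theorem tr_apply (e : W ≃* W') (φ : Y →* MulAut W) (y : Y) (v : W') :
    tr e φ y v = e (φ y (e.symm v)) := rfl

theorem tr_apply' (e : W ≃* W') (φ : Y →* MulAut W) (y : Y) (v : W) :
    tr e φ y (e v) = e (φ y v) := by rw [tr_apply, e.symm_apply_apply]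

theorem tr_injective (e : W ≃* W') (h : Function.Injective φ) : Function.Injective (tr e φ) :=
  (MulAut.congr e).injective.comp h

theorem mem_map_e (e : W ≃* W') (U : Subgroup W) (v : W) :
    e v ∈ U.map e.toMonoidHom ↔ v ∈ U := by
  constructor
  · rintro ⟨u, hu, h⟩
    have : u = v := e.injective h
    rwa [this] at hu
  · exact fun h => ⟨v, h, rfl⟩

theorem natF5_tr (e : W ≃* W') {U : Subgroup W} {f d : Y} (h : NatF5 φ U f d) :
    NatF5 (tr e φ) (U.map e.toMonoidHom) f d where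
  cardU := by rw [← h.cardU]; exact Subgroup.card_map_of_injective e.injective
  ff := h.ff
  ddd := h.ddd
  prod := h.prod
  fpf v := by
    obtain ⟨v, rfl⟩ := e.surjective v
    intro hv
    rw [tr_apply'] at hv
    rw [h.fpf v (e.injective hv), map_one]
  dU v := by
    obtain ⟨v, rfl⟩ := e.surjective v
    rw [mem_map_e, tr_apply', mem_map_e]
    exact h.dU v
  fix v := by
    obtain ⟨v, rfl⟩ := e.surjective v
    rw [mem_map_e, tr_apply', ← h.fix v]
    exact e.injective.eq_iff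
  cm v := by
    obtain ⟨v, rfl⟩ := e.surjective v
    rw [tr_apply', ← map_inv, ← map_mul, mem_map_e]
    exact h.cm v
  sur v := by
    obtain ⟨v, rfl⟩ := e.surjective v
    rw [mem_map_e]
    intro hv
    obtain ⟨w, hw⟩ := h.sur v hv
    exact ⟨e w, by rw [tr_apply', ← map_inv, ← map_mul, hw]⟩

theorem n1_tr (e : W ≃* W') (h : C2SylGlue.N1 φ) : C2SylGlue.N1 (tr e φ) := by
  obtain ⟨U, f, d, h1, h2⟩ := h
  exact ⟨_, f, d, natF5_tr e h1, h2⟩

theorem n2_tr (e : W ≃* W') (h : C2SylGlue.N2 φ) : C2SylGlue.N2 (tr e φ) := by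
  obtain ⟨U, f, d, t, h1, h2, h3, h4, ⟨u, hu, hu'⟩, h6⟩ := h
  refine ⟨_, f, d, t, natF5_tr e h1, h2, h3, h4, ⟨e u, (mem_map_e e U u).mpr hu, ?_⟩, h6⟩
  rw [tr_apply']
  exact fun h => hu' (e.injective h)

theorem n3_tr (e : W ≃* W') (h : C2SylGlue.N3 φ) : C2SylGlue.N3 (tr e φ) := by
  obtain ⟨U, f, d, t, h1, h2, h3, h4, h5, h6⟩ := h
  refine ⟨_, f, d, t, natF5_tr e h1, h2, h3, h4, ?_, h6⟩
  intro v
  obtain ⟨v, rfl⟩ := e.surjective v
  rw [mem_map_e, tr_apply']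
  exact fun hv => congrArg e (h5 v hv)

theorem range_tr (e : W ≃* W') {b : Fin 4 → W} (h : closure (Set.range b) = ⊤) :
    closure (Set.range (fun i => e (b i))) = ⊤ := by
  have h1 : Set.range (fun i => e (b i)) = e.toMonoidHom '' Set.range b := by
    rw [← Set.range_comp]; rfl
  rw [h1, ← MonoidHom.map_closure, h]
  exact Subgroup.map_top_of_surjective _ e.surjective

theorem o1_tr (e : W ≃* W') (h : C2SylGlue.O1 φ) : C2SylGlue.O1 (tr e φ) := by
  obtain ⟨b, x, y, h1, h2, h3, h4⟩ := h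
  refine ⟨fun i => e (b i), x, y, range_tr e h1, ?_, ?_, h4⟩
  · intro i; rw [tr_apply', h2]
  · intro i; rw [tr_apply', h3]

theorem o2_tr (e : W ≃* W') (h : C2SylGlue.O2 φ) : C2SylGlue.O2 (tr e φ) := by
  obtain ⟨b, t, a, d, h1, h2, h3, h4, h5, h6⟩ := h
  refine ⟨fun i => e (b i), t, a, d, range_tr e h1, ?_, ?_, h4, ?_, h6⟩
  · intro i; rw [tr_apply', h2]
  · intro i; rw [tr_apply', h3]
  · intro v
    obtain ⟨v, rfl⟩ := e.surjective v
    rw [tr_apply', tr_apply', ← map_inv, ← map_mul, ← map_mul, e.map_eq_one_iff, e.map_eq_one_iff,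
      e.injective.eq_iff, e.injective.eq_iff, e.injective.eq_iff]
    exact h5 v

end tr

section

variable {X : Type*} [Group X] {V : Subgroup X} {π : X →* Y} {φ : Y →* MulAut V}

theorem main1 [Finite X] (h : Act V π φ) (hV : El V) (h16 : Nat.card V = 16)
    (hD : C2SylGlue.N1 φ) (T : Sylow 2 X) : IsType UT34 T ∧ Nat.card T = 64 ∧ Out1 V T := by
  have hcard : ∀ T' : Sylow 2 X, Nat.card T = Nat.card T' := fun T' =>
    Nat.card_congr (Sylow.equiv T T').toEquiv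
  obtain ⟨U, f, d, H, P, hP4, hP⟩ := hD
  obtain ⟨T', hT'⟩ := h.exists_sylow hV P
  obtain ⟨A, B, C, r, k, h1, h2, h3, h4, h5, h6, -⟩ := n1 h hV h16 (nat5_of H) hP
  have hc : Nat.card T' = 64 := by
    change Nat.card (T' : Subgroup X) = 64
    rw [hT', h.card_comap, h16, hP4]
  have ho : Out1 V (T' : Subgroup X) :=
    ⟨A, B, C, r, k, hT'.trans h1, h2, h3, h4, h5, h6⟩
  have hty : IsType UT34 (T' : Subgroup X) := by
    have h7 := isType_T0 k (by rw [← h1, ← hT']; exact hc)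
    exact h7.congr (MulEquiv.subgroupCongr (hT'.trans h1).symm)
  refine ⟨hty.congr (Sylow.equiv T' T), by rw [hcard T', hc], ?_⟩
  obtain ⟨g, rfl⟩ := MulAction.exists_smul_eq X T' T
  exact ho.conj hV g

theorem main2 [Finite X] (h : Act V π φ) (hV : El V) (h16 : Nat.card V = 16)
    (hD : C2SylGlue.N2 φ) (T : Sylow 2 X) : IsType M22T T ∧ Nat.card T = 128 ∧ Out2 V T := by
  have hcard : ∀ T' : Sylow 2 X, Nat.card T = Nat.card T' := fun T' =>
    Nat.card_congr (Sylow.equiv T T').toEquiv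
  obtain ⟨U, f, d, t, H, htt, htd, htf, htU, P, hP8, hP⟩ := hD
  obtain ⟨T', hT'⟩ := h.exists_sylow hV P
  obtain ⟨A, B, C, s, r, k, l, h1, h2, -, -⟩ := n2 h hV h16 (nat5_of H) htt htd htf htU hP
  have hc : Nat.card T' = 128 := by
    change Nat.card (T' : Subgroup X) = 128
    rw [hT', h.card_comap, h16, hP8]
  have ho : Out2 V (T' : Subgroup X) := ⟨A, B, C, s, r, k, l, hT'.trans h1, h2⟩
  have hty : IsType M22T (T' : Subgroup X) := by
    have h7 := isType_TS k l (by rw [← h1, ← hT']; exact hc)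
    exact h7.congr (MulEquiv.subgroupCongr (hT'.trans h1).symm)
  refine ⟨hty.congr (Sylow.equiv T' T), by rw [hcard T', hc], ?_⟩
  obtain ⟨g, rfl⟩ := MulAction.exists_smul_eq X T' T
  exact ho.conj hV g

theorem main3 [Finite X] (h : Act V π φ) (hV : El V) (h16 : Nat.card V = 16)
    (hD : C2SylGlue.N3 φ)
    (hr : ∀ Z N : Subgroup X, ElemSection 2 Z N → Nat.card Z ≤ 16 * Nat.card N) : False := by
  obtain ⟨U, f, d, t, H, htt, htd, htf, htU, ht⟩ := hD
  exact n3 h hV h16 (nat5_of H) htt htd htf htU ht hr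

theorem main4 [Finite X] (h : Act V π φ) (hφ : Function.Injective φ) (hV : El V)
    (h16 : Nat.card V = 16) (hD : C2SylGlue.O1 φ) (T : Sylow 2 X) :
    IsType W24 T ∧ Nat.card T = 64 := by
  have hcard : ∀ T' : Sylow 2 X, Nat.card T = Nat.card T' := fun T' =>
    Nat.card_congr (Sylow.equiv T T').toEquiv
  obtain ⟨e, a, b, he, ha, hb, P, hP4, hP⟩ := hD
  obtain ⟨T', hT'⟩ := h.exists_sylow hV P
  have hty := o1 h hφ hV h16 he ha hb hP hP4
  rw [← hT'] at hty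
  refine ⟨hty.congr (Sylow.equiv T' T), ?_⟩
  rw [hcard T']
  change Nat.card (T' : Subgroup X) = 64
  rw [hT', h.card_comap, h16, hP4]

theorem main5 [Finite X] (h : Act V π φ) (hφ : Function.Injective φ) (hV : El V)
    (h16 : Nat.card V = 16) (hD : C2SylGlue.O2 φ) (T : Sylow 2 X) :
    IsType W8 T ∧ Nat.card T = 128 := by
  have hcard : ∀ T' : Sylow 2 X, Nat.card T = Nat.card T' := fun T' =>
    Nat.card_congr (Sylow.equiv T T').toEquiv
  obtain ⟨e, t, a, d, he, ht, ha, hdt, hd, P, hP8, hP⟩ := hD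
  obtain ⟨T', hT'⟩ := h.exists_sylow hV P
  have hty := o2 h hφ hV h16 he ht ha hdt hd hP hP8
  rw [← hT'] at hty
  refine ⟨hty.congr (Sylow.equiv T' T), ?_⟩
  rw [hcard T']
  change Nat.card (T' : Subgroup X) = 128
  rw [hT', h.card_comap, h16, hP8]

/-- **The five side**: `T` from `X / V ≤ GL(4,2)` nonsolvable of order divisible by five and
sectional 2-rank at most four. The last component of every alternative is helper871's form (with
all its further data). -/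
theorem five [Finite X] [Finite Y] (h : Act V π φ) (hφ : Function.Injective φ) (hV : El V)
    (h16 : Nat.card V = 16) (hns : ¬ Group.IsSolvable Y) (h5 : 5 ∣ Nat.card Y)
    (hr : ∀ Z N : Subgroup X, ElemSection 2 Z N → Nat.card Z ≤ 16 * Nat.card N) (T : Sylow 2 X) :
    (IsType UT34 T ∧ Nat.card T = 64 ∧ Out1 V T ∧ GL4.N1 φ) ∨
    (IsType M22T T ∧ Nat.card T = 128 ∧ Out2 V T ∧ GL4.N2 φ) ∨
    (IsType W24 T ∧ Nat.card T = 64 ∧ GL4.O1 φ) ∨
    (IsType W8 T ∧ Nat.card T = 128 ∧ GL4.O2 φ) := by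
  have hsq : ∀ v : V, v * v = 1 := fun v => Subtype.ext (hV.sq v v.2)
  rcases GL4.gl4_five hφ h16 hsq hns h5 with k | k | k | k | k
  · obtain ⟨h1, h2, h3⟩ := main1 h hV h16 (n1_of k) T
    exact Or.inl ⟨h1, h2, h3, k⟩
  · obtain ⟨h1, h2, h3⟩ := main2 h hV h16 (n2_of k) T
    exact Or.inr (Or.inl ⟨h1, h2, h3, k⟩)
  · exact (main3 h hV h16 (n3_of k) hr).elim
  · obtain ⟨h1, h2⟩ := main4 h hφ hV h16 (o1_of k) T
    exact Or.inr (Or.inr (Or.inl ⟨h1, h2, k⟩))
  · obtain ⟨h1, h2⟩ := main5 h hφ hV h16 (o2_of k) T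
    exact Or.inr (Or.inr (Or.inr ⟨h1, h2, k⟩))

end

end Cfsg.Agent.GH.C2SylConv
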