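import Cfsg.Agent.GH.C2SylConv
import Cfsg.Agent.GH.C2FiveMax
import Cfsg.Agent.GH.C2Types

/-!
# GH-C2, the five side on `Five M T V`: everything about `T`
-/

set_option autoImplicit false

namespace Cfsg.Agent.GH.C2SylFive

open scoped Pointwise

open Subgroup Cfsg.Agent.GH.Pc Cfsg.Agent.GH.PcTypes Cfsg.Agent.GH.C2Rel Cfsg.Agent.GH.C2Syl
open Cfsg.Agent.GH.C2SylGlue Cfsg.Agent.GH.C2SylConv Cfsg.Agent.GH.C2FiveMax
open Cfsg.Agent.J2Sylow.Model

variable {G : Type*} [Group G]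

section map

variable {X : Type*} [Group X] (ι : X →* G) (hι : Function.Injective ι) {A B C : F4 → X}

include hι in
theorem ut_map (k : UT A B C) :
    UT (fun x => ι (A x)) (fun x => ι (B x)) (fun x => ι (C x)) where
  XX a b := by rw [← map_mul, k.XX]
  YY a b := by rw [← map_mul, k.YY]
  ZZ a b := by rw [← map_mul, k.ZZ]
  XY a b := by rw [← map_mul, k.XY, map_mul, map_mul]
  ZX c a := by rw [← map_mul, k.ZX, map_mul]
  ZY c b := by rw [← map_mul, k.ZY, map_mul]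
  Z1 c hc h1 := k.Z1 c hc (hι (by rw [h1, map_one]))

theorem sr_map {s r : X} (l : SR A B C s r) :
    SR (fun x => ι (A x)) (fun x => ι (B x)) (fun x => ι (C x)) (ι s) (ι r) where
  ss := by rw [← map_mul, l.ss, map_one]
  sX a := by rw [← map_mul, l.sX, map_mul]
  sY a := by rw [← map_mul, l.sY, map_mul]
  sZ a := by rw [← map_mul, l.sZ, map_mul]
  rrr := by rw [← map_mul, ← map_mul, l.rrr, map_one]
  rX a := by rw [← map_mul, l.rX, map_mul]
  rY a := by rw [← map_mul, l.rY, map_mul]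
  rZ a := by rw [← map_mul, l.rZ, map_mul]
  sr := by rw [← map_mul, ← map_mul, l.sr, map_mul]

theorem t0_map (k : UT A B C) (k' : UT (fun x => ι (A x)) (fun x => ι (B x)) (fun x => ι (C x))) :
    (T0 k).map ι = T0 k' := by
  ext g
  rw [mem_T0]
  constructor
  · rintro ⟨_, ⟨a, b, c, rfl⟩, rfl⟩
    exact ⟨a, b, c, by rw [map_mul, map_mul]⟩
  · rintro ⟨a, b, c, rfl⟩
    exact ⟨_, ⟨a, b, c, rfl⟩, by rw [map_mul, map_mul]⟩

theorem ts_map {s r : X} (k : UT A B C) (l : SR A B C s r)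
    (k' : UT (fun x => ι (A x)) (fun x => ι (B x)) (fun x => ι (C x)))
    (l' : SR (fun x => ι (A x)) (fun x => ι (B x)) (fun x => ι (C x)) (ι s) (ι r)) :
    (TS k l).map ι = TS k' l' := by
  ext g
  rw [mem_TS]
  constructor
  · rintro ⟨x, hx, rfl⟩
    obtain ⟨a, b, c, rfl | rfl⟩ := mem_TS.mp hx
    · exact ⟨a, b, c, Or.inl (by rw [map_mul, map_mul])⟩
    · exact ⟨a, b, c, Or.inr (by rw [map_mul, map_mul, map_mul])⟩
  · rintro ⟨a, b, c, rfl | rfl⟩
    · exact ⟨_, mem_TS.mpr ⟨a, b, c, Or.inl rfl⟩, by rw [map_mul, map_mul]⟩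
    · exact ⟨_, mem_TS.mpr ⟨a, b, c, Or.inr rfl⟩, by rw [map_mul, map_mul, map_mul]⟩

theorem mem_map_coord {V : Subgroup X} (h : ∀ g, g ∈ V ↔ ∃ y z, g = B y * C z) (g : G) :
    g ∈ V.map ι ↔ ∃ y z, g = ι (B y) * ι (C z) := by
  constructor
  · rintro ⟨x, hx, rfl⟩
    obtain ⟨y, z, rfl⟩ := (h x).mp hx
    exact ⟨y, z, map_mul _ _ _⟩
  · rintro ⟨y, z, rfl⟩
    exact ⟨_, (h _).mpr ⟨y, z, rfl⟩, map_mul _ _ _⟩

end map

/-- The coordinates of `T` in case (N1), with `d` in `M`. -/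
def OutN1 (M T V : Subgroup G) : Prop :=
  ∃ (A B C : F4 → G) (d : G) (k : UT A B C), d ∈ M ∧ T = T0 k ∧
    (∀ g, g ∈ V ↔ ∃ y z, g = B y * C z) ∧ d * d * d = 1 ∧
    (∀ x, d * A x = A (F4.w * x) * d) ∧ (∀ x, d * B x = B (F4.w * x) * d) ∧
    (∀ x, d * C x = C (F4.u * x) * d)

/-- The coordinates of `T` in case (N2), with `r` in `M`. -/
def OutN2 (M T V : Subgroup G) : Prop :=
  ∃ (A B C : F4 → G) (s r : G) (k : UT A B C) (l : SR A B C s r), r ∈ M ∧ T = TS k l ∧
    (∀ g, g ∈ V ↔ ∃ y z, g = B y * C z)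

section five

variable {M T V : Subgroup G} (h : Five M T V)

/-- `V` as a subgroup of `M`. -/
abbrev eV : V ≃* V.subgroupOf M := (subgroupOfEquivOfLe h.leM).symm

/-- The action on `V` as a subgroup of `M`. -/
abbrev phi : h.Y →* MulAut (V.subgroupOf M) := tr (eV h) h.Y.subtype

include h

theorem el_V : El (V.subgroupOf M) := by
  refine ⟨?_, ?_⟩
  · exact (normal_subgroupOf_iff_le_normalizer h.leM).mpr h.le_norm
  · intro v hv
    exact Subtype.ext (h.sq v (mem_subgroupOf.mp hv))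

theorem act_phi : Act (V.subgroupOf M) h.pr (phi h) where
  surj := h.pr_surj
  ker g := by rw [h.pr_eq_one, mem_subgroupOf]
  act g v := by
    obtain ⟨v, rfl⟩ := (eV h).surjective v
    rw [tr_apply']
    exact Subtype.ext rfl

theorem card_V' : Nat.card (V.subgroupOf M) = 16 := by
  rw [← h.card]; exact Nat.card_congr (eV h).symm.toEquiv

theorem phi_inj : Function.Injective (phi h) := tr_injective _ Subtype.val_injective

theorem exists_T [Finite G] : ∃ T' : Sylow 2 M, (T' : Subgroup M) = T.subgroupOf M := by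
  have h2 : Fact (Nat.Prime 2) := ⟨Nat.prime_two⟩
  have hp : IsPGroup 2 (T.subgroupOf M) := h.ml.pT.comap_of_injective _ M.subtype_injective
  exact ⟨hp.toSylow h.ml.syl, rfl⟩

theorem map_T : (T.subgroupOf M).map M.subtype = T := by
  rw [subgroupOf_map_subtype, inf_eq_left]
  exact h.ml.le

theorem map_V : (V.subgroupOf M).map M.subtype = V := by
  rw [subgroupOf_map_subtype, inf_eq_left]
  exact h.leM

theorem outN1 [Finite G] (ho : Out1 (V.subgroupOf M) (T.subgroupOf M)) : OutN1 M T V := by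
  obtain ⟨A, B, C, r, k, h1, h2, h3, h4, h5, h6⟩ := ho
  refine ⟨_, _, _, M.subtype r, ut_map M.subtype M.subtype_injective k, r.2, ?_, ?_, ?_, ?_, ?_, ?_⟩
  · rw [← t0_map M.subtype k, ← h1, map_T h]
  · intro g
    rw [← mem_map_coord M.subtype h2, map_V h]
  · rw [← map_mul, ← map_mul, h3, map_one]
  · intro x; rw [← map_mul, h4, map_mul]
  · intro x; rw [← map_mul, h5, map_mul]
  · intro x; rw [← map_mul, h6, map_mul]

theorem outN2 [Finite G] (ho : Out2 (V.subgroupOf M) (T.subgroupOf M)) : OutN2 M T V := by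
  obtain ⟨A, B, C, s, r, k, l, h1, h2⟩ := ho
  refine ⟨_, _, _, M.subtype s, M.subtype r, ut_map M.subtype M.subtype_injective k,
    sr_map M.subtype l, r.2, ?_, ?_⟩
  · rw [← ts_map M.subtype k l, ← h1, map_T h]
  · intro g
    rw [← mem_map_coord M.subtype h2, map_V h]

/-- In case (O1), `V` is a free module for `T / V`. -/
theorem free_of_O1 [Finite G] (ho : GL4.O1 h.Y.subtype) :
    ∃ v₀ ∈ V, V ≤ closure {x | ∃ t ∈ T, x = t * v₀ * t⁻¹} := by
  have h2 : Fact (Nat.Prime 2) := ⟨Nat.prime_two⟩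
  obtain ⟨e, a, b, he, ha, hb, -, -, -, -, P, hP, -⟩ := ho
  obtain ⟨T₁, hT₁⟩ := (act_phi h).exists_sylow (el_V h) P
  obtain ⟨T', hT'⟩ := exists_T h
  obtain ⟨g, hg⟩ := MulAction.exists_smul_eq M T₁ T'
  obtain ⟨a', ha'⟩ := h.pr_surj a
  obtain ⟨b', hb'⟩ := h.pr_surj b
  have haP : a ∈ (P : Subgroup h.Y) := by rw [hP]; exact subset_closure (by simp)
  have hbP : b ∈ (P : Subgroup h.Y) := by rw [hP]; exact subset_closure (by simp)
  have hmem : ∀ t : M, h.pr t ∈ (P : Subgroup h.Y) → ((g * t * g⁻¹ : M) : G) ∈ T := by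
    intro t ht
    have h3 : t ∈ (T₁ : Subgroup M) := by rw [hT₁]; exact ht
    have h4 : g * t * g⁻¹ ∈ (T' : Subgroup M) := by
      rw [← hg]
      exact ⟨t, h3, rfl⟩
    rw [hT'] at h4
    exact mem_subgroupOf.mp h4
  have hact : ∀ (t : M) (y : h.Y) (v : V), h.pr t = y →
      ((h.Y.subtype y v : V) : G) = t * v * (t : G)⁻¹ := by
    rintro t _ v rfl
    rfl
  have key : ∀ i, ∃ t : M, h.pr t ∈ (P : Subgroup h.Y) ∧ ((e i : V) : G) = t * (e 0) * (t : G)⁻¹ := by
    intro i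
    have e0 : ((e 0 : V) : G) = (1 : M) * (e 0) * ((1 : M) : G)⁻¹ := by simp
    have e1 : ((e 1 : V) : G) = a' * (e 0) * (a' : G)⁻¹ := by
      rw [← hact a' a (e 0) ha', ha 0]; rfl
    have e2 : ((e 2 : V) : G) = b' * (e 0) * (b' : G)⁻¹ := by
      rw [← hact b' b (e 0) hb', hb 0]; rfl
    have e3 : ((e 3 : V) : G) = (b' * a' : M) * (e 0) * ((b' * a' : M) : G)⁻¹ := by
      have e4 : ((e 3 : V) : G) = b' * (e 1) * (b' : G)⁻¹ := by
        rw [← hact b' b (e 1) hb', hb 1]; rfl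
      rw [e4, e1, coe_mul]; group
    fin_cases i
    · exact ⟨1, by rw [map_one]; exact one_mem _, e0⟩
    · exact ⟨a', by rw [ha']; exact haP, e1⟩
    · exact ⟨b', by rw [hb']; exact hbP, e2⟩
    · exact ⟨b' * a', by rw [map_mul, ha', hb']; exact mul_mem hbP haP, e3⟩
  refine ⟨g * e 0 * (g : G)⁻¹, ?_, ?_⟩
  · have := (mem_normalizer_iff.mp (h.le_norm g.2) (e 0 : G)).mp (e 0).2
    exact this
  · -- conjugate by `g⁻¹`
    have h5 : ∀ v : V, (g : G) * v * (g : G)⁻¹ ∈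
        closure {x | ∃ t ∈ T, x = t * (g * e 0 * (g : G)⁻¹) * t⁻¹} := by
      intro v
      have hv : v ∈ closure (Set.range e) := by rw [he]; exact mem_top v
      induction hv using closure_induction with
      | mem v hv =>
        obtain ⟨i, rfl⟩ := hv
        obtain ⟨t, ht, he⟩ := key i
        apply Subgroup.subset_closure
        refine ⟨_, hmem t ht, ?_⟩
        rw [he]
        simp only [coe_mul, coe_inv]
        group
      | one => simp [one_mem]
      | mul u v _ _ hu hv =>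
        have e6 : (g : G) * ((u * v : V) : G) * (g : G)⁻¹ =
            (g * u * (g : G)⁻¹) * (g * v * (g : G)⁻¹) := by
          rw [coe_mul]; group
        rw [e6]
        exact mul_mem hu hv
      | inv u _ hu =>
        have e6 : (g : G) * ((u⁻¹ : V) : G) * (g : G)⁻¹ = ((g : G) * (u : G) * (g : G)⁻¹)⁻¹ := by
          rw [coe_inv]; group
        rw [e6]
        exact inv_mem hu
    intro v hv
    have h6 : (g : G)⁻¹ * v * g ∈ V := by
      have := (mem_normalizer_iff.mp (inv_mem (h.le_norm g.2)) v).mp hv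
      rwa [inv_inv] at this
    have h7 := h5 ⟨_, h6⟩
    have e8 : (g : G) * (((⟨(g : G)⁻¹ * v * g, h6⟩ : V)) : G) * (g : G)⁻¹ = v := by
      change (g : G) * ((g : G)⁻¹ * v * g) * (g : G)⁻¹ = v
      group
    rwa [e8] at h7

/-- **Everything about `T` on the five side.** -/
theorem out [Finite G] (hr : SectionalPRankLE 2 4 G) :
    (IsType UT34 T ∧ Nat.card T = 64 ∧ OutN1 M T V ∧ GL4.N1 h.Y.subtype) ∨
    (IsType M22T T ∧ Nat.card T = 128 ∧ OutN2 M T V ∧ GL4.N2 h.Y.subtype) ∨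
    (IsType W24 T ∧ Nat.card T = 64 ∧ (∃ v₀ ∈ V, V ≤ closure {x | ∃ t ∈ T, x = t * v₀ * t⁻¹}) ∧
      GL4.O1 h.Y.subtype) ∨
    (IsType W8 T ∧ Nat.card T = 128 ∧ GL4.O2 h.Y.subtype) := by
  have hr4 : C2Five.R4 M := C2Five.r4_subgroup (C2Five.r4_iff.mpr hr) M
  obtain ⟨T', hT'⟩ := exists_T h
  have eT : T' ≃* T := (MulEquiv.subgroupCongr hT').trans (subgroupOfEquivOfLe h.ml.le)
  have cT : Nat.card T' = Nat.card T := Nat.card_congr eT.toEquiv
  have hsq : ∀ v : V, v * v = 1 := fun v => Subtype.ext (h.sq v v.2)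
  rcases GL4.gl4_five (φ := h.Y.subtype) Subtype.val_injective h.card hsq h.not_solvable h.five_dvd
    with k | k | k | k | k
  · obtain ⟨h1, h2, h3⟩ := main1 (act_phi h) (el_V h) (card_V' h) (n1_tr (eV h) (n1_of k)) T'
    rw [hT'] at h3
    exact Or.inl ⟨h1.congr eT, by rw [← cT, h2], outN1 h h3, k⟩
  · obtain ⟨h1, h2, h3⟩ := main2 (act_phi h) (el_V h) (card_V' h) (n2_tr (eV h) (n2_of k)) T'
    rw [hT'] at h3
    exact Or.inr (Or.inl ⟨h1.congr eT, by rw [← cT, h2], outN2 h h3, k⟩)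
  · exact (main3 (act_phi h) (el_V h) (card_V' h) (n3_tr (eV h) (n3_of k)) hr4).elim
  · obtain ⟨h1, h2⟩ := main4 (act_phi h) (phi_inj h) (el_V h) (card_V' h) (o1_tr (eV h) (o1_of k)) T'
    exact Or.inr (Or.inr (Or.inl ⟨h1.congr eT, by rw [← cT, h2], free_of_O1 h k, k⟩))
  · obtain ⟨h1, h2⟩ := main5 (act_phi h) (phi_inj h) (el_V h) (card_V' h) (o2_tr (eV h) (o2_of k)) T'
    exact Or.inr (Or.inr (Or.inr ⟨h1.congr eT, by rw [← cT, h2], k⟩))

end five

end Cfsg.Agent.GH.C2SylFive
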