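import Cfsg.Agent.GH.C2SylLift
import Cfsg.Agent.GH.C2Rel

/-!
# GH-C2: coordinates `UT X Y Z`, `SR X Y Z s r` for the natural module
-/

set_option autoImplicit false

namespace Cfsg.Agent.GH.C2Syl

open Subgroup Cfsg.Agent.GH.Pc Cfsg.Agent.GH.PcTypes Cfsg.Agent.GH.C2Rel
open Cfsg.Agent.J2Sylow.Model

variable {X : Type*} [Group X] {V : Subgroup X}

/-- The function on `F4` with values `1, a, a^d, a^(dd)`. -/
def orb (d a : X) : F4 → X
  | F4.o => 1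
  | F4.e => a
  | F4.w => d * a * d⁻¹
  | F4.u => d * (d * a * d⁻¹) * d⁻¹

/-- The product of the three conjugates is trivial on `V`. -/
theorem orb_prod (hV : El V) {d : X} (hd3 : d * d * d = 1)
    (hd : ∀ v ∈ V, d * v * d⁻¹ = v → v = 1) {v : X} (hv : v ∈ V) :
    v * (d * v * d⁻¹) * (d * (d * v * d⁻¹) * d⁻¹) = 1 := by
  have h1 := hV.conj d hv
  have h2 := hV.conj d h1
  apply hd _ (V.mul_mem (V.mul_mem hv h1) h2)
  have h3 : d * (v * (d * v * d⁻¹) * (d * (d * v * d⁻¹) * d⁻¹)) * d⁻¹ =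
      (d * v * d⁻¹) * (d * (d * v * d⁻¹) * d⁻¹) * ((d * d * d) * v * (d * d * d)⁻¹) := by group
  rw [h3, hd3, one_mul, inv_one, mul_one, hV.comm (V.mul_mem h1 h2) hv]
  exact (mul_assoc _ _ _).symm

/-- Additivity of the orbit function. -/
theorem orb_add {d a : X} (haa : a * a = 1) (hab : a * (d * a * d⁻¹) = (d * a * d⁻¹) * a)
    (hk : d * (d * a * d⁻¹) * d⁻¹ = a * (d * a * d⁻¹)) (x y : F4) :
    orb d a x * orb d a y = orb d a (x + y) := by
  have hbb : (d * a * d⁻¹) * (d * a * d⁻¹) = 1 := by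
    have h1 : (d * a * d⁻¹) * (d * a * d⁻¹) = d * (a * a) * d⁻¹ := by group
    rw [h1, haa]; group
  have o1 : orb d a F4.o = 1 := rfl
  have o2 : orb d a F4.e = a := rfl
  have o3 : orb d a F4.w = d * a * d⁻¹ := rfl
  have o4 : orb d a F4.u = a * (d * a * d⁻¹) := hk
  have p1 : (F4.e + F4.e : F4) = F4.o := rfl
  have p2 : (F4.e + F4.w : F4) = F4.u := rfl
  have p3 : (F4.e + F4.u : F4) = F4.w := rfl
  have p4 : (F4.w + F4.e : F4) = F4.u := rfl
  have p5 : (F4.w + F4.w : F4) = F4.o := rfl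
  have p6 : (F4.w + F4.u : F4) = F4.e := rfl
  have p7 : (F4.u + F4.e : F4) = F4.w := rfl
  have p8 : (F4.u + F4.w : F4) = F4.e := rfl
  have p9 : (F4.u + F4.u : F4) = F4.o := rfl
  have q1 : ∀ x : F4, F4.o + x = x := fun x => zero_add x
  have q2 : ∀ x : F4, x + F4.o = x := fun x => add_zero x
  generalize d * a * d⁻¹ = b at hab hbb o3 o4
  cases x <;> cases y <;>
    simp only [q1, q2, p1, p2, p3, p4, p5, p6, p7, p8, p9, o1, o2, o3, o4, one_mul, mul_one, haa, hbb]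
  · rw [← mul_assoc, haa, one_mul]
  · exact hab.symm
  · rw [hab, ← mul_assoc, hbb, one_mul]
  · rw [hab, mul_assoc, haa, mul_one]
  · rw [mul_assoc, hbb, mul_one]
  · rw [hab, mul_assoc, ← mul_assoc a b a, hab, mul_assoc, haa, mul_one, hbb]

/-- The orbit function under `d`. -/
theorem orb_d {d a : X} (hd3 : d * d * d = 1) (x : F4) :
    d * orb d a x = orb d a (F4.w * x) * d := by
  cases x
  · change d * 1 = 1 * d
    group
  · change d * a = d * a * d⁻¹ * d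
    group
  · change d * (d * a * d⁻¹) = d * (d * a * d⁻¹) * d⁻¹ * d
    group
  · change d * (d * (d * a * d⁻¹) * d⁻¹) = a * d
    have h1 : d * (d * (d * a * d⁻¹) * d⁻¹) = (d * d * d) * a * (d * d * d)⁻¹ * d := by group
    rw [h1, hd3]; group

/-- The orbit function under an involution inverting `d`. -/
theorem orb_s {d a s : X} (hd3 : d * d * d = 1) (hss : s * s = 1) (hsd : s * d * s⁻¹ = d⁻¹)
    (hsa : s * a = a * s) (x : F4) : s * orb d a x = orb d a (F4.fr x) * s := by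
  have hs : s⁻¹ = s := inv_eq_of_mul_eq_one_left hss
  have h1 : d⁻¹ = d * d := (eq_inv_of_mul_eq_one_left hd3).symm
  have hsa' : s * a * s⁻¹ = a := by rw [hsa]; group
  cases x
  · change s * 1 = 1 * s
    group
  · exact hsa
  · change s * (d * a * d⁻¹) = d * (d * a * d⁻¹) * d⁻¹ * s
    have h2 : s * (d * a * d⁻¹) = (s * d * s⁻¹) * (s * a * s⁻¹) * (s * d * s⁻¹)⁻¹ * s := by group
    have h3 : d⁻¹ * a * d⁻¹⁻¹ = (d * d) * a * (d * d)⁻¹ := by rw [← h1]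
    rw [h2, hsd, hsa', h3]; group
  · change s * (d * (d * a * d⁻¹) * d⁻¹) = d * a * d⁻¹ * s
    have h2 : s * (d * (d * a * d⁻¹) * d⁻¹) =
        (s * d * s⁻¹) * (s * d * s⁻¹) * (s * a * s⁻¹) * (s * d * s⁻¹)⁻¹ * (s * d * s⁻¹)⁻¹ * s := by
      group
    rw [h2, hsd, hsa', inv_inv]
    have h3 : d⁻¹ * d⁻¹ * a * d * d = (d * d)⁻¹ * a * (d * d) := by group
    rw [h3, ← h1, inv_inv]

/-- The commutator relations from the action of an element of order three. -/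
theorem orb_cm (hV : El V) {U : Subgroup X} (hUV : U ≤ V) {d a v : X} (hd3 : d * d * d = 1)
    (hd : ∀ v ∈ V, d * v * d⁻¹ = v → v = 1) (hdU : ∀ u ∈ U, d * u * d⁻¹ ∈ U)
    (hk : d * (d * a * d⁻¹) * d⁻¹ = a * (d * a * d⁻¹))
    (hUa : ∀ u ∈ U, a * u * a⁻¹ = u) (hca : ∀ v ∈ V, a * v * a⁻¹ * v⁻¹ ∈ U) (hv : v ∈ V)
    (x y : F4) : orb d a x * orb d v y * (orb d a x)⁻¹ * (orb d v y)⁻¹ =
      orb (d * d) (a * v * a⁻¹ * v⁻¹) (x * y) := by
  set z := a * v * a⁻¹ * v⁻¹ with hz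
  have hzU : z ∈ U := hca v hv
  have hzV := hUV hzU
  have d1 : ∀ {g w : X}, d * (g * w * g⁻¹ * w⁻¹) * d⁻¹ =
      (d * g * d⁻¹) * (d * w * d⁻¹) * (d * g * d⁻¹)⁻¹ * (d * w * d⁻¹)⁻¹ := by
    intro g w; group
  have e3 : ∀ g : X, d * (d * (d * g * d⁻¹) * d⁻¹) * d⁻¹ = g := by
    intro g
    have h1 : d * (d * (d * g * d⁻¹) * d⁻¹) * d⁻¹ = (d * d * d) * g * (d * d * d)⁻¹ := by group
    rw [h1, hd3]; group
  -- the three elements `Y`
  set v₁ := d * v * d⁻¹ with hv₁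
  set v₂ := d * v₁ * d⁻¹ with hv₂
  have m1 : v₁ ∈ V := hV.conj d hv
  have m2 : v₂ ∈ V := hV.conj d m1
  have hv3 : v * v₁ * v₂ = 1 := orb_prod hV hd3 hd hv
  set b := d * a * d⁻¹ with hb
  set c := d * b * d⁻¹ with hc
  have hdv₂ : d * v₂ * d⁻¹ = v := e3 v
  have hdc : d * c * d⁻¹ = a := e3 a
  -- powers of `d` on `U`
  set z₁ := d * z * d⁻¹ with hz₁
  set z₂ := d * z₁ * d⁻¹ with hz₂
  have n1 : z₁ ∈ U := hdU z hzU
  have n2 : z₂ ∈ U := hdU z₁ n1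
  have hdz₂ : d * z₂ * d⁻¹ = z := e3 z
  have hz3 : z * z₁ * z₂ = 1 := orb_prod hV hd3 hd hzV
  have cmU : ∀ {g : X}, (∀ w ∈ V, g * w * g⁻¹ * w⁻¹ ∈ U) → ∀ w ∈ V,
      (d * g * d⁻¹) * w * (d * g * d⁻¹)⁻¹ * w⁻¹ ∈ U := by
    intro g hg w hw
    have h1 := hdU _ (hg _ (hV.conj d⁻¹ hw))
    have h2 : d * (g * (d⁻¹ * w * d⁻¹⁻¹) * g⁻¹ * (d⁻¹ * w * d⁻¹⁻¹)⁻¹) * d⁻¹ =
        (d * g * d⁻¹) * w * (d * g * d⁻¹)⁻¹ * w⁻¹ := by group
    rwa [h2] at h1
  have hcb := cmU hca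
  have hcc := cmU hcb
  rw [← hb] at hcb
  rw [← hb, ← hc] at hcc
  -- `p = [a, v₁]`, `q = [b, v]`
  set p := a * v₁ * a⁻¹ * v₁⁻¹ with hp
  set q := b * v * b⁻¹ * v⁻¹ with hq
  have hpU : p ∈ U := hca _ m1
  have hqU : q ∈ U := hcb _ hv
  have sqV : ∀ {g : X}, g ∈ U → g * g = 1 := fun h => hV.sq _ (hUV h)
  have cmm : ∀ {g h : X}, g ∈ U → h ∈ U → g * h = h * g := fun h1 h2 => hV.comm (hUV h1) (hUV h2)
  -- additivity in the second variable
  have s1 : z * p * (a * v₂ * a⁻¹ * v₂⁻¹) = 1 := by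
    rw [hz, hp, ← cm_mul hV hv m1, ← cm_mul hV (V.mul_mem hv m1) m2, hv3]
    group
  -- additivity in the first variable
  have hcq : c * v * c⁻¹ * v⁻¹ = q * z := by
    rw [hk, cm_prod hUa hqU]
  -- conjugates
  have t1 : d * p * d⁻¹ = b * v₂ * b⁻¹ * v₂⁻¹ := by rw [hp, d1, ← hv₂, ← hb]
  have t2 : d * (b * v₂ * b⁻¹ * v₂⁻¹) * d⁻¹ = c * v * c⁻¹ * v⁻¹ := by rw [d1, ← hc, hdv₂]
  have t3 : d * q * d⁻¹ = c * v₁ * c⁻¹ * v₁⁻¹ := by rw [hq, d1, ← hv₁, ← hc]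
  have t4 : d * (c * v₁ * c⁻¹ * v₁⁻¹) * d⁻¹ = a * v₂ * a⁻¹ * v₂⁻¹ := by rw [d1, hdc, ← hv₂]
  have t5 : z₁ = b * v₁ * b⁻¹ * v₁⁻¹ := by rw [hz₁, hz, d1, ← hb, ← hv₁]
  have t6 : z₂ = c * v₂ * c⁻¹ * v₂⁻¹ := by rw [hz₂, t5, d1, ← hc, ← hv₂]
  -- the equations `q z = p^(dd)`, `z p q^(dd) = 1`
  have f1 : d * (d * p * d⁻¹) * d⁻¹ = q * z := by rw [t1, t2, hcq]
  have f2 : z * p * (d * (d * q * d⁻¹) * d⁻¹) = 1 := by rw [t3, t4, s1]
  have np := hdU p hpU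
  have nq := hdU q hqU
  have npp := hdU _ np
  have nqq := hdU _ nq
  have hpq : p = q := by
    -- `(p q)` satisfies `(p q)^(dd) = p q`
    have h1 : d * (d * (p * q) * d⁻¹) * d⁻¹ = p * q := by
      have h2 : d * (d * (p * q) * d⁻¹) * d⁻¹ =
          (d * (d * p * d⁻¹) * d⁻¹) * (d * (d * q * d⁻¹) * d⁻¹) := by group
      have h3 : d * (d * q * d⁻¹) * d⁻¹ = z * p := by
        have h4 := inv_eq_of_mul_eq_one_right f2
        rw [← h4, hV.inv (hUV (U.mul_mem hzU hpU))]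
      rw [h2, f1, h3]
      calc q * z * (z * p) = q * (z * z) * p := by group
        _ = p * q := by rw [sqV hzU, mul_one, cmm hqU hpU]
    have h5 : d * (p * q) * d⁻¹ = p * q := by
      have h6 : d * (d * (d * (p * q) * d⁻¹) * d⁻¹) * d⁻¹ = d * (p * q) * d⁻¹ := by rw [h1]
      rw [e3] at h6
      exact h6.symm
    have h7 := hd _ (hUV (U.mul_mem hpU hqU)) h5
    have h8 := inv_eq_of_mul_eq_one_left h7
    rw [hV.inv (hUV hqU)] at h8
    exact h8.symm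
  -- `p = z₂`
  have hpz : p = z₂ := by
    have h1 : d * (d * p * d⁻¹) * d⁻¹ = p * z := by rw [f1, hpq]
    have h2 : p * (d * p * d⁻¹) * (d * (d * p * d⁻¹) * d⁻¹) = 1 :=
      orb_prod hV hd3 hd (hUV hpU)
    rw [h1] at h2
    have h3 : d * p * d⁻¹ = z := by
      have h4 : p * (d * p * d⁻¹) * (p * z) = (d * p * d⁻¹) * z := by
        calc p * (d * p * d⁻¹) * (p * z) = (p * (d * p * d⁻¹)) * p * z := by group
          _ = (d * p * d⁻¹) * (p * p) * z := by rw [cmm hpU np]; group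
          _ = (d * p * d⁻¹) * z := by rw [sqV hpU, mul_one]
      rw [h4] at h2
      have h5 := inv_eq_of_mul_eq_one_left h2
      rw [← h5, hV.inv hzV]
    have h6 := e3 p
    rw [h3, ← hz₁, ← hz₂] at h6
    exact h6.symm
  have hqz : q = z₂ := by rw [← hpq, hpz]
  -- the values of `orb (d * d) z`
  have o1 : orb (d * d) z F4.o = 1 := rfl
  have o2 : orb (d * d) z F4.e = z := rfl
  have o3 : orb (d * d) z F4.w = z₂ := by
    change (d * d) * z * (d * d)⁻¹ = z₂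
    rw [hz₂, hz₁]; group
  have o4 : orb (d * d) z F4.u = z₁ := by
    change (d * d) * ((d * d) * z * (d * d)⁻¹) * (d * d)⁻¹ = z₁
    have h1 : (d * d) * ((d * d) * z * (d * d)⁻¹) * (d * d)⁻¹ =
        d * (d * (d * (d * z * d⁻¹) * d⁻¹) * d⁻¹) * d⁻¹ := by group
    rw [h1, e3]
  have g1 : ∀ g : X, (1 : X) * g * 1⁻¹ * g⁻¹ = 1 := by intro g; group
  have g2 : ∀ g : X, g * 1 * g⁻¹ * 1⁻¹ = 1 := by intro g; group
  have w1 : ∀ x : F4, F4.o * x = F4.o := by decide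
  have w2 : ∀ x : F4, x * F4.o = F4.o := by decide
  have A0 : orb d a F4.o = 1 := rfl
  have A1 : orb d a F4.e = a := rfl
  have A2 : orb d a F4.w = b := rfl
  have A3 : orb d a F4.u = c := rfl
  have B0 : orb d v F4.o = 1 := rfl
  have B1 : orb d v F4.e = v := rfl
  have B2 : orb d v F4.w = v₁ := rfl
  have B3 : orb d v F4.u = v₂ := rfl
  cases x <;> cases y
  · rw [A0, g1, w1, o1]
  · rw [A0, g1, w1, o1]
  · rw [A0, g1, w1, o1]
  · rw [A0, g1, w1, o1]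
  · rw [B0, g2, w2, o1]
  · rw [A1, B1]; rfl
  · rw [A1, B2, ← hp, hpz]; exact o3.symm
  · rw [A1, B3]
    have h1 : a * v₂ * a⁻¹ * v₂⁻¹ = z₁ := by
      rw [← t4, ← t3, hqz, hdz₂]
    rw [h1]; exact o4.symm
  · rw [B0, g2, w2, o1]
  · rw [A2, B1, ← hq, hqz]; exact o3.symm
  · rw [A2, B2, ← t5]; exact o4.symm
  · rw [A2, B3, ← t1, hpz, hdz₂]; exact o2.symm
  · rw [B0, g2, w2, o1]
  · rw [A3, B1, ← t2, ← t1, hpz, hdz₂]; exact o4.symm
  · rw [A3, B2, ← t3, hqz, hdz₂]; exact o2.symm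
  · rw [A3, B3, ← t6]; exact o3.symm

/-- The coordinates of `UT₃(4)` with the element `d` of order three. -/
theorem exists_UT (hV : El V) {U : Subgroup X} {a d v : X} (h : NatF V U a (d * a * d⁻¹))
    (haa : a * a = 1) (hab : a * (d * a * d⁻¹) = (d * a * d⁻¹) * a)
    (hk : d * (d * a * d⁻¹) * d⁻¹ = a * (d * a * d⁻¹)) (hd3 : d * d * d = 1)
    (hd : ∀ v ∈ V, d * v * d⁻¹ = v → v = 1) (hdU : ∀ u ∈ U, d * u * d⁻¹ ∈ U)
    (hv : v ∈ V) (hvU : v ∉ U) :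
    UT (orb d a) (orb d v) (orb (d * d) (a * v * a⁻¹ * v⁻¹)) ∧
    (∀ x, d * orb d a x = orb d a (F4.w * x) * d) ∧
    (∀ x, d * orb d v x = orb d v (F4.w * x) * d) ∧
    (∀ x, d * orb (d * d) (a * v * a⁻¹ * v⁻¹) x =
      orb (d * d) (a * v * a⁻¹ * v⁻¹) (F4.u * x) * d) ∧
    (∀ g, g ∈ V ↔ ∃ y z, g = orb d v y * orb (d * d) (a * v * a⁻¹ * v⁻¹) z) ∧
    ∀ g, g ∈ U ↔ ∃ z, g = orb (d * d) (a * v * a⁻¹ * v⁻¹) z := by
  have hUa : ∀ u ∈ U, a * u * a⁻¹ = u := fun u hu => (h.fa u (h.le hu)).mpr hu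
  have hUb : ∀ u ∈ U, (d * a * d⁻¹) * u * (d * a * d⁻¹)⁻¹ = u := fun u hu =>
    (h.fb u (h.le hu)).mpr hu
  have hz : a * v * a⁻¹ * v⁻¹ ∈ U := h.ca v hv
  have hz1 : a * v * a⁻¹ * v⁻¹ ≠ 1 := by
    intro h1
    rw [mul_inv_eq_one] at h1
    exact hvU ((h.fa v hv).mp h1)
  have hcm := orb_cm hV h.le hd3 hd hdU hk hUa h.ca hv
  set z := a * v * a⁻¹ * v⁻¹ with hzd
  have hd3' : (d * d) * (d * d) * (d * d) = 1 := by
    have h1 : (d * d) * (d * d) * (d * d) = (d * d * d) * (d * d * d) := by group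
    rw [h1, hd3, one_mul]
  have hd' : ∀ v ∈ V, (d * d) * v * (d * d)⁻¹ = v → v = 1 := by
    intro w hw h1
    apply hd w hw
    have h2 : d * w * d⁻¹ = d * ((d * d) * w * (d * d)⁻¹) * d⁻¹ := by rw [h1]
    have h3 : d * ((d * d) * w * (d * d)⁻¹) * d⁻¹ = (d * d * d) * w * (d * d * d)⁻¹ := by group
    rw [h2, h3, hd3]; group
  -- members
  have memV : ∀ y, orb d v y ∈ V := by
    intro y
    cases y
    · exact V.one_mem
    · exact hv
    · exact hV.conj d hv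
    · exact hV.conj d (hV.conj d hv)
  have memU : ∀ x, orb (d * d) z x ∈ U := by
    have h2 : ∀ u ∈ U, (d * d) * u * (d * d)⁻¹ ∈ U := by
      intro u hu
      have h3 : (d * d) * u * (d * d)⁻¹ = d * (d * u * d⁻¹) * d⁻¹ := by group
      rw [h3]
      exact hdU _ (hdU _ hu)
    intro x
    cases x
    · exact U.one_mem
    · exact hz
    · exact h2 _ hz
    · exact h2 _ (h2 _ hz)
  -- the values on `V` are additive
  have kV : ∀ {g w : X}, g * g * g = 1 → (∀ v ∈ V, g * v * g⁻¹ = v → v = 1) → w ∈ V →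
      g * (g * w * g⁻¹) * g⁻¹ = w * (g * w * g⁻¹) := by
    intro g w hg3 hg hw
    have h1 := orb_prod hV hg3 hg hw
    have h2 := inv_eq_of_mul_eq_one_right h1
    rw [← h2]
    exact hV.inv (V.mul_mem hw (hV.conj g hw))
  have YY : ∀ x y, orb d v x * orb d v y = orb d v (x + y) :=
    orb_add (hV.sq v hv) (hV.comm hv (hV.conj d hv)) (kV hd3 hd hv)
  have hzV := h.le hz
  have ZZ : ∀ x y, orb (d * d) z x * orb (d * d) z y = orb (d * d) z (x + y) :=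
    orb_add (hV.sq z hzV) (hV.comm hzV (hV.conj _ hzV)) (kV hd3' hd' hzV)
  have XX : ∀ x y, orb d a x * orb d a y = orb d a (x + y) := orb_add haa hab hk
  have ZX : ∀ c x, orb (d * d) z c * orb d a x = orb d a x * orb (d * d) z c := by
    intro c x
    have h1 : ∀ u ∈ U, orb d a x * u = u * orb d a x := by
      intro u hu
      have e1 : a * u = u * a := by have := hUa u hu; rwa [mul_inv_eq_iff_eq_mul] at this
      have e2 : (d * a * d⁻¹) * u = u * (d * a * d⁻¹) := by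
        have := hUb u hu
        rwa [mul_inv_eq_iff_eq_mul] at this
      cases x
      · change 1 * u = u * 1
        group
      · exact e1
      · exact e2
      · change d * (d * a * d⁻¹) * d⁻¹ * u = u * (d * (d * a * d⁻¹) * d⁻¹)
        rw [hk, mul_assoc, e2, ← mul_assoc, e1, mul_assoc]
    exact (h1 _ (memU c)).symm
  have h12 : a * (d * v * d⁻¹) * a⁻¹ * (d * v * d⁻¹)⁻¹ =
      (d * a * d⁻¹) * v * (d * a * d⁻¹)⁻¹ * v⁻¹ := by
    have h1 := hcm F4.e F4.w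
    have h2 := hcm F4.w F4.e
    exact h1.trans h2.symm
  obtain ⟨-, r2, r3⟩ := h.rel hV hv hvU (hV.conj d hv) h12
  have cU : ∀ u ∈ U, ∃ c, u = orb (d * d) z c := by
    intro u hu
    have e1 : (d * a * d⁻¹) * v * (d * a * d⁻¹)⁻¹ * v⁻¹ = orb (d * d) z F4.w := hcm F4.w F4.e
    rcases r2 u hu with e | e | e | e
    · exact ⟨F4.o, e⟩
    · exact ⟨F4.e, e⟩
    · exact ⟨F4.w, e.trans e1⟩
    · exact ⟨F4.u, by
        rw [e, e1]
        exact ZZ F4.e F4.w⟩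
  refine ⟨⟨XX, YY, ZZ, ?_, ZX, ?_, ?_⟩, orb_d hd3, orb_d hd3, ?_, ?_, ?_⟩
  · intro x y
    have h1 := hcm x y
    have h2 : orb d a x * orb d v y =
        (orb d a x * orb d v y * (orb d a x)⁻¹ * (orb d v y)⁻¹) * orb d v y * orb d a x := by group
    rw [h2, h1, hV.comm (h.le (memU _)) (memV y), mul_assoc, ZX]
  · intro c b
    exact hV.comm (h.le (memU _)) (memV b)
  · intro c hc h1
    have e3 : ∀ g : X, (d * d) * g * (d * d)⁻¹ = 1 → g = 1 := by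
      intro g hg
      have h2 := mul_inv_eq_one.mp hg
      exact mul_eq_left.mp h2
    cases c
    · exact hc rfl
    · exact hz1 h1
    · exact hz1 (e3 _ h1)
    · exact hz1 (e3 _ (e3 _ h1))
  · intro x
    have h1 := orb_d (a := z) hd3' (F4.w * x)
    have h2 : (d * d) * (d * d) = d := by
      have h3 : (d * d) * (d * d) = (d * d * d) * d := by group
      rw [h3, hd3, one_mul]
    have h3 : d * orb (d * d) z x = (d * d) * ((d * d) * orb (d * d) z x) := by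
      rw [← mul_assoc (d * d) (d * d), h2]
    rw [h3, orb_d hd3', ← mul_assoc, h1, mul_assoc, h2]
    congr 2
    cases x <;> rfl
  · intro g
    constructor
    · intro hg
      rcases r3 g hg with e | e | e | e
      · obtain ⟨c, hc⟩ := cU _ e
        exact ⟨F4.o, c, by rw [hc]; exact (one_mul _).symm⟩
      · obtain ⟨c, hc⟩ := cU _ e
        exact ⟨F4.e, c, by rw [← hc]; change g = v * (v⁻¹ * g); group⟩
      · obtain ⟨c, hc⟩ := cU _ e
        exact ⟨F4.w, c, by rw [← hc]; change g = (d * v * d⁻¹) * ((d * v * d⁻¹)⁻¹ * g); group⟩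
      · obtain ⟨c, hc⟩ := cU _ e
        refine ⟨F4.u, c, ?_⟩
        have h1 : orb d v F4.u = v * (d * v * d⁻¹) := (YY F4.e F4.w).symm
        rw [h1, ← hc, mul_inv_cancel_left]
    · rintro ⟨y, c, rfl⟩
      exact V.mul_mem (memV y) (h.le (memU c))
  · intro g
    constructor
    · exact cU g
    · rintro ⟨c, rfl⟩
      exact memU c

/-- Elements of `T`. -/
theorem mem_T_iff {A B C : F4 → X} (hUT : UT A B C) (hmV : ∀ g, g ∈ V ↔ ∃ y z, g = B y * C z)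
    {T : Subgroup X} (hVT : V ≤ T) (hAT : ∀ x, A x ∈ T)
    (hcov : ∀ g ∈ T, ∃ x, (A x)⁻¹ * g ∈ V) (g : X) :
    g ∈ T ↔ ∃ a b c, g = B b * A a * C c := by
  have hA : ∀ x, (A x)⁻¹ = A x := fun x => by
    have h1 : A x * A x = 1 := by
      rw [hUT.XX, F4.add_self]
      have h2 := hUT.XX 0 0
      rw [add_zero] at h2
      exact mul_eq_left.mp h2
    exact inv_eq_of_mul_eq_one_left h1
  constructor
  · intro hg
    obtain ⟨x, hx⟩ := hcov g hg
    obtain ⟨b, c, hbc⟩ := (hmV _).mp hx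
    refine ⟨x, b, x * b + c, ?_⟩
    have h1 : g = A x * (B b * C c) := by rw [← hbc]; group
    rw [h1, ← mul_assoc, hUT.XY, mul_assoc, mul_assoc, hUT.ZZ, ← mul_assoc]
  · rintro ⟨a, b, c, rfl⟩
    have hB : B b ∈ V := (hmV _).mpr ⟨b, 0, by
      have h2 := hUT.ZZ 0 0
      rw [add_zero] at h2
      rw [mul_eq_left.mp h2, mul_one]⟩
    have hC : C c ∈ V := (hmV _).mpr ⟨0, c, by
      have h2 := hUT.YY 0 0
      rw [add_zero] at h2
      rw [mul_eq_left.mp h2, one_mul]⟩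
    exact T.mul_mem (T.mul_mem (hVT hB) (hAT a)) (hVT hC)

end Cfsg.Agent.GH.C2Syl
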