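import Cfsg.Agent.GH.Defs
import Cfsg.Agent.GH.Rank
import Cfsg.Agent.SignalizersComponents.PCompQuot

/-!
# GH-0: 2-components, their tops, and the sectional rank
-/

set_option autoImplicit false

open Cfsg Subgroup
open scoped commutatorElement
open Cfsg.Agent.Intrinsic.Basic Cfsg.Agent.GH.Defs Cfsg.Agent.GH.Rank

namespace Cfsg.Agent.GH.Comp

variable {G : Type*} [Group G] [Finite G]

/-- `K / O(K)` is quasisimple. -/
theorem quasisimple {H K : Subgroup G} (h : IsComp H K) : IsQuasisimple (Bar K) :=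
  (isComp_iff.mp h).2.2.1

theorem top_simple {H K : Subgroup G} (h : IsComp H K) : IsSimpleGroup (STop K) :=
  (quasisimple h).2

omit [Finite G] in
/-- A perfect commutative group is trivial. -/
theorem subsingleton_of_perfect_comm {X : Type*} [Group X] (h : Group.IsPerfect X)
    (hc : IsMulCommutative X) : Subsingleton X := by
  have h1 : commutator X = ⊤ := h.commutator_eq_top
  have h2 : commutator X = ⊥ := by
    rw [commutator_def, Subgroup.commutator_eq_bot_iff_le_centralizer]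
    intro a _
    rw [mem_centralizer_iff]
    intro b _
    exact hc.is_comm.comm b a
  rw [h1] at h2
  exact Subgroup.subsingleton_iff.mp (subsingleton_of_bot_eq_top h2.symm)

theorem top_nonComm {H K : Subgroup G} (h : IsComp H K) : ¬ IsMulCommutative (STop K) := by
  intro hc
  have h1 := quasisimple h
  have h2 : Group.IsPerfect (Bar K) := h1.1
  have h3 : Group.IsPerfect (STop K) :=
    Group.IsPerfect.ofSurjective (f := QuotientGroup.mk' (center (Bar K)))
      (QuotientGroup.mk'_surjective _)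
  have h4 := subsingleton_of_perfect_comm h3 hc
  have h5 := top_simple h
  exact not_subsingleton _ h4

/-- The natural map `K → STop K`. -/
def topMap (K : Subgroup G) : K →* STop K :=
  (QuotientGroup.mk' (center (Bar K))).comp (QuotientGroup.mk' (oddCore ↥K))

omit [Finite G] in
theorem topMap_surjective (K : Subgroup G) : Function.Surjective (topMap K) :=
  (QuotientGroup.mk'_surjective _).comp (QuotientGroup.mk'_surjective _)

omit [Finite G] in
/-- `k ∈ ker (K → STop K)` iff `k` fixes `K`. -/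
theorem mem_ker_topMap {K : Subgroup G} {k : K} :
    k ∈ (topMap K).ker ↔ ∀ y ∈ K, ⁅(k : G), y⁆ ∈ core K := by
  have h1 : k ∈ (topMap K).ker ↔ (QuotientGroup.mk' (oddCore ↥K)) k ∈ center (Bar K) := by
    rw [MonoidHom.mem_ker]
    exact QuotientGroup.eq_one_iff _
  rw [h1, mem_center_iff]
  constructor
  · intro h y hy
    have h2 := h (QuotientGroup.mk' (oddCore ↥K) ⟨y, hy⟩)
    rw [← map_mul, ← map_mul] at h2
    have h3 : (k * ⟨y, hy⟩ * k⁻¹ * (⟨y, hy⟩ : K)⁻¹ : K) ∈ oddCore ↥K := by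
      rw [← QuotientGroup.eq_one_iff]
      change QuotientGroup.mk' (oddCore ↥K) _ = 1
      rw [map_mul, map_mul, map_inv, ← h2, map_mul, map_inv]
      group
    exact ⟨_, h3, rfl⟩
  · intro h g
    obtain ⟨⟨y, hy⟩, rfl⟩ := QuotientGroup.mk'_surjective _ g
    obtain ⟨z, hz, hz'⟩ := h y hy
    have h3 : (k * ⟨y, hy⟩ * k⁻¹ * (⟨y, hy⟩ : K)⁻¹ : K) = z := Subtype.ext hz'.symm
    have h4 : QuotientGroup.mk' (oddCore ↥K) (k * ⟨y, hy⟩ * k⁻¹ * (⟨y, hy⟩ : K)⁻¹ : K) = 1 := by
      rw [h3]
      exact (QuotientGroup.eq_one_iff _).mpr hz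
    rw [map_mul, map_mul, map_mul, map_inv, map_inv, mul_inv_eq_one, mul_inv_eq_iff_eq_mul] at h4
    exact h4.symm

/-- A group `D` of elements fixing `K`: `r(STop K) + r(D / Z) ≤ r(H)`, `Z` a normal subgroup of `D`
containing the elements of `D ∩ K O(H)`. -/
theorem srank_top_add_le {H K D : Subgroup G} (hK : IsComp H K) (hD : D ≤ H)
    (hfix : ∀ d ∈ D, Fixes d K) (Z : Subgroup D) [Z.Normal]
    (hZ : ∀ d : D, (∃ k ∈ K, k⁻¹ * (d : G) ∈ core H) → d ∈ Z) :
    srank 2 (STop K) + srank 2 (D ⧸ Z) ≤ srank 2 H := by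
  have hp : (2 : ℕ).Prime := Nat.prime_two
  rw [← srank_prod hp]
  let π : H →* H ⧸ oddCore ↥H := QuotientGroup.mk' (oddCore ↥H)
  have hπ : ∀ (a : G) (ha : a ∈ H), π ⟨a, ha⟩ = 1 ↔ a ∈ core H := by
    intro a ha
    rw [mem_core_iff ha]
    exact QuotientGroup.eq_one_iff _
  let fK : K →* H ⧸ oddCore ↥H := π.comp (inclusion hK.le)
  let fD : D →* H ⧸ oddCore ↥H := π.comp (inclusion hD)
  have hcomm : ∀ (k : K) (d : D), Commute (fK k) (fD d) := by
    intro k d
    have h1 : ⁅(d : G), (k : G)⁆ ∈ core H := hK.core_le_core ((hfix d d.2).2 k k.2)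
    have h2 : ⁅(⟨d, hD d.2⟩ : H), (⟨k, hK.le k.2⟩ : H)⁆ ∈ oddCore ↥H := by
      rw [← mem_core_iff (x := ((⁅(⟨d, hD d.2⟩ : H), (⟨k, hK.le k.2⟩ : H)⁆ : H) : G))
        (SetLike.coe_mem _)]
      exact h1
    have h3 : π ⁅(⟨d, hD d.2⟩ : H), (⟨k, hK.le k.2⟩ : H)⁆ = 1 := (QuotientGroup.eq_one_iff _).mpr h2
    rw [map_commutatorElement] at h3
    exact (commutatorElement_eq_one_iff_commute.mp h3).symm
  let f : K × D →* H ⧸ oddCore ↥H := MonoidHom.noncommCoprod fK fD hcomm
  let g : K × D →* STop K × (D ⧸ Z) := MonoidHom.prodMap (topMap K) (QuotientGroup.mk' Z)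
  have h0 : srank 2 (H ⧸ oddCore ↥H) ≤ srank 2 H := srank_quotient_le hp.one_lt _
  refine le_trans ((srank_le_iff hp.one_lt).2 ?_) h0
  refine of_homs (srank_spec hp.one_lt) f g ?_ ?_
  · rintro ⟨x, y⟩
    obtain ⟨a, rfl⟩ := topMap_surjective K x
    obtain ⟨b, rfl⟩ := QuotientGroup.mk_surjective y
    exact ⟨(a, b), rfl⟩
  · rintro ⟨k, d⟩ h
    have h1 : fK k * fD d = 1 := h
    have h2 : (k : G) * d ∈ core H := by
      rw [← hπ _ (H.mul_mem (hK.le k.2) (hD d.2))]
      exact h1
    have h3 : fK k = (fD d)⁻¹ := eq_inv_of_mul_eq_one_left h1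
    refine Prod.ext ?_ ?_
    · change topMap K k = 1
      rw [← MonoidHom.mem_ker, mem_ker_topMap]
      intro y hy
      have h4 : Commute (fK k) (fK ⟨y, hy⟩) := by
        rw [h3]
        exact (hcomm ⟨y, hy⟩ d).symm.inv_left
      have h5 : fK ⁅k, ⟨y, hy⟩⁆ = 1 := by
        rw [map_commutatorElement]
        exact commutatorElement_eq_one_iff_commute.mpr h4
      have h6 : ⁅(k : G), y⁆ ∈ core H := (hπ _ (hK.le (K.mul_mem
        (K.mul_mem (K.mul_mem k.2 hy) (K.inv_mem k.2)) (K.inv_mem hy)))).mp h5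
      rw [hK.core_eq]
      exact ⟨K.mul_mem (K.mul_mem (K.mul_mem k.2 hy) (K.inv_mem k.2)) (K.inv_mem hy), h6⟩
    · change (QuotientGroup.mk' Z) d = 1
      refine (QuotientGroup.eq_one_iff d).mpr (hZ d ⟨(k : G)⁻¹, K.inv_mem k.2, ?_⟩)
      rwa [inv_inv]

/-- The rank of `K / O(K)`. -/
theorem srank_bar (K : Subgroup G) : srank 2 (Bar K) = srank 2 K := by
  refine srank_quotient_of_not_dvd Nat.prime_two _ ?_
  have h := Lib.Cores.pPrimeCore_coprime (G := K) 2
  intro h2
  have h3 := Nat.coprime_two_right.1 h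
  exact (Nat.not_even_iff_odd.2 h3) (even_iff_two_dvd.2 h2)

theorem srank_top_le (K : Subgroup G) : srank 2 (STop K) ≤ srank 2 K := by
  rw [← srank_bar]
  exact srank_quotient_le (by norm_num) _

/-- The rank of the simple top when the centre is odd. -/
theorem srank_top {K : Subgroup G} (h : ¬ EvenCenter K) : srank 2 (STop K) = srank 2 K := by
  rw [← srank_bar]
  refine srank_quotient_of_not_dvd Nat.prime_two _ ?_
  intro h2
  exact h (even_iff_two_dvd.2 h2)

/-- If the centre of `K / O(K)` is odd: a 2-element of `K O(H)` fixing `K` is trivial. -/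
theorem eq_one_of_odd {H K : Subgroup G} (hK : IsComp H K) (hodd : ¬ EvenCenter K) {d : G}
    (hfix : Fixes d K) (hd : ∃ k ∈ K, k⁻¹ * d ∈ core H) {n : ℕ} (hn : d ^ 2 ^ n = 1) : d = 1 := by
  obtain ⟨k, hk, hkd⟩ := hd
  have hdK : d ∈ K := hK.mem_of_two hk hkd hn
  have h1 : (⟨d, hdK⟩ : K) ∈ (topMap K).ker := by
    rw [mem_ker_topMap]
    exact hfix.2
  have h2 : (QuotientGroup.mk' (oddCore ↥K)) ⟨d, hdK⟩ ∈ center (Bar K) := by
    rw [MonoidHom.mem_ker] at h1
    exact (QuotientGroup.eq_one_iff _).mp h1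
  have h3 : Odd (Nat.card (center (Bar K))) := by
    rw [← Nat.not_even_iff_odd]
    exact hodd
  have h4 : (⟨_, h2⟩ : center (Bar K)) ^ 2 ^ n = 1 := by
    apply Subtype.ext
    change ((QuotientGroup.mk' (oddCore ↥K)) ⟨d, hdK⟩) ^ 2 ^ n = 1
    rw [← map_pow]
    have : (⟨d, hdK⟩ : K) ^ 2 ^ n = 1 := by
      apply Subtype.ext
      simpa using hn
    rw [this, map_one]
  have h5 : orderOf (⟨_, h2⟩ : center (Bar K)) = 1 :=
    Nat.eq_one_of_dvd_coprimes (Nat.Coprime.pow_right n (Nat.coprime_two_right.2 h3))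
      (orderOf_dvd_natCard _) (orderOf_dvd_of_pow_eq_one h4)
  have h6 : (QuotientGroup.mk' (oddCore ↥K)) ⟨d, hdK⟩ = 1 :=
    congrArg Subtype.val (orderOf_eq_one_iff.mp h5)
  have h7 : (⟨d, hdK⟩ : K) ∈ oddCore ↥K := (QuotientGroup.eq_one_iff _).mp h6
  exact eq_one_of_mem_core ⟨_, h7, rfl⟩ hn

/-- Odd centre: `r(K) + r(D) ≤ r(H)` for `D ≤ H` fixing `K`. -/
theorem srank_add_le {H K D : Subgroup G} (hK : IsComp H K) (hodd : ¬ EvenCenter K) (hD : D ≤ H)
    (hfix : ∀ d ∈ D, Fixes d K) : srank 2 K + srank 2 D ≤ srank 2 H := by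
  obtain ⟨P⟩ : Nonempty (Sylow 2 D) := inferInstance
  have h1 := srank_sylow P
  let D' : Subgroup G := (P : Subgroup D).map D.subtype
  have hD'D : D' ≤ D := map_subtype_le _
  have hp : IsPGroup 2 D' := P.2.map D.subtype
  have h2 := srank_top_add_le (D := D') hK (hD'D.trans hD) (fun d hd => hfix d (hD'D hd)) ⊥ (by
    intro d hd
    rw [mem_bot]
    obtain ⟨n, hn⟩ := hp d
    apply Subtype.ext
    refine eq_one_of_odd hK hodd (hfix d (hD'D d.2)) hd (n := n) ?_
    have := congrArg Subtype.val hn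
    simpa using this)
  have h3 : srank 2 (D' ⧸ (⊥ : Subgroup D')) = srank 2 D' :=
    srank_quotient_of_not_dvd Nat.prime_two _ (by simp)
  have h4 : srank 2 D' = srank 2 (P : Subgroup D) :=
    (srank_congr (by norm_num) ((P : Subgroup D).equivMapOfInjective D.subtype
      D.subtype_injective)).symm
  rw [h3, h4, h1, srank_top hodd] at h2
  exact h2

omit [Finite G] in
theorem fixes_self {x : G} {K : Subgroup G} (h : K ≤ centralizer ({x} : Set G)) : Fixes x K := by
  have h1 : ∀ y ∈ K, x * y * x⁻¹ = y := by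
    intro y hy
    rw [mul_inv_eq_iff_eq_mul]
    exact (mem_centralizer_singleton_iff.mp (h hy)).symm
  refine ⟨?_, fun y hy => ?_⟩
  · rw [mem_normalizer_iff]
    intro y
    constructor
    · intro hy
      rwa [h1 y hy]
    · intro hy
      have h2 : x * y * x⁻¹ ∈ centralizer ({x} : Set G) := h hy
      have h3 := mem_centralizer_singleton_iff.mp h2
      have h4 : x * y * x⁻¹ = y := by
        have h5 : x * y * x⁻¹ * x = x * y := by group
        rw [h5] at h3
        have h6 : x * (x * y * x⁻¹) = x * y := by rw [← h3]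
        exact mul_left_cancel h6
      rwa [h4] at hy
  · rw [commutatorElement_def, h1 y hy, mul_inv_cancel]
    exact one_mem _

theorem srank_zpowers {x : G} (hx : orderOf x = 2) : srank 2 (zpowers x) = 1 := by
  have hc : Nat.card (zpowers x) = 2 := by rw [Nat.card_zpowers, hx]
  apply le_antisymm
  · rw [srank_le_iff (by norm_num)]
    exact TwoFusion.SectionalRank.sectionalPRankLE_of_card_le (by rw [hc]; norm_num)
  · by_contra h
    have h0 : srank 2 (zpowers x) = 0 := by omega
    rw [srank_eq_zero_iff Nat.prime_two] at h0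
    exact h0 (by rw [hc])

/-- The centralizer of an involution, odd centre: `r(K) ≤ 3`. -/
theorem srank_le_three (h : Hyp G) {x : G} {K : Subgroup G} (c : Comp2 x K)
    (hodd : ¬ EvenCenter K) : srank 2 (STop K) ≤ 3 := by
  have h1 := srank_add_le (D := zpowers x) c.comp hodd (by
    rw [zpowers_le]
    exact mem_centralizer_singleton_iff.mpr rfl) (by
    intro d hd
    have h2 : Fixes x K := fixes_self c.comp.le
    obtain ⟨n, rfl⟩ := mem_zpowers_iff.mp hd
    apply fixes_self
    intro k hk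
    have h3 : Commute k x := mem_centralizer_singleton_iff.mp (c.comp.le hk)
    exact mem_centralizer_singleton_iff.mpr (h3.zpow_right n))
  rw [srank_zpowers c.inv] at h1
  have h2 : srank 2 (centralizer ({x} : Set G)) ≤ 4 :=
    (srank_subgroup_le (by norm_num) _).trans ((srank_le_iff (by norm_num)).2 h.rank4)
  rw [srank_top hodd]
  omega

theorem k4_top (h : Hyp G) {x : G} {K : Subgroup G} (c : Comp2 x K) : K4 (STop K) := by
  have hx : x ≠ 1 := by
    rintro rfl
    have := c.inv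
    simp at this
  refine h.k4_of_surjective (H := K) ?_ (topMap K) (topMap_surjective K) (top_simple c.comp)
    (top_nonComm c.comp)
  intro hK
  apply h.centralizer_ne_top hx
  rw [eq_top_iff, ← hK]
  exact c.comp.le

/-- An involution in a 2-component of its centralizer: even centre. -/
theorem evenCenter_of_mem {x : G} {K : Subgroup G} (c : Comp2 x K) (hx : x ∈ K) :
    EvenCenter K := by
  by_contra hodd
  have h1 := eq_one_of_odd c.comp hodd (fixes_self c.comp.le)
    ⟨x, hx, by rw [inv_mul_cancel]; exact one_mem _⟩ (n := 1) (by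
      rw [pow_one, ← c.inv, pow_orderOf_eq_one])
  have := c.inv
  rw [h1] at this
  simp at this

end Cfsg.Agent.GH.Comp
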