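import Mathlib
import Cfsg.Agent.GH.LowRank
import Cfsg.Agent.GH.Defs
import Cfsg.Agent.J2Sylow.SporSylow
import Cfsg.Agent.ClassificationK.GTwoSylow

/-!
# Lower bounds for the sectional `2`-rank, II: alternating groups, `G₂(q)`, `J₂`, types (GH-0, S0500)
-/

set_option autoImplicit false
set_option maxHeartbeats 400000

namespace Cfsg.Agent.GH.LowRank

open Cfsg Subgroup Cfsg.Agent.TwoFusion.SectionalRank Cfsg.Agent.GH.Rank

section alt

/-- `C₂ ^ 4`. -/
abbrev E4 : Type := Multiplicative (ZMod 2 × ZMod 2 × ZMod 2 × ZMod 2)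

def pa : Equiv.Perm (Fin 8) := Equiv.swap 0 1 * Equiv.swap 2 3
def pb : Equiv.Perm (Fin 8) := Equiv.swap 0 2 * Equiv.swap 1 3
def pc : Equiv.Perm (Fin 8) := Equiv.swap 4 5 * Equiv.swap 6 7
def pd : Equiv.Perm (Fin 8) := Equiv.swap 4 6 * Equiv.swap 5 7

/-- The elementary abelian group `V₄ × V₄` of degree eight. -/
def pE (e : E4) : Equiv.Perm (Fin 8) :=
  pa ^ (Multiplicative.toAdd e).1.val * pb ^ (Multiplicative.toAdd e).2.1.val *
    (pc ^ (Multiplicative.toAdd e).2.2.1.val * pd ^ (Multiplicative.toAdd e).2.2.2.val)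

theorem pE_mul : ∀ a b c d a' b' c' d' : ZMod 2,
    pE (Multiplicative.ofAdd (a + a', b + b', c + c', d + d')) =
      pE (Multiplicative.ofAdd (a, b, c, d)) * pE (Multiplicative.ofAdd (a', b', c', d')) := by
  decide +kernel

theorem pE_sign : ∀ a b c d : ZMod 2,
    Equiv.Perm.sign (pE (Multiplicative.ofAdd (a, b, c, d))) = 1 := by
  decide +kernel

theorem pE_one : ∀ a b c d : ZMod 2,
    pE (Multiplicative.ofAdd (a, b, c, d)) = 1 → a = 0 ∧ b = 0 ∧ c = 0 ∧ d = 0 := by
  decide +kernel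

theorem alt_eight_not : ¬ SectionalPRankLE 2 3 (alternatingGroup (Fin 8)) := by
  intro h
  let f : E4 →* alternatingGroup (Fin 8) := MonoidHom.mk'
    (fun e => ⟨pE e, Equiv.Perm.mem_alternatingGroup.2 (pE_sign _ _ _ _)⟩) (by
      intro x y
      apply Subtype.ext
      exact pE_mul _ _ _ _ _ _ _ _)
  refine false_of_card h f ?_ ?_ ?_
  · rw [injective_iff_map_eq_one]
    intro e he
    obtain ⟨h1, h2, h3, h4⟩ := pE_one _ _ _ _ (congrArg Subtype.val he)
    exact Multiplicative.toAdd.injective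
      (Prod.ext h1 (Prod.ext h2 (Prod.ext h3 h4)))
  · intro e
    have h2 : ∀ a : ZMod 2, a + a = 0 := by decide
    apply Multiplicative.toAdd.injective
    change 2 • Multiplicative.toAdd e = 0
    rw [two_nsmul]
    exact Prod.ext (h2 _) (Prod.ext (h2 _) (Prod.ext (h2 _) (h2 _)))
  · rw [Nat.card_eq_fintype_card]
    rfl

/-- Extending a permutation of `Fin 8` to `Fin n`. -/
theorem exists_alt_hom {n : ℕ} (hn : 8 ≤ n) :
    ∃ f : alternatingGroup (Fin 8) →* alternatingGroup (Fin n), Function.Injective f := by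
  classical
  let g : Fin 8 ≃ {x : Fin n // (x : ℕ) < 8} :=
    { toFun := fun x => ⟨⟨x, by omega⟩, x.2⟩
      invFun := fun x => ⟨x.1, x.2⟩
      left_inv := fun x => rfl
      right_inv := fun x => rfl }
  let f0 : Equiv.Perm (Fin 8) →* Equiv.Perm (Fin n) := Equiv.Perm.extendDomainHom g
  have hf0 : Function.Injective f0 := Equiv.Perm.extendDomainHom_injective g
  refine ⟨(f0.comp (alternatingGroup (Fin 8)).subtype).codRestrict _ ?_, ?_⟩
  · intro x
    change Equiv.Perm.extendDomain (x : Equiv.Perm (Fin 8)) g ∈ alternatingGroup (Fin n)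
    rw [Equiv.Perm.mem_alternatingGroup, Equiv.Perm.sign_extendDomain]
    exact Equiv.Perm.mem_alternatingGroup.1 x.2
  · intro x y hxy
    have h1 := congrArg Subtype.val hxy
    exact Subtype.ext (hf0 h1)

theorem alt_not {n : ℕ} (hn : 8 ≤ n) : ¬ SectionalPRankLE 2 3 (alternatingGroup (Fin n)) := by
  intro h
  obtain ⟨f, hf⟩ := exists_alt_hom hn
  exact alt_eight_not (of_injective h f hf)

end alt

section gtwo

open Cfsg.Agent.ClassificationK.GTwoModel

theorem T_not {m c : ℕ} [NeZero m] (hm : m = 4 * c) (hc : 0 < c) :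
    ¬ SectionalPRankLE 2 3 (T m) := by
  intro h
  have h4 : (c : ZMod m) + c + (c + c) = 0 := by
    have h0 : ((4 * c : ℕ) : ZMod m) = 0 := by
      rw [← hm]
      exact ZMod.natCast_self m
    push_cast at h0
    linear_combination h0
  have h2 : (c : ZMod m) + c ≠ 0 := by
    intro h0
    have h1 : ((2 * c : ℕ) : ZMod m) = 0 := by
      push_cast
      linear_combination h0
    rw [ZMod.natCast_eq_zero_iff] at h1
    have := Nat.le_of_dvd (by omega) h1
    omega
  have h3 : -(c : ZMod m) = c + c + c := by linear_combination -h4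
  have h5 : -((c : ZMod m) + c) = c + c := by linear_combination -h4
  refine four h (x := ⟨c, c, false, false⟩) (y := ⟨0, 0, true, false⟩)
    (u := ⟨c + c, 0, false, false⟩) (v := ⟨0, 0, false, true⟩) (t := ⟨c + c, c + c, false, false⟩)
    ?_ ?_ ?_ ?_ ?_ ?_ (Or.inr ?_) (Or.inl ?_) (Or.inl ?_) (Or.inl ?_) ?_ ?_ ?_ ?_ ?_ ?_
  · rw [T.mul_mk, T.one_def]
    simp [h4]
  · rw [T.one_def]
    intro h0
    exact h2 (congrArg T.i h0)
  · rw [T.mul_mk, T.mul_mk]
    simp
    ring
  · rw [T.mul_mk, T.mul_mk]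
    simp
    linear_combination -h4
  · rw [T.mul_mk, T.mul_mk]
    simp
  · rw [T.mul_mk, T.mul_mk]
    simp
  · rw [T.mul_mk]
    simp
  · rw [T.mul_mk, T.one_def]
    simp
  · rw [T.mul_mk, T.one_def]
    simp [h4]
  · rw [T.mul_mk, T.one_def]
    simp
  · rw [T.mul_mk, T.mul_mk, T.mul_mk]
    simp
    linear_combination h4
  · rw [T.mul_mk, T.mul_mk, T.mul_mk]
    simp [h4]
  · rw [T.mul_mk, T.mul_mk]
    simp
    ring
  · rw [T.mul_mk, T.mul_mk]
    simp
  · rw [T.mul_mk, T.mul_mk]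
    simp
    linear_combination -h4
  · rw [T.mul_mk, T.mul_mk]
    simp

theorem chevG2_not {F : Type*} [Field F] [Finite F] (h2 : (2 : F) ≠ 0) :
    ¬ SectionalPRankLE 2 3 ↥(Lie.chevG2.group F) := by
  intro h
  have : Fintype F := Fintype.ofFinite F
  have hodd : Odd (Nat.card F) := by
    by_contra hev
    rw [Nat.not_odd_iff_even] at hev
    obtain ⟨k, hk⟩ := hev
    apply h2
    have h3 : ((Nat.card F : ℕ) : F) = 0 := by
      rw [Nat.card_eq_fintype_card]
      exact FiniteField.cast_card_eq_zero F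
    obtain ⟨p, hp⟩ := CharP.exists F
    have hprime : p.Prime := CharP.char_is_prime F p
    obtain ⟨n, -, hn⟩ := FiniteField.card F p
    have h4 : 2 ∣ p ^ (n : ℕ) := by
      rw [← hn, ← Nat.card_eq_fintype_card, hk]
      exact ⟨k, by ring⟩
    have h5 : p = 2 := ((Nat.prime_dvd_prime_iff_eq Nat.prime_two hprime).1
      (Nat.prime_two.dvd_of_dvd_pow h4)).symm
    subst h5
    exact_mod_cast CharP.cast_eq_zero F 2
  obtain ⟨k, m, hk, hm, hq, hel⟩ := Cfsg.Agent.ClassificationK.GTwoSL.exists_elements F hodd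
  obtain ⟨f, hf⟩ := Cfsg.Agent.ClassificationK.GTwoChev.exists_embedding k hk h2 hel
  have : NeZero (2 * 2 ^ k) := ⟨by positivity⟩
  obtain ⟨j, rfl⟩ : ∃ j, k = j + 1 := ⟨k - 1, by omega⟩
  exact T_not (c := 2 ^ j) (by rw [pow_succ]; ring) (by positivity) (of_injective h f hf)

end gtwo

section jtwo

open Cfsg.Agent.J2Sylow

theorem J2_not : ¬ SectionalPRankLE 2 3 Spor.J2 := by
  intro h
  have : Finite Cfsg.Spor.J2 :=
    Nat.finite_of_card_ne_zero (by rw [SporSylow.card_J2]; norm_num)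
  obtain ⟨f, hf⟩ := SporSylow.exists_hom
  have h1 := pRankLE (of_injective h f hf)
  have h2 : IsMulCommutative Model.T.E1 :=
    ⟨⟨fun a b => Subtype.ext (Model.T.E1_comm _ _ a.2 b.2)⟩⟩
  have h3 := h1 Model.T.E1 h2 (fun a ha => by
    rw [pow_two]
    exact Model.T.E1_sq a ha)
  rw [Model.T.card_E1] at h3
  norm_num at h3

end jtwo

end Cfsg.Agent.GH.LowRank
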