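import Cfsg.Agent.GH.Comp
import Cfsg.Agent.Intrinsic.Cen
import Cfsg.Agent.Cit.Quat

/-!
# GH-Q (I): vocabulary

* `QT K` : commuting involutions of `K` are equal.
* `Frame G` : simple, sectional 2-rank at most 4, every 2-component with even centre of the centralizer
  of an involution is `QT`, and at most one 2-component of `C(x)` contains the involution `x`.
* `QC z K` : `K` is a 2-component of `C(z)` containing the involution `z`.
* `Alpha a b Ka Kb Ja Jb` : commuting involutions `a ≠ b` with `QC a Ka`, `QC b Kb`, fixing each other's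
  component; `Ja`, `Jb` are the pump-ups of `Kb`, `Ka` in `C(a)`, `C(b)`.
* `MC W Q α τ z n` : `W = ⟨α, τ⟩` is of maximal class of order `2 ^ (n + 4)`, quaternion or semidihedral,
  `Q = ⟨α², τ⟩` its quaternion subgroup of order `2 ^ (n + 3)`.
-/

set_option autoImplicit false

open Cfsg Subgroup
open Cfsg.Agent.Intrinsic.Basic Cfsg.Agent.Intrinsic.Cen
open Cfsg.Agent.SignalizersComponents.IntrinsicBasic
open Cfsg.Agent.GH.Defs

namespace Cfsg.Agent.GH.QA

variable {G : Type*} [Group G]

/-- commuting involutions of `K` are equal -/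
def QT (K : Subgroup G) : Prop :=
  ∀ a ∈ K, ∀ b ∈ K, a * a = 1 → b * b = 1 → a ≠ 1 → b ≠ 1 → a * b = b * a → a = b

variable (G) in
/-- the situation of GH-Q (I) -/
structure Frame : Prop where
  simple : IsSimpleGroup G
  nonComm : ¬ IsMulCommutative G
  rank4 : SectionalPRankLE 2 4 G
  even_qt : ∀ (x : G) (K : Subgroup G), Comp2 x K → EvenCenter K → QT K
  one : ∀ (x : G) (K L : Subgroup G), Comp2 x K → Comp2 x L → x ∈ K → x ∈ L → K = L

/-- `K` is a 2-component of `C(z)` containing the involution `z` -/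
structure QC (z : G) (K : Subgroup G) : Prop where
  comp : Comp2 z K
  mem : z ∈ K

/-- an `alpha` pair with its pump-ups -/
structure Alpha (a b : G) (Ka Kb Ja Jb : Subgroup G) : Prop where
  qa : QC a Ka
  qb : QC b Kb
  ne : a ≠ b
  comm : a * b = b * a
  fa : Fixes b Ka
  fb : Fixes a Kb
  ja : Comp2 a Ja
  jb : Comp2 b Jb
  leJa : cen Kb a ≤ Ja
  leJb : cen Ka b ≤ Jb

/-- coordinates of a quaternion or semidihedral group with its quaternion subgroup of index 2 -/
structure MC (W Q : Subgroup G) (α τ z : G) (n : ℕ) : Prop where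
  gq : Cit.GQ Q (α * α) τ z n
  ord : orderOf α = 2 ^ (n + 3)
  conj : τ * α * τ⁻¹ = α⁻¹ ∨ τ * α * τ⁻¹ = α⁻¹ * z
  mem : α ∈ W
  le : Q ≤ W
  cov : ∀ x ∈ W, (∃ i : ℕ, x = α ^ i) ∨ ∃ i : ℕ, x = τ * α ^ i

end Cfsg.Agent.GH.QA
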