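import Mathlib
import Cfsg.Agent.GH.MTwModel

/-!
# 2.M12: facts on the Sylow 2-subgroup `T` (invariant under the outer automorphism)
-/

set_option autoImplicit false
set_option maxRecDepth 100000

namespace Cfsg.Agent.GH.MTwSyl

open Cfsg.Agent.GH.MTwCode Cfsg.Agent.GH.MTwBound Cfsg.Agent.GH.MTwModel
open Subgroup

/-! ### kernel functions -/

/-- run the instructions -/
noncomputable def run (gens : ℕ → ℕ) (ins : List (ℕ × ℕ)) : List ℕ → List ℕ :=
  List.rec (motive := fun _ => List ℕ → List ℕ) (fun acc => acc)
    (fun p _ ih acc => force (comp (acc.getD p.1 one) (gens p.2)) fun x => ih (x :: acc)) ins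

noncomputable def memb (x : ℕ) (l : List ℕ) : Bool :=
  List.rec (motive := fun _ => Bool) false (fun y _ ih => Bool.rec ih true (Nat.beq y x)) l

noncomputable def allC (f : ℕ → Bool) (l : List ℕ) : Bool :=
  List.rec (motive := fun _ => Bool) true (fun c _ ih => Bool.rec false ih (f c)) l

noncomputable def anyC (f : ℕ → Bool) (l : List ℕ) : Bool :=
  List.rec (motive := fun _ => Bool) false (fun c _ ih => Bool.rec ih true (f c)) l

noncomputable def nodupC (l : List ℕ) : Bool :=
  List.rec (motive := fun _ => Bool) true (fun c l ih => Bool.rec ih false (memb c l)) l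

noncomputable def eqC (l : List ℕ) : List ℕ → Bool :=
  List.rec (motive := fun _ => List ℕ → Bool)
    (fun l' => List.rec (motive := fun _ => Bool) true (fun _ _ _ => false) l')
    (fun c _ ih l' => List.rec (motive := fun _ => Bool) false
      (fun c' t' _ => Bool.rec false (ih t') (Nat.beq c c')) l') l

noncomputable def filterC (f : ℕ → Bool) (l : List ℕ) : List ℕ :=
  List.rec (motive := fun _ => List ℕ) [] (fun c _ ih => Bool.rec ih (c :: ih) (f c)) l

noncomputable def countC (f : ℕ → Bool) (l : List ℕ) : ℕ :=
  List.rec (motive := fun _ => ℕ) 0 (fun c _ ih => Bool.rec ih (Nat.succ ih) (f c)) l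

theorem memb_iff {x : ℕ} {l : List ℕ} : memb x l = true ↔ x ∈ l := by
  induction l with
  | nil => simp [memb]
  | cons y l ih =>
    have h : memb x (y :: l) = Bool.rec (memb x l) true (Nat.beq y x) := rfl
    rw [h]
    rcases hb : Nat.beq y x with _ | _
    · have hne : y ≠ x := fun h => by rw [h, Nat.beq_refl] at hb; exact absurd hb (by simp)
      show memb x l = true ↔ _
      rw [ih, List.mem_cons]
      constructor
      · exact Or.inr
      · rintro (h | h)
        · exact absurd h.symm hne
        · exact h
    · have : y = x := Nat.eq_of_beq_eq_true hb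
      subst this
      show true = true ↔ _
      simp

theorem allC_iff {f : ℕ → Bool} {l : List ℕ} : allC f l = true ↔ ∀ x ∈ l, f x = true := by
  induction l with
  | nil => simp [allC]
  | cons y l ih =>
    have h : allC f (y :: l) = Bool.rec false (allC f l) (f y) := rfl
    rw [h]
    rcases hb : f y with _ | _
    · show false = true ↔ _
      simp only [Bool.false_eq_true, false_iff]
      intro h'
      have := h' y (by simp)
      rw [hb] at this
      exact absurd this (by simp)
    · show allC f l = true ↔ _
      rw [ih]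
      simp [hb]

theorem anyC_iff {f : ℕ → Bool} {l : List ℕ} : anyC f l = true ↔ ∃ x ∈ l, f x = true := by
  induction l with
  | nil => simp [anyC]
  | cons y l ih =>
    have h : anyC f (y :: l) = Bool.rec (anyC f l) true (f y) := rfl
    rw [h]
    rcases hb : f y with _ | _
    · show anyC f l = true ↔ _
      rw [ih]
      simp [hb]
    · show true = true ↔ _
      simp [hb]

theorem nodupC_sound {l : List ℕ} (h : nodupC l = true) : l.Nodup := by
  induction l with
  | nil => exact List.nodup_nil
  | cons y l ih =>
    have h' : Bool.rec (nodupC l) false (memb y l) = true := h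
    rcases hb : memb y l with _ | _
    · rw [hb] at h'
      refine List.nodup_cons.mpr ⟨fun hy => ?_, ih h'⟩
      rw [memb_iff.mpr hy] at hb
      exact absurd hb (by simp)
    · rw [hb] at h'
      exact absurd h' (by simp)

theorem eqC_sound {l l' : List ℕ} (h : eqC l l' = true) : l = l' := by
  induction l generalizing l' with
  | nil =>
    cases l' with
    | nil => rfl
    | cons c' t' => exact absurd h (by simp [eqC])
  | cons c l ih =>
    cases l' with
    | nil => exact absurd h (by simp [eqC])
    | cons c' t' =>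
      have h' : Bool.rec false (eqC l t') (Nat.beq c c') = true := h
      rcases hb : Nat.beq c c' with _ | _
      · rw [hb] at h'; exact absurd h' (by simp)
      · rw [hb] at h'
        rw [Nat.eq_of_beq_eq_true hb, ih h']

theorem countC_eq (f : ℕ → Bool) (l : List ℕ) : countC f l = (l.filter f).length := by
  induction l with
  | nil => rfl
  | cons y l ih =>
    have h : countC f (y :: l) = Bool.rec (countC f l) (Nat.succ (countC f l)) (f y) := rfl
    rw [h]
    rcases hb : f y with _ | _
    · show countC f l = _
      rw [ih, List.filter_cons_of_neg (by simp [hb])]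
    · show Nat.succ (countC f l) = _
      rw [ih, List.filter_cons_of_pos hb, List.length_cons]

/-! ### the group `T` -/

/-- the group generated by `A` and `B` (isomorphic to 2.M12) -/
def M : Subgroup Pm := closure {A, B}

/-- the Sylow 2-subgroup -/
def T : Subgroup Pm := closure {G0, G1, G2}

noncomputable def gens : ℕ → ℕ := fun n => Nat.rec (motive := fun _ => ℕ) c0 (fun n _ =>
  Nat.rec (motive := fun _ => ℕ) c1 (fun _ _ => c2) n) n

theorem G0_mem : G0 ∈ T := subset_closure (by simp)
theorem G1_mem : G1 ∈ T := subset_closure (by simp)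
theorem G2_mem : G2 ∈ T := subset_closure (by simp)

theorem gens_code (n : ℕ) : ∃ t ∈ T, code t = gens n := by
  rcases n with _ | _ | n
  · exact ⟨G0, G0_mem, code_G0⟩
  · exact ⟨G1, G1_mem, code_G1⟩
  · exact ⟨G2, G2_mem, code_G2⟩

theorem run_sound (ins : List (ℕ × ℕ)) : ∀ acc : List ℕ, (∀ c ∈ acc, ∃ t ∈ T, code t = c) →
    ∀ c ∈ run gens ins acc, ∃ t ∈ T, code t = c := by
  induction ins with
  | nil => intro acc h; exact h
  | cons p ins ih =>
    intro acc h
    have h1 : run gens (p :: ins) acc =
      force (comp (acc.getD p.1 one) (gens p.2)) fun x => run gens ins (x :: acc) := rfl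
    rw [h1, force_eq]
    refine ih _ ?_
    intro c hc
    rcases List.mem_cons.mp hc with hc | hc
    · obtain ⟨t, ht, hte⟩ : ∃ t ∈ T, code t = acc.getD p.1 one := by
        rw [List.getD_eq_getElem?_getD]
        rcases h2 : acc[p.1]? with _ | x
        · exact ⟨1, T.one_mem, by rw [code_one]; rfl⟩
        · exact h x (List.mem_of_getElem? h2)
      obtain ⟨g, hg, hge⟩ := gens_code p.2
      exact ⟨t * g, T.mul_mem ht hg, by rw [code_mul, hte, hge, hc]⟩
    · exact h c hc

theorem TL_eq : run gens instr [one] = TL := eqC_sound (by decide +kernel)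

theorem exists_of_mem_TL {c : ℕ} (hc : c ∈ TL) : ∃ t ∈ T, code t = c := by
  rw [← TL_eq] at hc
  refine run_sound instr [one] ?_ c hc
  intro c hc
  rw [List.mem_singleton] at hc
  exact ⟨1, T.one_mem, by rw [hc, code_one]⟩

theorem TL_closed : (allC (fun c => force (comp c c0) (fun x => memb x TL) &&
    force (comp c c1) (fun x => memb x TL) && force (comp c c2) (fun x => memb x TL) &&
    force (comp c d0) (fun x => memb x TL) && force (comp c d1) (fun x => memb x TL) &&
    force (comp c d2) (fun x => memb x TL)) TL) = true := by decide +kernel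

theorem one_mem_TL : one ∈ TL := memb_iff.mp (by decide +kernel)

theorem code_mem {t : Pm} (ht : t ∈ T) : code t ∈ TL := by
  have hcl := allC_iff.mp TL_closed
  simp only [Bool.and_eq_true, force_eq, memb_iff] at hcl
  refine closure_induction_right (p := fun t _ => code t ∈ TL) ?_ ?_ ?_ ht
  · rw [code_one]; exact one_mem_TL
  · rintro x _ y hy hx
    obtain ⟨⟨⟨⟨⟨h0, h1⟩, h2⟩, h3⟩, h4⟩, h5⟩ := hcl _ hx
    rw [code_mul]
    rcases hy with rfl | rfl | rfl
    · rw [code_G0]; exact h0
    · rw [code_G1]; exact h1
    · rw [code_G2]; exact h2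
  · rintro x _ y hy hx
    obtain ⟨⟨⟨⟨⟨h0, h1⟩, h2⟩, h3⟩, h4⟩, h5⟩ := hcl _ hx
    rw [code_mul]
    rcases hy with rfl | rfl | rfl
    · rw [code_G0i]; exact h3
    · rw [code_G1i]; exact h4
    · rw [code_G2i]; exact h5

theorem mem_iff {t : Pm} : t ∈ T ↔ code t ∈ TL := by
  refine ⟨code_mem, fun h => ?_⟩
  obtain ⟨u, hu, hue⟩ := exists_of_mem_TL h
  rwa [← code_inj hue]

theorem TL_nodup : TL.Nodup := nodupC_sound (by decide +kernel)

/-- counting -/
theorem card_filter (P : Pm → Prop) (f : ℕ → Bool) (hf : ∀ t : Pm, P t ↔ f (code t) = true) (n : ℕ)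
    (hn : Nat.beq (countC f TL) n = true) : Nat.card {t : T // P t} = n := by
  have h1 : (TL.filter f).length = n := by
    rw [← countC_eq]; exact Nat.eq_of_beq_eq_true hn
  have e : {t : T // P t} ≃ {c // c ∈ (TL.filter f).toFinset} := by
    refine Equiv.ofBijective (fun t => ⟨code t.1.1, ?_⟩) ⟨?_, ?_⟩
    · rw [List.mem_toFinset, List.mem_filter]
      exact ⟨code_mem t.1.2, (hf _).mp t.2⟩
    · intro t u htu
      rw [Subtype.mk.injEq] at htu
      exact Subtype.ext (Subtype.ext (code_inj htu))
    · rintro ⟨c, hc⟩
      rw [List.mem_toFinset, List.mem_filter] at hc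
      obtain ⟨t, ht, hte⟩ := exists_of_mem_TL hc.1
      refine ⟨⟨⟨t, ht⟩, (hf _).mpr ?_⟩, Subtype.ext hte⟩
      show f (code t) = true
      rw [hte]; exact hc.2
  rw [Nat.card_congr e, Nat.card_eq_fintype_card, Fintype.card_coe,
    List.toFinset_card_of_nodup (TL_nodup.filter _), h1]

theorem card_T : Nat.card T = 128 := by
  have h := card_filter (fun _ => True) (fun _ => true) (fun t => ⟨fun _ => rfl, fun _ => trivial⟩) 128
    (by decide +kernel)
  rwa [Nat.card_congr (Equiv.subtypeUnivEquiv (fun _ => trivial))] at h

/-- transfer of a property of all elements -/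
theorem forall_T {P : Pm → Prop} (f : ℕ → Bool) (hf : ∀ t : Pm, f (code t) = true → P t)
    (h : allC f TL = true) : ∀ t ∈ T, P t := fun t ht =>
  hf t (allC_iff.mp h _ (code_mem ht))

end Cfsg.Agent.GH.MTwSyl
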