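import Mathlib
import Cfsg.Agent.GH.MTwSyl

/-!
# 2.M12: facts on the Sylow 2-subgroup `T`
-/

set_option autoImplicit false
set_option maxRecDepth 100000

namespace Cfsg.Agent.GH.MTwFacts

open Cfsg.Agent.GH.MTwCode Cfsg.Agent.GH.MTwBound Cfsg.Agent.GH.MTwModel Cfsg.Agent.GH.MTwSyl
open Subgroup

theorem eqB {a b : ℕ} (h : a = b) : Nat.beq a b = true := by rw [h]; exact Nat.beq_refl _

/-- `t ↦ W t W` on codes -/
noncomputable def tc (c : ℕ) : ℕ := force (comp c cW) fun x => comp cW x

theorem code_tau (t : Pm) : code (W * t * W) = tc (code t) := by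
  rw [tc, force_eq, mul_assoc, code_mul, code_mul, code_W]

noncomputable def sq (c : ℕ) : ℕ := comp c c

theorem pow4 {X : Type*} [Group X] (t : X) : t ^ 4 = (t * t) * (t * t) := by
  rw [show 4 = 2 + 2 by norm_num, pow_add, pow_two]

theorem code_sq (t : Pm) : code (t * t) = sq (code t) := code_mul t t

noncomputable def cAZ : ℕ := comp cA cZ

theorem code_AZ : code (A * Z) = cAZ := by rw [code_mul, code_A, code_Z]; rfl

theorem A_mem : A ∈ T := by
  rw [mem_iff, code_A]; exact memb_iff.mp (by decide +kernel)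

theorem Z_mem : Z ∈ T := by
  rw [mem_iff, code_Z]; exact memb_iff.mp (by decide +kernel)

theorem Z_ne_one : Z ≠ 1 := by
  intro h
  have h1 : code Z = code 1 := by rw [h]
  rw [code_Z, code_one] at h1
  have h2 : Nat.beq cZ one = false := by decide +kernel
  rw [h1, Nat.beq_refl] at h2
  exact absurd h2 (by simp)

theorem A_ne_one : A ≠ 1 := by
  intro h
  have h1 : code A = code 1 := by rw [h]
  rw [code_A, code_one] at h1
  have h2 : Nat.beq cA one = false := by decide +kernel
  rw [h1, Nat.beq_refl] at h2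
  exact absurd h2 (by simp)

theorem A_ne_Z : A ≠ Z := by
  intro h
  have h1 : code A = code Z := by rw [h]
  rw [code_A, code_Z] at h1
  have h2 : Nat.beq cA cZ = false := by decide +kernel
  rw [h1, Nat.beq_refl] at h2
  exact absurd h2 (by simp)

theorem W_sq : W * W = 1 := by
  apply code_inj
  rw [code_sq, code_W, code_one]
  exact Nat.eq_of_beq_eq_true (by decide +kernel)

theorem WA : W * A * W = A := by
  apply code_inj
  rw [code_tau, code_A]
  exact Nat.eq_of_beq_eq_true (by decide +kernel)

theorem WB : W * B * W = B⁻¹ := by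
  apply code_inj
  rw [code_tau, code_B, code_Bi]
  exact Nat.eq_of_beq_eq_true (by decide +kernel)

theorem WZ : W * Z * W = Z := by
  apply code_inj
  rw [code_tau, code_Z]
  exact Nat.eq_of_beq_eq_true (by decide +kernel)

/-- (c1) -/
theorem pow_four {t : Pm} (ht : t ∈ T) : t ^ 4 = 1 ∨ t ^ 4 = A * Z := by
  refine forall_T (P := fun t => t ^ 4 = 1 ∨ t ^ 4 = A * Z)
    (fun c => force (sq c) fun x => force (sq x) fun y => Bool.rec (Nat.beq y cAZ) true (Nat.beq y one))
    ?_ (by decide +kernel) t ht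
  intro t h
  simp only [force_eq] at h
  rw [pow4]
  rw [← code_sq, ← code_sq] at h
  rcases hb : Nat.beq (code (t * t * (t * t))) one with _ | _
  · rw [hb] at h
    right
    apply code_inj
    rw [code_AZ]; exact Nat.eq_of_beq_eq_true h
  · left
    apply code_inj
    rw [code_one]; exact Nat.eq_of_beq_eq_true hb

/-- (c2) -/
theorem sq_ne_A {t : Pm} (ht : t ∈ T) : t * t ≠ A := by
  refine forall_T (P := fun t => t * t ≠ A)
    (fun c => force (sq c) fun x => Bool.rec true false (Nat.beq x cA)) ?_ (by decide +kernel) t ht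
  intro t h he
  simp only [force_eq] at h
  rw [← code_sq, he, code_A, Nat.beq_refl] at h
  exact absurd h (by simp)

/-- (c3) -/
theorem G0_pow_four : G0 ^ 4 = A * Z := by
  apply code_inj
  rw [pow4, code_sq, code_sq, code_G0, code_AZ]
  exact Nat.eq_of_beq_eq_true (by decide +kernel)

theorem G1_pow_four : G1 ^ 4 = A * Z := by
  apply code_inj
  rw [pow4, code_sq, code_sq, code_G1, code_AZ]
  exact Nat.eq_of_beq_eq_true (by decide +kernel)

theorem G0G1_sq : (G0 * G1) * (G0 * G1) = Z := by
  apply code_inj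
  rw [code_sq, code_mul, code_G0, code_G1, code_Z]
  exact Nat.eq_of_beq_eq_true (by decide +kernel)

/-- (c4) -/
theorem center {t : Pm} (ht : t ∈ T) (hc : ∀ u ∈ T, u * t = t * u) :
    t = 1 ∨ t = A ∨ t = Z ∨ t = A * Z := by
  have key : ∀ t ∈ T, (G0 * t = t * G0 ∧ G1 * t = t * G1 ∧ G2 * t = t * G2) →
      code t ∈ [one, cA, cZ, cAZ] := by
    refine forall_T (P := fun t => (G0 * t = t * G0 ∧ G1 * t = t * G1 ∧ G2 * t = t * G2) →
      code t ∈ [one, cA, cZ, cAZ])
      (fun c => Bool.rec true (memb c [one, cA, cZ, cAZ])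
        ((Nat.beq (comp c0 c) (comp c c0)) && (Nat.beq (comp c1 c) (comp c c1)) &&
        (Nat.beq (comp c2 c) (comp c c2)))) ?_ (by decide +kernel)
    rintro t h ⟨h0, h1, h2⟩
    rw [← code_G0, ← code_G1, ← code_G2, ← code_mul, ← code_mul, ← code_mul, ← code_mul,
      ← code_mul, ← code_mul, h0, h1, h2, Nat.beq_refl, Nat.beq_refl, Nat.beq_refl] at h
    exact memb_iff.mp h
  have h := key t ht ⟨hc _ G0_mem, hc _ G1_mem, hc _ G2_mem⟩
  simp only [List.mem_cons, List.not_mem_nil, or_false] at h
  rcases h with h | h | h | h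
  · left; apply code_inj; rw [h, code_one]
  · right; left; apply code_inj; rw [h, code_A]
  · right; right; left; apply code_inj; rw [h, code_Z]
  · right; right; right; apply code_inj; rw [h, code_AZ]

/-- `A` and `Z` are central in `T` -/
theorem comm_A {t : Pm} (ht : t ∈ T) : A * t = t * A := by
  refine forall_T (P := fun t => A * t = t * A)
    (fun c => Nat.beq (comp cA c) (comp c cA)) ?_ (by decide +kernel) t ht
  intro t h
  apply code_inj
  rw [code_mul, code_mul, code_A]
  exact Nat.eq_of_beq_eq_true h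

theorem comm_Z {t : Pm} (ht : t ∈ T) : Z * t = t * Z := by
  refine forall_T (P := fun t => Z * t = t * Z)
    (fun c => Nat.beq (comp cZ c) (comp c cZ)) ?_ (by decide +kernel) t ht
  intro t h
  apply code_inj
  rw [code_mul, code_mul, code_Z]
  exact Nat.eq_of_beq_eq_true h

/-- `T` is invariant under the outer automorphism -/
theorem tau_mem {t : Pm} (ht : t ∈ T) : W * t * W ∈ T := by
  refine forall_T (P := fun t => W * t * W ∈ T)
    (fun c => force (tc c) fun x => memb x TL) ?_ (by decide +kernel) t ht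
  intro t h
  rw [force_eq] at h
  rw [mem_iff, code_tau]
  exact memb_iff.mp h

/-- (c5) -/
theorem outer_pow {t : Pm} (ht : t ∈ T) :
    ((t * (W * t * W)) * (t * (W * t * W)) = 1 ∨ (t * (W * t * W)) * (t * (W * t * W)) = Z) := by
  refine forall_T (P := fun t => ((t * (W * t * W)) * (t * (W * t * W)) = 1 ∨
    (t * (W * t * W)) * (t * (W * t * W)) = Z))
    (fun c => force (comp c (tc c)) fun x => force (sq x) fun y =>
      Bool.rec (Nat.beq y cZ) true (Nat.beq y one)) ?_ (by decide +kernel) t ht
  intro t h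
  simp only [force_eq] at h
  rw [← code_tau, ← code_mul, ← code_sq] at h
  rcases hb : Nat.beq (code (t * (W * t * W) * (t * (W * t * W)))) one with _ | _
  · rw [hb] at h
    right
    apply code_inj
    rw [code_Z]; exact Nat.eq_of_beq_eq_true h
  · left
    apply code_inj
    rw [code_one]; exact Nat.eq_of_beq_eq_true hb

/-- (c6) -/
theorem outer_ne_Z {t : Pm} (ht : t ∈ T) : t * (W * t * W) ≠ Z := by
  refine forall_T (P := fun t => t * (W * t * W) ≠ Z)
    (fun c => force (comp c (tc c)) fun x => Bool.rec true false (Nat.beq x cZ)) ?_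
    (by decide +kernel) t ht
  intro t h he
  simp only [force_eq] at h
  rw [← code_tau, ← code_mul, he, code_Z, Nat.beq_refl] at h
  exact absurd h (by simp)

theorem outer_ne_A {t : Pm} (ht : t ∈ T) : t * (W * t * W) ≠ A := by
  refine forall_T (P := fun t => t * (W * t * W) ≠ A)
    (fun c => force (comp c (tc c)) fun x => Bool.rec true false (Nat.beq x cA)) ?_
    (by decide +kernel) t ht
  intro t h he
  simp only [force_eq] at h
  rw [← code_tau, ← code_mul, he, code_A, Nat.beq_refl] at h
  exact absurd h (by simp)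

/-- (c5') -/
theorem exists_outer_AZ : ∃ t ∈ T, t * (W * t * W) = A * Z := by
  have h : anyC (fun c => force (comp c (tc c)) fun x => Nat.beq x cAZ) TL = true := by
    decide +kernel
  obtain ⟨c, hc, h⟩ := anyC_iff.mp h
  obtain ⟨t, ht, hte⟩ := exists_of_mem_TL hc
  refine ⟨t, ht, code_inj ?_⟩
  rw [force_eq] at h
  rw [code_mul, code_tau, hte, code_AZ]
  exact Nat.eq_of_beq_eq_true h

/-- (c7) -/
theorem outer_one {t : Pm} (ht : t ∈ T) (h1 : t * (W * t * W) = 1) :
    ∃ y ∈ T, t * (W * y * W) = y := by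
  refine forall_T (P := fun t => t * (W * t * W) = 1 → ∃ y ∈ T, t * (W * y * W) = y)
    (fun c => Bool.rec true (anyC (fun d => force (comp c (tc d)) fun x => Nat.beq x d) TL)
      (Nat.beq (comp c (tc c)) one)) ?_ (by decide +kernel) t ht h1
  intro t h h1
  rw [← code_tau, ← code_mul, h1, code_one, Nat.beq_refl] at h
  obtain ⟨d, hd, h⟩ := anyC_iff.mp h
  obtain ⟨y, hy, hye⟩ := exists_of_mem_TL hd
  refine ⟨y, hy, code_inj ?_⟩
  rw [force_eq] at h
  rw [code_mul, code_tau, hye]
  exact Nat.eq_of_beq_eq_true h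

/-- (c8) -/
theorem fixed_sq {t : Pm} (ht : t ∈ T) (h1 : W * t * W = t) : t * t = 1 := by
  refine forall_T (P := fun t => W * t * W = t → t * t = 1)
    (fun c => Bool.rec true (Nat.beq (sq c) one) (Nat.beq (tc c) c)) ?_ (by decide +kernel) t ht h1
  intro t h h1
  rw [← code_tau, h1, Nat.beq_refl] at h
  apply code_inj
  rw [code_sq, code_one]
  exact Nat.eq_of_beq_eq_true h

theorem card_roots_Z : Nat.card {t : T // (t : Pm) * t = Z} = 24 := by
  refine card_filter (fun t => t * t = Z) (fun c => Nat.beq (sq c) cZ) ?_ 24 (by decide +kernel)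
  intro t
  rw [← code_sq, ← code_Z]
  exact ⟨fun h => eqB (by rw [h]), fun h => code_inj (Nat.eq_of_beq_eq_true h)⟩

theorem card_roots_AZ : Nat.card {t : T // (t : Pm) * t = A * Z} = 24 := by
  refine card_filter (fun t => t * t = A * Z) (fun c => Nat.beq (sq c) cAZ) ?_ 24 (by decide +kernel)
  intro t
  rw [← code_sq, ← code_AZ]
  exact ⟨fun h => eqB (by rw [h]), fun h => code_inj (Nat.eq_of_beq_eq_true h)⟩

/-! ### normalizer -/

/-- word of an element centralizing `A` and not normalizing `T` -/
def wnx : List ℕ := [1,0,2,0,1,0,2,0,1,0,2]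

noncomputable def X0 : Pm := ew A B Z wnx

theorem X0_comm : X0 * A = A * X0 := by
  apply code_inj
  rw [code_mul, code_mul, X0, code_ew, code_A]
  exact Nat.eq_of_beq_eq_true (by decide +kernel)

theorem X0_sq : X0 * X0 = 1 := by
  apply code_inj
  rw [code_sq, X0, code_ew, code_one]
  exact Nat.eq_of_beq_eq_true (by decide +kernel)

theorem X0_not : X0 * G0 * X0⁻¹ ∉ T := by
  rw [show X0⁻¹ = X0 from inv_eq_of_mul_eq_one_left X0_sq, mem_iff, mul_assoc, code_mul, code_mul,
    X0, code_ew, code_G0]
  intro h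
  have h1 : memb (comp (wc wnx) (comp c0 (wc wnx))) TL = false := by decide +kernel
  rw [memb_iff.mpr h] at h1
  exact absurd h1 (by simp)

end Cfsg.Agent.GH.MTwFacts
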