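import Mathlib
import Cfsg.Agent.GH.MTwFacts

/-!
# 2.M12: fusion in a group with a Sylow 2-subgroup of `C(z)` of the form `T` or `T⟨s⟩`
-/

set_option autoImplicit false

open Subgroup

namespace Cfsg.Agent.GH.MTwFus

open Cfsg.Agent.GH.MTwCode (Pm)
open Cfsg.Agent.GH.MTwModel Cfsg.Agent.GH.MTwSyl Cfsg.Agent.GH.MTwFacts

/-- the automorphism of `T` induced by `W` -/
noncomputable def tau (t : T) : T := ⟨W * t * W, tau_mem t.2⟩

theorem tau_mul (t u : T) : tau (t * u) = tau t * tau u := by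
  apply Subtype.ext
  show W * ((t : Pm) * u) * W = (W * t * W) * (W * u * W)
  calc W * ((t : Pm) * u) * W = W * t * 1 * u * W := by group
    _ = W * t * (W * W) * u * W := by rw [W_sq]
    _ = _ := by group

noncomputable def tA : T := ⟨A, A_mem⟩
noncomputable def tZ : T := ⟨Z, Z_mem⟩
noncomputable def t0 : T := ⟨G0, G0_mem⟩
noncomputable def t1 : T := ⟨G1, G1_mem⟩

theorem tau_A : tau tA = tA := Subtype.ext WA
theorem tau_Z : tau tZ = tZ := Subtype.ext WZ

theorem tZ_sq : tZ * tZ = 1 := Subtype.ext rels.hz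
theorem tA_sq : tA * tA = 1 := Subtype.ext rels.ha
theorem tZ_ne : tZ ≠ 1 := fun h => Z_ne_one (congrArg Subtype.val h)
theorem tA_ne : tA ≠ 1 := fun h => A_ne_one (congrArg Subtype.val h)
theorem tA_ne_tZ : tA ≠ tZ := fun h => A_ne_Z (congrArg Subtype.val h)

theorem comm_tZ (t : T) : tZ * t = t * tZ := Subtype.ext (comm_Z t.2)
theorem comm_tA (t : T) : tA * t = t * tA := Subtype.ext (comm_A t.2)

theorem tau_tau (t : T) : tau (tau t) = t := by
  apply Subtype.ext
  show W * (W * t * W) * W = t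
  calc W * (W * (t : Pm) * W) * W = (W * W) * t * (W * W) := by group
    _ = t := by rw [W_sq, one_mul, mul_one]

section

variable {G : Type*} [Group G]

/-- the structure of `P` -/
structure Data (ι : T →* G) (P : Subgroup G) : Prop where
  inj : Function.Injective ι
  le : ∀ t, ι t ∈ P
  out : (∀ x ∈ P, ∃ t, x = ι t) ∨ ∃ s ∈ P, (∀ t, s ≠ ι t) ∧ (∀ x ∈ P, (∃ t, x = ι t) ∨ ∃ t, x = ι t * s) ∧
    (∀ t, s * ι t = ι (tau t) * s) ∧ (s * s = 1 ∨ s * s = ι tZ)

variable {ι : T →* G} {P : Subgroup G}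

theorem outer_sq {s : G} (hs : ∀ t, s * ι t = ι (tau t) * s) (t : T) :
    (ι t * s) * (ι t * s) = ι (t * tau t) * (s * s) := by
  calc (ι t * s) * (ι t * s) = ι t * (s * ι t) * s := by group
    _ = ι t * (ι (tau t) * s) * s := by rw [hs]
    _ = _ := by rw [map_mul]; group

theorem Data.central_Z (h : Data ι P) {x : G} (hx : x ∈ P) : x * ι tZ = ι tZ * x := by
  have h1 : ∀ t, ι t * ι tZ = ι tZ * ι t := fun t => by rw [← map_mul, ← map_mul, comm_tZ]
  rcases h.out with ho | ⟨s, hsP, hs1, hs2, hs3, hs4⟩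
  · obtain ⟨t, rfl⟩ := ho x hx
    exact h1 t
  · rcases hs2 x hx with ⟨t, rfl⟩ | ⟨t, rfl⟩
    · exact h1 t
    · calc ι t * s * ι tZ = ι t * (s * ι tZ) := by group
        _ = ι t * ι tZ * s := by rw [hs3, tau_Z]; group
        _ = _ := by rw [h1]; group

theorem Data.central_A (h : Data ι P) {x : G} (hx : x ∈ P) : x * ι tA = ι tA * x := by
  have h1 : ∀ t, ι t * ι tA = ι tA * ι t := fun t => by rw [← map_mul, ← map_mul, comm_tA]
  rcases h.out with ho | ⟨s, hsP, hs1, hs2, hs3, hs4⟩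
  · obtain ⟨t, rfl⟩ := ho x hx
    exact h1 t
  · rcases hs2 x hx with ⟨t, rfl⟩ | ⟨t, rfl⟩
    · exact h1 t
    · calc ι t * s * ι tA = ι t * (s * ι tA) := by group
        _ = ι t * ι tA * s := by rw [hs3, tau_A]; group
        _ = _ := by rw [h1]; group

theorem four_inner (t : T) : (ι t) ^ 4 = 1 ∨ (ι t) ^ 4 = ι (tA * tZ) := by
  rcases pow_four t.2 with h | h
  · left
    have h1 : t ^ 4 = 1 := Subtype.ext h
    rw [← map_pow, h1, map_one]
  · right
    have h1 : t ^ 4 = tA * tZ := Subtype.ext h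
    rw [← map_pow, h1]

theorem four_outer {s : G} (hs : ∀ t, s * ι t = ι (tau t) * s) (hs2 : s * s = 1 ∨ s * s = ι tZ)
    (t : T) : (ι t * s) ^ 4 = 1 ∨ (ι t * s) ^ 4 = ι tZ := by
  have h1 : (s * s) * (s * s) = 1 := by
    rcases hs2 with h | h
    · rw [h, one_mul]
    · rw [h, ← map_mul, tZ_sq, map_one]
  have h2 : (s * s) * ι (t * tau t) = ι (t * tau t) * (s * s) := by
    rcases hs2 with h | h
    · rw [h, one_mul, mul_one]
    · rw [h, ← map_mul, ← map_mul, comm_tZ]
  rw [pow4, outer_sq hs]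
  have h3 : ι (t * tau t) * (s * s) * (ι (t * tau t) * (s * s)) =
      ι ((t * tau t) * (t * tau t)) := by
    calc ι (t * tau t) * (s * s) * (ι (t * tau t) * (s * s))
        = ι (t * tau t) * ((s * s) * ι (t * tau t)) * (s * s) := by group
      _ = ι (t * tau t) * ι (t * tau t) * ((s * s) * (s * s)) := by rw [h2]; group
      _ = _ := by rw [h1, mul_one]; simp only [map_mul]
  rw [h3]
  rcases outer_pow t.2 with h | h
  · left
    have : (t * tau t) * (t * tau t) = 1 := Subtype.ext h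
    rw [this, map_one]
  · right
    have : (t * tau t) * (t * tau t) = tZ := Subtype.ext h
    rw [this]

/-- injection between root sets -/
theorem root_count [Finite G] (h : Data ι P) {n : G} (hn : ∀ x ∈ P, n * x * n⁻¹ ∈ P) {u v : T}
    (hnu : n * ι u * n⁻¹ = ι v)
    (hv : ∀ x ∈ P, x * x = ι v → ∃ t, x = ι t)
    (hu : ∃ x ∈ P, x * x = ι u ∧ ∀ t, x ≠ ι t)
    (hcu : Nat.card {t : T // t * t = u} = 24) (hcv : Nat.card {t : T // t * t = v} = 24) : False := by
  classical
  obtain ⟨x0, hx0, hx0u, hx0t⟩ := hu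
  -- map from Option {t // t * t = u} to {t // t * t = v}
  have key : ∀ x ∈ P, x * x = ι u → ∃ t : {t : T // t * t = v}, n * x * n⁻¹ = ι t.1 := by
    intro x hx hxu
    have h1 : (n * x * n⁻¹) * (n * x * n⁻¹) = ι v := by
      rw [← hnu, ← hxu]; group
    obtain ⟨t, ht⟩ := hv _ (hn x hx) h1
    refine ⟨⟨t, ?_⟩, ht⟩
    apply h.inj
    rw [map_mul, ← ht, h1]
  let E : Option {t : T // t * t = u} → G := fun o => o.elim x0 (fun t => ι t.1)
  have hE : ∀ o, E o ∈ P ∧ E o * E o = ι u := by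
    rintro (_ | t)
    · exact ⟨hx0, hx0u⟩
    · exact ⟨h.le _, by show ι t.1 * ι t.1 = ι u; rw [← map_mul, t.2]⟩
  have hEinj : Function.Injective E := by
    rintro (_ | t) (_ | t') htt
    · rfl
    · exact absurd htt (hx0t _)
    · exact absurd htt.symm (hx0t _)
    · exact congrArg some (Subtype.ext (h.inj htt))
  let f : Option {t : T // t * t = u} → {t : T // t * t = v} := fun o =>
    (key (E o) (hE o).1 (hE o).2).choose
  have hf : ∀ o, n * E o * n⁻¹ = ι (f o).1 := fun o => (key (E o) (hE o).1 (hE o).2).choose_spec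
  have hfinj : Function.Injective f := by
    intro o o' hoo
    apply hEinj
    have h1 : n * E o * n⁻¹ = n * E o' * n⁻¹ := by rw [hf, hf, hoo]
    exact mul_left_cancel (mul_right_cancel h1)
  have hfin : Finite T := Nat.finite_of_card_ne_zero (by rw [card_T]; norm_num)
  have h1 := Nat.card_le_card_of_injective f hfinj
  rw [Finite.card_option, hcu, hcv] at h1
  omega

theorem card_Z : Nat.card {t : T // t * t = tZ} = 24 := by
  rw [← card_roots_Z]
  refine Nat.card_congr (Equiv.subtypeEquivRight fun t => ?_)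
  exact ⟨fun h => congrArg Subtype.val h, fun h => Subtype.ext h⟩

theorem card_AZ : Nat.card {t : T // t * t = tA * tZ} = 24 := by
  rw [← card_roots_AZ]
  refine Nat.card_congr (Equiv.subtypeEquivRight fun t => ?_)
  exact ⟨fun h => congrArg Subtype.val h, fun h => Subtype.ext h⟩

theorem t0_four : t0 ^ 4 = tA * tZ := Subtype.ext G0_pow_four
theorem t1_four : t1 ^ 4 = tA * tZ := Subtype.ext G1_pow_four
theorem t0t1 : (t0 * t1) * (t0 * t1) = tZ := Subtype.ext G0G1_sq

theorem tAZ_ne_one : tA * tZ ≠ 1 := by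
  intro h
  apply tA_ne_tZ
  calc tA = tA * (tZ * tZ) := by rw [tZ_sq, mul_one]
    _ = (tA * tZ) * tZ := by group
    _ = tZ := by rw [h, one_mul]

theorem tAZ_ne_tZ : tA * tZ ≠ tZ := by
  intro h
  exact tA_ne (mul_eq_right.mp h)

/-- **elements normalizing `P` centralize `z`** -/
theorem Data.normalizer [Finite G] (h : Data ι P) {n : G} (hn : ∀ x, x ∈ P ↔ n * x * n⁻¹ ∈ P) :
    n * ι tZ * n⁻¹ = ι tZ := by
  have hn1 : ∀ x ∈ P, n * x * n⁻¹ ∈ P := fun x hx => (hn x).mp hx
  have hn2 : ∀ x ∈ P, n⁻¹ * x * n⁻¹⁻¹ ∈ P := fun x hx => by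
    rw [hn]
    have : n * (n⁻¹ * x * n⁻¹⁻¹) * n⁻¹ = x := by group
    rw [this]; exact hx
  have hpow : ∀ x : G, (n * x * n⁻¹) ^ 4 = n * x ^ 4 * n⁻¹ := fun x => conj_pow
  -- classification of fourth powers
  have h4 : ∀ x ∈ P, (x ^ 4 = 1 ∨ x ^ 4 = ι tZ) ∨ ((∃ t, x = ι t) ∧ x ^ 4 = ι (tA * tZ)) := by
    intro x hx
    rcases h.out with ho | ⟨s, hsP, hs1, hs2, hs3, hs4⟩
    · obtain ⟨t, rfl⟩ := ho x hx
      rcases four_inner (ι := ι) t with h1 | h1
      · exact Or.inl (Or.inl h1)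
      · exact Or.inr ⟨⟨t, rfl⟩, h1⟩
    · rcases hs2 x hx with ⟨t, rfl⟩ | ⟨t, rfl⟩
      · rcases four_inner (ι := ι) t with h1 | h1
        · exact Or.inl (Or.inl h1)
        · exact Or.inr ⟨⟨t, rfl⟩, h1⟩
      · exact Or.inl (four_outer hs3 hs4 t)
  have hAZ : n * ι (tA * tZ) * n⁻¹ = ι (tA * tZ) ∨ n * ι (tA * tZ) * n⁻¹ = ι tZ := by
    have h1 : (n * ι t0 * n⁻¹) ^ 4 = n * ι (tA * tZ) * n⁻¹ := by
      rw [hpow, ← map_pow, t0_four]
    rcases h4 _ (hn1 _ (h.le t0)) with (h2 | h2) | ⟨_, h2⟩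
    · exfalso
      rw [h1, mul_inv_eq_one, mul_eq_left] at h2
      exact tAZ_ne_one (h.inj (by rw [h2, map_one]))
    · right; rw [← h1, h2]
    · left; rw [← h1, h2]
  rcases hAZ with hAZ | hAZ
  · -- `az` is fixed
    have hy : ∀ t : T, t ^ 4 = tA * tZ → ∃ u, n * ι t * n⁻¹ = ι u := by
      intro t ht
      have h1 : (n * ι t * n⁻¹) ^ 4 = ι (tA * tZ) := by
        rw [hpow, ← map_pow, ht, hAZ]
      rcases h4 _ (hn1 _ (h.le t)) with (h2 | h2) | ⟨h2, _⟩
      · exfalso
        rw [h1] at h2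
        exact tAZ_ne_one (h.inj (by rw [h2, map_one]))
      · exfalso
        rw [h1] at h2
        exact tAZ_ne_tZ (h.inj h2)
      · exact h2
    obtain ⟨u0, hu0⟩ := hy t0 t0_four
    obtain ⟨u1, hu1⟩ := hy t1 t1_four
    have h5 : n * ι tZ * n⁻¹ = ι ((u0 * u1) * (u0 * u1)) := by
      rw [← t0t1, map_mul, map_mul, map_mul, map_mul, ← hu0, ← hu1]; group
    set v := (u0 * u1) * (u0 * u1) with hv
    have h6 : ∀ w : T, w * v = v * w := by
      intro w
      apply h.inj
      rw [map_mul ι w v, map_mul ι v w, ← h5]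
      have h7 := h.central_Z (hn2 _ (h.le w))
      calc ι w * (n * ι tZ * n⁻¹) = n * ((n⁻¹ * ι w * n⁻¹⁻¹) * ι tZ) * n⁻¹ := by group
        _ = n * (ι tZ * (n⁻¹ * ι w * n⁻¹⁻¹)) * n⁻¹ := by rw [h7]
        _ = n * ι tZ * n⁻¹ * ι w := by group
    have h7 : (v : Pm) = 1 ∨ (v : Pm) = A ∨ (v : Pm) = Z ∨ (v : Pm) = A * Z :=
      MTwFacts.center v.2 fun u hu => congrArg Subtype.val (h6 ⟨u, hu⟩)
    rcases h7 with h7 | h7 | h7 | h7
    · exfalso
      have h8 : v = 1 := Subtype.ext h7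
      rw [h8, map_one, mul_inv_eq_one, mul_eq_left] at h5
      exact tZ_ne (h.inj (by rw [h5, map_one]))
    · exfalso
      exact sq_ne_A (u0 * u1).2 h7
    · have h8 : v = tZ := Subtype.ext h7
      rw [h5, h8]
    · exfalso
      have h8 : v = tA * tZ := Subtype.ext h7
      rw [h8, ← hAZ] at h5
      have h9 := h.inj (mul_left_cancel (mul_right_cancel h5))
      exact tAZ_ne_tZ h9.symm
  · -- `az ↦ z`
    exfalso
    rcases h.out with ho | ⟨s, hsP, hs1, hs2, hs3, hs4⟩
    · -- inner case: `z` is not a fourth power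
      have h1 : (n * ι t0 * n⁻¹) ^ 4 = ι tZ := by
        rw [hpow, ← map_pow, t0_four, hAZ]
      obtain ⟨t, ht⟩ := ho _ (hn1 _ (h.le t0))
      rw [ht] at h1
      rcases four_inner (ι := ι) t with h2 | h2
      · rw [h1] at h2; exact tZ_ne (h.inj (by rw [h2, map_one]))
      · rw [h1] at h2; exact tAZ_ne_tZ (h.inj h2).symm
    · rcases hs4 with hs4 | hs4
      · -- `s² = 1`
        refine root_count h hn1 hAZ ?_ ?_ card_AZ card_Z
        · intro x hx hxx
          rcases hs2 x hx with h1 | ⟨t, rfl⟩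
          · exact h1
          · exfalso
            rw [outer_sq hs3, hs4, mul_one] at hxx
            exact outer_ne_Z t.2 (congrArg Subtype.val (h.inj hxx))
        · obtain ⟨t, ht, hte⟩ := exists_outer_AZ
          refine ⟨ι ⟨t, ht⟩ * s, P.mul_mem (h.le _) hsP, ?_, ?_⟩
          · rw [outer_sq hs3, hs4, mul_one]
            congr 1
            exact Subtype.ext hte
          · intro u hu
            apply hs1 (⟨t, ht⟩⁻¹ * u)
            rw [map_mul, map_inv, ← hu]; group
      · -- `s² = z`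
        have hAZ' : n⁻¹ * ι tZ * n⁻¹⁻¹ = ι (tA * tZ) := by
          rw [← hAZ]; group
        refine root_count h hn2 hAZ' ?_ ?_ card_Z card_AZ
        · intro x hx hxx
          rcases hs2 x hx with h1 | ⟨t, rfl⟩
          · exact h1
          · exfalso
            rw [outer_sq hs3, hs4, ← map_mul] at hxx
            have h1 := h.inj hxx
            exact outer_ne_A t.2 (congrArg Subtype.val (mul_right_cancel h1))
        · exact ⟨s, hsP, hs4, hs1⟩

/-- `P` absorbs the 2-subgroups of the centralizer of `z` -/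
def Absorb (P : Subgroup G) (z : G) : Prop :=
  ∀ Q : Subgroup G, IsPGroup 2 Q → (∀ x ∈ Q, x * z = z * x) →
    ∃ c, c * z * c⁻¹ = z ∧ ∀ x ∈ Q, c * x * c⁻¹ ∈ P

theorem exists_sylow [Finite G] (h : Data ι P) (hP : IsPGroup 2 P) (ha : Absorb P (ι tZ)) :
    ∃ S : Sylow 2 G, (S : Subgroup G) = P := by
  obtain ⟨S, hS⟩ := hP.exists_le_sylow
  refine ⟨S, le_antisymm ?_ hS⟩
  by_contra hcon
  -- an element of the normalizer of `P` in `S` outside of `P`
  have hp2 : Fact (Nat.Prime 2) := ⟨Nat.prime_two⟩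
  have hnil : Group.IsNilpotent S := S.2.isNilpotent
  have hlt : P.subgroupOf (S : Subgroup G) < ⊤ := by
    rw [lt_top_iff_ne_top]
    intro htop
    exact hcon (subgroupOf_eq_top.mp htop)
  have hlt2 := Group.normalizerCondition_of_isNilpotent (P.subgroupOf (S : Subgroup G)) hlt
  obtain ⟨x, hxn, hxP⟩ := SetLike.exists_of_lt hlt2
  have hxn' : ∀ y, y ∈ P ↔ (x : G) * y * (x : G)⁻¹ ∈ P := by
    intro y
    constructor
    · intro hy
      have := (mem_normalizer_iff.mp hxn ⟨y, hS hy⟩).mp hy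
      exact this
    · intro hy
      have hyS : y ∈ (S : Subgroup G) := by
        have h1 : (x : G)⁻¹ * ((x : G) * y * (x : G)⁻¹) * x = y := by group
        rw [← h1]
        exact mul_mem (mul_mem (inv_mem x.2) (hS hy)) x.2
      exact (mem_normalizer_iff.mp hxn ⟨y, hyS⟩).mpr hy
  have hxz := h.normalizer hxn'
  set Q : Subgroup G := P ⊔ zpowers (x : G) with hQ
  have hQS : Q ≤ S := sup_le hS (by rw [zpowers_le]; exact x.2)
  have hQp : IsPGroup 2 Q := S.2.to_le hQS
  have hQc : Q ≤ centralizer {ι tZ} := by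
    refine sup_le ?_ ?_
    · intro y hy
      rw [mem_centralizer_singleton_iff]
      exact (h.central_Z hy)
    · rw [zpowers_le, mem_centralizer_singleton_iff]
      rw [mul_inv_eq_iff_eq_mul] at hxz
      exact hxz
  obtain ⟨c, hc, hcQ⟩ := ha Q hQp fun y hy => mem_centralizer_singleton_iff.mp (hQc hy)
  have h1 : Nat.card Q ≤ Nat.card P := by
    refine Nat.card_le_card_of_injective (fun y : Q => (⟨c * y * c⁻¹, hcQ y y.2⟩ : P)) ?_
    intro y y' hyy
    have := congrArg Subtype.val hyy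
    exact Subtype.ext (mul_left_cancel (mul_right_cancel this))
  have h2 : P = Q := Subgroup.eq_of_le_of_card_ge le_sup_left h1
  apply hxP
  show (x : G) ∈ P
  rw [h2]
  exact (le_sup_right : zpowers (x : G) ≤ Q) (mem_zpowers _)

/-- a central element of `P` conjugate to `z` is `z` -/
theorem central_conj [Finite G] (h : Data ι P) (hP : IsPGroup 2 P) (ha : Absorb P (ι tZ)) {t : G}
    (ht : ∀ x ∈ P, x * t = t * x) {g : G} (hg : g * ι tZ * g⁻¹ = t) : t = ι tZ := by
  have hp2 : Fact (Nat.Prime 2) := ⟨Nat.prime_two⟩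
  obtain ⟨S, rfl⟩ := exists_sylow h hP ha
  obtain ⟨n, hn, hnt⟩ := Sylow.conj_eq_normalizer_conj_of_mem_centralizer S (ι tZ) g⁻¹
    (by
      rw [mem_centralizer_iff]
      exact fun x hx => h.central_Z hx)
    (by
      rw [mem_centralizer_iff, inv_inv, hg]
      exact fun x hx => ht x hx)
  rw [inv_inv, hg] at hnt
  have hn' : n⁻¹ ∈ normalizer ((S : Subgroup G) : Set G) := inv_mem hn
  have h1 := h.normalizer (n := n⁻¹) (fun x => mem_normalizer_iff.mp hn' x)
  rw [hnt]
  rw [inv_inv] at h1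
  exact h1

/-- **main fusion lemma** -/
theorem isolated [Finite G] (h : Data ι P) (hP : IsPGroup 2 P) (ha : Absorb P (ι tZ))
    (hinv : ∀ t : T, t * t = 1 → t ≠ 1 → t ≠ tZ →
      ∃ g, g * ι t * g⁻¹ = ι tA ∨ g * ι t * g⁻¹ = ι (tA * tZ)) :
    ∀ g : G, g * ι tZ * g⁻¹ ∈ P → g * ι tZ * g⁻¹ = ι tZ := by
  have hA : ∀ g : G, g * ι tZ * g⁻¹ ≠ ι tA := by
    intro g hg
    have h1 := central_conj h hP ha (fun x hx => h.central_A hx) hg
    exact tA_ne_tZ (h.inj h1)
  have hAZ : ∀ g : G, g * ι tZ * g⁻¹ ≠ ι (tA * tZ) := by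
    intro g hg
    have h1 := central_conj h hP ha (t := ι (tA * tZ)) (fun x hx => by
      rw [map_mul, ← mul_assoc, h.central_A hx, mul_assoc, h.central_Z hx, mul_assoc]) hg
    exact tAZ_ne_tZ (h.inj h1)
  have hzz : ι tZ * ι tZ = 1 := by rw [← map_mul, tZ_sq, map_one]
  have hz1 : ι tZ ≠ 1 := fun h1 => tZ_ne (h.inj (by rw [h1, map_one]))
  -- elements of the range
  have hrange : ∀ (g : G) (t : T), g * ι tZ * g⁻¹ = ι t → t = tZ := by
    intro g t hg
    by_contra hne
    have h1 : t * t = 1 := by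
      apply h.inj
      rw [map_mul, ← hg, map_one]
      calc g * ι tZ * g⁻¹ * (g * ι tZ * g⁻¹) = g * (ι tZ * ι tZ) * g⁻¹ := by group
        _ = 1 := by rw [hzz]; group
    have h2 : t ≠ 1 := by
      rintro rfl
      rw [map_one, mul_inv_eq_one, mul_eq_left] at hg
      exact hz1 hg
    obtain ⟨k, hk | hk⟩ := hinv t h1 h2 hne
    · apply hA (k * g)
      rw [← hk, ← hg]; group
    · apply hAZ (k * g)
      rw [← hk, ← hg]; group
  rcases h.out with ho | ⟨s, hsP, hs1, hs2, hs3, hs4⟩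
  · intro g hg
    obtain ⟨t, ht⟩ := ho _ hg
    rw [ht, hrange g t ht]
  · rcases hs4 with hs4 | hs4
    · -- `s² = 1`
      have houter : ∀ t : T, (ι t * s) * (ι t * s) = 1 → ∃ y : T, ι t * s = ι y * s * (ι y)⁻¹ := by
        intro t ht
        rw [outer_sq hs3, hs4, mul_one] at ht
        have h1 : t * tau t = 1 := h.inj (by rw [ht, map_one])
        obtain ⟨y, hy, hye⟩ := outer_one t.2 (congrArg Subtype.val h1)
        refine ⟨⟨y, hy⟩, ?_⟩
        have h2 : t * tau ⟨y, hy⟩ = ⟨y, hy⟩ := Subtype.ext hye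
        have h3 : s * (ι ⟨y, hy⟩)⁻¹ = (ι (tau ⟨y, hy⟩))⁻¹ * s := by
          have h4 := hs3 ⟨y, hy⟩
          rw [eq_inv_mul_iff_mul_eq, ← mul_assoc, ← h4, mul_inv_cancel_right]
        rw [mul_assoc, h3, ← mul_assoc]
        congr 1
        rw [eq_mul_inv_iff_mul_eq, ← map_mul, h2]
      intro g hg
      by_contra hne
      -- `s` is conjugate to `z`
      have hgsq : (g * ι tZ * g⁻¹) * (g * ι tZ * g⁻¹) = 1 := by
        calc g * ι tZ * g⁻¹ * (g * ι tZ * g⁻¹) = g * (ι tZ * ι tZ) * g⁻¹ := by group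
          _ = 1 := by rw [hzz]; group
      obtain ⟨g0, hg0⟩ : ∃ g0, g0 * s * g0⁻¹ = ι tZ := by
        rcases hs2 _ hg with ⟨t, ht⟩ | ⟨t, ht⟩
        · exact absurd (by rw [ht, hrange g t ht]) hne
        · rw [ht] at hgsq
          obtain ⟨y, hy⟩ := houter t hgsq
          rw [← ht] at hy
          refine ⟨g⁻¹ * ι y, ?_⟩
          calc g⁻¹ * ι y * s * (g⁻¹ * ι y)⁻¹ = g⁻¹ * (ι y * s * (ι y)⁻¹) * g := by group
            _ = ι tZ := by rw [← hy]; group
      -- the elementary abelian subgroup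
      set E : Subgroup G := P ⊓ centralizer {s} with hE
      have hEmem : ∀ x, x ∈ E ↔ x ∈ P ∧ x * s = s * x := by
        intro x
        rw [hE, mem_inf, mem_centralizer_singleton_iff]
      have hEsq : ∀ x ∈ E, x * x = 1 := by
        intro x hx
        obtain ⟨hxP, hxs⟩ := (hEmem x).mp hx
        have key : ∀ t : T, ι t * s = s * ι t → t * t = 1 := by
          intro t ht
          rw [hs3] at ht
          have h1 : tau t = t := h.inj (mul_right_cancel ht).symm
          exact Subtype.ext (fixed_sq t.2 (congrArg Subtype.val h1))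
        rcases hs2 x hxP with ⟨t, rfl⟩ | ⟨t, rfl⟩
        · rw [← map_mul, key t hxs, map_one]
        · have h1 : ι t * s = s * ι t := by
            have h2 : ι t * s * s = s * ι t * s := by rw [hxs]; group
            exact mul_right_cancel h2
          calc ι t * s * (ι t * s) = ι t * s * (s * ι t) := by rw [← h1]
            _ = ι t * (s * s) * ι t := by group
            _ = 1 := by rw [hs4, mul_one, ← map_mul, key t h1, map_one]
      have hEcomm : ∀ x ∈ E, ∀ y ∈ E, x * y = y * x := by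
        intro x hx y hy
        have h1 := hEsq _ (E.mul_mem hx hy)
        have h2 : x * y = (x * y)⁻¹ := eq_inv_of_mul_eq_one_left h1
        rw [mul_inv_rev, inv_eq_of_mul_eq_one_left (hEsq x hx),
          inv_eq_of_mul_eq_one_left (hEsq y hy)] at h2
        exact h2
      have hEp : IsPGroup 2 E := hP.to_le inf_le_left
      -- move `E` into `P`
      obtain ⟨k, hkz, hkE⟩ := ha (E.map (MulAut.conj g0).toMonoidHom) (hEp.map _) (by
        rintro _ ⟨x, hx, rfl⟩
        show g0 * x * g0⁻¹ * ι tZ = ι tZ * (g0 * x * g0⁻¹)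
        rw [← hg0]
        have h1 := ((hEmem x).mp hx).2
        calc g0 * x * g0⁻¹ * (g0 * s * g0⁻¹) = g0 * (x * s) * g0⁻¹ := by group
          _ = g0 * (s * x) * g0⁻¹ := by rw [h1]
          _ = _ := by group)
      set g1 := k * g0 with hg1
      have hg1s : g1 * s * g1⁻¹ = ι tZ := by
        calc g1 * s * g1⁻¹ = k * (g0 * s * g0⁻¹) * k⁻¹ := by rw [hg1]; group
          _ = ι tZ := by rw [hg0, hkz]
      have hg1E : ∀ x ∈ E, g1 * x * g1⁻¹ ∈ P := by
        intro x hx
        have h1 := hkE (g0 * x * g0⁻¹) ⟨x, hx, rfl⟩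
        have h2 : k * (g0 * x * g0⁻¹) * k⁻¹ = g1 * x * g1⁻¹ := by rw [hg1]; group
        rwa [← h2]
      have hzE : ι tZ ∈ E := (hEmem _).mpr ⟨h.le _, by rw [hs3, tau_Z]⟩
      have hsE : s ∈ E := (hEmem _).mpr ⟨hsP, rfl⟩
      have hAE : ι tA ∈ E := (hEmem _).mpr ⟨h.le _, by rw [hs3, tau_A]⟩
      -- the image of `z` is outer
      obtain ⟨y, hy⟩ : ∃ y : T, g1 * ι tZ * g1⁻¹ = ι y * s * (ι y)⁻¹ := by
        rcases hs2 _ (hg1E _ hzE) with ⟨t, ht⟩ | ⟨t, ht⟩
        · exfalso
          have h1 := hrange g1 t ht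
          have h2 : g1 * ι tZ * g1⁻¹ = g1 * s * g1⁻¹ := by rw [ht, h1, hg1s]
          have h3 := mul_left_cancel (mul_right_cancel h2)
          exact hs1 tZ h3.symm
        · have h1 : (ι t * s) * (ι t * s) = 1 := by
            rw [← ht]
            calc g1 * ι tZ * g1⁻¹ * (g1 * ι tZ * g1⁻¹) = g1 * (ι tZ * ι tZ) * g1⁻¹ := by group
              _ = 1 := by rw [hzz]; group
          obtain ⟨y, hy⟩ := houter t h1
          exact ⟨y, by rw [ht, hy]⟩
      set g2 := (ι y)⁻¹ * g1 with hg2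
      have hg2s : g2 * s * g2⁻¹ = ι tZ := by
        calc g2 * s * g2⁻¹ = (ι y)⁻¹ * (g1 * s * g1⁻¹) * ι y := by rw [hg2]; group
          _ = (ι y)⁻¹ * (ι tZ * ι y) := by rw [hg1s]; group
          _ = (ι y)⁻¹ * (ι y * ι tZ) := by rw [← map_mul, ← map_mul, comm_tZ]
          _ = ι tZ := by group
      have hg2z : g2 * ι tZ * g2⁻¹ = s := by
        calc g2 * ι tZ * g2⁻¹ = (ι y)⁻¹ * (g1 * ι tZ * g1⁻¹) * ι y := by rw [hg2]; group
          _ = s := by rw [hy]; group
      -- `g2` normalizes `E`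
      have hg2E : ∀ x ∈ E, g2 * x * g2⁻¹ ∈ E := by
        intro x hx
        rw [hEmem]
        constructor
        · have h1 : g2 * x * g2⁻¹ = (ι y)⁻¹ * (g1 * x * g1⁻¹) * ι y := by rw [hg2]; group
          rw [h1]
          exact P.mul_mem (P.mul_mem (P.inv_mem (h.le y)) (hg1E x hx)) (h.le y)
        · rw [← hg2z]
          calc g2 * x * g2⁻¹ * (g2 * ι tZ * g2⁻¹) = g2 * (x * ι tZ) * g2⁻¹ := by group
            _ = g2 * (ι tZ * x) * g2⁻¹ := by rw [hEcomm x hx _ hzE]
            _ = _ := by group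
      have hg2E' : ∀ x ∈ E, g2⁻¹ * x * g2 ∈ E := by
        have h1 : E.map (MulAut.conj g2).toMonoidHom ≤ E := by
          rintro _ ⟨x, hx, rfl⟩
          exact hg2E x hx
        have h2 : E.map (MulAut.conj g2).toMonoidHom = E := by
          refine Subgroup.eq_of_le_of_card_ge h1 ?_
          rw [Subgroup.card_map_of_injective (MulAut.conj g2).injective]
        intro x hx
        rw [← h2] at hx
        obtain ⟨w, hw, rfl⟩ := hx
        have h3 : g2⁻¹ * (MulAut.conj g2).toMonoidHom w * g2 = w := by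
          show g2⁻¹ * (g2 * w * g2⁻¹) * g2 = w
          group
        rw [h3]; exact hw
      -- elements of `E` not conjugate to `z` are inner
      have hinner : ∀ x ∈ E, x ≠ 1 → (∀ g, g * ι tZ * g⁻¹ ≠ x) → ∃ t, g2⁻¹ * x * g2 = ι t := by
        intro x hx hx1 hxz
        have h1 := hg2E' x hx
        rcases hs2 _ ((hEmem _).mp h1).1 with h2 | ⟨t, ht⟩
        · exact h2
        · exfalso
          have h3 := hEsq _ h1
          rw [ht] at h3
          obtain ⟨w, hw⟩ := houter t h3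
          rw [← ht] at hw
          apply hxz (g2 * ι w * g2⁻¹)
          calc g2 * ι w * g2⁻¹ * ι tZ * (g2 * ι w * g2⁻¹)⁻¹
              = g2 * (ι w * (g2⁻¹ * ι tZ * g2) * (ι w)⁻¹) * g2⁻¹ := by group
            _ = g2 * (ι w * s * (ι w)⁻¹) * g2⁻¹ := by
              have h4 : g2⁻¹ * ι tZ * g2 = s := by rw [← hg2s]; group
              rw [h4]
            _ = g2 * (g2⁻¹ * x * g2) * g2⁻¹ := by rw [hw]
            _ = x := by group
      obtain ⟨u, hu⟩ := hinner (ι tA) hAE (fun h1 => tA_ne (h.inj (by rw [h1, map_one]))) hA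
      obtain ⟨v, hv⟩ := hinner (ι (tA * tZ)) (by rw [map_mul]; exact E.mul_mem hAE hzE)
        (fun h1 => tAZ_ne_one (h.inj (by rw [h1, map_one]))) hAZ
      apply hs1 (u * v)
      rw [map_mul, ← hu, ← hv]
      calc s = g2⁻¹ * ι tZ * g2 := by rw [← hg2s]; group
        _ = g2⁻¹ * ι (tA * (tA * tZ)) * g2 := by
          have h5 : tA * (tA * tZ) = tZ := by rw [← mul_assoc, tA_sq, one_mul]
          rw [h5]
        _ = g2⁻¹ * (ι tA * ι (tA * tZ)) * g2 := by rw [map_mul]
        _ = _ := by group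
    · -- `s² = z`: no outer involutions
      intro g hg
      rcases hs2 _ hg with ⟨t, ht⟩ | ⟨t, ht⟩
      · rw [ht, hrange g t ht]
      · exfalso
        have hgsq : (g * ι tZ * g⁻¹) * (g * ι tZ * g⁻¹) = 1 := by
          calc g * ι tZ * g⁻¹ * (g * ι tZ * g⁻¹) = g * (ι tZ * ι tZ) * g⁻¹ := by group
            _ = 1 := by rw [hzz]; group
        rw [ht, outer_sq hs3, hs4, ← map_mul] at hgsq
        have h1 : t * tau t * tZ = 1 := h.inj (by rw [hgsq, map_one])
        have h2 : t * tau t = tZ := by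
          calc t * tau t = t * tau t * (tZ * tZ) := by rw [tZ_sq, mul_one]
            _ = (t * tau t * tZ) * tZ := by group
            _ = tZ := by rw [h1, one_mul]
        exact outer_ne_Z t.2 (congrArg Subtype.val h2)

end

end Cfsg.Agent.GH.MTwFus
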