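import Mathlib
import Cfsg.Agent.CoThreeStd.MTwelveCent
import Cfsg.Agent.GH.MTwFacts

/-!
# 2.M12: every perfect double cover of M12 is isomorphic to the model
-/

set_option autoImplicit false
set_option maxRecDepth 100000

open Subgroup
open scoped commutatorElement

namespace Cfsg.Agent.GH.MTwCover

open Cfsg.Agent.CoThreeStd.MTwelve (H wd wd_append wd_nil wd_cons wd_eq wd_reverse eqW cj wd_cj
  inv_class card_H closure_gen)
open Cfsg.Agent.GH.MTwBound Cfsg.Agent.GH.MTwModel Cfsg.Agent.GH.MTwSyl Cfsg.Agent.GH.MTwFacts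
open Cfsg.Agent.GH.MTwCode (Pm)

/-! ### words in M12 -/

/-- the letters `a, b, b⁻¹` in terms of the involutory generators -/
def ex : ℕ → List ℕ
  | 0 => [1, 3]
  | 1 => [2, 1, 5]
  | 2 => [5, 1, 2]
  | _ => []

def a0 : H := wd [1, 3]
def b0 : H := wd [2, 1, 5]

theorem a0_eq : a0 = Cfsg.Agent.CoThreeStd.MTwelve.p * Cfsg.Agent.CoThreeStd.MTwelve.r :=
  Cfsg.Agent.CoThreeStd.MTwelve.wd_pr

theorem b0_inv : b0⁻¹ = wd [5, 1, 2] := by rw [b0, wd_reverse]; rfl

theorem lt_wd (x : ℕ) : lt a0 b0 1 x = wd (ex x) := by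
  rcases x with _ | _ | _ | _ | x
  · rfl
  · rfl
  · exact b0_inv
  · rfl
  · rfl

theorem ew_wd (w : List ℕ) : ew a0 b0 1 w = wd (w.flatMap ex) := by
  induction w with
  | nil => rfl
  | cons x w ih => rw [ew_cons, ih, lt_wd, List.flatMap_cons, wd_append]

theorem ew_eq_wd {w v : List ℕ} (h : eqW (w.flatMap ex) v = true) : ew a0 b0 1 w = wd v := by
  rw [ew_wd]; exact wd_eq h

theorem ew_eq_conj {w m : List ℕ} {x : List ℕ} (h : eqW (w.flatMap ex) (cj x m) = true) :
    (wd m)⁻¹ * wd x * wd m = ew a0 b0 1 w := by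
  rw [ew_eq_wd h, wd_cj]

theorem ew_mem {X : Type*} [Group X] (a b : X) (w : List ℕ) : ew a b 1 w ∈ closure {a, b} := by
  have ha : a ∈ closure {a, b} := subset_closure (by simp)
  have hb : b ∈ closure {a, b} := subset_closure (by simp)
  induction w with
  | nil => exact one_mem _
  | cons x w ih =>
    rw [ew_cons]
    refine mul_mem ?_ ih
    rcases x with _ | _ | _ | _ | x
    · exact ha
    · exact hb
    · exact inv_mem hb
    · exact one_mem _
    · exact one_mem _

def LWY : List ℕ := [0,1,0,1,0,1,0,1,0,2,0,2,0,2,0,1,0,1,0,2,0,2,0,1,0,2,0,2,0,2,0,1,0,2,0,1,0,2]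
def LWP : List ℕ := [2,0,1,0,2,0,1,0,2,0,2,0,2,0,1,0,2,0,2,0,1,0,1,0,2,0,2,0,2,0,1,0,1,0,1,0,1]
def LWQ : List ℕ := [0,2,0,2,0,2,0,2,0,1,0,2,0,2,0,2,0,1,0,1,0,2,0,2,0,2,0,1]
def LWR : List ℕ := [0,2,0,1,0,2,0,1,0,2,0,2,0,2,0,1,0,2,0,2,0,1,0,1,0,2,0,2,0,2,0,1,0,1,0,1,0,1]
def LWS : List ℕ := [0,2,0,1,0,2,0,1,0,2,0,2,0,2,0,1,0,1,0,2,0,2,0,2,0,1]
def LWB : List ℕ := [1,0,1,0,2,0,2,0,2,0,1,0,1,0,2,0,1,0,1,0,1,0,2,0,1]

theorem closure_ab : closure {a0, b0} = (⊤ : Subgroup H) := by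
  rw [eq_top_iff, ← closure_gen, closure_le]
  have key : ∀ (i : ℕ) (w : List ℕ), eqW (w.flatMap ex) [i] = true → wd [i] ∈ closure {a0, b0} := by
    intro i w h
    rw [← ew_eq_wd h]
    exact ew_mem _ _ _
  rintro x hx
  simp only [Set.mem_insert_iff, Set.mem_singleton_iff] at hx
  have L : ∀ i, wd [i] = Cfsg.Agent.CoThreeStd.MTwelve.gen i := fun i => by rw [wd_cons, wd_nil, mul_one]
  rcases hx with rfl | rfl | rfl | rfl | rfl | rfl
  · have := key 0 LWY (by decide +kernel)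
    rwa [L] at this
  · have := key 1 LWP (by decide +kernel)
    rwa [L] at this
  · have := key 2 LWQ (by decide +kernel)
    rwa [L] at this
  · have := key 3 LWR (by decide +kernel)
    rwa [L] at this
  · have := key 4 LWS (by decide +kernel)
    rwa [L] at this
  · have := key 5 LWB (by decide +kernel)
    rwa [L] at this

theorem ab11 : (a0 * b0) ^ 11 = 1 := by
  have h : ew a0 b0 1 [0,1,0,1,0,1,0,1,0,1,0,1,0,1,0,1,0,1,0,1,0,1] = wd [] :=
    ew_eq_wd (by decide +kernel)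
  rw [wd_nil] at h
  rw [← h]
  simp only [ew_cons, ew_nil, lt, mul_one, pow_succ, pow_zero, one_mul, mul_assoc]

theorem b03 : b0 ^ 3 = 1 := by
  have h : ew a0 b0 1 [1,1,1] = wd [] :=
    ew_eq_wd (by decide +kernel)
  rw [wd_nil] at h
  rw [← h]
  simp only [ew_cons, ew_nil, lt, mul_one, pow_succ, pow_zero, one_mul, mul_assoc]

/-! ### double covers -/

/-- perfect double covers of M12 -/
structure Cov {X : Type*} [Group X] (π : X →* H) (z : X) : Prop where
  surj : Function.Surjective π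
  ker : ∀ x, π x = 1 → x = 1 ∨ x = z
  hz : z * z = 1
  hz1 : z ≠ 1
  hπz : π z = 1
  comm : ∀ x, z * x = x * z
  perfect : commutator X = ⊤

section cov

variable {X : Type*} [Group X] {π : X →* H} {z : X}

theorem Cov.eq_or (h : Cov π z) {x y : X} (hxy : π x = π y) : x = y ∨ x = y * z := by
  have h1 : π (y⁻¹ * x) = 1 := by rw [map_mul, map_inv, hxy, inv_mul_cancel]
  rcases h.ker _ h1 with h2 | h2
  · left; exact (inv_mul_eq_one.mp h2).symm
  · right; rw [← h2, mul_inv_cancel_left]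

theorem Cov.sq_z (h : Cov π z) (x : X) : (x * z) * (x * z) = x * x := by
  calc (x * z) * (x * z) = x * (z * x) * z := by group
    _ = x * x * (z * z) := by rw [h.comm]; group
    _ = x * x := by rw [h.hz, mul_one]

/-- lifts of conjugate elements: the squares agree if one is central -/
theorem Cov.sq_conj (h : Cov π z) {x y : X} {c : H} (hc : c⁻¹ * π x * c = π y)
    (hx : ∀ g, g * (x * x) = (x * x) * g) : y * y = x * x := by
  obtain ⟨g, rfl⟩ := h.surj c
  have h1 : π y = π (g⁻¹ * x * g) := by rw [map_mul, map_mul, map_inv, hc]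
  have h2 : (g⁻¹ * x * g) * (g⁻¹ * x * g) = x * x := by
    calc (g⁻¹ * x * g) * (g⁻¹ * x * g) = g⁻¹ * ((x * x) * g) := by group
      _ = g⁻¹ * (g * (x * x)) := by rw [hx]
      _ = x * x := by group
  rcases h.eq_or h1 with h3 | h3
  · rw [h3, h2]
  · rw [h3, h.sq_z, h2]

theorem Cov.central (h : Cov π z) {x : X} (hx : π x = 1) (g : X) : g * x = x * g := by
  rcases h.ker x hx with h1 | h1
  · rw [h1, mul_one, one_mul]
  · rw [h1, h.comm]

theorem a0_sq : a0 * a0 = 1 := by
  have h : eqW ([1, 3] ++ [1, 3]) [] = true := by decide +kernel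
  have := wd_eq h
  rwa [wd_append, wd_nil] at this

/-- the semidihedral group -/
def wr : List ℕ := [1, 2, 5, 3]
def ws : List ℕ := [2, 3, 2, 4, 3, 2]

/-- lifts of elements of type 2B are involutions -/
theorem Cov.sq_eq_one (h : Cov π z) {x : X} {c : H} (hc : c⁻¹ * a0 * c = π x) : x * x = 1 := by
  obtain ⟨v, hv⟩ := h.surj a0
  have hvc : ∀ g, g * (v * v) = (v * v) * g := h.central (by rw [map_mul, hv, a0_sq])
  -- all lifts have the same square
  have key : ∀ {x : X} {c : H}, c⁻¹ * a0 * c = π x → x * x = v * v := by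
    intro x c hc
    exact h.sq_conj (by rw [hv]; exact hc) hvc
  have hν : (v * v) * (v * v) = 1 := by
    rcases h.ker (v * v) (by rw [map_mul, hv, a0_sq]) with h1 | h1
    · rw [h1, mul_one]
    · rw [h1, h.hz]
  rw [key hc]
  obtain ⟨r, hr⟩ := h.surj (wd wr)
  obtain ⟨s, hs⟩ := h.surj (wd ws)
  have hs2 : s * s = v * v := key (c := wd [2, 1, 4, 3, 2, 1]) (by
    rw [hs, a0, ← wd_cj]; exact wd_eq (by decide +kernel))
  have hsr2 : (s * (r * r)) * (s * (r * r)) = v * v := key (c := wd [2, 4, 5, 0, 4, 3]) (by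
    rw [map_mul, map_mul, hs, hr, a0, ← wd_cj, ← wd_append, ← wd_append]
    exact wd_eq (by decide +kernel))
  have hr4 : (r * r * (r * r)) * (r * r * (r * r)) = v * v := key (c := wd [4, 5, 1, 3, 4]) (by
    rw [map_mul, map_mul, hr, a0, ← wd_cj, ← wd_append, ← wd_append]
    exact wd_eq (by decide +kernel))
  have hc3 : π (s * r) = π (r * r * r * s) := by
    rw [map_mul, map_mul, map_mul, map_mul, hs, hr, ← wd_append, ← wd_append, ← wd_append,
      ← wd_append]
    exact wd_eq (by decide +kernel)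
  -- `s r² = r⁶ s`
  have h6 : s * (r * r) = (r * r * r) * (r * r * r) * s := by
    have h1 : ∃ e, (s * r = r * r * r * s * e) ∧ e * e = 1 ∧ ∀ g, g * e = e * g := by
      rcases h.eq_or hc3 with h2 | h2
      · exact ⟨1, by rw [mul_one]; exact h2, by simp, by simp⟩
      · exact ⟨z, h2, h.hz, fun g => (h.comm g).symm⟩
    obtain ⟨e, he1, he2, he3⟩ := h1
    calc s * (r * r) = (s * r) * r := by group
      _ = r * r * r * s * e * r := by rw [he1]
      _ = r * r * r * s * (e * r) := by group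
      _ = r * r * r * (s * r) * e := by rw [← he3 r]; group
      _ = r * r * r * (r * r * r * s * e) * e := by rw [he1]
      _ = (r * r * r) * (r * r * r) * s * (e * e) := by group
      _ = _ := by rw [he2, mul_one]
  have h7 : (s * (r * r)) * (s * (r * r)) = (r * r * (r * r)) * (r * r * (r * r)) * (s * s) := by
    calc (s * (r * r)) * (s * (r * r)) = (r * r * r) * (r * r * r) * s * (s * (r * r)) := by
          nth_rewrite 1 [h6]; rfl
      _ = (r * r * r) * (r * r * r) * ((s * s) * (r * r)) := by group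
      _ = (r * r * r) * (r * r * r) * ((r * r) * (s * s)) := by rw [hs2, hvc]
      _ = _ := by group
  rw [hsr2, hr4, hs2] at h7
  exact h7.trans hν

theorem ew_pow (a b z : X) (w : List ℕ) (n : ℕ) :
    ew a b z (List.replicate n w).flatten = (ew a b z w) ^ n := by
  induction n with
  | zero => rw [pow_zero]; rfl
  | succ n ih => rw [List.replicate_succ, List.flatten_cons, ew_append, ih, pow_succ']

/-- even relators -/
theorem Cov.even_rel (h : Cov π z) {a b : X} (ha : π a = a0) (hb : π b = b0) (w m : List ℕ)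
    (k : ℕ) (hk : eqW ((List.replicate k w).flatten.flatMap ex) (cj [1, 3] m) = true) (z' : X)
    (hz' : π z' = 1) : ew a b z' (List.replicate (k * 2) w).flatten = 1 := by
  have h1 : ew a b z' (List.replicate (k * 2) w).flatten =
      ew a b z' (List.replicate k w).flatten * ew a b z' (List.replicate k w).flatten := by
    rw [ew_pow, ew_pow, pow_mul, pow_two]
  rw [h1]
  refine h.sq_eq_one (c := wd m) ?_
  rw [map_ew, ha, hb, hz', a0]
  exact ew_eq_conj hk

theorem Cov.exists_lift (h : Cov π z) : ∃ a b : X, π a = a0 ∧ π b = b0 ∧ Rels a b z := by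
  have hz4 : ∀ x, π x = 1 → x ^ 2 = 1 := by
    intro x hx
    rcases h.ker x hx with h1 | h1
    · rw [h1, one_pow]
    · rw [h1, pow_two, h.hz]
  obtain ⟨a1, ha1⟩ := h.surj a0
  obtain ⟨b1, hb1⟩ := h.surj b0
  obtain ⟨b, hb, hb3⟩ : ∃ b, π b = b0 ∧ b ^ 3 = 1 := by
    refine ⟨b1 ^ 4, ?_, ?_⟩
    · rw [map_pow, hb1, pow_succ, b03, one_mul]
    · have : (b1 ^ 4) ^ 3 = ((b1 ^ 3) ^ 2) ^ 2 := by
        rw [← pow_mul, ← pow_mul, ← pow_mul]
      rw [this, hz4 (b1 ^ 3) (by rw [map_pow, hb1, b03]), one_pow]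
  obtain ⟨a, ha, hab⟩ : ∃ a, π a = a0 ∧ (a * b) ^ 11 = 1 := by
    have h1 : π ((a1 * b) ^ 11) = 1 := by rw [map_pow, map_mul, ha1, hb, ab11]
    refine ⟨(a1 * b) ^ 11 * a1, by rw [map_mul, h1, one_mul, ha1], ?_⟩
    have h2 : Commute ((a1 * b) ^ 11) (a1 * b) := (Commute.refl _).pow_left 11
    rw [mul_assoc, h2.mul_pow, ← pow_succ, show 11 + 1 = 2 * 6 by norm_num, pow_mul, hz4 _ h1,
      one_pow]
  have ha2 : a * a = 1 := h.sq_eq_one (c := 1) (by rw [ha]; group)
  have hb3' : b * (b * b) = 1 := by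
    rw [← hb3]; simp only [pow_succ, pow_zero, one_mul, mul_assoc]
  have hrel : ∀ z', π z' = 1 → z' * z' = 1 → (∀ x, z' * x = x * z') →
      ew a b z' [0,1,0,1,0,2,0,1,0,1,0,2,0,1,0,1,0,2,0,1,0,1,0,2,0,1,0,1,0,2,0,1,0,1,0,2,3] = 1 →
      Rels a b z' := by
    intro z' hz'1 hz'2 hz'3 hlast
    refine ⟨ha2, hz'2, ?_⟩
    intro r hr
    simp only [MTwCertData.rels, List.mem_cons, List.not_mem_nil, or_false] at hr
    rcases hr with rfl | rfl | rfl | rfl | rfl | rfl | rfl | rfl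
    · simp only [ew_cons, ew_nil, lt, mul_one]; exact hb3'
    · simp only [ew_cons, ew_nil, lt, mul_one]
      calc z' * (a * (z' * a)) = (z' * a) * (z' * a) := by group
        _ = (a * z') * (z' * a) := by rw [hz'3 a]
        _ = a * (z' * z') * a := by group
        _ = 1 := by rw [hz'2, mul_one, ha2]
    · simp only [ew_cons, ew_nil, lt, mul_one]
      calc z' * (b * (z' * b⁻¹)) = (z' * b) * (z' * b⁻¹) := by group
        _ = (b * z') * (z' * b⁻¹) := by rw [hz'3 b]
        _ = b * (z' * z') * b⁻¹ := by group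
        _ = 1 := by rw [hz'2, mul_one, mul_inv_cancel]
    · rw [← hab]
      simp only [ew_cons, ew_nil, lt, mul_one, pow_succ, pow_zero, one_mul, mul_assoc]
    · exact h.even_rel ha hb [0, 2, 0, 1] [2, 4, 5, 1, 5, 1, 4] 3 (by decide +kernel) z' hz'1
    · exact hlast
    · exact h.even_rel ha hb [0,1,0,1,0,2,0,2,0,1,0,2] [4, 5, 2, 3] 2 (by decide +kernel) z' hz'1
    · exact h.even_rel ha hb [0,1,0,1,0,2,0,1,0,2] [5, 3, 2, 5, 3, 2] 3 (by decide +kernel) z' hz'1
  have hμ : π ((a * b * a * b * a * b⁻¹) ^ 6) = 1 := by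
    have h1 : ew a0 b0 1 (List.replicate 6 [0,1,0,1,0,2]).flatten = wd [] :=
      ew_eq_wd (by decide +kernel)
    rw [ew_pow, wd_nil] at h1
    rw [← h1, map_pow]
    simp only [map_mul, map_inv, ha, hb, ew_cons, ew_nil, lt, mul_one, mul_assoc]
  have hlast : ∀ z', ew a b z' [0,1,0,1,0,2,0,1,0,1,0,2,0,1,0,1,0,2,0,1,0,1,0,2,0,1,0,1,0,2,0,1,0,1,0,2,3]
      = (a * b * a * b * a * b⁻¹) ^ 6 * z' := by
    intro z'
    simp only [ew_cons, ew_nil, lt, mul_one, pow_succ, pow_zero, one_mul, mul_assoc]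
  refine ⟨a, b, ha, hb, ?_⟩
  rcases h.ker _ hμ with h1 | h1
  · -- impossible
    exfalso
    have hR : Rels a b 1 := hrel 1 (map_one π) (by simp) (by simp) (by rw [hlast, h1, mul_one])
    obtain ⟨hfin, hcard⟩ := hR.card_le_one
    set D := closure {a, b} with hD
    have hDmap : D.map π = ⊤ := by
      rw [hD, MonoidHom.map_closure, Set.image_pair, ha, hb, closure_ab]
    have hDs : ∀ x : X, ∃ d ∈ D, x = d ∨ x = d * z := by
      intro x
      have h2 : π x ∈ D.map π := by rw [hDmap]; trivial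
      obtain ⟨d, hd, hdx⟩ := h2
      exact ⟨d, hd, h.eq_or hdx.symm⟩
    have hsurj : Function.Surjective (π.comp D.subtype) := by
      intro y
      have h2 : y ∈ D.map π := by rw [hDmap]; trivial
      obtain ⟨d, hd, hdx⟩ := h2
      exact ⟨⟨d, hd⟩, hdx⟩
    have hinj := (hsurj.bijective_of_nat_card_le (by rw [card_H]; exact hcard)).1
    have hzD : z ∉ D := by
      intro hzD
      have h2 : (⟨z, hzD⟩ : D) = 1 := hinj (by
        show π z = (π.comp D.subtype) 1
        rw [map_one, h.hπz])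
      exact h.hz1 (congrArg Subtype.val h2)
    have hcomm : commutator X ≤ D := by
      rw [_root_.commutator_def, commutator_le]
      intro x _ y _
      obtain ⟨d, hd, hdx⟩ := hDs x
      obtain ⟨e, he, hey⟩ := hDs y
      have hd' : ∃ ε, x = d * ε ∧ ∀ g, g * ε = ε * g := by
        rcases hdx with h2 | h2
        · exact ⟨1, by rw [mul_one]; exact h2, by simp⟩
        · exact ⟨z, h2, fun g => (h.comm g).symm⟩
      have he' : ∃ ε, y = e * ε ∧ ∀ g, g * ε = ε * g := by
        rcases hey with h2 | h2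
        · exact ⟨1, by rw [mul_one]; exact h2, by simp⟩
        · exact ⟨z, h2, fun g => (h.comm g).symm⟩
      obtain ⟨ε, rfl, hε⟩ := hd'
      obtain ⟨δ, rfl, hδ⟩ := he'
      have h2 : ⁅d * ε, e * δ⁆ = ⁅d, e⁆ := by
        rw [commutatorElement_def, commutatorElement_def]
        calc d * ε * (e * δ) * (d * ε)⁻¹ * (e * δ)⁻¹
            = d * (ε * (e * δ)) * (ε⁻¹ * d⁻¹) * (δ⁻¹ * e⁻¹) := by group
          _ = d * ((e * δ) * ε) * (ε⁻¹ * d⁻¹) * (δ⁻¹ * e⁻¹) := by rw [hε]
          _ = d * e * (δ * d⁻¹) * δ⁻¹ * e⁻¹ := by group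
          _ = d * e * (d⁻¹ * δ) * δ⁻¹ * e⁻¹ := by rw [← hδ d⁻¹]
          _ = d * e * d⁻¹ * e⁻¹ := by group
      rw [h2]
      exact D.mul_mem (D.mul_mem (D.mul_mem hd he) (D.inv_mem hd)) (D.inv_mem he)
    rw [h.perfect] at hcomm
    exact hzD (hcomm trivial)
  · exact hrel z h.hπz h.hz h.comm (by rw [hlast, h1, h.hz])

end cov

end Cfsg.Agent.GH.MTwCover
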