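import Mathlib
import Cfsg.Agent.GH.MTwCover

/-!
# 2.M12: the embedding of a double cover into the permutations of 48 points
-/

set_option autoImplicit false
set_option maxRecDepth 100000

open Subgroup
open scoped commutatorElement

namespace Cfsg.Agent.GH.MTwPsi

open Cfsg.Agent.CoThreeStd.MTwelve (H card_H)
open Cfsg.Agent.GH.MTwBound Cfsg.Agent.GH.MTwModel Cfsg.Agent.GH.MTwSyl Cfsg.Agent.GH.MTwFacts
  Cfsg.Agent.GH.MTwCover
open Cfsg.Agent.GH.MTwCode (Pm)

variable {X : Type*} [Group X] {π : X →* H} {z : X}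

theorem Cov.mem_ker (h : Cov π z) (x : X) : x ∈ π.ker ↔ x ∈ zpowers z := by
  constructor
  · intro hx
    rcases h.ker x hx with h1 | h1
    · rw [h1]; exact one_mem _
    · rw [h1]; exact mem_zpowers _
  · intro hx
    have : zpowers z ≤ π.ker := by rw [zpowers_le]; exact h.hπz
    exact this hx

theorem Cov.orderOf_z (h : Cov π z) : orderOf z = 2 :=
  orderOf_eq_prime (by rw [pow_two, h.hz]) h.hz1

theorem Cov.card_ker (h : Cov π z) : Nat.card π.ker = 2 := by
  have h1 : π.ker = zpowers z := by ext x; exact Cov.mem_ker h x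
  rw [h1, Nat.card_zpowers, Cov.orderOf_z h]

theorem Cov.card (h : Cov π z) : Nat.card X = 190080 := by
  have h1 := π.ker.card_mul_index
  rw [Cov.card_ker h, index_ker, MonoidHom.range_eq_top.mpr h.surj, Subgroup.card_top, card_H] at h1
  omega

theorem Cov.finite (h : Cov π z) : Finite X :=
  Nat.finite_of_card_ne_zero (by rw [Cov.card h]; norm_num)

theorem Cov.closure_eq_top (h : Cov π z) {a b : X} (ha : π a = a0) (hb : π b = b0)
    (hR : Rels a b z) : closure {a, b} = (⊤ : Subgroup X) := by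
  rw [eq_top_iff]
  intro x _
  have h1 : π x ∈ (closure {a, b}).map π := by
    rw [MonoidHom.map_closure, Set.image_pair, ha, hb, closure_ab]; trivial
  obtain ⟨d, hd, hdx⟩ := h1
  rcases h.eq_or hdx.symm with h2 | h2
  · rw [h2]; exact hd
  · rw [h2]; exact mul_mem hd hR.z_mem

theorem Cov.exists_hom (h : Cov π z) : ∃ (ψ : X →* Pm) (a b : X), π a = a0 ∧ π b = b0 ∧
    Rels a b z ∧ ψ a = A ∧ ψ b = B ∧ ψ z = Z := by
  obtain ⟨a, b, ha, hb, hR⟩ := h.exists_lift
  have hfin := Cov.finite h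
  have hR2 : Rels ((a, A) : X × Pm) (b, B) (z, Z) := by
    refine ⟨Prod.ext hR.ha rels.ha, Prod.ext hR.hz rels.hz, fun r hr => Prod.ext ?_ ?_⟩
    · have := map_ew (MonoidHom.fst X Pm) ((a, A) : X × Pm) (b, B) (z, Z) r
      exact this.trans (hR.hrel r hr)
    · have := map_ew (MonoidHom.snd X Pm) ((a, A) : X × Pm) (b, B) (z, Z) r
      exact this.trans (rels.hrel r hr)
  obtain ⟨hfD, hcD⟩ := hR2.card_le_two
  set D := closure {((a, A) : X × Pm), (b, B)} with hD
  have haD : ((a, A) : X × Pm) ∈ D := subset_closure (by simp)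
  have hbD : ((b, B) : X × Pm) ∈ D := subset_closure (by simp)
  have hzD : ((z, Z) : X × Pm) ∈ D := hR2.z_mem
  let f : D →* X := (MonoidHom.fst X Pm).comp D.subtype
  have hf : Function.Surjective f := by
    rw [← MonoidHom.range_eq_top, eq_top_iff, ← Cov.closure_eq_top h ha hb hR, closure_le]
    rintro x hx
    rcases hx with rfl | rfl
    · exact ⟨⟨_, haD⟩, rfl⟩
    · exact ⟨⟨_, hbD⟩, rfl⟩
  have hbij := hf.bijective_of_nat_card_le (by rw [Cov.card h]; exact hcD)
  let e : D ≃* X := MulEquiv.ofBijective f hbij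
  let ψ : X →* Pm := ((MonoidHom.snd X Pm).comp D.subtype).comp e.symm.toMonoidHom
  have key : ∀ (x : X) (σ : Pm) (hx : (x, σ) ∈ D), ψ x = σ := by
    intro x σ hx
    have h1 : e.symm x = ⟨(x, σ), hx⟩ := by
      rw [MulEquiv.symm_apply_eq]; rfl
    show (MonoidHom.snd X Pm) (e.symm x : X × Pm) = σ
    rw [h1]; rfl
  exact ⟨ψ, a, b, ha, hb, hR, key _ _ haD, key _ _ hbD, key _ _ hzD⟩

theorem Cov.injective (h : Cov π z) [IsSimpleGroup H] {ψ : X →* Pm} {a : X}
    (ha : ψ a = A) (hz : ψ z = Z) : Function.Injective ψ := by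
  rw [← MonoidHom.ker_eq_bot_iff]
  have hN : (ψ.ker.map π).Normal := Subgroup.Normal.map inferInstance π h.surj
  rcases hN.eq_bot_or_eq_top with h1 | h1
  · rw [eq_bot_iff]
    intro x hx
    have h2 : π x = 1 := by
      have : π x ∈ ψ.ker.map π := ⟨x, hx, rfl⟩
      rwa [h1, mem_bot] at this
    rcases h.ker x h2 with h3 | h3
    · exact h3
    · exfalso
      rw [h3, MonoidHom.mem_ker, hz] at hx
      exact Z_ne_one hx
  · exfalso
    have h2 : π a ∈ ψ.ker.map π := by rw [h1]; trivial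
    obtain ⟨n, hn, hna⟩ := h2
    have hn : ψ n = 1 := hn
    rcases h.eq_or hna.symm with h3 | h3
    · rw [h3, hn] at ha
      exact A_ne_one ha.symm
    · rw [h3, map_mul, hn, one_mul, hz] at ha
      exact A_ne_Z ha.symm

/-- all the data -/
structure Model {X : Type*} [Group X] (π : X →* H) (z : X) (ψ : X →* Pm) (a b : X) : Prop where
  cov : Cov π z
  πa : π a = a0
  πb : π b = b0
  rel : Rels a b z
  ψa : ψ a = A
  ψb : ψ b = B
  ψz : ψ z = Z
  inj : Function.Injective ψ
  top : closure {a, b} = (⊤ : Subgroup X)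
  range : ψ.range = M

theorem Cov.exists_model (h : Cov π z) [IsSimpleGroup H] : ∃ (ψ : X →* Pm) (a b : X),
    Model π z ψ a b := by
  obtain ⟨ψ, a, b, ha, hb, hR, ha', hb', hz'⟩ := Cov.exists_hom h
  have htop := Cov.closure_eq_top h ha hb hR
  refine ⟨ψ, a, b, h, ha, hb, hR, ha', hb', hz', Cov.injective h ha' hz', htop, ?_⟩
  rw [MonoidHom.range_eq_map, ← htop, MonoidHom.map_closure, Set.image_pair, ha', hb']
  rfl

end Cfsg.Agent.GH.MTwPsi
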