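import Mathlib
import Cfsg.Agent.GH.MTwPsi

/-!
# 2.M12: a perfect central extension of M12 by a 2-group has a center of order at most 2
-/

set_option autoImplicit false
set_option maxRecDepth 100000

open Subgroup
open scoped commutatorElement

namespace Cfsg.Agent.GH.MTwCenter

open Cfsg.Agent.CoThreeStd.MTwelve (H card_H)
open Cfsg.Agent.GH.MTwBound Cfsg.Agent.GH.MTwModel Cfsg.Agent.GH.MTwSyl Cfsg.Agent.GH.MTwFacts
  Cfsg.Agent.GH.MTwCover Cfsg.Agent.GH.MTwPsi
open Cfsg.Agent.GH.MTwCode (Pm)

/-- word of an involution of type 2A -/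
def wx : List ℕ := (List.replicate 3 [0,1,0,1,0,2]).flatten
/-- word of an element commuting with it in M12 -/
def wg : List ℕ := [0,2,0,1,0,1,0,2,0,2,0,1,0,2,0,1,0,1,0,1,0,2,0,1]

theorem model_comm : ew A B Z (wg ++ wx) = ew A B Z (wx ++ wg ++ [3]) :=
  ew_eq (by decide +kernel)

section

variable {X : Type*} [Group X] {π : X →* H} {z : X}

/-- lifts of the two elements do not commute -/
theorem lifts (h : Cov π z) [IsSimpleGroup H] {x g : X} (hx : π x = ew a0 b0 1 wx)
    (hg : π g = ew a0 b0 1 wg) : g * x = x * g * z := by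
  obtain ⟨ψ, a, b, hM⟩ := Cov.exists_model h
  have h1 : ew a b z wg * ew a b z wx = ew a b z wx * ew a b z wg * z := by
    apply hM.inj
    have h2 := map_ew ψ a b z (wg ++ wx)
    have h3 := map_ew ψ a b z (wx ++ wg ++ [3])
    rw [hM.ψa, hM.ψb, hM.ψz] at h2 h3
    have h4 : ew a b z (wg ++ wx) = ew a b z wg * ew a b z wx := ew_append _ _ _ _ _
    have h5 : ew a b z (wx ++ wg ++ [3]) = ew a b z wx * ew a b z wg * z := by
      rw [ew_append, ew_append]
      simp [ew_cons, ew_nil, lt]
    rw [← h4, ← h5, h2, h3, model_comm]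
  have hX : ∀ {y : X} {w : List ℕ}, π y = ew a0 b0 1 w →
      ∃ ε, y = ew a b z w * ε ∧ ∀ g, ε * g = g * ε := by
    intro y w hy
    have h2 : π y = π (ew a b z w) := by rw [map_ew, hM.πa, hM.πb, h.hπz, hy]
    rcases h.eq_or h2 with h3 | h3
    · exact ⟨1, by rw [mul_one]; exact h3, by simp⟩
    · exact ⟨z, h3, h.comm⟩
  obtain ⟨ε, rfl, hε⟩ := hX hx
  obtain ⟨δ, rfl, hδ⟩ := hX hg
  calc ew a b z wg * δ * (ew a b z wx * ε) = ew a b z wg * (δ * (ew a b z wx * ε)) := by group
    _ = ew a b z wg * ((ew a b z wx * ε) * δ) := by rw [hδ]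
    _ = (ew a b z wg * ew a b z wx) * (ε * δ) := by group
    _ = (ew a b z wx * ew a b z wg * z) * (ε * δ) := by rw [h1]
    _ = ew a b z wx * (ew a b z wg * (z * (ε * δ))) := by group
    _ = ew a b z wx * (ew a b z wg * ((ε * δ) * z)) := by rw [h.comm (ε * δ)]
    _ = ew a b z wx * ((ew a b z wg * ε) * δ * z) := by group
    _ = ew a b z wx * ((ε * ew a b z wg) * δ * z) := by rw [hε]
    _ = ew a b z wx * ε * (ew a b z wg * δ) * z := by group

end

theorem involution_x : ew a0 b0 1 wx * ew a0 b0 1 wx = 1 := by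
  have h : ew a0 b0 1 (wx ++ wx) = Cfsg.Agent.CoThreeStd.MTwelve.wd [] :=
    ew_eq_wd (by decide +kernel)
  rwa [ew_append] at h

theorem comm_xg : ew a0 b0 1 wg * ew a0 b0 1 wx = ew a0 b0 1 wx * ew a0 b0 1 wg := by
  rw [← ew_append, ← ew_append, ew_wd, ew_wd]
  exact Cfsg.Agent.CoThreeStd.MTwelve.wd_eq (by decide +kernel)

theorem exists_cov {X : Type*} [Group X] [Finite X] [IsSimpleGroup H] (π : X →* H)
    (hs : Function.Surjective π) (hk : π.ker = center X) (hp : commutator X = ⊤)
    (h2 : IsPGroup 2 (center X)) (hne : center X ≠ ⊥) : ∃ z, Cov π z := by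
  obtain ⟨x, hx⟩ := hs (ew a0 b0 1 wx)
  obtain ⟨g, hg⟩ := hs (ew a0 b0 1 wg)
  -- the commutator
  set ζ := (x * g)⁻¹ * (g * x) with hζ
  have hζ1 : g * x = x * g * ζ := by rw [hζ]; group
  have hζk : ζ ∈ center X := by
    rw [← hk, MonoidHom.mem_ker, hζ, map_mul, map_inv, map_mul, map_mul, hx, hg, comm_xg,
      inv_mul_cancel]
  have hζc : ∀ y, y * ζ = ζ * y := mem_center_iff.mp hζk
  have hxx : x * x ∈ center X := by
    rw [← hk, MonoidHom.mem_ker, map_mul, hx, involution_x]
  have hζ2 : ζ * ζ = 1 := by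
    have h3 : g * (x * x) = x * x * g * (ζ * ζ) := by
      calc g * (x * x) = (g * x) * x := by group
        _ = x * g * ζ * x := by rw [hζ1]
        _ = x * g * (ζ * x) := by group
        _ = x * (g * x) * ζ := by rw [← hζc x]; group
        _ = x * (x * g * ζ) * ζ := by rw [hζ1]
        _ = _ := by group
    have h4 := mem_center_iff.mp hxx g
    rw [h4] at h3
    exact (mul_eq_left.mp h3.symm)
  -- `ζ` generates the center
  have key : zpowers ζ = center X := by
    by_contra hcon
    have hle : zpowers ζ ≤ center X := by rw [zpowers_le]; exact hζk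
    let ζ' : center X := ⟨ζ, hζk⟩
    have hp2 : Fact (Nat.Prime 2) := ⟨Nat.prime_two⟩
    obtain ⟨k, hkc⟩ := (IsPGroup.iff_card).mp h2
    obtain ⟨m, hm⟩ := (IsPGroup.iff_card).mp (h2.to_subgroup (zpowers ζ'))
    have hlt : 2 ^ m < 2 ^ k := by
      rw [← hm, ← hkc]
      refine lt_of_le_of_ne (Subgroup.card_le_card_group _) ?_
      intro heq
      apply hcon
      have h3 := Subgroup.eq_top_of_card_eq _ heq
      refine le_antisymm hle ?_
      intro y hy
      have h4 : (⟨y, hy⟩ : center X) ∈ zpowers ζ' := by rw [h3]; trivial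
      obtain ⟨n, hn⟩ := mem_zpowers_iff.mp h4
      exact mem_zpowers_iff.mpr ⟨n, by simpa [ζ'] using congrArg Subtype.val hn⟩
    have hmk : m < k := (Nat.pow_lt_pow_iff_right (by norm_num)).mp hlt
    obtain ⟨N', hN', hζN'⟩ := Sylow.exists_subgroup_card_pow_prime_le (p := 2) (n := m) (m := k - 1)
      (by rw [hkc]; exact pow_dvd_pow 2 (by omega)) (zpowers ζ') hm (by omega)
    set N : Subgroup X := N'.map (center X).subtype with hN
    have hNc : N ≤ center X := map_subtype_le _
    have hNn : N.Normal := by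
      refine ⟨fun n hn y => ?_⟩
      rw [mem_center_iff.mp (hNc hn) y, mul_inv_cancel_right]; exact hn
    have hidx : N'.index = 2 := by
      have h3 := N'.card_mul_index
      rw [hN', hkc] at h3
      have h4 : 2 ^ k = 2 ^ (k - 1) * 2 := by rw [← pow_succ]; congr 1; omega
      rw [h4] at h3
      exact Nat.eq_of_mul_eq_mul_left (by positivity) h3
    have hmemN : ∀ (y : X) (hy : y ∈ center X), y ∈ N ↔ (⟨y, hy⟩ : center X) ∈ N' := by
      intro y hy
      rw [hN, mem_map]
      constructor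
      · rintro ⟨w, hw, rfl⟩; exact hw
      · intro h; exact ⟨_, h, rfl⟩
    obtain ⟨w, hw⟩ : ∃ w : center X, w ∉ N' := by
      by_contra hall
      push Not at hall
      have : N' = ⊤ := eq_top_iff.mpr fun y _ => hall y
      rw [this, index_top] at hidx
      norm_num at hidx
    have hmul : ∀ u v : center X, u ∉ N' → v ∉ N' → u * v ∈ N' := by
      intro u v hu hv
      rw [mul_mem_iff_of_index_two hidx]
      simp [hu, hv]
    let q := QuotientGroup.mk' N
    let π' : X ⧸ N →* H := QuotientGroup.lift N π (fun y hy => by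
      have := hNc hy
      rw [← hk] at this
      exact this)
    have hπ' : ∀ y, π' (q y) = π y := fun y => rfl
    have hcov : Cov π' (q w) := by
      refine ⟨?_, ?_, ?_, ?_, ?_, ?_, ?_⟩
      · intro y
        obtain ⟨u, rfl⟩ := hs y
        exact ⟨q u, rfl⟩
      · intro y hy
        obtain ⟨u, rfl⟩ := QuotientGroup.mk'_surjective N y
        have hu : u ∈ center X := by rw [← hk]; exact hy
        by_cases h3 : (⟨u, hu⟩ : center X) ∈ N'
        · left
          exact (QuotientGroup.eq_one_iff u).mpr ((hmemN u hu).mpr h3)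
        · right
          have h4 : (⟨u, hu⟩ : center X)⁻¹ * w ∈ N' := hmul _ _ (by rwa [inv_mem_iff]) hw
          exact QuotientGroup.eq.mpr ((hmemN _ ((⟨u, hu⟩ : center X)⁻¹ * w).2).mpr h4)
      · rw [← map_mul]
        exact (QuotientGroup.eq_one_iff _).mpr ((hmemN _ (w * w).2).mpr (hmul w w hw hw))
      · intro h3
        exact hw ((hmemN _ w.2).mp ((QuotientGroup.eq_one_iff _).mp h3))
      · have h3 : (w : X) ∈ π.ker := by rw [hk]; exact w.2
        exact h3
      · intro y
        obtain ⟨u, rfl⟩ := QuotientGroup.mk'_surjective N y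
        show q w * q u = q u * q w
        rw [← map_mul, ← map_mul, mem_center_iff.mp w.2 u]
      · have h3 : (commutator X).map q = commutator (X ⧸ N) := by
          rw [_root_.commutator_def, _root_.commutator_def, map_commutator,
            Subgroup.map_top_of_surjective q (QuotientGroup.mk'_surjective N)]
        rw [← h3, hp, Subgroup.map_top_of_surjective q (QuotientGroup.mk'_surjective N)]
    have h3 := lifts hcov (x := q x) (g := q g) (by rw [hπ', hx]) (by rw [hπ', hg])
    have h4 : q g * q x = q x * q g * q ζ := by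
      rw [← map_mul, hζ1, map_mul, map_mul]
    rw [h3] at h4
    have h5 : q w = q ζ := mul_left_cancel h4
    have h6 : q ζ = 1 := (QuotientGroup.eq_one_iff ζ).mpr ((hmemN ζ hζk).mpr
      (hζN' (mem_zpowers ζ')))
    exact hcov.hz1 (h5.trans h6)
  have hζne : ζ ≠ 1 := by
    intro h3
    apply hne
    rw [← key, h3, zpowers_one_eq_bot]
  refine ⟨ζ, hs, ?_, hζ2, hζne, ?_, fun y => (hζc y).symm, hp⟩
  · intro y hy
    have h3 : y ∈ zpowers ζ := by rw [key, ← hk]; exact hy
    have h4 : orderOf ζ = 2 := orderOf_eq_prime (by rw [pow_two, hζ2]) hζne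
    obtain ⟨n, hn⟩ := mem_zpowers_iff.mp h3
    rw [← zpow_mod_orderOf, h4] at hn
    rcases Int.emod_two_eq_zero_or_one n with h5 | h5
    · rw [show ((2 : ℕ) : ℤ) = 2 by norm_num, h5, zpow_zero] at hn
      exact Or.inl hn.symm
    · rw [show ((2 : ℕ) : ℤ) = 2 by norm_num, h5, zpow_one] at hn
      exact Or.inr hn.symm
  · have h3 : ζ ∈ π.ker := by rw [hk]; exact hζk
    exact h3

end Cfsg.Agent.GH.MTwCenter
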