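import Mathlib
import Cfsg.Agent.GH.MTwCenter

/-!
# 2.M12: automorphisms of the double cover
-/

set_option autoImplicit false
set_option maxRecDepth 100000

open Subgroup
open scoped commutatorElement Pointwise

namespace Cfsg.Agent.GH.MTwAut

open Cfsg.Agent.CoThreeStd.MTwelve (H wd wd_append wd_nil wd_cons wd_eq wd_ne wd_reverse eqW cj wd_cj
  inv_class card_H closure_gen wordsV incrV lenV incr_pairwise sig sig_eq card_cent_v act)
open Cfsg.Agent.GH.MTwBound Cfsg.Agent.GH.MTwModel Cfsg.Agent.GH.MTwSyl Cfsg.Agent.GH.MTwFacts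
  Cfsg.Agent.GH.MTwCover Cfsg.Agent.GH.MTwPsi Cfsg.Agent.GH.MTwCenter
open Cfsg.Agent.GH.MTwCode (Pm)

/-! ### the conjugates of `a0` in M12 -/

theorem conj_list (v : H) (h : ∃ c, c⁻¹ * a0 * c = v) : ∃ m ∈ wordsV, v = wd (cj [1, 3] m) := by
  classical
  have hfin : Finite H := inferInstance
  have hnd : (wordsV.map fun m => wd (cj [1, 3] m)).Nodup := by
    refine List.pairwise_map.mpr ?_
    exact (incr_pairwise incrV).imp fun h he => ne_of_lt h (sig_eq he 24 le_rfl)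
  set S : Finset H := (wordsV.map fun m => wd (cj [1, 3] m)).toFinset with hS
  have hScard : S.card = 495 := by
    rw [hS, List.toFinset_card_of_nodup hnd, List.length_map, lenV]
  set C : Subgroup H := centralizer {a0} with hC
  have hCcard : Nat.card C = 192 := by
    rw [hC, a0_eq]; exact card_cent_v
  have hidx : Nat.card (H ⧸ C) = 495 := by
    have h1 := Subgroup.card_eq_card_quotient_mul_card_subgroup C
    rw [card_H, hCcard] at h1
    omega
  let F : H ⧸ C → H := Quotient.lift (fun c : H => c * a0 * c⁻¹) (by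
    intro x y hxy
    have h1 : x⁻¹ * y ∈ C := QuotientGroup.leftRel_apply.mp hxy
    have h2 := mem_centralizer_iff.mp h1 a0 rfl
    show x * a0 * x⁻¹ = y * a0 * y⁻¹
    calc x * a0 * x⁻¹ = x * (a0 * (x⁻¹ * y)) * y⁻¹ := by group
      _ = x * ((x⁻¹ * y) * a0) * y⁻¹ := by rw [h2]
      _ = y * a0 * y⁻¹ := by group)
  have hF : ∀ c : H, F (c : H ⧸ C) = c * a0 * c⁻¹ := fun c => rfl
  have hsub : (S : Set H) ⊆ Set.range F := by
    intro x hx
    have hx' : x ∈ wordsV.map fun m => wd (cj [1, 3] m) := by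
      rw [← List.mem_toFinset]; exact hx
    obtain ⟨m, _, rfl⟩ := List.mem_map.mp hx'
    refine ⟨((wd m)⁻¹ : H), ?_⟩
    rw [hF, wd_cj, inv_inv]; rfl
  have hle : (Set.range F).ncard ≤ (S : Set H).ncard := by
    rw [Set.ncard_coe_finset, hScard, ← hidx]
    exact Finite.card_range_le F
  have heq := Set.eq_of_subset_of_ncard_le hsub hle (Set.toFinite _)
  obtain ⟨c, hc⟩ := h
  have hv : v ∈ (S : Set H) := by
    rw [heq]
    exact ⟨(c⁻¹ : H), by rw [hF, inv_inv, hc]⟩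
  have hv' : v ∈ wordsV.map fun m => wd (cj [1, 3] m) := by
    rw [← List.mem_toFinset]; exact hv
  obtain ⟨m, hm, h⟩ := List.mem_map.mp hv'
  exact ⟨m, hm, h.symm⟩

/-- word of `c = a b` -/
def wcc : List ℕ := [1, 3, 2, 1, 5]
/-- word of the second involution -/
def wa1 : List ℕ := cj [1, 3] [5, 1, 5, 0]

def cpow (i : ℕ) : List ℕ := (List.replicate i wcc).flatten

theorem wd_cpow (i : ℕ) : wd (cpow i) = (a0 * b0) ^ i := by
  induction i with
  | zero => rw [pow_zero]; rfl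
  | succ n ih =>
    rw [cpow, List.replicate_succ, List.flatten_cons, wd_append, pow_succ']
    have h1 : wd wcc = a0 * b0 := by
      rw [a0, b0, ← wd_append]; rfl
    rw [h1, ← ih]; rfl

/-- test: conjugate to `a0` or to `a1` by a power of `c` -/
def test (m : List ℕ) : Bool :=
  if eqW (cj [1, 3] m ++ wcc ++ (cj [1, 3] m ++ wcc) ++ (cj [1, 3] m ++ wcc)) [] then
    (List.range 11).any fun i => eqW (cj [1, 3] m) (cj [1, 3] (cpow i)) ||
      eqW (cj [1, 3] m) (cj wa1 (cpow i))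
  else true

theorem test_all : (wordsV.all test) = true := by decide +kernel

theorem eqW_of_wd {l l' : List ℕ} (h : wd l = wd l') : eqW l l' = true :=
  Cfsg.Agent.CoThreeStd.MTwelve.eqW_of_wd h

theorem families {v : H} (h : ∃ c, c⁻¹ * a0 * c = v) (h3 : (v * (a0 * b0)) ^ 3 = 1) :
    ∃ i : ℕ, v = ((a0 * b0) ^ i)⁻¹ * a0 * (a0 * b0) ^ i ∨
      v = ((a0 * b0) ^ i)⁻¹ * wd wa1 * (a0 * b0) ^ i := by
  obtain ⟨m, hm, rfl⟩ := conj_list v h
  have h1 := List.all_eq_true.mp test_all m hm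
  have hc : wd wcc = a0 * b0 := by rw [a0, b0, ← wd_append]; rfl
  have h2 : eqW (cj [1, 3] m ++ wcc ++ (cj [1, 3] m ++ wcc) ++ (cj [1, 3] m ++ wcc)) [] = true := by
    apply eqW_of_wd
    rw [wd_append, wd_append, wd_append, hc, wd_nil, ← h3]
    simp only [pow_succ, pow_zero, one_mul]
  rw [test, if_pos h2] at h1
  obtain ⟨i, _, hi⟩ := List.any_eq_true.mp h1
  rw [Bool.or_eq_true] at hi
  refine ⟨i, ?_⟩
  rw [← wd_cpow]
  rcases hi with hi | hi
  · left; rw [wd_eq hi, wd_cj]; rfl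
  · right; rw [wd_eq hi, wd_cj]

/-! ### lifts of elements of type 2A -/

variable {X : Type*} [Group X] {π : X →* H} {z : X} {ψ : X →* Pm} {a b : X}

theorem conj_y : (wd [5,0,3,2,5,0])⁻¹ * wd [0] * wd [5,0,3,2,5,0] = ew a0 b0 1 wx :=
  ew_eq_conj (by decide +kernel)

theorem x_sq (hM : Model π z ψ a b) : ew a b z wx * ew a b z wx = z := by
  have h1 : ew a b z wx * ew a b z wx = ew a b z (List.replicate 6 [0,1,0,1,0,2]).flatten := by
    rw [← ew_append]; rfl
  rw [h1, ew_pow]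
  have h2 := hM.rel.z_eq
  have h3 : ew a b z [0,1,0,1,0,2] = a * b * a * b * a * b⁻¹ := by
    simp only [ew_cons, ew_nil, lt, mul_one, mul_assoc]
  rw [h3]
  have h4 : z⁻¹ = z := inv_eq_of_mul_eq_one_left hM.cov.hz
  calc (a * b * a * b * a * b⁻¹) ^ 6 = (((a * b * a * b * a * b⁻¹) ^ 6)⁻¹)⁻¹ := by rw [inv_inv]
    _ = z⁻¹ := by rw [← h2]
    _ = z := h4

theorem sq_2A (hM : Model π z ψ a b) {x : X} {c : H} (hc : c⁻¹ * wd [0] * c = π x) :
    x * x = z := by
  have h1 := x_sq hM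
  rw [← h1]
  refine hM.cov.sq_conj (c := (wd [5,0,3,2,5,0])⁻¹ * c) ?_ ?_
  · rw [map_ew, hM.πa, hM.πb, hM.cov.hπz, ← conj_y, ← hc]
    group
  · intro g
    rw [h1]; exact (hM.cov.comm g).symm

/-- involutions outside of the center are of type 2B -/
theorem type_of_sq (hM : Model π z ψ a b) {x : X} (hx : x * x = 1) (hx1 : π x ≠ 1) :
    ∃ c, c⁻¹ * a0 * c = π x := by
  rcases inv_class (π x) hx1 (by rw [← map_mul, hx, map_one]) with ⟨c, hc⟩ | ⟨c, hc⟩
  · exfalso
    have := sq_2A hM (x := x) (c := c) (by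
      rw [← hc, wd_cons, wd_nil, mul_one]; rfl)
    rw [hx] at this
    exact hM.cov.hz1 this.symm
  · exact ⟨c, by rw [a0_eq]; exact hc⟩

/-! ### automorphisms -/

/-- an endomorphism inducing the identity on M12 is the identity -/
theorem eq_id (h : Cov π z) (β : X →* X) (hβ : ∀ x, π (β x) = π x) (x : X) : β x = x := by
  have h1 : commutator X ≤ β.eqLocus (MonoidHom.id X) := by
    rw [_root_.commutator_def, commutator_le]
    intro x _ y _
    have hx : ∃ ε, β x = x * ε ∧ ∀ g, g * ε = ε * g := by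
      rcases h.eq_or (hβ x) with h2 | h2
      · exact ⟨1, by rw [mul_one]; exact h2, by simp⟩
      · exact ⟨z, h2, fun g => (h.comm g).symm⟩
    have hy : ∃ ε, β y = y * ε ∧ ∀ g, g * ε = ε * g := by
      rcases h.eq_or (hβ y) with h2 | h2
      · exact ⟨1, by rw [mul_one]; exact h2, by simp⟩
      · exact ⟨z, h2, fun g => (h.comm g).symm⟩
    obtain ⟨ε, hxe, hε⟩ := hx
    obtain ⟨δ, hye, hδ⟩ := hy
    show β ⁅x, y⁆ = ⁅x, y⁆
    rw [map_commutatorElement, hxe, hye, commutatorElement_def, commutatorElement_def]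
    calc x * ε * (y * δ) * (x * ε)⁻¹ * (y * δ)⁻¹
        = x * (ε * (y * δ)) * (ε⁻¹ * x⁻¹) * (δ⁻¹ * y⁻¹) := by group
      _ = x * ((y * δ) * ε) * (ε⁻¹ * x⁻¹) * (δ⁻¹ * y⁻¹) := by rw [hε]
      _ = x * y * (δ * x⁻¹) * δ⁻¹ * y⁻¹ := by group
      _ = x * y * (x⁻¹ * δ) * δ⁻¹ * y⁻¹ := by rw [← hδ x⁻¹]
      _ = x * y * x⁻¹ * y⁻¹ := by group
  rw [h.perfect] at h1
  exact h1 (mem_top x)

theorem W_mem_M {m : Pm} (hm : m ∈ M) : W * m * W ∈ M := by
  have hWi : W⁻¹ = W := inv_eq_of_mul_eq_one_left W_sq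
  have key : M ≤ M.comap (MulAut.conj W).toMonoidHom := by
    show closure {A, B} ≤ _
    rw [closure_le]
    rintro x (rfl | rfl)
    · show W * A * W⁻¹ ∈ M
      rw [hWi, WA]; exact subset_closure (by simp)
    · show W * B * W⁻¹ ∈ M
      rw [hWi, WB]; exact inv_mem (subset_closure (by simp))
  have h1 : W * m * W⁻¹ ∈ M := key hm
  rwa [hWi] at h1

theorem exists_tau (hM : Model π z ψ a b) : ∃ τ : X ≃* X, (∀ x, ψ (τ x) = W * ψ x * W) ∧
    ∀ x, τ (τ x) = x := by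
  have h1 : ∀ x, ∃ y, ψ y = W * ψ x * W := by
    intro x
    have h2 : ψ x ∈ M := by rw [← hM.range]; exact ⟨x, rfl⟩
    have h3 := W_mem_M h2
    rwa [← hM.range] at h3
  choose t ht using h1
  have hWx : ∀ y : Pm, W * (W * y * W) * W = y := by
    intro y
    calc W * (W * y * W) * W = (W * W) * y * (W * W) := by group
      _ = y := by rw [W_sq, one_mul, mul_one]
  have htt : ∀ x, t (t x) = x := fun x => hM.inj (by rw [ht, ht, hWx])
  refine ⟨⟨⟨t, t, htt, htt⟩, ?_⟩, ht, htt⟩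
  intro x y
  apply hM.inj
  show ψ (t (x * y)) = ψ (t x * t y)
  rw [map_mul, ht, ht, ht, map_mul]
  calc W * (ψ x * ψ y) * W = W * ψ x * 1 * ψ y * W := by group
    _ = W * ψ x * (W * W) * ψ y * W := by rw [W_sq]
    _ = _ := by group

/-- automorphisms fixing `c` -/
theorem aut_fix (hM : Model π z ψ a b) (α : X ≃* X) (hα : α (a * b) = a * b) :
    ∃ g, ∀ x, α x = g * x * g⁻¹ := by
  have hc : π (a * b) = a0 * b0 := by rw [map_mul, hM.πa, hM.πb]
  have hu : α a * α a = 1 := by rw [← map_mul, hM.rel.ha, map_one]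
  have hb : α b = (α a)⁻¹ * (a * b) := by
    rw [← hα, map_mul, inv_mul_cancel_left]
  have hπu : π (α a) ≠ 1 := by
    intro h1
    -- `α a` central, so `a` central
    have h2 : ∀ g, g * α a = α a * g := hM.cov.central h1
    have h3 : a * b = b * a := by
      apply α.injective
      rw [map_mul, map_mul, h2]
    have h4 : a0 * b0 = b0 * a0 := by
      rw [← hM.πa, ← hM.πb, ← map_mul, ← map_mul, h3]
    have h5 : wd ([1, 3] ++ [2, 1, 5]) ≠ wd ([2, 1, 5] ++ [1, 3]) :=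
      wd_ne 0 (by norm_num) (by decide +kernel)
    rw [wd_append, wd_append] at h5
    exact h5 h4
  have h2B := type_of_sq hM hu hπu
  have h3 : (π (α a) * (a0 * b0)) ^ 3 = 1 := by
    have h4 : α b ^ 3 = 1 := by rw [← map_pow, hM.rel.b3, map_one]
    have h5 : α b = α a * (a * b) := by
      rw [hb, inv_eq_of_mul_eq_one_left hu]
    rw [h5] at h4
    rw [← hc, ← map_mul, ← map_pow, h4, map_one]
  obtain ⟨i, hi⟩ := families h2B h3
  set g := (a * b) ^ i with hg
  have hgπ : π g = (a0 * b0) ^ i := by rw [hg, map_pow, hc]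
  let β : X ≃* X := α.trans (MulAut.conj g)
  have hβ : ∀ x, β x = g * α x * g⁻¹ := fun x => rfl
  have hβc : β (a * b) = a * b := by
    rw [hβ, hα, hg]
    have : Commute ((a * b) ^ i) (a * b) := (Commute.refl _).pow_left i
    rw [this.eq, mul_inv_cancel_right]
  rcases hi with hi | hi
  · have h4 : π (β a) = a0 := by
      rw [hβ, map_mul, map_mul, map_inv, hgπ, hi]; group
    have h5 : π (β b) = b0 := by
      have h6 : b = a⁻¹ * (a * b) := by group
      rw [h6, map_mul, map_inv, hβc, map_mul, map_inv, h4, hc, inv_mul_cancel_left]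
    have h6 : ∀ x, π (β x) = π x := by
      have h7 : (⊤ : Subgroup X) ≤ (π.comp β.toMonoidHom).eqLocus π := by
        rw [← hM.top, closure_le]
        rintro x (rfl | rfl)
        · show π (β x) = π x
          rw [h4, hM.πa]
        · show π (β x) = π x
          rw [h5, hM.πb]
      exact fun x => h7 (mem_top x)
    have h7 := eq_id hM.cov β.toMonoidHom h6
    refine ⟨g⁻¹, fun x => ?_⟩
    have h8 : g * α x * g⁻¹ = x := h7 x
    calc α x = g⁻¹ * (g * α x * g⁻¹) * g := by group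
      _ = g⁻¹ * x * g⁻¹⁻¹ := by rw [h8, inv_inv]
  · exfalso
    have h4 : π (β a) = wd wa1 := by
      rw [hβ, map_mul, map_mul, map_inv, hgπ, hi]; group
    have h5 : π (β b) = (wd wa1)⁻¹ * (a0 * b0) := by
      have h6 : b = a⁻¹ * (a * b) := by group
      rw [h6, map_mul, map_inv, hβc, map_mul, map_inv, h4, hc]
    have hcc : wd wcc = a0 * b0 := by rw [a0, b0, ← wd_append]; rfl
    rw [wd_reverse, ← hcc, ← wd_append] at h5
    have h6 : (a * b⁻¹ * a * b) ^ 6 = 1 := by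
      have h7 := hM.rel.hrel [0,2,0,1,0,2,0,1,0,2,0,1,0,2,0,1,0,2,0,1,0,2,0,1] (by decide)
      rw [← h7]
      simp only [ew_cons, ew_nil, lt, mul_one, pow_succ, pow_zero, one_mul, mul_assoc]
    have h7 : (wd wa1 * (wd (wa1.reverse ++ wcc))⁻¹ * wd wa1 * wd (wa1.reverse ++ wcc)) ^ 6 = 1 := by
      rw [← h4, ← h5, ← map_inv, ← map_mul, ← map_mul, ← map_mul, ← map_inv, ← map_mul, ← map_mul,
        ← map_mul, ← map_pow, ← map_pow, h6, map_one, map_one]
    have h8 : wd (List.replicate 6 (wa1 ++ (wa1.reverse ++ wcc).reverse ++ wa1 ++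
        (wa1.reverse ++ wcc))).flatten ≠ wd [] := wd_ne 0 (by norm_num) (by decide +kernel)
    apply h8
    rw [wd_nil, ← h7]
    have h9 : ∀ (l : List ℕ) (n : ℕ), wd (List.replicate n l).flatten = wd l ^ n := by
      intro l n
      induction n with
      | zero => rw [pow_zero]; rfl
      | succ n ih => rw [List.replicate_succ, List.flatten_cons, wd_append, ih, pow_succ']
    rw [h9, wd_append, wd_append, wd_append, ← wd_reverse (wa1.reverse ++ wcc)]

/-- word of an element acting on `⟨c⟩` -/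
def wdd : List ℕ := [1,0,1,0,1,0,1,0,1,0,2,0,1,0,1,0,2,0,1,0,2,0,2,0,1,0,1,0,1,0,2]

theorem model_d : ew A B Z (wdd ++ [0, 1]) = ew A B Z ([0,1,0,1,0,1,0,1,0,1] ++ wdd) :=
  ew_eq (by decide +kernel)

theorem exists_d (hM : Model π z ψ a b) : ∃ d : X, d * (a * b) * d⁻¹ = (a * b) ^ 5 := by
  refine ⟨ew a b z wdd, ?_⟩
  rw [mul_inv_eq_iff_eq_mul]
  apply hM.inj
  have h2 := map_ew ψ a b z (wdd ++ [0, 1])
  have h3 := map_ew ψ a b z ([0,1,0,1,0,1,0,1,0,1] ++ wdd)
  rw [hM.ψa, hM.ψb, hM.ψz] at h2 h3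
  have h4 : ew a b z (wdd ++ [0, 1]) = ew a b z wdd * (a * b) := by
    rw [ew_append]; simp only [ew_cons, ew_nil, lt, mul_one]
  have h5 : ew a b z ([0,1,0,1,0,1,0,1,0,1] ++ wdd) = (a * b) ^ 5 * ew a b z wdd := by
    rw [ew_append]
    simp only [ew_cons, ew_nil, lt, mul_one, pow_succ, pow_zero, one_mul, mul_assoc]
  rw [← h4, ← h5, h2, h3, model_d]

theorem pow_fact : ∀ k : Fin 11, k.1 ≠ 0 → ∃ j : Fin 5, (k.1 * 5 ^ j.1) % 11 = 1 ∨
    (k.1 * 5 ^ j.1) % 11 = 10 := by decide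

theorem c_ne_one (hM : Model π z ψ a b) : a * b ≠ 1 := by
  intro h
  have h1 : a0 * b0 = 1 := by rw [← hM.πa, ← hM.πb, ← map_mul, h, map_one]
  have h2 : wd wcc = a0 * b0 := by rw [a0, b0, ← wd_append]; rfl
  rw [← h2, ← wd_nil] at h1
  exact wd_ne 0 (by norm_num) (by decide +kernel) h1

/-- every automorphism maps `c` to a conjugate of `c` or of its inverse -/
theorem aut_c (hM : Model π z ψ a b) (α : X ≃* X) :
    ∃ g, g * α (a * b) * g⁻¹ = a * b ∨ g * α (a * b) * g⁻¹ = (a * b)⁻¹ := by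
  set c := a * b with hc
  have hfin := Cov.finite hM.cov
  have hp11 : Fact (Nat.Prime 11) := ⟨by norm_num⟩
  have hc11 : c ^ 11 = 1 := hM.rel.pow11
  have hord : orderOf c = 11 := orderOf_eq_prime hc11 (c_ne_one hM)
  have hfac : (Nat.card X).factorization 11 = 1 := by
    rw [Cov.card hM.cov]
    have h1 : (190080 : ℕ) = 11 * 17280 := by norm_num
    rw [h1, Nat.factorization_mul (by norm_num) (by norm_num), Finsupp.add_apply,
      Nat.Prime.factorization_self (by norm_num), Nat.factorization_eq_zero_of_not_dvd (by norm_num)]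
  have hcardz : ∀ x : X, orderOf x = 11 →
      Nat.card (zpowers x) = 11 ^ (Nat.card X).factorization 11 := by
    intro x hx
    rw [hfac, pow_one, Nat.card_zpowers, hx]
  let P : Sylow 11 X := Sylow.ofCard (zpowers c) (hcardz c hord)
  have hordα : orderOf (α c) = 11 := by
    rw [show orderOf (α c) = orderOf c from orderOf_injective α.toMonoidHom α.injective c, hord]
  let Q : Sylow 11 X := Sylow.ofCard (zpowers (α c)) (hcardz _ hordα)
  obtain ⟨g, hg⟩ := MulAction.exists_smul_eq X Q P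
  have h1 : g * α c * g⁻¹ ∈ zpowers c := by
    have h2 : (MulAut.conj g) • (α c) ∈ (MulAut.conj g) • (Q : Subgroup X) :=
      Subgroup.smul_mem_pointwise_smul _ _ _ (mem_zpowers (α c))
    have h3 : ((g • Q : Sylow 11 X) : Subgroup X) = (MulAut.conj g) • (Q : Subgroup X) := rfl
    rw [← h3, hg] at h2
    exact h2
  obtain ⟨k, hk, hkc⟩ : ∃ k < 11, c ^ k = g * α c * g⁻¹ := by
    obtain ⟨n, hn⟩ := mem_zpowers_iff.mp h1
    have h2 : c ^ (n % 11) = c ^ n := by
      have := zpow_mod_orderOf c n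
      rw [hord] at this
      exact this
    refine ⟨(n % 11).toNat, ?_, ?_⟩
    · have := Int.emod_lt_of_pos n (show (0 : ℤ) < 11 by norm_num)
      omega
    · rw [← hn, ← h2, ← zpow_natCast, Int.toNat_of_nonneg (Int.emod_nonneg _ (by norm_num))]
  have hk0 : k ≠ 0 := by
    rintro rfl
    rw [pow_zero] at hkc
    have h2 : α c = 1 := by
      calc α c = g⁻¹ * (g * α c * g⁻¹) * g := by group
        _ = 1 := by rw [← hkc]; group
    rw [h2, orderOf_one] at hordα
    norm_num at hordα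
  obtain ⟨d, hd⟩ := exists_d hM
  have hdj : ∀ j : ℕ, d ^ j * c * (d ^ j)⁻¹ = c ^ (5 ^ j) := by
    intro j
    induction j with
    | zero => simp
    | succ j ih =>
      calc d ^ (j + 1) * c * (d ^ (j + 1))⁻¹ = d * (d ^ j * c * (d ^ j)⁻¹) * d⁻¹ := by
            rw [pow_succ']; group
        _ = d * c ^ (5 ^ j) * d⁻¹ := by rw [ih]
        _ = (d * c * d⁻¹) ^ (5 ^ j) := by rw [conj_pow]
        _ = (c ^ 5) ^ (5 ^ j) := by rw [hd]
        _ = c ^ (5 ^ (j + 1)) := by rw [← pow_mul, pow_succ, mul_comm 5]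
  obtain ⟨j, hj⟩ := pow_fact ⟨k, hk⟩ hk0
  have h4 : (d ^ j.1 * g) * α c * (d ^ j.1 * g)⁻¹ = c ^ ((k * 5 ^ j.1) % 11) := by
    calc (d ^ j.1 * g) * α c * (d ^ j.1 * g)⁻¹ = d ^ j.1 * (g * α c * g⁻¹) * (d ^ j.1)⁻¹ := by
          group
      _ = d ^ j.1 * c ^ k * (d ^ j.1)⁻¹ := by rw [hkc]
      _ = (d ^ j.1 * c * (d ^ j.1)⁻¹) ^ k := by rw [conj_pow]
      _ = c ^ (k * 5 ^ j.1) := by rw [hdj, ← pow_mul, mul_comm]
      _ = c ^ ((k * 5 ^ j.1) % 11) := by
        conv_lhs => rw [← pow_mod_orderOf, hord]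
  refine ⟨d ^ j.1 * g, ?_⟩
  rcases hj with hj | hj
  · left
    rw [h4]
    have hj' : k * 5 ^ j.1 % 11 = 1 := hj
    rw [hj', pow_one]
  · right
    rw [h4]
    have hj' : k * 5 ^ j.1 % 11 = 10 := hj
    rw [hj']
    apply eq_inv_of_mul_eq_one_left
    rw [← pow_succ, hc11]

/-- **automorphisms of 2.M12** -/
theorem aut (hM : Model π z ψ a b) (α : X ≃* X) :
    ∃ g, (∀ x, ψ (α x) = ψ g * ψ x * (ψ g)⁻¹) ∨
      ∀ x, ψ (α x) = ψ g * (W * ψ x * W) * (ψ g)⁻¹ := by
  have key : ∀ β : X ≃* X, (∃ g, g * β (a * b) * g⁻¹ = a * b) → ∃ g, ∀ x, β x = g * x * g⁻¹ := by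
    rintro β ⟨g, hg⟩
    obtain ⟨k, hk⟩ := aut_fix hM (β.trans (MulAut.conj g)) hg
    refine ⟨g⁻¹ * k, fun x => ?_⟩
    have h1 : g * β x * g⁻¹ = k * x * k⁻¹ := hk x
    calc β x = g⁻¹ * (g * β x * g⁻¹) * g := by group
      _ = g⁻¹ * k * x * (g⁻¹ * k)⁻¹ := by rw [h1]; group
  obtain ⟨g, hg | hg⟩ := aut_c hM α
  · obtain ⟨k, hk⟩ := key α ⟨g, hg⟩
    exact ⟨k, Or.inl fun x => by rw [hk, map_mul, map_mul, map_inv]⟩
  · obtain ⟨τ, hτ, hττ⟩ := exists_tau hM
    have h1 : τ (a * b) = a * (a * b)⁻¹ * a⁻¹ := by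
      apply hM.inj
      rw [hτ, map_mul, map_mul, map_mul, map_inv, map_inv, map_mul, hM.ψa, hM.ψb]
      calc W * (A * B) * W = W * A * 1 * B * W := by group
        _ = W * A * (W * W) * B * W := by rw [W_sq]
        _ = (W * A * W) * (W * B * W) := by group
        _ = A * B⁻¹ := by rw [WA, WB]
        _ = A * B⁻¹ * (A * A)⁻¹ := by rw [rels.ha]; group
        _ = _ := by group
    have h2 : (g * (α a)⁻¹) * (τ.trans α) (a * b) * (g * (α a)⁻¹)⁻¹ = a * b := by
      show (g * (α a)⁻¹) * α (τ (a * b)) * (g * (α a)⁻¹)⁻¹ = a * b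
      rw [h1, map_mul, map_mul, map_inv, map_inv]
      calc g * (α a)⁻¹ * (α a * (α (a * b))⁻¹ * (α a)⁻¹) * (g * (α a)⁻¹)⁻¹
          = (g * α (a * b) * g⁻¹)⁻¹ := by group
        _ = a * b := by rw [hg, inv_inv]
    obtain ⟨k, hk⟩ := key (τ.trans α) ⟨_, h2⟩
    refine ⟨k, Or.inr fun x => ?_⟩
    have h3 : α x = k * τ x * k⁻¹ := by
      have h4 : α (τ (τ x)) = k * τ x * k⁻¹ := hk (τ x)
      rwa [hττ] at h4
    rw [h3, map_mul, map_mul, map_inv, hτ]

end Cfsg.Agent.GH.MTwAut
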