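import Mathlib
import Cfsg.Agent.GH.MTwAut

/-!
# 2.M12: normalizer of `T`, classes of involutions
-/

set_option autoImplicit false
set_option maxRecDepth 100000

open Subgroup

namespace Cfsg.Agent.GH.MTwNorm

open Cfsg.Agent.CoThreeStd.MTwelve (H wd card_H card_cent_v)
open Cfsg.Agent.GH.MTwBound Cfsg.Agent.GH.MTwModel Cfsg.Agent.GH.MTwSyl Cfsg.Agent.GH.MTwFacts
  Cfsg.Agent.GH.MTwCover Cfsg.Agent.GH.MTwPsi Cfsg.Agent.GH.MTwAut
open Cfsg.Agent.GH.MTwCode (Pm)

theorem A_mem_M : A ∈ M := subset_closure (by simp)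
theorem B_mem_M : B ∈ M := subset_closure (by simp)
theorem Z_mem_M : Z ∈ M := rels.z_mem

theorem ew_mem_M (w : List ℕ) : ew A B Z w ∈ M := by
  induction w with
  | nil => exact one_mem _
  | cons x w ih =>
    rw [ew_cons]
    refine mul_mem ?_ ih
    rcases x with _ | _ | _ | _ | x
    · exact A_mem_M
    · exact B_mem_M
    · exact inv_mem B_mem_M
    · exact Z_mem_M
    · exact one_mem _

theorem T_le_M : T ≤ M := by
  show closure {G0, G1, G2} ≤ M
  rw [closure_le]
  rintro x (rfl | rfl | rfl)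
  · rw [G0_eq]; exact ew_mem_M _
  · rw [G1_eq]; exact ew_mem_M _
  · rw [G2_eq]; exact ew_mem_M _

theorem comm_Z_M {m : Pm} (hm : m ∈ M) : Z * m = m * Z := by
  have h1 : M ≤ centralizer {Z} := by
    show closure {A, B} ≤ _
    rw [closure_le]
    rintro x (rfl | rfl)
    · exact mem_centralizer_singleton_iff.mpr rels.comm_a.symm
    · exact mem_centralizer_singleton_iff.mpr rels.comm_b.symm
  exact (mem_centralizer_singleton_iff.mp (h1 hm)).symm

variable {X : Type*} [Group X] {π : X →* H} {z : X} {ψ : X →* Pm} {a b : X}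

theorem card_M (hM : Model π z ψ a b) : Nat.card M = 190080 := by
  rw [← hM.range, ← Cov.card hM.cov]
  exact (Nat.card_congr (MonoidHom.ofInjective hM.inj).toEquiv).symm

theorem exists_pre (hM : Model π z ψ a b) {m : Pm} (hm : m ∈ M) : ∃ x, ψ x = m := by
  rw [← hM.range] at hm
  exact hm

/-- involutions of `T` -/
theorem classT (hM : Model π z ψ a b) {t : Pm} (ht : t ∈ T) (h2 : t * t = 1) (h1 : t ≠ 1)
    (hZ : t ≠ Z) : ∃ m ∈ M, m * t * m⁻¹ = A ∨ m * t * m⁻¹ = A * Z := by
  obtain ⟨x, rfl⟩ := exists_pre hM (T_le_M ht)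
  have hx2 : x * x = 1 := hM.inj (by rw [map_mul, h2, map_one])
  have hπ : π x ≠ 1 := by
    intro h
    rcases hM.cov.ker x h with h3 | h3
    · exact h1 (by rw [h3, map_one])
    · exact hZ (by rw [h3, hM.ψz])
  obtain ⟨c, hc⟩ := type_of_sq hM hx2 hπ
  obtain ⟨g, rfl⟩ := hM.cov.surj c
  have h3 : π x = π (g⁻¹ * a * g) := by rw [map_mul, map_mul, map_inv, hM.πa, hc]
  refine ⟨ψ g, by rw [← hM.range]; exact ⟨g, rfl⟩, ?_⟩
  rcases hM.cov.eq_or h3 with h4 | h4
  · left
    rw [h4, ← hM.ψa, ← map_mul, ← map_inv, ← map_mul]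
    congr 1
    group
  · right
    rw [h4, ← hM.ψa, ← hM.ψz, ← map_mul, ← map_inv, ← map_mul, ← map_mul]
    congr 1
    calc g * (g⁻¹ * a * g * z) * g⁻¹ = a * (g * z) * g⁻¹ := by group
      _ = a * (z * g) * g⁻¹ := by rw [hM.cov.comm g]
      _ = a * z := by group

theorem card_cent_A (hM : Model π z ψ a b) :
    Nat.card (M ⊓ centralizer {A} : Subgroup Pm) ≤ 384 := by
  have hfin := Cov.finite hM.cov
  have h1 : (M ⊓ centralizer {A} : Subgroup Pm) ≤ (centralizer {a}).map ψ := by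
    rintro m ⟨hm, hmA⟩
    obtain ⟨x, rfl⟩ := exists_pre hM hm
    refine ⟨x, ?_, rfl⟩
    have h2 := mem_centralizer_singleton_iff.mp hmA
    refine mem_centralizer_singleton_iff.mpr (hM.inj ?_)
    rw [map_mul, map_mul, hM.ψa, h2]
  refine (Subgroup.card_le_of_le h1).trans ?_
  refine (Nat.card_le_card_of_surjective _ (ψ.subgroupMap_surjective (centralizer {a}))).trans ?_
  -- the map to the centralizer in M12
  let f : centralizer {a} →* H := π.comp (centralizer {a}).subtype
  have hk := f.ker.card_mul_index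
  rw [index_ker] at hk
  have hker : Nat.card f.ker ≤ 2 := by
    rw [← Cov.card_ker hM.cov]
    refine Nat.card_le_card_of_injective
      (fun x : f.ker => (⟨x.1.1, show x.1.1 ∈ π.ker from x.2⟩ : π.ker)) ?_
    intro x y hxy
    have h3 := congrArg (fun y : π.ker => (y : X)) hxy
    exact Subtype.ext (Subtype.ext h3)
  have hrange : Nat.card f.range ≤ 192 := by
    have h2 : f.range ≤ centralizer {a0} := by
      rintro _ ⟨x, rfl⟩
      rw [mem_centralizer_singleton_iff]
      show π x.1 * a0 = a0 * π x.1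
      rw [← hM.πa, ← map_mul, ← map_mul, mem_centralizer_singleton_iff.mp x.2]
    have h3 : Nat.card (centralizer {a0} : Subgroup H) = 192 := by rw [a0_eq]; exact card_cent_v
    rw [← h3]
    exact Subgroup.card_le_of_le h2
  calc Nat.card (centralizer {a}) = Nat.card f.ker * Nat.card f.range := hk.symm
    _ ≤ 2 * 192 := Nat.mul_le_mul hker hrange
    _ = 384 := by norm_num

theorem AZ_mul_Z : A * Z * Z = A := by rw [mul_assoc, rels.hz, mul_one]

/-- `T` is self-normalizing in `M` -/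
theorem normT (hM : Model π z ψ a b) {m : Pm} (hm : m ∈ M) (h : ∀ t ∈ T, m * t * m⁻¹ ∈ T) :
    m ∈ T := by
  have hfinP : Finite Pm := inferInstance
  set N : Subgroup Pm := M ⊓ normalizer (T : Set Pm) with hN
  have hmem : ∀ n ∈ M, (∀ t ∈ T, n * t * n⁻¹ ∈ T) → n ∈ N := by
    intro n hn hnT
    refine ⟨hn, ?_⟩
    show n ∈ normalizer (T : Set Pm)
    rw [mem_normalizer_iff]
    have h1 : T.map (MulAut.conj n).toMonoidHom = T := by
      refine Subgroup.eq_of_le_of_card_ge ?_ ?_
      · rintro _ ⟨t, ht, rfl⟩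
        exact hnT t ht
      · rw [Subgroup.card_map_of_injective (MulAut.conj n).injective]
    intro t
    constructor
    · exact hnT t
    · intro h2
      have h3 : n * t * n⁻¹ ∈ T.map (MulAut.conj n).toMonoidHom := by rw [h1]; exact h2
      obtain ⟨u, hu, hut⟩ := h3
      have h4 : n * u * n⁻¹ = n * t * n⁻¹ := hut
      rwa [← mul_left_cancel (mul_right_cancel h4)]
  set CA : Subgroup Pm := M ⊓ centralizer {A} with hCA
  have hNC : N ≤ CA := by
    rintro n ⟨hn, hnT⟩
    refine ⟨hn, ?_⟩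
    show n ∈ centralizer {A}
    rw [mem_centralizer_singleton_iff]
    have h1 : n * G0 * n⁻¹ ∈ T := (mem_normalizer_iff.mp hnT G0).mp G0_mem
    have h2 : (n * G0 * n⁻¹) ^ 4 = n * (A * Z) * n⁻¹ := by rw [conj_pow, G0_pow_four]
    have h3 : n * (A * Z) * n⁻¹ = A * Z := by
      rcases pow_four h1 with h4 | h4
      · exfalso
        rw [h2, mul_inv_eq_one, mul_eq_left] at h4
        apply A_ne_Z
        rw [← AZ_mul_Z, h4, one_mul]
      · rw [← h2, h4]
    have h5 : n * A * n⁻¹ = A := by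
      calc n * A * n⁻¹ = n * (A * Z * Z) * n⁻¹ := by rw [AZ_mul_Z]
        _ = n * (A * Z) * n⁻¹ * (n * Z) * n⁻¹ := by group
        _ = A * Z * (Z * n) * n⁻¹ := by rw [h3, comm_Z_M hn]
        _ = A * Z * Z := by group
        _ = A := AZ_mul_Z
    rw [mul_inv_eq_iff_eq_mul] at h5
    exact h5
  have hTN : T ≤ N := le_inf T_le_M le_normalizer
  have hX0C : X0 ∈ CA := ⟨ew_mem_M _, mem_centralizer_singleton_iff.mpr X0_comm⟩
  have hX0N : X0 ∉ N := by
    rintro ⟨_, h1⟩
    exact X0_not ((mem_normalizer_iff.mp h1 G0).mp G0_mem)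
  have hcardC : Nat.card CA ≤ 384 := card_cent_A hM
  have h128 : 128 ∣ Nat.card N := by rw [← card_T]; exact card_dvd_of_le hTN
  obtain ⟨j, hj⟩ := h128
  have hNC2 : Nat.card N ∣ Nat.card CA := card_dvd_of_le hNC
  obtain ⟨i, hi⟩ := hNC2
  have hCpos : 0 < Nat.card CA := Nat.card_pos
  have hi1 : i ≠ 1 := by
    rintro rfl
    rw [mul_one] at hi
    have h1 : N = CA := Subgroup.eq_of_le_of_card_ge hNC hi.le
    rw [← h1] at hX0C
    exact hX0N hX0C
  have hi0 : i ≠ 0 := by rintro rfl; omega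
  have hj0 : j ≠ 0 := by rintro rfl; rw [hj] at hi; omega
  have hj1 : j = 1 := by
    by_contra hj1
    have h2 : 2 ≤ i := by omega
    have h3 : 2 ≤ j := by omega
    have h4 : 128 * 2 * 2 ≤ Nat.card CA := by
      rw [hi, hj]
      exact Nat.mul_le_mul (Nat.mul_le_mul_left _ h3) h2
    omega
  rw [hj1, mul_one] at hj
  have hTN2 : T = N := Subgroup.eq_of_le_of_card_ge hTN (by rw [hj, card_T])
  rw [hTN2]
  exact hmem m hm h

end Cfsg.Agent.GH.MTwNorm
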