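import Mathlib
import Cfsg.Agent.GH.MTwFus
import Cfsg.Agent.GH.MTwNorm

/-!
# 2.M12: local analysis
-/

set_option autoImplicit false

open Subgroup
open scoped Pointwise

namespace Cfsg.Agent.GH.MTwLocal

open Cfsg.Agent.GH.MTwCode (Pm)
open Cfsg.Agent.GH.MTwModel Cfsg.Agent.GH.MTwSyl Cfsg.Agent.GH.MTwFacts Cfsg.Agent.GH.MTwFus
  Cfsg.Agent.GH.MTwNorm

/-! ### general lemmas -/

/-- a homomorphism with odd kernel onto a 2-group splits -/
theorem exists_section {Y T : Type*} [Group Y] [Group T] [Finite Y] (f : Y →* T)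
    (hf : Function.Surjective f) (hT : IsPGroup 2 T) (hk : Odd (Nat.card f.ker)) :
    ∃ g : T →* Y, ∀ t, f (g t) = t := by
  classical
  have hp2 : Fact (Nat.Prime 2) := ⟨Nat.prime_two⟩
  have hfinT : Finite T := Finite.of_surjective f hf
  obtain ⟨Q⟩ : Nonempty (Sylow 2 Y) := inferInstance
  let f' : Q →* T := f.comp (Q : Subgroup Y).subtype
  have hinj : Function.Injective f' := by
    rw [injective_iff_map_eq_one]
    intro q hq
    have h1 : (q : Y) ∈ f.ker := hq
    obtain ⟨n, hn⟩ := Q.2 q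
    have h2 : orderOf q ∣ 2 ^ n := orderOf_dvd_of_pow_eq_one hn
    have h3 : orderOf q ∣ Nat.card f.ker := by
      rw [← Subgroup.orderOf_coe]
      have := orderOf_dvd_natCard (⟨q, h1⟩ : f.ker)
      rwa [← Subgroup.orderOf_coe] at this
    have h4 : (2 ^ n).Coprime (Nat.card f.ker) := (Nat.coprime_two_left.mpr hk).pow_left n
    exact orderOf_eq_one_iff.mp (Nat.eq_one_of_dvd_coprimes h4 h2 h3)
  obtain ⟨k, hkc⟩ := (IsPGroup.iff_card).mp hT
  have hcard : Nat.card Q = Nat.card T := by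
    rw [Q.card_eq_multiplicity]
    have h1 := f.ker.card_mul_index
    rw [index_ker, MonoidHom.range_eq_top.mpr hf, Subgroup.card_top] at h1
    rw [← h1, Nat.factorization_mul hk.pos.ne' (Nat.card_pos).ne', Finsupp.add_apply,
      Nat.factorization_eq_zero_of_not_dvd hk.not_two_dvd_nat, zero_add, hkc,
      Nat.Prime.factorization_pow Nat.prime_two, Finsupp.single_eq_same]
  have hbij : Function.Bijective f' :=
    (Nat.bijective_iff_injective_and_card f').mpr ⟨hinj, hcard⟩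
  let e : Q ≃* T := MulEquiv.ofBijective f' hbij
  refine ⟨(Q : Subgroup Y).subtype.comp e.symm.toMonoidHom, fun t => ?_⟩
  exact e.apply_symm_apply t

/-- involutions whose product has odd order are conjugate -/
theorem conj_of_odd {Y : Type*} [Group Y] {x y : Y} (hx : x * x = 1) (hy : y * y = 1) {n : ℕ}
    (hn : Odd n) (h : (x * y) ^ n = 1) : ∃ g, g * x * g⁻¹ = y := by
  obtain ⟨k, rfl⟩ := hn
  have hxi : x⁻¹ = x := inv_eq_of_mul_eq_one_left hx
  have hyi : y⁻¹ = y := inv_eq_of_mul_eq_one_left hy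
  set w := (x * y) ^ k with hw
  have h1 : x * w * x⁻¹ = w⁻¹ := by
    rw [hw, ← conj_pow, ← inv_pow]
    congr 1
    rw [mul_inv_rev, hxi, hyi]
    calc x * (x * y) * x = (x * x) * y * x := by group
      _ = y * x := by rw [hx, one_mul]
  have h2 : w * w * (x * y) = 1 := by
    rw [← h, hw, pow_add, pow_one, two_mul, pow_add]
  have h3 : w * w = y * x := by
    have : w * w = (x * y)⁻¹ := eq_inv_of_mul_eq_one_left h2
    rw [this, mul_inv_rev, hxi, hyi]
  have h4 : w⁻¹ * x = x * w := by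
    rw [← h1]; group
  refine ⟨x * w⁻¹, ?_⟩
  calc x * w⁻¹ * x * (x * w⁻¹)⁻¹ = x * (w⁻¹ * x) * w * x⁻¹ := by group
    _ = x * (x * w) * w * x⁻¹ := by rw [h4]
    _ = (x * x) * (w * w) * x⁻¹ := by group
    _ = y := by rw [hx, h3, one_mul, mul_inv_cancel_right]

/-- a Sylow 2-subgroup of the centralizer of `z` containing a given 2-subgroup -/
theorem exists_absorb {G : Type*} [Group G] [Finite G] (z : G) (Q : Subgroup G)
    (hQ : IsPGroup 2 Q) (hQz : Q ≤ centralizer {z}) :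
    ∃ P : Subgroup G, Q ≤ P ∧ IsPGroup 2 P ∧ P ≤ centralizer {z} ∧ Absorb P z := by
  have hp2 : Fact (Nat.Prime 2) := ⟨Nat.prime_two⟩
  set C : Subgroup G := centralizer {z} with hC
  have h1 : IsPGroup 2 (Q.subgroupOf C) := hQ.comap_subtype
  obtain ⟨S, hS⟩ := h1.exists_le_sylow
  refine ⟨(S : Subgroup C).map C.subtype, ?_, S.2.map _, map_subtype_le _, ?_⟩
  · intro x hx
    exact ⟨⟨x, hQz hx⟩, hS hx, rfl⟩
  · intro R hR hRz
    have hRC : R ≤ C := fun x hx => mem_centralizer_singleton_iff.mpr (hRz x hx)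
    have h2 : IsPGroup 2 (R.subgroupOf C) := hR.comap_subtype
    obtain ⟨S', hS'⟩ := h2.exists_le_sylow
    obtain ⟨c, hc⟩ := MulAction.exists_smul_eq C S' S
    refine ⟨c, ?_, ?_⟩
    · have := mem_centralizer_singleton_iff.mp c.2
      rw [this, mul_inv_cancel_right]
    · intro x hx
      have h3 : (⟨x, hRC hx⟩ : C) ∈ (S' : Subgroup C) := hS' hx
      have h4 : (MulAut.conj c) • (⟨x, hRC hx⟩ : C) ∈ (MulAut.conj c) • (S' : Subgroup C) :=
        Subgroup.smul_mem_pointwise_smul _ _ _ h3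
      have h5 : ((c • S' : Sylow 2 C) : Subgroup C) = (MulAut.conj c) • (S' : Subgroup C) := rfl
      rw [← h5, hc] at h4
      exact ⟨_, h4, rfl⟩

/-! ### the situation -/

variable {G : Type*} [Group G]

/-- conjugation by an element of the normalizer -/
def cjK {K : Subgroup G} {u : G} (hu : u ∈ normalizer (K : Set G)) (k : K) : K :=
  ⟨u * k * u⁻¹, (mem_normalizer_iff.mp hu k).mp k.2⟩

structure Sit (z : G) (K : Subgroup G) (θ : K →* Pm) : Prop where
  ord : orderOf z = 2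
  le : K ≤ centralizer {z}
  nor : ∀ u, u * z = z * u → u ∈ normalizer (K : Set G)
  range : θ.range = M
  ker : Odd (Nat.card θ.ker)
  hz : ∃ hz : z ∈ K, θ ⟨z, hz⟩ = Z
  act : ∀ (u : G) (hu : u * z = z * u), ∃ m ∈ M, (∀ k, θ (cjK (nor u hu) k) = m * θ k * m⁻¹) ∨
    ∀ k, θ (cjK (nor u hu) k) = m * (W * θ k * W) * m⁻¹
  fix : ∀ (u : G) (hu : u * z = z * u), (∃ n : ℕ, u ^ 2 ^ n = 1) →
    (∀ k, θ (cjK (nor u hu) k) = θ k) → u = 1 ∨ u = z
  cardM : Nat.card M = 190080
  cls : ∀ t ∈ T, t * t = 1 → t ≠ 1 → t ≠ Z → ∃ m ∈ M, m * t * m⁻¹ = A ∨ m * t * m⁻¹ = A * Z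
  norT : ∀ m ∈ M, (∀ t ∈ T, m * t * m⁻¹ ∈ T) → m ∈ T

variable {z : G} {K : Subgroup G} {θ : K →* Pm}

theorem two_element_ker [Finite G] (h : Sit z K θ) {k : K} (hk : θ k = 1) {n : ℕ}
    (hn : k ^ 2 ^ n = 1) : k = 1 := by
  have h2 : orderOf k ∣ 2 ^ n := orderOf_dvd_of_pow_eq_one hn
  have h3 : orderOf k ∣ Nat.card θ.ker := by
    have := orderOf_dvd_natCard (⟨k, hk⟩ : θ.ker)
    rwa [← Subgroup.orderOf_coe] at this
  have h4 : (2 ^ n).Coprime (Nat.card θ.ker) := (Nat.coprime_two_left.mpr h.ker).pow_left n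
  exact orderOf_eq_one_iff.mp (Nat.eq_one_of_dvd_coprimes h4 h2 h3)

theorem mem_ker_of_odd [Finite G] (h : Sit z K θ) {x : G} (hx : x * z = z * x) {n : ℕ}
    (hn : x ^ 2 ^ n = 1) (hin : ∃ m ∈ M, ∀ k, θ (cjK (h.nor x hx) k) = m * θ k * m⁻¹) :
    x ∈ K := by
  classical
  have hp2 : Fact (Nat.Prime 2) := ⟨Nat.prime_two⟩
  obtain ⟨m, hm, hxk⟩ := hin
  rw [← h.range] at hm
  obtain ⟨k0, rfl⟩ := hm
  -- the kernel of the action
  set C : Subgroup G := centralizer {z} with hC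
  have hCn : C ≤ normalizer (K : Set G) := fun u hu => h.nor u (mem_centralizer_singleton_iff.mp hu)
  have hcomp : ∀ (u v : G) (hu : u * z = z * u) (hv : v * z = z * v) (k : K),
      cjK (h.nor (u * v) (by rw [mul_assoc, hv, ← mul_assoc, hu, mul_assoc])) k =
        cjK (h.nor u hu) (cjK (h.nor v hv) k) := by
    intro u v hu hv k
    apply Subtype.ext
    show u * v * k * (u * v)⁻¹ = u * (v * k * v⁻¹) * u⁻¹
    group
  let N : Subgroup G :=
    { carrier := {u | ∃ hu : u * z = z * u, ∀ k, θ (cjK (h.nor u hu) k) = θ k}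
      one_mem' := by
        refine ⟨by simp, fun k => ?_⟩
        congr 1
        apply Subtype.ext
        show 1 * (k : G) * 1⁻¹ = k
        group
      mul_mem' := by
        rintro u v ⟨hu, hu2⟩ ⟨hv, hv2⟩
        refine ⟨by rw [mul_assoc, hv, ← mul_assoc, hu, mul_assoc], fun k => ?_⟩
        rw [hcomp u v hu hv, hu2, hv2]
      inv_mem' := by
        rintro u ⟨hu, hu2⟩
        have hu' : u⁻¹ * z = z * u⁻¹ := by
          rw [inv_mul_eq_iff_eq_mul, ← mul_assoc, hu, mul_inv_cancel_right]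
        refine ⟨hu', fun k => ?_⟩
        rw [← hu2 (cjK (h.nor u⁻¹ hu') k)]
        congr 1
        apply Subtype.ext
        show u * (u⁻¹ * k * u⁻¹⁻¹) * u⁻¹ = k
        group }
  have hNmem : ∀ u, u ∈ N ↔ ∃ hu : u * z = z * u, ∀ k, θ (cjK (h.nor u hu) k) = θ k := fun u => Iff.rfl
  have hNC : N ≤ C := fun u hu => mem_centralizer_singleton_iff.mpr ((hNmem u).mp hu).1
  obtain ⟨hzK, hθz⟩ := h.hz
  -- odd index
  have hodd : Odd (K.subgroupOf N).index := by
    obtain ⟨S⟩ : Nonempty (Sylow 2 N) := inferInstance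
    have h1 : (S : Subgroup N) ≤ K.subgroupOf N := by
      intro u hu
      rw [mem_subgroupOf]
      obtain ⟨n, hn⟩ := S.2 ⟨u, hu⟩
      have hn' : (u : G) ^ 2 ^ n = 1 := by
        have h2 := congrArg (fun v : S => ((v : N) : G)) hn
        simpa using h2
      obtain ⟨hu1, hu2⟩ := (hNmem u).mp u.2
      rcases h.fix u hu1 ⟨n, hn'⟩ hu2 with h3 | h3
      · rw [h3]; exact one_mem _
      · rw [h3]; exact hzK
    have h2 := index_dvd_of_le h1
    have h3 := S.not_dvd_index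
    rw [← Nat.not_even_iff_odd, even_iff_two_dvd]
    exact fun h4 => h3 (h4.trans h2)
  have hKN : (K.subgroupOf N).Normal := by
    refine normal_subgroupOf_of_le_normalizer ?_
    exact hNC.trans hCn
  -- `y = k0⁻¹ x ∈ N`
  have hkz : (k0 : G)⁻¹ * z = z * (k0 : G)⁻¹ := by
    have := mem_centralizer_singleton_iff.mp (h.le k0.2)
    rw [inv_mul_eq_iff_eq_mul, ← mul_assoc, this, mul_inv_cancel_right]
  have hyz : ((k0 : G)⁻¹ * x) * z = z * ((k0 : G)⁻¹ * x) := by
    rw [mul_assoc, hx, ← mul_assoc, hkz, mul_assoc]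
  have hy : (k0 : G)⁻¹ * x ∈ N := by
    refine (hNmem _).mpr ⟨hyz, fun k => ?_⟩
    have h1 : cjK (h.nor _ hyz) k = k0⁻¹ * cjK (h.nor x hx) k * k0 := by
      apply Subtype.ext
      show (k0 : G)⁻¹ * x * k * ((k0 : G)⁻¹ * x)⁻¹ = (k0 : G)⁻¹ * (x * k * x⁻¹) * k0
      group
    rw [h1, map_mul, map_mul, map_inv, hxk]
    group
  have hpow : ((k0 : G)⁻¹ * x) ^ (K.subgroupOf N).index ∈ K := by
    have h1 := Subgroup.pow_index_mem (K.subgroupOf N) (⟨_, hy⟩ : N)
    exact h1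
  -- the quotient `C / K`
  have hKC : (K.subgroupOf C).Normal := normal_subgroupOf_of_le_normalizer hCn
  let q := QuotientGroup.mk' (K.subgroupOf C)
  have hxC : x ∈ C := mem_centralizer_singleton_iff.mpr hx
  have hk0C : (k0 : G) ∈ C := h.le k0.2
  let x' : C := ⟨x, hxC⟩
  let k' : C := ⟨k0, hk0C⟩
  have hq1 : q (k'⁻¹ * x') = q x' := by
    have : q k' = 1 := (QuotientGroup.eq_one_iff k').mpr k0.2
    rw [map_mul, map_inv, this, inv_one, one_mul]
  have hq2 : q x' ^ (K.subgroupOf N).index = 1 := by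
    rw [← hq1, ← map_pow]
    exact (QuotientGroup.eq_one_iff _).mpr hpow
  have hq3 : q x' ^ 2 ^ n = 1 := by
    rw [← map_pow]
    have : x' ^ 2 ^ n = 1 := Subtype.ext hn
    rw [this, map_one]
  have h4 : (2 ^ n).Coprime (K.subgroupOf N).index := (Nat.coprime_two_left.mpr hodd).pow_left n
  have h5 : orderOf (q x') = 1 := Nat.eq_one_of_dvd_coprimes h4 (orderOf_dvd_of_pow_eq_one hq3)
    (orderOf_dvd_of_pow_eq_one hq2)
  exact (QuotientGroup.eq_one_iff x').mp (orderOf_eq_one_iff.mp h5)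

theorem card_le_of_two [Finite G] (h : Sit z K θ) {R : Subgroup G} (hR : IsPGroup 2 R)
    (hRK : R ≤ K) : Nat.card R ≤ 128 := by
  have hp2 : Fact (Nat.Prime 2) := ⟨Nat.prime_two⟩
  let f : R →* M := (θ.codRestrict M (fun k => by rw [← h.range]; exact ⟨k, rfl⟩)).comp
    (inclusion hRK)
  have hinj : Function.Injective f := by
    rw [injective_iff_map_eq_one]
    intro r hr
    obtain ⟨n, hn⟩ := hR r
    have h1 : θ (inclusion hRK r) = 1 := congrArg Subtype.val hr
    have h2 : (inclusion hRK r) ^ 2 ^ n = 1 := by rw [← map_pow, hn, map_one]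
    have h3 := two_element_ker h h1 h2
    exact (inclusion_injective hRK) (by rw [h3, map_one])
  have h1 : Nat.card R ∣ Nat.card M := Subgroup.card_dvd_of_injective f hinj
  obtain ⟨n, hn⟩ := (IsPGroup.iff_card).mp hR
  rw [hn, h.cardM] at h1
  rw [hn]
  have h2 : (190080 : ℕ) = 2 ^ 7 * 1485 := by norm_num
  rw [h2] at h1
  have h3 : 2 ^ n ∣ 2 ^ 7 :=
    Nat.Coprime.dvd_of_dvd_mul_right ((Nat.coprime_two_left.mpr (by decide)).pow_left n) h1
  have h4 := Nat.le_of_dvd (by norm_num) h3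
  exact h4

/-- **the structure of a Sylow 2-subgroup of `C(z)`** -/
theorem exists_data [Finite G] (h : Sit z K θ) : ∃ (ι : T →* G) (P : Subgroup G), ι tZ = z ∧
    Data ι P ∧ IsPGroup 2 P ∧ Absorb P z ∧ (∀ t, ∃ ht : ι t ∈ K, θ ⟨ι t, ht⟩ = t) := by
  classical
  have hp2 : Fact (Nat.Prime 2) := ⟨Nat.prime_two⟩
  have hT2 : IsPGroup 2 T := IsPGroup.of_card (n := 7) (by rw [card_T]; norm_num)
  obtain ⟨hzK, hθz⟩ := h.hz
  have hTr : T ≤ θ.range := by rw [h.range]; exact T_le_M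
  -- section
  let f : (T.comap θ) →* T := (θ.comp (T.comap θ).subtype).codRestrict T (fun k => k.2)
  have hf : Function.Surjective f := by
    rintro ⟨t, ht⟩
    obtain ⟨k, hk⟩ := hTr ht
    exact ⟨⟨k, by rw [mem_comap, hk]; exact ht⟩, Subtype.ext hk⟩
  have hfk : Odd (Nat.card f.ker) := by
    have h1 : Nat.card f.ker = Nat.card θ.ker := by
      refine Nat.card_congr ⟨fun x => ⟨x.1.1, ?_⟩, fun x => ⟨⟨x.1, ?_⟩, ?_⟩, fun x => rfl, fun x => rfl⟩
      · exact congrArg Subtype.val x.2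
      · rw [mem_comap, show θ x.1 = 1 from x.2]; exact one_mem _
      · exact Subtype.ext x.2
    rw [h1]; exact h.ker
  obtain ⟨g, hg⟩ := exists_section f hf hT2 hfk
  let ι : T →* G := (K.subtype.comp (T.comap θ).subtype).comp g
  have hιK : ∀ t, ι t ∈ K := fun t => (g t).1.2
  have hθι : ∀ t, θ ⟨ι t, hιK t⟩ = t := fun t => congrArg Subtype.val (hg t)
  have hinj : Function.Injective ι := by
    intro t u htu
    apply Subtype.ext
    rw [← hθι t, ← hθι u]
    congr 1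
    exact Subtype.ext htu
  -- `ι Z = z`
  have hιZ : ι tZ = z := by
    have h1 : θ (⟨ι tZ, hιK tZ⟩⁻¹ * ⟨z, hzK⟩) = 1 := by
      rw [map_mul, map_inv, hθι, hθz]
      exact inv_mul_cancel Z
    have hzz : z * z = 1 := by
      have := pow_orderOf_eq_one z
      rwa [h.ord, pow_two] at this
    have hcomm : ι tZ * z = z * ι tZ := mem_centralizer_singleton_iff.mp (h.le (hιK tZ))
    have h2 : (⟨ι tZ, hιK tZ⟩⁻¹ * ⟨z, hzK⟩ : K) ^ 2 ^ 1 = 1 := by
      apply Subtype.ext
      show ((ι tZ)⁻¹ * z) ^ 2 ^ 1 = 1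
      have h3 : ι tZ * ι tZ = 1 := by rw [← map_mul, tZ_sq, map_one]
      have h4 : (ι tZ)⁻¹ = ι tZ := inv_eq_of_mul_eq_one_left h3
      rw [h4, pow_one, pow_two]
      calc ι tZ * z * (ι tZ * z) = ι tZ * (z * ι tZ) * z := by group
        _ = (ι tZ * ι tZ) * (z * z) := by rw [← hcomm]; group
        _ = 1 := by rw [h3, hzz, one_mul]
    have h3 := two_element_ker h h1 h2
    have h4 : (ι tZ)⁻¹ * z = 1 := congrArg Subtype.val h3
    exact (inv_mul_eq_one.mp h4)
  -- Sylow subgroup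
  obtain ⟨P, hQP, hP2, hPC, habs⟩ := exists_absorb z ι.range
    (by
      rw [MonoidHom.range_eq_map]
      exact IsPGroup.map (H := (⊤ : Subgroup T)) (hT2.to_subgroup ⊤) ι) (by
      rintro _ ⟨t, rfl⟩
      exact h.le (hιK t))
  have hιP : ∀ t, ι t ∈ P := fun t => hQP ⟨t, rfl⟩
  have hPz : ∀ x ∈ P, x * z = z * x := fun x hx => mem_centralizer_singleton_iff.mp (hPC hx)
  -- `P ∩ K`
  have hPK : ∀ x ∈ P, x ∈ K → ∃ t, x = ι t := by
    intro x hx hxK
    have h1 : ι.range = P ⊓ K := by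
      refine Subgroup.eq_of_le_of_card_ge ?_ ?_
      · rintro _ ⟨t, rfl⟩
        exact ⟨hιP t, hιK t⟩
      · refine (card_le_of_two h (hP2.to_le inf_le_left) inf_le_right).trans ?_
        rw [← card_T]
        exact (Nat.card_congr (MonoidHom.ofInjective hinj).toEquiv).le
    have h2 : x ∈ ι.range := by rw [h1]; exact ⟨hx, hxK⟩
    obtain ⟨t, ht⟩ := h2
    exact ⟨t, ht.symm⟩
  have hPpow : ∀ x ∈ P, ∃ n : ℕ, x ^ 2 ^ n = 1 := by
    intro x hx
    obtain ⟨n, hn⟩ := hP2 ⟨x, hx⟩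
    exact ⟨n, congrArg Subtype.val hn⟩
  refine ⟨ι, P, hιZ, ⟨hinj, hιP, ?_⟩, hP2, habs, fun t => ⟨hιK t, hθι t⟩⟩
  by_cases hcase : ∀ x ∈ P, ∃ t, x = ι t
  · exact Or.inl hcase
  · right
    push Not at hcase
    obtain ⟨u, huP, hu⟩ := hcase
    -- elements outside of the range act as outer automorphisms
    have hout : ∀ x (hx : x ∈ P), (∀ t, x ≠ ι t) →
        ∃ m ∈ M, ∀ k, θ (cjK (h.nor x (hPz x hx)) k) = m * (W * θ k * W) * m⁻¹ := by
      intro x hx hxt
      obtain ⟨m, hm, hmk | hmk⟩ := h.act x (hPz x hx)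
      · exfalso
        obtain ⟨n, hn⟩ := hPpow x hx
        have h1 := mem_ker_of_odd h (hPz x hx) hn ⟨m, hm, hmk⟩
        obtain ⟨t, ht⟩ := hPK x hx h1
        exact hxt t ht
      · exact ⟨m, hm, hmk⟩
    obtain ⟨m, hm, hmk⟩ := hout u huP hu
    -- `m` normalizes `T`
    have hconjP : ∀ (x : G) (hx : x ∈ P) (t : T), ∃ t', x * ι t * x⁻¹ = ι t' := by
      intro x hx t
      refine hPK _ (P.mul_mem (P.mul_mem hx (hιP t)) (P.inv_mem hx)) ?_
      exact (mem_normalizer_iff.mp (h.nor x (hPz x hx)) _).mp (hιK t)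
    have hmT : m ∈ T := by
      refine h.norT m hm ?_
      intro t ht
      have h1 := hmk ⟨ι (tau ⟨t, ht⟩), hιK _⟩
      rw [hθι] at h1
      obtain ⟨t', ht'⟩ := hconjP u huP (tau ⟨t, ht⟩)
      have h2 : cjK (h.nor u (hPz u huP)) ⟨ι (tau ⟨t, ht⟩), hιK _⟩ = ⟨ι t', hιK t'⟩ :=
        Subtype.ext ht'
      rw [h2, hθι] at h1
      have h3 : W * ((tau ⟨t, ht⟩ : T) : Pm) * W = t := congrArg Subtype.val (tau_tau ⟨t, ht⟩)
      rw [h3] at h1
      rw [← h1]
      exact t'.2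
    set r : G := ι ⟨m, hmT⟩ with hr
    set s : G := r⁻¹ * u with hs
    have hsP : s ∈ P := P.mul_mem (P.inv_mem (hιP _)) huP
    have hsr : ∀ t, s ≠ ι t := by
      intro t ht
      apply hu (⟨m, hmT⟩ * t)
      rw [map_mul, ← ht, ← hr, hs]; group
    have hsact : ∀ k, θ (cjK (h.nor s (hPz s hsP)) k) = W * θ k * W := by
      intro k
      have h1 : cjK (h.nor s (hPz s hsP)) k =
          ⟨r, hιK _⟩⁻¹ * cjK (h.nor u (hPz u huP)) k * ⟨r, hιK _⟩ := by
        apply Subtype.ext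
        show s * k * s⁻¹ = r⁻¹ * (u * k * u⁻¹) * r
        rw [hs]; group
      rw [h1, map_mul, map_mul, map_inv, hmk, hθι]
      show m⁻¹ * (m * (W * θ k * W) * m⁻¹) * m = _
      group
    refine ⟨s, hsP, hsr, ?_, ?_, ?_⟩
    · intro x hx
      by_cases hxr : ∃ t, x = ι t
      · exact Or.inl hxr
      · right
        push Not at hxr
        obtain ⟨m', hm', hmk'⟩ := hout x hx hxr
        have hxs : x * s⁻¹ ∈ P := P.mul_mem hx (P.inv_mem hsP)
        obtain ⟨n, hn⟩ := hPpow _ hxs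
        have h1 : x * s⁻¹ ∈ K := by
          refine mem_ker_of_odd h (hPz _ hxs) hn ⟨m', hm', fun k => ?_⟩
          -- `k = s k' s⁻¹`
          have hsi : s⁻¹ * z = z * s⁻¹ := hPz _ (P.inv_mem hsP)
          set k' := cjK (h.nor s⁻¹ hsi) k with hk'
          have h2 : cjK (h.nor s (hPz s hsP)) k' = k := by
            apply Subtype.ext
            show s * (s⁻¹ * k * s⁻¹⁻¹) * s⁻¹ = k
            group
          have h3 : cjK (h.nor (x * s⁻¹) (hPz _ hxs)) k = cjK (h.nor x (hPz x hx)) k' := by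
            apply Subtype.ext
            show x * s⁻¹ * k * (x * s⁻¹)⁻¹ = x * (s⁻¹ * k * s⁻¹⁻¹) * x⁻¹
            group
          have h4 : θ k = W * θ k' * W := by
            conv_lhs => rw [← h2]
            rw [hsact]
          rw [h3, hmk', ← h4]
        obtain ⟨t, ht⟩ := hPK _ hxs h1
        exact ⟨t, by rw [← ht]; group⟩
    · intro t
      obtain ⟨t', ht'⟩ := hconjP s hsP t
      have h1 := hsact ⟨ι t, hιK t⟩
      have h2 : cjK (h.nor s (hPz s hsP)) ⟨ι t, hιK t⟩ = ⟨ι t', hιK t'⟩ := Subtype.ext ht'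
      rw [h2, hθι, hθι] at h1
      have h3 : t' = tau t := Subtype.ext h1
      rw [← h3, ← ht', inv_mul_cancel_right]
    · rw [hιZ]
      have hss : s * s ∈ P := P.mul_mem hsP hsP
      refine h.fix (s * s) (hPz _ hss) (hPpow _ hss) ?_
      intro k
      have h1 : cjK (h.nor (s * s) (hPz _ hss)) k =
          cjK (h.nor s (hPz s hsP)) (cjK (h.nor s (hPz s hsP)) k) := by
        apply Subtype.ext
        show s * s * k * (s * s)⁻¹ = s * (s * k * s⁻¹) * s⁻¹
        group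
      rw [h1, hsact, hsact]
      calc W * (W * θ k * W) * W = (W * W) * θ k * (W * W) := by group
        _ = θ k := by rw [W_sq, one_mul, mul_one]

/-- **the central involution is isolated** -/
theorem isolated [Finite G] (h : Sit z K θ) : ∃ P : Sylow 2 G, z ∈ P ∧
    ∀ g : G, g * z * g⁻¹ ∈ P → g * z * g⁻¹ = z := by
  obtain ⟨ι, P, hιZ, hD, hP, habs, hθ⟩ := exists_data h
  have habs' : Absorb P (ι tZ) := by rw [hιZ]; exact habs
  obtain ⟨S, hS⟩ := exists_sylow hD hP habs'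
  refine ⟨S, ?_, ?_⟩
  · show z ∈ (S : Subgroup G)
    rw [hS, ← hιZ]; exact hD.le _
  · intro g hg
    have hg' : g * ι tZ * g⁻¹ ∈ P := by
      rw [hιZ, ← hS]; exact hg
    have := MTwFus.isolated hD hP habs' ?_ g hg'
    · rwa [hιZ] at this
    · intro t ht ht1 htZ
      obtain ⟨m, hm, hmt⟩ := h.cls t t.2 (congrArg Subtype.val ht)
        (fun h1 => ht1 (Subtype.ext h1)) (fun h1 => htZ (Subtype.ext h1))
      rw [← h.range] at hm
      obtain ⟨k, rfl⟩ := hm
      -- conjugation in `K` modulo the kernel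
      have key : ∀ u : T, u * u = 1 → θ k * t * (θ k)⁻¹ = u → ∃ g, g * ι t * g⁻¹ = ι u := by
        intro u hu hku
        obtain ⟨htK, hθt⟩ := hθ t
        obtain ⟨huK, hθu⟩ := hθ u
        set x : K := k * ⟨ι t, htK⟩ * k⁻¹ with hx
        set y : K := ⟨ι u, huK⟩ with hy
        have hxx : x * x = 1 := by
          have h1 : (⟨ι t, htK⟩ : K) * ⟨ι t, htK⟩ = 1 := by
            apply Subtype.ext
            show ι t * ι t = 1
            rw [← map_mul, ht, map_one]
          calc x * x = k * ((⟨ι t, htK⟩ : K) * ⟨ι t, htK⟩) * k⁻¹ := by rw [hx]; group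
            _ = 1 := by rw [h1]; group
        have hyy : y * y = 1 := by
          apply Subtype.ext
          show ι u * ι u = 1
          rw [← map_mul, hu, map_one]
        have hxy : x * y ∈ θ.ker := by
          rw [MonoidHom.mem_ker, map_mul, hx, map_mul, map_mul, map_inv, hθt, hku, hθu]
          exact congrArg Subtype.val hu
        have hpow : (x * y) ^ Nat.card θ.ker = 1 := by
          have := pow_card_eq_one' (x := (⟨x * y, hxy⟩ : θ.ker))
          exact congrArg Subtype.val this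
        obtain ⟨w, hw⟩ := conj_of_odd hxx hyy h.ker hpow
        refine ⟨w * k, ?_⟩
        have h1 : w * (k * ⟨ι t, htK⟩ * k⁻¹) * w⁻¹ = ⟨ι u, huK⟩ := hw
        have h2 := congrArg Subtype.val h1
        have h3 : (w : G) * (k * ι t * (k : G)⁻¹) * (w : G)⁻¹ = ι u := h2
        rw [← h3]; group
      rcases hmt with hmt | hmt
      · obtain ⟨g', hg'⟩ := key tA tA_sq hmt
        exact ⟨g', Or.inl hg'⟩
      · have h1 : (tA * tZ) * (tA * tZ) = 1 := by
          calc (tA * tZ) * (tA * tZ) = tA * (tZ * tA) * tZ := by group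
            _ = (tA * tA) * (tZ * tZ) := by rw [comm_tZ]; group
            _ = 1 := by rw [tA_sq, tZ_sq, one_mul]
        obtain ⟨g', hg'⟩ := key (tA * tZ) h1 hmt
        exact ⟨g', Or.inr hg'⟩

end Cfsg.Agent.GH.MTwLocal
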