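import Mathlib
import Cfsg.Agent.S0215
import Cfsg.Agent.GH.Comp
import Cfsg.Agent.GH.MTwLocal

/-!
# GH-COV (7): no 2-component with top `M₁₂` and centre of even order
-/

set_option autoImplicit false

open Subgroup Cfsg
open scoped commutatorElement

namespace Cfsg.Agent.GH.MTwMain

open Cfsg.Agent.Intrinsic.Basic Cfsg.Agent.GH.Defs
open Cfsg.Agent.CoThreeStd.MTwelve (H)
open Cfsg.Agent.GH.MTwCode (Pm)
open Cfsg.Agent.GH.MTwModel Cfsg.Agent.GH.MTwSyl Cfsg.Agent.GH.MTwCover Cfsg.Agent.GH.MTwPsi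
  Cfsg.Agent.GH.MTwAut Cfsg.Agent.GH.MTwNorm Cfsg.Agent.GH.MTwLocal

/-- the centre of a group without odd normal subgroups is a 2-group -/
theorem center_two {X : Type*} [Group X] [Finite X] (h : oddCore X = ⊥) :
    IsPGroup 2 (center X) := by
  rintro ⟨z, hz⟩
  obtain ⟨k, m, hm, hkm⟩ := Nat.exists_eq_two_pow_mul_odd (orderOf_pos z).ne'
  refine ⟨k, Subtype.ext ?_⟩
  show z ^ 2 ^ k = 1
  have hy : z ^ 2 ^ k ∈ center X := pow_mem hz _
  have hN : (zpowers (z ^ 2 ^ k)).Normal := by
    refine ⟨fun n hn g => ?_⟩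
    have h1 : n ∈ center X := (zpowers_le.mpr hy) hn
    rw [mem_center_iff.mp h1 g, mul_inv_cancel_right]
    exact hn
  have hodd : (Nat.card (zpowers (z ^ 2 ^ k))).Coprime 2 := by
    rw [Nat.card_zpowers]
    have h1 : orderOf (z ^ 2 ^ k) ∣ m :=
      orderOf_dvd_of_pow_eq_one (by rw [← pow_mul, ← hkm, pow_orderOf_eq_one])
    exact Nat.Coprime.coprime_dvd_left h1 (Nat.coprime_two_right.mpr hm)
  have h1 := Lib.Cores.le_pPrimeCore hN hodd
  rw [show pPrimeCore 2 X = ⊥ from h, le_bot_iff, zpowers_eq_bot] at h1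
  exact h1

variable {G : Type*} [Group G]

/-- conjugation as an automorphism -/
def cjE {K : Subgroup G} {u : G} (hu : u ∈ normalizer (K : Set G)) : K ≃* K where
  toFun := cjK hu
  invFun := cjK (inv_mem hu)
  left_inv k := Subtype.ext (by
    show u⁻¹ * (u * k * u⁻¹) * u⁻¹⁻¹ = k
    group)
  right_inv k := Subtype.ext (by
    show u * (u⁻¹ * k * u⁻¹⁻¹) * u⁻¹ = k
    group)
  map_mul' k l := Subtype.ext (by
    show u * (k * l) * u⁻¹ = u * k * u⁻¹ * (u * l * u⁻¹)
    group)

/-- the induced automorphism of `K / O(K)` -/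
noncomputable def barE {K : Subgroup G} {u : G} (hu : u ∈ normalizer (K : Set G)) :
    Bar K ≃* Bar K :=
  QuotientGroup.congr (oddCore ↥K) (oddCore ↥K) (cjE hu) (Lib.Cores.map_equiv_pPrimeCore (cjE hu) 2)

theorem barE_mk {K : Subgroup G} {u : G} (hu : u ∈ normalizer (K : Set G)) (k : K) :
    barE hu (QuotientGroup.mk' (oddCore ↥K) k) = QuotientGroup.mk' (oddCore ↥K) (cjK hu k) := rfl

variable [Finite G]

/-- **No 2-component with top `M₁₂` containing the involution.** -/
theorem false_of_iso [IsSimpleGroup G] (hna : ¬ IsMulCommutative G) {x : G} {K : Subgroup G}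
    (c : Comp2 x K) (hxK : x ∈ K)
    (hn : centralizer ({x} : Set G) ≤ normalizer (K : Set G))
    (hfix : ∀ g ∈ centralizer ({x} : Set G), (∃ n, g ^ 2 ^ n = 1) → Fixes g K → g = 1 ∨ g = x)
    (hM : Spor.IsoM12 (STop K)) : False := by
  have hxx : x * x = 1 := by rw [← pow_two, ← c.inv, pow_orderOf_eq_one]
  have hx1 : x ≠ 1 := by
    rintro h
    have := c.inv
    rw [h, orderOf_one] at this
    norm_num at this
  obtain ⟨e⟩ := hM
  have hsimple : IsSimpleGroup (STop K) := Comp.top_simple c.comp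
  have hH : IsSimpleGroup H := e.isSimpleGroup_congr.1 hsimple
  have hq := Comp.quasisimple c.comp
  -- the cover
  let mkK := QuotientGroup.mk' (oddCore ↥K)
  let π : Bar K →* H := e.toMonoidHom.comp (QuotientGroup.mk' (center (Bar K)))
  have hπs : Function.Surjective π := e.surjective.comp (QuotientGroup.mk'_surjective _)
  have hπk : π.ker = center (Bar K) := by
    ext y
    rw [MonoidHom.mem_ker]
    show e (QuotientGroup.mk' (center (Bar K)) y) = 1 ↔ _
    rw [MulEquiv.map_eq_one_iff]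
    exact QuotientGroup.eq_one_iff y
  have hperf : commutator (Bar K) = ⊤ := by
    have : Group.IsPerfect (Bar K) := hq.1
    exact this.commutator_eq_top
  have hcore : oddCore (Bar K) = ⊥ := Lib.Cores.pPrimeCore_quotient_pPrimeCore 2
  have hxC : x ∈ centralizer ({x} : Set G) := mem_centralizer_singleton_iff.mpr rfl
  have hcomm : ∀ k ∈ K, k * x = x * k := fun k hk => mem_centralizer_singleton_iff.mp (c.comp.le hk)
  have hzc : mkK ⟨x, hxK⟩ ∈ center (Bar K) := by
    rw [mem_center_iff]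
    intro y
    obtain ⟨k, rfl⟩ := QuotientGroup.mk'_surjective _ y
    show mkK k * mkK ⟨x, hxK⟩ = mkK ⟨x, hxK⟩ * mkK k
    rw [← map_mul, ← map_mul]
    congr 1
    exact Subtype.ext (hcomm k k.2)
  have hz1 : mkK ⟨x, hxK⟩ ≠ 1 := by
    intro h
    have h1 : (⟨x, hxK⟩ : K) ∈ oddCore ↥K := (QuotientGroup.eq_one_iff _).mp h
    have h2 : x ∈ core K := (mem_core_iff hxK).mpr h1
    exact hx1 (eq_one_of_mem_core_sq h2 hxx)
  obtain ⟨z, hz⟩ := MTwCenter.exists_cov π hπs hπk hperf (center_two hcore) (by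
    intro h
    rw [h, mem_bot] at hzc
    exact hz1 hzc)
  have hzx : mkK ⟨x, hxK⟩ = z := by
    rw [← hπk] at hzc
    rcases hz.ker _ hzc with h | h
    · exact absurd h hz1
    · exact h
  obtain ⟨ψ, a, b, hMod⟩ := Cov.exists_model hz
  let θ : K →* Pm := ψ.comp mkK
  have hker : θ.ker = oddCore ↥K := by
    ext k
    rw [MonoidHom.mem_ker]
    constructor
    · intro h
      have h1 : mkK k = 1 := hMod.inj (by rw [map_one]; exact h)
      exact (QuotientGroup.eq_one_iff k).mp h1
    · intro h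
      have h1 : mkK k = 1 := (QuotientGroup.eq_one_iff k).mpr h
      show ψ (mkK k) = 1
      rw [h1, map_one]
  have hsit : Sit x K θ :=
    { ord := c.inv
      le := c.comp.le
      nor := fun u hu => hn (mem_centralizer_singleton_iff.mpr hu)
      range := by
        rw [← hMod.range, MonoidHom.range_eq_map, MonoidHom.range_eq_map, ← Subgroup.map_map,
          Subgroup.map_top_of_surjective mkK (QuotientGroup.mk'_surjective _)]
      ker := by
        rw [hker]
        exact Nat.coprime_two_right.1 (Lib.Cores.pPrimeCore_coprime (G := ↥K) 2)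
      hz := ⟨hxK, by
        show ψ (mkK ⟨x, hxK⟩) = Z
        rw [hzx, hMod.ψz]⟩
      act := by
        intro u hu
        have hu' := hn (mem_centralizer_singleton_iff.mpr hu)
        obtain ⟨g, hg⟩ := aut hMod (barE hu')
        refine ⟨ψ g, by rw [← hMod.range]; exact ⟨g, rfl⟩, ?_⟩
        rcases hg with hg | hg
        · exact Or.inl fun k => hg (mkK k)
        · exact Or.inr fun k => hg (mkK k)
      fix := by
        intro u hu hpow hk
        have hu' := hn (mem_centralizer_singleton_iff.mpr hu)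
        refine hfix u (mem_centralizer_singleton_iff.mpr hu) hpow ⟨hu', fun y hy => ?_⟩
        have h1 : mkK (cjK hu' ⟨y, hy⟩) = mkK ⟨y, hy⟩ := hMod.inj (hk ⟨y, hy⟩)
        have h2 : mkK (cjK hu' ⟨y, hy⟩ * (⟨y, hy⟩ : K)⁻¹) = 1 := by
          rw [map_mul, map_inv, h1, mul_inv_cancel]
        have h3 := (QuotientGroup.eq_one_iff _).mp h2
        exact (mem_core_iff (K := K) (x := ⁅u, y⁆) (cjK hu' ⟨y, hy⟩ * (⟨y, hy⟩ : K)⁻¹).2).mpr h3
      cardM := card_M hMod
      cls := fun t ht h2 h1 hZ => classT hMod ht h2 h1 hZ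
      norT := fun m hm h => normT hMod hm h }
  obtain ⟨P, hxP, hiso⟩ := isolated hsit
  obtain ⟨N, hN, hNodd, hNc⟩ := Cfsg.Agent.S0215.result P x c.inv hxP hiso
  rcases hN.eq_bot_or_eq_top with h | h
  · -- `x` central
    have hxcen : x ∈ center G := by
      rw [mem_center_iff]
      intro g
      have h1 := hNc g
      rw [h, mem_bot, mul_inv_eq_one, mul_inv_eq_iff_eq_mul] at h1
      exact h1.symm
    rcases (inferInstance : (center G).Normal).eq_bot_or_eq_top with h1 | h1
    · rw [h1, mem_bot] at hxcen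
      exact hx1 hxcen
    · apply hna
      refine ⟨⟨fun u v => ?_⟩⟩
      have h2 : u ∈ center G := h1 ▸ mem_top u
      exact (mem_center_iff.mp h2 v).symm
  · rw [h, Subgroup.card_top] at hNodd
    have h1 : orderOf x ∣ Nat.card G := orderOf_dvd_natCard x
    rw [c.inv] at h1
    exact (Nat.not_even_iff_odd.mpr hNodd) (even_iff_two_dvd.mpr h1)

end Cfsg.Agent.GH.MTwMain
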