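import Cfsg.Agent.GH.Tops

/-!
# GH-COV (1): a 2-component with even centre yields an intrinsic one

`x` an involution, `K` a 2-component of `C(x)` whose centre mod core has even order and whose top has
sectional 2-rank at least 3, `G` of sectional 2-rank at most 4.  Then there are an involution `z ∈ K`
central in `K` mod core and a 2-component `J` of `C(z)` containing `z` and `C_K(z)^∞`.
-/

set_option autoImplicit false

open Cfsg Subgroup
open Cfsg.Agent.SignalizersComponents.IntrinsicBasic
open Cfsg.Agent.Intrinsic.Basic Cfsg.Agent.Intrinsic.Cen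
open Cfsg.Agent.GH.Defs Cfsg.Agent.GH.Rank Cfsg.Agent.GH.Comp Cfsg.Agent.GH.Tops
open scoped commutatorElement

namespace Cfsg.Agent.GH.CovOne

variable {G : Type*} [Group G] [Finite G]

/-- **Reduction to an intrinsic pair.** -/
theorem exists_intrinsic (h4 : SectionalPRankLE 2 4 G) {x : G} {K : Subgroup G} (c : Comp2 x K)
    (he : EvenCenter K) (hr : 3 ≤ srank 2 (STop K)) :
    ∃ (z : G) (J : Subgroup G), z ∈ K ∧ Fixes z K ∧ Comp2 z J ∧ z ∈ J ∧ cen K z ≤ J ∧
      x ∈ normalizer (J : Set G) ∧ 3 ≤ srank 2 (STop J) ∧ EvenCenter J := by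
  obtain ⟨z, hzK, hz, hfix⟩ := exists_inv he
  have hzz : z * z = 1 := by rw [← pow_two, ← hz, pow_orderOf_eq_one]
  have hxx : x * x = 1 := by rw [← pow_two, ← c.inv, pow_orderOf_eq_one]
  have hzC : z ∈ centralizer ({x} : Set G) := c.comp.le hzK
  have hxC : x ∈ centralizer ({z} : Set G) := by
    rw [mem_centralizer_singleton_iff] at hzC ⊢
    exact hzC.symm
  obtain ⟨h1, h2⟩ := isComp_cen c.comp hzC hzz hfix
  rw [inf_comm] at h1
  have hz0 : z ∈ cen K z := mem_cen_of_sq hzK rfl hzz
  obtain ⟨J, hJ, hle⟩ := PumpUp.exists_comp hxC hxx h1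
  have hr0 : 3 ≤ srank 2 (STop (cen K z)) := by rw [srank_top_of_sup h2]; exact hr
  have hX : srank 2 (centralizer ({z} : Set G)) ≤ 4 :=
    (srank_subgroup_le (by norm_num) _).trans ((srank_le_iff (by norm_num)).2 h4)
  have hn : x ∈ normalizer (J : Set G) := by
    by_contra hn
    obtain ⟨-, -, ⟨e⟩⟩ := PumpUp.diagonal hxC hxx h1 hJ hle hn
    have hxJ : IsComp (centralizer ({z} : Set G)) (cj x J) := by
      have := hJ.cj x
      rwa [cj_eq_self_of_mem hxC] at this
    have hne : J ≠ cj x J := by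
      intro h
      exact hn (mem_normalizer_iff_cj.mpr h.symm)
    have h5 := srank_add_of_ne hJ hxJ hne
    have h6 : srank 2 (STop J) = srank 2 (STop (cen K z)) := srank_congr (by norm_num) e
    have h7 : srank 2 (STop (cj x J)) = srank 2 (STop J) := srank_top_cj x J
    omega
  have hcj : cj x J = J := mem_normalizer_iff_cj.mp hn
  rw [hcj, sup_idem] at hle
  have c' : Comp2 z J := ⟨hz, hJ⟩
  exact ⟨z, J, hzK, hfix, c', hle hz0, hle, hn, hr0.trans (srank_top_mono h1 hle),
    evenCenter_of_mem c' (hle hz0)⟩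

end Cfsg.Agent.GH.CovOne
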