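import Mathlib
import Cfsg.Prelude.Def_CaseTheorems

/-!
# Project GH, branch GH-E: basic structures

`Base x E`: `x` an involution, `E` elementary abelian of order 8, `[x,E] = 1`, and `T = E ∪ xE` (order 16) is
a Sylow 2-subgroup of `C_G(x)` (in the form which is used: a 2-subgroup of `C_G(x)` has order at most 16 and
exponent 2).

`Level x E U h`: `U` is an abelian 2-subgroup with `Ω₁(U) = E`, inverted by `x`, and `h ∈ C_G(x) ∩ N_G(U)` is
transitive on `E#`.  (So `U` is homocyclic of rank 3.)  `Level x E E h` is the start.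
-/

set_option autoImplicit false

namespace Cfsg.Agent.GH.E

variable {G : Type*} [Group G]

/-- `x` is an involution, `E` is elementary abelian of order 8 centralised by `x`, and `E ∪ xE` is a Sylow
2-subgroup of the centraliser of `x`. -/
structure Base (x : G) (E : Subgroup G) : Prop where
  hx : x * x = 1
  hxE : x ∉ E
  card : Nat.card E = 8
  sq : ∀ e ∈ E, e * e = 1
  comm : ∀ e ∈ E, x * e = e * x
  cent_card : ∀ Q : Subgroup G, IsPGroup 2 Q → (∀ q ∈ Q, x * q = q * x) → Nat.card Q ≤ 16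
  cent_sq : ∀ q : G, x * q = q * x → (∃ n : ℕ, q ^ 2 ^ n = 1) → q * q = 1

/-- A level of the homocyclic tower over `E`. -/
structure Level (x : G) (E U : Subgroup G) (h : G) : Prop where
  le : E ≤ U
  comm : ∀ u ∈ U, ∀ v ∈ U, u * v = v * u
  pgroup : IsPGroup 2 U
  inv : ∀ u ∈ U, x * u * x⁻¹ = u⁻¹
  omega : ∀ u ∈ U, u * u = 1 → u ∈ E
  hx : h * x = x * h
  hU : ∀ u ∈ U, h * u * h⁻¹ ∈ U
  trans : ∀ a ∈ E, ∀ b ∈ E, a ≠ 1 → b ≠ 1 → ∃ n : ℕ, h ^ n * a * (h ^ n)⁻¹ = b

/-- The group `U⟨x⟩`. -/
def rr (x : G) (U : Subgroup G) : Subgroup G := U ⊔ Subgroup.zpowers x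

/-- Membership in `U⟨x⟩`. -/
theorem mem_rr {x : G} {U : Subgroup G} (hx : x * x = 1) (hU : ∀ u ∈ U, x * u * x⁻¹ ∈ U) {g : G} :
    g ∈ rr x U ↔ g ∈ U ∨ x * g ∈ U := by
  have hxi : x⁻¹ = x := inv_eq_iff_mul_eq_one.mpr hx
  have hU' : ∀ u ∈ U, x * u * x ∈ U := fun u hu => by
    have := hU u hu
    rwa [hxi] at this
  constructor
  · intro hg
    let K : Subgroup G :=
      { carrier := {g | g ∈ U ∨ x * g ∈ U}
        one_mem' := Or.inl U.one_mem
        mul_mem' := by
          rintro a b (ha | ha) (hb | hb)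
          · exact Or.inl (U.mul_mem ha hb)
          · right
            have h1 := U.mul_mem (hU' a ha) hb
            have h2 : x * a * x * (x * b) = x * (a * b) := by
              calc x * a * x * (x * b) = x * a * (x * x) * b := by group
                _ = x * (a * b) := by rw [hx]; group
            rwa [h2] at h1
          · right
            have h1 := U.mul_mem ha hb
            rwa [mul_assoc] at h1
          · left
            have h1 := U.mul_mem (hU' _ ha) hb
            have h2 : x * (x * a) * x * (x * b) = a * b := by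
              calc x * (x * a) * x * (x * b) = (x * x) * a * (x * x) * b := by group
                _ = a * b := by rw [hx]; group
            rwa [h2] at h1
        inv_mem' := by
          rintro a (ha | ha)
          · exact Or.inl (U.inv_mem ha)
          · right
            have h1 := U.inv_mem (hU' _ ha)
            have h2 : (x * (x * a) * x)⁻¹ = x * a⁻¹ := by
              calc (x * (x * a) * x)⁻¹ = ((x * x) * a * x)⁻¹ := by group
                _ = x⁻¹ * a⁻¹ := by rw [hx]; group
                _ = x * a⁻¹ := by rw [hxi]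
            show x * a⁻¹ ∈ U
            rwa [h2] at h1 }
    have hK : rr x U ≤ K := by
      refine sup_le (fun u hu => Or.inl hu) ?_
      rw [Subgroup.zpowers_le]
      exact Or.inr (by rw [hx]; exact U.one_mem)
    exact hK hg
  · rintro (h | h)
    · exact Subgroup.mem_sup_left h
    · have h1 : x * (x * g) ∈ rr x U :=
        Subgroup.mul_mem _ (Subgroup.mem_sup_right (Subgroup.mem_zpowers x)) (Subgroup.mem_sup_left h)
      rwa [← mul_assoc, hx, one_mul] at h1

theorem self_mem_rr (x : G) (U : Subgroup G) : x ∈ rr x U :=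
  Subgroup.mem_sup_right (Subgroup.mem_zpowers x)

theorem le_rr (x : G) (U : Subgroup G) : U ≤ rr x U := le_sup_left

theorem Level.mem_rr {x h : G} {E U : Subgroup G} (B : Base x E) (L : Level x E U h) {g : G} :
    g ∈ rr x U ↔ g ∈ U ∨ x * g ∈ U :=
  Cfsg.Agent.GH.E.mem_rr B.hx (fun u hu => by rw [L.inv u hu]; exact U.inv_mem hu)

/-- The start of the tower. -/
theorem Base.level {x h : G} {E : Subgroup G} (B : Base x E) (hx : h * x = x * h)
    (hE : ∀ e ∈ E, h * e * h⁻¹ ∈ E)
    (trans : ∀ a ∈ E, ∀ b ∈ E, a ≠ 1 → b ≠ 1 → ∃ n : ℕ, h ^ n * a * (h ^ n)⁻¹ = b) : Level x E E h where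
  le := le_refl _
  comm := fun u hu v hv => by
    have h1 := B.sq _ (E.mul_mem hu hv)
    have hu1 : u⁻¹ = u := inv_eq_iff_mul_eq_one.mpr (B.sq u hu)
    have hv1 : v⁻¹ = v := inv_eq_iff_mul_eq_one.mpr (B.sq v hv)
    have h2 : (u * v)⁻¹ = u * v := inv_eq_iff_mul_eq_one.mpr h1
    rw [← h2, mul_inv_rev, hu1, hv1]
  pgroup := IsPGroup.of_card (n := 3) (by rw [B.card]; norm_num)
  inv := fun u hu => by
    rw [B.comm u hu, mul_inv_cancel_right]
    exact (inv_eq_iff_mul_eq_one.mpr (B.sq u hu)).symm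
  omega := fun u hu _ => hu
  hx := hx
  hU := hE
  trans := trans

/-- `x` commutes with no other conjugate of itself. -/
def Isolated (x : G) : Prop := ∀ g : G, x * (g * x * g⁻¹) = g * x * g⁻¹ * x → g * x * g⁻¹ = x

/-- The normaliser of `U⟨x⟩` normalises `U` (automatic for levels `k ≥ 2`). -/
def NormU (x : G) (U : Subgroup G) : Prop :=
  ∀ g ∈ Subgroup.normalizer (rr x U : Set G), ∀ u ∈ U, g * u * g⁻¹ ∈ U

/-- `P` is a Sylow 2-subgroup of `N_G(R)`, `R = U⟨x⟩`, `|P : R| = 8`, and `P` is transitive on `xU`. -/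
structure Top (x : G) (U P : Subgroup G) : Prop where
  normU : NormU x U
  pgroup : IsPGroup 2 P
  le : rr x U ≤ P
  norm : P ≤ Subgroup.normalizer (rr x U : Set G)
  syl : ∀ Q : Subgroup G, IsPGroup 2 Q → P ≤ Q → Q ≤ Subgroup.normalizer (rr x U : Set G) → Q = P
  card : Nat.card P = 8 * Nat.card (rr x U)
  trans : ∀ u ∈ U, ∃ p ∈ P, p * x * p⁻¹ = x * u

/-!
INPUTS FROM LEVEL 1 (helper723), `T = rr x E`:

(I1) theorem level_one [Finite G] (B : Base x E) (L : Level x E E h) :
    Isolated x ∨ (NormU x E ∧ ∃ g ∈ Subgroup.normalizer (rr x E : Set G), g * x * g⁻¹ ≠ x)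

(I2) theorem no_conj [Finite G] (B : Base x E) (L : Level x E E h) {P : Subgroup G} (hP : Top x E P)
    (hf : ∀ p ∈ P, (∀ e ∈ E, p * e * p⁻¹ = e) → p ∈ rr x E) :
    ∀ t ∈ P, t ∉ rr x E → t * t = 1 → ∀ g : G, g * x * g⁻¹ ≠ t

Everything else (construction of `P`, alternative translations/faithful for all levels, tower, transfers) is
in ETower.
-/

end Cfsg.Agent.GH.E
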