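import Mathlib

/-!
# Project GH, branch GH-E: groups acting on an elementary abelian group of order 8

`central_conj`: if a finite group `N` acts transitively on the nonidentity elements of `W ≅ E₈` and a
2-subgroup `P` of `N` induces a group of order 8, then every element of `N` which induces an involution
commutes (modulo the kernel) with a conjugate of `P`.  (So `N` induces `GL₃(2)`.)
-/

set_option autoImplicit false

namespace Cfsg.Agent.GH.EFlag

section Line

variable {W : Type*} [Group W]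

theorem comm (hsq : ∀ w : W, w * w = 1) (a b : W) : a * b = b * a := by
  have h1 := hsq (a * b)
  have ha1 : a⁻¹ = a := inv_eq_iff_mul_eq_one.mpr (hsq a)
  have hb1 : b⁻¹ = b := inv_eq_iff_mul_eq_one.mpr (hsq b)
  have h2 : (a * b)⁻¹ = a * b := inv_eq_iff_mul_eq_one.mpr h1
  rw [← h2, mul_inv_rev, ha1, hb1]

/-- The subgroup `{1, c, d, cd}`. -/
def line (hsq : ∀ w : W, w * w = 1) (c d : W) : Subgroup W where
  carrier := {w | w = 1 ∨ w = c ∨ w = d ∨ w = c * d}
  one_mem' := Or.inl rfl
  mul_mem' := by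
    have hc := hsq c
    have hd := hsq d
    have hcd : c * (c * d) = d := by rw [← mul_assoc, hc, one_mul]
    have hcd2 : c * d * c = d := by rw [comm hsq c d, mul_assoc, hc, mul_one]
    have hcd3 : c * d * d = c := by rw [mul_assoc, hd, mul_one]
    have hcd4 : d * (c * d) = c := by rw [comm hsq c d, ← mul_assoc, hd, one_mul]
    have hcd5 : c * d * (c * d) = 1 := hsq _
    have hcd6 : d * c = c * d := comm hsq d c
    rintro a b (rfl | rfl | rfl | rfl) (rfl | rfl | rfl | rfl) <;>
      simp [hc, hd, hcd, hcd2, hcd3, hcd4, hcd5, hcd6]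
  inv_mem' := by
    rintro a ha
    have : a⁻¹ = a := inv_eq_iff_mul_eq_one.mpr (hsq a)
    change a⁻¹ = 1 ∨ a⁻¹ = c ∨ a⁻¹ = d ∨ a⁻¹ = c * d
    rw [this]
    exact ha

theorem mem_line {hsq : ∀ w : W, w * w = 1} {c d w : W} :
    w ∈ line hsq c d ↔ w = 1 ∨ w = c ∨ w = d ∨ w = c * d := Iff.rfl

theorem card_line (hsq : ∀ w : W, w * w = 1) {c d : W} (hc : c ≠ 1) (hd : d ≠ 1) (hcd : c ≠ d) :
    Nat.card (line hsq c d) = 4 := by
  classical
  have h1 : ((line hsq c d : Subgroup W) : Set W) = (({1, c, d, c * d} : Finset W) : Set W) := by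
    ext w
    simp only [SetLike.mem_coe, mem_line, Finset.coe_insert, Finset.coe_singleton, Set.mem_insert_iff,
      Set.mem_singleton_iff]
  have h2 : c * d ≠ 1 := fun h => hcd (by
    rw [← inv_eq_iff_mul_eq_one.mpr (hsq d)]
    exact eq_inv_of_mul_eq_one_left h)
  have h3 : Nat.card (line hsq c d) = ({1, c, d, c * d} : Finset W).card := by
    rw [← Set.ncard_coe_finset, ← h1]; rfl
  rw [h3, Finset.card_insert_of_notMem, Finset.card_insert_of_notMem, Finset.card_insert_of_notMem,
    Finset.card_singleton]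
  · simp [hc]
  · simp [hcd, hd]
  · simp only [Finset.mem_insert, Finset.mem_singleton, not_or]
    exact ⟨hc.symm, hd.symm, h2.symm⟩

theorem index_line (hW : Nat.card W = 8) (hsq : ∀ w : W, w * w = 1) {c d : W} (hc : c ≠ 1) (hd : d ≠ 1)
    (hcd : c ≠ d) : (line hsq c d).index = 2 := by
  have h1 := (line hsq c d).card_mul_index
  rw [card_line hsq hc hd hcd, hW] at h1
  omega

theorem eq_line (hW : Nat.card W = 8) (hsq : ∀ w : W, w * w = 1) {F : Subgroup W} (hF : Nat.card F = 4)
    {c d : W} (hc : c ≠ 1) (hd : d ≠ 1) (hcd : c ≠ d) (hcF : c ∈ F) (hdF : d ∈ F) : F = line hsq c d := by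
  have : Finite W := Nat.finite_of_card_ne_zero (by rw [hW]; norm_num)
  symm
  refine Subgroup.eq_of_le_of_card_ge ?_ ?_
  · rintro w (rfl | rfl | rfl | rfl)
    · exact F.one_mem
    · exact hcF
    · exact hdF
    · exact F.mul_mem hcF hdF
  · rw [hF, card_line hsq hc hd hcd]

/-- Two lines meet. -/
theorem exists_inter (hW : Nat.card W = 8) {F F' : Subgroup W} (hF : Nat.card F = 4)
    (hF' : Nat.card F' = 4) : ∃ w ∈ F, w ∈ F' ∧ w ≠ 1 := by
  have : Finite W := Nat.finite_of_card_ne_zero (by rw [hW]; norm_num)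
  by_contra hcon
  push Not at hcon
  have hdis : Function.Injective (fun p : F × F' => (p.1 : W) * (p.2 : W)) := by
    rintro ⟨a, b⟩ ⟨a', b'⟩ hab
    have hab' : (a : W) * b = a' * b' := hab
    have h1 : (a' : W)⁻¹ * a = b' * (b : W)⁻¹ := by
      rw [inv_mul_eq_iff_eq_mul, ← mul_assoc, ← hab', mul_inv_cancel_right]
    have h2 := hcon ((a' : W)⁻¹ * a) (F.mul_mem (F.inv_mem a'.2) a.2)
      (by rw [h1]; exact F'.mul_mem b'.2 (F'.inv_mem b.2))
    have h3 : (a : W) = a' := by
      rw [inv_mul_eq_one] at h2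
      exact h2.symm
    have h4 : (b : W) = b' := by
      rw [h2] at h1
      exact (mul_inv_eq_one.1 h1.symm).symm
    exact Prod.ext (Subtype.ext h3) (Subtype.ext h4)
  have h5 := Nat.card_le_card_of_injective _ hdis
  rw [Nat.card_prod, hF, hF', hW] at h5
  omega

end Line

section Act

variable {N W : Type*} [Group N] [Group W]

/-- A 2-group acting on `E₈` fixes a flag. -/
theorem exists_flag [Finite N] (hW : Nat.card W = 8) (hsq : ∀ w : W, w * w = 1) (f : N →* MulAut W)
    (P : Subgroup N) (hP : IsPGroup 2 P) :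
    ∃ c d : W, c ≠ 1 ∧ d ≠ 1 ∧ c ≠ d ∧ (∀ p ∈ P, f p c = c) ∧ ∀ p ∈ P, f p d = d ∨ f p d = c * d := by
  classical
  have h2 : Fact (Nat.Prime 2) := ⟨Nat.prime_two⟩
  have : Finite W := Nat.finite_of_card_ne_zero (by rw [hW]; norm_num)
  let act : MulAction P W :=
    { smul := fun p w => f p w
      one_smul := fun w => by
        change f (1 : N) w = w
        rw [map_one]; rfl
      mul_smul := fun a b w => by
        change f ((a : N) * b) w = f a (f b w)
        rw [map_mul]; rfl }
  have hact : ∀ (p : P) (w : W), p • w = f p w := fun _ _ => rfl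
  have h1 := hP.card_modEq_card_fixedPoints W
  rw [hW] at h1
  have h3 : ∃ c : W, c ≠ 1 ∧ c ∈ MulAction.fixedPoints P W := by
    by_contra hcon
    push Not at hcon
    have h4 : MulAction.fixedPoints P W = {1} := by
      ext w
      rw [Set.mem_singleton_iff]
      constructor
      · intro hw
        by_contra h5
        exact hcon w h5 hw
      · rintro rfl
        intro p
        rw [hact, map_one]
    rw [h4, Nat.card_eq_fintype_card, Fintype.card_unique] at h1
    exact absurd h1 (by decide)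
  obtain ⟨c, hc, hcf⟩ := h3
  have hcf' : ∀ p ∈ P, f p c = c := fun p hp => hcf ⟨p, hp⟩
  have hcc := hsq c
  -- the quotient by `⟨c⟩`
  let Z : Subgroup W :=
    { carrier := {w | w = 1 ∨ w = c}
      one_mem' := Or.inl rfl
      mul_mem' := by
        rintro a b (rfl | rfl) (rfl | rfl) <;> simp [hcc]
      inv_mem' := by
        rintro a ha
        have : a⁻¹ = a := inv_eq_iff_mul_eq_one.mpr (hsq a)
        change a⁻¹ = 1 ∨ a⁻¹ = c
        rw [this]
        exact ha }
  have hZ : ∀ w, w ∈ Z ↔ w = 1 ∨ w = c := fun w => Iff.rfl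
  have hZn : Z.Normal := ⟨fun a ha g => by
    rw [comm hsq g a, mul_inv_cancel_right]; exact ha⟩
  have hZc : Nat.card Z = 2 := by
    have h6 : Nat.card Z = ({1, c} : Set W).ncard := rfl
    rw [h6, Set.ncard_pair hc.symm]
  have hQc : Nat.card (W ⧸ Z) = 4 := by
    have h6 := Subgroup.card_eq_card_quotient_mul_card_subgroup Z
    rw [hZc, hW] at h6
    omega
  have hle : ∀ p : P, Z ≤ Z.comap (f p).toMonoidHom := by
    intro p w hw
    rcases hw with rfl | rfl
    · exact Subgroup.one_mem _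
    · change f p w ∈ Z
      rw [hcf' p p.2]
      exact Or.inr rfl
  let actQ : MulAction P (W ⧸ Z) :=
    { smul := fun p => QuotientGroup.map Z Z (f p).toMonoidHom (hle p)
      one_smul := fun q => by
        induction q using QuotientGroup.induction_on with
        | H w =>
          change ((f (1 : N) w : W) : W ⧸ Z) = w
          rw [map_one]; rfl
      mul_smul := fun a b q => by
        induction q using QuotientGroup.induction_on with
        | H w =>
          change ((f ((a : N) * b) w : W) : W ⧸ Z) = ((f a (f b w) : W) : W ⧸ Z)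
          rw [map_mul]; rfl }
  have hactQ : ∀ (p : P) (w : W), p • (w : W ⧸ Z) = ((f p w : W) : W ⧸ Z) := fun _ _ => rfl
  have h5 := hP.card_modEq_card_fixedPoints (W ⧸ Z)
  rw [hQc] at h5
  have h6 : ∃ q : W ⧸ Z, q ≠ 1 ∧ q ∈ MulAction.fixedPoints P (W ⧸ Z) := by
    by_contra hcon
    push Not at hcon
    have h4 : MulAction.fixedPoints P (W ⧸ Z) = {1} := by
      ext w
      rw [Set.mem_singleton_iff]
      constructor
      · intro hw
        by_contra h5
        exact hcon w h5 hw
      · rintro rfl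
        intro p
        change p • ((1 : W) : W ⧸ Z) = ((1 : W) : W ⧸ Z)
        rw [hactQ, map_one]
    rw [h4, Nat.card_eq_fintype_card, Fintype.card_unique] at h5
    exact absurd h5 (by decide)
  obtain ⟨q, hq, hqf⟩ := h6
  induction q using QuotientGroup.induction_on with
  | H d =>
    have hdZ : d ∉ Z := fun h => hq ((QuotientGroup.eq_one_iff d).2 h)
    have hdZ' : ¬ (d = 1 ∨ d = c) := hdZ
    push Not at hdZ'
    refine ⟨c, d, hc, hdZ'.1, hdZ'.2.symm, hcf', fun p hp => ?_⟩
    have h7 := hqf ⟨p, hp⟩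
    rw [hactQ, eq_comm, QuotientGroup.eq, hZ] at h7
    rcases h7 with h7 | h7
    · left
      exact (inv_mul_eq_one.1 h7).symm
    · right
      rw [inv_mul_eq_iff_eq_mul] at h7
      rw [comm hsq c d]
      exact h7

/-- A line through a fixed flag. -/
structure Flag (f : N →* MulAut W) (P : Subgroup N) (c d : W) : Prop where
  hc : c ≠ 1
  hd : d ≠ 1
  hcd : c ≠ d
  fc : ∀ p ∈ P, f p c = c
  fd : ∀ p ∈ P, f p d = d ∨ f p d = c * d

/-- Three independent elements generate. -/
theorem eq_of_basis (hW : Nat.card W = 8) (hsq : ∀ w : W, w * w = 1) {c d e : W} (hc : c ≠ 1) (hd : d ≠ 1)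
    (hcd : c ≠ d) (he : e ∉ line hsq c d) {θ θ' : MulAut W} (h1 : θ c = θ' c) (h2 : θ d = θ' d)
    (h3 : θ e = θ' e) : θ = θ' := by
  have hl : ∀ w ∈ line hsq c d, θ w = θ' w := by
    rintro w (rfl | rfl | rfl | rfl)
    · rw [map_one, map_one]
    · exact h1
    · exact h2
    · rw [map_mul, map_mul, h1, h2]
  apply MulEquiv.ext
  intro w
  by_cases hw : w ∈ line hsq c d
  · exact hl w hw
  · have h4 : e * w ∈ line hsq c d := by
      rw [Subgroup.mul_mem_iff_of_index_two (index_line hW hsq hc hd hcd)]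
      exact ⟨fun h => absurd h he, fun h => absurd h hw⟩
    have h5 := hl _ h4
    rw [map_mul, map_mul, h3] at h5
    exact mul_left_cancel h5

theorem map_line (hsq : ∀ w : W, w * w = 1) {c d : W} {θ : MulAut W} (hc : θ c ∈ line hsq c d)
    (hd : θ d ∈ line hsq c d) {w : W} (hw : w ∈ line hsq c d) : θ w ∈ line hsq c d := by
  rcases hw with rfl | rfl | rfl | rfl
  · rw [map_one]; exact Subgroup.one_mem _
  · exact hc
  · exact hd
  · rw [map_mul]; exact Subgroup.mul_mem _ hc hd

/-- An automorphism preserving a line preserves its complement. -/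
theorem map_line_compl [Finite W] (hsq : ∀ w : W, w * w = 1) {c d : W} {θ : MulAut W} (hc : θ c ∈ line hsq c d)
    (hd : θ d ∈ line hsq c d) {w : W} (hw : w ∉ line hsq c d) : θ w ∉ line hsq c d := by
  intro h
  have h1 : Function.Injective (fun v : line hsq c d => (⟨θ v, map_line hsq hc hd v.2⟩ : line hsq c d)) := by
    intro a b hab
    exact Subtype.ext (θ.injective (congrArg Subtype.val hab))
  obtain ⟨v, hv⟩ := Finite.surjective_of_injective h1 ⟨θ w, h⟩
  have h2 : θ v = θ w := congrArg Subtype.val hv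
  exact hw (θ.injective h2 ▸ v.2)

theorem Flag.all (hW : Nat.card W = 8) (hsq : ∀ w : W, w * w = 1) {f : N →* MulAut W}
    {P : Subgroup N} {c d : W} (F : Flag f P c d) (hcard : Nat.card (P.map f) = 8) {e e' d' : W}
    (he : e ∉ line hsq c d) (he' : e' ∉ line hsq c d) (hd' : d' = d ∨ d' = c * d) :
    ∃ p ∈ P, f p d = d' ∧ f p e = e' := by
  classical
  have : Finite W := Nat.finite_of_card_ne_zero (by rw [hW]; norm_num)
  let Y1 := {w : W // w = d ∨ w = c * d}
  let Y2 := {w : W // w ∉ line hsq c d}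
  have hY1 : Nat.card Y1 = 2 := by
    have h6 : Nat.card Y1 = ({d, c * d} : Set W).ncard := rfl
    rw [h6, Set.ncard_pair]
    intro h
    have h7 : 1 * d = c * d := by rw [one_mul]; exact h
    exact F.hc (mul_right_cancel h7).symm
  have hY2 : Nat.card Y2 = 4 := by
    have h6 : Nat.card Y2 = (((line hsq c d : Subgroup W) : Set W)ᶜ).ncard := rfl
    rw [h6, Set.ncard_compl, hW]
    have h7 : ((line hsq c d : Subgroup W) : Set W).ncard = 4 := card_line hsq F.hc F.hd F.hcd
    rw [h7]
  have hmem : ∀ θ ∈ P.map f, θ c = c ∧ (θ d = d ∨ θ d = c * d) ∧ θ e ∉ line hsq c d := by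
    rintro _ ⟨p, hp, rfl⟩
    have h1 : f p c ∈ line hsq c d := by rw [F.fc p hp]; exact Or.inr (Or.inl rfl)
    have h2 : f p d ∈ line hsq c d := by
      rcases F.fd p hp with h | h
      · rw [h]; exact Or.inr (Or.inr (Or.inl rfl))
      · rw [h]; exact Or.inr (Or.inr (Or.inr rfl))
    exact ⟨F.fc p hp, F.fd p hp, map_line_compl hsq h1 h2 he⟩
  let Φ : P.map f → Y1 × Y2 := fun θ => (⟨(θ : MulAut W) d, (hmem θ θ.2).2.1⟩, ⟨(θ : MulAut W) e, (hmem θ θ.2).2.2⟩)
  have hinj : Function.Injective Φ := by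
    intro θ θ' hθ
    have h1 := congrArg (fun q => (q.1 : W)) hθ
    have h2 := congrArg (fun q => (q.2 : W)) hθ
    apply Subtype.ext
    refine eq_of_basis hW hsq F.hc F.hd F.hcd he ?_ h1 h2
    rw [(hmem θ θ.2).1, (hmem θ' θ'.2).1]
  have hbij : Function.Bijective Φ := by
    refine hinj.bijective_of_nat_card_le ?_
    rw [Nat.card_prod, hY1, hY2, hcard]
  obtain ⟨θ, hθ⟩ := hbij.2 (⟨d', hd'⟩, ⟨e', he'⟩)
  obtain ⟨p, hp, hp2⟩ := θ.2
  refine ⟨p, hp, ?_, ?_⟩
  · rw [hp2]
    exact congrArg (fun q => (q.1 : W)) hθ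
  · rw [hp2]
    exact congrArg (fun q => (q.2 : W)) hθ

/-- The image of the line under `f n`. -/
def img (hsq : ∀ w : W, w * w = 1) (f : N →* MulAut W) (c d : W) (n : N) : Subgroup W :=
  (line hsq c d).map (f n).toMonoidHom

theorem mem_img {hsq : ∀ w : W, w * w = 1} {f : N →* MulAut W} {c d : W} {n : N} {w : W} :
    w ∈ img hsq f c d n ↔ ∃ v ∈ line hsq c d, f n v = w := Iff.rfl

theorem card_img (hsq : ∀ w : W, w * w = 1) (f : N →* MulAut W) {c d : W} (hc : c ≠ 1) (hd : d ≠ 1)
    (hcd : c ≠ d) (n : N) : Nat.card (img hsq f c d n) = 4 := by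
  rw [img, Subgroup.card_map_of_injective (f n).injective, card_line hsq hc hd hcd]

/-- `N_c` moves the line. -/
theorem Flag.exists_move (hW : Nat.card W = 8) (hsq : ∀ w : W, w * w = 1) {f : N →* MulAut W}
    {P : Subgroup N} {c d : W} (F : Flag f P c d) (hcard : Nat.card (P.map f) = 8)
    (htr : ∀ a b : W, a ≠ 1 → b ≠ 1 → ∃ n, f n a = b) :
    ∃ n, f n c = c ∧ f n d ∉ line hsq c d := by
  have : Finite W := Nat.finite_of_card_ne_zero (by rw [hW]; norm_num)
  by_contra hcon
  push Not at hcon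
  have hcl : c ∈ line hsq c d := Or.inr (Or.inl rfl)
  have hdl : d ∈ line hsq c d := Or.inr (Or.inr (Or.inl rfl))
  have hline : ∀ n, f n c = c → ∀ w ∈ line hsq c d, f n w ∈ line hsq c d := fun n hn w hw =>
    map_line hsq (by rw [hn]; exact hcl) (hcon n hn) hw
  have hle : ∀ n m, f n c = f m c → img hsq f c d n ≤ img hsq f c d m := by
    rintro n m hnm _ ⟨v, hv, rfl⟩
    have h1 : f (m⁻¹ * n) c = c := by
      rw [map_mul, map_inv]
      change (f m)⁻¹ (f n c) = c
      rw [hnm, MulAut.inv_apply_self]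
    refine ⟨f (m⁻¹ * n) v, hline _ h1 v hv, ?_⟩
    change f m (f (m⁻¹ * n) v) = f n v
    rw [map_mul, map_inv]
    change f m ((f m)⁻¹ (f n v)) = f n v
    rw [MulAut.apply_inv_self]
  have heq : ∀ n m, f n c = f m c → img hsq f c d n = img hsq f c d m := fun n m h =>
    le_antisymm (hle n m h) (hle m n h.symm)
  have hone : img hsq f c d 1 = line hsq c d := by
    ext w
    rw [mem_img]
    constructor
    · rintro ⟨v, hv, rfl⟩
      rw [map_one]; exact hv
    · intro hw
      exact ⟨w, hw, by rw [map_one]; rfl⟩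
  have hind := index_line hW hsq F.hc F.hd F.hcd
  -- C1
  have hC1 : ∀ m, f m c ∈ line hsq c d → img hsq f c d m = line hsq c d := by
    intro m hm
    by_cases hmc : f m c = c
    · rw [← hone]
      refine heq m 1 ?_
      rw [hmc, map_one]; rfl
    have hm1 : f m c ≠ 1 := fun h => F.hc ((f m).map_eq_one_iff.1 h)
    have hmm : f m c ∈ img hsq f c d m := ⟨c, hcl, rfl⟩
    by_contra hne
    have hu : ∃ u ∈ img hsq f c d m, u ∉ line hsq c d := by
      by_contra hcon2
      push Not at hcon2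
      exact hne (Subgroup.eq_of_le_of_card_ge hcon2 (by
        rw [card_line hsq F.hc F.hd F.hcd, card_img hsq f F.hc F.hd F.hcd m]))
    obtain ⟨u, hu, hul⟩ := hu
    have hcm : c ∉ img hsq f c d m := by
      intro h
      apply hne
      rw [eq_line hW hsq (card_img hsq f F.hc F.hd F.hcd m) F.hc hm1 (fun h => hmc h.symm) h hmm]
      exact (eq_line hW hsq (card_line hsq F.hc F.hd F.hcd) F.hc hm1 (fun h => hmc h.symm) hcl hm).symm
    have hcu : c * u ∉ line hsq c d := by
      rw [Subgroup.mul_mem_iff_of_index_two hind]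
      exact fun h => hul (h.1 hcl)
    obtain ⟨p, hp, hpd, hpu⟩ := F.all hW hsq hcard hul hcu (Or.inl rfl)
    have h1 : f (p * m) c = f m c := by
      rw [map_mul]
      change f p (f m c) = f m c
      rcases hm with h | h | h | h
      · exact absurd h hm1
      · exact absurd h hmc
      · rw [h, hpd]
      · rw [h, map_mul, hpd, F.fc p hp]
    have h2 := heq _ _ h1
    obtain ⟨v, hv, hvu⟩ := hu
    have hvu' : f m v = u := hvu
    have h3 : c * u ∈ img hsq f c d (p * m) := by
      refine ⟨v, hv, ?_⟩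
      change f (p * m) v = c * u
      rw [map_mul]
      change f p (f m v) = c * u
      rw [hvu', hpu]
    rw [h2] at h3
    apply hcm
    have h4 := Subgroup.mul_mem _ h3 (Subgroup.inv_mem _ (⟨v, hv, hvu⟩ : u ∈ img hsq f c d m))
    rwa [mul_inv_cancel_right] at h4
  have hw' : ∃ w', w' ∉ line hsq c d := by
    by_contra hcon2
    push Not at hcon2
    have h1 : line hsq c d = ⊤ := by
      rw [eq_top_iff]
      exact fun w _ => hcon2 w
    rw [h1, Subgroup.index_top] at hind
    omega
  obtain ⟨w', hw'⟩ := hw'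
  have hw1 : w' ≠ 1 := fun h => hw' (h ▸ Subgroup.one_mem _)
  obtain ⟨n, hn⟩ := htr c w' F.hc hw1
  obtain ⟨w, ⟨v, hv, hvw⟩, hwl, hwne⟩ := exists_inter hW (card_img hsq f F.hc F.hd F.hcd n)
    (card_line hsq F.hc F.hd F.hcd)
  have hvw' : f n v = w := hvw
  have hv1 : v ≠ 1 := by
    rintro rfl
    rw [map_one] at hvw'
    exact hwne hvw'.symm
  obtain ⟨m', hm'⟩ := htr c v F.hc hv1
  obtain ⟨m, hm⟩ := htr c w F.hc hwne
  have e1 := hC1 m' (by rw [hm']; exact hv)
  have e2 := hC1 m (by rw [hm]; exact hwl)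
  have e3 : img hsq f c d (n * m') = img hsq f c d m := by
    refine heq _ _ ?_
    rw [map_mul]
    change f n (f m' c) = f m c
    rw [hm', hvw', hm]
  have e4 : f n c ∈ img hsq f c d (n * m') := by
    have h5 : c ∈ img hsq f c d m' := by rw [e1]; exact hcl
    obtain ⟨a, ha, hac⟩ := h5
    have hac' : f m' a = c := hac
    refine ⟨a, ha, ?_⟩
    change f (n * m') a = f n c
    rw [map_mul]
    change f n (f m' a) = f n c
    rw [hac']
  rw [e3, e2, hn] at e4
  exact hw' e4

/-- `N` is transitive on flags. -/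
theorem Flag.trans (hW : Nat.card W = 8) (hsq : ∀ w : W, w * w = 1) {f : N →* MulAut W}
    {P : Subgroup N} {c d : W} (F : Flag f P c d) (hcard : Nat.card (P.map f) = 8)
    (htr : ∀ a b : W, a ≠ 1 → b ≠ 1 → ∃ n, f n a = b) {c' d' : W} (hc' : c' ≠ 1) (hd' : d' ≠ 1)
    (hcd' : c' ≠ d') : ∃ n, f n c = c' ∧ ∀ w ∈ line hsq c d, f n w ∈ line hsq c' d' := by
  have : Finite W := Nat.finite_of_card_ne_zero (by rw [hW]; norm_num)
  obtain ⟨n1, hn1⟩ := htr c c' F.hc hc'
  set d1 := (f n1)⁻¹ d' with hd1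
  have hd1' : f n1 d1 = d' := by rw [hd1, MulAut.apply_inv_self]
  have hkey : ∃ n2, f n2 c = c ∧ f n2 d ∈ line hsq c d1 := by
    by_cases h1 : d1 ∈ line hsq c d
    · refine ⟨1, by rw [map_one]; rfl, ?_⟩
      have h2 : d1 ≠ 1 := by
        rintro h
        rw [h, map_one] at hd1'
        exact hd' hd1'.symm
      have h3 : c ≠ d1 := by
        rintro h
        rw [← h, hn1] at hd1'
        exact hcd' hd1'
      have h4 : line hsq c d = line hsq c d1 :=
        eq_line hW hsq (card_line hsq F.hc F.hd F.hcd) F.hc h2 h3 (Or.inr (Or.inl rfl)) h1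
      rw [← h4, map_one]
      exact Or.inr (Or.inr (Or.inl rfl))
    · obtain ⟨n0, h2, h3⟩ := F.exists_move hW hsq hcard htr
      obtain ⟨p, hp, -, hp2⟩ := F.all hW hsq hcard h3 h1 (Or.inl rfl)
      refine ⟨p * n0, ?_, ?_⟩
      · rw [map_mul]
        change f p (f n0 c) = c
        rw [h2, F.fc p hp]
      · rw [map_mul]
        change f p (f n0 d) ∈ _
        rw [hp2]
        exact Or.inr (Or.inr (Or.inl rfl))
  obtain ⟨n2, h1, h2⟩ := hkey
  have h3 : ∀ w ∈ line hsq c d1, f n1 w ∈ line hsq c' d' := by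
    rintro w (rfl | rfl | rfl | rfl)
    · rw [map_one]; exact Subgroup.one_mem _
    · rw [hn1]; exact Or.inr (Or.inl rfl)
    · rw [hd1']; exact Or.inr (Or.inr (Or.inl rfl))
    · rw [map_mul, hn1, hd1']; exact Or.inr (Or.inr (Or.inr rfl))
  have hn12 : ∀ w, f (n1 * n2) w = f n1 (f n2 w) := fun w => by rw [map_mul]; rfl
  refine ⟨n1 * n2, by rw [hn12, h1, hn1], ?_⟩
  have h4 : f (n1 * n2) d ∈ line hsq c' d' := by rw [hn12]; exact h3 _ h2
  have h5 : f (n1 * n2) c = c' := by rw [hn12, h1, hn1]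
  rintro w (rfl | rfl | rfl | rfl)
  · rw [map_one]; exact Subgroup.one_mem _
  · rw [h5]; exact Or.inr (Or.inl rfl)
  · exact h4
  · rw [map_mul, h5]
    exact Subgroup.mul_mem _ (Or.inr (Or.inl rfl)) h4

/-- An involution acting on `E₈` is a transvection. -/
theorem transvection (hW : Nat.card W = 8) (hsq : ∀ w : W, w * w = 1) {θ : MulAut W} (hθ : θ ≠ 1)
    (hθθ : θ * θ = 1) : ∃ c d : W, c ≠ 1 ∧ d ≠ 1 ∧ c ≠ d ∧ (∀ w ∈ line hsq c d, θ w = w) ∧
      ∀ w, w ∉ line hsq c d → θ w = w * c := by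
  have : Finite W := Nat.finite_of_card_ne_zero (by rw [hW]; norm_num)
  have hθ2 : ∀ w, θ (θ w) = w := fun w => by
    have := congrArg (fun φ : MulAut W => φ w) hθθ
    exact this
  let F : Subgroup W :=
    { carrier := {w | θ w = w}
      one_mem' := map_one θ
      mul_mem' := by
        intro a b ha hb
        change θ (a * b) = a * b
        rw [map_mul, (ha : θ a = a), (hb : θ b = b)]
      inv_mem' := by
        intro a ha
        change θ a⁻¹ = a⁻¹
        rw [map_inv, (ha : θ a = a)] }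
  have hF : ∀ w, w ∈ F ↔ θ w = w := fun w => Iff.rfl
  let δ : W →* W := MonoidHom.mk' (fun w => w * θ w) (fun a b => by
    rw [map_mul]
    calc a * b * (θ a * θ b) = a * (b * θ a) * θ b := by group
      _ = a * (θ a * b) * θ b := by rw [comm hsq b (θ a)]
      _ = a * θ a * (b * θ b) := by group)
  have hδ : ∀ w, δ w = w * θ w := fun _ => rfl
  have hker : δ.ker = F := by
    ext w
    rw [MonoidHom.mem_ker, hδ, hF]
    constructor
    · intro h
      have h1 : θ w = w⁻¹ := (inv_eq_of_mul_eq_one_right h).symm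
      rw [h1]
      exact inv_eq_iff_mul_eq_one.mpr (hsq w)
    · intro h
      rw [h, hsq]
  have hrange : δ.range ≤ F := by
    rintro _ ⟨w, rfl⟩
    rw [hF, hδ, map_mul, hθ2, comm hsq]
  have h1 := δ.ker.card_mul_index
  rw [Subgroup.index_ker, hker, hW] at h1
  have h2 : Nat.card δ.range ≤ Nat.card F := Subgroup.card_le_of_le hrange
  have h3 : Nat.card F ≠ 8 := by
    intro h
    apply hθ
    have h4 : F = ⊤ := Subgroup.eq_top_of_card_eq _ (by rw [h, hW])
    apply MulEquiv.ext
    intro w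
    have h5 : w ∈ F := by rw [h4]; exact Subgroup.mem_top w
    exact h5
  have h4 : Nat.card F = 4 := by
    have h5 : Nat.card F ∣ 8 := Dvd.intro _ h1
    have h6 : Nat.card F ≤ 8 := Nat.le_of_dvd (by norm_num) h5
    generalize hk : Nat.card F = k at *
    generalize Nat.card δ.range = m at *
    interval_cases k <;> omega
  have h5 : ∃ e, e ∉ F := by
    by_contra hcon
    push Not at hcon
    apply h3
    have h6 : F = ⊤ := by
      rw [eq_top_iff]
      exact fun w _ => hcon w
    rw [h6, Subgroup.card_top, hW]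
  obtain ⟨e, he⟩ := h5
  have hc : e * θ e ≠ 1 := fun h => he (by
    rw [← hker]
    exact h)
  have hcF : e * θ e ∈ F := hrange ⟨e, rfl⟩
  have h6 : ∃ d ∈ F, d ≠ 1 ∧ e * θ e ≠ d := by
    by_contra hcon
    push Not at hcon
    have h7 : (F : Set W) ⊆ ({1, e * θ e} : Set W) := by
      intro w hw
      by_cases hw1 : w = 1
      · exact Or.inl hw1
      · exact Or.inr (hcon w hw hw1).symm
    have h8 := Set.ncard_le_ncard h7
    have h9 : (F : Set W).ncard = 4 := h4
    rw [h9, Set.ncard_pair hc.symm] at h8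
    omega
  obtain ⟨d, hdF, hd, hcd⟩ := h6
  have hFl : F = line hsq (e * θ e) d := eq_line hW hsq h4 hc hd hcd hcF hdF
  refine ⟨e * θ e, d, hc, hd, hcd, fun w hw => ?_, fun w hw => ?_⟩
  · rw [← hFl] at hw
    exact hw
  · have h7 : w * e ∈ line hsq (e * θ e) d := by
      rw [Subgroup.mul_mem_iff_of_index_two (index_line hW hsq hc hd hcd)]
      constructor
      · exact fun h => absurd h hw
      · intro h
        rw [← hFl] at h
        exact absurd h he
    rw [← hFl, hF, map_mul] at h7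
    have h8 : θ w = w * e * (θ e)⁻¹ := by rw [← h7, mul_inv_cancel_right]
    have h9 : (θ e)⁻¹ = θ e := inv_eq_iff_mul_eq_one.mpr (hsq _)
    rw [h8, h9, mul_assoc]

/-- **Main result of this file.** -/
theorem central_conj [Finite N] (hW : Nat.card W = 8) (hsq : ∀ w : W, w * w = 1) (f : N →* MulAut W)
    (P : Subgroup N) (hP : IsPGroup 2 P) (hcard : Nat.card (P.map f) = 8)
    (htr : ∀ a b : W, a ≠ 1 → b ≠ 1 → ∃ n, f n a = b) (y : N) (hy : f y ≠ 1) (hyy : f y * f y = 1) :
    ∃ n, ∀ p ∈ P, f (n * p * n⁻¹) * f y = f y * f (n * p * n⁻¹) := by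
  have : Finite W := Nat.finite_of_card_ne_zero (by rw [hW]; norm_num)
  obtain ⟨c, d, hc, hd, hcd, h1, h2⟩ := exists_flag hW hsq f P hP
  have F : Flag f P c d := ⟨hc, hd, hcd, h1, h2⟩
  obtain ⟨c', d', hc', hd', hcd', h3, h4⟩ := transvection hW hsq hy hyy
  obtain ⟨n, hn, hn2⟩ := F.trans hW hsq hcard htr hc' hd' hcd'
  refine ⟨n, fun p hp => ?_⟩
  have hsurj : ∀ w ∈ line hsq c' d', ∃ v ∈ line hsq c d, f n v = w := by
    have hinj : Function.Injective (fun v : line hsq c d => (⟨f n v, hn2 v v.2⟩ : line hsq c' d')) := by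
      intro a b hab
      exact Subtype.ext ((f n).injective (congrArg Subtype.val hab))
    have hbij := hinj.bijective_of_nat_card_le (by
      rw [card_line hsq hc hd hcd, card_line hsq hc' hd' hcd'])
    intro w hw
    obtain ⟨v, hv⟩ := hbij.2 ⟨w, hw⟩
    exact ⟨v, v.2, congrArg Subtype.val hv⟩
  set θ := f (n * p * n⁻¹) with hθ
  have hθn : ∀ v, θ (f n v) = f n (f p v) := by
    intro v
    rw [hθ, map_mul, map_mul, map_inv]
    change f n (f p ((f n)⁻¹ (f n v))) = f n (f p v)
    rw [MulAut.inv_apply_self]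
  have hθc : θ c' = c' := by
    rw [← hn, hθn, F.fc p hp]
  have hθl : ∀ w ∈ line hsq c' d', θ w ∈ line hsq c' d' := by
    intro w hw
    obtain ⟨v, hv, rfl⟩ := hsurj w hw
    rw [hθn]
    apply hn2
    refine map_line hsq ?_ ?_ hv
    · rw [F.fc p hp]; exact Or.inr (Or.inl rfl)
    · rcases F.fd p hp with h | h
      · rw [h]; exact Or.inr (Or.inr (Or.inl rfl))
      · rw [h]; exact Or.inr (Or.inr (Or.inr rfl))
  apply MulEquiv.ext
  intro w
  change θ (f y w) = f y (θ w)
  by_cases hw : w ∈ line hsq c' d'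
  · rw [h3 w hw, h3 _ (hθl w hw)]
  · have h5 : θ w ∉ line hsq c' d' := map_line_compl hsq (hθl _ (Or.inr (Or.inl rfl)))
      (hθl _ (Or.inr (Or.inr (Or.inl rfl)))) hw
    rw [h4 w hw, h4 _ h5, map_mul, hθc]

/-- Two noncommuting involutions in a group of order 8 induced on `E₈`. -/
theorem exists_pair [Finite N] (hW : Nat.card W = 8) (hsq : ∀ w : W, w * w = 1) (f : N →* MulAut W)
    (P : Subgroup N) (hP : IsPGroup 2 P) (hcard : Nat.card (P.map f) = 8) :
    ∃ a ∈ P, ∃ b ∈ P, f a * f a = 1 ∧ f b * f b = 1 ∧ f a * f b ≠ f b * f a := by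
  have : Finite W := Nat.finite_of_card_ne_zero (by rw [hW]; norm_num)
  obtain ⟨c, d, hc, hd, hcd, h1, h2⟩ := exists_flag hW hsq f P hP
  have F : Flag f P c d := ⟨hc, hd, hcd, h1, h2⟩
  have hind := index_line hW hsq F.hc F.hd F.hcd
  have he : ∃ e, e ∉ line hsq c d := by
    by_contra hcon2
    push Not at hcon2
    have h1 : line hsq c d = ⊤ := by
      rw [eq_top_iff]
      exact fun w _ => hcon2 w
    rw [h1, Subgroup.index_top] at hind
    omega
  obtain ⟨e, he⟩ := he
  have hed : e * d ∉ line hsq c d := by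
    rw [Subgroup.mul_mem_iff_of_index_two hind]
    exact fun h => he (h.2 (Or.inr (Or.inr (Or.inl rfl))))
  obtain ⟨a, ha, had, hae⟩ := F.all hW hsq hcard he he (Or.inr rfl)
  obtain ⟨b, hb, hbd, hbe⟩ := F.all hW hsq hcard he hed (Or.inl rfl)
  refine ⟨a, ha, b, hb, ?_, ?_, ?_⟩
  · refine eq_of_basis hW hsq hc hd hcd he ?_ ?_ ?_
    · change f a (f a c) = c
      rw [h1 a ha, h1 a ha]
    · change f a (f a d) = d
      rw [had, map_mul, had, h1 a ha, ← mul_assoc, hsq, one_mul]
    · change f a (f a e) = e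
      rw [hae, hae]
  · refine eq_of_basis hW hsq hc hd hcd he ?_ ?_ ?_
    · change f b (f b c) = c
      rw [h1 b hb, h1 b hb]
    · change f b (f b d) = d
      rw [hbd, hbd]
    · change f b (f b e) = e
      rw [hbe, map_mul, hbe, hbd, mul_assoc, hsq, mul_one]
  · intro h
    have h3 : f a (f b e) = f b (f a e) := congrArg (fun φ : MulAut W => φ e) h
    rw [hbe, hae, map_mul, hae, had, hbe] at h3
    have h4 : c * d = 1 * d := by rw [one_mul]; exact mul_left_cancel h3
    exact hc (mul_right_cancel h4)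

end Act

end Cfsg.Agent.GH.EFlag
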