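import Mathlib
import Cfsg.Agent.GH.EDefs
import Cfsg.Agent.GH.EFlag
import Cfsg.Agent.Transfer.ThompsonTransfer

/-!
# Project GH, branch GH-E: the transfer argument of case (b)

`no_d8`: a Sylow 2-subgroup `S` with a normal subgroup `V`, `|S/V| = 16`, a central involution `tV` of `S/V`
which is not a square, `S/V⟨t⟩` of order 8 faithful on an `E₈`, and `t^G ∩ S ⊆ tV`: then `G` has a subgroup of
index 2.
-/

set_option autoImplicit false

namespace Cfsg.Agent.GH.ENoD8

open Cfsg.Agent.GH.EFlag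

/-- A group of order 16 with a central involution `t` which is not a square, and with a homomorphism onto a
nonabelian group of order 8 generated by involutions with kernel `⟨t⟩`. -/
theorem exists_compl {Q W : Type*} [Group Q] [Finite Q] [Group W] (hW : Nat.card W = 8)
    (hsq : ∀ w : W, w * w = 1) (hQ : Nat.card Q = 16) (f : Q →* MulAut W) (t : Q) (ht : t ≠ 1)
    (hft : ∀ q, f q = 1 ↔ q = 1 ∨ q = t) (nosq : ∀ q : Q, q * q ≠ t) :
    ∃ K : Subgroup Q, K.index = 2 ∧ t ∉ K := by
  have h2 : Fact (Nat.Prime 2) := ⟨Nat.prime_two⟩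
  have hQ2 : IsPGroup 2 Q := IsPGroup.of_card (n := 4) (by rw [hQ]; norm_num)
  have hker : Nat.card f.ker = 2 := by
    have h6 : Nat.card f.ker = ({1, t} : Set Q).ncard := by
      have h7 : ((f.ker : Subgroup Q) : Set Q) = {1, t} := by
        ext q
        rw [SetLike.mem_coe, MonoidHom.mem_ker, hft]
        rfl
      rw [← h7]; rfl
    rw [h6, Set.ncard_pair ht.symm]
  have hrange : Nat.card f.range = 8 := by
    have h3 := f.ker.card_mul_index
    rw [Subgroup.index_ker, hker, hQ] at h3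
    omega
  have hfin : Finite f.range := Finite.of_surjective f.rangeRestrict f.rangeRestrict_surjective
  obtain ⟨a, -, b, -, ha, hb, hab⟩ := exists_pair hW hsq f ⊤
    (IsPGroup.of_equiv hQ2 Subgroup.topEquiv.symm) (by
      rw [← MonoidHom.range_eq_map]; exact hrange)
  have hsq1 : ∀ q : Q, f q * f q = 1 → q * q = 1 := by
    intro q hq
    rw [← map_mul, hft] at hq
    rcases hq with h | h
    · exact h
    · exact absurd h (nosq q)
  have ha1 := hsq1 a ha
  have hb1 := hsq1 b hb
  have hai : a⁻¹ = a := inv_eq_iff_mul_eq_one.mpr ha1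
  have hbi : b⁻¹ = b := inv_eq_iff_mul_eq_one.mpr hb1
  set r := a * b with hr
  -- the order of `f r` is 4
  have hfr2 : (f r) ^ 2 ≠ 1 := by
    intro h
    apply hab
    rw [pow_two, hr, map_mul] at h
    have h3 : f a * f b = (f a * f b)⁻¹ := eq_inv_of_mul_eq_one_left h
    rw [mul_inv_rev, ← map_inv, ← map_inv, hai, hbi] at h3
    exact h3
  have hfr4 : (f r) ^ 4 = 1 := by
    -- the order divides 8 and is not 8
    have h3 : orderOf (f r) ∣ 8 := by
      have h4 : f r ∈ f.range := ⟨r, rfl⟩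
      have h5 := orderOf_dvd_natCard (⟨f r, h4⟩ : f.range)
      rwa [hrange, Subgroup.orderOf_mk] at h5
    have h6 : orderOf (f r) ≠ 8 := by
      intro h8
      apply hab
      have h9 : (Subgroup.zpowers (f r)) = f.range := by
        refine Subgroup.eq_of_le_of_card_ge ?_ ?_
        · rw [Subgroup.zpowers_le]; exact ⟨r, rfl⟩
        · rw [Nat.card_zpowers, h8, hrange]
      have h10 : f a ∈ Subgroup.zpowers (f r) := by rw [h9]; exact ⟨a, rfl⟩
      have h11 : f b ∈ Subgroup.zpowers (f r) := by rw [h9]; exact ⟨b, rfl⟩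
      obtain ⟨i, hi⟩ := h10
      obtain ⟨j, hj⟩ := h11
      have hi' : f r ^ i = f a := hi
      have hj' : f r ^ j = f b := hj
      rw [← hi', ← hj', ← zpow_add, ← zpow_add, add_comm]
    have h7 : orderOf (f r) ∣ 4 := by
      have h8 : orderOf (f r) ≤ 8 := Nat.le_of_dvd (by norm_num) h3
      generalize orderOf (f r) = k at *
      interval_cases k <;> omega
    exact orderOf_dvd_iff_pow_eq_one.1 h7
  have hr4 : r ^ 4 = 1 := by
    have h3 : f (r ^ 2) * f (r ^ 2) = 1 := by
      rw [← map_mul, ← pow_add, map_pow]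
      exact hfr4
    have h4 := hsq1 _ h3
    rwa [← pow_add] at h4
  have hro : orderOf r = 4 := by
    have h3 : orderOf r ∣ 4 := orderOf_dvd_of_pow_eq_one hr4
    have h4 : ¬ orderOf r ∣ 2 := by
      intro h
      apply hfr2
      rw [← map_pow, orderOf_dvd_iff_pow_eq_one.1 h, map_one]
    have h5 : orderOf r ≤ 4 := Nat.le_of_dvd (by norm_num) h3
    generalize orderOf r = k at *
    interval_cases k <;> omega
  have hfro : orderOf (f r) = 4 := by
    have h3 : orderOf (f r) ∣ 4 := orderOf_dvd_of_pow_eq_one hfr4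
    have h4 : ¬ orderOf (f r) ∣ 2 := fun h => hfr2 (orderOf_dvd_iff_pow_eq_one.1 h)
    have h5 : orderOf (f r) ≤ 4 := Nat.le_of_dvd (by norm_num) h3
    generalize orderOf (f r) = k at *
    interval_cases k <;> omega
  set U := Subgroup.zpowers r with hU
  have hUc : Nat.card U = 4 := by rw [hU, Nat.card_zpowers, hro]
  have hinv : ∀ u ∈ U, a * u * a⁻¹ ∈ U := by
    rintro _ ⟨i, rfl⟩
    refine ⟨-i, ?_⟩
    change r ^ (-i) = a * r ^ i * a⁻¹
    have h3 : a * r * a⁻¹ = r⁻¹ := by
      rw [hr, mul_inv_rev, hai, hbi, ← mul_assoc, ha1, one_mul]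
    rw [zpow_neg, ← inv_zpow, ← h3, conj_zpow]
  have hmem : ∀ g, g ∈ Cfsg.Agent.GH.E.rr a U ↔ g ∈ U ∨ a * g ∈ U := fun g =>
    Cfsg.Agent.GH.E.mem_rr ha1 hinv
  set K := Cfsg.Agent.GH.E.rr a U with hK
  have hcomm : ∀ q ∈ U, f q * f r = f r * f q := by
    rintro _ ⟨i, rfl⟩
    change f (r ^ i) * f r = f r * f (r ^ i)
    rw [← map_mul, ← map_mul, ← zpow_add_one, ← zpow_one_add, add_comm]
  have hafr : f a * f r ≠ f r * f a := by
    intro h
    apply hab
    rw [hr, map_mul, mul_assoc] at h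
    exact mul_left_cancel h
  have htK : t ∉ K := by
    rw [hmem]
    have hft1 : f t = 1 := (hft t).2 (Or.inr rfl)
    rintro (⟨i, hi⟩ | h)
    · have hi' : r ^ i = t := hi
      have h3 : (f r) ^ i = 1 := by rw [← map_zpow, hi', hft1]
      have h4 := orderOf_dvd_iff_zpow_eq_one.2 h3
      rw [hfro, ← hro] at h4
      have h5 := orderOf_dvd_iff_zpow_eq_one.1 h4
      exact ht (by rw [← hi', h5])
    · have h3 := hcomm _ h
      rw [map_mul, hft1, mul_one] at h3
      exact hafr h3
  have haU : a ∉ U := fun h => hafr (hcomm a h)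
  have hUK : U ≤ K := Cfsg.Agent.GH.E.le_rr a U
  have hK4 : Nat.card U ∣ Nat.card K := Subgroup.card_dvd_of_le hUK
  have hKQ : Nat.card K ∣ Nat.card Q := Subgroup.card_subgroup_dvd_card K
  have hK4' : Nat.card K ≠ 4 := by
    intro h
    have h3 : U = K := Subgroup.eq_of_le_of_card_ge hUK (by rw [h, hUc])
    exact haU (h3 ▸ Cfsg.Agent.GH.E.self_mem_rr a U)
  have hK16 : Nat.card K ≠ 16 := by
    intro h
    have h3 : K = ⊤ := Subgroup.eq_top_of_card_eq _ (by rw [h, hQ])
    exact htK (h3 ▸ Subgroup.mem_top t)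
  refine ⟨K, ?_, htK⟩
  rw [hUc] at hK4
  rw [hQ] at hKQ
  have h3 := K.card_mul_index
  rw [hQ] at h3
  have h5 : Nat.card K ≤ 16 := Nat.le_of_dvd (by norm_num) hKQ
  generalize Nat.card K = k at *
  generalize K.index = m at *
  interval_cases k <;> omega

theorem no_d8 {G : Type*} [Group G] [Finite G] (hidx : ∀ K : Subgroup G, K.index ≠ 2) (S : Sylow 2 G)
    (V P : Subgroup G) (t : G) (htt : t * t = 1) (ht : t ∉ V) (htP : t ∈ P) (hVP : V ≤ P)
    (hPS : P ≤ (S : Subgroup G)) (hVn : ∀ s ∈ S, ∀ v ∈ V, s * v * s⁻¹ ∈ V)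
    (hP : ∀ g ∈ P, g ∈ V ∨ t * g ∈ V) (hcard : Nat.card (S : Subgroup G) = 8 * Nat.card P)
    (htV : ∀ s ∈ S, s * t * s⁻¹ * t⁻¹ ∈ V)
    {W : Type*} [Group W] (hW : Nat.card W = 8) (hsq : ∀ w : W, w * w = 1)
    (f : (S : Subgroup G) →* MulAut W) (hf : ∀ s, f s = 1 ↔ (s : G) ∈ P)
    (nosq : ∀ s ∈ S, ∀ v ∈ V, s * s ≠ t * v)
    (fus : ∀ s ∈ S, IsConj t s → ∃ v ∈ V, s = t * v) : False := by
  have h2 : Fact (Nat.Prime 2) := ⟨Nat.prime_two⟩
  have hti : t⁻¹ = t := inv_eq_iff_mul_eq_one.mpr htt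
  set V' := V.subgroupOf (S : Subgroup G) with hV'
  have hVS : V ≤ (S : Subgroup G) := hVP.trans hPS
  have htS : t ∈ (S : Subgroup G) := hPS htP
  have hV'n : V'.Normal := ⟨fun v hv s => hVn s s.2 v hv⟩
  have hV'c : Nat.card V' = Nat.card V := Nat.card_congr (Subgroup.subgroupOfEquivOfLe hVS).toEquiv
  have hPV : Nat.card P = 2 * Nat.card V := by
    have h1 : V.relIndex P = 2 := by
      rw [Subgroup.relIndex_eq_two_iff]
      refine ⟨t, htP, fun b hb => ?_⟩
      have htn : t * b * t⁻¹ * b⁻¹ ∈ V ∧ b⁻¹ * t⁻¹ * b * t ∈ V := by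
        constructor
        · have h3 := V.inv_mem (htV b (hPS hb))
          have h4 : (b * t * b⁻¹ * t⁻¹)⁻¹ = t * b * t⁻¹ * b⁻¹ := by group
          rwa [h4] at h3
        · have h3 := htV b⁻¹ (S.inv_mem (hPS hb))
          rw [inv_inv, hti] at h3
          rw [hti]
          exact h3
      rcases hP b hb with hb' | hb'
      · right
        refine ⟨hb', fun h => ht ?_⟩
        have := V.mul_mem (V.inv_mem hb') h
        rwa [inv_mul_cancel_left] at this
      · left
        constructor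
        · have h3 := V.mul_mem (hVn t htS _ hb') (V.one_mem)
          rw [mul_one, hti] at h3
          have h4 : t * (t * b) * t = b * t := by rw [← mul_assoc, htt, one_mul]
          rwa [h4] at h3
        · intro h
          apply ht
          have := V.mul_mem hb' (V.inv_mem h)
          rwa [mul_inv_cancel_right] at this
    have h3 := Subgroup.relIndex_mul_relIndex ⊥ V P bot_le hVP
    rw [h1, Subgroup.relIndex_bot_left, Subgroup.relIndex_bot_left] at h3
    omega
  have hQ : Nat.card ((S : Subgroup G) ⧸ V') = 16 := by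
    have h3 := Subgroup.card_eq_card_quotient_mul_card_subgroup V'
    have h4 : Nat.card V ≠ 0 := Nat.card_pos.ne'
    rw [hV'c, hcard, hPV] at h3
    have h5 : 16 * Nat.card V = Nat.card ((S : Subgroup G) ⧸ V') * Nat.card V := by rw [← h3]; ring
    exact (Nat.eq_of_mul_eq_mul_right (Nat.pos_of_ne_zero h4) h5).symm
  have hle : V' ≤ f.ker := by
    intro v hv
    rw [MonoidHom.mem_ker, hf]
    exact hVP hv
  let F : (S : Subgroup G) ⧸ V' →* MulAut W := QuotientGroup.lift V' f hle
  have hF : ∀ s : (S : Subgroup G), F (s : (S : Subgroup G) ⧸ V') = f s := fun _ => rfl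
  let t' : (S : Subgroup G) := ⟨t, htS⟩
  have hmem : ∀ s : (S : Subgroup G), (s : (S : Subgroup G) ⧸ V') = 1 ↔ (s : G) ∈ V := fun s => by
    rw [QuotientGroup.eq_one_iff, hV', Subgroup.mem_subgroupOf]
  have hmemt : ∀ s : (S : Subgroup G), (s : (S : Subgroup G) ⧸ V') = (t' : (S : Subgroup G) ⧸ V') ↔
      t * (s : G) ∈ V := fun s => by
    rw [eq_comm, QuotientGroup.eq, hV', Subgroup.mem_subgroupOf]
    change t⁻¹ * (s : G) ∈ V ↔ _
    rw [hti]
  obtain ⟨K, hK, htK⟩ := exists_compl hW hsq hQ F (t' : (S : Subgroup G) ⧸ V')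
    (fun h => ht ((hmem t').1 h))
    (fun q => by
      induction q using QuotientGroup.induction_on with
      | H s =>
        rw [hF, hf, hmem, hmemt]
        constructor
        · exact hP s
        · rintro (h | h)
          · exact hVP h
          · have h3 := P.mul_mem htP (hVP h)
            rwa [← mul_assoc, htt, one_mul] at h3)
    (fun q => by
      induction q using QuotientGroup.induction_on with
      | H s =>
        rw [← QuotientGroup.mk_mul]
        intro h
        rw [hmemt] at h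
        refine nosq s s.2 _ h ?_
        change (s : G) * s = t * (t * (s * s))
        rw [← mul_assoc, htt, one_mul])
  -- the subgroup of index 2 of `S`
  set M := K.comap (QuotientGroup.mk' V') with hM
  have hMi : M.index = 2 := by
    rw [hM, Subgroup.index_comap_of_surjective _ (QuotientGroup.mk'_surjective V'), hK]
  have hVM : ∀ v (hv : v ∈ V), (⟨v, hVS hv⟩ : (S : Subgroup G)) ∈ M := by
    intro v hv
    rw [hM, Subgroup.mem_comap]
    have : (QuotientGroup.mk' V') (⟨v, hVS hv⟩ : (S : Subgroup G)) = 1 := (hmem _).2 hv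
    rw [this]
    exact K.one_mem
  rcases Cfsg.Agent.Transfer.ThompsonTransfer.thompson_transfer S (M.map (S : Subgroup G).subtype)
    (Subgroup.map_subtype_le M) (by
      rw [Subgroup.relIndex, Subgroup.subgroupOf, Subgroup.comap_map_eq_self_of_injective
        (Subgroup.subtype_injective _)]
      exact hMi) t (by rw [pow_two]; exact htt) with ⟨L, -, hL, -⟩ | ⟨g, m, hm, hmg⟩
  · exact hidx L hL
  · have hmg' : (m : G) = g * t * g⁻¹ := hmg
    obtain ⟨v, hv, hsv⟩ := fus m m.2 (isConj_iff.2 ⟨g, hmg'.symm⟩)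
    apply htK
    have h3 : (⟨t, htS⟩ : (S : Subgroup G)) = m * (⟨v, hVS hv⟩ : (S : Subgroup G))⁻¹ := by
      apply Subtype.ext
      change t = (m : G) * v⁻¹
      rw [hsv, mul_inv_cancel_right]
    have h4 : (⟨t, htS⟩ : (S : Subgroup G)) ∈ M := by
      rw [h3]
      exact M.mul_mem hm (M.inv_mem (hVM v hv))
    exact h4

end Cfsg.Agent.GH.ENoD8
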