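import Cfsg.Agent.GH.ETower
import Cfsg.Agent.GH.ENoD8

/-!
# GH-E: the exotic case is impossible
-/

set_option autoImplicit false

namespace Cfsg.Agent.GH.E

variable {G : Type*} [Group G] {x h : G} {E U P : Subgroup G} {k : ℕ}

theorem Exotic.false [Finite G] (hidx : ∀ K : Subgroup G, K.index ≠ 2) (B : Base x E)
    (Z : Exotic x E U P h) : False := by
  obtain ⟨S, hS⟩ := Z.top.sylow B Z.level Z.conj
  have hSP : ∀ s : G, s ∈ (S : Subgroup G) ↔ s ∈ P := fun s => by rw [hS]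
  have hPE : ∀ p ∈ P, ∀ e ∈ E, p * e * p⁻¹ ∈ E := fun p hp e he =>
    Z.level.E_of_U B (Z.top.normU p (Z.top.norm hp)) he
  have hSN : (S : Subgroup G) ≤ Subgroup.normalizer (E : Set G) := by
    intro s hs
    have hsP := (hSP s).1 hs
    rw [Subgroup.mem_normalizer_iff]
    intro g
    refine ⟨hPE s hsP g, fun hg => ?_⟩
    have h1 := hPE s⁻¹ (P.inv_mem hsP) _ hg
    have h2 : s⁻¹ * (s * g * s⁻¹) * s⁻¹⁻¹ = g := by group
    rwa [h2] at h1
  have hUP : U ≤ P := (le_rr x U).trans Z.top.le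
  have hxP : x ∈ P := Z.top.le (self_mem_rr x U)
  have hnU : ∀ s ∈ P, ∀ v ∈ U, s * v * s⁻¹ ∈ U := fun s hs v hv => Z.top.normU s (Z.top.norm hs) v hv
  have hdd : ∀ s ∈ P, x * (s * x * s⁻¹) ∈ U := fun s hs => Z.level.dd_mem B Z.top.normU (Z.top.norm hs)
  refine ENoD8.no_d8 hidx S U (rr x U) x B.hx (Z.level.x_notMem B) (self_mem_rr x U) (le_rr x U)
    (by rw [hS]; exact Z.top.le) (fun s hs v hv => hnU s ((hSP s).1 hs) v hv)
    (fun g hg => (Z.level.mem_rr B).1 hg) ?_ ?_ (W := E) B.card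
    (fun w => Subtype.ext (B.sq w w.2))
    ((E.normalizerMonoidHom).comp (Subgroup.inclusion hSN)) ?_ ?_ ?_
  · rw [hS]; exact Z.top.card
  · intro s hs
    have hsP := (hSP s).1 hs
    -- s x s⁻¹ x⁻¹ = x (x s x s⁻¹) x⁻¹
    have h1 : s * x * s⁻¹ * x⁻¹ = x * (x * (s * x * s⁻¹)) * x⁻¹ := by
      rw [← mul_assoc x x, B.hx, one_mul]
    rw [h1]
    exact hnU x hxP _ (hdd s hsP)
  · intro s
    have hsP := (hSP s).1 s.2
    constructor
    · intro hs
      apply Z.faithful s hsP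
      intro e he
      have h1 := DFunLike.congr_fun hs ⟨e, he⟩
      have h2 := congrArg Subtype.val h1
      have h3 : (s : G) * e * (s : G)⁻¹ = e := h2
      rwa [mul_inv_eq_iff_eq_mul] at h3
    · intro hs
      ext e
      show (s : G) * e * (s : G)⁻¹ = e
      have h1 := Z.level.E_comm B e.2 hs
      rw [← h1, mul_inv_cancel_right]
  · intro s hs v hv hc
    obtain ⟨p0, _, hpu⟩ := Z.top.trans v hv
    rw [← hpu] at hc
    exact B.not_sq (IsPGroup.exists_pow Z.top.pgroup ((hSP s).1 hs)) p0 hc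
  · intro s hs hxs
    obtain ⟨g, hg⟩ := isConj_iff.1 hxs
    have h1 := Z.conj g (by rw [hg]; exact (hSP s).1 hs)
    rw [hg] at h1
    exact ⟨x * s, h1, by rw [← mul_assoc, B.hx, one_mul]⟩

/-- The tower without exotic hypothesis. -/
theorem false_of_start' [Finite G] (hidx : ∀ K : Subgroup G, K.index ≠ 2)
    (hr : Cfsg.SectionalPRankLE 2 4 G) (B : Base x E) (L : Level x E E h) (hN : NormU x E) {g : G}
    (hg : g ∈ Subgroup.normalizer (rr x E : Set G)) (hgE : ∀ e ∈ E, g * e = e * g)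
    (hg1 : g * x * g⁻¹ ≠ x) : False :=
  false_of_start hidx hr B (fun _ _ _ Z => Z.false hidx B) L hN hg hgE hg1

/-- The final theorem, given the analysis of level one. -/
theorem isolated_of_levelOne [Finite G] (hidx : ∀ K : Subgroup G, K.index ≠ 2)
    (hr : Cfsg.SectionalPRankLE 2 4 G) (B : Base x E) (L : Level x E E h)
    (hone : Isolated x ∨ (NormU x E ∧ (∀ a ∈ E, ¬ IsConj x a) ∧
      ∀ a ∈ E, ∃ r ∈ Subgroup.normalizer (rr x E : Set G), (∀ b ∈ E, r * b = b * r) ∧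
        r * x * r⁻¹ = x * a)) : Isolated x := by
  rcases hone with h1 | ⟨hN, _, h2⟩
  · exact h1
  · exfalso
    obtain ⟨a, ha, ha1⟩ := B.exists_ne_one
    obtain ⟨r, hr1, hr2, hr3⟩ := h2 a ha
    refine false_of_start' hidx hr B L hN hr1 hr2 ?_
    rw [hr3]
    intro hc
    exact ha1 (mul_eq_left.1 hc)

end Cfsg.Agent.GH.E
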