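import Cfsg.Agent.S0215
import Cfsg.Agent.Lib.CoprimeAbelian


/-!
# GH-E, frame: abelian Sylow 2-subgroups and normal simple subgroups

`W` finite, `X` a normal simple subgroup with `C_W(X) = 1`.
* `le_of_abelian`: if `W/X` is abelian and a Sylow 2-subgroup `P` of `W` is abelian then `P ≤ X` (Z* and transfer).
-/

set_option autoImplicit false

open Subgroup

namespace Cfsg.Agent.GH.EFrameAb

variable {W : Type*} [Group W]

/-- The automizer of an abelian Sylow `2`-subgroup has odd order. -/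
theorem odd_card_range [Finite W] (P : Sylow 2 W) (hP : ∀ a ∈ P, ∀ b ∈ P, a * b = b * a) :
    Odd (Nat.card (Subgroup.normalizerMonoidHom (P : Subgroup W)).range) := by
  have h1 : (P : Subgroup W).subgroupOf (normalizer ((P : Subgroup W) : Set W)) ≤
      (Subgroup.normalizerMonoidHom (P : Subgroup W)).ker := by
    intro n hn
    rw [MonoidHom.mem_ker]
    apply MulEquiv.ext
    intro e
    apply Subtype.ext
    have hnT : (n : W) ∈ (P : Subgroup W) := mem_subgroupOf.1 hn
    show (n : W) * e * (n : W)⁻¹ = e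
    rw [hP n hnT e e.2]
    group
  have h2 : Nat.card (Subgroup.normalizerMonoidHom (P : Subgroup W)).range =
      (Subgroup.normalizerMonoidHom (P : Subgroup W)).ker.index := by
    rw [Subgroup.index_ker]
  rw [h2]
  have h5 : (P : Subgroup W).relIndex (normalizer ((P : Subgroup W) : Set W)) ∣ (P : Subgroup W).index :=
    relIndex_dvd_index_of_le le_normalizer
  have h6 : Odd (P : Subgroup W).index := by
    rw [← Nat.not_even_iff_odd, even_iff_two_dvd]
    exact P.not_dvd_index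
  exact Odd.of_dvd_nat (Odd.of_dvd_nat h6 h5) (index_dvd_of_le h1)

/-- If `W/X` is abelian and the abelian Sylow 2-subgroup `P` is not in `X` then some involution of `P` is central
in `N(P)`. -/
theorem exists_central [Finite W] {X : Subgroup W} (hX : ∀ a b : W, a * b * a⁻¹ * b⁻¹ ∈ X) (P : Sylow 2 W)
    (hP : ∀ a ∈ P, ∀ b ∈ P, a * b = b * a) {p : W} (hp : p ∈ P) (hpX : p ∉ X) :
    ∃ u ∈ P, orderOf u = 2 ∧ ∀ n ∈ normalizer ((P : Subgroup W) : Set W), n * u = u * n := by
  have : Fact (Nat.Prime 2) := ⟨Nat.prime_two⟩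
  let _ : CommGroup (P : Subgroup W) := { (inferInstance : Group (P : Subgroup W)) with
    mul_comm := fun a b => Subtype.ext (hP a a.2 b b.2) }
  obtain ⟨k, hk⟩ := (IsPGroup.iff_card (p := 2) (G := (P : Subgroup W))).1 P.2
  have hcop : (Nat.card (Subgroup.normalizerMonoidHom (P : Subgroup W)).range).Coprime
      (Nat.card (P : Subgroup W)) := by
    rw [hk]
    exact Nat.Coprime.pow_right k (Nat.coprime_two_right.2 (odd_card_range P hP))
  obtain ⟨c, w, hc, hw, hcw⟩ := Cfsg.Agent.Lib.CoprimeAbelian.exists_fixed_mul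
    (Subgroup.normalizerMonoidHom (P : Subgroup W)).range.subtype hcop ⟨p, hp⟩
  have hcN : ∀ n ∈ normalizer ((P : Subgroup W) : Set W), n * (c : W) = c * n := by
    intro n hn
    have h1 := hc ⟨_, ⟨⟨n, hn⟩, rfl⟩⟩
    have h2 : n * (c : W) * n⁻¹ = c := congrArg Subtype.val h1
    calc n * (c : W) = n * (c : W) * n⁻¹ * n := by group
      _ = c * n := by rw [h2]
  have hwX : (w : W) ∈ X := by
    have h1 : Subgroup.closure {w : (P : Subgroup W) | ∃ a u,
        w = (Subgroup.normalizerMonoidHom (P : Subgroup W)).range.subtype a u * u⁻¹} ≤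
        X.comap (P : Subgroup W).subtype := by
      rw [Subgroup.closure_le]
      rintro w ⟨⟨a, ⟨n, rfl⟩⟩, u, rfl⟩
      exact hX n u
    exact h1 hw
  have hcX : (c : W) ∉ X := by
    intro h
    apply hpX
    have h1 : (c : W) * (w : W) = p := congrArg Subtype.val hcw
    rw [← h1]
    exact X.mul_mem h hwX
  have hc1 : (c : W) ≠ 1 := fun h => hcX (by rw [h]; exact X.one_mem)
  obtain ⟨m, hm⟩ := (IsPGroup.iff_orderOf (p := 2)).1 P.2 c
  have hm' : orderOf (c : W) = 2 ^ m := by rw [Subgroup.orderOf_coe]; exact hm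
  obtain ⟨j, rfl⟩ : ∃ j, m = j + 1 := by
    cases m with
    | zero =>
      exfalso
      apply hc1
      rw [pow_zero, orderOf_eq_one_iff] at hm'
      exact hm'
    | succ j => exact ⟨j, rfl⟩
  refine ⟨(c : W) ^ 2 ^ j, pow_mem c.2 _, ?_, ?_⟩
  · rw [orderOf_pow_of_dvd (by positivity) (by rw [hm']; exact pow_dvd_pow 2 (Nat.le_succ j)), hm', pow_succ,
      Nat.mul_div_cancel_left _ (by positivity)]
  · intro n hn
    exact (show Commute n (c : W) from hcN n hn).pow_right _

/-- **Abelian Sylow 2-subgroups**: `X ⊴ W` simple with `C_W(X) = 1`, `W/X` abelian. -/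
theorem le_of_abelian [Finite W] {X : Subgroup W} (hXn : X.Normal) (hodd : ∀ N : Subgroup W, N.Normal →
    Odd (Nat.card N) → N ⊓ X = ⊥) (hcen : ∀ w : W, (∀ x ∈ X, w * x = x * w) → w = 1)
    (hX : ∀ a b : W, a * b * a⁻¹ * b⁻¹ ∈ X) (P : Sylow 2 W)
    (hP : ∀ a ∈ P, ∀ b ∈ P, a * b = b * a) : (P : Subgroup W) ≤ X := by
  have : Fact (Nat.Prime 2) := ⟨Nat.prime_two⟩
  intro p hp
  by_contra hpX
  obtain ⟨u, huP, hu, huN⟩ := exists_central hX P hP hp hpX
  have hiso : ∀ g : W, g * u * g⁻¹ ∈ P → g * u * g⁻¹ = u := by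
    intro g hg
    have hcomm : IsMulCommutative (P : Subgroup W) := ⟨⟨fun a b => Subtype.ext (hP a a.2 b b.2)⟩⟩
    have h0 : g * u * g⁻¹ = g⁻¹⁻¹ * u * g⁻¹ := by rw [inv_inv]
    obtain ⟨n, hn, h1⟩ := Sylow.conj_eq_normalizer_conj_of_mem P u g⁻¹ huP (by rw [← h0]; exact hg)
    rw [h0, h1]
    have h2 : n * u = u * n := huN n hn
    rw [mul_assoc, ← h2]
    group
  obtain ⟨N, hN, hNodd, hNu⟩ := Cfsg.Agent.S0215.result P u hu huP hiso
  have h1 : u = 1 := by
    apply hcen
    intro x hx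
    have h2 : u * x * u⁻¹ * x⁻¹ ∈ N ⊓ X := by
      refine ⟨hNu x, ?_⟩
      exact X.mul_mem (hXn.conj_mem x hx u) (X.inv_mem hx)
    rw [hodd N hN hNodd, mem_bot] at h2
    calc u * x = (u * x * u⁻¹ * x⁻¹) * (x * u) := by group
      _ = x * u := by rw [h2, one_mul]
  rw [h1, orderOf_one] at hu
  norm_num at hu

end Cfsg.Agent.GH.EFrameAb
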