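import Mathlib
import Cfsg.Agent.Lib.ElemAbGL

/-!
# GH-E, frame: odd groups of automorphisms of `E8`

`V` elementary abelian of order 8, `B ≤ Aut(V)` of odd order without nontrivial fixed points.  Then `B` has order
7 or 21, an element of order 7 is transitive on `V#`, and a 2-element of `Aut(V)` normalising `B` is trivial.
-/

set_option autoImplicit false

open Subgroup

namespace Cfsg.Agent.GH.EFrameAct

variable {V : Type*} [CommGroup V]

/-- The automorphism group of an elementary abelian group of order 8 has order 168. -/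
theorem card_mulAut_eight (hpow : ∀ x : V, x ^ 2 = 1) (hc : Nat.card V = 8) : Nat.card (MulAut V) = 168 := by
  have : Fact (Nat.Prime 2) := ⟨Nat.prime_two⟩
  obtain ⟨e⟩ := Cfsg.Agent.Lib.ElemAbGL.mulAut_equiv_GL (V := V) 2 3 hpow (by rw [hc]; rfl)
  rw [Nat.card_congr e.toEquiv, Matrix.card_GL_field]
  simp [Fin.prod_univ_succ]

/-- The order of `B`. -/
theorem card_of_fixedPointFree (hsq : ∀ v : V, v ^ 2 = 1) (hc : Nat.card V = 8) (B : Subgroup (MulAut V))
    (hodd : Odd (Nat.card B)) (hfix : ∀ v : V, (∀ b ∈ B, b v = v) → v = 1) :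
    7 ∣ Nat.card B ∧ Nat.card B ∣ 21 := by
  have hc168 : Nat.card (MulAut V) = 168 := card_mulAut_eight hsq hc
  have hfin : Finite V := Nat.finite_of_card_ne_zero (by rw [hc]; norm_num)
  have hAdvd : Nat.card B ∣ 168 := hc168 ▸ B.card_subgroup_dvd_card
  have h21 : Nat.card B ∣ 21 := by
    have h2 : (Nat.card B).Coprime (2 ^ 3) := Nat.Coprime.pow_right 3 (Nat.coprime_two_right.mpr hodd)
    rw [show (168 : ℕ) = 2 ^ 3 * 21 by norm_num] at hAdvd
    exact h2.dvd_of_dvd_mul_left hAdvd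
  refine ⟨?_, h21⟩
  by_contra h7
  have h3 : Nat.card B ∣ 3 := by
    have h2 : (Nat.card B).Coprime 7 := ((Nat.Prime.coprime_iff_not_dvd (by norm_num)).2 h7).symm
    rw [show (21 : ℕ) = 7 * 3 by norm_num] at h21
    exact h2.dvd_of_dvd_mul_left h21
  have hp3 : IsPGroup 3 B := by
    rcases (Nat.dvd_prime Nat.prime_three).1 h3 with h | h
    · exact IsPGroup.of_card (n := 0) (by rw [h]; rfl)
    · exact IsPGroup.of_card (n := 1) (by rw [h]; rfl)
  have : Fact (Nat.Prime 3) := ⟨Nat.prime_three⟩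
  have hmod := hp3.card_modEq_card_fixedPoints V
  rw [hc] at hmod
  have h1 : Nat.card (MulAction.fixedPoints B V) ≠ 1 := by
    intro h
    rw [h] at hmod
    revert hmod
    decide
  have hone : (1 : V) ∈ MulAction.fixedPoints B V := by
    intro a
    exact map_one (a : MulAut V)
  obtain ⟨x, hx, hx1⟩ : ∃ x ∈ MulAction.fixedPoints B V, x ≠ 1 := by
    by_contra hcon
    push Not at hcon
    apply h1
    rw [Nat.card_eq_one_iff_unique]
    refine ⟨⟨fun a b => Subtype.ext ((hcon a a.2).trans (hcon b b.2).symm)⟩, ⟨⟨1, hone⟩⟩⟩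
  exact hx1 (hfix x fun b hb => hx ⟨b, hb⟩)

/-- An automorphism of order 7 has no nontrivial fixed point. -/
theorem eq_one_of_fixed (hc : Nat.card V = 8) {ρ : MulAut V} (hρ : orderOf ρ = 7) {v : V} (hv : ρ v = v) :
    v = 1 := by
  by_contra hv1
  have hfin : Finite V := Nat.finite_of_card_ne_zero (by rw [hc]; norm_num)
  have : Fact (Nat.Prime 7) := ⟨by norm_num⟩
  have hp : IsPGroup 7 (zpowers ρ) := IsPGroup.of_card (n := 1) (by rw [Nat.card_zpowers, hρ]; rfl)
  have hmod := hp.card_modEq_card_fixedPoints V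
  rw [hc] at hmod
  have hone : (1 : V) ∈ MulAction.fixedPoints (zpowers ρ) V := by
    intro a
    exact map_one (a : MulAut V)
  have hvf : v ∈ MulAction.fixedPoints (zpowers ρ) V := by
    rintro ⟨a, n, rfl⟩
    show (ρ ^ n) v = v
    have h1 : ρ ∈ MulAction.stabilizer (MulAut V) v := hv
    exact (MulAction.stabilizer (MulAut V) v).zpow_mem h1 n
  have hle : Nat.card (MulAction.fixedPoints (zpowers ρ) V) ≤ 8 := by
    rw [← hc]; exact Nat.card_le_card_of_injective Subtype.val Subtype.val_injective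
  have hne : 1 < Nat.card (MulAction.fixedPoints (zpowers ρ) V) := by
    rw [Finite.one_lt_card_iff_nontrivial]
    exact ⟨⟨1, hone⟩, ⟨v, hvf⟩, fun h => hv1 (congrArg Subtype.val h).symm⟩
  have h8 : Nat.card (MulAction.fixedPoints (zpowers ρ) V) = 8 := by
    have h1 : 8 % 7 = Nat.card (MulAction.fixedPoints (zpowers ρ) V) % 7 := hmod
    omega
  have hall : ∀ w : V, w ∈ MulAction.fixedPoints (zpowers ρ) V := by
    intro w
    have h1 : Function.Surjective (Subtype.val : MulAction.fixedPoints (zpowers ρ) V → V) :=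
      ((Nat.bijective_iff_injective_and_card _).2 ⟨Subtype.val_injective, by rw [h8, hc]⟩).2
    obtain ⟨w', rfl⟩ := h1 w
    exact w'.2
  have h1 : ρ = 1 := by
    apply MulEquiv.ext
    intro w
    exact hall w ⟨ρ, mem_zpowers ρ⟩
  rw [h1, orderOf_one] at hρ
  norm_num at hρ

/-- An automorphism of order 7 is transitive on `V#`. -/
theorem exists_pow (hc : Nat.card V = 8) {ρ : MulAut V} (hρ : orderOf ρ = 7) {a b : V} (ha : a ≠ 1)
    (hb : b ≠ 1) : ∃ n : ℕ, (ρ ^ n) a = b := by
  classical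
  have hfin : Finite V := Nat.finite_of_card_ne_zero (by rw [hc]; norm_num)
  -- the seven elements `ρ ^ i a` are distinct
  let f : Fin 7 → {v : V // v ≠ 1} := fun i => ⟨(ρ ^ (i : ℕ)) a, fun h => ha ((ρ ^ (i : ℕ)).injective (by
    rw [h, map_one]))⟩
  have key : ∀ i j : Fin 7, i < j → (ρ ^ (i : ℕ)) a ≠ (ρ ^ (j : ℕ)) a := by
    intro i j hij h
    have h1 : (ρ ^ ((j : ℕ) - i)) a = a := by
      apply (ρ ^ (i : ℕ)).injective
      rw [← MulAut.mul_apply, ← pow_add, Nat.add_sub_cancel' (le_of_lt hij), ← h]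
    have h2 : (Nat.Coprime 7 ((j : ℕ) - i)) := by
      rw [Nat.Prime.coprime_iff_not_dvd (by norm_num)]
      intro h3
      have h4 := Nat.le_of_dvd (by have : (i : ℕ) < j := hij; omega) h3
      have := j.2
      omega
    have h3 : orderOf (ρ ^ ((j : ℕ) - i)) = 7 := by
      rw [Nat.Coprime.orderOf_pow (by rw [hρ]; exact h2), hρ]
    exact ha (eq_one_of_fixed hc h3 h1)
  have hinj : Function.Injective f := by
    intro i j hij
    have h1 : (ρ ^ (i : ℕ)) a = (ρ ^ (j : ℕ)) a := congrArg Subtype.val hij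
    rcases lt_trichotomy i j with h | h | h
    · exact absurd h1 (key i j h)
    · exact h
    · exact absurd h1.symm (key j i h)
  have hcard : Nat.card {v : V // v ≠ 1} = 7 := by
    have := Fintype.ofFinite V
    rw [Nat.card_eq_fintype_card, Fintype.card_subtype_compl, ← Nat.card_eq_fintype_card, hc]
    simp
  have hsurj : Function.Surjective f :=
    ((Nat.bijective_iff_injective_and_card f).2 ⟨hinj, by rw [hcard]; simp⟩).2
  obtain ⟨i, hi⟩ := hsurj ⟨b, hb⟩
  exact ⟨i, congrArg Subtype.val hi⟩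

/-- The group generated by an element of order 7 is normal. -/
theorem conj_mem_zpowers {B : Subgroup (MulAut V)} (h21 : Nat.card B ∣ 21) {ρ σ : MulAut V} (hρB : ρ ∈ B)
    (hσB : σ ∈ B) (hρ : orderOf ρ = 7) (hσ : orderOf σ = 7) : σ ∈ zpowers ρ := by
  have : Fact (Nat.Prime 7) := ⟨by norm_num⟩
  have hfin : Finite B := Nat.finite_of_card_ne_zero (fun h => by rw [h] at h21; omega)
  have hfac : ∀ τ : MulAut V, ∀ hτ : τ ∈ B, orderOf τ = 7 →
      Nat.card (zpowers (⟨τ, hτ⟩ : B)) = 7 ^ (Nat.card B).factorization 7 := by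
    intro τ hτ h7
    have h1 : Nat.card (zpowers (⟨τ, hτ⟩ : B)) = 7 := by
      rw [Nat.card_zpowers, Subgroup.orderOf_mk, h7]
    have h2 : 7 ∣ Nat.card B := h1 ▸ Subgroup.card_subgroup_dvd_card _
    have h3 : (Nat.card B).factorization 7 = 1 := by
      have h0 : Nat.card B ≠ 0 := Nat.card_pos.ne'
      apply le_antisymm
      · by_contra hlt
        have h4 : 7 ^ 2 ∣ Nat.card B := (Nat.Prime.pow_dvd_iff_le_factorization (by norm_num) h0).2 (by omega)
        have h5 := h4.trans h21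
        norm_num at h5
      · exact (Nat.Prime.dvd_iff_one_le_factorization (by norm_num) h0).1 h2
    rw [h1, h3, pow_one]
  let P : Sylow 7 B := Sylow.ofCard _ (hfac ρ hρB hρ)
  let Q : Sylow 7 B := Sylow.ofCard _ (hfac σ hσB hσ)
  have hidx : (P : Subgroup B).index ∣ 3 := by
    have h1 := (P : Subgroup B).card_mul_index
    have h2 : Nat.card (P : Subgroup B) = 7 := by
      show Nat.card (zpowers (⟨ρ, hρB⟩ : B)) = 7
      rw [Nat.card_zpowers, Subgroup.orderOf_mk, hρ]
    rw [h2] at h1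
    rw [← h1, show (21 : ℕ) = 7 * 3 by norm_num] at h21
    exact (Nat.mul_dvd_mul_iff_left (by norm_num)).1 h21
  have hn : Nat.card (Sylow 7 B) = 1 := by
    have h1 := (Sylow.card_dvd_index P).trans hidx
    have h2 := card_sylow_modEq_one 7 B
    have h3 := Nat.le_of_dvd (by norm_num) h1
    have h4 : Nat.card (Sylow 7 B) % 7 = 1 % 7 := h2
    omega
  have hsub : Subsingleton (Sylow 7 B) := (Nat.card_eq_one_iff_unique.1 hn).1
  have hPQ : P = Q := Subsingleton.elim _ _
  have h1 : (⟨σ, hσB⟩ : B) ∈ (P : Subgroup B) := by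
    rw [hPQ]
    exact mem_zpowers _
  obtain ⟨n, hn⟩ := mem_zpowers_iff.1 (show (⟨σ, hσB⟩ : B) ∈ zpowers (⟨ρ, hρB⟩ : B) from h1)
  exact mem_zpowers_iff.2 ⟨n, by simpa using congrArg Subtype.val hn⟩

/-- An involutory automorphism of `E8` has at least three fixed points. -/
theorem three_le_fixed (hsq : ∀ v : V, v ^ 2 = 1) (hc : Nat.card V = 8) {τ : MulAut V} (hτ : τ * τ = 1) :
    ∃ a b : V, a ≠ 1 ∧ b ≠ 1 ∧ a ≠ b ∧ τ a = a ∧ τ b = b := by
  have hfin : Finite V := Nat.finite_of_card_ne_zero (by rw [hc]; norm_num)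
  have hττ : ∀ v, τ (τ v) = v := fun v => by rw [← MulAut.mul_apply, hτ, MulAut.one_apply]
  have hinv : ∀ v : V, v⁻¹ = v := fun v => by
    rw [inv_eq_iff_mul_eq_one, ← pow_two, hsq]
  let g : V →* V := MonoidHom.mk' (fun v => v * τ v) (fun a b => by
    rw [map_mul]; exact mul_mul_mul_comm _ _ _ _)
  let F : Subgroup V :=
    { carrier := {v | τ v = v}
      one_mem' := map_one _
      mul_mem' := fun {a b} ha hb => by
        show τ (a * b) = a * b
        rw [map_mul, show τ a = a from ha, show τ b = b from hb]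
      inv_mem' := fun {a} ha => by
        show τ a⁻¹ = a⁻¹
        rw [map_inv, show τ a = a from ha] }
  have h1 : g.range ≤ F := by
    rintro _ ⟨v, rfl⟩
    show τ (v * τ v) = v * τ v
    rw [map_mul, hττ, mul_comm]
  have h2 : g.ker ≤ F := by
    intro v hv
    have h3 : v * τ v = 1 := hv
    show τ v = v
    rw [← hinv (τ v)]
    exact (mul_eq_one_iff_eq_inv.1 h3).symm
  have h3 : Nat.card g.ker * Nat.card g.range = 8 := by
    rw [← hc, ← Subgroup.index_ker, Subgroup.card_mul_index]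
  have h4 : 8 ≤ Nat.card F * Nat.card F := by
    rw [← h3]
    exact Nat.mul_le_mul (Subgroup.card_le_of_le h2) (Subgroup.card_le_of_le h1)
  have h5 : 2 < Nat.card F := by
    by_contra hlt
    have h6 : Nat.card F ≤ 2 := by omega
    have := Nat.mul_le_mul h6 h6
    omega
  have := Fintype.ofFinite F
  rw [Nat.card_eq_fintype_card, Fintype.two_lt_card_iff] at h5
  obtain ⟨a, b, c, hab, hac, hbc⟩ := h5
  have hv : ∀ a b : F, a ≠ b → (a : V) ≠ b := fun a b h h' => h (Subtype.ext h')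
  by_cases ha : (a : V) = 1
  · refine ⟨b, c, ?_, ?_, hv _ _ hbc, b.2, c.2⟩
    · rw [← ha]; exact (hv _ _ hab).symm
    · rw [← ha]; exact (hv _ _ hac).symm
  · by_cases hb : (b : V) = 1
    · refine ⟨a, c, ha, ?_, hv _ _ hac, a.2, c.2⟩
      rw [← hb]; exact (hv _ _ hbc).symm
    · exact ⟨a, b, ha, hb, hv _ _ hab, a.2, b.2⟩

/-- A 2-element of `Aut(V)` normalising `B` is trivial. -/
theorem eq_one_of_normalizes (hsq : ∀ v : V, v ^ 2 = 1) (hc : Nat.card V = 8) (B : Subgroup (MulAut V))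
    (hodd : Odd (Nat.card B)) (hfix : ∀ v : V, (∀ b ∈ B, b v = v) → v = 1) {τ : MulAut V}
    (hτB : ∀ b ∈ B, τ * b * τ⁻¹ ∈ B) (h2 : ∃ n : ℕ, τ ^ 2 ^ n = 1) : τ = 1 := by
  obtain ⟨h7, h21⟩ := card_of_fixedPointFree hsq hc B hodd hfix
  have hfin : Finite V := Nat.finite_of_card_ne_zero (by rw [hc]; norm_num)
  have : Fact (Nat.Prime 7) := ⟨by norm_num⟩
  obtain ⟨ρ', hρ'⟩ := exists_prime_orderOf_dvd_card' (G := B) 7 h7
  obtain ⟨ρ, hρB⟩ := ρ'
  rw [Subgroup.orderOf_mk] at hρ'
  -- the involution case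
  have key : ∀ τ : MulAut V, (∀ b ∈ B, τ * b * τ⁻¹ ∈ B) → τ * τ = 1 → τ = 1 := by
    intro τ hτB hττ
    have h1 : orderOf (τ * ρ * τ⁻¹) = 7 := by
      have := (MulAut.conj τ).orderOf_eq ρ
      rw [MulAut.conj_apply] at this
      rw [this, hρ']
    obtain ⟨k, hk⟩ := mem_zpowers_iff.1 (conj_mem_zpowers h21 hρB (hτB ρ hρB) hρ' h1)
    have hτi : τ⁻¹ = τ := inv_eq_iff_mul_eq_one.2 hττ
    have h3 : ρ ^ (k * k) = ρ := by
      rw [zpow_mul, hk]
      have h4 : (τ * ρ * τ⁻¹) ^ k = τ * ρ ^ k * τ⁻¹ := conj_zpow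
      rw [h4, hk, hτi]
      calc τ * (τ * ρ * τ) * τ = (τ * τ) * ρ * (τ * τ) := by group
        _ = ρ := by rw [hττ, one_mul, mul_one]
    have h4 : (7 : ℤ) ∣ k * k - 1 := by
      have h5 : ρ ^ (k * k - 1) = 1 := by rw [zpow_sub, h3, zpow_one, mul_inv_cancel]
      have := orderOf_dvd_iff_zpow_eq_one.2 h5
      rw [hρ'] at this
      exact_mod_cast this
    have h5 : (7 : ℤ) ∣ (k - 1) ∨ (7 : ℤ) ∣ (k + 1) := by
      have h6 : (7 : ℤ) ∣ (k - 1) * (k + 1) := by
        have : (k - 1) * (k + 1) = k * k - 1 := by ring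
        rwa [this]
      exact (Int.prime_iff_natAbs_prime.2 (by norm_num)).dvd_or_dvd h6
    obtain ⟨a, b, ha, hb, hab, hτa, hτb⟩ := three_le_fixed hsq hc hττ
    have hzero : ∀ m : ℤ, (7 : ℤ) ∣ m → ρ ^ m = 1 := by
      rintro m ⟨w, rfl⟩
      rw [zpow_mul]
      have : ρ ^ (7 : ℤ) = 1 := by
        have h := pow_orderOf_eq_one ρ
        rw [hρ'] at h
        exact_mod_cast h
      rw [this, one_zpow]
    rcases h5 with h5 | h5
    · -- `τ` commutes with `ρ`
      have h6 : τ * ρ * τ⁻¹ = ρ := by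
        rw [← hk]
        have : k = (k - 1) + 1 := by ring
        rw [this, zpow_add, hzero _ h5, one_mul, zpow_one]
      have h7 : ∀ n : ℕ, ∀ v : V, τ ((ρ ^ n) v) = (ρ ^ n) (τ v) := by
        intro n v
        have h8 : Commute τ ρ := mul_inv_eq_iff_eq_mul.1 h6
        have h9 : τ * ρ ^ n = ρ ^ n * τ := h8.pow_right n
        rw [← MulAut.mul_apply, h9, MulAut.mul_apply]
      apply MulEquiv.ext
      intro v
      rw [MulAut.one_apply]
      by_cases hv : v = 1
      · rw [hv, map_one]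
      · obtain ⟨n, rfl⟩ := exists_pow hc hρ' ha hv
        rw [h7, hτa]
    · -- `τ` inverts `ρ`
      exfalso
      have h6 : τ * ρ * τ⁻¹ = ρ⁻¹ := by
        rw [← hk]
        have : k = (k + 1) + (-1) := by ring
        rw [this, zpow_add, hzero _ h5, one_mul, zpow_neg_one]
      have h7 : ∀ n : ℕ, τ * ρ ^ n = (ρ⁻¹) ^ n * τ := by
        intro n
        rw [← h6, conj_pow]
        group
      obtain ⟨n, hn⟩ := exists_pow hc hρ' ha hb
      have h8 : (ρ ^ n) a = ((ρ⁻¹) ^ n) a := by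
        have h9 : τ ((ρ ^ n) a) = (ρ ^ n) a := by rw [hn, hτb]
        rw [← h9, ← MulAut.mul_apply, h7, MulAut.mul_apply, hτa]
      have h9 : (ρ ^ (n + n)) a = a := by
        rw [pow_add, MulAut.mul_apply, h8, ← MulAut.mul_apply, inv_pow, mul_inv_cancel, MulAut.one_apply]
      by_cases h10 : 7 ∣ n + n
      · have h11 : 7 ∣ n := by
          have : 7 ∣ 2 * n := by rwa [two_mul]
          exact (Nat.Coprime.dvd_of_dvd_mul_left (by norm_num) this)
        apply hab
        rw [← hn]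
        have h12 : ρ ^ n = 1 := by
          rw [← orderOf_dvd_iff_pow_eq_one, hρ']; exact h11
        rw [h12, MulAut.one_apply]
      · have h11 : orderOf (ρ ^ (n + n)) = 7 := by
          rw [Nat.Coprime.orderOf_pow, hρ']
          rw [hρ']
          exact (Nat.Prime.coprime_iff_not_dvd (by norm_num)).2 h10
        exact ha (eq_one_of_fixed hc h11 h9)
  -- the general case
  obtain ⟨n, hn⟩ := h2
  induction n with
  | zero => rwa [pow_zero, pow_one] at hn
  | succ n ih =>
    apply ih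
    apply key
    · intro b hb
      have : ∀ m : ℕ, ∀ b ∈ B, τ ^ m * b * (τ ^ m)⁻¹ ∈ B := by
        intro m
        induction m with
        | zero => intro b hb; simpa using hb
        | succ m ih' =>
          intro b hb
          have h1 := hτB _ (ih' b hb)
          have h2 : τ ^ (m + 1) * b * (τ ^ (m + 1))⁻¹ = τ * (τ ^ m * b * (τ ^ m)⁻¹) * τ⁻¹ := by
            rw [pow_succ']; group
          rwa [h2]
      exact this _ b hb
    · rw [← pow_two, ← pow_mul, ← pow_succ]
      exact hn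

end Cfsg.Agent.GH.EFrameAct
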