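import Cfsg.Agent.GH.Comp
import Cfsg.Agent.GH.L2FourOC
import Cfsg.Agent.Lib.SylowNormalInf

/-!
# GH-E, frame: the Sylow 2-subgroup of `C(x)` and a 2-component of rank 3

`K` a 2-component of `C(x)` with odd centre and `r(K/Z*(K)) ≥ 3` in a group with `Hyp`; `C = C(x)`,
`D = cenMod C K` the subgroup of the elements of `C` which fix `K / O(K)`, `T` a Sylow 2-subgroup of `C`,
`A = T ∩ K`, `Q = T ∩ D`.  Then `K` is normal in `C`, `A` is a Sylow 2-subgroup of `K`, `Q` is cyclic, `x ∈ Q`,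
`[Q, A] = 1`, `Q ∩ A = 1`; and `T = Q A` if `T ≤ K D`.
-/

set_option autoImplicit false

open Cfsg Subgroup
open scoped commutatorElement
open Cfsg.Agent.Intrinsic.Basic Cfsg.Agent.GH.Defs Cfsg.Agent.GH.Rank Cfsg.Agent.GH.Comp
open Cfsg.Agent.SignalizersComponents.IntrinsicBasic (cj mem_normalizer_iff_cj cenMod mem_cenMod cenMod_le)

namespace Cfsg.Agent.GH.EFrameGen

variable {G : Type*} [Group G] [Finite G] {x : G} {K T : Subgroup G}

/-- `K` is normal in `C(x)`. -/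
theorem mem_normalizer (h : Hyp G) (c : Comp2 x K) (hodd : ¬ EvenCenter K) (h3 : 3 ≤ srank 2 (STop K)) {g : G}
    (hg : g ∈ centralizer ({x} : Set G)) : g ∈ normalizer (K : Set G) := by
  rw [mem_normalizer_iff_cj]
  by_contra hne
  have hcj := c.comp.cj g
  have hH : cj g (centralizer ({x} : Set G)) = centralizer ({x} : Set G) := by
    rw [← mem_normalizer_iff_cj]
    exact le_normalizer hg
  rw [hH] at hcj
  have h4 := srank_add_le c.comp hodd hcj.le (fun d hd => c.comp.fixes_of_mem hcj (Ne.symm hne) hd)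
  have h5 : srank 2 (cj g K) = srank 2 K :=
    (srank_congr (by norm_num) (K.equivMapOfInjective (MulAut.conj g).toMonoidHom
      (MulAut.conj g).injective)).symm
  have h6 : srank 2 (centralizer ({x} : Set G)) ≤ 4 :=
    (srank_subgroup_le (by norm_num) _).trans ((srank_le_iff (by norm_num)).2 h.rank4)
  rw [srank_top hodd] at h3
  omega

/-- `T` is a Sylow 2-subgroup of `C(x)`. -/
structure Syl (x : G) (T : Subgroup G) : Prop where
  two : IsPGroup 2 T
  le : T ≤ centralizer ({x} : Set G)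
  idx : ¬ 2 ∣ T.relIndex (centralizer ({x} : Set G))

theorem exists_syl (x : G) : ∃ T : Subgroup G, Syl x T := by
  have : Fact (Nat.Prime 2) := ⟨Nat.prime_two⟩
  obtain ⟨P⟩ : Nonempty (Sylow 2 (centralizer ({x} : Set G))) := inferInstance
  refine ⟨(P : Subgroup _).map (centralizer ({x} : Set G)).subtype, P.isPGroup'.map _, map_subtype_le _, ?_⟩
  have h1 : ((P : Subgroup (centralizer ({x} : Set G))).map (centralizer ({x} : Set G)).subtype).relIndex
      (centralizer ({x} : Set G)) = (P : Subgroup (centralizer ({x} : Set G))).index := by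
    rw [Subgroup.relIndex, Subgroup.subgroupOf, Subgroup.comap_map_eq_self_of_injective
      (centralizer ({x} : Set G)).subtype_injective]
  rw [h1]
  exact P.not_dvd_index

namespace Syl

omit [Finite G] in
/-- `T` as a Sylow subgroup of `C(x)`. -/
theorem exists_sylow (S : Syl x T) : ∃ P : Sylow 2 (centralizer ({x} : Set G)),
    (P : Subgroup (centralizer ({x} : Set G))) = T.subgroupOf (centralizer ({x} : Set G)) := by
  have : Fact (Nat.Prime 2) := ⟨Nat.prime_two⟩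
  exact ⟨(S.two.comap_of_injective (centralizer ({x} : Set G)).subtype
    (centralizer ({x} : Set G)).subtype_injective).toSylow S.idx, rfl⟩

/-- 2-subgroups of `C(x)` have order at most `|T|`. -/
theorem card_le (S : Syl x T) {P : Subgroup G} (hP : IsPGroup 2 P) (hPx : ∀ q ∈ P, x * q = q * x) :
    Nat.card P ≤ Nat.card T := by
  have : Fact (Nat.Prime 2) := ⟨Nat.prime_two⟩
  obtain ⟨P₀, hP₀⟩ := S.exists_sylow
  have hPC : P ≤ centralizer ({x} : Set G) := fun q hq => by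
    rw [mem_centralizer_singleton_iff]; exact (hPx q hq).symm
  have h1 : IsPGroup 2 (P.subgroupOf (centralizer ({x} : Set G))) :=
    hP.comap_of_injective (centralizer ({x} : Set G)).subtype (centralizer ({x} : Set G)).subtype_injective
  obtain ⟨R, hR⟩ := h1.exists_le_sylow
  have h2 : Nat.card (P.subgroupOf (centralizer ({x} : Set G))) = Nat.card P :=
    Nat.card_congr (subgroupOfEquivOfLe hPC).toEquiv
  have h3 : Nat.card (T.subgroupOf (centralizer ({x} : Set G))) = Nat.card T :=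
    Nat.card_congr (subgroupOfEquivOfLe S.le).toEquiv
  have h4 : Nat.card (R : Subgroup (centralizer ({x} : Set G))) =
      Nat.card (P₀ : Subgroup (centralizer ({x} : Set G))) := by
    rw [Sylow.card_eq_multiplicity, Sylow.card_eq_multiplicity]
  rw [← h2, ← h3, ← hP₀, ← h4]
  exact Subgroup.card_le_of_le hR

/-- A 2-element of `C(x)` is conjugate into `T` by an element of `C(x)`. -/
theorem exists_conj (S : Syl x T) {q : G} (hq : x * q = q * x) (h2 : ∃ n : ℕ, q ^ 2 ^ n = 1) :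
    ∃ c : G, x * c = c * x ∧ c * q * c⁻¹ ∈ T := by
  have : Fact (Nat.Prime 2) := ⟨Nat.prime_two⟩
  obtain ⟨P₀, hP₀⟩ := S.exists_sylow
  have hqC : q ∈ centralizer ({x} : Set G) := by
    rw [mem_centralizer_singleton_iff]; exact hq.symm
  have hp : IsPGroup 2 (zpowers (⟨q, hqC⟩ : centralizer ({x} : Set G))) := by
    obtain ⟨n, hn⟩ := h2
    rw [IsPGroup.iff_orderOf]
    rintro ⟨w, hw⟩
    obtain ⟨j, hj⟩ := mem_zpowers_iff.1 hw
    have h1 : (⟨w, hw⟩ : zpowers (⟨q, hqC⟩ : centralizer ({x} : Set G))) ^ 2 ^ n = 1 := by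
      apply Subtype.ext
      show w ^ 2 ^ n = 1
      rw [← hj, ← zpow_natCast, ← zpow_mul, mul_comm j, zpow_mul]
      have h2 : ((⟨q, hqC⟩ : centralizer ({x} : Set G)) ^ ((2 ^ n : ℕ) : ℤ)) = 1 := by
        rw [zpow_natCast]
        exact Subtype.ext hn
      rw [h2, one_zpow]
    obtain ⟨k, -, hk⟩ := (Nat.dvd_prime_pow Nat.prime_two).1 (orderOf_dvd_of_pow_eq_one h1)
    exact ⟨k, hk⟩
  obtain ⟨R, hR⟩ := hp.exists_le_sylow
  obtain ⟨c, hc⟩ := MulAction.exists_smul_eq (centralizer ({x} : Set G)) R P₀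
  refine ⟨c, (mem_centralizer_singleton_iff.1 c.2).symm, ?_⟩
  have h1 : c * ⟨q, hqC⟩ * c⁻¹ ∈ (P₀ : Subgroup (centralizer ({x} : Set G))) := by
    rw [← hc]
    show c * ⟨q, hqC⟩ * c⁻¹ ∈ ((c • R : Sylow 2 (centralizer ({x} : Set G))) : Subgroup _)
    rw [Sylow.coe_subgroup_smul]
    exact smul_mem_pointwise_smul _ _ _ (hR (mem_zpowers _))
  rw [hP₀] at h1
  exact h1

/-- `x ∈ T`. -/
theorem x_mem (S : Syl x T) (hx : x * x = 1) : x ∈ T := by
  obtain ⟨c, hc, h⟩ := S.exists_conj (q := x) rfl ⟨1, by rw [pow_one, pow_two]; exact hx⟩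
  have h1 : c * x * c⁻¹ = x := by rw [← hc]; group
  rwa [h1] at h

end Syl

section comp

variable (h : Hyp G) (c : Comp2 x K) (hodd : ¬ EvenCenter K) (h3 : 3 ≤ srank 2 (STop K)) (S : Syl x T)

include c in
theorem mem_D_iff {a : G} (ha : a ∈ centralizer ({x} : Set G)) :
    a ∈ cenMod (centralizer ({x} : Set G)) K ↔ Fixes a K := (c.comp.fixes_iff ha).symm

include c in
theorem x_mem_D : x ∈ cenMod (centralizer ({x} : Set G)) K := by
  rw [mem_D_iff c (mem_centralizer_singleton_iff.mpr rfl)]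
  exact fixes_self c.comp.le

include h c hodd h3 in
/-- `D` is normal in `C(x)`. -/
theorem conj_mem_D {d g : G} (hd : d ∈ cenMod (centralizer ({x} : Set G)) K)
    (hg : g ∈ centralizer ({x} : Set G)) : g * d * g⁻¹ ∈ cenMod (centralizer ({x} : Set G)) K := by
  have hdC := cenMod_le _ _ hd
  rw [mem_D_iff c (mul_mem (mul_mem hg hdC) (inv_mem hg))]
  have h1 := ((mem_D_iff c hdC).1 hd).cj g
  rwa [mem_normalizer_iff_cj.1 (mem_normalizer h c hodd h3 hg)] at h1

include h c hodd h3 in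
theorem D_normal : ((cenMod (centralizer ({x} : Set G)) K).subgroupOf (centralizer ({x} : Set G))).Normal :=
  ⟨fun _ hd g => conj_mem_D h c hodd h3 hd g.2⟩

include h c hodd h3 in
theorem conj_mem_K {k g : G} (hk : k ∈ K) (hg : g ∈ centralizer ({x} : Set G)) : g * k * g⁻¹ ∈ K :=
  (mem_normalizer_iff.1 (mem_normalizer h c hodd h3 hg) k).1 hk

include h c hodd h3 in
theorem K_normal : (K.subgroupOf (centralizer ({x} : Set G))).Normal :=
  ⟨fun k hk g => conj_mem_K h c hodd h3 (k := k) hk g.2⟩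

include c hodd in
/-- The 2-elements of `K ∩ D` are trivial. -/
theorem eq_one {d : G} (hdK : d ∈ K) (hdD : d ∈ cenMod (centralizer ({x} : Set G)) K) (h2 : ∃ n : ℕ, d ^ 2 ^ n = 1) :
    d = 1 := by
  obtain ⟨n, hn⟩ := h2
  exact eq_one_of_odd c.comp hodd ((mem_D_iff c (cenMod_le _ _ hdD)).1 hdD)
    ⟨d, hdK, by rw [inv_mul_cancel]; exact one_mem _⟩ hn

include c hodd S in
theorem Q_inf_A : (T ⊓ cenMod (centralizer ({x} : Set G)) K) ⊓ (T ⊓ K) = ⊥ := by
  rw [eq_bot_iff]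
  rintro d ⟨⟨hdT, hdD⟩, -, hdK⟩
  obtain ⟨n, hn⟩ := S.two ⟨d, hdT⟩
  exact mem_bot.2 (eq_one c hodd hdK hdD ⟨n, congrArg Subtype.val hn⟩)

include h c hodd h3 S in
theorem Q_comm_A : ∀ q ∈ T ⊓ cenMod (centralizer ({x} : Set G)) K, ∀ a ∈ T ⊓ K, q * a = a * q := by
  rintro q ⟨hqT, hqD⟩ a ⟨haT, haK⟩
  have h1 : q * a * q⁻¹ * a⁻¹ ∈ (T ⊓ cenMod (centralizer ({x} : Set G)) K) ⊓ (T ⊓ K) := by
    have hT : q * a * q⁻¹ * a⁻¹ ∈ T := T.mul_mem (T.mul_mem (T.mul_mem hqT haT) (T.inv_mem hqT)) (T.inv_mem haT)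
    refine ⟨⟨hT, ?_⟩, ⟨hT, ?_⟩⟩
    · have : q * a * q⁻¹ * a⁻¹ = q * (a * q⁻¹ * a⁻¹) := by group
      rw [this]
      exact Subgroup.mul_mem _ hqD (conj_mem_D h c hodd h3 (Subgroup.inv_mem _ hqD) (S.le haT))
    · exact K.mul_mem (conj_mem_K h c hodd h3 haK (S.le hqT)) (K.inv_mem haK)
  rw [Q_inf_A c hodd S, mem_bot] at h1
  calc q * a = (q * a * q⁻¹ * a⁻¹) * (a * q) := by group
    _ = a * q := by rw [h1, one_mul]

include h c hodd h3 S in
/-- `Q` is cyclic. -/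
theorem Q_cyclic : IsCyclic (T ⊓ cenMod (centralizer ({x} : Set G)) K : Subgroup G) := by
  have h1 := srank_add_le (D := T ⊓ cenMod (centralizer ({x} : Set G)) K) c.comp hodd
    (inf_le_left.trans S.le) (fun d hd => (mem_D_iff c (S.le hd.1)).1 hd.2)
  have h2 : srank 2 (centralizer ({x} : Set G)) ≤ 4 :=
    (srank_subgroup_le (by norm_num) _).trans ((srank_le_iff (by norm_num)).2 h.rank4)
  rw [srank_top hodd] at h3
  exact L2FourOC.isCyclic_of_srank_le_one (S.two.to_le inf_le_left) (by omega)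

include h c hodd h3 S in
/-- `A = T ∩ K` is a Sylow 2-subgroup of `K`. -/
theorem exists_sylow_A : ∃ P : Sylow 2 K, (P : Subgroup K).map K.subtype = T ⊓ K := by
  have : Fact (Nat.Prime 2) := ⟨Nat.prime_two⟩
  obtain ⟨P₀, hP₀⟩ := S.exists_sylow
  have hKn := K_normal h c hodd h3
  have h1 := Lib.SylowNormalInf.not_dvd_relIndex P₀ (K.subgroupOf (centralizer ({x} : Set G)))
  rw [hP₀, relIndex_subgroupOf c.comp.le] at h1
  have h2 : ((T ⊓ K).subgroupOf K).index = T.relIndex K := by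
    rw [← inf_relIndex_right T K]; rfl
  let P : Sylow 2 K := ((S.two.to_le inf_le_left : IsPGroup 2 (T ⊓ K : Subgroup G)).comap_of_injective
    K.subtype K.subtype_injective).toSylow (by
      show ¬ 2 ∣ ((T ⊓ K).subgroupOf K).index
      rw [h2]; exact h1)
  refine ⟨P, ?_⟩
  show ((T ⊓ K).subgroupOf K).map K.subtype = T ⊓ K
  rw [subgroupOf_map_subtype, inf_assoc, inf_idem]

include h c hodd h3 S in
/-- `T = Q A` if `T ≤ K D`. -/
theorem exists_mul (hT : ∀ t ∈ T, ∃ k ∈ K, k⁻¹ * t ∈ cenMod (centralizer ({x} : Set G)) K) {t : G} (ht : t ∈ T) :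
    ∃ q ∈ T ⊓ cenMod (centralizer ({x} : Set G)) K, ∃ a ∈ T ⊓ K, t = q * a := by
  have : Fact (Nat.Prime 2) := ⟨Nat.prime_two⟩
  have hDn := D_normal h c hodd h3
  let C := centralizer ({x} : Set G)
  let D := cenMod C K
  let π : C →* C ⧸ D.subgroupOf C := QuotientGroup.mk' (D.subgroupOf C)
  let g : K →* C ⧸ D.subgroupOf C := π.comp (inclusion c.comp.le)
  obtain ⟨P, hP⟩ := exists_sylow_A h c hodd h3 S
  let P' : Sylow 2 g.range := P.mapSurjective g.rangeRestrict_surjective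
  -- the image of `T` in the range
  have hTr : ∀ t : C, (t : G) ∈ T → π t ∈ g.range := by
    intro t ht
    obtain ⟨k, hk, hkt⟩ := hT t ht
    refine ⟨⟨k, hk⟩, ?_⟩
    show π ⟨k, c.comp.le hk⟩ = π t
    exact QuotientGroup.eq.2 hkt
  let T' : Subgroup g.range := ((T.subgroupOf C).map π).subgroupOf g.range
  have hT' : IsPGroup 2 T' :=
    ((S.two.comap_of_injective C.subtype C.subtype_injective).map π).comap_of_injective _
      g.range.subtype_injective
  have hle : (P' : Subgroup g.range) ≤ T' := by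
    rintro _ ⟨k, hk, rfl⟩
    have h1 : (k : G) ∈ T ⊓ K := by rw [← hP]; exact ⟨k, hk, rfl⟩
    exact ⟨⟨k, c.comp.le k.2⟩, h1.1, rfl⟩
  have heq := P'.is_maximal' hT' hle
  have h1 : (⟨π ⟨t, S.le ht⟩, hTr _ ht⟩ : g.range) ∈ (P' : Subgroup g.range) := by
    show _ ∈ P'.toSubgroup
    rw [← heq]
    exact ⟨⟨t, S.le ht⟩, ht, rfl⟩
  obtain ⟨a, ha, hat⟩ := h1
  have haT : (a : G) ∈ T ⊓ K := by rw [← hP]; exact ⟨a, ha, rfl⟩
  have h2 : π ⟨a, c.comp.le a.2⟩ = π ⟨t, S.le ht⟩ := congrArg Subtype.val hat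
  have h3' : (⟨a, c.comp.le a.2⟩ : C)⁻¹ * ⟨t, S.le ht⟩ ∈ D.subgroupOf C :=
    (QuotientGroup.eq (s := D.subgroupOf C)).1 h2
  have hq : (a : G)⁻¹ * t ∈ T ⊓ D := ⟨T.mul_mem (T.inv_mem haT.1) ht, h3'⟩
  refine ⟨_, hq, a, haT, ?_⟩
  rw [Q_comm_A h c hodd h3 S _ hq a haT]
  group

include h c hodd h3 S in
theorem card_eq (hT : ∀ t ∈ T, ∃ k ∈ K, k⁻¹ * t ∈ cenMod (centralizer ({x} : Set G)) K) :
    Nat.card T = Nat.card (T ⊓ cenMod (centralizer ({x} : Set G)) K : Subgroup G) *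
      Nat.card (T ⊓ K : Subgroup G) := by
  rw [← Nat.card_prod]
  refine (Nat.card_congr (Equiv.ofBijective
    (fun p : (T ⊓ cenMod (centralizer ({x} : Set G)) K : Subgroup G) × (T ⊓ K : Subgroup G) =>
      (⟨(p.1 : G) * (p.2 : G), T.mul_mem p.1.2.1 p.2.2.1⟩ : T)) ⟨?_, ?_⟩)).symm
  · rintro ⟨⟨q, hq⟩, ⟨a, ha⟩⟩ ⟨⟨r, hr⟩, ⟨b, hb⟩⟩ he
    have h1 : q * a = r * b := congrArg Subtype.val he
    have h2 : r⁻¹ * q = b * a⁻¹ := by
      calc r⁻¹ * q = r⁻¹ * (q * a) * a⁻¹ := by group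
        _ = b * a⁻¹ := by rw [h1]; group
    have h5 : r⁻¹ * q ∈ (T ⊓ cenMod (centralizer ({x} : Set G)) K) ⊓ (T ⊓ K) :=
      ⟨Subgroup.mul_mem _ (Subgroup.inv_mem _ hr) hq, by
        rw [h2]; exact Subgroup.mul_mem _ hb (Subgroup.inv_mem _ ha)⟩
    rw [Q_inf_A c hodd S, mem_bot] at h5
    have h6 : q = r := by rw [inv_mul_eq_one] at h5; exact h5.symm
    have h7 : a = b := by rw [h5] at h2; exact (eq_of_mul_inv_eq_one h2.symm).symm
    subst h6; subst h7; rfl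
  · rintro ⟨t, ht⟩
    obtain ⟨q, hq, a, ha, rfl⟩ := exists_mul h c hodd h3 S hT ht
    exact ⟨(⟨q, hq⟩, ⟨a, ha⟩), rfl⟩

end comp

end Cfsg.Agent.GH.EFrameGen
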