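import Cfsg.Agent.GH.EFrameAb
import Cfsg.Agent.GH.EFrameAct
import Cfsg.Agent.Lib.SylowNormalInf
import Cfsg.Agent.Transfer.ResidualComplement

/-!
# GH-E, frame: Sylow 2-subgroups `E8`

* `exists_transitive`: `K` perfect with a Sylow 2-subgroup `T ≅ E8`: some `h ∈ N(T)` is transitive on `T#`.
* `fixes_sylow`: an automorphism of `K` of 2-power order which leaves `T` invariant fixes `T` elementwise.
* `sylow_le`: `X ⊴ W` simple, `C_W(X) = 1`, Sylow 2-subgroups of `X` are `E8`: then every Sylow 2-subgroup of `W`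
  is contained in `X`.
-/

set_option autoImplicit false

open Subgroup
open scoped commutatorElement

namespace Cfsg.Agent.GH.EFrameSyl

open Cfsg.Agent.GH.EFrameAb Cfsg.Agent.GH.EFrameAct

section perfect

variable {K : Type*} [Group K] [Finite K]

omit [Finite K] in
theorem comm_of_sq {T : Subgroup K} (hsq : ∀ t ∈ T, t * t = 1) : ∀ a ∈ T, ∀ b ∈ T, a * b = b * a := by
  intro a ha b hb
  have h1 := hsq _ (T.mul_mem ha hb)
  have h2 := hsq a ha
  have h3 := hsq b hb
  have ha' : a⁻¹ = a := inv_eq_iff_mul_eq_one.2 h2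
  have hb' : b⁻¹ = b := inv_eq_iff_mul_eq_one.2 h3
  have h4 : (a * b)⁻¹ = a * b := inv_eq_iff_mul_eq_one.2 h1
  rw [← h4, mul_inv_rev, ha', hb']

/-- No nontrivial element of `T` is central in `N(T)`. -/
theorem eq_one_of_central (hperf : commutator K = ⊤) (T : Sylow 2 K) (hsq : ∀ t ∈ (T : Subgroup K), t * t = 1)
    {z : K} (hz : z ∈ (T : Subgroup K))
    (hzc : ∀ n ∈ normalizer ((T : Subgroup K) : Set K), n * z = z * n) : z = 1 := by
  have : Fact (Nat.Prime 2) := ⟨Nat.prime_two⟩
  have hab := comm_of_sq hsq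
  have hcomm : IsMulCommutative (T : Subgroup K) := ⟨⟨fun a b => Subtype.ext (hab a a.2 b b.2)⟩⟩
  refine Cfsg.Agent.Transfer.ResidualComplement.eq_one_of_mem_center_normalizer T ?_ z hz hzc
  intro f x
  have h1 : commutator K ≤ f.ker := by
    rw [commutator_eq_closure, Subgroup.closure_le]
    rintro g ⟨a, b, rfl⟩
    rw [SetLike.mem_coe, MonoidHom.mem_ker, map_commutatorElement]
    have h2 : f a * f b = f b * f a := hcomm.is_comm.comm (f a) (f b)
    rw [commutatorElement_def, h2]; group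
  have h2 : x ∈ f.ker := h1 (by rw [hperf]; exact mem_top x)
  exact h2

/-- The automizer of `T`. -/
theorem automizer (hperf : commutator K = ⊤) (T : Sylow 2 K) (hsq : ∀ t ∈ (T : Subgroup K), t * t = 1) :
    Odd (Nat.card (normalizerMonoidHom (T : Subgroup K)).range) ∧
      ∀ v : (T : Subgroup K), (∀ b ∈ (normalizerMonoidHom (T : Subgroup K)).range, b v = v) → v = 1 := by
  refine ⟨odd_card_range T (comm_of_sq hsq), fun v hv => ?_⟩
  apply Subtype.ext
  refine eq_one_of_central hperf T hsq v.2 fun n hn => ?_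
  have h1 := hv _ ⟨⟨n, hn⟩, rfl⟩
  have h2 : n * (v : K) * n⁻¹ = v := congrArg Subtype.val h1
  calc n * (v : K) = n * (v : K) * n⁻¹ * n := by group
    _ = v * n := by rw [h2]

/-- Some element of `N(T)` is transitive on `T#`. -/
theorem exists_transitive (hperf : commutator K = ⊤) (T : Sylow 2 K) (h8 : Nat.card (T : Subgroup K) = 8)
    (hsq : ∀ t ∈ (T : Subgroup K), t * t = 1) :
    ∃ h ∈ normalizer ((T : Subgroup K) : Set K), ∀ a ∈ (T : Subgroup K), ∀ b ∈ (T : Subgroup K), a ≠ 1 →
      b ≠ 1 → ∃ n : ℕ, h ^ n * a * (h ^ n)⁻¹ = b := by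
  have : Fact (Nat.Prime 7) := ⟨by norm_num⟩
  let _ : CommGroup (T : Subgroup K) := { (inferInstance : Group (T : Subgroup K)) with
    mul_comm := fun a b => Subtype.ext (comm_of_sq hsq a a.2 b b.2) }
  have hsq' : ∀ v : (T : Subgroup K), v ^ 2 = 1 := fun v => by
    rw [pow_two]; exact Subtype.ext (hsq v v.2)
  obtain ⟨hodd, hfix⟩ := automizer hperf T hsq
  obtain ⟨h7, -⟩ := card_of_fixedPointFree hsq' h8 _ hodd hfix
  obtain ⟨ρ', hρ'⟩ := exists_prime_orderOf_dvd_card' (G := (normalizerMonoidHom (T : Subgroup K)).range) 7 h7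
  obtain ⟨n, hn⟩ := ρ'.2
  have hρ : orderOf (normalizerMonoidHom (T : Subgroup K) n) = 7 := by
    rw [hn, Subgroup.orderOf_coe]; exact hρ'
  refine ⟨n, n.2, fun a ha b hb ha1 hb1 => ?_⟩
  obtain ⟨m, hm⟩ := exists_pow h8 hρ (a := ⟨a, ha⟩) (b := ⟨b, hb⟩) (fun h => ha1 (congrArg Subtype.val h))
    (fun h => hb1 (congrArg Subtype.val h))
  refine ⟨m, ?_⟩
  rw [← map_pow] at hm
  have h1 := congrArg Subtype.val hm
  exact h1

/-- The restriction of an automorphism to an invariant subgroup. -/
noncomputable def restr (σ : MulAut K) (T : Subgroup K) (h : ∀ t ∈ T, σ t ∈ T) : MulAut T :=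
  MulEquiv.ofBijective (((σ : K →* K).comp T.subtype).codRestrict T fun t => h t t.2)
    (Finite.injective_iff_bijective.1 fun a b hab => by
      apply Subtype.ext
      exact σ.injective (congrArg Subtype.val hab))

theorem restr_apply (σ : MulAut K) (T : Subgroup K) (h : ∀ t ∈ T, σ t ∈ T) (t : T) :
    ((restr σ T h t : T) : K) = σ t := rfl

theorem restr_pow_apply (σ : MulAut K) (T : Subgroup K) (h : ∀ t ∈ T, σ t ∈ T) (n : ℕ) (t : T) :
    (((restr σ T h ^ n) t : T) : K) = (σ ^ n) t := by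
  induction n with
  | zero => simp
  | succ n ih => rw [pow_succ', pow_succ', MulAut.mul_apply, MulAut.mul_apply, restr_apply, ih]

/-- A 2-automorphism leaving `T ≅ E8` invariant fixes `T` elementwise. -/
theorem fixes_sylow (hperf : commutator K = ⊤) (T : Sylow 2 K) (h8 : Nat.card (T : Subgroup K) = 8)
    (hsq : ∀ t ∈ (T : Subgroup K), t * t = 1) (σ : MulAut K) (hσ : ∀ t ∈ (T : Subgroup K), σ t ∈ (T : Subgroup K))
    (h2 : ∃ n : ℕ, σ ^ 2 ^ n = 1) : ∀ t ∈ (T : Subgroup K), σ t = t := by
  let _ : CommGroup (T : Subgroup K) := { (inferInstance : Group (T : Subgroup K)) with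
    mul_comm := fun a b => Subtype.ext (comm_of_sq hsq a a.2 b b.2) }
  have hsq' : ∀ v : (T : Subgroup K), v ^ 2 = 1 := fun v => by
    rw [pow_two]; exact Subtype.ext (hsq v v.2)
  obtain ⟨hodd, hfix⟩ := automizer hperf T hsq
  -- `σ` maps `T` onto `T`
  have hsurj : ∀ t ∈ (T : Subgroup K), ∃ s ∈ (T : Subgroup K), σ s = t := by
    intro t ht
    obtain ⟨s, hs⟩ := (restr σ (T : Subgroup K) hσ).surjective ⟨t, ht⟩
    exact ⟨s, s.2, congrArg Subtype.val hs⟩
  have h3 : restr σ (T : Subgroup K) hσ = 1 := by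
    refine eq_one_of_normalizes hsq' h8 (normalizerMonoidHom (T : Subgroup K)).range hodd hfix ?_ ?_
    · rintro _ ⟨⟨n, hn⟩, rfl⟩
      have hσn : σ n ∈ normalizer ((T : Subgroup K) : Set K) := by
        apply mem_normalizer_fintype
        intro t ht
        obtain ⟨s, hs, rfl⟩ := hsurj t ht
        show σ n * σ s * (σ n)⁻¹ ∈ (T : Subgroup K)
        rw [← map_inv, ← map_mul, ← map_mul]
        exact hσ _ ((mem_normalizer_iff.1 hn s).1 hs)
      refine ⟨⟨σ n, hσn⟩, ?_⟩
      rw [eq_mul_inv_iff_mul_eq]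
      apply MulEquiv.ext
      intro t
      apply Subtype.ext
      rw [MulAut.mul_apply, MulAut.mul_apply, restr_apply]
      show σ n * (restr σ (T : Subgroup K) hσ t : K) * (σ n)⁻¹ = σ (n * t * n⁻¹)
      rw [restr_apply, map_mul, map_mul, map_inv]
    · obtain ⟨n, hn⟩ := h2
      refine ⟨n, ?_⟩
      apply MulEquiv.ext
      intro t
      apply Subtype.ext
      rw [restr_pow_apply, hn]
      rfl
  intro t ht
  have h4 : restr σ (T : Subgroup K) hσ ⟨t, ht⟩ = ⟨t, ht⟩ := by rw [h3]; rfl
  exact congrArg Subtype.val h4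

end perfect

section main

variable {W : Type*} [Group W] [Finite W]

theorem commutator_eq_top {X : Type*} [Group X] (hs : IsSimpleGroup X) (hn : ¬ IsMulCommutative X) :
    commutator X = ⊤ := by
  rcases (inferInstance : (commutator X).Normal).eq_bot_or_eq_top with h | h
  · exfalso
    apply hn
    refine ⟨⟨fun a b => ?_⟩⟩
    have h1 : ⁅a, b⁆ ∈ commutator X := commutator_mem_commutator (mem_top a) (mem_top b)
    rw [h, mem_bot, commutatorElement_eq_one_iff_mul_comm] at h1
    exact h1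
  · exact h

/-- `X ⊴ W` simple, `C_W(X) = 1`, Sylow 2-subgroups of `X` are `E8`: the Sylow 2-subgroups of `W` are in `X`. -/
theorem sylow_le {X : Subgroup W} (hXn : X.Normal) (hs : IsSimpleGroup X) (hn : ¬ IsMulCommutative X)
    (hcen : ∀ w : W, (∀ x ∈ X, w * x = x * w) → w = 1)
    (h8 : ∀ S : Sylow 2 X, Nat.card (S : Subgroup X) = 8)
    (hsq : ∀ S : Sylow 2 X, ∀ s ∈ (S : Subgroup X), s * s = 1) (P : Sylow 2 W) :
    (P : Subgroup W) ≤ X ∧ Nat.card (P : Subgroup W) = 8 := by
  classical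
  have : Fact (Nat.Prime 2) := ⟨Nat.prime_two⟩
  have hperf := commutator_eq_top hs hn
  let T : Sylow 2 X := (Lib.SylowNormalInf.isPGroup_subgroupOf P X).toSylow
    (Lib.SylowNormalInf.not_dvd_relIndex P X)
  have hT : ∀ x : X, x ∈ (T : Subgroup X) ↔ (x : W) ∈ (P : Subgroup W) := fun x => Iff.rfl
  -- odd normal subgroups
  have hoddN : ∀ N : Subgroup W, N.Normal → Odd (Nat.card N) → N ⊓ X = ⊥ := by
    intro N hN hNodd
    have h1 : (N.subgroupOf X).Normal := inferInstance
    rcases h1.eq_bot_or_eq_top with h | h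
    · rw [subgroupOf_eq_bot] at h
      exact h.eq_bot
    · exfalso
      rw [subgroupOf_eq_top] at h
      have h2 : Nat.card (T : Subgroup X) ∣ Nat.card X := card_subgroup_dvd_card _
      have h3 : Nat.card X ∣ Nat.card N := card_dvd_of_le h
      rw [h8] at h2
      have h4 : 2 ∣ Nat.card N := (by norm_num : 2 ∣ 8).trans (h2.trans h3)
      rw [Nat.odd_iff] at hNodd
      omega
  -- `P` centralises `T`
  have hPT : ∀ p ∈ (P : Subgroup W), ∀ t : X, (t : W) ∈ (P : Subgroup W) → p * t = t * p := by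
    intro p hp t ht
    have h1 := fixes_sylow hperf T (h8 T) (hsq T) (MulAut.conjNormal p) (fun s hs' => by
      rw [hT] at hs' ⊢
      rw [MulAut.conjNormal_apply]
      exact mul_mem (mul_mem hp hs') (inv_mem hp)) (by
        obtain ⟨n, hn'⟩ := P.isPGroup' ⟨p, hp⟩
        refine ⟨n, ?_⟩
        rw [← map_pow]
        have h2 : p ^ 2 ^ n = 1 := congrArg Subtype.val hn'
        rw [h2, map_one]) t ((hT t).2 ht)
    have h2 := congrArg Subtype.val h1
    rw [MulAut.conjNormal_apply] at h2
    rwa [mul_inv_eq_iff_eq_mul] at h2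
  have hle : (P : Subgroup W) ≤ X := by
    by_contra hnle
    -- an element `p ∉ X` with `p² ∈ X`
    obtain ⟨p, hp, hpX, hp2⟩ : ∃ p ∈ (P : Subgroup W), p ∉ X ∧ p * p ∈ X := by
      obtain ⟨q, hq, hqX⟩ := SetLike.not_le_iff_exists.1 hnle
      obtain ⟨n, hn'⟩ := P.isPGroup' ⟨q, hq⟩
      have h2 : q ^ 2 ^ n = 1 := congrArg Subtype.val hn'
      have hex : ∃ m : ℕ, q ^ 2 ^ m ∈ X := ⟨n, by rw [h2]; exact X.one_mem⟩
      have hm := Nat.find_spec hex
      obtain ⟨m, hm'⟩ : ∃ m, Nat.find hex = m + 1 := by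
        cases hf : Nat.find hex with
        | zero =>
          exfalso
          rw [hf, pow_zero, pow_one] at hm
          exact hqX hm
        | succ m => exact ⟨m, rfl⟩
      refine ⟨q ^ 2 ^ m, pow_mem hq _, Nat.find_min hex (by omega), ?_⟩
      rw [← pow_add, ← two_mul, ← pow_succ', ← hm']
      exact hm
    -- the group `W₁ = X⟨p⟩`
    let W₁ : Subgroup W := X ⊔ zpowers p
    have hmem : ∀ w ∈ W₁, ∃ x ∈ X, ∃ k : ℤ, w = x * p ^ k := by
      intro w hw
      obtain ⟨x, hx, y, hy, rfl⟩ := mem_sup_of_normal_left.1 hw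
      obtain ⟨k, rfl⟩ := mem_zpowers_iff.1 hy
      exact ⟨x, hx, k, rfl⟩
    let X₁ : Subgroup W₁ := X.subgroupOf W₁
    have hX₁n : X₁.Normal := inferInstance
    have hXW : X ≤ W₁ := le_sup_left
    have hpW : p ∈ W₁ := mem_sup_right (mem_zpowers p)
    -- a Sylow subgroup of `W₁` containing `p`
    let R : Subgroup W := ((P : Subgroup W) ⊓ X) ⊔ zpowers p
    have hRP : R ≤ (P : Subgroup W) := sup_le inf_le_left (zpowers_le.2 hp)
    have hRW : R ≤ W₁ := sup_le (inf_le_right.trans hXW) (zpowers_le.2 hpW)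
    have hRab : ∀ a ∈ R, ∀ b ∈ R, a * b = b * a := by
      have h1 : ∀ a ∈ (P : Subgroup W) ⊓ X, ∀ b ∈ (P : Subgroup W), b * a = a * b := by
        intro a ha b hb
        exact hPT b hb ⟨a, ha.2⟩ ha.1
      have h2 : R ≤ centralizer (R : Set W) := by
        refine sup_le ?_ (zpowers_le.2 ?_)
        · intro a ha
          rw [mem_centralizer_iff]
          intro b hb
          exact h1 a ha b (hRP hb)
        · have h3 : R ≤ centralizer ({p} : Set W) := by
            refine sup_le ?_ (zpowers_le.2 ?_)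
            · intro a ha
              rw [mem_centralizer_singleton_iff]
              exact (h1 a ha p hp).symm
            · rw [mem_centralizer_singleton_iff]
          rw [mem_centralizer_iff]
          intro b hb
          exact mem_centralizer_singleton_iff.1 (h3 hb)
      intro a ha b hb
      exact (mem_centralizer_iff.1 (h2 ha) b hb).symm
    have hcardX : Nat.card X = 8 * (T : Subgroup X).index := by
      rw [← h8 T, Subgroup.card_mul_index]
    -- `X` has index 2 in `W₁`
    have hidx : X.relIndex W₁ = 2 := by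
      have h1 : X₁.index = 2 := by
        rw [Subgroup.index_eq_two_iff]
        refine ⟨⟨p, hpW⟩, ?_⟩
        rintro ⟨w, hw⟩
        obtain ⟨x, hx, k, rfl⟩ := hmem w hw
        have hev : ∀ m : ℤ, p ^ (2 * m) ∈ X := by
          intro m
          rw [zpow_mul]
          have h2 : p ^ (2 : ℤ) ∈ X := by rw [zpow_two]; exact hp2
          exact X.zpow_mem h2 m
        rcases Int.even_or_odd' k with ⟨m, rfl | rfl⟩
        · right
          refine ⟨?_, ?_⟩
          · exact X.mul_mem hx (hev m)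
          · intro h
            have h3 : x * p ^ (2 * m) * p ∈ X := h
            apply hpX
            have h4 := X.mul_mem (X.inv_mem (X.mul_mem hx (hev m))) h3
            rwa [inv_mul_cancel_left] at h4
        · left
          refine ⟨?_, ?_⟩
          · show x * p ^ (2 * m + 1) * p ∈ X
            have h3 : x * p ^ (2 * m + 1) * p = x * (p ^ (2 * (m + 1))) := by
              rw [mul_assoc, ← zpow_add_one]
              congr 2
              ring
            rw [h3]
            exact X.mul_mem hx (hev _)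
          · intro h
            have h3 : x * p ^ (2 * m + 1) ∈ X := h
            apply hpX
            have h4 : p = (x * p ^ (2 * m))⁻¹ * (x * p ^ (2 * m + 1)) := by
              rw [zpow_add_one]; group
            rw [h4]
            exact X.mul_mem (X.inv_mem (X.mul_mem hx (hev m))) h3
      exact h1
    -- the order of `R`
    have hPX : Nat.card ((P : Subgroup W) ⊓ X : Subgroup W) = 8 := by
      rw [← h8 T]
      have h1 : (T : Subgroup X).map X.subtype = (P : Subgroup W) ⊓ X := Subgroup.subgroupOf_map_subtype _ _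
      rw [← h1]
      exact Nat.card_congr ((T : Subgroup X).equivMapOfInjective X.subtype X.subtype_injective).symm.toEquiv
    have hR16 : 16 ∣ Nat.card R := by
      have h1 : (P : Subgroup W) ⊓ X ≤ R := le_sup_left
      have h2 := Lib.SylowNormalInf.card_mul_relIndex _ _ h1
      rw [hPX] at h2
      have h3 : ((P : Subgroup W) ⊓ X).relIndex R ≠ 1 := by
        rw [Ne, Subgroup.relIndex_eq_one]
        intro h
        exact hpX (h (mem_sup_right (mem_zpowers p))).2
      obtain ⟨k, hk⟩ := (IsPGroup.iff_card (p := 2) (G := R)).1 (P.isPGroup'.to_le hRP)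
      have h4 : ((P : Subgroup W) ⊓ X).relIndex R ∣ 2 ^ k := by
        rw [← hk, ← h2]; exact dvd_mul_left _ _
      obtain ⟨j, -, hj⟩ := (Nat.dvd_prime_pow Nat.prime_two).1 h4
      have h5 : j ≠ 0 := by
        rintro rfl
        exact h3 (by rw [hj, pow_zero])
      obtain ⟨i, rfl⟩ := Nat.exists_eq_succ_of_ne_zero h5
      rw [← h2, hj, pow_succ']
      exact ⟨2 ^ i, by ring⟩
    have hR₁p : IsPGroup 2 (R.subgroupOf W₁) :=
      (P.isPGroup'.to_le hRP).comap_of_injective W₁.subtype W₁.subtype_injective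
    have hW₁card : Nat.card W₁ = 16 * (T : Subgroup X).index := by
      have h1 := Lib.SylowNormalInf.card_mul_relIndex X W₁ hXW
      rw [hidx, hcardX] at h1
      omega
    have hR₁i : ¬ 2 ∣ (R.subgroupOf W₁).index := by
      intro h
      have h1 := Lib.SylowNormalInf.card_mul_relIndex R W₁ hRW
      have h2 : (R.subgroupOf W₁).index = R.relIndex W₁ := rfl
      rw [h2] at h
      obtain ⟨a, ha⟩ := hR16
      obtain ⟨b, hb⟩ := h
      rw [ha, hb, hW₁card] at h1
      have h3 : (T : Subgroup X).index = 2 * (a * b) := by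
        have : 16 * (2 * (a * b)) = 16 * (T : Subgroup X).index := by rw [← h1]; ring
        omega
      exact T.not_dvd_index ⟨a * b, h3⟩
    let R₁ : Sylow 2 W₁ := hR₁p.toSylow hR₁i
    have hR₁mem : ∀ w : W₁, w ∈ (R₁ : Subgroup W₁) ↔ (w : W) ∈ R := fun w => Iff.rfl
    have hfinal := le_of_abelian (W := W₁) (X := X₁) hX₁n ?_ ?_ ?_ R₁ ?_
    · exact hpX (hfinal (show (⟨p, hpW⟩ : W₁) ∈ (R₁ : Subgroup W₁) from mem_sup_right (mem_zpowers p)))
    · -- odd normal subgroups of `W₁`
      intro N hN hNodd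
      have h1 : ((N ⊓ X₁).map W₁.subtype).subgroupOf X = ⊥ ∨ ((N ⊓ X₁).map W₁.subtype).subgroupOf X = ⊤ := by
        have hnorm : (((N ⊓ X₁).map W₁.subtype).subgroupOf X).Normal := by
          refine ⟨fun x hx g => ?_⟩
          obtain ⟨y, hy, hyx⟩ := hx
          have h2 : (⟨(g : W), hXW g.2⟩ : W₁) * y * (⟨(g : W), hXW g.2⟩ : W₁)⁻¹ ∈ N ⊓ X₁ := by
            refine ⟨hN.conj_mem y hy.1 _, hX₁n.conj_mem y hy.2 _⟩
          refine ⟨_, h2, ?_⟩
          have h3 : (y : W) = x := hyx
          show (g : W) * (y : W) * (g : W)⁻¹ = _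
          rw [h3]
          rfl
        exact hnorm.eq_bot_or_eq_top
      rcases h1 with h | h
      · rw [eq_bot_iff]
        rintro y hy
        have h2 : (⟨(y : W), hy.2⟩ : X) ∈ ((N ⊓ X₁).map W₁.subtype).subgroupOf X := ⟨y, hy, rfl⟩
        rw [h, mem_bot] at h2
        rw [mem_bot]
        apply Subtype.ext
        have h3 : (y : W) = 1 := congrArg Subtype.val h2
        exact h3
      · exfalso
        rw [subgroupOf_eq_top] at h
        have h2 : Nat.card (T : Subgroup X) ∣ Nat.card X := card_subgroup_dvd_card _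
        have h3 : Nat.card X ∣ Nat.card ((N ⊓ X₁).map W₁.subtype) := card_dvd_of_le h
        have h5 : Nat.card ((N ⊓ X₁).map W₁.subtype) = Nat.card (N ⊓ X₁ : Subgroup W₁) :=
          Nat.card_congr ((N ⊓ X₁).equivMapOfInjective W₁.subtype W₁.subtype_injective).symm.toEquiv
        have h6 : Nat.card (N ⊓ X₁ : Subgroup W₁) ∣ Nat.card N := card_dvd_of_le inf_le_left
        rw [h8] at h2
        have h4 : 2 ∣ Nat.card N := (by norm_num : 2 ∣ 8).trans (h2.trans (h3.trans (h5 ▸ h6)))
        rw [Nat.odd_iff] at hNodd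
        omega
    · intro w hw
      apply Subtype.ext
      refine hcen w fun x hx => ?_
      have h1 := hw ⟨x, hXW hx⟩ hx
      exact congrArg Subtype.val h1
    · -- `W₁/X₁` is abelian
      have hpow : ∀ w ∈ W₁, w ∈ X ∨ w * p⁻¹ ∈ X := by
        intro w hw
        obtain ⟨x, hx, k, rfl⟩ := hmem w hw
        have hev : ∀ m : ℤ, p ^ (2 * m) ∈ X := by
          intro m
          rw [zpow_mul]
          have h2 : p ^ (2 : ℤ) ∈ X := by rw [zpow_two]; exact hp2
          exact X.zpow_mem h2 m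
        rcases Int.even_or_odd' k with ⟨m, rfl | rfl⟩
        · exact Or.inl (X.mul_mem hx (hev m))
        · right
          rw [zpow_add_one, ← mul_assoc, mul_inv_cancel_right]
          exact X.mul_mem hx (hev m)
      rintro ⟨a, ha⟩ ⟨b, hb⟩
      show a * b * a⁻¹ * b⁻¹ ∈ X
      have key1 : ∀ u ∈ X, ∀ v : W, u * v * u⁻¹ * v⁻¹ ∈ X := fun u hu v => by
        have : u * v * u⁻¹ * v⁻¹ = u * (v * u⁻¹ * v⁻¹) := by group
        rw [this]
        exact X.mul_mem hu (hXn.conj_mem _ (X.inv_mem hu) v)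
      have key2 : ∀ u : W, ∀ v ∈ X, u * v * u⁻¹ * v⁻¹ ∈ X := fun u v hv =>
        X.mul_mem (hXn.conj_mem v hv u) (X.inv_mem hv)
      rcases hpow a ha with h1 | h1
      · exact key1 a h1 b
      · rcases hpow b hb with h2 | h2
        · exact key2 a b h2
        · set u := a * p⁻¹ with hu
          set v := b * p⁻¹ with hv
          have ha' : a = u * p := by rw [hu]; group
          have hb' : b = v * p := by rw [hv]; group
          rw [ha', hb']
          have h3 : u * p * (v * p) * (u * p)⁻¹ * (v * p)⁻¹ =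
              u * (p * v * p⁻¹) * ((p * p) * (p⁻¹ * u⁻¹ * p) * (p * p)⁻¹) * v⁻¹ := by group
          have h4 : p⁻¹ * u⁻¹ * p ∈ X := by
            have := hXn.conj_mem _ (X.inv_mem h1) p⁻¹
            rwa [inv_inv] at this
          have h5 : (p * p) * (p⁻¹ * u⁻¹ * p) * (p * p)⁻¹ ∈ X := hXn.conj_mem _ h4 _
          rw [h3]
          exact X.mul_mem (X.mul_mem (X.mul_mem h1 (hXn.conj_mem v h2 p)) h5) (X.inv_mem h2)
    · intro a ha b hb
      exact Subtype.ext (hRab a ((hR₁mem a).1 ha) b ((hR₁mem b).1 hb))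
  refine ⟨hle, ?_⟩
  have h1 : (P : Subgroup W) ⊓ X = P := inf_eq_left.2 hle
  have h2 : (T : Subgroup X).map X.subtype = (P : Subgroup W) ⊓ X := Subgroup.subgroupOf_map_subtype _ _
  rw [← h1, ← h2, ← h8 T]
  exact Nat.card_congr ((T : Subgroup X).equivMapOfInjective X.subtype X.subtype_injective).symm.toEquiv

end main

end Cfsg.Agent.GH.EFrameSyl
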