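import Mathlib
import Cfsg.Agent.GH.EDefs
import Cfsg.Agent.GH.EFlag
import Cfsg.Agent.GH.ENoD8
import Cfsg.Agent.Ree.ReduceCount

/-!
# Project GH, branch GH-E: level 1

`level_one` (the input (I1) of the tower) and `no_conj` (the input (I2)).
-/

set_option autoImplicit false

namespace Cfsg.Agent.GH.ELevelOne

open Cfsg.Agent.GH.E

variable {G : Type*} [Group G] {x h : G} {E : Subgroup G}

section Basic

theorem mem_rr' (B : Base x E) {g : G} : g ∈ rr x E ↔ g ∈ E ∨ x * g ∈ E :=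
  Cfsg.Agent.GH.E.mem_rr B.hx (fun u hu => by rw [B.comm u hu, mul_inv_cancel_right]; exact hu)

theorem comm_E (B : Base x E) {a b : G} (ha : a ∈ E) (hb : b ∈ E) : a * b = b * a := by
  have h1 := B.sq _ (E.mul_mem ha hb)
  have ha1 : a⁻¹ = a := inv_eq_iff_mul_eq_one.mpr (B.sq a ha)
  have hb1 : b⁻¹ = b := inv_eq_iff_mul_eq_one.mpr (B.sq b hb)
  have h2 : (a * b)⁻¹ = a * b := inv_eq_iff_mul_eq_one.mpr h1
  rw [← h2, mul_inv_rev, ha1, hb1]

/-- An element of `T` is `u` or `xu` with `u ∈ E`. -/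
theorem exists_eq (B : Base x E) {g : G} (hg : g ∈ rr x E) : g ∈ E ∨ ∃ u ∈ E, g = x * u := by
  rcases (mem_rr' B).1 hg with h | h
  · exact Or.inl h
  · exact Or.inr ⟨_, h, by rw [← mul_assoc, B.hx, one_mul]⟩

theorem mem_rr_E (_B : Base x E) {u : G} (hu : u ∈ E) : u ∈ rr x E := le_rr x E hu

theorem mul_mem_rr (_B : Base x E) {u : G} (hu : u ∈ E) : x * u ∈ rr x E :=
  Subgroup.mul_mem _ (self_mem_rr x E) (le_rr x E hu)

theorem mul_notMem (B : Base x E) {u : G} (hu : u ∈ E) : x * u ∉ E := fun h => B.hxE (by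
  have := E.mul_mem h (E.inv_mem hu)
  rwa [mul_inv_cancel_right] at this)

theorem comm_rr (B : Base x E) {a b : G} (ha : a ∈ rr x E) (hb : b ∈ rr x E) : a * b = b * a := by
  rcases exists_eq B ha with ha | ⟨u, hu, rfl⟩
  · rcases exists_eq B hb with hb | ⟨v, hv, rfl⟩
    · exact comm_E B ha hb
    · rw [← mul_assoc, ← B.comm a ha, mul_assoc, comm_E B ha hv, mul_assoc]
  · rcases exists_eq B hb with hb | ⟨v, hv, rfl⟩
    · rw [mul_assoc, comm_E B hu hb, ← mul_assoc, B.comm b hb, mul_assoc]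
    · calc x * u * (x * v) = x * (u * x) * v := by group
        _ = x * (x * u) * v := by rw [B.comm u hu]
        _ = x * x * (u * v) := by group
        _ = x * x * (v * u) := by rw [comm_E B hu hv]
        _ = x * (x * v) * u := by group
        _ = x * (v * x) * u := by rw [B.comm v hv]
        _ = x * v * (x * u) := by group

theorem sq_rr (B : Base x E) {a : G} (ha : a ∈ rr x E) : a * a = 1 := by
  rcases exists_eq B ha with ha | ⟨u, hu, rfl⟩
  · exact B.sq a ha
  · calc x * u * (x * u) = x * (u * x) * u := by group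
      _ = x * (x * u) * u := by rw [B.comm u hu]
      _ = (x * x) * (u * u) := by group
      _ = 1 := by rw [B.hx, B.sq u hu, one_mul]

theorem card_rr (B : Base x E) : Nat.card (rr x E) = 16 := by
  have h1 : E.relIndex (rr x E) = 2 := by
    rw [Subgroup.relIndex_eq_two_iff]
    refine ⟨x, self_mem_rr x E, fun b hb => ?_⟩
    rcases exists_eq B hb with hb | ⟨u, hu, rfl⟩
    · right
      refine ⟨hb, fun h => B.hxE ?_⟩
      have := E.mul_mem (E.inv_mem hb) h
      rwa [inv_mul_cancel_left] at this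
    · left
      refine ⟨?_, mul_notMem B hu⟩
      rw [B.comm u hu, mul_assoc, B.hx, mul_one]
      exact hu
  have h2 := Subgroup.relIndex_mul_relIndex ⊥ E (rr x E) bot_le (le_rr x E)
  rw [h1, Subgroup.relIndex_bot_left, Subgroup.relIndex_bot_left, B.card] at h2
  exact h2.symm

theorem isPGroup_rr (B : Base x E) : IsPGroup 2 (rr x E) := IsPGroup.of_card (n := 4) (by rw [card_rr B]; norm_num)

theorem comm_x (B : Base x E) {a : G} (ha : a ∈ rr x E) : x * a = a * x := comm_rr B (self_mem_rr x E) ha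

theorem x_ne_one (B : Base x E) : x ≠ 1 := fun h => B.hxE (h ▸ E.one_mem)

/-- A 2-subgroup of `C(x)` containing `T` is `T`. -/
theorem eq_of_le [Finite G] (B : Base x E) {Q : Subgroup G} (hQ : IsPGroup 2 Q) (hle : rr x E ≤ Q)
    (hx : ∀ q ∈ Q, x * q = q * x) : Q = rr x E :=
  (Subgroup.eq_of_le_of_card_ge hle (by rw [card_rr B]; exact B.cent_card Q hQ hx)).symm

end Basic

section Norm

/-- Normaliser condition: a 2-subgroup with no proper 2-overgroup in its normaliser is maximal. -/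
theorem eq_of_norm [Finite G] {T : Subgroup G}
    (hT : ∀ Q : Subgroup G, IsPGroup 2 Q → T ≤ Q → Q ≤ Subgroup.normalizer (T : Set G) → Q = T) :
    ∀ Q : Subgroup G, IsPGroup 2 Q → T ≤ Q → Q = T := by
  intro Q hQ hle
  by_contra hne
  have h2 : Fact (Nat.Prime 2) := ⟨Nat.prime_two⟩
  have hnil : Group.IsNilpotent Q := hQ.isNilpotent
  have hnc := Group.normalizerCondition_of_isNilpotent (G := Q)
  have hlt : T.subgroupOf Q < ⊤ := by
    rw [lt_top_iff_ne_top]
    intro h
    rw [Subgroup.subgroupOf_eq_top] at h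
    exact hne (le_antisymm h hle)
  obtain ⟨g, hg, hg2⟩ := SetLike.exists_of_lt (hnc _ hlt)
  have hgN : (g : G) ∈ Subgroup.normalizer (T : Set G) := by
    rw [Subgroup.mem_normalizer_iff] at hg ⊢
    intro t
    constructor
    · intro ht
      exact (hg ⟨t, hle ht⟩).1 ht
    · intro ht
      have h1 : t ∈ Q := by
        have h3 := Q.mul_mem (Q.mul_mem (Q.inv_mem g.2) (hle ht)) g.2
        have h4 : (g : G)⁻¹ * (g * t * (g : G)⁻¹) * g = t := by group
        rwa [h4] at h3
      exact (hg ⟨t, h1⟩).2 ht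
  have h5 := hT (Q ⊓ Subgroup.normalizer (T : Set G)) (hQ.to_le inf_le_left)
    (le_inf hle Subgroup.le_normalizer) inf_le_right
  apply hg2
  rw [Subgroup.mem_subgroupOf, ← h5]
  exact ⟨g.2, hgN⟩

theorem conj_mem {T : Subgroup G} {n : G} (hn : n ∈ Subgroup.normalizer (T : Set G)) {t : G} (ht : t ∈ T) :
    n * t * n⁻¹ ∈ T := (Subgroup.mem_normalizer_iff.1 hn t).1 ht

theorem conj_mem' {T : Subgroup G} {n : G} (hn : n ∈ Subgroup.normalizer (T : Set G)) {t : G} (ht : t ∈ T) :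
    n⁻¹ * t * n ∈ T := by
  have := conj_mem (Subgroup.inv_mem _ hn) ht
  rwa [inv_inv] at this

theorem isPGroup_zpowers {H : Type*} [Group H] {y : H} (hy : y * y = 1) :
    IsPGroup 2 (Subgroup.zpowers y) := by
  rintro ⟨g, k, rfl⟩
  refine ⟨1, Subtype.ext ?_⟩
  change (y ^ k) ^ (2 ^ 1) = 1
  rw [pow_one, pow_two, ← zpow_add, ← two_mul, zpow_mul, zpow_two, hy, one_zpow]

/-- If `T` is a Sylow subgroup of `G` then `N(T)` controls fusion of `x`. -/
theorem isolated_of_fix [Finite G] (B : Base x E)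
    (hfix : ∀ g ∈ Subgroup.normalizer (rr x E : Set G), g * x * g⁻¹ = x) : Isolated x := by
  have h2 : Fact (Nat.Prime 2) := ⟨Nat.prime_two⟩
  have hmax := eq_of_norm (T := rr x E) (fun Q hQ hle hN => eq_of_le B hQ hle (fun q hq => by
    have := hfix q (hN hq)
    rw [mul_inv_eq_iff_eq_mul] at this
    exact this.symm))
  obtain ⟨S, hS⟩ := (isPGroup_rr B).exists_le_sylow
  have hSeq : (S : Subgroup G) = rr x E := hmax S S.2 hS
  have hcomm : IsMulCommutative (S : Subgroup G) := by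
    refine ⟨⟨fun a b => Subtype.ext ?_⟩⟩
    have ha : (a : G) ∈ rr x E := by rw [← hSeq]; exact a.2
    have hb : (b : G) ∈ rr x E := by rw [← hSeq]; exact b.2
    exact comm_rr B ha hb
  intro g hg
  set y := g * x * g⁻¹ with hy
  have hyy : y * y = 1 := by
    rw [hy]
    calc g * x * g⁻¹ * (g * x * g⁻¹) = g * (x * x) * g⁻¹ := by group
      _ = 1 := by rw [B.hx]; group
  -- move `y` into `T` inside `C(x)`
  set C := Subgroup.centralizer ({x} : Set G) with hC
  have hTC : (S : Subgroup G) ≤ C := by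
    intro t ht
    rw [Subgroup.mem_centralizer_singleton_iff]
    rw [hSeq] at ht
    exact (comm_x B ht).symm
  have hyC : y ∈ C := Subgroup.mem_centralizer_singleton_iff.2 hg.symm
  let S' : Sylow 2 C := S.subtype hTC
  obtain ⟨Q, hQ⟩ := (isPGroup_zpowers (y := (⟨y, hyC⟩ : C)) (Subtype.ext hyy)).exists_le_sylow
  obtain ⟨c, hc⟩ := MulAction.exists_smul_eq C Q S'
  have h3 : c * ⟨y, hyC⟩ * c⁻¹ ∈ (S' : Subgroup C) := by
    rw [← hc]
    exact Subgroup.smul_mem_pointwise_smul _ (MulAut.conj c) _ (hQ (Subgroup.mem_zpowers _))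
  have h4 : (c : G) * y * (c : G)⁻¹ ∈ (S : Subgroup G) := h3
  have h5 : (c : G) * y * (c : G)⁻¹ = (((c : G) * g)⁻¹)⁻¹ * x * ((c : G) * g)⁻¹ := by
    rw [hy]; group
  obtain ⟨n, hn, hn2⟩ := S.conj_eq_normalizer_conj_of_mem x (((c : G) * g)⁻¹)
    (by
      change x ∈ (S : Subgroup G)
      rw [hSeq]; exact self_mem_rr x E) (by rw [← h5]; exact h4)
  rw [← h5] at hn2
  have h6 := hfix n⁻¹ (by
    rw [← hSeq]
    exact Subgroup.inv_mem _ hn)
  rw [inv_inv] at h6
  rw [h6] at hn2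
  have h7 := Subgroup.mem_centralizer_singleton_iff.1 c.2
  rw [mul_inv_eq_iff_eq_mul, ← h7] at hn2
  exact mul_left_cancel hn2

theorem h_conj (L : Level x E E h) (u : G) : h * (x * u) * h⁻¹ = x * (h * u * h⁻¹) := by
  calc h * (x * u) * h⁻¹ = (h * x) * u * h⁻¹ := by group
    _ = (x * h) * u * h⁻¹ := by rw [L.hx]
    _ = x * (h * u * h⁻¹) := by group

theorem h_norm [Finite G] (B : Base x E) (L : Level x E E h) : h ∈ Subgroup.normalizer (rr x E : Set G) := by
  refine Subgroup.mem_normalizer_fintype fun n hn => ?_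
  rcases exists_eq B hn with hn | ⟨u, hu, rfl⟩
  · exact le_rr x E (L.hU n hn)
  · rw [h_conj L]
    exact mul_mem_rr B (L.hU u hu)

theorem h_pow_x (L : Level x E E h) (n : ℕ) : h ^ n * x = x * h ^ n := (Commute.pow_left L.hx n)

theorem h_pow_conj (L : Level x E E h) (n : ℕ) (u : G) :
    h ^ n * (x * u) * (h ^ n)⁻¹ = x * (h ^ n * u * (h ^ n)⁻¹) := by
  calc h ^ n * (x * u) * (h ^ n)⁻¹ = (h ^ n * x) * u * (h ^ n)⁻¹ := by group
    _ = (x * h ^ n) * u * (h ^ n)⁻¹ := by rw [h_pow_x L]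
    _ = x * (h ^ n * u * (h ^ n)⁻¹) := by group

/-- The orbit of `x` under `N(T)`. -/
def Orb (x : G) (E : Subgroup G) (y : G) : Prop :=
  ∃ n ∈ Subgroup.normalizer (rr x E : Set G), n * x * n⁻¹ = y

theorem Orb.conj {y n : G} (hy : Orb x E y) (hn : n ∈ Subgroup.normalizer (rr x E : Set G)) :
    Orb x E (n * y * n⁻¹) := by
  obtain ⟨m, hm, rfl⟩ := hy
  exact ⟨n * m, Subgroup.mul_mem _ hn hm, by group⟩

theorem Orb.mem (_B : Base x E) {y : G} (hy : Orb x E y) : y ∈ rr x E := by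
  obtain ⟨n, hn, rfl⟩ := hy
  exact conj_mem hn (self_mem_rr x E)

theorem Orb.ne_one (B : Base x E) {y : G} (hy : Orb x E y) : y ≠ 1 := by
  obtain ⟨n, hn, rfl⟩ := hy
  intro h
  rw [conj_eq_one_iff] at h
  exact x_ne_one B h

theorem Orb.self (x : G) (E : Subgroup G) : Orb x E x := ⟨1, Subgroup.one_mem _, by group⟩

theorem Orb.all_mul [Finite G] (B : Base x E) (L : Level x E E h) {u : G} (hu : u ∈ E) (hu1 : u ≠ 1)
    (hO : Orb x E (x * u)) : ∀ v ∈ E, Orb x E (x * v) := by
  intro v hv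
  by_cases hv1 : v = 1
  · rw [hv1, mul_one]; exact Orb.self x E
  · obtain ⟨n, hn⟩ := L.trans u hu v hv hu1 hv1
    have h1 := hO.conj (Subgroup.pow_mem _ (h_norm B L) n)
    rwa [h_pow_conj L, hn] at h1

theorem Orb.all [Finite G] (B : Base x E) (L : Level x E E h) {u : G} (hu : u ∈ E)
    (hO : Orb x E u) : ∀ v ∈ E, v ≠ 1 → Orb x E v := by
  intro v hv hv1
  obtain ⟨n, hn⟩ := L.trans u hu v hv (hO.ne_one B) hv1
  have h1 := hO.conj (Subgroup.pow_mem _ (h_norm B L) n)
  rwa [hn] at h1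

theorem exists_ne_E (B : Base x E) (e : G) : ∃ a ∈ E, a ≠ 1 ∧ a ≠ e := by
  classical
  by_contra hcon
  push Not at hcon
  have hfin : Finite E := Nat.finite_of_card_ne_zero (by rw [B.card]; norm_num)
  have h1 : (E : Set G) ⊆ ({1, e} : Set G) := by
    intro a ha
    by_cases h : a = 1
    · exact Or.inl h
    · exact Or.inr (hcon a ha h)
  have h2 := Set.ncard_le_ncard h1
  have h3 : (E : Set G).ncard = 8 := B.card
  have h4 := Set.ncard_insert_le 1 ({e} : Set G)
  rw [Set.ncard_singleton] at h4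
  omega

/-- The orbit of `x` is not everything. -/
theorem not_all [Finite G] (B : Base x E) (L : Level x E E h)
    (hall : ∀ y ∈ rr x E, y ≠ 1 → Orb x E y) : False := by
  classical
  have h2 : Fact (Nat.Prime 2) := ⟨Nat.prime_two⟩
  set T := rr x E with hT
  set N := Subgroup.normalizer (T : Set G) with hN
  -- `T` is a Sylow subgroup of `N`
  have hmax : ∀ Q : Subgroup G, IsPGroup 2 Q → T ≤ Q → Q ≤ N → Q = T := by
    intro Q hQ hle hQN
    let X := {y : T // (y : G) ≠ 1}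
    let act : MulAction Q X :=
      { smul := fun q y => ⟨⟨q * y.1 * (q : G)⁻¹, conj_mem (hQN q.2) y.1.2⟩, fun h => y.2 (by
          have : (q : G) * y.1 * (q : G)⁻¹ = 1 := h
          rwa [conj_eq_one_iff] at this)⟩
        one_smul := fun y => Subtype.ext (Subtype.ext (by
          change (1 : G) * y.1 * (1 : G)⁻¹ = y.1
          group))
        mul_smul := fun a b y => Subtype.ext (Subtype.ext (by
          change ((a : G) * b) * y.1 * ((a : G) * b)⁻¹ = (a : G) * (b * y.1 * (b : G)⁻¹) * (a : G)⁻¹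
          group)) }
    have hact : ∀ (q : Q) (y : X), ((q • y : X) : T) = (⟨q * y.1 * (q : G)⁻¹, conj_mem (hQN q.2) y.1.2⟩ : T) :=
      fun _ _ => rfl
    have hX : Nat.card X = 15 := by
      have h3 : Nat.card X = (({1} : Set T)ᶜ).ncard := by
        have h4 : (({1} : Set T)ᶜ) = {y : T | (y : G) ≠ 1} := by
          ext y
          simp
        rw [h4]; rfl
      rw [h3, Set.ncard_compl, Set.ncard_singleton]
      have h5 : Nat.card T = 16 := card_rr B
      rw [h5]
    obtain ⟨y, hy⟩ := hQ.nonempty_fixed_point_of_prime_not_dvd_card X (by rw [hX]; norm_num)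
    obtain ⟨n, hn, hnx⟩ := hall y.1 y.1.2 y.2
    -- conjugate `Q` into `C(x)`
    let Q' : Subgroup G := Q.map (MulAut.conj n⁻¹).toMonoidHom
    have hQ' : IsPGroup 2 Q' := hQ.map _
    have h3 : T ≤ Q' := by
      intro t ht
      refine ⟨n * t * n⁻¹, hle (conj_mem hn ht), ?_⟩
      change n⁻¹ * (n * t * n⁻¹) * n⁻¹⁻¹ = t
      group
    have h4 : Q' = T := by
      refine eq_of_le B hQ' h3 ?_
      rintro _ ⟨q, hq, rfl⟩
      have h5 := hy ⟨q, hq⟩
      have h6 : q * (y.1 : G) * q⁻¹ = y.1 := congrArg (fun z : X => (z.1 : G)) h5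
      rw [← hnx] at h6
      change x * (n⁻¹ * q * n⁻¹⁻¹) = n⁻¹ * q * n⁻¹⁻¹ * x
      rw [mul_inv_eq_iff_eq_mul] at h6
      calc x * (n⁻¹ * q * n⁻¹⁻¹) = n⁻¹ * (n * x * n⁻¹ * q) * n := by group
        _ = n⁻¹ * (q * (n * x * n⁻¹)) * n := by rw [← h6]
        _ = n⁻¹ * q * n⁻¹⁻¹ * x := by group
    refine le_antisymm ?_ hle
    intro q hq
    have h5 : n⁻¹ * q * n⁻¹⁻¹ ∈ Q' := ⟨q, hq, rfl⟩
    rw [h4] at h5
    have h6 := conj_mem hn h5
    have h7 : n * (n⁻¹ * q * n⁻¹⁻¹) * n⁻¹ = q := by group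
    rwa [h7] at h6
  -- the induced group has odd order
  let φ : N →* MulAut T := Subgroup.normalizerMonoidHom T
  have hφ : ∀ (n : N) (y : T), ((φ n y : T) : G) = n * y * (n : G)⁻¹ := fun _ _ => rfl
  have hTp : IsPGroup 2 (T.subgroupOf N) := (isPGroup_rr B).comap_subtype
  obtain ⟨R, hR⟩ := hTp.exists_le_sylow
  have hRT : (R : Subgroup N) = T.subgroupOf N := by
    have h3 := hmax ((R : Subgroup N).map N.subtype) (R.2.map _) (by
      intro t ht
      exact ⟨⟨t, Subgroup.le_normalizer ht⟩, hR (Subgroup.mem_subgroupOf.2 ht), rfl⟩)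
      (Subgroup.map_subtype_le _)
    rw [← h3]
    ext n
    rw [Subgroup.mem_subgroupOf]
    constructor
    · intro hn
      exact ⟨n, hn, rfl⟩
    · rintro ⟨m, hm, hmn⟩
      have : m = n := Subtype.ext hmn
      rwa [this] at hm
  have hodd : Odd (Nat.card φ.range) := by
    rw [← Subgroup.index_ker, ← Nat.not_even_iff_odd, even_iff_two_dvd]
    intro h3
    have h4 : (R : Subgroup N) ≤ φ.ker := by
      rw [hRT]
      intro n hn
      rw [MonoidHom.mem_ker]
      apply MulEquiv.ext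
      intro y
      apply Subtype.ext
      rw [hφ]
      have hn' : (n : G) ∈ rr x E := hn
      change (n : G) * y * (n : G)⁻¹ = y
      rw [comm_rr B hn' y.2, mul_inv_cancel_right]
    exact R.not_dvd_index (h3.trans (Subgroup.index_dvd_of_le h4))
  have hnt : Nontrivial T := ⟨⟨⟨x, self_mem_rr x E⟩, 1, fun h => x_ne_one B (congrArg Subtype.val h)⟩⟩
  have hstab := Cfsg.Agent.Ree.ReduceCount.mulAut_stab (A := T)
    (fun a b => Subtype.ext (comm_rr B a.2 b.2)) φ.range hodd (fun a => Subtype.ext (sq_rr B a.2))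
    (fun a b ha hb => by
      obtain ⟨m, hm, hm2⟩ := hall a a.2 (fun h => ha (Subtype.ext h))
      obtain ⟨k, hk, hk2⟩ := hall b b.2 (fun h => hb (Subtype.ext h))
      refine ⟨φ (⟨k, hk⟩ * ⟨m, hm⟩⁻¹), ⟨_, rfl⟩, ?_⟩
      apply Subtype.ext
      rw [hφ]
      change k * m⁻¹ * a * (k * m⁻¹)⁻¹ = b
      rw [← hk2, ← hm2]
      group) 4 (by
        have h5 : Nat.card T = 16 := card_rr B
        rw [h5]; norm_num) ⟨x, self_mem_rr x E⟩ (fun h => x_ne_one B (congrArg Subtype.val h))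
  -- but `h` induces seven elements fixing `x`
  obtain ⟨a, ha, ha1, -⟩ := exists_ne_E B 1
  have hch : ∀ b : {b : E // (b : G) ≠ 1}, ∃ n : ℕ, h ^ n * a * (h ^ n)⁻¹ = b.1 := fun b =>
    L.trans a ha b.1 b.1.2 ha1 b.2
  choose ν hν using hch
  have hhn : ∀ n : ℕ, h ^ n ∈ N := fun n => Subgroup.pow_mem _ (h_norm B L) n
  let Ψ : {b : E // (b : G) ≠ 1} →
      {k : φ.range // (k : MulAut T) ⟨x, self_mem_rr x E⟩ = ⟨x, self_mem_rr x E⟩} := fun b =>
    ⟨⟨φ ⟨h ^ ν b, hhn _⟩, ⟨_, rfl⟩⟩, Subtype.ext (by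
      rw [hφ]
      change h ^ ν b * x * (h ^ ν b)⁻¹ = x
      rw [h_pow_x L, mul_inv_cancel_right])⟩
  have hΨ : Function.Injective Ψ := by
    intro b b' hbb
    have h3 : φ ⟨h ^ ν b, hhn _⟩ = φ ⟨h ^ ν b', hhn _⟩ := congrArg (fun z => ((z.1 : φ.range) : MulAut T)) hbb
    have h4 : ((φ ⟨h ^ ν b, hhn _⟩ ⟨a, le_rr x E ha⟩ : T) : G) = (φ ⟨h ^ ν b', hhn _⟩ ⟨a, le_rr x E ha⟩ : T) := by
      rw [h3]
    rw [hφ, hφ] at h4
    change h ^ ν b * a * (h ^ ν b)⁻¹ = h ^ ν b' * a * (h ^ ν b')⁻¹ at h4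
    rw [hν, hν] at h4
    exact Subtype.ext (Subtype.ext h4)
  have h3 := Nat.card_le_card_of_injective Ψ hΨ
  have h4 : Nat.card {b : E // (b : G) ≠ 1} = 7 := by
    have h5 : Nat.card {b : E // (b : G) ≠ 1} = (({1} : Set E)ᶜ).ncard := by
      have h4 : (({1} : Set E)ᶜ) = {y : E | (y : G) ≠ 1} := by
        ext y
        simp
      rw [h4]; rfl
    rw [h5, Set.ncard_compl, Set.ncard_singleton, B.card]
  omega

/-- If `x` is moved by `N(T)` then `E` is normalised and `xE` is the orbit of `x`. -/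
theorem normU_of_move [Finite G] (B : Base x E) (L : Level x E E h)
    (hmove : ∃ g ∈ Subgroup.normalizer (rr x E : Set G), g * x * g⁻¹ ≠ x) :
    NormU x E ∧ ∀ u ∈ E, Orb x E (x * u) := by
  obtain ⟨g, hg, hgx⟩ := hmove
  have hOg : Orb x E (g * x * g⁻¹) := ⟨g, hg, rfl⟩
  by_cases hE : ∃ u ∈ E, Orb x E u
  · exfalso
    obtain ⟨u, hu, huO⟩ := hE
    have hEO := huO.all B L hu
    by_cases hw : ∃ w ∈ E, w ≠ 1 ∧ Orb x E (x * w)
    · obtain ⟨w, hw, hw1, hwO⟩ := hw
      refine not_all B L fun y hy hy1 => ?_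
      rcases exists_eq B hy with hy | ⟨v, hv, rfl⟩
      · exact hEO y hy hy1
      · exact hwO.all_mul B L hw hw1 v hv
    · push Not at hw
      obtain ⟨n, hn, hnx⟩ := huO
      have hu1 : u ≠ 1 := fun h => by
        rw [h, conj_eq_one_iff] at hnx
        exact x_ne_one B hnx
      obtain ⟨a, ha, ha1, hau⟩ := exists_ne_E B u
      have hni := Subgroup.inv_mem _ hn
      -- `n⁻¹ x n` and `n⁻¹ a n` lie in `E`
      have hcase : ∀ y, Orb x E y → y ∈ E ∨ y = x := by
        intro y hy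
        rcases exists_eq B (hy.mem B) with h1 | ⟨v, hv, rfl⟩
        · exact Or.inl h1
        · right
          by_cases hv1 : v = 1
          · rw [hv1, mul_one]
          · exact absurd hy (hw v hv hv1)
      have h1 : n⁻¹ * x * n⁻¹⁻¹ ∈ E := by
        rcases hcase _ ((Orb.self x E).conj hni) with h1 | h1
        · exact h1
        · exfalso
          have h2 : n * x * n⁻¹ = x := by
            conv_lhs => rw [← h1]
            group
          rw [hnx] at h2
          exact B.hxE (h2 ▸ hu)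
      have h2 : n⁻¹ * a * n⁻¹⁻¹ ∈ E := by
        rcases hcase _ ((hEO a ha ha1).conj hni) with h1 | h1
        · exact h1
        · exfalso
          have h2 : n * x * n⁻¹ = a := by
            rw [← h1]; group
          rw [hnx] at h2
          exact hau h2.symm
      have h3 := E.mul_mem h1 h2
      have h4 : n⁻¹ * x * n⁻¹⁻¹ * (n⁻¹ * a * n⁻¹⁻¹) = n⁻¹ * (x * a) * n⁻¹⁻¹ := by group
      rw [h4] at h3
      have h5 : n⁻¹ * (x * a) * n⁻¹⁻¹ ≠ 1 := by
        intro h
        rw [conj_eq_one_iff] at h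
        exact mul_notMem B ha (h ▸ E.one_mem)
      have h6 := (hEO _ h3 h5).conj hn
      have h7 : n * (n⁻¹ * (x * a) * n⁻¹⁻¹) * n⁻¹ = x * a := by group
      rw [h7] at h6
      exact hw a ha ha1 h6
  · push Not at hE
    have hO : ∀ u ∈ E, Orb x E (x * u) := by
      rcases exists_eq B (hOg.mem B) with h1 | ⟨v, hv, hv2⟩
      · exact absurd hOg (hE _ h1)
      · refine Orb.all_mul B L hv ?_ (hv2 ▸ hOg)
        rintro rfl
        rw [mul_one] at hv2
        exact hgx hv2
    refine ⟨fun n hn u hu => ?_, hO⟩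
    rcases exists_eq B (conj_mem hn (le_rr x E hu)) with h1 | ⟨v, hv, hv2⟩
    · exact h1
    · exfalso
      have h1 := (hO v hv).conj (Subgroup.inv_mem _ hn)
      rw [← hv2] at h1
      have h2 : n⁻¹ * (n * u * n⁻¹) * n⁻¹⁻¹ = u := by group
      rw [h2] at h1
      exact hE u hu h1

/-- **(I1)** -/
theorem level_one [Finite G] (B : Base x E) (L : Level x E E h) :
    Isolated x ∨ (NormU x E ∧ ∃ g ∈ Subgroup.normalizer (rr x E : Set G), g * x * g⁻¹ ≠ x) := by
  by_cases hmove : ∃ g ∈ Subgroup.normalizer (rr x E : Set G), g * x * g⁻¹ ≠ x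
  · exact Or.inr ⟨(normU_of_move B L hmove).1, hmove⟩
  · push Not at hmove
    exact Or.inl (isolated_of_fix B hmove)

end Norm

section Count

/-- Orbit-stabiliser for conjugation by a subgroup. -/
theorem card_conj_mul (H : Subgroup G) (y : G) :
    Nat.card {z : G // ∃ n ∈ H, n * y * n⁻¹ = z} * Nat.card (H ⊓ Subgroup.centralizer {y} : Subgroup G) =
      Nat.card H := by
  let act : MulAction H G :=
    { smul := fun n z => n * z * (n : G)⁻¹
      one_smul := fun z => by
        change (1 : G) * z * (1 : G)⁻¹ = z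
        group
      mul_smul := fun a b z => by
        change ((a : G) * b) * z * ((a : G) * b)⁻¹ = (a : G) * (b * z * (b : G)⁻¹) * (a : G)⁻¹
        group }
  have hact : ∀ (n : H) (z : G), n • z = n * z * (n : G)⁻¹ := fun _ _ => rfl
  have h1 := MulAction.index_stabilizer H y
  have h2 := (MulAction.stabilizer H y).card_mul_index
  rw [h1, mul_comm] at h2
  rw [← h2]
  have e1 : Nat.card {z : G // ∃ n ∈ H, n * y * n⁻¹ = z} = (MulAction.orbit H y).ncard := by
    have h3 : (MulAction.orbit H y) = {z : G | ∃ n ∈ H, n * y * n⁻¹ = z} := by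
      ext z
      constructor
      · rintro ⟨n, rfl⟩
        exact ⟨n, n.2, rfl⟩
      · rintro ⟨n, hn, rfl⟩
        exact ⟨⟨n, hn⟩, rfl⟩
    rw [h3]; rfl
  have e2 : Nat.card (H ⊓ Subgroup.centralizer {y} : Subgroup G) = Nat.card (MulAction.stabilizer H y) := by
    refine Nat.card_congr ⟨fun g => ⟨⟨g, g.2.1⟩, ?_⟩, fun g => ⟨g.1, g.1.2, ?_⟩, fun _ => rfl, fun _ => rfl⟩
    · rw [MulAction.mem_stabilizer_iff, hact]
      change (g : G) * y * (g : G)⁻¹ = y
      rw [Subgroup.mem_centralizer_singleton_iff.1 g.2.2, mul_inv_cancel_right]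
    · have h3 := g.2
      rw [MulAction.mem_stabilizer_iff, hact, mul_inv_eq_iff_eq_mul] at h3
      exact Subgroup.mem_centralizer_singleton_iff.2 h3
  rw [e1, e2]

/-- 2-subgroups centralising a conjugate of `x`. -/
theorem cent_card_conj (B : Base x E) {y : G} (hy : IsConj x y) {Q : Subgroup G} (hQ : IsPGroup 2 Q)
    (hc : ∀ q ∈ Q, y * q = q * y) : Nat.card Q ≤ 16 := by
  obtain ⟨g, hg⟩ := isConj_iff.1 hy
  have h1 : Nat.card (Q.map (MulAut.conj g⁻¹).toMonoidHom) = Nat.card Q :=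
    Subgroup.card_map_of_injective (MulAut.conj g⁻¹).injective
  rw [← h1]
  refine B.cent_card _ (hQ.map _) ?_
  rintro _ ⟨q, hq, rfl⟩
  have h2 := hc q hq
  rw [← hg] at h2
  change x * (g⁻¹ * q * g⁻¹⁻¹) = g⁻¹ * q * g⁻¹⁻¹ * x
  calc x * (g⁻¹ * q * g⁻¹⁻¹) = g⁻¹ * (g * x * g⁻¹ * q) * g := by group
    _ = g⁻¹ * (q * (g * x * g⁻¹)) * g := by rw [h2]
    _ = g⁻¹ * q * g⁻¹⁻¹ * x := by group

theorem eq_of_le_conj [Finite G] (B : Base x E) {y : G} (hy : IsConj x y) {Q : Subgroup G}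
    (hQ : IsPGroup 2 Q) (hle : rr x E ≤ Q) (hc : ∀ q ∈ Q, y * q = q * y) : Q = rr x E :=
  (Subgroup.eq_of_le_of_card_ge hle (by rw [card_rr B]; exact cent_card_conj B hy hQ hc)).symm

theorem Orb.isConj {y : G} (hy : Orb x E y) : IsConj x y := by
  obtain ⟨n, -, hn⟩ := hy
  exact isConj_iff.2 ⟨n, hn⟩

end Count

section Main

/-- The normaliser of `T`. -/
abbrev NT (x : G) (E : Subgroup G) : Subgroup G := Subgroup.normalizer (rr x E : Set G)

/-- `T` as a subgroup of its normaliser. -/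
abbrev TT (x : G) (E : Subgroup G) : Subgroup (NT x E) := (rr x E).subgroupOf (NT x E)

/-- The action of `N(T)` on `E`. -/
noncomputable def act (_B : Base x E) [Finite G] (hU : NormU x E) :
    NT x E →* MulAut E :=
  (Subgroup.normalizerMonoidHom E).comp (Subgroup.inclusion (fun n hn =>
    Subgroup.mem_normalizer_fintype (hU n hn)))

theorem act_apply (B : Base x E) [Finite G] (hU : NormU x E) (n : NT x E)
    (e : E) : ((act B hU n e : E) : G) = n * e * (n : G)⁻¹ := rfl

theorem act_eq_one (B : Base x E) [Finite G] (hU : NormU x E) (n : NT x E) :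
    act B hU n = 1 ↔ ∀ e ∈ E, (n : G) * e = e * n := by
  constructor
  · intro h e he
    have h1 := act_apply B hU n ⟨e, he⟩
    rw [h] at h1
    change e = n * e * (n : G)⁻¹ at h1
    rw [eq_mul_inv_iff_mul_eq] at h1
    exact h1.symm
  · intro h
    apply MulEquiv.ext
    intro e
    apply Subtype.ext
    rw [act_apply, h e e.2, mul_inv_cancel_right]
    rfl

theorem act_trans (B : Base x E) [Finite G] (L : Level x E E h) (hU : NormU x E) (a b : E) (ha : a ≠ 1)
    (hb : b ≠ 1) : ∃ n, act B hU n a = b := by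
  obtain ⟨n, hn⟩ := L.trans a a.2 b b.2 (fun h => ha (Subtype.ext h)) (fun h => hb (Subtype.ext h))
  exact ⟨⟨h ^ n, Subgroup.pow_mem _ (h_norm B L) n⟩, Subtype.ext hn⟩

/-- A Sylow 2-subgroup of `N(T)`: order 128. -/
theorem exists_P [Finite G] (B : Base x E) (hU : NormU x E)
    (hO : ∀ u ∈ E, Orb x E (x * u)) :
    ∃ P : Subgroup (NT x E), IsPGroup 2 P ∧
      TT x E ≤ P ∧ Nat.card P = 128 ∧
      ∀ Q : Subgroup (NT x E), IsPGroup 2 Q → Nat.card Q ≤ 128 := by
  classical
  have h2 : Fact (Nat.Prime 2) := ⟨Nat.prime_two⟩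
  set T := rr x E with hT
  set N := Subgroup.normalizer (T : Set G) with hN
  have hOiff : ∀ y, Orb x E y ↔ ∃ u ∈ E, y = x * u := by
    intro y
    constructor
    · rintro ⟨n, hn, rfl⟩
      rcases exists_eq B (conj_mem hn (self_mem_rr x E)) with h1 | h1
      · exfalso
        have h3 := hU n⁻¹ (Subgroup.inv_mem _ hn) _ h1
        have h4 : n⁻¹ * (n * x * n⁻¹) * n⁻¹⁻¹ = x := by group
        rw [h4] at h3
        exact B.hxE h3
      · exact h1
    · rintro ⟨u, hu, rfl⟩
      exact hO u hu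
  have hOc : Nat.card {z : G // ∃ n ∈ N, n * x * n⁻¹ = z} = 8 := by
    rw [← B.card]
    let e : E ≃ {z : G // ∃ n ∈ N, n * x * n⁻¹ = z} :=
      { toFun := fun u => ⟨x * u, hO u u.2⟩
        invFun := fun z => ⟨x⁻¹ * z.1, by
          obtain ⟨u, hu, hz⟩ := (hOiff z.1).1 z.2
          rw [hz, inv_mul_cancel_left]
          exact hu⟩
        left_inv := fun u => Subtype.ext (by
          change x⁻¹ * (x * (u : G)) = u
          rw [inv_mul_cancel_left])
        right_inv := fun z => Subtype.ext (by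
          change x * (x⁻¹ * z.1) = z.1
          rw [mul_inv_cancel_left]) }
    exact (Nat.card_congr e).symm
  have hTN : T ≤ N := Subgroup.le_normalizer
  have hTC : T ≤ N ⊓ Subgroup.centralizer {x} := le_inf hTN (fun t ht => by
    rw [Subgroup.mem_centralizer_singleton_iff]
    exact (comm_x B ht).symm)
  have hTp : IsPGroup 2 (T.subgroupOf N) := (isPGroup_rr B).comap_subtype
  obtain ⟨R, hR⟩ := hTp.exists_le_sylow
  have hall : ∀ Q : Subgroup N, IsPGroup 2 Q → Nat.card Q ≤ 128 := by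
    intro Q hQ
    set Q' := Q.map N.subtype with hQ'
    have hQc : Nat.card Q' = Nat.card Q := Subgroup.card_map_of_injective N.subtype_injective
    have h3 := card_conj_mul Q' x
    have h4 : Nat.card (Q' ⊓ Subgroup.centralizer {x} : Subgroup G) ≤ 16 :=
      B.cent_card _ ((hQ.map _).to_le inf_le_left) (fun q hq =>
        (Subgroup.mem_centralizer_singleton_iff.1 hq.2).symm)
    have h5 : Nat.card {z : G // ∃ n ∈ Q', n * x * n⁻¹ = z} ≤ 8 := by
      rw [← hOc]
      refine Nat.card_le_card_of_injective (fun z => ⟨z.1, ?_⟩) ?_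
      · obtain ⟨n, hn, hz⟩ := z.2
        exact ⟨n, Subgroup.map_subtype_le Q hn, hz⟩
      · intro a b hab
        have h6 := congrArg Subtype.val hab
        exact Subtype.ext h6
    rw [← hQc, ← h3]
    calc _ ≤ 8 * 16 := Nat.mul_le_mul h5 h4
      _ = 128 := by norm_num
  refine ⟨R, R.2, hR, ?_, hall⟩
  have h3 := card_conj_mul N x
  rw [hOc] at h3
  have h4 : 16 ∣ Nat.card (N ⊓ Subgroup.centralizer {x} : Subgroup G) := by
    rw [← card_rr B]
    exact Subgroup.card_dvd_of_le hTC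
  have h5 : 2 ^ 7 ∣ Nat.card N := by
    rw [← h3]
    obtain ⟨k, hk⟩ := h4
    rw [hk]
    exact ⟨k, by ring⟩
  have h6 : 2 ^ 7 ∣ Nat.card R := Sylow.pow_dvd_card_of_pow_dvd_card R h5
  have h7 := hall R R.2
  exact le_antisymm h7 (by
    have := Nat.le_of_dvd Nat.card_pos h6
    simpa using this)

theorem not_conj_E [Finite G] (B : Base x E) (L : Level x E E h) (hU : NormU x E)
    (hO : ∀ u ∈ E, Orb x E (x * u)) : ∀ a ∈ E, ¬ IsConj x a := by
  obtain ⟨P, hP, hTP, hPc, -⟩ := exists_P B hU hO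
  obtain ⟨c, -, hc, -, -, hfc, -⟩ := Cfsg.Agent.GH.EFlag.exists_flag B.card
    (fun w : E => Subtype.ext (B.sq w w.2)) (act B hU) P hP
  intro a ha hxa
  have ha1 : a ≠ 1 := by
    rintro rfl
    rw [isConj_one_left] at hxa
    exact x_ne_one B hxa
  have hc1 : (c : G) ≠ 1 := fun h => hc (Subtype.ext h)
  obtain ⟨n, hn⟩ := L.trans a ha c c.2 ha1 hc1
  have hxc : IsConj x (c : G) := hxa.trans (isConj_iff.2 ⟨h ^ n, hn⟩)
  have h1 := cent_card_conj B hxc (hP.map (Subgroup.subtype _)) (by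
    rintro _ ⟨p, hp, rfl⟩
    have h2 := act_apply B hU p c
    rw [hfc p hp, eq_mul_inv_iff_mul_eq] at h2
    exact h2)
  rw [Subgroup.card_map_of_injective (Subgroup.subtype_injective _), hPc] at h1
  omega

/-- In case (b) the kernel of the action meets a 2-group in `T`. -/
theorem ker_inf [Finite G] (B : Base x E) (hU : NormU x E)
    (hb : ∀ r ∈ NT x E, (∀ e ∈ E, r * e = e * r) → r * x * r⁻¹ = x)
    {Q : Subgroup (NT x E)} (hQ : IsPGroup 2 Q)
    (hTQ : TT x E ≤ Q) :
    Q ⊓ (act B hU).ker = TT x E := by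
  have h1 := eq_of_le B (Q := (Q ⊓ (act B hU).ker).map (Subgroup.subtype _))
    ((hQ.to_le inf_le_left).map _) (by
      intro t ht
      refine ⟨⟨t, Subgroup.le_normalizer ht⟩, ⟨hTQ (Subgroup.mem_subgroupOf.2 ht), ?_⟩, rfl⟩
      exact (act_eq_one B hU _).2 (fun e he => comm_rr B ht (le_rr x E he)))
    (by
      rintro _ ⟨q, hq, rfl⟩
      have h2 := (act_eq_one B hU q).1 hq.2
      have h3 := hb q q.2 h2
      rw [mul_inv_eq_iff_eq_mul] at h3
      exact h3.symm)
  ext n
  rw [Subgroup.mem_subgroupOf]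
  constructor
  · intro hn
    exact h1.le ⟨n, hn, rfl⟩
  · intro hn
    obtain ⟨m, hm, hmn⟩ := h1.ge hn
    have : m = n := Subtype.ext hmn
    rwa [this] at hm

theorem card_map [Finite G] (B : Base x E) (hU : NormU x E)
    (hb : ∀ r ∈ NT x E, (∀ e ∈ E, r * e = e * r) → r * x * r⁻¹ = x)
    {Q : Subgroup (NT x E)} (hQ : IsPGroup 2 Q)
    (hTQ : TT x E ≤ Q) (hc : Nat.card Q = 128) :
    Nat.card (Q.map (act B hU)) = 8 := by
  rw [← Subgroup.relIndex_ker, ← Subgroup.inf_relIndex_left, ker_inf B hU hb hQ hTQ]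
  have h1 := Subgroup.relIndex_mul_relIndex ⊥ _ Q bot_le hTQ
  rw [Subgroup.relIndex_bot_left, Subgroup.relIndex_bot_left, hc,
    Nat.card_congr (Subgroup.subgroupOfEquivOfLe Subgroup.le_normalizer).toEquiv, card_rr B] at h1
  omega

/-- In case (b), no element of `P - T` is conjugate to `x`. -/
theorem no_conj [Finite G] (B : Base x E) (L : Level x E E h) (hU : NormU x E)
    (hO : ∀ u ∈ E, Orb x E (x * u))
    (hb : ∀ r ∈ NT x E, (∀ e ∈ E, r * e = e * r) → r * x * r⁻¹ = x)
    {P : Subgroup (NT x E)} (hP : IsPGroup 2 P)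
    (hTP : TT x E ≤ P) (hPc : Nat.card P = 128)
    {y : NT x E} (hy : y ∈ P) (hyT : (y : G) ∉ rr x E)
    (hxy : IsConj x (y : G)) : False := by
  classical
  have h2 : Fact (Nat.Prime 2) := ⟨Nat.prime_two⟩
  have hyy : (y : G) * y = 1 := by
    obtain ⟨g, hg⟩ := isConj_iff.1 hxy
    rw [← hg]
    calc g * x * g⁻¹ * (g * x * g⁻¹) = g * (x * x) * g⁻¹ := by group
      _ = 1 := by rw [B.hx]; group
  have hyy' : y * y = 1 := Subtype.ext hyy
  have hfy : act B hU y ≠ 1 := by
    intro h1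
    have h3 : y ∈ P ⊓ (act B hU).ker := ⟨hy, h1⟩
    rw [ker_inf B hU hb hP hTP] at h3
    exact hyT h3
  obtain ⟨n, hn⟩ := Cfsg.Agent.GH.EFlag.central_conj B.card
    (fun w : E => Subtype.ext (B.sq w w.2)) (act B hU) P hP (card_map B hU hb hP hTP hPc)
    (act_trans B L hU) y hfy (by rw [← map_mul, hyy', map_one])
  -- the group `D`
  let D : Subgroup (NT x E) := (Subgroup.centralizer ({act B hU y} : Set (MulAut E))).comap (act B hU)
  have hD : ∀ m, m ∈ D ↔ act B hU m * act B hU y = act B hU y * act B hU m := fun m =>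
    Subgroup.mem_centralizer_singleton_iff
  let P1 : Subgroup (NT x E) := P.map (MulAut.conj n).toMonoidHom
  have hP1 : P1 ≤ D := by
    rintro _ ⟨p, hp, rfl⟩
    rw [hD]
    exact hn p hp
  have hP1c : Nat.card P1 = 2 ^ 7 := by
    have h3 : Nat.card P1 = Nat.card P := Subgroup.card_map_of_injective (MulAut.conj n).injective
    rw [h3, hPc]
    norm_num
  have hTD : (TT x E) ≤ D := by
    intro t ht
    rw [hD]
    have h3 : act B hU t = 1 := (act_eq_one B hU t).2 (fun e he => comm_rr B ht (le_rr x E he))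
    rw [h3, one_mul, mul_one]
  have hyD : y ∈ D := by rw [hD]
  have hTy : (TT x E) ⊔ Subgroup.zpowers y ≤ P := sup_le hTP (by rw [Subgroup.zpowers_le]; exact hy)
  have hTyD : (TT x E) ⊔ Subgroup.zpowers y ≤ D := sup_le hTD (by rw [Subgroup.zpowers_le]; exact hyD)
  obtain ⟨R, hR⟩ := (((hP.to_le hTy).comap_subtype : IsPGroup 2 (((TT x E) ⊔ Subgroup.zpowers y).subgroupOf D))
    ).exists_le_sylow
  -- the Sylow subgroup `R` of `D`, as a subgroup of `N`
  set Q : Subgroup (NT x E) := (R : Subgroup D).map D.subtype with hQdef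
  have hQ : IsPGroup 2 Q := R.2.map _
  have hQc : 128 ≤ Nat.card Q := by
    have h3 : 2 ^ 7 ∣ Nat.card R := by
      apply Sylow.pow_dvd_card_of_pow_dvd_card R
      rw [← hP1c]
      exact Subgroup.card_dvd_of_le hP1
    have h4 : Nat.card Q = Nat.card R := Subgroup.card_map_of_injective D.subtype_injective
    rw [h4]
    have := Nat.le_of_dvd Nat.card_pos h3
    simpa using this
  have hTyQ : (TT x E) ⊔ Subgroup.zpowers y ≤ Q := by
    intro t ht
    exact ⟨⟨t, hTyD ht⟩, hR (Subgroup.mem_subgroupOf.2 ht), rfl⟩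
  have hTQ : (TT x E) ≤ Q := le_sup_left.trans hTyQ
  have hyQ : y ∈ Q := hTyQ (Subgroup.mem_sup_right (Subgroup.mem_zpowers y))
  have hQD : Q ≤ D := Subgroup.map_subtype_le _
  have hkerQ := ker_inf B hU hb hQ hTQ
  -- commutators
  have hcomm : ∀ q ∈ Q, ((q * y * q⁻¹ * y⁻¹ : NT x E) : G) ∈ rr x E := by
    intro q hq
    have h3 : q * y * q⁻¹ * y⁻¹ ∈ Q ⊓ (act B hU).ker := by
      refine ⟨Q.mul_mem (Q.mul_mem (Q.mul_mem hq hyQ) (Q.inv_mem hq)) (Q.inv_mem hyQ), ?_⟩
      change act B hU (q * y * q⁻¹ * y⁻¹) = 1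
      rw [map_mul, map_mul, map_mul, map_inv, map_inv, (hD q).1 (hQD hq)]
      group
    rw [hkerQ] at h3
    exact h3
  -- `C_T(y)` has order at most 4
  set C := (rr x E ⊓ Subgroup.centralizer {(y : G)} : Subgroup G) with hC
  have hCE : C ≤ E := by
    intro t ht
    rcases exists_eq B ht.1 with h3 | ⟨u, hu, rfl⟩
    · exact h3
    · exfalso
      have h4 := eq_of_le_conj B (hO u hu).isConj (Q := ((TT x E) ⊔ Subgroup.zpowers y).map (NT x E).subtype)
        ((hP.to_le hTy).map _) (by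
          intro t ht
          exact ⟨⟨t, Subgroup.le_normalizer ht⟩, Subgroup.mem_sup_left (Subgroup.mem_subgroupOf.2 ht), rfl⟩)
        (by
          have h5 : (TT x E) ⊔ Subgroup.zpowers y ≤ (Subgroup.centralizer {x * u}).comap (NT x E).subtype := by
            refine sup_le ?_ ?_
            · intro t ht
              change (t : G) ∈ Subgroup.centralizer {x * u}
              rw [Subgroup.mem_centralizer_singleton_iff]
              exact comm_rr B ht (mul_mem_rr B hu)
            · rw [Subgroup.zpowers_le]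
              change (y : G) ∈ Subgroup.centralizer {x * u}
              rw [Subgroup.mem_centralizer_singleton_iff]
              exact (Subgroup.mem_centralizer_singleton_iff.1 ht.2).symm
          rintro _ ⟨q, hq, rfl⟩
          exact (Subgroup.mem_centralizer_singleton_iff.1 (h5 hq)).symm)
      apply hyT
      rw [← h4]
      exact ⟨y, Subgroup.mem_sup_right (Subgroup.mem_zpowers y), rfl⟩
  have hCc : Nat.card C ≤ 4 := by
    have h3 : Nat.card C ∣ 8 := by rw [← B.card]; exact Subgroup.card_dvd_of_le hCE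
    have h4 : Nat.card C ≠ 8 := by
      intro h5
      apply hfy
      rw [act_eq_one]
      intro e he
      have h6 : C = E := Subgroup.eq_of_le_of_card_ge hCE (by rw [h5, B.card])
      rw [← h6] at he
      exact (Subgroup.mem_centralizer_singleton_iff.1 he.2).symm
    have h5 : Nat.card C ≤ 8 := Nat.le_of_dvd (by norm_num) h3
    generalize Nat.card C = k at *
    interval_cases k <;> omega
  -- the orbit of `y` under `Q`
  set Q' : Subgroup G := Q.map (NT x E).subtype with hQ'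
  have hQ'c : Nat.card Q' = Nat.card Q := Subgroup.card_map_of_injective (NT x E).subtype_injective
  have h3 := card_conj_mul Q' (y : G)
  have h4 : Nat.card {z : G // ∃ n ∈ Q', n * y * n⁻¹ = z} ≤ Nat.card C := by
    refine Nat.card_le_card_of_injective (fun z => (⟨z.1 * (y : G)⁻¹, ?_⟩ : C)) ?_
    · obtain ⟨_, ⟨q, hq, rfl⟩, hz⟩ := z.2
      have h5 := hcomm q hq
      have h6 : z.1 * (y : G)⁻¹ ∈ rr x E := by
        rw [← hz]
        exact h5
      refine ⟨h6, Subgroup.mem_centralizer_singleton_iff.2 ?_⟩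
      -- `τ = z y⁻¹`, `(τ y)² = 1`, `τ² = 1`
      have h7 := sq_rr B h6
      have h8 : z.1 * z.1 = 1 := by
        rw [← hz]
        change (q : G) * y * (q : G)⁻¹ * ((q : G) * y * (q : G)⁻¹) = 1
        calc (q : G) * y * (q : G)⁻¹ * ((q : G) * y * (q : G)⁻¹) = q * (y * y) * (q : G)⁻¹ := by group
          _ = 1 := by rw [hyy]; group
      have hyi : (y : G)⁻¹ = y := inv_eq_iff_mul_eq_one.mpr hyy
      have hzi : z.1⁻¹ = z.1 := inv_eq_iff_mul_eq_one.mpr h8
      rw [hyi] at h7 ⊢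
      have h9 : z.1 * (y : G) = (y : G) * z.1 := by
        have h10 : z.1 * (y : G) = (z.1 * (y : G))⁻¹ := eq_inv_of_mul_eq_one_left h7
        rw [h10, mul_inv_rev, hyi, hzi]
      rw [h9, mul_assoc, h9]
    · intro a b hab
      have h5 : a.1 * (y : G)⁻¹ = b.1 * (y : G)⁻¹ := congrArg Subtype.val hab
      exact Subtype.ext (mul_right_cancel h5)
  have h5 : Nat.card (Q' ⊓ Subgroup.centralizer {(y : G)} : Subgroup G) ≤ 16 :=
    cent_card_conj B hxy ((hQ.map _).to_le inf_le_left) (fun q hq =>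
      (Subgroup.mem_centralizer_singleton_iff.1 hq.2).symm)
  have h6 : Nat.card Q' ≤ 4 * 16 := by
    rw [← h3]
    exact Nat.mul_le_mul (h4.trans hCc) h5
  omega

/-- A conjugate of `x` is not a square. -/
theorem not_square (B : Base x E) {y s : G} (hy : IsConj x y) (hs : s * s = y) : False := by
  obtain ⟨g, hg⟩ := isConj_iff.1 hy
  have h1 : (g⁻¹ * s * g) * (g⁻¹ * s * g) = x := by
    calc (g⁻¹ * s * g) * (g⁻¹ * s * g) = g⁻¹ * (s * s) * g := by group
      _ = x := by rw [hs, ← hg]; group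
  have h2 := B.cent_sq (g⁻¹ * s * g) (by rw [← h1]; group) ⟨2, by
    calc (g⁻¹ * s * g) ^ 2 ^ 2 = ((g⁻¹ * s * g) * (g⁻¹ * s * g)) * ((g⁻¹ * s * g) * (g⁻¹ * s * g)) := by
          rw [show (2 : ℕ) ^ 2 = 2 + 2 from rfl, pow_add, pow_two]
      _ = 1 := by rw [h1, B.hx]⟩
  rw [h1] at h2
  exact x_ne_one B h2

/-- **Case (b) is impossible.** -/
theorem case_b [Finite G] (hidx : ∀ K : Subgroup G, K.index ≠ 2) (B : Base x E) (L : Level x E E h)
    (hU : NormU x E) (hO : ∀ u ∈ E, Orb x E (x * u))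
    (hb : ∀ r ∈ NT x E, (∀ e ∈ E, r * e = e * r) → r * x * r⁻¹ = x) : False := by
  classical
  have h2 : Fact (Nat.Prime 2) := ⟨Nat.prime_two⟩
  obtain ⟨P, hP, hTP, hPc, hall⟩ := exists_P B hU hO
  set P0 : Subgroup G := P.map (NT x E).subtype with hP0
  have hP0N : P0 ≤ NT x E := Subgroup.map_subtype_le _
  have hP0p : IsPGroup 2 P0 := hP.map _
  have hP0c : Nat.card P0 = 128 := by
    rw [← hPc]; exact Subgroup.card_map_of_injective (NT x E).subtype_injective
  have hTP0 : rr x E ≤ P0 := fun t ht =>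
    ⟨⟨t, Subgroup.le_normalizer ht⟩, hTP (Subgroup.mem_subgroupOf.2 ht), rfl⟩
  have fus : ∀ s ∈ P0, IsConj x s → ∃ v ∈ E, s = x * v := by
    rintro _ ⟨y, hy, rfl⟩ hxy
    by_cases hyT : (y : G) ∈ rr x E
    · rcases exists_eq B hyT with h1 | h1
      · exact absurd hxy (not_conj_E B L hU hO _ h1)
      · exact h1
    · exact (no_conj B L hU hO hb hP hTP hPc hy hyT hxy).elim
  have hmax := eq_of_norm (T := P0) (fun Q hQ hle hQN => by
    have hQNT : Q ≤ NT x E := by
      intro q hq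
      have hconj : ∀ u ∈ E, ∃ v ∈ E, q * (x * u) * q⁻¹ = x * v := fun u hu =>
        fus _ (conj_mem (hQN hq) (hTP0 (mul_mem_rr B hu)))
          ((hO u hu).isConj.trans (isConj_iff.2 ⟨q, rfl⟩))
      obtain ⟨v, hv, hxv⟩ := hconj 1 E.one_mem
      refine Subgroup.mem_normalizer_fintype fun t ht => ?_
      rcases exists_eq B ht with h1 | ⟨u, hu, rfl⟩
      · obtain ⟨w, hw, hxw⟩ := hconj t h1
        have h3 : q * t * q⁻¹ = v⁻¹ * w := by
          rw [mul_one] at hxv
          calc q * t * q⁻¹ = (q * x * q⁻¹)⁻¹ * (q * (x * t) * q⁻¹) := by group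
            _ = v⁻¹ * w := by rw [hxv, hxw]; group
        change q * t * q⁻¹ ∈ rr x E
        rw [h3]
        exact le_rr x E (E.mul_mem (E.inv_mem hv) hw)
      · obtain ⟨w, hw, hxw⟩ := hconj u hu
        change q * (x * u) * q⁻¹ ∈ rr x E
        rw [hxw]
        exact mul_mem_rr B hw
    symm
    refine Subgroup.eq_of_le_of_card_ge hle ?_
    rw [hP0c, ← Nat.card_congr (Subgroup.subgroupOfEquivOfLe hQNT).toEquiv]
    exact hall _ hQ.comap_subtype)
  obtain ⟨S, hS⟩ := hP0p.exists_le_sylow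
  have hSeq : (S : Subgroup G) = P0 := hmax S S.2 hS
  have hSN : (S : Subgroup G) ≤ NT x E := hSeq.le.trans hP0N
  refine Cfsg.Agent.GH.ENoD8.no_d8 hidx S E (rr x E) x B.hx B.hxE (self_mem_rr x E) (le_rr x E)
    (hTP0.trans hSeq.ge) (fun s hs v hv => hU s (hSN hs) v hv) (fun g hg => (mem_rr' B).1 hg)
    (by rw [hSeq, hP0c, card_rr B]) (fun s hs => ?_) B.card (fun w : E => Subtype.ext (B.sq w w.2))
    ((act B hU).comp (Subgroup.inclusion hSN)) (fun s => ?_) (fun s hs v hv hsv => ?_)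
    (fun s hs hxs => fus s (hSeq.le hs) hxs)
  · obtain ⟨v, hv, hxv⟩ := fus (s * x * s⁻¹) (conj_mem (Subgroup.le_normalizer (hSeq.le hs))
      (hTP0 (self_mem_rr x E))) (isConj_iff.2 ⟨s, rfl⟩)
    rw [hxv, B.comm v hv, mul_inv_cancel_right]
    exact hv
  · change act B hU ⟨s, hSN s.2⟩ = 1 ↔ _
    constructor
    · intro h1
      obtain ⟨y, hy, hys⟩ := hSeq.le s.2
      have hys' : y = ⟨s, hSN s.2⟩ := Subtype.ext hys
      rw [← hys'] at h1
      have h3 : y ∈ P ⊓ (act B hU).ker := ⟨hy, h1⟩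
      rw [ker_inf B hU hb hP hTP] at h3
      have h4 : (y : G) ∈ rr x E := h3
      rwa [hys'] at h4
    · intro h1
      exact (act_eq_one B hU _).2 (fun e he => comm_rr B h1 (le_rr x E he))
  · exact not_square B (hO v hv).isConj hsv

/-- **Level 1.**  Either `x` is isolated, or `N(T)` normalises `E`, no element of `E` is conjugate to `x`, and
the centraliser of `E` in `N(T)` is transitive on `xE`. -/
theorem main [Finite G] (hidx : ∀ K : Subgroup G, K.index ≠ 2) (B : Base x E) (L : Level x E E h) :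
    Isolated x ∨ (NormU x E ∧ (∀ a ∈ E, ¬ IsConj x a) ∧
      ∀ a ∈ E, ∃ r ∈ Subgroup.normalizer (rr x E : Set G), (∀ b ∈ E, r * b = b * r) ∧
        r * x * r⁻¹ = x * a) := by
  by_cases hmove : ∃ g ∈ Subgroup.normalizer (rr x E : Set G), g * x * g⁻¹ ≠ x
  · obtain ⟨hU, hO⟩ := normU_of_move B L hmove
    refine Or.inr ⟨hU, not_conj_E B L hU hO, ?_⟩
    by_cases hb : ∀ r ∈ NT x E, (∀ e ∈ E, r * e = e * r) → r * x * r⁻¹ = x
    · exact (case_b hidx B L hU hO hb).elim
    · push Not at hb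
      obtain ⟨r, hr, hre, hrx⟩ := hb
      have h1 : ∃ u ∈ E, r * x * r⁻¹ = x * u := by
        rcases exists_eq B (conj_mem hr (self_mem_rr x E)) with h1 | h1
        · exact absurd (isConj_iff.2 ⟨r, rfl⟩) (not_conj_E B L hU hO _ h1)
        · exact h1
      obtain ⟨u, hu, hru⟩ := h1
      have hu1 : u ≠ 1 := by
        rintro rfl
        rw [mul_one] at hru
        exact hrx hru
      intro a ha
      by_cases ha1 : a = 1
      · exact ⟨1, Subgroup.one_mem _, fun b _ => by rw [one_mul, mul_one], by rw [ha1]; group⟩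
      · obtain ⟨n, hn⟩ := L.trans u hu a ha hu1 ha1
        have hhn := Subgroup.pow_mem _ (h_norm B L) n
        refine ⟨h ^ n * r * (h ^ n)⁻¹, Subgroup.mul_mem _ (Subgroup.mul_mem _ hhn hr)
          (Subgroup.inv_mem _ hhn), fun b hb => ?_, ?_⟩
        · have h3 : h ^ n ∈ Subgroup.normalizer (E : Set G) :=
            Subgroup.pow_mem _ (Subgroup.mem_normalizer_fintype L.hU) n
          have h4 := hre _ (conj_mem' h3 hb)
          calc h ^ n * r * (h ^ n)⁻¹ * b = h ^ n * (r * ((h ^ n)⁻¹ * b * h ^ n)) * (h ^ n)⁻¹ := by group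
            _ = h ^ n * ((h ^ n)⁻¹ * b * h ^ n * r) * (h ^ n)⁻¹ := by rw [h4]
            _ = b * (h ^ n * r * (h ^ n)⁻¹) := by group
        · have h3 : (h ^ n)⁻¹ * x * h ^ n = x := by
            rw [mul_assoc, ← h_pow_x L, inv_mul_cancel_left]
          calc h ^ n * r * (h ^ n)⁻¹ * x * (h ^ n * r * (h ^ n)⁻¹)⁻¹
              = h ^ n * (r * ((h ^ n)⁻¹ * x * h ^ n) * r⁻¹) * (h ^ n)⁻¹ := by group
            _ = h ^ n * (x * u) * (h ^ n)⁻¹ := by rw [h3, hru]
            _ = x * (h ^ n * u * (h ^ n)⁻¹) := h_pow_conj L n u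
            _ = x * a := by rw [hn]
  · push Not at hmove
    exact Or.inl (isolated_of_fix B hmove)

end Main

end Cfsg.Agent.GH.ELevelOne
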