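import Cfsg.Agent.GH.EExotic
import Cfsg.Agent.GH.ELevelOne

/-!
# GH-E: the final theorem

`G` finite without subgroup of index 2, sectional 2-rank `≤ 4`, `x` an involution, `E = 2^3` centralised by
`x`, `T = E ∪ xE` Sylow in `C_G(x)` (`Base x E`), `h ∈ C_G(x) ∩ N_G(E)` transitive on `E#`: then `x` is
isolated (it commutes with no other conjugate of itself).
-/

set_option autoImplicit false

namespace Cfsg.Agent.GH.EIsolated

open Cfsg.Agent.GH.E

variable {G : Type*} [Group G] {x h : G} {E : Subgroup G}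

/-- GH-E in terms of `Level x E E h`. -/
theorem isolated_of_level [Finite G] (hidx : ∀ K : Subgroup G, K.index ≠ 2)
    (hr : Cfsg.SectionalPRankLE 2 4 G) (B : Base x E) (L : Level x E E h) : Isolated x :=
  isolated_of_levelOne hidx hr B L (ELevelOne.main hidx B L)

/-- GH-E. -/
theorem isolated [Finite G] (hidx : ∀ K : Subgroup G, K.index ≠ 2)
    (hr : Cfsg.SectionalPRankLE 2 4 G) (B : Base x E) (hx : h * x = x * h)
    (hE : ∀ e ∈ E, h * e * h⁻¹ ∈ E)
    (trans : ∀ a ∈ E, ∀ b ∈ E, a ≠ 1 → b ≠ 1 → ∃ n : ℕ, h ^ n * a * (h ^ n)⁻¹ = b) : Isolated x :=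
  isolated_of_level hidx hr B (B.level hx hE trans)

end Cfsg.Agent.GH.EIsolated
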