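import Cfsg.Agent.GH.ETowerS

/-!
# Project GH, branch GH-E: the case `|Q| ≥ 4`

`T = Q × A` is a Sylow 2-subgroup of `C_G(x)`, where `Q` is cyclic of order at least 4 with involution `x`, the
involutions of `A` are central in `A` and the centre of `A` is elementary (`A` elementary abelian of order 8 or a
Sylow 2-subgroup of `Sz(8)`).  Then `x` is isolated.
-/

set_option autoImplicit false

namespace Cfsg.Agent.GH.EQFour

open Cfsg.Agent.GH.E

variable {G : Type*} [Group G] {x : G}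

/-- If `T` is a Sylow 2-subgroup of `C(x)`, `N(T) ≤ C(x)` and all involutions of `T` are central in `T`, then `x`
is isolated (Burnside). -/
theorem isolated_of_central [Finite G] {T : Subgroup G} (hT : IsPGroup 2 T) (hx : x * x = 1)
    (hTx : ∀ t ∈ T, x * t = t * x)
    (hmax : ∀ P : Subgroup G, IsPGroup 2 P → (∀ q ∈ P, x * q = q * x) → T ≤ P → P = T)
    (hN : ∀ n ∈ Subgroup.normalizer (T : Set G), n * x * n⁻¹ = x)
    (hinv : ∀ t ∈ T, t * t = 1 → ∀ s ∈ T, t * s = s * t) : Isolated x := by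
  have : Fact (Nat.Prime 2) := ⟨Nat.prime_two⟩
  have hNc : ∀ n ∈ Subgroup.normalizer (T : Set G), x * n = n * x := by
    intro n hn
    have h1 := hN n hn
    calc x * n = n * x * n⁻¹ * n := by rw [h1]
      _ = n * x := by group
  obtain ⟨S, hS⟩ := exists_sylow_eq hT (fun P hP hle hPN => hmax P hP (fun q hq => hNc q (hPN hq)) hle)
  -- a Sylow subgroup of the centraliser
  set K : Subgroup G := Subgroup.centralizer {x} with hK
  have memK : ∀ {q : G}, q ∈ K ↔ x * q = q * x := by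
    intro q
    rw [hK, Subgroup.mem_centralizer_singleton_iff]
    exact eq_comm
  have hTK : T ≤ K := fun t ht => memK.2 (hTx t ht)
  obtain ⟨R, hR⟩ := (hT.comap_of_injective K.subtype K.subtype_injective).exists_le_sylow
  have hRT : (R : Subgroup K).map K.subtype = T := by
    apply hmax
    · exact R.isPGroup'.map _
    · rintro _ ⟨q, _, rfl⟩
      exact memK.1 q.2
    · intro t ht
      exact ⟨⟨t, hTK ht⟩, hR (show (⟨t, hTK ht⟩ : K) ∈ T.comap K.subtype from ht), rfl⟩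
  intro g hg
  set y : G := g * x * g⁻¹ with hy
  have hyy : y * y = 1 := by
    rw [hy]
    calc g * x * g⁻¹ * (g * x * g⁻¹) = g * (x * x) * g⁻¹ := by group
      _ = 1 := by rw [hx]; group
  have hyK : y ∈ K := memK.2 hg
  have hyp : IsPGroup 2 (Subgroup.zpowers (⟨y, hyK⟩ : K)) := by
    rw [IsPGroup.iff_orderOf]
    rintro ⟨w, hw⟩
    obtain ⟨j, hj⟩ := Subgroup.mem_zpowers_iff.1 hw
    have h1 : (⟨w, hw⟩ : Subgroup.zpowers (⟨y, hyK⟩ : K)) ^ 2 ^ 1 = 1 := by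
      apply Subtype.ext
      show w ^ 2 ^ 1 = 1
      rw [← hj, ← zpow_natCast, ← zpow_mul, mul_comm j, zpow_mul]
      have h2 : ((⟨y, hyK⟩ : K) ^ ((2 ^ 1 : ℕ) : ℤ)) = 1 := by
        rw [zpow_natCast, pow_one, pow_two]
        exact Subtype.ext hyy
      rw [h2, one_zpow]
    obtain ⟨k, -, hk⟩ := (Nat.dvd_prime_pow Nat.prime_two).1 (orderOf_dvd_of_pow_eq_one h1)
    exact ⟨k, hk⟩
  obtain ⟨R', hR'⟩ := hyp.exists_le_sylow
  obtain ⟨c, hc⟩ := MulAction.exists_smul_eq K R' R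
  have hcy : (c : G) * y * (c : G)⁻¹ ∈ T := by
    rw [← hRT]
    refine ⟨c * ⟨y, hyK⟩ * c⁻¹, ?_, rfl⟩
    show c * ⟨y, hyK⟩ * c⁻¹ ∈ R
    rw [← hc]
    have h1 : (⟨y, hyK⟩ : K) ∈ (R' : Subgroup K) := hR' (Subgroup.mem_zpowers _)
    show c * ⟨y, hyK⟩ * c⁻¹ ∈ ((c • R' : Sylow 2 K) : Subgroup K)
    rw [Sylow.coe_subgroup_smul]
    exact Subgroup.smul_mem_pointwise_smul _ _ _ h1
  set z : G := (c : G) * y * (c : G)⁻¹ with hz
  have hzz : z * z = 1 := by
    rw [hz]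
    calc (c : G) * y * (c : G)⁻¹ * ((c : G) * y * (c : G)⁻¹) = c * (y * y) * (c : G)⁻¹ := by group
      _ = 1 := by rw [hyy]; group
  have hzg : z = ((c : G) * g)⁻¹⁻¹ * x * ((c : G) * g)⁻¹ := by
    rw [hz, hy]; group
  have h1 : x ∈ Subgroup.centralizer ((S : Subgroup G) : Set G) := by
    rw [Subgroup.mem_centralizer_iff]
    intro t ht
    rw [hS] at ht
    exact (hTx t ht).symm
  have h2 : ((c : G) * g)⁻¹⁻¹ * x * ((c : G) * g)⁻¹ ∈ Subgroup.centralizer ((S : Subgroup G) : Set G) := by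
    rw [← hzg, Subgroup.mem_centralizer_iff]
    intro t ht
    rw [hS] at ht
    exact (hinv z hcy hzz t ht).symm
  obtain ⟨n, hn, hnz⟩ := S.conj_eq_normalizer_conj_of_mem_centralizer x _ h1 h2
  have hn' : n⁻¹ ∈ Subgroup.normalizer (T : Set G) := by
    have h3 : n ∈ Subgroup.normalizer ((S : Subgroup G) : Set G) := hn
    rw [hS] at h3
    exact Subgroup.inv_mem _ h3
  have h4 := hN _ hn'
  rw [inv_inv] at h4
  have h5 : z = x := by rw [hzg, hnz, h4]
  have h6 : x * (c : G) = c * x := memK.1 c.2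
  calc y = (c : G)⁻¹ * z * c := by rw [hz]; group
    _ = (c : G)⁻¹ * (x * c) := by rw [h5, mul_assoc]
    _ = x := by rw [h6]; group

/-- GH-E, the case `|Q| ≥ 4`. -/
theorem isolated [Finite G] {Q A : Subgroup G} (hQc : IsCyclic Q) (hQ : IsPGroup 2 Q) (hQ4 : 4 ≤ Nat.card Q)
    (hxQ : x ∈ Q) (hx : x * x = 1) (hx1 : x ≠ 1) (hA : IsPGroup 2 A) (hcomm : ∀ q ∈ Q, ∀ a ∈ A, q * a = a * q)
    (hdisj : Q ⊓ A = ⊥) (hinv : ∀ a ∈ A, a * a = 1 → ∀ b ∈ A, a * b = b * a)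
    (hcen : ∀ a ∈ A, (∀ b ∈ A, a * b = b * a) → a * a = 1)
    (hcard : ∀ P : Subgroup G, IsPGroup 2 P → (∀ q ∈ P, x * q = q * x) → Nat.card P ≤ Nat.card Q * Nat.card A) :
    Isolated x := by
  have : Fact (Nat.Prime 2) := ⟨Nat.prime_two⟩
  -- the generator
  obtain ⟨⟨q₀, hq₀⟩, hgen⟩ := hQc.exists_generator
  have hgen' : ∀ q ∈ Q, ∃ j : ℤ, q₀ ^ j = q := by
    intro q hq
    obtain ⟨j, hj⟩ := Subgroup.mem_zpowers_iff.1 (hgen ⟨q, hq⟩)
    exact ⟨j, by simpa using congrArg Subtype.val hj⟩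
  have hQab : ∀ q ∈ Q, ∀ r ∈ Q, q * r = r * q := by
    intro q hq r hr
    obtain ⟨i, rfl⟩ := hgen' q hq
    obtain ⟨j, rfl⟩ := hgen' r hr
    rw [← zpow_add, ← zpow_add, add_comm]
  obtain ⟨k, hk⟩ := (IsPGroup.iff_card (p := 2) (G := Q)).1 hQ
  have hord : orderOf q₀ = 2 ^ k := by
    rw [← hk, ← Subgroup.orderOf_mk q₀ hq₀]
    exact orderOf_eq_card_of_forall_mem_zpowers hgen
  have hk2 : 2 ≤ k := by
    by_contra hlt
    have hk' : k ≤ 1 := by omega
    have : 2 ^ k ≤ 2 ^ 1 := Nat.pow_le_pow_right (by norm_num) hk'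
    rw [hk] at hQ4
    omega
  obtain ⟨m, rfl⟩ : ∃ m, k = m + 2 := ⟨k - 2, by omega⟩
  -- the involution of `Q`
  have hx0 : q₀ ^ 2 ^ (m + 1) = x := by
    obtain ⟨j, hj⟩ := hgen' x hxQ
    have h1 : q₀ ^ (2 * j) = 1 := by
      rw [two_mul, zpow_add, hj, hx]
    have h2 : ((2 ^ (m + 2) : ℕ) : ℤ) ∣ 2 * j := by
      rw [← hord]; exact orderOf_dvd_iff_zpow_eq_one.2 h1
    have h3 : ((2 ^ (m + 1) : ℕ) : ℤ) ∣ j := by
      obtain ⟨w, hw⟩ := h2
      refine ⟨w, ?_⟩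
      push_cast at hw ⊢
      have : (2 : ℤ) * j = 2 * (2 ^ (m + 1) * w) := by rw [hw]; ring
      linarith
    obtain ⟨w, hw⟩ := h3
    set u : G := q₀ ^ 2 ^ (m + 1) with hu
    have huu : u * u = 1 := by
      rw [hu, ← pow_add, ← two_mul, ← pow_succ', ← hord]
      exact pow_orderOf_eq_one q₀
    have hux : u ^ w = x := by
      rw [hu, ← zpow_natCast, ← zpow_mul, ← hw, hj]
    rcases Int.even_or_odd' w with ⟨v, rfl | rfl⟩
    · exfalso
      apply hx1
      rw [← hux, zpow_mul, show u ^ (2 : ℤ) = 1 by rw [zpow_two, huu], one_zpow]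
    · rw [← hux, zpow_add, zpow_mul, show u ^ (2 : ℤ) = 1 by rw [zpow_two, huu], one_zpow, one_mul, zpow_one]
  have hpow : ∀ q ∈ Q, q ^ 2 ^ (m + 1) = 1 ∨ q ^ 2 ^ (m + 1) = x := by
    intro q hq
    obtain ⟨j, rfl⟩ := hgen' q hq
    have h1 : (q₀ ^ j) ^ 2 ^ (m + 1) = x ^ j := by
      rw [← hx0, ← zpow_natCast, ← zpow_natCast, ← zpow_mul, ← zpow_mul, mul_comm]
    rw [h1]
    rcases Int.even_or_odd' j with ⟨v, rfl | rfl⟩
    · left
      rw [zpow_mul, show x ^ (2 : ℤ) = 1 by rw [zpow_two, hx], one_zpow]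
    · right
      rw [zpow_add, zpow_mul, show x ^ (2 : ℤ) = 1 by rw [zpow_two, hx], one_zpow, one_mul, zpow_one]
  -- the group `T = QA`
  let T : Subgroup G :=
    { carrier := {g | ∃ q ∈ Q, ∃ a ∈ A, g = q * a}
      one_mem' := ⟨1, Q.one_mem, 1, A.one_mem, by simp⟩
      mul_mem' := by
        rintro _ _ ⟨q, hq, a, ha, rfl⟩ ⟨r, hr, b, hb, rfl⟩
        refine ⟨q * r, Q.mul_mem hq hr, a * b, A.mul_mem ha hb, ?_⟩
        calc q * a * (r * b) = q * (a * r) * b := by group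
          _ = q * (r * a) * b := by rw [hcomm r hr a ha]
          _ = q * r * (a * b) := by group
      inv_mem' := by
        rintro _ ⟨q, hq, a, ha, rfl⟩
        refine ⟨q⁻¹, Q.inv_mem hq, a⁻¹, A.inv_mem ha, ?_⟩
        rw [mul_inv_rev, hcomm q⁻¹ (Q.inv_mem hq) a⁻¹ (A.inv_mem ha)] }
  have memT : ∀ {g : G}, g ∈ T ↔ ∃ q ∈ Q, ∃ a ∈ A, g = q * a := Iff.rfl
  have hQT : Q ≤ T := fun q hq => memT.2 ⟨q, hq, 1, A.one_mem, by simp⟩
  have hAT : A ≤ T := fun a ha => memT.2 ⟨1, Q.one_mem, a, ha, by simp⟩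
  have hmulpow : ∀ q ∈ Q, ∀ a ∈ A, ∀ n : ℕ, (q * a) ^ n = q ^ n * a ^ n := by
    intro q hq a ha n
    exact (show Commute q a from hcomm q hq a ha).mul_pow n
  have hTp : IsPGroup 2 T := by
    rintro ⟨g, hg⟩
    obtain ⟨q, hq, a, ha, rfl⟩ := memT.1 hg
    obtain ⟨i, hi⟩ := IsPGroup.exists_pow hQ hq
    obtain ⟨j, hj⟩ := IsPGroup.exists_pow hA ha
    refine ⟨i + j, Subtype.ext ?_⟩
    show (q * a) ^ 2 ^ (i + j) = 1
    rw [hmulpow q hq a ha, pow_add, pow_mul, hi, one_pow, one_mul, mul_comm (2 ^ i), pow_mul, hj, one_pow]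
  have hTx : ∀ t ∈ T, x * t = t * x := by
    intro t ht
    obtain ⟨q, hq, a, ha, rfl⟩ := memT.1 ht
    calc x * (q * a) = (x * q) * a := by group
      _ = q * (x * a) := by rw [hQab x hxQ q hq]; group
      _ = q * a * x := by rw [hcomm x hxQ a ha]; group
  have hTcard : Nat.card T = Nat.card Q * Nat.card A := by
    rw [← Nat.card_prod]
    refine (Nat.card_congr (Equiv.ofBijective
      (fun p : Q × A => (⟨(p.1 : G) * (p.2 : G), memT.2 ⟨p.1, p.1.2, p.2, p.2.2, rfl⟩⟩ : T)) ⟨?_, ?_⟩)).symm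
    · rintro ⟨⟨q, hq⟩, ⟨a, ha⟩⟩ ⟨⟨r, hr⟩, ⟨b, hb⟩⟩ h
      have h1 : q * a = r * b := congrArg Subtype.val h
      have h2 : r⁻¹ * q = b * a⁻¹ := by
        calc r⁻¹ * q = r⁻¹ * (q * a) * a⁻¹ := by group
          _ = b * a⁻¹ := by rw [h1]; group
      have h3 : r⁻¹ * q ∈ Q ⊓ A :=
        ⟨Q.mul_mem (Q.inv_mem hr) hq, by rw [h2]; exact A.mul_mem hb (A.inv_mem ha)⟩
      rw [hdisj, Subgroup.mem_bot] at h3
      have h4 : q = r := by rw [inv_mul_eq_one] at h3; exact h3.symm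
      have h5 : a = b := by rw [h3] at h2; exact (eq_of_mul_inv_eq_one h2.symm).symm
      subst h4; subst h5; rfl
    · rintro ⟨g, hg⟩
      obtain ⟨q, hq, a, ha, rfl⟩ := memT.1 hg
      exact ⟨(⟨q, hq⟩, ⟨a, ha⟩), rfl⟩
  refine isolated_of_central hTp hx hTx ?_ ?_ ?_
  · intro P hP hPx hle
    have h1 := hcard P hP hPx
    rw [← hTcard] at h1
    exact (Subgroup.eq_of_le_of_card_ge hle h1).symm
  · intro n hn
    have hn' : ∀ t ∈ T, n * t * n⁻¹ ∈ T := fun t ht => (Subgroup.mem_normalizer_iff.1 hn t).1 ht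
    have hni : ∀ t ∈ T, n⁻¹ * t * n ∈ T := by
      intro t ht
      have := (Subgroup.mem_normalizer_iff.1 (Subgroup.inv_mem _ hn) t).1 ht
      rwa [inv_inv] at this
    -- `q₀` is central in `T`
    have hq₀c : ∀ t ∈ T, q₀ * t = t * q₀ := by
      intro t ht
      obtain ⟨q, hq, a, ha, rfl⟩ := memT.1 ht
      calc q₀ * (q * a) = (q₀ * q) * a := by group
        _ = q * (q₀ * a) := by rw [hQab q₀ hq₀ q hq]; group
        _ = q * a * q₀ := by rw [hcomm q₀ hq₀ a ha]; group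
    obtain ⟨q, hq, a, ha, hqa⟩ := memT.1 (hn' q₀ (hQT hq₀))
    have hcent : ∀ t ∈ T, n * q₀ * n⁻¹ * t = t * (n * q₀ * n⁻¹) := by
      intro t ht
      calc n * q₀ * n⁻¹ * t = n * (q₀ * (n⁻¹ * t * n)) * n⁻¹ := by group
        _ = n * ((n⁻¹ * t * n) * q₀) * n⁻¹ := by rw [hq₀c _ (hni t ht)]
        _ = t * (n * q₀ * n⁻¹) := by group
    have hab : ∀ b ∈ A, a * b = b * a := by
      intro b hb
      have h1 := hcent b (hAT hb)
      rw [hqa] at h1
      have h2 : q * (a * b) = q * (b * a) := by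
        calc q * (a * b) = q * a * b := by group
          _ = b * (q * a) := h1
          _ = (b * q) * a := by group
          _ = q * (b * a) := by rw [← hcomm q hq b hb]; group
      exact mul_left_cancel h2
    have haa := hcen a ha hab
    have h3 : n * x * n⁻¹ = q ^ 2 ^ (m + 1) := by
      rw [← hx0, ← conj_pow, hqa, hmulpow q hq a ha]
      have h4 : a ^ 2 ^ (m + 1) = 1 := by
        rw [pow_succ', pow_mul, pow_two, haa, one_pow]
      rw [h4, mul_one]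
    rcases hpow q hq with h4 | h4
    · exfalso
      apply hx1
      rw [h4] at h3
      calc x = n⁻¹ * (n * x * n⁻¹) * n := by group
        _ = 1 := by rw [h3]; group
    · rw [h3, h4]
  · intro t ht htt s hs
    obtain ⟨q, hq, a, ha, rfl⟩ := memT.1 ht
    obtain ⟨r, hr, b, hb, rfl⟩ := memT.1 hs
    have h1 : q * q * (a * a) = 1 := by
      have := hmulpow q hq a ha 2
      rw [pow_two, htt, pow_two, pow_two] at this
      exact this.symm
    have h2 : a * a ∈ Q ⊓ A := by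
      refine ⟨?_, A.mul_mem ha ha⟩
      have h3 : a * a = (q * q)⁻¹ := by
        rw [eq_inv_iff_mul_eq_one]
        have h4 : (q * q) * (a * a) = (a * a) * (q * q) :=
          hcomm (q * q) (Q.mul_mem hq hq) (a * a) (A.mul_mem ha ha)
        rw [← h4, h1]
      rw [h3]
      exact Q.inv_mem (Q.mul_mem hq hq)
    rw [hdisj, Subgroup.mem_bot] at h2
    have h5 := hinv a ha h2 b hb
    calc q * a * (r * b) = q * (a * r) * b := by group
      _ = q * (r * a) * b := by rw [hcomm r hr a ha]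
      _ = (q * r) * (a * b) := by group
      _ = (r * q) * (b * a) := by rw [hQab q hq r hr, h5]
      _ = r * (q * b) * a := by group
      _ = r * (b * q) * a := by rw [hcomm q hq b hb]
      _ = r * b * (q * a) := by group

end Cfsg.Agent.GH.EQFour
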