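import Cfsg.Agent.GH.EFrameGen
import Cfsg.Agent.GH.EFrameSyl
import Cfsg.Agent.GH.EQFour
import Cfsg.Agent.GH.EIsolated
import Cfsg.Agent.GH.QAZStar

/-!
# GH-E, frame: 2-components with Sylow 2-subgroups `E8`

`false_of_sylE8`: in a group with `Hyp` there is no 2-component `K` of `C(x)` with odd centre such that the Sylow
2-subgroups of the simple group `K/Z*(K)` are elementary abelian of order 8.
-/

set_option autoImplicit false

open Cfsg Subgroup
open scoped commutatorElement
open Cfsg.Agent.Intrinsic.Basic Cfsg.Agent.GH.Defs Cfsg.Agent.GH.Rank Cfsg.Agent.GH.Comp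
open Cfsg.Agent.SignalizersComponents.IntrinsicBasic (cj mem_normalizer_iff_cj cenMod mem_cenMod cenMod_le)

namespace Cfsg.Agent.GH.EFrameMain

open Cfsg.Agent.GH.EFrameGen

/-- The Sylow 2-subgroups are elementary abelian of order 8. -/
def SylE8 (X : Type*) [Group X] : Prop :=
  ∀ P : Sylow 2 X, Nat.card (P : Subgroup X) = 8 ∧ ∀ s ∈ (P : Subgroup X), s * s = 1

theorem SylE8.of_one {X : Type*} [Group X] [Finite X] (P : Sylow 2 X) (h8 : Nat.card (P : Subgroup X) = 8)
    (hsq : ∀ s ∈ (P : Subgroup X), s * s = 1) : SylE8 X := by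
  have : Fact (Nat.Prime 2) := ⟨Nat.prime_two⟩
  intro R
  obtain ⟨g, rfl⟩ := MulAction.exists_smul_eq X P R
  constructor
  · rw [← h8, Sylow.card_eq_multiplicity, Sylow.card_eq_multiplicity]
  · intro s hs
    rw [Sylow.coe_subgroup_smul] at hs
    obtain ⟨t, ht, rfl⟩ := hs
    show (g * t * g⁻¹) * (g * t * g⁻¹) = 1
    have h1 := hsq t ht
    calc (g * t * g⁻¹) * (g * t * g⁻¹) = g * (t * t) * g⁻¹ := by group
      _ = 1 := by rw [h1]; group

theorem SylE8.congr {X Y : Type*} [Group X] [Group Y] [Finite X] (e : X ≃* Y) (h : SylE8 X) : SylE8 Y := by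
  have : Fact (Nat.Prime 2) := ⟨Nat.prime_two⟩
  have : Finite Y := Finite.of_equiv X e.toEquiv
  obtain ⟨P⟩ : Nonempty (Sylow 2 X) := inferInstance
  have hsurj : Function.Surjective e.toMonoidHom := e.surjective
  refine SylE8.of_one (P.mapSurjective hsurj) ?_ ?_
  · rw [Sylow.coe_mapSurjective, ← (h P).1]
    exact (Nat.card_congr ((P : Subgroup X).equivMapOfInjective e.toMonoidHom e.injective).toEquiv).symm
  · rw [Sylow.coe_mapSurjective]
    rintro _ ⟨s, hs, rfl⟩
    rw [← map_mul, (h P).2 s hs, map_one]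

theorem SylE8.three_le {X : Type*} [Group X] [Finite X] (h : SylE8 X) : 3 ≤ srank 2 X := by
  have : Fact (Nat.Prime 2) := ⟨Nat.prime_two⟩
  obtain ⟨P⟩ : Nonempty (Sylow 2 X) := inferInstance
  by_contra hlt
  have h1 : SectionalPRankLE 2 2 X := (srank_le_iff (by norm_num)).1 (by omega)
  have h2 := pRankLE h1 (P : Subgroup X)
    ⟨⟨fun a b => Subtype.ext (EFrameSyl.comm_of_sq (h P).2 a a.2 b b.2)⟩⟩
    (fun a ha => by rw [pow_two]; exact (h P).2 a ha)
  rw [(h P).1] at h2
  norm_num at h2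

/-- A nonabelian simple group has no subgroup of index 2. -/
theorem index_ne_two {G : Type*} [Group G] (hs : IsSimpleGroup G) (hG : ¬ IsMulCommutative G) (H : Subgroup G) :
    H.index ≠ 2 := by
  intro hi
  have hn : H.Normal := Subgroup.normal_of_index_eq_two hi
  rcases hn.eq_bot_or_eq_top with rfl | rfl
  · rw [Subgroup.index_bot] at hi
    apply hG
    have : Fact (Nat.Prime 2) := ⟨Nat.prime_two⟩
    have := isCyclic_of_prime_card hi
    exact IsCyclic.isMulCommutative (α := G)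
  · rw [Subgroup.index_top] at hi
    norm_num at hi

variable {G : Type*} [Group G] [Finite G] {x : G} {K : Subgroup G}

omit [Finite G] in
theorem mem_ker_iff {k : K} : k ∈ (topMap K).ker ↔ Fixes (k : G) K :=
  mem_ker_topMap.trans ⟨fun h => ⟨le_normalizer k.2, h⟩, fun h => h.2⟩

/-- Odd centre: the kernel of `K → K / Z*(K)` is the core. -/
theorem mem_core_of_fixes (hodd : ¬ EvenCenter K) {k : G} (hk : k ∈ K) (hf : Fixes k K) : k ∈ core K := by
  have h1 : (⟨k, hk⟩ : K) ∈ (topMap K).ker := mem_ker_iff.2 hf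
  have h2 : (QuotientGroup.mk' (oddCore ↥K)) ⟨k, hk⟩ ∈ center (Bar K) := by
    rw [MonoidHom.mem_ker] at h1
    exact (QuotientGroup.eq_one_iff _).mp h1
  rw [L2FourOC.center_bar_eq_bot hodd, mem_bot] at h2
  have h3 : (⟨k, hk⟩ : K) ∈ oddCore ↥K := (QuotientGroup.eq_one_iff _).mp h2
  exact ⟨_, h3, rfl⟩

theorem false_of_sylE8 (h : Hyp G) (c : Comp2 x K) (hodd : ¬ EvenCenter K) (hE : SylE8 (STop K)) : False := by
  classical
  have hp2 : Fact (Nat.Prime 2) := ⟨Nat.prime_two⟩
  have hxx : x * x = 1 := by rw [← pow_two, ← c.inv, pow_orderOf_eq_one]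
  have hx1 : x ≠ 1 := by
    rintro rfl
    have := c.inv
    simp at this
  have h3 := hE.three_le
  obtain ⟨T, S⟩ := exists_syl x
  have hDn := D_normal h c hodd h3
  set C : Subgroup G := centralizer ({x} : Set G) with hC
  set D : Subgroup G := cenMod C K with hD
  obtain ⟨P, hP⟩ := exists_sylow_A h c hodd h3 S
  have hPA : ∀ k : K, k ∈ (P : Subgroup K) ↔ (k : G) ∈ T ⊓ K := by
    intro k
    rw [← hP]
    constructor
    · intro hk
      exact ⟨k, hk, rfl⟩
    · rintro ⟨k', hk', hkk⟩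
      have : k' = k := Subtype.ext hkk
      rwa [← this]
  -- `topMap` is injective on `A`
  have hinj : ∀ k ∈ (P : Subgroup K), topMap K k = 1 → k = 1 := by
    intro k hk h1
    have h2 : Fixes (k : G) K := mem_ker_iff.1 h1
    obtain ⟨n, hn⟩ := P.isPGroup' ⟨k, hk⟩
    apply Subtype.ext
    exact eq_one c hodd k.2 ((mem_D_iff c (c.comp.le k.2)).2 h2)
      ⟨n, by have := congrArg (fun y : (P : Subgroup K) => ((y : K) : G)) hn; simpa using this⟩
  have hPsq : ∀ k ∈ (P : Subgroup K), k * k = 1 := by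
    intro k hk
    refine hinj _ ((P : Subgroup K).mul_mem hk hk) ?_
    rw [map_mul]
    exact (hE (P.mapSurjective (topMap_surjective K))).2 _ ⟨k, hk, rfl⟩
  have hP8 : Nat.card (P : Subgroup K) = 8 := by
    rw [← (hE (P.mapSurjective (topMap_surjective K))).1, Sylow.coe_mapSurjective]
    refine Nat.card_congr (Equiv.ofBijective (fun k : (P : Subgroup K) =>
      (⟨topMap K k, ⟨k, k.2, rfl⟩⟩ : (P : Subgroup K).map (topMap K))) ⟨?_, ?_⟩)
    · intro a b hab
      have h1 : topMap K a = topMap K b := congrArg Subtype.val hab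
      have h2 : topMap K ((a : K) * (b : K)⁻¹) = 1 := by rw [map_mul, map_inv, h1, mul_inv_cancel]
      have h4 := hinj _ ((P : Subgroup K).mul_mem a.2 ((P : Subgroup K).inv_mem b.2)) h2
      exact Subtype.ext (mul_inv_eq_one.1 h4)
    · rintro ⟨_, k, hk, rfl⟩
      exact ⟨⟨k, hk⟩, rfl⟩
  have hA8 : Nat.card (T ⊓ K : Subgroup G) = 8 := by
    rw [← hP, ← hP8]
    exact Nat.card_congr ((P : Subgroup K).equivMapOfInjective K.subtype K.subtype_injective).symm.toEquiv
  have hAsq : ∀ a ∈ T ⊓ K, a * a = 1 := by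
    intro a ha
    have h1 := hPsq ⟨a, ha.2⟩ ((hPA _).2 ha)
    exact congrArg Subtype.val h1
  -- the quotient `C / D`
  let π : C →* C ⧸ D.subgroupOf C := QuotientGroup.mk' (D.subgroupOf C)
  have hπ : ∀ y : C, π y = 1 ↔ (y : G) ∈ D := fun y => QuotientGroup.eq_one_iff y
  let g : K →* C ⧸ D.subgroupOf C := π.comp (inclusion c.comp.le)
  have hg : ∀ k : K, g k = π ⟨k, c.comp.le k.2⟩ := fun k => rfl
  have hker : g.ker = (topMap K).ker := by
    ext k
    rw [mem_ker_iff, MonoidHom.mem_ker, hg, hπ, hD, mem_D_iff c (c.comp.le k.2)]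
  have e : g.range ≃* STop K := (QuotientGroup.quotientKerEquivRange g).symm.trans
    ((QuotientGroup.quotientMulEquivOfEq hker).trans
      (QuotientGroup.quotientKerEquivOfSurjective (topMap K) (topMap_surjective K)))
  have hXn : g.range.Normal := by
    refine ⟨?_⟩
    rintro _ ⟨k, rfl⟩ w
    obtain ⟨y, rfl⟩ := QuotientGroup.mk'_surjective (D.subgroupOf C) w
    refine ⟨⟨(y : G) * k * (y : G)⁻¹, conj_mem_K h c hodd h3 k.2 y.2⟩, ?_⟩
    rw [hg, hg]
    show π _ = π y * π _ * (π y)⁻¹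
    rw [← map_inv, ← map_mul, ← map_mul]
    rfl
  have hXs : IsSimpleGroup g.range := isSimple_congr e.symm (top_simple c.comp)
  have hXc : ¬ IsMulCommutative g.range := by
    intro hc
    apply top_nonComm c.comp
    refine ⟨⟨fun a b => ?_⟩⟩
    apply e.symm.injective
    rw [map_mul, map_mul]
    exact hc.is_comm.comm _ _
  have hXE : SylE8 g.range := hE.congr e.symm
  have hXcen : ∀ w : C ⧸ D.subgroupOf C, (∀ v ∈ g.range, w * v = v * w) → w = 1 := by
    intro w hw
    obtain ⟨y, rfl⟩ := QuotientGroup.mk'_surjective (D.subgroupOf C) w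
    change π y = 1
    rw [hπ, hD, mem_D_iff c y.2]
    refine ⟨mem_normalizer h c hodd h3 y.2, fun k hk => ?_⟩
    have h1 : π y * g ⟨k, hk⟩ = g ⟨k, hk⟩ * π y := hw _ ⟨_, rfl⟩
    have h2 : π (y * ⟨k, c.comp.le hk⟩ * y⁻¹ * (⟨k, c.comp.le hk⟩ : C)⁻¹) = 1 := by
      rw [map_mul, map_mul, map_mul, map_inv, map_inv, ← hg ⟨k, hk⟩, h1]
      group
    rw [hπ] at h2
    have h4 : (y : G) * k * (y : G)⁻¹ * k⁻¹ ∈ D := h2
    have h5 : (y : G) * k * (y : G)⁻¹ * k⁻¹ ∈ K := K.mul_mem (conj_mem_K h c hodd h3 hk y.2) (K.inv_mem hk)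
    have h6 := (mem_D_iff c (c.comp.le h5)).1 h4
    exact mem_core_of_fixes hodd h5 h6
  -- `T ≤ K D`
  have hT : ∀ t ∈ T, ∃ k ∈ K, k⁻¹ * t ∈ D := by
    intro t ht
    have hTp : IsPGroup 2 ((T.subgroupOf C).map π) :=
      (S.two.comap_of_injective C.subtype C.subtype_injective).map π
    obtain ⟨R, hR⟩ := hTp.exists_le_sylow
    obtain ⟨hRX, -⟩ := EFrameSyl.sylow_le hXn hXs hXc hXcen (fun P => (hXE P).1) (fun P => (hXE P).2) R
    have h1 : π ⟨t, S.le ht⟩ ∈ g.range := hRX (hR ⟨⟨t, S.le ht⟩, ht, rfl⟩)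
    obtain ⟨k, hk⟩ := h1
    refine ⟨k, k.2, ?_⟩
    have h2 : (⟨k, c.comp.le k.2⟩ : C)⁻¹ * ⟨t, S.le ht⟩ ∈ D.subgroupOf C :=
      (QuotientGroup.eq (s := D.subgroupOf C)).1 hk
    exact h2
  have hcard := card_eq h c hodd h3 S hT
  have hcyc := Q_cyclic h c hodd h3 S
  have hdisj := Q_inf_A c hodd S
  have hcomm := Q_comm_A h c hodd h3 S
  have hxQ : x ∈ T ⊓ D := ⟨S.x_mem hxx, x_mem_D c⟩
  rw [← hC, ← hD] at hcard hcyc hdisj hcomm
  have hQp : IsPGroup 2 (T ⊓ D : Subgroup G) := S.two.to_le inf_le_left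
  have hiso : E.Isolated x := by
    by_cases hQ4 : 4 ≤ Nat.card (T ⊓ D : Subgroup G)
    · -- `|Q| ≥ 4`
      refine EQFour.isolated (Q := T ⊓ D) (A := T ⊓ K) hcyc hQp hQ4 hxQ hxx hx1 (S.two.to_le inf_le_left) hcomm
        hdisj ?_ (fun a ha _ => hAsq a ha) ?_
      · intro a ha _ b hb
        exact EFrameSyl.comm_of_sq hAsq a ha b hb
      · intro P hP hPx
        rw [← hcard]
        exact S.card_le hP hPx
    · -- `|Q| = 2`
      have hQ2 : Nat.card (T ⊓ D : Subgroup G) = 2 := by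
        obtain ⟨n, hn⟩ := (IsPGroup.iff_card (p := 2)).1 hQp
        have h1 : n ≠ 0 := by
          rintro rfl
          rw [pow_zero, Subgroup.card_eq_one] at hn
          rw [hn, mem_bot] at hxQ
          exact hx1 hxQ
        have h2 : n < 2 := by
          by_contra hlt
          have : 2 ^ 2 ≤ 2 ^ n := Nat.pow_le_pow_right (by norm_num) (by omega)
          omega
        have h4 : n = 1 := by omega
        rw [hn, h4, pow_one]
      have hQsq : ∀ q ∈ T ⊓ D, q * q = 1 := by
        intro q hq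
        have h1 := pow_card_eq_one' (G := (T ⊓ D : Subgroup G)) (x := ⟨q, hq⟩)
        rw [hQ2] at h1
        have h2 := congrArg Subtype.val h1
        simpa [pow_two] using h2
      have hT16 : Nat.card T = 16 := by rw [hcard, hQ2, hA8]
      have B : E.Base x (T ⊓ K) := by
        refine ⟨hxx, ?_, hA8, hAsq, ?_, ?_, ?_⟩
        · intro hxA
          have : x ∈ (T ⊓ D) ⊓ (T ⊓ K) := ⟨hxQ, hxA⟩
          rw [hdisj, mem_bot] at this
          exact hx1 this
        · intro a ha
          exact (mem_centralizer_singleton_iff.1 (S.le ha.1)).symm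
        · intro P hP hPx
          rw [← hT16]
          exact S.card_le hP hPx
        · intro q hq h2
          obtain ⟨d, -, hd⟩ := S.exists_conj hq h2
          obtain ⟨r, hr, a, ha, hra⟩ := exists_mul h c hodd h3 S hT hd
          have h4 : (d * q * d⁻¹) * (d * q * d⁻¹) = 1 := by
            rw [hra]
            calc r * a * (r * a) = r * (a * r) * a := by group
              _ = (r * r) * (a * a) := by rw [← hcomm r hr a ha]; group
              _ = 1 := by rw [hQsq r hr, hAsq a ha, one_mul]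
          calc q * q = d⁻¹ * ((d * q * d⁻¹) * (d * q * d⁻¹)) * d := by group
            _ = 1 := by rw [h4]; group
      have hperf : commutator K = ⊤ := by
        have h1 := c.comp.perfect
        rw [eq_top_iff]
        intro k _
        have h2 : (k : G) ∈ ⁅K, K⁆ := by rw [h1]; exact k.2
        have h4 : ⁅K, K⁆ = (commutator K).map K.subtype := by
          rw [commutator_def, Subgroup.map_commutator, ← MonoidHom.range_eq_map, Subgroup.range_subtype]
        rw [h4] at h2
        obtain ⟨k', hk', hkk⟩ := h2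
        have : k' = k := Subtype.ext hkk
        rwa [← this]
      obtain ⟨n, hn, htr⟩ := EFrameSyl.exists_transitive hperf P hP8 hPsq
      refine EIsolated.isolated (h := (n : G)) (index_ne_two h.simple h.nonComm) h.rank4 B
        (mem_centralizer_singleton_iff.1 (c.comp.le n.2)) ?_ ?_
      · intro a ha
        have h1 := (mem_normalizer_iff.1 hn ⟨a, ha.2⟩).1 ((hPA _).2 ha)
        exact (hPA _).1 h1
      · intro a ha b hb ha1 hb1
        obtain ⟨m, hm⟩ := htr ⟨a, ha.2⟩ ((hPA _).2 ha) ⟨b, hb.2⟩ ((hPA _).2 hb)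
          (fun h => ha1 (congrArg Subtype.val h)) (fun h => hb1 (congrArg Subtype.val h))
        exact ⟨m, congrArg Subtype.val hm⟩
  obtain ⟨g, h1, h2⟩ := QA.not_isolated h.simple h.nonComm hxx hx1
  exact h2 (hiso g h1)

end Cfsg.Agent.GH.EFrameMain
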