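import Cfsg.Agent.GH.EFrameMain
import Cfsg.Agent.Ree.ReducePSL
import Cfsg.Agent.S1152
import Cfsg.Agent.S1157
import Cfsg.Agent.SporadicB.J1.Main

/-!
# GH-E, frame: the tops `L₂(8)`, Ree, `J₁`

`false_of_eight`: in a group with `Hyp` no 2-component with odd centre has top `PSL₂(8)`, a Ree group or `J₁`.
-/

set_option autoImplicit false

universe u

open Cfsg Subgroup
open Cfsg.Agent.GH.Defs Cfsg.Agent.GH.EFrameMain

namespace Cfsg.Agent.GH.EFrameTops

theorem sylE8_of_equiv {X : Type*} [Group X] [Finite X] {Z : Type*} [Group Z] (e : X ≃* Z) (Q : Sylow 2 Z)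
    (h8 : Nat.card (Q : Subgroup Z) = 8) (hQ : ∀ x ∈ (Q : Subgroup Z), x * x = 1) : SylE8 X := by
  have : Finite Z := Finite.of_equiv X e.toEquiv
  exact (SylE8.of_one Q h8 hQ).congr e.symm

theorem sylE8_L28 {X : Type*} [Group X] [Finite X] (hX : IsL28 X) : SylE8 X := by
  obtain ⟨F, _, _, hF, ⟨e⟩⟩ := hX
  obtain ⟨Q, hQ, hcard, -⟩ := Cfsg.Agent.Ree.ReducePSL.even_case (F := F) (by rw [hF]; decide)
  exact sylE8_of_equiv e Q (hcard.trans hF) hQ

theorem sylE8_ree {X : Type*} [Group X] [Finite X] (hX : Lie.IsoRee X) : SylE8 X := by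
  obtain ⟨K, _, _, m, -, hK, ⟨e⟩⟩ := hX
  obtain ⟨a, haH, ha1, ha2⟩ := Cfsg.Agent.S1157.exists_involution hK
  obtain ⟨-, hS⟩ := Cfsg.Agent.S1152.result hK a haH ha1 ha2
  obtain ⟨Q⟩ : Nonempty (Sylow 2 ↥(Cfsg.Lie.twistedG2 K (3 ^ m))) := inferInstance
  exact sylE8_of_equiv e Q (hS Q).1 (hS Q).2

open Cfsg.Agent.SporadicB.J1.Main in
theorem sylE8_J1 {X : Type*} [Group X] [Finite X] (hX : Spor.IsoJ1 X) : SylE8 X := by
  obtain ⟨e0⟩ := hX
  have hE : Nat.card data.E = 8 := data.card_E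
  have hcard : Nat.card Cfsg.Spor.J1 = 175560 := isJ1.2
  have hfin : Finite Cfsg.Spor.J1 := Nat.finite_of_card_ne_zero (by rw [hcard]; norm_num)
  have : Fact (Nat.Prime 2) := ⟨Nat.prime_two⟩
  have hmul : Nat.card data.E = 2 ^ (Nat.card Cfsg.Spor.J1).factorization 2 := by
    rw [hE, hcard, show (175560 : ℕ) = 2 ^ 3 * 21945 by norm_num,
      Nat.factorization_mul (by norm_num) (by norm_num), Nat.Prime.factorization_pow Nat.prime_two]
    rw [Finsupp.add_apply, Finsupp.single_eq_same,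
      Nat.factorization_eq_zero_of_not_dvd (by norm_num : ¬ 2 ∣ 21945)]
    norm_num
  let P : Sylow 2 Cfsg.Spor.J1 := Sylow.ofCard data.E hmul
  refine sylE8_of_equiv e0 P hE ?_
  intro x hx
  obtain ⟨i, rfl⟩ : x ∈ Set.range data.e := hx
  exact ((rep_e i).mul (rep_e i)).eq Rep.one (ce_sq i)

/-- **GH-E**, the tops with Sylow 2-subgroups `E8`. -/
theorem false_of_eight {G : Type*} [Group G] [Finite G] {x : G} {K : Subgroup G} (h : Hyp G) (c : Comp2 x K)
    (hodd : ¬ EvenCenter K)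
    (hK : IsL28 (STop K) ∨ Lie.IsoRee (STop K) ∨ Spor.IsoJ1 (STop K)) : False := by
  rcases hK with hK | hK | hK
  · exact false_of_sylE8 h c hodd (sylE8_L28 hK)
  · exact false_of_sylE8 h c hodd (sylE8_ree hK)
  · exact false_of_sylE8 h c hodd (sylE8_J1 hK)

end Cfsg.Agent.GH.EFrameTops
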