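import Cfsg.Agent.GH.SzFinal
import Cfsg.Agent.GH.EFrameTops

/-!
# GH-E: the branch theorem

`main`: if all 2-components have odd centre, then no 2-component has one of the tops `PSL₂(8)`, `Sz(8)`, Ree, `J₁`
(the field `e` of `Assembly.Branches`).
-/

set_option autoImplicit false

universe u

open Cfsg Subgroup
open Cfsg.Agent.GH.Defs

namespace Cfsg.Agent.GH.E

/-- No 2-component with odd centre has a top in `K3`. -/
theorem false_of_k3 {G : Type*} [Group G] [Finite G] {x : G} {K : Subgroup G} (h : Hyp G) (c : Comp2 x K)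
    (hodd : ¬ EvenCenter K) (hK : K3 (STop K)) : False := by
  rcases hK with h1 | h1 | h1 | h1
  · exact EFrameTops.false_of_eight h c hodd (Or.inl h1)
  · exact SzFinal.false_of_sz8 h c hodd h1
  · exact EFrameTops.false_of_eight h c hodd (Or.inr (Or.inl h1))
  · exact EFrameTops.false_of_eight h c hodd (Or.inr (Or.inr h1))

/-- **GH-E** (the field `e` of `Assembly.Branches`). -/
theorem main {G : Type*} [Group G] [Finite G] (h : Hyp G) (ho : AllOdd G)
    (he : ∃ (x : G) (K : Subgroup G), Comp2 x K ∧ K3 (STop K)) : GType G ∨ K4 G := by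
  obtain ⟨x, K, c, hK⟩ := he
  exact (false_of_k3 h c (ho x K c) hK).elim

end Cfsg.Agent.GH.E
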