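import Cfsg.Agent.GH.EDefs
import Cfsg.Agent.TwoFusion.SectionalRank

/-!
# Project GH, branch GH-E: components of type `Sz(8)`

`x` is an involution, `T = ⟨x⟩ × A` is a Sylow 2-subgroup of `C_G(x)` and `A` has the properties of a Sylow
2-subgroup of `Sz(8)`.  If `G` has no elementary abelian section of order `64` then `x` is isolated.
-/

set_option autoImplicit false

namespace Cfsg.Agent.GH.E

open Cfsg.Agent.TwoFusion.SectionalRank

variable {G : Type*} [Group G]

/-- `T = ⟨x⟩ × A` is a Sylow 2-subgroup of `C_G(x)` and `A` has the properties of a Sylow 2-subgroup of `Sz(8)`: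
order `64`, `Z` of order `8` central, the squares and the involutions of `A` lie in `Z`, centralisers of elements
outside `Z` are as small as possible, equal squares only inside cosets of `Z`; `h` centralises `x`, normalises `A`
and is transitive on `Z#`. -/
structure Suz (x : G) (A Z : Subgroup G) (h : G) : Prop where
  hx : x * x = 1
  hxA : x ∉ A
  cardA : Nat.card A = 64
  cardZ : Nat.card Z = 8
  le : Z ≤ A
  comm : ∀ a ∈ A, x * a = a * x
  sq : ∀ a ∈ A, a * a ∈ Z
  sq_one : ∀ a ∈ A, a * a = 1 → a ∈ Z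
  Z_sq : ∀ z ∈ Z, z * z = 1
  cen : ∀ z ∈ Z, ∀ a ∈ A, z * a = a * z
  sq_inj : ∀ a ∈ A, ∀ b ∈ A, a * a = b * b → a⁻¹ * b ∈ Z
  cent : ∀ a ∈ A, ∀ b ∈ A, a ∉ Z → a * b = b * a → b ∈ Z ∨ a⁻¹ * b ∈ Z
  h_x : h * x = x * h
  h_A : ∀ a ∈ A, h * a * h⁻¹ ∈ A
  trans : ∀ a ∈ Z, ∀ b ∈ Z, a ≠ 1 → b ≠ 1 → ∃ n : ℕ, h ^ n * a * (h ^ n)⁻¹ = b
  cent_card : ∀ Q : Subgroup G, IsPGroup 2 Q → (∀ q ∈ Q, x * q = q * x) → Nat.card Q ≤ 128

namespace Suz

variable {x h : G} {A Z : Subgroup G} (S : Suz x A Z h)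

include S

theorem x_inv : x⁻¹ = x := inv_eq_iff_mul_eq_one.mpr S.hx

theorem z_inv {z : G} (hz : z ∈ Z) : z⁻¹ = z := inv_eq_iff_mul_eq_one.mpr (S.Z_sq z hz)

theorem mem_rrA {g : G} : g ∈ rr x A ↔ g ∈ A ∨ x * g ∈ A :=
  mem_rr S.hx (fun u hu => by rw [S.comm u hu, mul_inv_cancel_right]; exact hu)

theorem mem_rrZ {g : G} : g ∈ rr x Z ↔ g ∈ Z ∨ x * g ∈ Z :=
  mem_rr S.hx (fun u hu => by rw [S.comm u (S.le hu), mul_inv_cancel_right]; exact hu)

theorem rrZ_le : rr x Z ≤ rr x A := sup_le_sup_right S.le _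

theorem card_rr {B : Subgroup G} (hB : B ≤ A) : Nat.card (rr x B) = 2 * Nat.card B := by
  have hx1 : x ∉ B := fun h => S.hxA (hB h)
  have h1 : B.relIndex (rr x B) = 2 := by
    have hm : ∀ {g : G}, g ∈ rr x B ↔ g ∈ B ∨ x * g ∈ B :=
      mem_rr S.hx (fun u hu => by rw [S.comm u (hB hu), mul_inv_cancel_right]; exact hu)
    unfold Subgroup.relIndex
    rw [Subgroup.index_eq_two_iff]
    refine ⟨⟨x, self_mem_rr x B⟩, fun b => ?_⟩
    obtain ⟨b, hb⟩ := b
    simp only [Subgroup.mem_subgroupOf]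
    show Xor (b * x ∈ B) (b ∈ B)
    have hb' := hm.1 hb
    have hbx : b * x = x * b := by
      rcases hb' with h | h
      · exact (S.comm b (hB h)).symm
      · have := S.comm _ (hB h)
        have h2 : x * (x * b) = b := by rw [← mul_assoc, S.hx, one_mul]
        rw [h2] at this
        calc b * x = x * b * x * x := by rw [← this]
          _ = x * b := by rw [mul_assoc, S.hx, mul_one]
    rw [hbx]
    rcases hb' with h | h
    · right
      refine ⟨h, fun h2 => hx1 ?_⟩
      have := B.mul_mem h2 (B.inv_mem h)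
      rwa [mul_inv_cancel_right] at this
    · left
      refine ⟨h, fun h2 => hx1 ?_⟩
      have := B.mul_mem h (B.inv_mem h2)
      rwa [mul_inv_cancel_right] at this
  rw [card_eq_relIndex_mul _ _ (le_rr x B), h1]

theorem card_T : Nat.card (rr x A) = 128 := by rw [S.card_rr le_rfl, S.cardA]

theorem card_ZT : Nat.card (rr x Z) = 16 := by rw [S.card_rr S.le, S.cardZ]

theorem pgroup_T : IsPGroup 2 (rr x A) := IsPGroup.of_card (n := 7) (by rw [S.card_T]; norm_num)

theorem x_comm_T {g : G} (hg : g ∈ rr x A) : x * g = g * x := by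
  rcases S.mem_rrA.1 hg with h | h
  · exact S.comm g h
  · have := S.comm _ h
    have h2 : x * (x * g) = g := by rw [← mul_assoc, S.hx, one_mul]
    rw [h2] at this
    calc x * g = x * g * x * x := by rw [mul_assoc, S.hx, mul_one]
      _ = g * x := by rw [← this]

/-- `Z ∪ xZ` is central in `T`. -/
theorem central {z g : G} (hz : z ∈ rr x Z) (hg : g ∈ rr x A) : z * g = g * z := by
  have key : ∀ z ∈ Z, z * g = g * z := by
    intro z hz
    rcases S.mem_rrA.1 hg with h | h
    · exact S.cen z hz g h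
    · have h1 := S.cen z hz _ h
      have h2 := S.comm z (S.le hz)
      have h3 : x * (z * g) = x * (g * z) := by
        calc x * (z * g) = x * z * g := (mul_assoc _ _ _).symm
          _ = z * (x * g) := by rw [h2, mul_assoc]
          _ = x * g * z := h1
          _ = x * (g * z) := mul_assoc _ _ _
      exact mul_left_cancel h3
  rcases S.mem_rrZ.1 hz with h | h
  · exact key z h
  · have h1 := key _ h
    have h2 := S.x_comm_T hg
    have h3 : x * (z * g) = x * (g * z) := by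
      calc x * (z * g) = x * z * g := (mul_assoc _ _ _).symm
        _ = g * (x * z) := h1
        _ = x * g * z := by rw [h2, mul_assoc]
        _ = x * (g * z) := mul_assoc _ _ _
    exact mul_left_cancel h3

/-- The squares of `T` lie in `Z`. -/
theorem sq_T {g : G} (hg : g ∈ rr x A) : g * g ∈ Z := by
  rcases S.mem_rrA.1 hg with h | h
  · exact S.sq g h
  · have h1 := S.sq _ h
    have h2 : x * g * (x * g) = g * g := by
      calc x * g * (x * g) = x * g * x * g := by group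
        _ = x * x * g * g := by rw [mul_assoc x g x, ← S.x_comm_T hg]; group
        _ = g * g := by rw [S.hx, one_mul]
    rwa [h2] at h1

/-- The elements of `T` with square `1` lie in `Z ∪ xZ`. -/
theorem mem_of_sq_one {g : G} (hg : g ∈ rr x A) (h1 : g * g = 1) : g ∈ rr x Z := by
  rw [S.mem_rrZ]
  rcases S.mem_rrA.1 hg with h | h
  · exact Or.inl (S.sq_one g h h1)
  · right
    refine S.sq_one _ h ?_
    calc x * g * (x * g) = x * g * x * g := by group
      _ = x * x * g * g := by rw [mul_assoc x g x, ← S.x_comm_T hg]; group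
      _ = 1 := by rw [S.hx, one_mul, h1]

/-- Elements of `T` with equal squares are congruent modulo `Z ∪ xZ`. -/
theorem sq_inj_T {g k : G} (hg : g ∈ rr x A) (hk : k ∈ rr x A) (h1 : g * g = k * k) : g⁻¹ * k ∈ rr x Z := by
  have key : ∀ g ∈ rr x A, ∃ a ∈ A, a * a = g * g ∧ (a = g ∨ a = x * g) := by
    intro g hg
    rcases S.mem_rrA.1 hg with h | h
    · exact ⟨g, h, rfl, Or.inl rfl⟩
    · refine ⟨x * g, h, ?_, Or.inr rfl⟩
      calc x * g * (x * g) = x * g * x * g := by group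
        _ = x * x * g * g := by rw [mul_assoc x g x, ← S.x_comm_T hg]; group
        _ = g * g := by rw [S.hx, one_mul]
  obtain ⟨a, ha, ha1, ha2⟩ := key g hg
  obtain ⟨b, hb, hb1, hb2⟩ := key k hk
  have h2 := S.sq_inj a ha b hb (by rw [ha1, hb1, h1])
  have h3 : a⁻¹ * b ∈ rr x Z := le_rr x Z h2
  have hxx : x ∈ rr x Z := self_mem_rr x Z
  rcases ha2 with rfl | rfl <;> rcases hb2 with rfl | rfl
  · exact h3
  · have h4 := Subgroup.mul_mem _ hxx h3
    have h5 : x * (a⁻¹ * (x * k)) = a⁻¹ * k := by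
      have h6 : x * a⁻¹ = a⁻¹ * x := S.comm _ (A.inv_mem ha)
      calc x * (a⁻¹ * (x * k)) = x * a⁻¹ * x * k := by group
        _ = a⁻¹ * (x * x) * k := by rw [h6]; group
        _ = a⁻¹ * k := by rw [S.hx, mul_one]
    rwa [h5] at h4
  · have h4 := Subgroup.mul_mem _ h3 hxx
    have h6 : x * b = b * x := S.comm _ hb
    have h5 : (x * g)⁻¹ * b * x = g⁻¹ * b := by
      calc (x * g)⁻¹ * b * x = g⁻¹ * x⁻¹ * (b * x) := by group
        _ = g⁻¹ * x⁻¹ * (x * b) := by rw [h6]
        _ = g⁻¹ * b := by group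
    rwa [h5] at h4
  · have h5 : (x * g)⁻¹ * (x * k) = g⁻¹ * k := by group
    rwa [h5] at h3

/-- Every element of `Z` is the square of an element of `A`. -/
theorem exists_sq {z : G} (hz : z ∈ Z) : ∃ a ∈ A, a * a = z := by
  by_cases hz1 : z = 1
  · exact ⟨1, A.one_mem, by rw [hz1, one_mul]⟩
  · -- some element of `A` is outside `Z`
    have h1 : ∃ a ∈ A, a ∉ Z := by
      by_contra hcon
      push Not at hcon
      have h2 : A = Z := le_antisymm hcon S.le
      have h3 := S.cardA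
      rw [h2, S.cardZ] at h3
      omega
    obtain ⟨a, ha, haZ⟩ := h1
    have h2 : a * a ≠ 1 := fun h => haZ (S.sq_one a ha h)
    obtain ⟨n, hn⟩ := S.trans _ (S.sq a ha) z hz h2 hz1
    have h3 : ∀ n : ℕ, h ^ n * a * (h ^ n)⁻¹ ∈ A := by
      intro n
      induction n with
      | zero => simpa using ha
      | succ n ih =>
        have := S.h_A _ ih
        rw [pow_succ' h n]
        convert this using 1
        group
    refine ⟨_, h3 n, ?_⟩
    rw [← hn]
    group

/-- `Z` is normalised by `N_G(T)`. -/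
theorem norm_Z {n : G} (hn : ∀ g ∈ rr x A, n * g * n⁻¹ ∈ rr x A) {z : G} (hz : z ∈ Z) : n * z * n⁻¹ ∈ Z := by
  obtain ⟨a, ha, rfl⟩ := S.exists_sq hz
  have h1 := S.sq_T (hn a (le_rr x A ha))
  have h2 : n * a * n⁻¹ * (n * a * n⁻¹) = n * (a * a) * n⁻¹ := by group
  rwa [h2] at h1

/-- Conjugates of `x` under `N_G(T)` lie in `xZ`. -/
theorem conj_x {n : G} (hn : ∀ g ∈ rr x A, n * g * n⁻¹ ∈ rr x A) (hn' : ∀ g ∈ rr x A, n⁻¹ * g * n ∈ rr x A) :
    x * (n * x * n⁻¹) ∈ Z := by
  have h1 : n * x * n⁻¹ ∈ rr x A := hn x (self_mem_rr x A)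
  have h2 : n * x * n⁻¹ * (n * x * n⁻¹) = 1 := by
    rw [show n * x * n⁻¹ * (n * x * n⁻¹) = n * (x * x) * n⁻¹ by group, S.hx, mul_one, mul_inv_cancel]
  rcases S.mem_rrZ.1 (S.mem_of_sq_one h1 h2) with h3 | h3
  · exfalso
    have h4 : n⁻¹ * (n * x * n⁻¹) * n⁻¹⁻¹ ∈ Z := S.norm_Z (n := n⁻¹) (fun g hg => by
      rw [inv_inv]; exact hn' g hg) h3
    have h5 : n⁻¹ * (n * x * n⁻¹) * n⁻¹⁻¹ = x := by group
    rw [h5] at h4
    exact S.hxA (S.le h4)
  · exact h3

/-- A 2-subgroup of `C_G(x)` containing `T` is equal to `T`. -/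
theorem eq_T {Q : Subgroup G} [Finite G] (hQ : IsPGroup 2 Q) (hQx : ∀ q ∈ Q, x * q = q * x) (hle : rr x A ≤ Q) :
    Q = rr x A := by
  refine (Subgroup.eq_of_le_of_card_ge hle ?_).symm
  rw [S.card_T]
  exact S.cent_card Q hQ hQx

end Suz

end Cfsg.Agent.GH.E
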