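import Cfsg.Agent.GH.ESuz

/-!
# Project GH, branch GH-E: components of type `Sz(8)`, main theorem
-/

set_option autoImplicit false

namespace Cfsg.Agent.GH.E

open Cfsg.Agent.TwoFusion.SectionalRank

variable {G : Type*} [Group G]

/-- A proper subgroup of a finite 2-group is proper in its normaliser. -/
theorem exists_mem_normalizer [Finite G] {T P : Subgroup G} (hP : IsPGroup 2 P) (hle : T ≤ P) (hne : T ≠ P) :
    ∃ y ∈ P, y ∉ T ∧ ∀ g ∈ T, y * g * y⁻¹ ∈ T := by
  have : Fact (Nat.Prime 2) := ⟨Nat.prime_two⟩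
  have hnil : Group.IsNilpotent P := hP.isNilpotent
  have hlt : T.subgroupOf P < ⊤ := by
    rw [lt_top_iff_ne_top]
    intro h
    exact hne (le_antisymm hle (Subgroup.subgroupOf_eq_top.1 h))
  have h1 := Group.normalizerCondition_of_isNilpotent (T.subgroupOf P) hlt
  obtain ⟨y, hy, hyT⟩ := Set.exists_of_ssubset h1
  refine ⟨y, y.2, fun h => hyT h, fun g hg => ?_⟩
  exact (Subgroup.mem_normalizer_iff.1 hy ⟨g, hle hg⟩).1 hg

namespace Suz

variable {x h : G} {A Z : Subgroup G} (S : Suz x A Z h)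

include S

/-- Up to conjugacy in `C_G(x)` a 2-element of `C_G(x)` lies in `T`. -/
theorem exists_conj_T [Finite G] {y : G} (hy : x * y = y * x) (hy2 : ∃ n : ℕ, y ^ 2 ^ n = 1) :
    ∃ c : G, x * c = c * x ∧ c * y * c⁻¹ ∈ rr x A := by
  have : Fact (Nat.Prime 2) := ⟨Nat.prime_two⟩
  set C : Subgroup G := Subgroup.centralizer ({x} : Set G) with hC
  have hCm : ∀ {g : G}, g ∈ C ↔ x * g = g * x := by
    intro g
    rw [hC, Subgroup.mem_centralizer_singleton_iff, eq_comm]
  have hTC : rr x A ≤ C := fun g hg => hCm.2 (S.x_comm_T hg)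
  have hTp : IsPGroup 2 ((rr x A).subgroupOf C) :=
    S.pgroup_T.comap_of_injective C.subtype C.subtype_injective
  obtain ⟨P, hP⟩ := hTp.exists_le_sylow
  have hP2 : (P : Subgroup C).map C.subtype = rr x A := by
    refine S.eq_T (P.2.map _) ?_ ?_
    · rintro _ ⟨q, -, rfl⟩
      exact hCm.1 q.2
    · intro g hg
      exact ⟨⟨g, hTC hg⟩, hP hg, rfl⟩
  have hyp : IsPGroup 2 (Subgroup.zpowers (⟨y, hCm.2 hy⟩ : C)) := by
    obtain ⟨n, hn⟩ := hy2
    rintro ⟨_, k, rfl⟩
    refine ⟨n, Subtype.ext ?_⟩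
    show ((⟨y, hCm.2 hy⟩ : C) ^ k) ^ 2 ^ n = 1
    have h1 : (⟨y, hCm.2 hy⟩ : C) ^ 2 ^ n = 1 := Subtype.ext hn
    rw [← zpow_natCast, ← zpow_mul, mul_comm, zpow_mul, zpow_natCast, h1, one_zpow]
  obtain ⟨Q, hQ⟩ := hyp.exists_le_sylow
  obtain ⟨c, hc⟩ := MulAction.exists_smul_eq C Q P
  refine ⟨c, hCm.1 c.2, ?_⟩
  rw [← hP2]
  refine ⟨c * ⟨y, hCm.2 hy⟩ * c⁻¹, ?_, rfl⟩
  have h1 : (⟨y, hCm.2 hy⟩ : C) ∈ Q := hQ (Subgroup.mem_zpowers _)
  rw [← hc]
  have h2 : c * ⟨y, hCm.2 hy⟩ * c⁻¹ ∈ ((c • Q : Sylow 2 C) : Subgroup C) := by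
    rw [Sylow.coe_subgroup_smul]
    exact Subgroup.smul_mem_pointwise_smul _ (MulAut.conj c) _ h1
  exact h2

omit S in
/-- Membership in the normaliser of `T`. -/
theorem mem_N [Finite G] {n : G} (hn : ∀ g ∈ rr x A, n * g * n⁻¹ ∈ rr x A) :
    n ∈ Subgroup.normalizer (rr x A : Set G) := by
  have : Finite (rr x A : Set G) := Set.toFinite _
  exact Subgroup.mem_normalizer_fintype hn

omit S in
theorem N_conj {n : G} (hn : n ∈ Subgroup.normalizer (rr x A : Set G)) {g : G} (hg : g ∈ rr x A) :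
    n * g * n⁻¹ ∈ rr x A := (Subgroup.mem_normalizer_iff.1 hn g).1 hg

omit S in
theorem N_conj' {n : G} (hn : n ∈ Subgroup.normalizer (rr x A : Set G)) {g : G} (hg : g ∈ rr x A) :
    n⁻¹ * g * n ∈ rr x A := (Subgroup.mem_normalizer_iff''.1 hn g).1 hg

theorem h_mem [Finite G] : h ∈ Subgroup.normalizer (rr x A : Set G) := by
  refine mem_N (fun g hg => ?_)
  rw [S.mem_rrA] at hg ⊢
  rcases hg with h1 | h1
  · exact Or.inl (S.h_A g h1)
  · right
    have h2 := S.h_A _ h1
    have h3 : h * (x * g) * h⁻¹ = x * (h * g * h⁻¹) := by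
      rw [← mul_assoc, S.h_x]; group
    rwa [h3] at h2

/-- The case in which `N_G(T)` centralises `x`. -/
theorem isolated_of_fixed [Finite G]
    (hfix : ∀ n ∈ Subgroup.normalizer (rr x A : Set G), n * x * n⁻¹ = x) : Isolated x := by
  have : Fact (Nat.Prime 2) := ⟨Nat.prime_two⟩
  obtain ⟨P, hP⟩ := S.pgroup_T.exists_le_sylow
  have hPT : rr x A = P := by
    by_contra hne
    obtain ⟨y, hyP, hyT, hy⟩ := exists_mem_normalizer P.2 hP hne
    have h1 : y * x = x * y := by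
      have h2 := hfix y (mem_N hy)
      rwa [mul_inv_eq_iff_eq_mul] at h2
    have h3 : (P : Subgroup G) ⊓ Subgroup.centralizer ({x} : Set G) = rr x A := by
      refine S.eq_T (P.2.to_le inf_le_left) ?_ ?_
      · intro q hq
        exact (Subgroup.mem_centralizer_singleton_iff.1 hq.2).symm
      · intro g hg
        exact ⟨hP hg, Subgroup.mem_centralizer_singleton_iff.2 (S.x_comm_T hg).symm⟩
    apply hyT
    rw [← h3]
    exact ⟨hyP, Subgroup.mem_centralizer_singleton_iff.2 h1⟩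
  intro g hg
  set y := g * x * g⁻¹ with hy
  have hyy : y * y = 1 := by
    rw [hy, show g * x * g⁻¹ * (g * x * g⁻¹) = g * (x * x) * g⁻¹ by group, S.hx, mul_one, mul_inv_cancel]
  obtain ⟨c, hc, hcy⟩ := S.exists_conj_T hg ⟨1, by rw [pow_one, pow_two, hyy]⟩
  have h1 : c * y * c⁻¹ * (c * y * c⁻¹) = 1 := by
    rw [show c * y * c⁻¹ * (c * y * c⁻¹) = c * (y * y) * c⁻¹ by group, hyy, mul_one, mul_inv_cancel]
  have h2 := S.mem_of_sq_one hcy h1
  have hcent : ∀ z ∈ rr x Z, z ∈ Subgroup.centralizer (P : Set G) := by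
    intro z hz
    rw [Subgroup.mem_centralizer_iff]
    intro k hk
    have hk' : k ∈ rr x A := by rw [hPT]; exact hk
    exact (S.central hz hk').symm
  have hcy' : (c * g)⁻¹⁻¹ * x * (c * g)⁻¹ = c * y * c⁻¹ := by rw [hy]; group
  obtain ⟨n, hn, hnx⟩ := P.conj_eq_normalizer_conj_of_mem_centralizer x (c * g)⁻¹ (hcent x (self_mem_rr x Z))
    (by rw [hcy']; exact hcent _ h2)
  rw [hcy'] at hnx
  have hn' : n⁻¹ ∈ Subgroup.normalizer (rr x A : Set G) := by
    rw [hPT]
    exact inv_mem hn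
  have h3 := hfix _ hn'
  rw [inv_inv] at h3
  rw [h3] at hnx
  have h4 : y = c⁻¹ * x * c := by rw [← hnx]; group
  rw [h4, mul_assoc, hc, inv_mul_cancel_left]

/-- `φ n = [x, n]` for `n ∈ N_G(T)`. -/
theorem phi_mem {n : G} (hn : n ∈ Subgroup.normalizer (rr x A : Set G)) : x * (n * x * n⁻¹) ∈ Z :=
  S.conj_x (fun _ hg => N_conj hn hg) (fun _ hg => N_conj' hn hg)

theorem conj_eq {n : G} : n * x * n⁻¹ = x * (x * (n * x * n⁻¹)) := by
  rw [← mul_assoc, S.hx, one_mul]

theorem N_Z {n : G} (hn : n ∈ Subgroup.normalizer (rr x A : Set G)) {z : G} (hz : z ∈ Z) : n * z * n⁻¹ ∈ Z :=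
  S.norm_Z (fun _ hg => N_conj hn hg) hz

/-- If `n` moves `x` then all elements of `xZ` are conjugates `m x m⁻¹`, `m` in any `h`-invariant set containing
`n`. -/
theorem exists_conj_xz {n : G} (hn : n ∈ Subgroup.normalizer (rr x A : Set G)) (hne : n * x * n⁻¹ ≠ x)
    {z : G} (hz : z ∈ Z) (hz1 : z ≠ 1) : ∃ k : ℕ, (h ^ k * n * (h ^ k)⁻¹) * x * (h ^ k * n * (h ^ k)⁻¹)⁻¹ = x * z := by
  have h1 := S.phi_mem hn
  have h2 : x * (n * x * n⁻¹) ≠ 1 := by
    intro h3
    apply hne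
    rw [S.conj_eq, h3, mul_one]
  obtain ⟨k, hk⟩ := S.trans _ h1 z hz h2 hz1
  refine ⟨k, ?_⟩
  have hxk : Commute (h ^ k) x := (show Commute h x from S.h_x).pow_left k
  have h4 : (h ^ k)⁻¹ * x * h ^ k = x := by
    rw [mul_assoc, ← hxk.eq, inv_mul_cancel_left]
  calc (h ^ k * n * (h ^ k)⁻¹) * x * (h ^ k * n * (h ^ k)⁻¹)⁻¹
      = h ^ k * (n * ((h ^ k)⁻¹ * x * h ^ k) * n⁻¹) * (h ^ k)⁻¹ := by group
    _ = h ^ k * (n * x * n⁻¹) * (h ^ k)⁻¹ := by rw [h4]
    _ = h ^ k * (x * (x * (n * x * n⁻¹))) * (h ^ k)⁻¹ := by rw [← S.conj_eq]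
    _ = h ^ k * x * (x * (n * x * n⁻¹)) * (h ^ k)⁻¹ := by group
    _ = x * h ^ k * (x * (n * x * n⁻¹)) * (h ^ k)⁻¹ := by rw [hxk.eq]
    _ = x * (h ^ k * (x * (n * x * n⁻¹)) * (h ^ k)⁻¹) := by group
    _ = x * z := by rw [hk]

/-- Two elements of `T` commute only if ... -/
theorem cent_T {g k : G} (hg : g ∈ rr x A) (hk : k ∈ rr x A) (hgZ : g ∉ rr x Z) (hc : g * k = k * g) :
    k ∈ rr x Z ∨ g⁻¹ * k ∈ rr x Z := by
  have hxx : x ∈ rr x Z := self_mem_rr x Z
  have key : ∀ g ∈ rr x A, ∃ a ∈ A, ∃ e ∈ rr x Z, g = e * a := by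
    intro g hg
    rcases S.mem_rrA.1 hg with h1 | h1
    · exact ⟨g, h1, 1, Subgroup.one_mem _, by rw [one_mul]⟩
    · exact ⟨x * g, h1, x, hxx, by rw [← mul_assoc, S.hx, one_mul]⟩
  obtain ⟨a, ha, e, he, rfl⟩ := key g hg
  obtain ⟨b, hb, f, hf, rfl⟩ := key k hk
  have hb' := le_rr x A hb
  have ha' := le_rr x A ha
  have he1 := S.central he hb'
  have hf1 := S.central hf ha'
  have hef : e * f = f * e := S.central he (S.rrZ_le hf)
  have haZ : a ∉ Z := fun h1 => hgZ (Subgroup.mul_mem _ he (le_rr x Z h1))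
  have hab : a * b = b * a := by
    have h1 : e * f * (a * b) = e * f * (b * a) := by
      calc e * f * (a * b) = e * (f * a) * b := by group
        _ = e * a * (f * b) := by rw [hf1]; group
        _ = f * b * (e * a) := hc
        _ = f * (b * e) * a := by group
        _ = f * e * (b * a) := by rw [← he1]; group
        _ = e * f * (b * a) := by rw [hef]
    exact mul_left_cancel h1
  rcases S.cent a ha b hb haZ hab with h1 | h1
  · exact Or.inl (Subgroup.mul_mem _ hf (le_rr x Z h1))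
  · right
    have h2 : (e * a)⁻¹ * (f * b) = e⁻¹ * f * (a⁻¹ * b) := by
      have h3 : a⁻¹ * e⁻¹ = e⁻¹ * a⁻¹ := by
        rw [← mul_inv_rev, S.central he ha', mul_inv_rev]
      have h4 : a⁻¹ * f = f * a⁻¹ := by
        rw [inv_mul_eq_iff_eq_mul, ← mul_assoc, ← hf1, mul_assoc, mul_inv_cancel, mul_one]
      calc (e * a)⁻¹ * (f * b) = a⁻¹ * e⁻¹ * f * b := by group
        _ = e⁻¹ * (a⁻¹ * f) * b := by rw [h3]; group
        _ = e⁻¹ * f * (a⁻¹ * b) := by rw [h4]; group
    rw [h2]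
    exact Subgroup.mul_mem _ (Subgroup.mul_mem _ (Subgroup.inv_mem _ he) hf) (le_rr x Z h1)

/-- If the commutators of `s ∈ T` with `T` take at most two values then `s` is central. -/
theorem mem_of_two_values [Finite G] {s d : G} (hs : s ∈ rr x A)
    (hd : ∀ t ∈ rr x A, s * t * s⁻¹ = t ∨ s * t * s⁻¹ = t * d) (hdZ : d ∈ Z) : s ∈ rr x Z := by
  by_contra hsZ
  -- the centraliser of `s` in `T`
  let C : Subgroup G := rr x A ⊓ Subgroup.centralizer ({s} : Set G)
  have hCm : ∀ {g : G}, g ∈ C ↔ g ∈ rr x A ∧ s * g = g * s := by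
    intro g
    rw [Subgroup.mem_inf, Subgroup.mem_centralizer_singleton_iff]
    exact and_congr_right fun _ => eq_comm
  have hC1 : Nat.card C ≤ 32 := by
    have h1 : (C : Set G) ⊆ (rr x Z : Set G) ∪ (fun g => s * g) '' (rr x Z : Set G) := by
      intro g hg
      obtain ⟨hgT, hgs⟩ := hCm.1 hg
      rcases S.cent_T hs hgT hsZ hgs with h2 | h2
      · exact Or.inl h2
      · exact Or.inr ⟨_, h2, mul_inv_cancel_left s g⟩
    have h2 := Set.ncard_le_ncard h1 (Set.toFinite _)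
    have h3 := Set.ncard_union_le (rr x Z : Set G) ((fun g => s * g) '' (rr x Z : Set G))
    have h4 := Set.ncard_image_le (f := fun g => s * g) (Set.toFinite (rr x Z : Set G))
    have h5 : (rr x Z : Set G).ncard = 16 := by
      rw [← Nat.card_coe_set_eq]; exact S.card_ZT
    have h6 : Nat.card C = (C : Set G).ncard := by
      rw [← Nat.card_coe_set_eq]; rfl
    rw [h6]
    omega
  have hC2 : Nat.card (rr x A) ≤ 2 * Nat.card C := by
    by_cases hall : ∀ t ∈ rr x A, s * t * s⁻¹ = t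
    · have h1 : rr x A ≤ C := fun t ht => hCm.2 ⟨ht, by
        have := hall t ht
        rwa [mul_inv_eq_iff_eq_mul] at this⟩
      have h2 := Subgroup.card_le_of_le h1
      omega
    · push Not at hall
      obtain ⟨t1, ht1, hne⟩ := hall
      have h1 : s * t1 * s⁻¹ = t1 * d := (hd t1 ht1).resolve_left hne
      have h2 : (rr x A : Set G) ⊆ (C : Set G) ∪ (fun g => t1 * g) '' (C : Set G) := by
        intro t ht
        rcases hd t ht with h3 | h3
        · left
          refine hCm.2 ⟨ht, ?_⟩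
          rwa [mul_inv_eq_iff_eq_mul] at h3
        · right
          refine ⟨t1⁻¹ * t, hCm.2 ⟨Subgroup.mul_mem _ (Subgroup.inv_mem _ ht1) ht, ?_⟩, by
            show t1 * (t1⁻¹ * t) = t
            rw [mul_inv_cancel_left]⟩
          have h4 : s * (t1⁻¹ * t) * s⁻¹ = t1⁻¹ * t := by
            calc s * (t1⁻¹ * t) * s⁻¹ = (s * t1 * s⁻¹)⁻¹ * (s * t * s⁻¹) := by group
              _ = d⁻¹ * (t1⁻¹ * t) * d := by rw [h1, h3]; group
              _ = t1⁻¹ * t := by
                have h5 := S.central (le_rr x Z hdZ) (Subgroup.mul_mem _ (Subgroup.inv_mem _ ht1) ht)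
                rw [mul_assoc, ← h5, inv_mul_cancel_left]
          rwa [mul_inv_eq_iff_eq_mul] at h4
      have h3 := Set.ncard_le_ncard h2 (Set.toFinite _)
      have h4 := Set.ncard_union_le (C : Set G) ((fun g => t1 * g) '' (C : Set G))
      have h5 := Set.ncard_image_le (f := fun g => t1 * g) (Set.toFinite (C : Set G))
      have h6 : Nat.card C = (C : Set G).ncard := by
        rw [← Nat.card_coe_set_eq]; rfl
      have h7 : Nat.card (rr x A) = (rr x A : Set G).ncard := by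
        rw [← Nat.card_coe_set_eq]; rfl
      rw [h6, h7]
      omega
  have := S.card_T
  omega

/-- The homomorphism `n ↦ [x, n]` on `N_G(T) ∩ C_G(Z)`. -/
def phi : (Subgroup.normalizer (rr x A : Set G) ⊓ Subgroup.centralizer (Z : Set G) : Subgroup G) →* G where
  toFun n := x * (n * x * (n : G)⁻¹)
  map_one' := by simp [S.hx]
  map_mul' n m := by
    have h1 : x * ((m : G) * x * (m : G)⁻¹) ∈ Z := S.phi_mem m.2.1
    have h2 := Subgroup.mem_centralizer_iff.1 n.2.2 _ h1
    show x * ((n * m : G) * x * (n * m : G)⁻¹) = x * (n * x * (n : G)⁻¹) * (x * (m * x * (m : G)⁻¹))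
    calc x * ((n * m : G) * x * (n * m : G)⁻¹) = x * (n * (m * x * (m : G)⁻¹) * (n : G)⁻¹) := by group
      _ = x * (n * (x * (x * (m * x * (m : G)⁻¹))) * (n : G)⁻¹) := by rw [← S.conj_eq]
      _ = x * (n * x * ((x * (m * x * (m : G)⁻¹)) * (n : G)⁻¹)) := by group
      _ = x * (n * x * ((n : G)⁻¹ * (n * (x * (m * x * (m : G)⁻¹))) * (n : G)⁻¹)) := by group
      _ = x * (n * x * ((n : G)⁻¹ * ((x * (m * x * (m : G)⁻¹)) * n) * (n : G)⁻¹)) := by rw [h2]
      _ = x * (n * x * (n : G)⁻¹) * (x * (m * x * (m : G)⁻¹)) := by group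

theorem phi_apply (n : (Subgroup.normalizer (rr x A : Set G) ⊓ Subgroup.centralizer (Z : Set G) : Subgroup G)) :
    S.phi n = x * (n * x * (n : G)⁻¹) := rfl

theorem range_phi [Finite G] {r : G} (hr : r ∈ Subgroup.normalizer (rr x A : Set G))
    (hrZ : ∀ z ∈ Z, r * z = z * r) (hne : r * x * r⁻¹ ≠ x) : S.phi.range = Z := by
  refine le_antisymm ?_ ?_
  · rintro _ ⟨n, rfl⟩
    exact S.phi_mem n.2.1
  · intro z hz
    by_cases hz1 : z = 1
    · rw [hz1]; exact Subgroup.one_mem _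
    · obtain ⟨k, hk⟩ := S.exists_conj_xz hr hne hz hz1
      have hhk : h ^ k ∈ Subgroup.normalizer (rr x A : Set G) := Subgroup.pow_mem _ S.h_mem k
      have hm : h ^ k * r * (h ^ k)⁻¹ ∈ Subgroup.normalizer (rr x A : Set G) ⊓ Subgroup.centralizer (Z : Set G) := by
        refine ⟨Subgroup.mul_mem _ (Subgroup.mul_mem _ hhk hr) (Subgroup.inv_mem _ hhk), ?_⟩
        refine Subgroup.mem_centralizer_iff.2 ?_
        intro w hw
        have h1 : (h ^ k)⁻¹ * w * h ^ k ∈ Z := by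
          have := S.N_Z (Subgroup.inv_mem _ hhk) hw
          rwa [inv_inv] at this
        have h2 := hrZ _ h1
        calc w * (h ^ k * r * (h ^ k)⁻¹) = h ^ k * (((h ^ k)⁻¹ * w * h ^ k) * r) * (h ^ k)⁻¹ := by group
          _ = h ^ k * (r * ((h ^ k)⁻¹ * w * h ^ k)) * (h ^ k)⁻¹ := by rw [h2]
          _ = h ^ k * r * (h ^ k)⁻¹ * w := by group
      refine ⟨⟨_, hm⟩, ?_⟩
      rw [phi_apply]
      show x * (h ^ k * r * (h ^ k)⁻¹ * x * (h ^ k * r * (h ^ k)⁻¹)⁻¹) = z
      rw [hk, ← mul_assoc, S.hx, one_mul]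

theorem case_a [Finite G] (hrank : ∀ X Y : Subgroup G, ElemSection 2 X Y → Nat.card X ≤ 2 ^ 5 * Nat.card Y) {r : G}
    (hr : r ∈ Subgroup.normalizer (rr x A : Set G)) (hrZ : ∀ z ∈ Z, r * z = z * r) (hne : r * x * r⁻¹ ≠ x) :
    False := by
  have : Fact (Nat.Prime 2) := ⟨Nat.prime_two⟩
  set R : Subgroup G := Subgroup.normalizer (rr x A : Set G) ⊓ Subgroup.centralizer (Z : Set G) with hR
  have hTR : rr x A ≤ R := by
    intro g hg
    refine ⟨Subgroup.le_normalizer hg, ?_⟩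
    refine Subgroup.mem_centralizer_iff.2 ?_
    intro z hz
    exact S.central (le_rr x Z hz) hg
  have hTp : IsPGroup 2 ((rr x A).subgroupOf R) :=
    S.pgroup_T.comap_of_injective R.subtype R.subtype_injective
  have hcardT : Nat.card ((rr x A).subgroupOf R) = 128 := by
    rw [← S.card_T]
    exact Nat.card_congr (Subgroup.subgroupOfEquivOfLe hTR).toEquiv
  -- the order of `R`
  have hcard : 2 ^ 10 ∣ Nat.card R := by
    have h1 : Nat.card R = Nat.card S.phi.ker * Nat.card S.phi.range := by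
      rw [← Subgroup.index_ker, Subgroup.card_mul_index]
    rw [h1, S.range_phi hr hrZ hne, S.cardZ]
    have h2 : (rr x A).subgroupOf R ≤ S.phi.ker := by
      intro g hg
      rw [MonoidHom.mem_ker, phi_apply]
      have h3 := S.x_comm_T (g := g) hg
      rw [← h3, mul_inv_cancel_right, S.hx]
    have h3 := Subgroup.card_dvd_of_le h2
    rw [hcardT] at h3
    calc 2 ^ 10 = 128 * 8 := by norm_num
      _ ∣ _ := Nat.mul_dvd_mul_right h3 8
  obtain ⟨P, hP⟩ := hTp.exists_le_sylow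
  have hPcard : 2 ^ 10 ∣ Nat.card P := P.pow_dvd_card_of_pow_dvd_card hcard
  set W : Subgroup G := (P : Subgroup R).map R.subtype with hW
  have hWR : W ≤ R := by
    rintro _ ⟨g, -, rfl⟩
    exact g.2
  have hWp : IsPGroup 2 W := P.2.map _
  have hTW : rr x A ≤ W := fun g hg => ⟨⟨g, hTR hg⟩, hP hg, rfl⟩
  have hWcard : 2 ^ 10 ≤ Nat.card W := by
    rw [hW, Subgroup.card_map_of_injective R.subtype_injective]
    exact Nat.le_of_dvd Nat.card_pos hPcard
  -- `W ∩ C(x) = T`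
  have hWx : W ⊓ Subgroup.centralizer ({x} : Set G) = rr x A := by
    refine S.eq_T (hWp.to_le inf_le_left) ?_ ?_
    · intro q hq
      exact (Subgroup.mem_centralizer_singleton_iff.1 hq.2).symm
    · intro g hg
      exact ⟨hTW hg, Subgroup.mem_centralizer_singleton_iff.2 (S.x_comm_T hg).symm⟩
  -- squares of elements of `W` lie in `Z ∪ xZ`
  have hsq : ∀ w ∈ W, w * w ∈ rr x Z := by
    intro w hw
    have hwN : w ∈ Subgroup.normalizer (rr x A : Set G) := (hWR hw).1
    have hwZ : ∀ z ∈ Z, w * z * w⁻¹ = z := by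
      intro z hz
      have := Subgroup.mem_centralizer_iff.1 (hWR hw).2 z hz
      rw [← this, mul_inv_cancel_right]
    set d := x * (w * x * w⁻¹) with hd
    have hdZ : d ∈ Z := S.phi_mem hwN
    have hwx : w * x * w⁻¹ = x * d := S.conj_eq
    have hxd : x * d = d * x := S.comm d (S.le hdZ)
    have hsx : w * w * x = x * (w * w) := by
      have h1 : w * w * x * (w * w)⁻¹ = x := by
        calc w * w * x * (w * w)⁻¹ = w * (w * x * w⁻¹) * w⁻¹ := by group
          _ = w * (x * d) * w⁻¹ := by rw [hwx]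
          _ = (w * x * w⁻¹) * (w * d * w⁻¹) := by group
          _ = x * (d * d) := by rw [hwx, hwZ d hdZ, mul_assoc]
          _ = x := by rw [S.Z_sq d hdZ, mul_one]
      rwa [mul_inv_eq_iff_eq_mul] at h1
    have hsT : w * w ∈ rr x A := by
      rw [← hWx]
      exact ⟨W.mul_mem hw hw, Subgroup.mem_centralizer_singleton_iff.2 hsx⟩
    refine S.mem_of_two_values (d := d) hsT ?_ hdZ
    intro t ht
    -- `w t w⁻¹ = t e`
    have hwt : w * t * w⁻¹ ∈ rr x A := N_conj hwN ht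
    have h1 : t * t = w * t * w⁻¹ * (w * t * w⁻¹) := by
      rw [show w * t * w⁻¹ * (w * t * w⁻¹) = w * (t * t) * w⁻¹ by group, hwZ _ (S.sq_T ht)]
    have he := S.sq_inj_T ht hwt h1
    set e := t⁻¹ * (w * t * w⁻¹) with he'
    have hwt' : w * t * w⁻¹ = t * e := by rw [he', mul_inv_cancel_left]
    have h2 : w * w * t * (w * w)⁻¹ = t * (e * (w * e * w⁻¹)) := by
      calc w * w * t * (w * w)⁻¹ = w * (w * t * w⁻¹) * w⁻¹ := by group
        _ = w * (t * e) * w⁻¹ := by rw [hwt']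
        _ = (w * t * w⁻¹) * (w * e * w⁻¹) := by group
        _ = t * (e * (w * e * w⁻¹)) := by rw [hwt', mul_assoc]
    rcases S.mem_rrZ.1 he with h3 | h3
    · left
      rw [h2, hwZ e h3, S.Z_sq e h3, mul_one]
    · right
      obtain ⟨f, hf⟩ : ∃ f, f = x * e := ⟨_, rfl⟩
      rw [← hf] at h3
      have h4 : e = x * f := by rw [hf, ← mul_assoc, S.hx, one_mul]
      have h5 : w * e * w⁻¹ = x * d * f := by
        calc w * e * w⁻¹ = w * (x * f) * w⁻¹ := by rw [← h4]
          _ = (w * x * w⁻¹) * (w * f * w⁻¹) := by group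
          _ = x * d * f := by rw [hwx, hwZ _ h3]
      have h6 : e * (x * d * f) = d := by
        have h8 : f * d = d * f := S.cen _ h3 d (S.le hdZ)
        calc e * (x * d * f) = x * (f * x) * (d * f) := by rw [h4]; group
          _ = x * x * (f * d) * f := by rw [← S.comm _ (S.le h3)]; group
          _ = d * (f * f) := by rw [S.hx, h8]; group
          _ = d := by rw [S.Z_sq f h3, mul_one]
      rw [h2, h5, h6]
  -- the elementary abelian section `W / (Z ∪ xZ)`
  have hnorm : ∀ w ∈ W, ∀ e ∈ rr x Z, w * e * w⁻¹ ∈ rr x Z := by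
    intro w hw e he
    have hwN : w ∈ Subgroup.normalizer (rr x A : Set G) := (hWR hw).1
    have hwx : w * x * w⁻¹ ∈ rr x Z := by
      rw [S.conj_eq]
      exact Subgroup.mul_mem _ (self_mem_rr x Z) (le_rr x Z (S.phi_mem hwN))
    rcases S.mem_rrZ.1 he with h1 | h1
    · exact le_rr x Z (S.N_Z hwN h1)
    · have h2 : w * e * w⁻¹ = (w * x * w⁻¹)  * (w * (x * e) * w⁻¹) := by
        calc w * e * w⁻¹ = w * ((x * x) * e) * w⁻¹ := by rw [S.hx, one_mul]
          _ = _ := by group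
      rw [h2]
      exact Subgroup.mul_mem _ hwx (le_rr x Z (S.N_Z hwN h1))
  have hsec : ElemSection 2 W (rr x Z) := by
    refine ⟨S.rrZ_le.trans hTW, ?_, fun w hw => by rw [pow_two]; exact hsq w hw⟩
    intro a ha b hb
    have h1 : a * b * a⁻¹ * b⁻¹ = (a * b) * (a * b) * (b⁻¹ * (a * a)⁻¹ * b⁻¹⁻¹) * (b * b)⁻¹ := by group
    rw [h1]
    refine Subgroup.mul_mem _ (Subgroup.mul_mem _ (hsq _ (W.mul_mem ha hb)) ?_) (Subgroup.inv_mem _ (hsq b hb))
    exact hnorm _ (W.inv_mem hb) _ (Subgroup.inv_mem _ (hsq a ha))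
  have h1 := hrank W (rr x Z) hsec
  rw [S.card_ZT] at h1
  have h2 := hWcard.trans h1
  norm_num at h2

/-- Elements of `Z ∪ xZ` have square `1`. -/
theorem sq_rrZ {e : G} (he : e ∈ rr x Z) : e * e = 1 := by
  rcases S.mem_rrZ.1 he with h1 | h1
  · exact S.Z_sq e h1
  · have h2 := S.x_comm_T (S.rrZ_le he)
    calc e * e = x * x * e * e := by rw [S.hx, one_mul]
      _ = x * (x * e) * e := by group
      _ = x * (e * x) * e := by rw [h2]
      _ = x * e * (x * e) := by group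
      _ = 1 := S.Z_sq _ h1

/-- Some 2-element of `N_G(T)` moves `x`. -/
theorem exists_two_element [Finite G] {n : G} (hn : n ∈ Subgroup.normalizer (rr x A : Set G))
    (hne : n * x * n⁻¹ ≠ x) : ∃ p ∈ Subgroup.normalizer (rr x A : Set G), (∃ k : ℕ, p ^ 2 ^ k = 1) ∧
      p * x * p⁻¹ ≠ x := by
  have : Fact (Nat.Prime 2) := ⟨Nat.prime_two⟩
  set N : Subgroup G := Subgroup.normalizer (rr x A : Set G) with hN
  let _ : MulAction N G := MulAction.compHom G (MulAut.conj.comp N.subtype)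
  have hsmul : ∀ (m : N) (g : G), m • g = m * g * (m : G)⁻¹ := fun m g => rfl
  have horb : MulAction.orbit N x = (fun z => x * z) '' (Z : Set G) := by
    ext g
    constructor
    · rintro ⟨m, rfl⟩
      exact ⟨_, S.phi_mem m.2, S.conj_eq.symm⟩
    · rintro ⟨z, hz, rfl⟩
      by_cases hz1 : z = 1
      · refine ⟨1, ?_⟩
        show (1 : N) • x = x * z
        rw [hz1, one_smul, mul_one]
      · obtain ⟨k, hk⟩ := S.exists_conj_xz hn hne hz hz1
        have hhk : h ^ k ∈ N := Subgroup.pow_mem _ S.h_mem k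
        exact ⟨⟨h ^ k * n * (h ^ k)⁻¹, N.mul_mem (N.mul_mem hhk hn) (N.inv_mem hhk)⟩, hk⟩
  have hind : (MulAction.stabilizer N x).index = 8 := by
    rw [MulAction.index_stabilizer, horb, Set.ncard_image_of_injective _ (mul_right_injective x),
      ← Nat.card_coe_set_eq]
    exact S.cardZ
  let P : Sylow 2 N := default
  by_contra hcon
  push Not at hcon
  have hP : (P : Subgroup N) ≤ MulAction.stabilizer N x := by
    intro p hp
    rw [MulAction.mem_stabilizer_iff, hsmul]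
    refine hcon p p.2 ?_
    obtain ⟨k, hk⟩ := P.2 ⟨p, hp⟩
    exact ⟨k, congrArg (fun q : P => ((q : N) : G)) hk⟩
  have h1 := Subgroup.index_dvd_of_le hP
  rw [hind] at h1
  exact P.not_dvd_index ((by norm_num : 2 ∣ 8).trans h1)

theorem exists_inv_mod [Finite G] {n : G} (hn : n ∈ Subgroup.normalizer (rr x A : Set G)) (hne : n * x * n⁻¹ ≠ x)
    (hR : ∀ r ∈ Subgroup.normalizer (rr x A : Set G), (∀ z ∈ Z, r * z = z * r) → r * x * r⁻¹ = x) :
    ∃ g ∈ Subgroup.normalizer (rr x A : Set G), (∀ z ∈ Z, g * g * z = z * (g * g)) ∧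
      ¬ ∀ z ∈ Z, g * z = z * g := by
  obtain ⟨p, hp, ⟨k, hk⟩, hpx⟩ := S.exists_two_element hn hne
  have hex : ∃ j : ℕ, ∀ z ∈ Z, p ^ 2 ^ j * z = z * p ^ 2 ^ j := ⟨k, fun z _ => by rw [hk, one_mul, mul_one]⟩
  classical
  have h1 := Nat.find_spec hex
  have h2 := fun m (hm : m < Nat.find hex) => Nat.find_min hex hm
  set j := Nat.find hex with hj
  have hj0 : j ≠ 0 := by
    intro h0
    rw [h0, pow_zero, pow_one] at h1
    exact hpx (hR p hp h1)
  obtain ⟨i, hi⟩ := Nat.exists_eq_succ_of_ne_zero hj0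
  refine ⟨p ^ 2 ^ i, Subgroup.pow_mem _ hp _, ?_, h2 i (by omega)⟩
  intro z hz
  have h3 := h1 z hz
  rw [hi, pow_succ, pow_mul, pow_two] at h3
  exact h3

/-- An element inducing an involution on `Z` centralises exactly four elements of `Z`. -/
theorem card_cent [Finite G] {g : G} (hg : ∀ z ∈ Z, g * z * g⁻¹ ∈ Z) (hgg : ∀ z ∈ Z, g * g * z = z * (g * g))
    (hne : ¬ ∀ z ∈ Z, g * z = z * g) : Nat.card (Z ⊓ Subgroup.centralizer ({g} : Set G) : Subgroup G) = 4 := by
  have hcomm : ∀ z ∈ Z, ∀ w ∈ Z, z * w = w * z := fun z hz w hw => S.cen z hz w (S.le hw)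
  let f : Z →* G :=
    { toFun := fun z => z * (g * z * g⁻¹)
      map_one' := by simp
      map_mul' := by
        intro z w
        have h1 := hcomm _ (hg z z.2) w w.2
        show (z * w : G) * (g * (z * w) * g⁻¹) = z * (g * z * g⁻¹) * (w * (g * w * g⁻¹))
        calc (z * w : G) * (g * (z * w) * g⁻¹) = z * (w * (g * z * g⁻¹)) * (g * w * g⁻¹) := by group
          _ = z * ((g * z * g⁻¹) * w) * (g * w * g⁻¹) := by rw [h1]
          _ = _ := by group }
  have hf : ∀ z : Z, f z = z * (g * z * g⁻¹) := fun z => rfl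
  set C : Subgroup G := Z ⊓ Subgroup.centralizer ({g} : Set G) with hC
  have hCm : ∀ {z : G}, z ∈ C ↔ z ∈ Z ∧ g * z * g⁻¹ = z := by
    intro z
    rw [hC, Subgroup.mem_inf, Subgroup.mem_centralizer_singleton_iff, mul_inv_eq_iff_eq_mul]
    exact and_congr_right fun _ => eq_comm
  have hker : Nat.card f.ker = Nat.card C := by
    refine Nat.card_congr ⟨fun z => ⟨(z : Z), hCm.2 ⟨(z : Z).2, ?_⟩⟩, fun c => ⟨⟨c, (hCm.1 c.2).1⟩, ?_⟩, ?_, ?_⟩
    · have h1 : ((z : Z) : G) * (g * (z : Z) * g⁻¹) = 1 := z.2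
      rw [← mul_right_inj ((z : Z) : G), h1, S.Z_sq _ (z : Z).2]
    · rw [MonoidHom.mem_ker, hf]
      show (c : G) * (g * c * g⁻¹) = 1
      rw [(hCm.1 c.2).2, S.Z_sq _ (hCm.1 c.2).1]
    · intro z; rfl
    · intro c; rfl
  have hran : f.range ≤ C := by
    rintro _ ⟨z, rfl⟩
    rw [hf]
    refine hCm.2 ⟨Z.mul_mem z.2 (hg z z.2), ?_⟩
    have h1 : g * (g * z * g⁻¹) * g⁻¹ = z := by
      calc g * (g * z * g⁻¹) * g⁻¹ = g * g * z * (g * g)⁻¹ := by group
        _ = z := by rw [hgg z z.2, mul_inv_cancel_right]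
    calc g * (z * (g * z * g⁻¹)) * g⁻¹ = (g * z * g⁻¹) * (g * (g * z * g⁻¹) * g⁻¹) := by group
      _ = (g * z * g⁻¹) * z := by rw [h1]
      _ = z * (g * z * g⁻¹) := hcomm _ (hg z z.2) _ z.2
  have h1 : Nat.card Z = Nat.card f.ker * Nat.card f.range := by
    rw [← Subgroup.index_ker, Subgroup.card_mul_index]
  rw [S.cardZ, hker] at h1
  have h2 := Subgroup.card_le_of_le hran
  have h3 : Nat.card C ∣ 8 := ⟨_, h1⟩
  have h4 : Nat.card C ≠ 8 := by
    intro h5
    apply hne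
    intro z hz
    have h6 : C = Z := Subgroup.eq_of_le_of_card_ge inf_le_left (by rw [h5, S.cardZ])
    rw [← h6] at hz
    have := (hCm.1 hz).2
    rwa [mul_inv_eq_iff_eq_mul] at this
  have h5 : Nat.card C ∈ Nat.divisors 8 := Nat.mem_divisors.2 ⟨h3, by norm_num⟩
  have h6 : Nat.divisors 8 = {1, 2, 4, 8} := by decide
  rw [h6] at h5
  simp only [Finset.mem_insert, Finset.mem_singleton] at h5
  rcases h5 with h5 | h5 | h5 | h5
  · rw [h5] at h1 h2; omega
  · rw [h5] at h1 h2; omega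
  · exact h5
  · exact absurd h5 h4

theorem case_b [Finite G] {n : G} (hn : n ∈ Subgroup.normalizer (rr x A : Set G)) (hne : n * x * n⁻¹ ≠ x)
    (hR : ∀ r ∈ Subgroup.normalizer (rr x A : Set G), (∀ z ∈ Z, r * z = z * r) → r * x * r⁻¹ = x) : False := by
  obtain ⟨g, hgN, hgg, hgz⟩ := S.exists_inv_mod hn hne hR
  set C : Subgroup G := Z ⊓ Subgroup.centralizer ({g} : Set G) with hC
  have hCm : ∀ {z : G}, z ∈ C ↔ z ∈ Z ∧ g * z * g⁻¹ = z := by
    intro z
    rw [hC, Subgroup.mem_inf, Subgroup.mem_centralizer_singleton_iff, mul_inv_eq_iff_eq_mul]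
    exact and_congr_right fun _ => eq_comm
  have hcard : (C : Set G).ncard = 4 := by
    rw [← Nat.card_coe_set_eq]
    exact S.card_cent (fun z hz => S.N_Z hgN hz) hgg hgz
  -- two different non-trivial elements of `C`
  obtain ⟨a, haC, ha1⟩ : ∃ a ∈ C, a ≠ 1 := by
    by_contra hcon
    push Not at hcon
    have h1 : (C : Set G) ⊆ {1} := fun z hz => hcon z hz
    have h2 := Set.ncard_le_ncard h1 (Set.toFinite _)
    rw [hcard, Set.ncard_singleton] at h2
    omega
  obtain ⟨b, hbC, hb1, hba⟩ : ∃ b ∈ C, b ≠ 1 ∧ b ≠ a := by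
    by_contra hcon
    push Not at hcon
    have h1 : (C : Set G) ⊆ {1, a} := by
      intro z hz
      by_cases hz1 : z = 1
      · exact Or.inl hz1
      · exact Or.inr (hcon z hz hz1)
    have h2 := Set.ncard_le_ncard h1 (Set.toFinite _)
    have h3 := Set.ncard_insert_le (1 : G) {a}
    rw [Set.ncard_singleton] at h3
    omega
  have haa : a * a = 1 := S.Z_sq a (hCm.1 haC).1
  have hbb : b * b = 1 := S.Z_sq b (hCm.1 hbC).1
  have hfour : ∀ c ∈ C, c = 1 ∨ c = a ∨ c = b ∨ c = a * b := by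
    have h1 : ({1, a, b, a * b} : Set G) ⊆ (C : Set G) := by
      rintro z (rfl | rfl | rfl | rfl)
      · exact C.one_mem
      · exact haC
      · exact hbC
      · exact C.mul_mem haC hbC
    have h2 : ({1, a, b, a * b} : Set G).ncard = 4 := by
      have e1 : a * b ≠ 1 := fun h1 => hba (by
        have h2 := congrArg (a * ·) h1
        simp only [← mul_assoc, haa, one_mul, mul_one] at h2
        exact h2)
      have e2 : a * b ≠ a := fun h1 => hb1 (mul_eq_left.1 h1)
      have e3 : a * b ≠ b := fun h1 => ha1 (mul_eq_right.1 h1)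
      rw [Set.ncard_insert_of_notMem (by
          simp only [Set.mem_insert_iff, Set.mem_singleton_iff, not_or]
          exact ⟨fun h => ha1 h.symm, fun h => hb1 h.symm, fun h => e1 h.symm⟩),
        Set.ncard_insert_of_notMem (by
          simp only [Set.mem_insert_iff, Set.mem_singleton_iff, not_or]
          exact ⟨fun h => hba h.symm, fun h => e2 h.symm⟩),
        Set.ncard_insert_of_notMem (by
          simp only [Set.mem_singleton_iff]
          exact fun h => e3 h.symm), Set.ncard_singleton]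
    have h3 := Set.eq_of_subset_of_ncard_le h1 (by rw [h2, hcard]) (Set.toFinite _)
    intro c hc
    have h4 : c ∈ ({1, a, b, a * b} : Set G) := by rw [h3]; exact hc
    exact h4
  obtain ⟨s, hs, rfl⟩ := S.exists_sq (hCm.1 haC).1
  obtain ⟨t, ht, rfl⟩ := S.exists_sq (hCm.1 hbC).1
  have hsT := le_rr x A hs
  have htT := le_rr x A ht
  have hsZ : s ∉ rr x Z := fun h1 => ha1 (S.sq_rrZ h1)
  have htZ : t ∉ rr x Z := fun h1 => hb1 (S.sq_rrZ h1)
  have hstZ : s⁻¹ * t ∉ rr x Z := by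
    intro h1
    apply hba
    have h2 := S.central h1 htT
    have h3 := S.central h1 hsT
    obtain ⟨e, he⟩ : ∃ e, e = s⁻¹ * t := ⟨_, rfl⟩
    rw [← he] at h1 h2 h3
    have h4 : t = s * e := by rw [he, mul_inv_cancel_left]
    calc t * t = s * (e * s) * e := by rw [h4]; group
      _ = s * s * (e * e) := by rw [h3]; group
      _ = s * s := by rw [S.sq_rrZ h1, mul_one]
  -- `g` fixes the square of `s t`
  have hfix : ∀ u ∈ rr x A, g * (u * u) * g⁻¹ = u * u → u⁻¹ * (g * u * g⁻¹) ∈ rr x Z := by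
    intro u hu h1
    refine S.sq_inj_T hu (N_conj hgN hu) ?_
    rw [show g * u * g⁻¹ * (g * u * g⁻¹) = g * (u * u) * g⁻¹ by group, h1]
  have h1 := hfix s hsT (hCm.1 haC).2
  have h2 := hfix t htT (hCm.1 hbC).2
  have hstT : s * t ∈ rr x A := Subgroup.mul_mem _ hsT htT
  have h3 : (s * t) * (s * t) ∈ C := by
    refine hCm.2 ⟨S.sq_T hstT, ?_⟩
    obtain ⟨e, he⟩ : ∃ e, e = s⁻¹ * (g * s * g⁻¹) := ⟨_, rfl⟩
    obtain ⟨f, hf⟩ : ∃ f, f = t⁻¹ * (g * t * g⁻¹) := ⟨_, rfl⟩
    rw [← he] at h1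
    rw [← hf] at h2
    have he' : g * s * g⁻¹ = s * e := by rw [he, mul_inv_cancel_left]
    have hf' : g * t * g⁻¹ = t * f := by rw [hf, mul_inv_cancel_left]
    have h4 : g * (s * t) * g⁻¹ = s * t * (e * f) := by
      calc g * (s * t) * g⁻¹ = (g * s * g⁻¹) * (g * t * g⁻¹) := by group
        _ = s * (e * t) * f := by rw [he', hf']; group
        _ = s * t * (e * f) := by rw [S.central h1 htT]; group
    have h5 : e * f ∈ rr x Z := Subgroup.mul_mem _ h1 h2
    calc g * (s * t * (s * t)) * g⁻¹ = (g * (s * t) * g⁻¹) * (g * (s * t) * g⁻¹) := by group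
      _ = s * t * (e * f) * (s * t * (e * f)) := by rw [h4]
      _ = s * t * ((e * f) * (s * t)) * (e * f) := by group
      _ = s * t * (s * t) * ((e * f) * (e * f)) := by rw [S.central h5 hstT]; group
      _ = s * t * (s * t) := by rw [S.sq_rrZ h5, mul_one]
  rcases hfour _ h3 with h4 | h4 | h4 | h4
  · -- `(st)^2 = 1`
    have h5 := S.mem_of_sq_one hstT h4
    apply hstZ
    have h6 : s⁻¹ * t = (s * s)⁻¹ * (s * t) := by group
    rw [h6]
    exact Subgroup.mul_mem _ (Subgroup.inv_mem _ (le_rr x Z (S.sq s hs))) h5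
  · have h5 := S.sq_inj_T hsT hstT h4.symm
    rw [inv_mul_cancel_left] at h5
    exact htZ h5
  · have h5 := S.sq_inj_T hstT htT h4
    have h6 : (s * t)⁻¹ * t = t⁻¹ * s⁻¹ * t := by group
    rw [h6] at h5
    have h7 := S.central h5 htT
    have h8 : t⁻¹ * s⁻¹ * t = s⁻¹ := by
      have h9 : t * (t⁻¹ * s⁻¹ * t) = s⁻¹ * t := by group
      rw [← h7] at h9
      exact mul_right_cancel h9
    rw [h8] at h5
    apply hsZ
    have := Subgroup.inv_mem _ h5
    rwa [inv_inv] at this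
  · have h5 : s * t = t * s := by
      have h6 : s * (t * s) * t = s * (s * t) * t := by
        calc s * (t * s) * t = s * t * (s * t) := by group
          _ = s * s * (t * t) := h4
          _ = s * (s * t) * t := by group
      exact (mul_left_cancel (mul_right_cancel h6)).symm
    rcases S.cent_T hsT htT hsZ h5 with h6 | h6
    · exact htZ h6
    · exact hstZ h6

/-- **GH-E, case `Sz(8)`**: the involution `x` is isolated. -/
theorem isolated [Finite G] (hrank : ∀ X Y : Subgroup G, ElemSection 2 X Y → Nat.card X ≤ 2 ^ 5 * Nat.card Y) :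
    Isolated x := by
  by_cases hfix : ∀ n ∈ Subgroup.normalizer (rr x A : Set G), n * x * n⁻¹ = x
  · exact S.isolated_of_fixed hfix
  · push Not at hfix
    obtain ⟨n, hn, hne⟩ := hfix
    exfalso
    by_cases hR : ∀ r ∈ Subgroup.normalizer (rr x A : Set G), (∀ z ∈ Z, r * z = z * r) → r * x * r⁻¹ = x
    · exact S.case_b hn hne hR
    · push Not at hR
      obtain ⟨r, hr, hrZ, hrx⟩ := hR
      exact S.case_a hrank hr hrZ hrx

end Suz

end Cfsg.Agent.GH.E
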