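import Cfsg.Agent.GH.ETowerStep

/-!
# GH-E: the tower
-/

set_option autoImplicit false

namespace Cfsg.Agent.GH.E

variable {G : Type*} [Group G] {x h : G} {E U P : Subgroup G} {k : ℕ}

/-- The exotic case (b): `P / R` is faithful on `E` and all conjugates of `x` in `P` lie in `xU`. -/
structure Exotic (x : G) (E U P : Subgroup G) (h : G) : Prop where
  level : Level x E U h
  top : Top x U P
  faithful : ∀ p ∈ P, (∀ e ∈ E, p * e = e * p) → p ∈ rr x U
  conj : ∀ g : G, g * x * g⁻¹ ∈ P → x * (g * x * g⁻¹) ∈ U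

/-- Levels `k ≥ 2`. -/
theorem false_of_level [Finite G] (hidx : ∀ K : Subgroup G, K.index ≠ 2)
    (hr : Cfsg.SectionalPRankLE 2 4 G) (B : Base x E)
    (hex : ∀ (U P : Subgroup G) (h : G), Exotic x E U P h → False) :
    ∀ (n : ℕ) (U : Subgroup G) (h : G), Nat.card G - Nat.card U ≤ n → Level x E U h →
      (∃ w ∈ U, w ∉ E) → False := by
  intro n
  induction n with
  | zero =>
    intro U h hn L hUE
    -- then `U = G`, and `x ∈ U`
    have h1 : Nat.card U = Nat.card G := le_antisymm (Subgroup.card_le_card_group U) (by omega)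
    have h2 := Subgroup.eq_top_of_card_eq U h1
    exact L.x_notMem B (h2 ▸ Subgroup.mem_top x)
  | succ n ih =>
    intro U h hn L hUE
    obtain ⟨k, X⟩ := L.exists_expo B
    have hN := L.normU B hUE
    by_cases hfix : ∀ g ∈ Subgroup.normalizer (rr x U : Set G), (x * (g * x * g⁻¹)) ^ 2 ^ k = 1
    · exact L.false_of_fixed hidx B X hUE hfix
    by_cases ha : ∃ g ∈ Subgroup.normalizer (rr x U : Set G), (∀ e ∈ E, g * e = e * g) ∧
        (x * (g * x * g⁻¹)) ^ 2 ^ k ≠ 1
    · -- case (a)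
      obtain ⟨g, hg, hgE, hg1⟩ := ha
      obtain ⟨P, h', A⟩ := L.exists_topA B X hN hg hgE hg1
      obtain ⟨V, LV, hUV⟩ := A.step B X hidx hr
      obtain ⟨w, hw, hwE⟩ := hUE
      have h3 : Nat.card U < Nat.card V := by
        by_contra hcon
        push Not at hcon
        exact hUV.ne (Subgroup.eq_of_le_of_card_ge hUV.le hcon)
      have h4 : Nat.card V ≤ Nat.card G := Subgroup.card_le_card_group V
      exact ih V h' (by omega) LV ⟨w, hUV.le hw, hwE⟩
    · -- case (b)
      push Not at hfix ha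
      obtain ⟨g, hg, hg1⟩ := hfix
      have hUN : U ≤ Subgroup.normalizer (rr x U : Set G) := (le_rr x U).trans Subgroup.le_normalizer
      have hhN := L.h_mem_normalizer B
      have htr := L.transOn B X hN hUN le_rfl
        (fun y hy => Subgroup.mul_mem _ (Subgroup.mul_mem _ hhN hy) (Subgroup.inv_mem _ hhN)) hg hg1
      obtain ⟨P, T, _⟩ := L.exists_top B hN Subgroup.le_normalizer le_rfl htr
      have hf : ∀ p ∈ P, (∀ e ∈ E, p * e = e * p) → p ∈ rr x U := fun p hp hpE =>
        L.eq_rr B X hN T.pgroup T.le T.norm hp (ha p (T.norm hp) hpE)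
      exact hex U P h ⟨L, T, hf, fun g hg => T.conj_mem B L X hUE hf g hg⟩

/-- The tower: if `N_G(E⟨x⟩)` contains an element centralising `E` and moving `x` then `G` has a subgroup of
index 2 (or there is an exotic configuration). -/
theorem false_of_start [Finite G] (hidx : ∀ K : Subgroup G, K.index ≠ 2)
    (hr : Cfsg.SectionalPRankLE 2 4 G) (B : Base x E)
    (hex : ∀ (U P : Subgroup G) (h : G), Exotic x E U P h → False)
    (L : Level x E E h) (hN : NormU x E) {g : G} (hg : g ∈ Subgroup.normalizer (rr x E : Set G))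
    (hgE : ∀ e ∈ E, g * e = e * g) (hg1 : g * x * g⁻¹ ≠ x) : False := by
  obtain ⟨k, X⟩ := L.exists_expo B
  have hk : k = 0 := by
    obtain ⟨u, hu, hu1⟩ := X.ex
    by_contra hk
    obtain ⟨j, rfl⟩ := Nat.exists_eq_succ_of_ne_zero hk
    apply hu1
    rw [Nat.succ_eq_add_one, pow_two_pow_succ', B.sq u hu, one_pow]
  subst hk
  have h1 : (x * (g * x * g⁻¹)) ^ 2 ^ 0 ≠ 1 := by
    rw [pow_zero, pow_one]
    intro hc
    rw [mul_eq_one_iff_inv_eq, B.inv_x] at hc
    exact hg1 hc.symm
  obtain ⟨P, h', A⟩ := L.exists_topA B X hN hg hgE h1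
  obtain ⟨V, LV, hUV⟩ := A.step B X hidx hr
  obtain ⟨w, hw, hwE⟩ := SetLike.exists_of_lt hUV
  exact false_of_level hidx hr B hex _ V h' le_rfl LV ⟨w, hw, hwE⟩

end Cfsg.Agent.GH.E
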