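import Cfsg.Agent.GH.ETowerBasic

/-!
# GH-E: the relation of `h` on `E` and Lemma L

`h` satisfies `h³ = h^a + 1` on `E`, `a = 1` or `a = 2`.  Lemma L: an `h`-equivariant alternating
bimultiplicative map `V × V → E`, trivial on `U`, is trivial if `h³ = h^a + 1` on `V / U` as well
(`Λ²(M) = M*` is not isomorphic to `M`).
-/

set_option autoImplicit false

namespace Cfsg.Agent.GH.E

variable {G : Type*} [Group G] {x h : G} {E U : Subgroup G} {k : ℕ}

/-- conjugation by a power of `h` -/
def cj (h : G) (n : ℕ) (g : G) : G := h ^ n * g * (h ^ n)⁻¹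

theorem cj_mul (h : G) (n : ℕ) (a b : G) : cj h n (a * b) = cj h n a * cj h n b := by
  unfold cj; group

theorem cj_inv (h : G) (n : ℕ) (a : G) : cj h n a⁻¹ = (cj h n a)⁻¹ := by
  unfold cj; group

theorem cj_one (h : G) (n : ℕ) : cj h n 1 = 1 := by unfold cj; group

theorem cj_zero (h : G) (g : G) : cj h 0 g = g := by unfold cj; group

theorem cj_cj (h : G) (m n : ℕ) (g : G) : cj h m (cj h n g) = cj h (m + n) g := by
  unfold cj; rw [pow_add]; group

theorem cj_injective (h : G) (n : ℕ) {a b : G} (hab : cj h n a = cj h n b) : a = b :=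
  mul_left_cancel (mul_right_cancel hab)

theorem cj_eq_one (h : G) (n : ℕ) {a : G} (ha : cj h n a = 1) : a = 1 :=
  cj_injective h n (by rw [ha, cj_one])

theorem cj_succ (h : G) (n : ℕ) (g : G) : cj h (n + 1) g = h * cj h n g * h⁻¹ := by
  unfold cj; rw [pow_succ' h n]; group

theorem cj_mem {V : Subgroup G} (hV : ∀ v ∈ V, h * v * h⁻¹ ∈ V) (n : ℕ) {v : G} (hv : v ∈ V) :
    cj h n v ∈ V := by
  induction n with
  | zero => rwa [cj_zero]
  | succ n ih => rw [cj_succ]; exact hV _ ih

/-- The relation `h³ = h^a + 1` on `E`. -/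
theorem exists_rel (B : Base x E) (hE : ∀ e ∈ E, h * e * h⁻¹ ∈ E)
    (htr : ∀ a ∈ E, ∀ b ∈ E, a ≠ 1 → b ≠ 1 → ∃ n : ℕ, h ^ n * a * (h ^ n)⁻¹ = b) :
    ∃ a : ℕ, (a = 1 ∨ a = 2) ∧ ∀ e ∈ E, cj h 3 e = cj h a e * e := by
  classical
  obtain ⟨e, he, he1⟩ := B.exists_ne_one
  -- no small `h`-invariant set contains all of `E#`
  have hsmall : ∀ s : Finset G, e ∈ s → (∀ y ∈ s, h * y * h⁻¹ ∈ s) → 7 ≤ s.card := by
    intro s hes hs
    have h1 : ∀ b ∈ E, b ≠ 1 → b ∈ s := by
      intro b hb hb1
      obtain ⟨n, hn⟩ := htr e he b hb he1 hb1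
      have h2 : ∀ n : ℕ, cj h n e ∈ s := by
        intro n
        induction n with
        | zero => rwa [cj_zero]
        | succ n ih => rw [cj_succ]; exact hs _ ih
      rw [← hn]
      exact h2 n
    have hfin : (E : Set G).Finite := Nat.finite_of_card_ne_zero (by
      show Nat.card E ≠ 0
      rw [B.card]; norm_num)
    have h3 : (E : Set G).ncard = 8 := B.card
    have h4 : ((E : Set G) \ {1}).ncard = 7 := by
      have := Set.ncard_sdiff_singleton_of_mem (s := (E : Set G)) E.one_mem
      rw [h3] at this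
      exact this
    have h5 : ((E : Set G) \ {1}) ⊆ (s : Set G) := fun b hb => h1 b hb.1 hb.2
    have h6 := Set.ncard_le_ncard h5 (Finset.finite_toSet s)
    rw [h4, Set.ncard_coe_finset] at h6
    exact h6
  set e1 := cj h 1 e with he1d
  set e2 := cj h 2 e with he2d
  set e3 := cj h 3 e with he3d
  have m1 : e1 ∈ E := cj_mem hE 1 he
  have m2 : e2 ∈ E := cj_mem hE 2 he
  have m3 : e3 ∈ E := cj_mem hE 3 he
  have c0 : h * e * h⁻¹ = e1 := by rw [he1d, cj_succ, cj_zero]
  have c1 : h * e1 * h⁻¹ = e2 := by rw [he1d, he2d, ← cj_succ]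
  have c2 : h * e2 * h⁻¹ = e3 := by rw [he2d, he3d, ← cj_succ]
  have cinj : ∀ y z : G, h * y * h⁻¹ = h * z * h⁻¹ → y = z := fun y z hyz =>
    mul_left_cancel (mul_right_cancel hyz)
  have cm : ∀ y z : G, h * (y * z) * h⁻¹ = (h * y * h⁻¹) * (h * z * h⁻¹) := fun y z => by group
  have comm : ∀ y ∈ E, ∀ z ∈ E, y * z = z * y := fun y hy z hz => B.mul_comm hy hz
  have sq := B.sq
  -- distinctness
  have n01 : e1 ≠ e := by
    intro hc
    have := hsmall {e} (by simp) (by
      intro y hy
      rw [Finset.mem_singleton] at hy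
      rw [hy, c0, hc]; simp)
    simp at this
  have n02 : e2 ≠ e := by
    intro hc
    have := hsmall {e, e1} (by simp) (by
      intro y hy
      rw [Finset.mem_insert, Finset.mem_singleton] at hy
      rcases hy with rfl | rfl
      · rw [c0]; simp
      · rw [c1, hc]; simp)
    have h3 := Finset.card_le_two (a := e) (b := e1)
    omega
  have n012 : e2 ≠ e * e1 := by
    intro hc
    have := hsmall {e, e1, e * e1} (by simp) (by
      intro y hy
      simp only [Finset.mem_insert, Finset.mem_singleton] at hy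
      rcases hy with rfl | rfl | rfl
      · rw [c0]; simp
      · rw [c1, hc]; simp
      · rw [cm, c0, c1, hc, comm e he e1 m1, ← mul_assoc, sq e1 m1, one_mul]; simp)
    have h3 := Finset.card_le_three (a := e) (b := e1) (c := e * e1)
    omega
  have n12 : e2 ≠ e1 := fun hc => n01 (cinj _ _ (by rw [c0, c1, hc]))
  -- the closure `{1, e, e1, e e1, e2, e e2, e1 e2, e e1 e2}`
  have hne1 : e1 ≠ 1 := fun hc => he1 (by
    have : h * e * h⁻¹ = h * 1 * h⁻¹ := by rw [c0, hc]; group
    exact cinj _ _ this)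
  have hne2 : e2 ≠ 1 := fun hc => hne1 (by
    have : h * e1 * h⁻¹ = h * 1 * h⁻¹ := by rw [c1, hc]; group
    exact cinj _ _ this)
  have hne3 : e3 ≠ 1 := fun hc => hne2 (by
    have : h * e2 * h⁻¹ = h * 1 * h⁻¹ := by rw [c2, hc]; group
    exact cinj _ _ this)
  have hall : e3 ∈ ({1, e, e1, e * e1, e2, e * e2, e1 * e2, e * e1 * e2} : Finset G) := by
    -- the eight elements are distinct, and lie in `E`
    set s : Finset G := {1, e, e1, e * e1, e2, e * e2, e1 * e2, e * e1 * e2} with hs
    have hsE : (s : Set G) ⊆ (E : Set G) := by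
      intro y hy
      rw [hs] at hy
      simp only [Finset.coe_insert, Finset.coe_singleton, Set.mem_insert_iff, Set.mem_singleton_iff] at hy
      rcases hy with rfl | rfl | rfl | rfl | rfl | rfl | rfl | rfl
      · exact E.one_mem
      · exact he
      · exact m1
      · exact E.mul_mem he m1
      · exact m2
      · exact E.mul_mem he m2
      · exact E.mul_mem m1 m2
      · exact E.mul_mem (E.mul_mem he m1) m2
    have hcard : s.card = 8 := by
      have i1 : e⁻¹ = e := B.inv_eq he
      have i2 : e1⁻¹ = e1 := B.inv_eq m1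
      have i3 : e2⁻¹ = e2 := B.inv_eq m2
      have e_e1 : e * e1 ≠ 1 := fun hc => n01 (by
        rw [mul_eq_one_iff_inv_eq, i1] at hc; exact hc.symm)
      have e_e2 : e * e2 ≠ 1 := fun hc => n02 (by
        rw [mul_eq_one_iff_inv_eq, i1] at hc; exact hc.symm)
      have e1_e2 : e1 * e2 ≠ 1 := fun hc => n12 (by
        rw [mul_eq_one_iff_inv_eq, i2] at hc; exact hc.symm)
      have e_e1_e2 : e * e1 * e2 ≠ 1 := fun hc => n012 (by
        have h1 := (mul_eq_one_iff_inv_eq.1 hc)
        rw [B.inv_eq (E.mul_mem he m1)] at h1; exact h1.symm)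
      have key : ∀ y ∈ E, ∀ z ∈ E, y * z ≠ 1 → y ≠ z := by
        intro y hy z hz hyz hc
        exact hyz (by rw [hc]; exact sq z hz)
      have E3 : ∀ {y}, y ∈ E → y * y = 1 := fun {y} hy => sq y hy
      rw [hs]
      have p01 := E.mul_mem he m1
      have p02 := E.mul_mem he m2
      have p12 := E.mul_mem m1 m2
      have p012 := E.mul_mem (E.mul_mem he m1) m2
      -- products
      have q1 : e * (e * e1) = e1 := by rw [← mul_assoc, sq e he, one_mul]
      have q2 : e1 * (e * e1) = e := by rw [comm e he e1 m1, ← mul_assoc, sq e1 m1, one_mul]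
      have q3 : e * (e * e2) = e2 := by rw [← mul_assoc, sq e he, one_mul]
      have q4 : e2 * (e * e2) = e := by rw [comm e he e2 m2, ← mul_assoc, sq e2 m2, one_mul]
      have q5 : e1 * (e1 * e2) = e2 := by rw [← mul_assoc, sq e1 m1, one_mul]
      have q6 : e2 * (e1 * e2) = e1 := by rw [comm e1 m1 e2 m2, ← mul_assoc, sq e2 m2, one_mul]
      have q7 : e * (e * e1 * e2) = e1 * e2 := by
        rw [mul_assoc e e1 e2, ← mul_assoc, sq e he, one_mul]
      have q8 : e1 * (e * e1 * e2) = e * e2 := by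
        rw [← mul_assoc, q2]
      have q9 : e2 * (e * e1 * e2) = e * e1 := by
        rw [comm (e * e1) p01 e2 m2, ← mul_assoc, sq e2 m2, one_mul]
      have r1 : e * (e1 * e2) = e * e1 * e2 := by group
      have r2 : e1 * (e * e2) = e * e1 * e2 := by rw [← mul_assoc, comm e1 m1 e he]
      have r3 : e2 * (e * e1) = e * e1 * e2 := by rw [comm e2 m2 _ p01]
      have r4 : e * e1 * (e * e2) = e1 * e2 := by
        rw [comm e he e1 m1, mul_assoc, ← mul_assoc e e e2, sq e he, one_mul]
      have r5 : e * e1 * (e1 * e2) = e * e2 := by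
        rw [mul_assoc, ← mul_assoc e1 e1 e2, sq e1 m1, one_mul]
      have r6 : e * e1 * (e * e1 * e2) = e2 := by
        rw [← mul_assoc, sq _ p01, one_mul]
      have r7 : e * e2 * (e1 * e2) = e * e1 := by
        rw [comm e1 m1 e2 m2, mul_assoc, ← mul_assoc e2 e2 e1, sq e2 m2, one_mul]
      have r8 : e * e2 * (e * e1 * e2) = e1 := by
        rw [comm (e * e2) p02 _ p012]
        calc e * e1 * e2 * (e * e2) = (e * e1) * (e2 * (e * e2)) := by group
          _ = e1 := by rw [q4, comm e he e1 m1, mul_assoc, sq e he, mul_one]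
      have r9 : e1 * e2 * (e * e1 * e2) = e := by
        rw [comm (e1 * e2) p12 _ p012]
        calc e * e1 * e2 * (e1 * e2) = (e * e1) * (e2 * (e1 * e2)) := by group
          _ = e := by rw [q6, mul_assoc, sq e1 m1, mul_one]
      rw [Finset.card_insert_of_notMem, Finset.card_insert_of_notMem, Finset.card_insert_of_notMem,
        Finset.card_insert_of_notMem, Finset.card_insert_of_notMem, Finset.card_insert_of_notMem,
        Finset.card_insert_of_notMem, Finset.card_singleton]
      · simp only [Finset.mem_singleton]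
        exact key _ p12 _ p012 (by rw [r9]; exact he1)
      · simp only [Finset.mem_insert, Finset.mem_singleton, not_or]
        exact ⟨key _ p02 _ p12 (by rw [r7]; exact e_e1), key _ p02 _ p012 (by rw [r8]; exact hne1)⟩
      · simp only [Finset.mem_insert, Finset.mem_singleton, not_or]
        exact ⟨key _ m2 _ p02 (by rw [q4]; exact he1), key _ m2 _ p12 (by rw [q6]; exact hne1),
          key _ m2 _ p012 (by rw [q9]; exact e_e1)⟩
      · simp only [Finset.mem_insert, Finset.mem_singleton, not_or]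
        exact ⟨key _ p01 _ m2 e_e1_e2, key _ p01 _ p02 (by rw [r4]; exact e1_e2),
          key _ p01 _ p12 (by rw [r5]; exact e_e2), key _ p01 _ p012 (by rw [r6]; exact hne2)⟩
      · simp only [Finset.mem_insert, Finset.mem_singleton, not_or]
        exact ⟨key _ m1 _ p01 (by rw [q2]; exact he1), key _ m1 _ m2 e1_e2,
          key _ m1 _ p02 (by rw [r2]; exact e_e1_e2), key _ m1 _ p12 (by rw [q5]; exact hne2),
          key _ m1 _ p012 (by rw [q8]; exact e_e2)⟩
      · simp only [Finset.mem_insert, Finset.mem_singleton, not_or]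
        exact ⟨key _ he _ m1 e_e1, key _ he _ p01 (by rw [q1]; exact hne1), key _ he _ m2 e_e2,
          key _ he _ p02 (by rw [q3]; exact hne2), key _ he _ p12 (by rw [r1]; exact e_e1_e2),
          key _ he _ p012 (by rw [q7]; exact e1_e2)⟩
      · simp only [Finset.mem_insert, Finset.mem_singleton, not_or]
        exact ⟨he1.symm, hne1.symm, e_e1.symm, hne2.symm, e_e2.symm, e1_e2.symm, e_e1_e2.symm⟩
    have hfin : (E : Set G).Finite := Nat.finite_of_card_ne_zero (by
      show Nat.card E ≠ 0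
      rw [B.card]; norm_num)
    have h3 : (E : Set G).ncard = 8 := B.card
    have h7 : (s : Set G) = (E : Set G) := by
      apply Set.eq_of_subset_of_ncard_le hsE _ hfin
      rw [h3, Set.ncard_coe_finset, hcard]
    have h8 : e3 ∈ (s : Set G) := by rw [h7]; exact m3
    exact h8
  have hrel : ∃ a : ℕ, (a = 1 ∨ a = 2) ∧ cj h 3 e = cj h a e * e := by
    simp only [Finset.mem_insert, Finset.mem_singleton] at hall
    rcases hall with hc | hc | hc | hc | hc | hc | hc | hc
    · exact absurd hc hne3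
    · -- e3 = e
      exfalso
      have := hsmall {e, e1, e2} (by simp) (by
        intro y hy
        simp only [Finset.mem_insert, Finset.mem_singleton] at hy
        rcases hy with rfl | rfl | rfl
        · rw [c0]; simp
        · rw [c1]; simp
        · rw [c2, hc]; simp)
      have h3 := Finset.card_le_three (a := e) (b := e1) (c := e2)
      omega
    · exact absurd (cinj _ _ (by rw [c2, c0, hc])) n02
    · exact ⟨1, Or.inl rfl, by rw [← he3d, ← he1d, hc]; exact comm e he e1 m1⟩
    · exact absurd (cinj _ _ (by rw [c2, c1, hc])) n12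
    · exact ⟨2, Or.inr rfl, by rw [← he3d, ← he2d, hc]; exact comm e he e2 m2⟩
    · exfalso
      apply n012
      apply cinj
      rw [c2, cm, c0, c1, hc]
    · exfalso
      have := hsmall {e, e1, e2, e * e1 * e2} (by simp) (by
        intro y hy
        simp only [Finset.mem_insert, Finset.mem_singleton] at hy
        rcases hy with rfl | rfl | rfl | rfl
        · rw [c0]; simp
        · rw [c1]; simp
        · rw [c2, hc]; simp
        · rw [cm, cm, c0, c1, c2, hc]
          have h1 : e1 * e2 * (e * e1 * e2) = e := by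
            rw [comm (e1 * e2) (E.mul_mem m1 m2) _ (E.mul_mem (E.mul_mem he m1) m2)]
            calc e * e1 * e2 * (e1 * e2) = (e * e1) * (e2 * (e1 * e2)) := by group
              _ = e := by
                rw [comm e1 m1 e2 m2, ← mul_assoc e2 e2, sq e2 m2, one_mul, mul_assoc, sq e1 m1, mul_one]
          rw [h1]; simp)
      have h3 := Finset.card_le_four (a := e) (b := e1) (c := e2) (d := e * e1 * e2)
      omega
  obtain ⟨a, ha, hae⟩ := hrel
  refine ⟨a, ha, fun b hb => ?_⟩
  by_cases hb1 : b = 1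
  · rw [hb1, cj_one, cj_one, mul_one]
  obtain ⟨n, hn⟩ := htr e he b hb he1 hb1
  have hn' : cj h n e = b := hn
  rw [← hn', cj_cj, cj_cj, show 3 + n = n + 3 by ring, show a + n = n + a by ring, ← cj_cj, hae, cj_mul,
    cj_cj]

/-- The data for Lemma L: a subgroup `V` with `h³ = h^a + 1` on `V / U`, `h` transitive on `(V / U)#`. -/
structure Ext (h : G) (U V : Subgroup G) (a : ℕ) : Prop where
  ha : a = 1 ∨ a = 2
  hV : ∀ v ∈ V, h * v * h⁻¹ ∈ V
  rel : ∀ v ∈ V, cj h 3 v * cj h a v * v ∈ U
  trans : ∀ v ∈ V, ∀ w ∈ V, v ∉ U → w ∉ U → ∃ n : ℕ, ∃ u ∈ U, w = cj h n v * u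

/-- An alternating bimultiplicative `h`-equivariant map. -/
structure Form (h : G) (E U V : Subgroup G) (β : G → G → G) : Prop where
  mem : ∀ v ∈ V, ∀ w ∈ V, β v w ∈ E
  mul_left : ∀ v ∈ V, ∀ v' ∈ V, ∀ w ∈ V, β (v * v') w = β v w * β v' w
  mul_right : ∀ v ∈ V, ∀ w ∈ V, ∀ w' ∈ V, β v (w * w') = β v w * β v w'
  alt : ∀ v ∈ V, β v v = 1
  zero_left : ∀ u ∈ U, ∀ v ∈ V, β u v = 1
  zero_right : ∀ v ∈ V, ∀ u ∈ U, β v u = 1
  equiv : ∀ v ∈ V, ∀ w ∈ V, β (h * v * h⁻¹) (h * w * h⁻¹) = h * β v w * h⁻¹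

/-- Lemma L. -/
theorem Form.eq_one {a : ℕ} {V : Subgroup G} {β : G → G → G} (B : Base x E) (hE : ∀ e ∈ E, h * e * h⁻¹ ∈ E)
    (relE : ∀ e ∈ E, cj h 3 e = cj h a e * e) (hUV : U ≤ V) (X : Ext h U V a) (F : Form h E U V β) :
    ∀ v ∈ V, ∀ w ∈ V, β v w = 1 := by
  have sq := B.sq
  have comm : ∀ y ∈ E, ∀ z ∈ E, y * z = z * y := fun y hy z hz => B.mul_comm hy hz
  -- symmetry
  have symm : ∀ v ∈ V, ∀ w ∈ V, β v w = β w v := by
    intro v hv w hw
    have h1 := F.alt _ (V.mul_mem hv hw)
    rw [F.mul_left v hv w hw _ (V.mul_mem hv hw), F.mul_right v hv v hv w hw,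
      F.mul_right w hw v hv w hw, F.alt v hv, F.alt w hw, one_mul, mul_one] at h1
    rw [mul_eq_one_iff_inv_eq, B.inv_eq (F.mem v hv w hw)] at h1
    exact h1
  have hcV : ∀ (n : ℕ), ∀ v ∈ V, cj h n v ∈ V := fun n v hv => cj_mem X.hV n hv
  have equiv : ∀ (n : ℕ), ∀ v ∈ V, ∀ w ∈ V, β (cj h n v) (cj h n w) = cj h n (β v w) := by
    intro n
    induction n with
    | zero => intro v _ w _; rw [cj_zero, cj_zero, cj_zero]
    | succ n ih =>
      intro v hv w hw
      rw [cj_succ, cj_succ, cj_succ, F.equiv _ (hcV n v hv) _ (hcV n w hw), ih v hv w hw]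
  -- the relation
  have rel : ∀ v ∈ V, ∀ w ∈ V, ∀ n : ℕ, β w (cj h (n + 3) v) = β w (cj h (n + a) v) * β w (cj h n v) := by
    intro v hv w hw n
    have h1 := X.rel _ (hcV n v hv)
    rw [cj_cj, cj_cj, show 3 + n = n + 3 by ring, show a + n = n + a by ring] at h1
    have h2 := F.zero_right w hw _ h1
    rw [F.mul_right w hw _ (V.mul_mem (hcV _ v hv) (hcV _ v hv)) _ (hcV _ v hv),
      F.mul_right w hw _ (hcV _ v hv) _ (hcV _ v hv), mul_assoc, mul_eq_one_iff_eq_inv] at h2
    rw [h2]
    exact B.inv_eq (E.mul_mem (F.mem w hw _ (hcV _ v hv)) (F.mem w hw _ (hcV _ v hv)))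
  -- main computation
  have main : ∀ v ∈ V, β v (cj h 1 v) = 1 ∧ β v (cj h 2 v) = 1 := by
    intro v hv
    set c := β v (cj h 1 v) with hc
    set d := β v (cj h 2 v) with hd
    have v1 := hcV 1 v hv
    have v2 := hcV 2 v hv
    have v3 := hcV 3 v hv
    have hcE : c ∈ E := F.mem v hv _ v1
    have hdE : d ∈ E := F.mem v hv _ v2
    have hcn : ∀ n, cj h n c ∈ E := fun n => cj_mem hE n hcE
    have b12 : β (cj h 1 v) (cj h 2 v) = cj h 1 c := by
      have := equiv 1 v hv _ v1
      rwa [cj_cj] at this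
    have b23 : β (cj h 2 v) (cj h 3 v) = cj h 2 c := by
      have := equiv 2 v hv _ v1
      rwa [cj_cj] at this
    have b13 : β (cj h 1 v) (cj h 3 v) = cj h 1 d := by
      have := equiv 1 v hv _ v2
      rwa [cj_cj] at this
    have b10 : β (cj h 1 v) v = c := (symm _ v1 v hv)
    have b20 : β (cj h 2 v) v = d := (symm _ v2 v hv)
    have r1 := rel v hv _ v1 0
    have r2 := rel v hv _ v2 0
    rw [zero_add, zero_add, cj_zero, b13, b10] at r1
    rw [zero_add, zero_add, cj_zero, b23, b20] at r2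
    have rc := relE c hcE
    rcases X.ha with rfl | rfl
    · -- a = 1
      rw [F.alt _ v1, one_mul] at r1
      rw [symm _ v2 _ v1, b12] at r2
      -- r1 : cj h 1 d = c, r2 : cj h 2 c = cj h 1 c * d, rc : cj h 3 c = cj h 1 c * c
      have h3 : cj h 3 c = cj h 2 c * c := by
        have := congrArg (cj h 1) r2
        rw [cj_cj, cj_mul, cj_cj, r1] at this
        exact this
      rw [rc] at h3
      have h4 : cj h 1 c = cj h 2 c := mul_right_cancel h3
      rw [← h4] at r2
      have h5 : d = 1 := by simpa using r2.symm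
      refine ⟨?_, h5⟩
      rw [← r1, h5, cj_one]
    · -- a = 2
      rw [b12] at r1
      rw [F.alt _ v2, one_mul] at r2
      -- r1 : cj h 1 d = cj h 1 c * c, r2 : cj h 2 c = d, rc : cj h 3 c = cj h 2 c * c
      rw [← r2, cj_cj] at r1
      rw [show 1 + 2 = 3 by norm_num, rc] at r1
      have h4 : cj h 2 c = cj h 1 c := mul_right_cancel r1
      have h5 : cj h 1 c = c := cj_injective h 1 (by rw [cj_cj]; exact h4)
      have h6 : cj h 3 c = 1 := by rw [rc, h4, h5, sq c hcE]
      have h7 : c = 1 := cj_eq_one h 3 h6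
      exact ⟨h7, by rw [← r2, h7, cj_one]⟩
  have all : ∀ v ∈ V, ∀ n : ℕ, β v (cj h n v) = 1 := by
    intro v hv n
    induction n using Nat.strong_induction_on with
    | _ n ih =>
      by_cases h0 : n < 3
      · interval_cases n
        · rw [cj_zero]; exact F.alt v hv
        · exact (main v hv).1
        · exact (main v hv).2
      · obtain ⟨m, rfl⟩ : ∃ m, n = m + 3 := ⟨n - 3, by omega⟩
        have ha3 : a < 3 := by rcases X.ha with rfl | rfl <;> norm_num
        rw [rel v hv v hv m, ih (m + a) (by omega), ih m (by omega), one_mul]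
  intro v hv w hw
  by_cases hvU : v ∈ U
  · exact F.zero_left v hvU w hw
  by_cases hwU : w ∈ U
  · exact F.zero_right v hv w hwU
  obtain ⟨n, u, hu, rfl⟩ := X.trans v hv w hw hvU hwU
  rw [F.mul_right v hv _ (hcV n v hv) u (hUV hu), all v hv n, F.zero_right v hv u hu, one_mul]

end Cfsg.Agent.GH.E
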