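import Cfsg.Agent.GH.ETowerS
import Cfsg.Agent.GH.ETowerL

/-!
# GH-E: case (a) of the tower, construction of `P` and of `V`
-/

set_option autoImplicit false

namespace Cfsg.Agent.GH.E

variable {G : Type*} [Group G] {x h : G} {E U : Subgroup G} {k : ℕ}

/-- `P` is `h`-invariant and centralises `E`. -/
structure TopA (x : G) (E U P : Subgroup G) (h : G) : Prop where
  top : Top x U P
  level : Level x E U h
  hP : ∀ p ∈ P, h * p * h⁻¹ ∈ P
  cent : ∀ p ∈ P, ∀ e ∈ E, p * e = e * p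

theorem exists_pow_eq_inv [Finite G] (h : G) : ∃ n : ℕ, h ^ n = h⁻¹ := by
  have h1 : h⁻¹ ∈ Submonoid.powers h := by
    rw [mem_powers_iff_mem_zpowers]
    exact Subgroup.inv_mem _ (Subgroup.mem_zpowers h)
  exact Submonoid.mem_powers_iff _ _ |>.1 h1

theorem Level.hE_inv [Finite G] (B : Base x E) (L : Level x E U h) {e : G} (he : e ∈ E) :
    h⁻¹ * e * h ∈ E := by
  obtain ⟨n, hn⟩ := exists_pow_eq_inv h
  have h1 := L.hE_pow B n he
  rwa [hn, inv_inv] at h1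

theorem exists_conj_le [Finite G] {Y P Q : Subgroup G} (hPY : P ≤ Y) (hQY : Q ≤ Y) (hP : IsPGroup 2 P)
    (hQ : IsPGroup 2 Q) (hmax : ∀ R : Subgroup G, IsPGroup 2 R → P ≤ R → R ≤ Y → R = P) :
    ∃ y ∈ Y, ∀ q ∈ Q, y * q * y⁻¹ ∈ P := by
  have : Fact (Nat.Prime 2) := ⟨Nat.prime_two⟩
  have hP' : IsPGroup 2 (P.subgroupOf Y) := hP.comap_of_injective Y.subtype Y.subtype_injective
  have hQ' : IsPGroup 2 (Q.subgroupOf Y) := hQ.comap_of_injective Y.subtype Y.subtype_injective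
  obtain ⟨S, hS⟩ := hP'.exists_le_sylow
  obtain ⟨S', hS'⟩ := hQ'.exists_le_sylow
  have h1 : (S : Subgroup Y).map Y.subtype = P := by
    apply hmax
    · exact S.isPGroup'.map _
    · intro p hp
      exact ⟨⟨p, hPY hp⟩, hS (Subgroup.mem_subgroupOf.2 hp), rfl⟩
    · rintro _ ⟨g, _, rfl⟩; exact g.2
  obtain ⟨y, hy⟩ := MulAction.exists_smul_eq Y S' S
  refine ⟨y, y.2, fun q hq => ?_⟩
  have h2 : (⟨q, hQY hq⟩ : Y) ∈ (S' : Subgroup Y) := hS' (Subgroup.mem_subgroupOf.2 hq)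
  have h3 : y * ⟨q, hQY hq⟩ * y⁻¹ ∈ ((y • S' : Sylow 2 Y) : Subgroup Y) := by
    rw [Sylow.coe_subgroup_smul]
    exact Subgroup.smul_mem_pointwise_smul _ (MulAut.conj y) _ h2
  rw [hy] at h3
  rw [← h1]
  exact ⟨_, h3, rfl⟩

/-- Case (a): construction of `P` and of the new `h`. -/
theorem Level.exists_topA [Finite G] (B : Base x E) (L : Level x E U h) (X : Expo U k) (hN : NormU x U)
    {g : G} (hg : g ∈ Subgroup.normalizer (rr x U : Set G)) (hgE : ∀ e ∈ E, g * e = e * g)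
    (hg1 : (x * (g * x * g⁻¹)) ^ 2 ^ k ≠ 1) : ∃ (P : Subgroup G) (h' : G), TopA x E U P h' := by
  set Y : Subgroup G := Subgroup.normalizer (rr x U : Set G) ⊓ Subgroup.centralizer (E : Set G) with hY
  have hRY : rr x U ≤ Y := le_inf (L.le_normalizer' B) (fun r hr =>
    Subgroup.mem_centralizer_iff.2 (fun e he => L.E_comm B he hr))
  have hYN : Y ≤ Subgroup.normalizer (rr x U : Set G) := inf_le_left
  have hYE : ∀ y ∈ Y, ∀ e ∈ E, y * e = e * y := fun y hy e he =>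
    (Subgroup.mem_centralizer_iff.1 hy.2 e he).symm
  have hhN := L.h_mem_normalizer B
  have hh : ∀ y ∈ Y, h * y * h⁻¹ ∈ Y := by
    intro y hy
    refine ⟨Subgroup.mul_mem _ (Subgroup.mul_mem _ hhN hy.1) (Subgroup.inv_mem _ hhN), ?_⟩
    show h * y * h⁻¹ ∈ Subgroup.centralizer (E : Set G)
    rw [Subgroup.mem_centralizer_iff]
    intro e he
    have h1 := hYE y hy _ (L.hE_inv B he)
    calc e * (h * y * h⁻¹) = h * ((h⁻¹ * e * h) * y) * h⁻¹ := by group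
      _ = h * (y * (h⁻¹ * e * h)) * h⁻¹ := by rw [h1]
      _ = h * y * h⁻¹ * e := by group
  have hgY : g ∈ Y := ⟨hg, Subgroup.mem_centralizer_iff.2 (fun e he => (hgE e he).symm)⟩
  have htr := L.transOn B X hN ((le_rr x U).trans hRY) hYN hh hgY hg1
  obtain ⟨P, T, hPY⟩ := L.exists_top B hN hRY hYN htr
  -- conjugate `P` by `h`
  have hQ : IsPGroup 2 (P.map (MulAut.conj h).toMonoidHom) := T.pgroup.map _
  have hQY : P.map (MulAut.conj h).toMonoidHom ≤ Y := by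
    rintro _ ⟨p, hp, rfl⟩
    simp only [MulEquiv.coe_toMonoidHom, MulAut.conj_apply]
    exact hh p (hPY hp)
  obtain ⟨y, hy, hyP⟩ := exists_conj_le hPY hQY T.pgroup hQ
    (fun R hR hPR hRY => T.syl R hR hPR (hRY.trans hYN))
  have hyP' : ∀ p ∈ P, (y * h) * p * (y * h)⁻¹ ∈ P := by
    intro p hp
    have h1 := hyP _ ⟨p, hp, rfl⟩
    simp only [MulEquiv.coe_toMonoidHom, MulAut.conj_apply] at h1
    have h2 : y * (h * p * h⁻¹) * y⁻¹ = (y * h) * p * (y * h)⁻¹ := by group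
    rwa [h2] at h1
  have hyN : y ∈ Subgroup.normalizer (rr x U : Set G) := hYN hy
  have hd := L.dd_mem B hN hyN
  obtain ⟨p0, hp0, hp0u⟩ := T.trans _ hd
  rw [← mul_assoc x x, B.hx, one_mul] at hp0u
  have hp0Y := hPY hp0
  have hp0N := hYN hp0Y
  -- the new element
  have hxy : (y * h) * x * (y * h)⁻¹ = y * x * y⁻¹ := by
    calc (y * h) * x * (y * h)⁻¹ = y * (h * x) * h⁻¹ * y⁻¹ := by group
      _ = y * (x * h) * h⁻¹ * y⁻¹ := by rw [L.hx]
      _ = y * x * y⁻¹ := by group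
  have hx' : (p0⁻¹ * y * h) * x = x * (p0⁻¹ * y * h) := by
    have h1 : (p0⁻¹ * y * h) * x * (p0⁻¹ * y * h)⁻¹ = x := by
      calc (p0⁻¹ * y * h) * x * (p0⁻¹ * y * h)⁻¹ = p0⁻¹ * ((y * h) * x * (y * h)⁻¹) * p0 := by group
        _ = p0⁻¹ * (p0 * x * p0⁻¹) * p0 := by rw [hxy, hp0u]
        _ = x := by group
    rwa [mul_inv_eq_iff_eq_mul] at h1
  have hact : ∀ e ∈ E, (p0⁻¹ * y * h) * e * (p0⁻¹ * y * h)⁻¹ = h * e * h⁻¹ := by
    intro e he
    have h1 : h * e * h⁻¹ ∈ E := L.hE B he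
    have h2 := hYE y hy _ h1
    have h3 := hYE p0 hp0Y _ h1
    calc (p0⁻¹ * y * h) * e * (p0⁻¹ * y * h)⁻¹ = p0⁻¹ * (y * (h * e * h⁻¹)) * y⁻¹ * p0 := by group
      _ = p0⁻¹ * ((h * e * h⁻¹) * y) * y⁻¹ * p0 := by rw [h2]
      _ = p0⁻¹ * ((h * e * h⁻¹) * p0) := by group
      _ = p0⁻¹ * (p0 * (h * e * h⁻¹)) := by rw [h3]
      _ = h * e * h⁻¹ := by group
  have hactn : ∀ n : ℕ, ∀ e ∈ E, cj (p0⁻¹ * y * h) n e = cj h n e := by
    intro n
    induction n with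
    | zero => intro e _; rw [cj_zero, cj_zero]
    | succ n ih =>
      intro e he
      rw [cj_succ, cj_succ, ih e he]
      exact hact _ (cj_mem (fun e he => L.hE B he) n he)
  refine ⟨P, p0⁻¹ * y * h, ⟨T, ?_, ?_, ?_⟩⟩
  · refine ⟨L.le, L.comm, L.pgroup, L.inv, L.omega, hx', ?_, ?_⟩
    · intro u hu
      have h1 : (p0⁻¹ * y * h) * u * (p0⁻¹ * y * h)⁻¹
          = (p0⁻¹ * y) * (h * u * h⁻¹) * (p0⁻¹ * y)⁻¹ := by group
      rw [h1]
      exact hN _ (Subgroup.mul_mem _ (Subgroup.inv_mem _ hp0N) hyN) _ (L.hU u hu)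
    · intro a ha b hb ha1 hb1
      obtain ⟨n, hn⟩ := L.trans a ha b hb ha1 hb1
      refine ⟨n, ?_⟩
      have := hactn n a ha
      unfold cj at this
      rw [this, hn]
  · intro p hp
    have h1 : (p0⁻¹ * y * h) * p * (p0⁻¹ * y * h)⁻¹ = p0⁻¹ * ((y * h) * p * (y * h)⁻¹) * p0 := by group
    rw [h1]
    exact P.mul_mem (P.mul_mem (P.inv_mem hp0) (hyP' p hp)) hp0
  · intro p hp e he
    exact hYE p (hPY hp) e he

/-! ### The map `φ : P → E` -/

/-- `φ(g) = [x, g] ^ 2 ^ k`. -/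
def phi (x : G) (k : ℕ) (g : G) : G := (x * (g * x * g⁻¹)) ^ 2 ^ k

section

variable {P : Subgroup G}

theorem TopA.normU (A : TopA x E U P h) {p : G} (hp : p ∈ P) {u : G} (hu : u ∈ U) : p * u * p⁻¹ ∈ U :=
  A.top.normU p (A.top.norm hp) u hu

theorem TopA.dd_mem (B : Base x E) (A : TopA x E U P h) {p : G} (hp : p ∈ P) :
    x * (p * x * p⁻¹) ∈ U := A.level.dd_mem B A.top.normU (A.top.norm hp)

theorem TopA.phi_mem (B : Base x E) (A : TopA x E U P h) (X : Expo U k) {p : G} (hp : p ∈ P) :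
    phi x k p ∈ E := A.level.pi_mem X (A.dd_mem B hp)

/-- `p` centralises `E`, hence acts trivially on `2 ^ k`-th powers. -/
theorem TopA.pow_conj (A : TopA x E U P h) (X : Expo U k) {p u : G} (hp : p ∈ P) (hu : u ∈ U) :
    (p * u * p⁻¹) ^ 2 ^ k = u ^ 2 ^ k := by
  rw [conj_pow', A.cent p hp _ (A.level.pi_mem X hu), mul_inv_cancel_right]

theorem TopA.phi_mul (B : Base x E) (A : TopA x E U P h) (X : Expo U k) {p q : G} (hp : p ∈ P)
    (hq : q ∈ P) : phi x k (p * q) = phi x k p * phi x k q := by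
  have h1 := A.dd_mem B hp
  have h2 := A.dd_mem B hq
  have h3 : x * (p * q * x * (p * q)⁻¹) = x * (p * x * p⁻¹) * (p * (x * (q * x * q⁻¹)) * p⁻¹) := by
    calc x * (p * q * x * (p * q)⁻¹) = x * (p * (q * x * q⁻¹) * p⁻¹) := by group
      _ = x * (p * (x * x * (q * x * q⁻¹)) * p⁻¹) := by rw [B.hx, one_mul]
      _ = x * (p * x * p⁻¹) * (p * (x * (q * x * q⁻¹)) * p⁻¹) := by group
  unfold phi
  rw [h3, A.level.mul_pow h1 (A.normU hp h2), A.pow_conj X hp h2]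

theorem TopA.phi_x (B : Base x E) : phi x k x = 1 := by
  unfold phi
  have h1 : x * (x * x * x⁻¹) = 1 := by rw [mul_inv_cancel_right, B.hx]
  rw [h1, one_pow]

theorem TopA.phi_U (B : Base x E) (L : Level x E U h) (X : Expo U k) {u : G} (hu : u ∈ U) :
    phi x k u = 1 := by
  unfold phi
  have h1 : x * (u * x * u⁻¹) = u⁻¹ * u⁻¹ := by
    rw [L.mul_x B hu]
    calc x * (x * u⁻¹ * u⁻¹) = (x * x) * (u⁻¹ * u⁻¹) := by group
      _ = u⁻¹ * u⁻¹ := by rw [B.hx, one_mul]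
  rw [h1]
  exact sq_pow_eq_one X (U.inv_mem hu)

theorem TopA.U_le (A : TopA x E U P h) : U ≤ P := (le_rr x U).trans A.top.le

theorem TopA.x_mem (A : TopA x E U P h) : x ∈ P := A.top.le (self_mem_rr x U)

theorem TopA.phi_rr (B : Base x E) (A : TopA x E U P h) (X : Expo U k) {r : G} (hr : r ∈ rr x U) :
    phi x k r = 1 := by
  rcases (A.level.mem_rr B).1 hr with hr' | hr'
  · exact TopA.phi_U B A.level X hr'
  · have h1 : r = x * (x * r) := by rw [← mul_assoc, B.hx, one_mul]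
    rw [h1, A.phi_mul B X A.x_mem (A.U_le hr'), TopA.phi_x B, TopA.phi_U B A.level X hr', one_mul]

theorem TopA.rr_of_phi [Finite G] (B : Base x E) (A : TopA x E U P h) (X : Expo U k) {p : G}
    (hp : p ∈ P) (h1 : phi x k p = 1) : p ∈ rr x U :=
  A.level.eq_rr B X A.top.normU A.top.pgroup A.top.le A.top.norm hp h1

theorem TopA.phi_surj (B : Base x E) (A : TopA x E U P h) (X : Expo U k) {e : G} (he : e ∈ E) :
    ∃ p ∈ P, phi x k p = e := by
  obtain ⟨u, hu, hue⟩ := A.level.pi_surj X he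
  obtain ⟨p, hp, hpu⟩ := A.top.trans u hu
  refine ⟨p, hp, ?_⟩
  unfold phi
  rw [hpu, ← mul_assoc, B.hx, one_mul, hue]

theorem TopA.phi_conj (A : TopA x E U P h) (p : G) : phi x k (h * p * h⁻¹) = h * phi x k p * h⁻¹ := by
  unfold phi
  rw [← conj_pow']
  congr 1
  have h1 := A.level.hx
  have h2 : h⁻¹ * x = x * h⁻¹ := by
    rw [inv_mul_eq_iff_eq_mul, ← mul_assoc, h1, mul_inv_cancel_right]
  calc x * (h * p * h⁻¹ * x * (h * p * h⁻¹)⁻¹) = x * h * p * (h⁻¹ * x) * h * p⁻¹ * h⁻¹ := by group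
    _ = (x * h) * p * (x * h⁻¹) * h * p⁻¹ * h⁻¹ := by rw [h2]
    _ = (h * x) * p * (x * h⁻¹) * h * p⁻¹ * h⁻¹ := by rw [h1]
    _ = h * (x * (p * x * p⁻¹)) * h⁻¹ := by group

theorem TopA.phi_cj (A : TopA x E U P h) (n : ℕ) (p : G) : phi x k (cj h n p) = cj h n (phi x k p) := by
  induction n with
  | zero => rw [cj_zero, cj_zero]
  | succ n ih => rw [cj_succ, cj_succ, A.phi_conj, ih]

/-- Squares of elements of `P` lie in `U`. -/
theorem TopA.sq_mem [Finite G] (B : Base x E) (A : TopA x E U P h) (X : Expo U k) {p : G} (hp : p ∈ P) :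
    p * p ∈ U := by
  have h1 : phi x k (p * p) = 1 := by
    rw [A.phi_mul B X hp hp]
    exact B.sq _ (A.phi_mem B X hp)
  have h2 := A.rr_of_phi B X (P.mul_mem hp hp) h1
  rcases (A.level.mem_rr B).1 h2 with h3 | h3
  · exact h3
  · exfalso
    obtain ⟨p0, _, hpu⟩ := A.top.trans _ h3
    rw [← mul_assoc x x, B.hx, one_mul] at hpu
    exact B.not_sq (IsPGroup.exists_pow A.top.pgroup hp) p0 hpu.symm

/-- Commutators of elements of `P` lie in `U`. -/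
theorem TopA.comm_mem [Finite G] (B : Base x E) (A : TopA x E U P h) (X : Expo U k) {p q : G}
    (hp : p ∈ P) (hq : q ∈ P) : p * q * p⁻¹ * q⁻¹ ∈ U := by
  have h1 := A.sq_mem B X (P.mul_mem hp hq)
  have h2 := A.sq_mem B X (P.inv_mem hp)
  have h3 := A.sq_mem B X (P.inv_mem hq)
  have h4 := A.normU (P.inv_mem hq) h2
  have h5 : p * q * p⁻¹ * q⁻¹ = (p * q) * (p * q) * (q⁻¹ * (p⁻¹ * p⁻¹) * q⁻¹⁻¹) * (q⁻¹ * q⁻¹) := by group
  rw [h5]
  exact U.mul_mem (U.mul_mem h1 h4) h3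

end

end Cfsg.Agent.GH.E
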