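import Cfsg.Agent.GH.EDefs

/-!
# GH-E: basic facts on levels
-/

set_option autoImplicit false

namespace Cfsg.Agent.GH.E

variable {G : Type*} [Group G] {x h : G} {E U : Subgroup G}

theorem Base.inv_x (B : Base x E) : x⁻¹ = x := inv_eq_iff_mul_eq_one.mpr B.hx

theorem Base.x_ne_one (B : Base x E) : x ≠ 1 := fun h1 => B.hxE (h1 ▸ E.one_mem)

theorem Base.inv_eq (B : Base x E) {e : G} (he : e ∈ E) : e⁻¹ = e := inv_eq_iff_mul_eq_one.mpr (B.sq e he)

theorem Base.mul_comm (B : Base x E) {u v : G} (hu : u ∈ E) (hv : v ∈ E) : u * v = v * u := by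
  have h1 := B.inv_eq (E.mul_mem hu hv)
  rw [mul_inv_rev, B.inv_eq hu, B.inv_eq hv] at h1
  exact h1.symm

/-- `x u x = u⁻¹`. -/
theorem Level.inv' (B : Base x E) (L : Level x E U h) {u : G} (hu : u ∈ U) : x * u * x = u⁻¹ := by
  have h1 := L.inv u hu
  rwa [B.inv_x] at h1

theorem Level.x_mul (B : Base x E) (L : Level x E U h) {u : G} (hu : u ∈ U) : x * u = u⁻¹ * x := by
  rw [← L.inv' B hu, mul_assoc, B.hx, mul_one]

theorem Level.mul_x (B : Base x E) (L : Level x E U h) {u : G} (hu : u ∈ U) : u * x = x * u⁻¹ := by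
  rw [L.x_mul B (U.inv_mem hu), inv_inv]

theorem Level.x_notMem (B : Base x E) (L : Level x E U h) : x ∉ U := fun hx =>
  B.hxE (L.omega x hx B.hx)

/-- every element `xu` is an involution -/
theorem Level.xu_sq (B : Base x E) (L : Level x E U h) {u : G} (hu : u ∈ U) : x * u * (x * u) = 1 := by
  rw [← mul_assoc, L.inv' B hu, inv_mul_cancel]

theorem Level.mul_pow (L : Level x E U h) {u v : G} (hu : u ∈ U) (hv : v ∈ U) (n : ℕ) :
    (u * v) ^ n = u ^ n * v ^ n :=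
  (show Commute u v from L.comm u hu v hv).mul_pow n

theorem Level.hU_pow (L : Level x E U h) (n : ℕ) {u : G} (hu : u ∈ U) : h ^ n * u * (h ^ n)⁻¹ ∈ U := by
  induction n with
  | zero => simpa using hu
  | succ n ih =>
    have h1 := L.hU _ ih
    have h2 : h * (h ^ n * u * (h ^ n)⁻¹) * h⁻¹ = h ^ (n + 1) * u * (h ^ (n + 1))⁻¹ := by
      rw [pow_succ' h n]; group
    rwa [h2] at h1

theorem conj_pow' (g u : G) (n : ℕ) : (g * u * g⁻¹) ^ n = g * u ^ n * g⁻¹ := conj_pow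

theorem Level.hE (B : Base x E) (L : Level x E U h) {e : G} (he : e ∈ E) : h * e * h⁻¹ ∈ E := by
  apply L.omega _ (L.hU e (L.le he))
  calc h * e * h⁻¹ * (h * e * h⁻¹) = h * (e * e) * h⁻¹ := by group
    _ = 1 := by rw [B.sq e he]; group

theorem Level.hE_pow (B : Base x E) (L : Level x E U h) (n : ℕ) {e : G} (he : e ∈ E) :
    h ^ n * e * (h ^ n)⁻¹ ∈ E := by
  apply L.omega _ (L.hU_pow n (L.le he))
  calc h ^ n * e * (h ^ n)⁻¹ * (h ^ n * e * (h ^ n)⁻¹) = h ^ n * (e * e) * (h ^ n)⁻¹ := by group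
    _ = 1 := by rw [B.sq e he]; group

theorem Base.exists_ne_one (B : Base x E) : ∃ e ∈ E, e ≠ 1 := by
  by_contra hcon
  push Not at hcon
  have h1 : E = ⊥ := (Subgroup.eq_bot_iff_forall E).2 hcon
  have h2 := B.card
  rw [h1, Subgroup.card_bot] at h2
  omega

/-- `E` is normalised by anything that normalises `U`. -/
theorem Level.E_of_U (B : Base x E) (L : Level x E U h) {g : G} (hg : ∀ u ∈ U, g * u * g⁻¹ ∈ U) {e : G}
    (he : e ∈ E) : g * e * g⁻¹ ∈ E := by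
  apply L.omega _ (hg e (L.le he))
  calc g * e * g⁻¹ * (g * e * g⁻¹) = g * (e * e) * g⁻¹ := by group
    _ = 1 := by rw [B.sq e he]; group

/-- The exponent of `U` is exactly `2 ^ (k + 1)`. -/
structure Expo (U : Subgroup G) (k : ℕ) : Prop where
  all : ∀ u ∈ U, u ^ 2 ^ (k + 1) = 1
  ex : ∃ u ∈ U, u ^ 2 ^ k ≠ 1

theorem Level.exists_expo [Finite G] (B : Base x E) (L : Level x E U h) : ∃ k, Expo U k := by
  classical
  have h1 : ∃ m : ℕ, ∀ u ∈ U, u ^ 2 ^ m = 1 := by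
    have : Fact (Nat.Prime 2) := ⟨Nat.prime_two⟩
    obtain ⟨m, hm⟩ := IsPGroup.iff_card.mp L.pgroup
    refine ⟨m, fun u hu => ?_⟩
    rw [← hm]
    have h2 : (⟨u, hu⟩ : U) ^ Nat.card U = 1 := pow_card_eq_one'
    have h3 := congrArg Subtype.val h2
    rwa [Subgroup.coe_pow, Subgroup.coe_one] at h3
  have h2 := Nat.find_spec h1
  set m := Nat.find h1 with hm
  have hm0 : m ≠ 0 := by
    intro h0
    obtain ⟨e, he, he1⟩ := B.exists_ne_one
    have h3 := h2 e (L.le he)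
    rw [h0] at h3
    exact he1 (by simpa using h3)
  obtain ⟨k, hk⟩ := Nat.exists_eq_succ_of_ne_zero hm0
  refine ⟨k, ?_, ?_⟩
  · rw [hk] at h2; exact h2
  · by_contra hcon
    push Not at hcon
    have h4 : m ≤ k := Nat.find_min' h1 hcon
    omega

theorem pow_two_pow_succ (u : G) (k : ℕ) : u ^ 2 ^ (k + 1) = u ^ 2 ^ k * u ^ 2 ^ k := by
  rw [pow_succ, pow_mul, pow_two]

theorem pow_two_pow_succ' (u : G) (k : ℕ) : u ^ 2 ^ (k + 1) = (u * u) ^ 2 ^ k := by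
  rw [pow_succ', pow_mul, pow_two]

variable {k : ℕ}

theorem Level.pi_mem (L : Level x E U h) (X : Expo U k) {u : G} (hu : u ∈ U) : u ^ 2 ^ k ∈ E := by
  apply L.omega _ (U.pow_mem hu _)
  rw [← pow_two_pow_succ]
  exact X.all u hu

theorem Level.pi_surj (L : Level x E U h) (X : Expo U k) {e : G} (he : e ∈ E) : ∃ u ∈ U, u ^ 2 ^ k = e := by
  by_cases he1 : e = 1
  · exact ⟨1, U.one_mem, by rw [one_pow, he1]⟩
  obtain ⟨u, hu, hu1⟩ := X.ex
  obtain ⟨n, hn⟩ := L.trans _ (L.pi_mem X hu) e he hu1 he1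
  exact ⟨h ^ n * u * (h ^ n)⁻¹, L.hU_pow n hu, by rw [conj_pow', hn]⟩

/-- `u ^ 2 ^ k = 1` implies that `u` is the square of an element of `U`. -/
theorem Level.exists_sq (L : Level x E U h) (X : Expo U k) {u : G} (hu : u ∈ U) (hu1 : u ^ 2 ^ k = 1) :
    ∃ w ∈ U, w * w = u := by
  have key : ∀ i : ℕ, i ≤ k → ∀ u ∈ U, u ^ 2 ^ i = 1 → ∃ w ∈ U, w * w = u := by
    intro i
    induction i with
    | zero =>
      intro _ u _ h1
      exact ⟨1, U.one_mem, by simpa using h1.symm⟩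
    | succ i ih =>
      intro hi u hu h1
      have h2 : u ^ 2 ^ i ∈ E := L.omega _ (U.pow_mem hu _) (by rw [← pow_two_pow_succ]; exact h1)
      obtain ⟨w, hw, hw1⟩ := L.pi_surj X h2
      -- w ^ 2 ^ k = (w ^ 2 ^ (k - i)) ^ 2 ^ i
      obtain ⟨j, hj⟩ : ∃ j, k = i + 1 + j := ⟨k - (i + 1), by omega⟩
      have h3 : (w ^ 2 ^ (j + 1)) ^ 2 ^ i = u ^ 2 ^ i := by
        rw [← hw1, ← pow_mul, ← pow_add]
        congr 2
        omega
      have h4 : (u * (w ^ 2 ^ (j + 1))⁻¹) ^ 2 ^ i = 1 := by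
        rw [L.mul_pow hu (U.inv_mem (U.pow_mem hw _)), inv_pow, h3, mul_inv_cancel]
      obtain ⟨v, hv, hv1⟩ := ih (by omega) _ (U.mul_mem hu (U.inv_mem (U.pow_mem hw _))) h4
      refine ⟨v * w ^ 2 ^ j, U.mul_mem hv (U.pow_mem hw _), ?_⟩
      have h5 : v * w ^ 2 ^ j * (v * w ^ 2 ^ j) = v * v * (w ^ 2 ^ j * w ^ 2 ^ j) := by
        have := L.comm _ (U.pow_mem hw (2 ^ j)) v hv
        calc v * w ^ 2 ^ j * (v * w ^ 2 ^ j) = v * (w ^ 2 ^ j * v) * w ^ 2 ^ j := by group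
          _ = v * (v * w ^ 2 ^ j) * w ^ 2 ^ j := by rw [this]
          _ = v * v * (w ^ 2 ^ j * w ^ 2 ^ j) := by group
      rw [h5, hv1, ← pow_two_pow_succ, inv_mul_cancel_right]
  exact key k le_rfl u hu hu1

theorem sq_pow_eq_one (X : Expo U k) {w : G} (hw : w ∈ U) : (w * w) ^ 2 ^ k = 1 := by
  rw [← pow_two_pow_succ']; exact X.all w hw

/-- if `u, v` have the same image then they differ by a square -/
theorem Level.exists_sq_mul (L : Level x E U h) (X : Expo U k) {u v : G} (hu : u ∈ U) (hv : v ∈ U)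
    (huv : u ^ 2 ^ k = v ^ 2 ^ k) : ∃ w ∈ U, u = v * (w * w) := by
  have h1 : (v⁻¹ * u) ^ 2 ^ k = 1 := by
    rw [L.mul_pow (U.inv_mem hv) hu, inv_pow, huv, inv_mul_cancel]
  obtain ⟨w, hw, hw1⟩ := L.exists_sq X (U.mul_mem (U.inv_mem hv) hu) h1
  exact ⟨w, hw, by rw [hw1, mul_inv_cancel_left]⟩

/-- `w (x u) w⁻¹ = x (u w⁻²)`. -/
theorem Level.conj_xu (B : Base x E) (L : Level x E U h) {u w : G} (hu : u ∈ U) (hw : w ∈ U) :
    w * (x * u) * w⁻¹ = x * (u * (w⁻¹ * w⁻¹)) := by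
  have h1 : w * x = x * w⁻¹ := L.mul_x B hw
  have h2 : w⁻¹ * u = u * w⁻¹ := L.comm _ (U.inv_mem hw) _ hu
  calc w * (x * u) * w⁻¹ = (w * x) * u * w⁻¹ := by group
    _ = x * (w⁻¹ * u) * w⁻¹ := by rw [h1]; group
    _ = x * (u * (w⁻¹ * w⁻¹)) := by rw [h2]; group

/-- `U` conjugates `xu` to `xv` if `u, v` have the same image in `E`. -/
theorem Level.exists_conj (B : Base x E) (L : Level x E U h) (X : Expo U k) {u v : G} (hu : u ∈ U)
    (hv : v ∈ U) (huv : u ^ 2 ^ k = v ^ 2 ^ k) : ∃ w ∈ U, w * (x * u) * w⁻¹ = x * v := by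
  obtain ⟨w, hw, hw1⟩ := L.exists_sq_mul X hv hu huv.symm
  refine ⟨w⁻¹, U.inv_mem hw, ?_⟩
  rw [L.conj_xu B hu (U.inv_mem hw), inv_inv, hw1]

/-! ### Sizes -/

theorem Level.le_normalizer (B : Base x E) (L : Level x E U h) : ∀ g ∈ rr x U, ∀ u ∈ U, g * u * g⁻¹ ∈ U := by
  intro g hg u hu
  rcases (L.mem_rr B).1 hg with hg | hg
  · exact U.mul_mem (U.mul_mem hg hu) (U.inv_mem hg)
  · have h1 : x * ((x * g) * u * (x * g)⁻¹) * x⁻¹ = g * u * g⁻¹ := by
      rw [mul_inv_rev, B.inv_x]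
      calc x * (x * g * u * (g⁻¹ * x)) * x = (x * x) * (g * u * g⁻¹) * (x * x) := by group
        _ = g * u * g⁻¹ := by rw [B.hx]; group
    have h2 : (x * g) * u * (x * g)⁻¹ ∈ U := U.mul_mem (U.mul_mem hg hu) (U.inv_mem hg)
    rw [← h1, L.inv _ h2]
    exact U.inv_mem h2

theorem relIndex_rr (hx : x * x = 1) (hU : ∀ u ∈ U, x * u * x⁻¹ ∈ U) (hxU : x ∉ U) :
    U.relIndex (rr x U) = 2 := by
  have hxi : x⁻¹ = x := inv_eq_iff_mul_eq_one.mpr hx
  rw [Subgroup.relIndex, Subgroup.index_eq_two_iff]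
  refine ⟨⟨x, self_mem_rr x U⟩, ?_⟩
  rintro ⟨g, hg⟩
  simp only [Subgroup.mem_subgroupOf, Subgroup.coe_mul]
  rcases (mem_rr hx hU).1 hg with hgU | hgU
  · refine Or.inr ⟨hgU, fun hc => hxU ?_⟩
    have := U.mul_mem (U.inv_mem hgU) hc
    rwa [inv_mul_cancel_left] at this
  · refine Or.inl ⟨?_, fun hgU' => hxU ?_⟩
    · have h1 := hU _ hgU
      have h2 : x * (x * g) * x⁻¹ = g * x := by
        rw [← mul_assoc, hx, one_mul, hxi]
      rwa [h2] at h1
    · have := U.mul_mem hgU (U.inv_mem hgU')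
      rwa [mul_inv_cancel_right] at this

theorem card_rr (hx : x * x = 1) (hU : ∀ u ∈ U, x * u * x⁻¹ ∈ U) (hxU : x ∉ U) :
    Nat.card (rr x U) = 2 * Nat.card U := by
  have h1 := Subgroup.relIndex_mul_relIndex ⊥ U (rr x U) bot_le (le_rr x U)
  rw [relIndex_rr hx hU hxU, Subgroup.relIndex_bot_left, Subgroup.relIndex_bot_left] at h1
  omega

theorem Level.conj_mem (L : Level x E U h) {u : G} (hu : u ∈ U) : x * u * x⁻¹ ∈ U := by
  rw [L.inv u hu]; exact U.inv_mem hu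

theorem Level.relIndex_rr (B : Base x E) (L : Level x E U h) : U.relIndex (rr x U) = 2 :=
  Cfsg.Agent.GH.E.relIndex_rr B.hx (fun _ hu => L.conj_mem hu) (L.x_notMem B)

theorem Level.card_rr (B : Base x E) (L : Level x E U h) : Nat.card (rr x U) = 2 * Nat.card U :=
  Cfsg.Agent.GH.E.card_rr B.hx (fun _ hu => L.conj_mem hu) (L.x_notMem B)

theorem Base.conj_mem (B : Base x E) {u : G} (hu : u ∈ E) : x * u * x⁻¹ ∈ E := by
  rw [B.comm u hu, mul_inv_cancel_right]; exact hu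

theorem Base.mem_rr (B : Base x E) {g : G} : g ∈ rr x E ↔ g ∈ E ∨ x * g ∈ E :=
  Cfsg.Agent.GH.E.mem_rr B.hx (fun _ hu => B.conj_mem hu)

theorem Base.card_rr (B : Base x E) : Nat.card (rr x E) = 16 := by
  rw [Cfsg.Agent.GH.E.card_rr B.hx (fun _ hu => B.conj_mem hu) B.hxE, B.card]

/-- `E⟨x⟩` centralises `x`. -/
theorem Base.rr_comm (B : Base x E) {g : G} (hg : g ∈ rr x E) : x * g = g * x := by
  rcases B.mem_rr.1 hg with hg | hg
  · exact B.comm g hg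
  · have h1 := B.comm _ hg
    rw [← mul_assoc, B.hx, one_mul] at h1
    -- g = x * g * x
    calc x * g = x * (x * g * x) := by rw [← h1]
      _ = (x * x) * g * x := by group
      _ = g * x := by rw [B.hx, one_mul]

theorem rr_mono {V : Subgroup G} (hUV : U ≤ V) : rr x U ≤ rr x V := sup_le_sup hUV le_rfl

/-- In a 2-group containing `E⟨x⟩`, the centraliser of `x` is `E⟨x⟩`. -/
theorem Base.mem_of_comm [Finite G] (B : Base x E) {Q : Subgroup G} (hQ : IsPGroup 2 Q)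
    (hEQ : rr x E ≤ Q) {q : G} (hq : q ∈ Q) (hc : x * q = q * x) : q ∈ rr x E := by
  have h1 : IsPGroup 2 (Q ⊓ Subgroup.centralizer {x} : Subgroup G) := hQ.to_le inf_le_left
  have h2 : ∀ c ∈ (Q ⊓ Subgroup.centralizer {x} : Subgroup G), x * c = c * x := fun c hc =>
    (Subgroup.mem_centralizer_singleton_iff.1 hc.2).symm
  have h3 := B.cent_card _ h1 h2
  have h4 : rr x E ≤ (Q ⊓ Subgroup.centralizer {x} : Subgroup G) :=
    le_inf hEQ (fun g hg => Subgroup.mem_centralizer_singleton_iff.2 (B.rr_comm hg).symm)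
  have h5 : rr x E = (Q ⊓ Subgroup.centralizer {x} : Subgroup G) :=
    Subgroup.eq_of_le_of_card_ge h4 (by rw [B.card_rr]; exact h3)
  rw [h5]
  exact ⟨hq, Subgroup.mem_centralizer_singleton_iff.2 hc.symm⟩

end Cfsg.Agent.GH.E
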