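import Cfsg.Agent.GH.ETowerBasic

/-!
# GH-E: the normaliser of `U⟨x⟩`
-/

set_option autoImplicit false

namespace Cfsg.Agent.GH.E

variable {G : Type*} [Group G] {x h : G} {E U : Subgroup G} {k : ℕ}

theorem ncard_orbit {G : Type*} [Group G] (K : Subgroup G) (x : G) :
    ({y | ∃ k ∈ K, k * x * k⁻¹ = y} : Set G).ncard = (Subgroup.centralizer {x}).relIndex K := by
  let _ : MulAction K G := MulAction.compHom G ((MulAut.conj (G := G)).comp K.subtype)
  have hsm : ∀ (k : K) (y : G), k • y = (k : G) * y * (k : G)⁻¹ := fun k y => rfl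
  have h1 : ({y | ∃ k ∈ K, k * x * k⁻¹ = y} : Set G) = MulAction.orbit K x := by
    ext y
    constructor
    · rintro ⟨k, hk, rfl⟩
      exact ⟨⟨k, hk⟩, rfl⟩
    · rintro ⟨k, rfl⟩
      exact ⟨k, k.2, rfl⟩
  have h2 : MulAction.stabilizer K x = (Subgroup.centralizer {x}).subgroupOf K := by
    ext k
    rw [MulAction.mem_stabilizer_iff, hsm, Subgroup.mem_subgroupOf, Subgroup.mem_centralizer_singleton_iff,
      mul_inv_eq_iff_eq_mul]
  rw [h1, ← MulAction.index_stabilizer, h2]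
  rfl

theorem card_eq_ncard_orbit_mul (K : Subgroup G) (x : G) :
    Nat.card K = ({y | ∃ k ∈ K, k * x * k⁻¹ = y} : Set G).ncard *
      Nat.card (K ⊓ Subgroup.centralizer {x} : Subgroup G) := by
  have h1 := Subgroup.relIndex_mul_relIndex ⊥ (K ⊓ Subgroup.centralizer {x}) K bot_le inf_le_left
  rw [Subgroup.relIndex_bot_left, Subgroup.relIndex_bot_left, Subgroup.inf_relIndex_left] at h1
  rw [ncard_orbit, ← h1, mul_comm]

/-- `Y` is transitive on `xU` (up to leaving `xU`). -/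
def TransOn (x : G) (U Y : Subgroup G) : Prop := ∀ u ∈ U, ∃ g ∈ Y, g * x * g⁻¹ = x * u

theorem Level.dd_mem (B : Base x E) (L : Level x E U h) (hN : NormU x U) {g : G}
    (hg : g ∈ Subgroup.normalizer (rr x U : Set G)) : x * (g * x * g⁻¹) ∈ U := by
  have h1 : g * x * g⁻¹ ∈ rr x U := (Subgroup.mem_normalizer_iff.1 hg x).1 (self_mem_rr x U)
  rcases (L.mem_rr B).1 h1 with h2 | h2
  · exfalso
    have h3 := hN g⁻¹ (Subgroup.inv_mem _ hg) _ h2
    have h4 : g⁻¹ * (g * x * g⁻¹) * g⁻¹⁻¹ = x := by group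
    rw [h4] at h3
    exact L.x_notMem B h3
  · exact h2

theorem Level.ncard_xU (U : Subgroup G) (x : G) :
    ((fun u => x * u) '' (U : Set G)).ncard = Nat.card U := by
  rw [Set.ncard_image_of_injective _ (mul_right_injective x)]
  rfl

theorem Level.orbit_subset (B : Base x E) (L : Level x E U h) (hN : NormU x U) {Q : Subgroup G}
    (hQN : Q ≤ Subgroup.normalizer (rr x U : Set G)) :
    ({y | ∃ k ∈ Q, k * x * k⁻¹ = y} : Set G) ⊆ (fun u => x * u) '' (U : Set G) := by
  rintro _ ⟨g, hg, rfl⟩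
  exact ⟨x * (g * x * g⁻¹), L.dd_mem B hN (hQN hg), by
    show x * (x * (g * x * g⁻¹)) = _
    rw [← mul_assoc, B.hx, one_mul]⟩

theorem Level.card_le [Finite G] (B : Base x E) (L : Level x E U h) (hN : NormU x U) {Q : Subgroup G}
    (hQ : IsPGroup 2 Q) (hQN : Q ≤ Subgroup.normalizer (rr x U : Set G)) :
    Nat.card Q ≤ 16 * Nat.card U := by
  rw [card_eq_ncard_orbit_mul Q x, mul_comm]
  apply Nat.mul_le_mul
  · apply B.cent_card _ (hQ.to_le inf_le_left)
    intro c hc
    exact (Subgroup.mem_centralizer_singleton_iff.1 hc.2).symm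
  · rw [← Level.ncard_xU U x]
    exact Set.ncard_le_ncard (L.orbit_subset B hN hQN) (Set.toFinite _)

theorem Level.rr_pgroup [Finite G] (B : Base x E) (L : Level x E U h) : IsPGroup 2 (rr x U) := by
  have : Fact (Nat.Prime 2) := ⟨Nat.prime_two⟩
  obtain ⟨n, hn⟩ := IsPGroup.iff_card.mp L.pgroup
  apply IsPGroup.of_card (n := n + 1)
  rw [L.card_rr B, hn, pow_succ']

/-- Construction of a Sylow 2-subgroup of `N_G(R)` inside a subgroup which is transitive on `xU`. -/
theorem Level.exists_top [Finite G] (B : Base x E) (L : Level x E U h) (hN : NormU x U) {Y : Subgroup G}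
    (hRY : rr x U ≤ Y) (hYN : Y ≤ Subgroup.normalizer (rr x U : Set G)) (htr : TransOn x U Y) :
    ∃ P : Subgroup G, Top x U P ∧ P ≤ Y := by
  have : Fact (Nat.Prime 2) := ⟨Nat.prime_two⟩
  obtain ⟨n, hn⟩ := IsPGroup.iff_card.mp L.pgroup
  -- the orbit of `Y` is `xU`
  have horb : ({y | ∃ k ∈ Y, k * x * k⁻¹ = y} : Set G) = (fun u => x * u) '' (U : Set G) := by
    apply Set.Subset.antisymm (L.orbit_subset B hN hYN)
    rintro _ ⟨u, hu, rfl⟩
    exact htr u hu
  have hcY : Nat.card Y = Nat.card U * Nat.card (Y ⊓ Subgroup.centralizer {x} : Subgroup G) := by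
    rw [card_eq_ncard_orbit_mul Y x, horb, Level.ncard_xU]
  have h16 : 16 ∣ Nat.card (Y ⊓ Subgroup.centralizer {x} : Subgroup G) := by
    rw [← B.card_rr]
    apply Subgroup.card_dvd_of_le
    exact le_inf ((rr_mono L.le).trans hRY)
      (fun g hg => Subgroup.mem_centralizer_singleton_iff.2 (B.rr_comm hg).symm)
  have hdvd : 2 ^ (n + 4) ∣ Nat.card Y := by
    rw [hcY, pow_add, hn]
    exact Nat.mul_dvd_mul_left _ h16
  have hR : Nat.card ((rr x U).subgroupOf Y) = 2 ^ (n + 1) := by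
    rw [Nat.card_congr (Subgroup.subgroupOfEquivOfLe hRY).toEquiv, L.card_rr B, hn, pow_succ']
  obtain ⟨K, hK, hRK⟩ := Sylow.exists_subgroup_card_pow_prime_le 2 hdvd ((rr x U).subgroupOf Y) hR
    (by omega)
  have hcK : Nat.card (K.map Y.subtype) = 2 ^ (n + 4) := by
    rw [← hK]
    exact Nat.card_congr (K.equivMapOfInjective _ Y.subtype_injective).symm.toEquiv
  have hKY : K.map Y.subtype ≤ Y := by
    rintro _ ⟨g, _, rfl⟩; exact g.2
  have hle : rr x U ≤ K.map Y.subtype := by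
    intro g hg
    exact ⟨⟨g, hRY hg⟩, hRK (Subgroup.mem_subgroupOf.2 hg), rfl⟩
  have hpg : IsPGroup 2 (K.map Y.subtype) := IsPGroup.of_card hcK
  have hKN : K.map Y.subtype ≤ Subgroup.normalizer (rr x U : Set G) := hKY.trans hYN
  have hcK' : Nat.card (K.map Y.subtype) = 16 * Nat.card U := by
    rw [hcK, hn, pow_add]; ring
  refine ⟨K.map Y.subtype, ?_, hKY⟩
  refine ⟨hN, hpg, hle, hKN, ?_, ?_, ?_⟩
  · intro Q hQ hle hQN
    symm
    apply Subgroup.eq_of_le_of_card_ge hle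
    rw [hcK']
    exact L.card_le B hN hQ hQN
  · rw [hcK', L.card_rr B]; ring
  · have h1 : ({y | ∃ k ∈ K.map Y.subtype, k * x * k⁻¹ = y} : Set G) = (fun u => x * u) '' (U : Set G) := by
      apply Set.eq_of_subset_of_ncard_le (L.orbit_subset B hN hKN) _ (Set.toFinite _)
      rw [Level.ncard_xU]
      have h2 := card_eq_ncard_orbit_mul (K.map Y.subtype) x
      have h3 : Nat.card (K.map Y.subtype ⊓ Subgroup.centralizer {x} : Subgroup G) ≤ 16 := by
        apply B.cent_card _ (hpg.to_le inf_le_left)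
        intro c hc
        exact (Subgroup.mem_centralizer_singleton_iff.1 hc.2).symm
      rw [hcK'] at h2
      by_contra hcon
      push Not at hcon
      have h4 := Nat.mul_le_mul (Nat.le_of_lt_succ (Nat.lt_succ_of_lt hcon)) h3
      have h5 : 0 < Nat.card (K.map Y.subtype ⊓ Subgroup.centralizer {x} : Subgroup G) := Nat.card_pos
      nlinarith
    intro u hu
    have h2 : x * u ∈ ({y | ∃ k ∈ K.map Y.subtype, k * x * k⁻¹ = y} : Set G) := by
      rw [h1]; exact ⟨u, hu, rfl⟩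
    exact h2

/-- For `U ≠ E` the normaliser of `U⟨x⟩` normalises `U`. -/
theorem Level.normU (B : Base x E) (L : Level x E U h) (hUE : ∃ w ∈ U, w ∉ E) : NormU x U := by
  intro g hg
  have key : ∀ u ∈ U, u ∉ E → g * u * g⁻¹ ∈ U := by
    intro u hu huE
    have h1 : g * u * g⁻¹ ∈ rr x U := (Subgroup.mem_normalizer_iff.1 hg u).1 (le_rr x U hu)
    rcases (L.mem_rr B).1 h1 with h2 | h2
    · exact h2
    · exfalso
      apply huE
      apply L.omega u hu
      have h3 := L.xu_sq B h2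
      rw [← mul_assoc x x, B.hx, one_mul] at h3
      have h4 : g * u * g⁻¹ * (g * u * g⁻¹) = g * (u * u) * g⁻¹ := by group
      rw [h4] at h3
      have h5 := mul_inv_eq_one.1 h3
      exact mul_eq_left.1 h5
  obtain ⟨w, hw, hwE⟩ := hUE
  intro u hu
  by_cases huE : u ∈ E
  · have h1 : w * u ∉ E := fun hc => hwE (by
      have := E.mul_mem hc (E.inv_mem huE)
      rwa [mul_inv_cancel_right] at this)
    have h2 := key w hw hwE
    have h3 := key _ (U.mul_mem hw hu) h1
    have h4 : g * u * g⁻¹ = (g * w * g⁻¹)⁻¹ * (g * (w * u) * g⁻¹) := by group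
    rw [h4]
    exact U.mul_mem (U.inv_mem h2) h3
  · exact key u hu huE

theorem Level.le_normalizer' (B : Base x E) (L : Level x E U h) :
    rr x U ≤ Subgroup.normalizer (rr x U : Set G) := Subgroup.le_normalizer

theorem Level.h_mem_normalizer [Finite G] (B : Base x E) (L : Level x E U h) :
    h ∈ Subgroup.normalizer (rr x U : Set G) := by
  have h1 : ∀ g ∈ rr x U, h * g * h⁻¹ ∈ rr x U := by
    intro g hg
    rcases (L.mem_rr B).1 hg with hg | hg
    · exact le_rr x U (L.hU g hg)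
    · apply (L.mem_rr B).2
      right
      have h2 : x * (h * g * h⁻¹) = h * (x * g) * h⁻¹ := by
        rw [← mul_assoc, ← mul_assoc, ← L.hx]; group
      rw [h2]
      exact L.hU _ hg
  rw [Subgroup.mem_normalizer_iff]
  intro g
  refine ⟨h1 g, fun hg => ?_⟩
  -- finite: conjugation by `h` is a bijection of `rr x U`
  have h2 : Function.Injective (fun r : rr x U => (⟨h * r * h⁻¹, h1 r r.2⟩ : rr x U)) := by
    intro a b hab
    have := congrArg Subtype.val hab
    simp only at this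
    exact Subtype.ext (mul_left_cancel (mul_right_cancel this))
  obtain ⟨⟨r, hr⟩, hr1⟩ := (Finite.injective_iff_surjective.1 h2) ⟨h * g * h⁻¹, hg⟩
  have h3 := congrArg Subtype.val hr1
  simp only at h3
  have h4 : r = g := mul_left_cancel (mul_right_cancel h3)
  rwa [← h4]

/-- If some element of `Y` (`h`-invariant) moves the class of `x` then `Y` is transitive on `xU`. -/
theorem Level.transOn (B : Base x E) (L : Level x E U h) (X : Expo U k) (hN : NormU x U) {Y : Subgroup G}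
    (hUY : U ≤ Y) (hYN : Y ≤ Subgroup.normalizer (rr x U : Set G)) (hh : ∀ y ∈ Y, h * y * h⁻¹ ∈ Y)
    {g : G} (hg : g ∈ Y) (hg1 : (x * (g * x * g⁻¹)) ^ 2 ^ k ≠ 1) : TransOn x U Y := by
  intro u hu
  have hhn : ∀ (n : ℕ), ∀ y ∈ Y, h ^ n * y * (h ^ n)⁻¹ ∈ Y := by
    intro n
    induction n with
    | zero => intro y hy; simpa using hy
    | succ n ih =>
      intro y hy
      have h2 : h * (h ^ n * y * (h ^ n)⁻¹) * h⁻¹ = h ^ (n + 1) * y * (h ^ (n + 1))⁻¹ := by
        rw [pow_succ' h n]; group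
      rw [← h2]
      exact hh _ (ih y hy)
  have hxn : ∀ n : ℕ, h ^ n * x = x * h ^ n := fun n => (show Commute h x from L.hx).pow_left n
  have hc : ∀ n : ℕ, (h ^ n) * x * (h ^ n)⁻¹ = x := fun n => by rw [hxn, mul_inv_cancel_right]
  have hdU := L.dd_mem B hN (hYN hg)
  -- first: some element of `Y` maps `x` to `x u'` with `u'` in the class of `u`
  have hex : ∃ g' ∈ Y, ∃ u' ∈ U, g' * x * g'⁻¹ = x * u' ∧ u' ^ 2 ^ k = u ^ 2 ^ k := by
    by_cases hu1 : u ^ 2 ^ k = 1
    · exact ⟨1, Y.one_mem, 1, U.one_mem, by group, by rw [one_pow, hu1]⟩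
    · obtain ⟨n, hn⟩ := L.trans _ (L.pi_mem X hdU) _ (L.pi_mem X hu) hg1 hu1
      refine ⟨h ^ n * g * (h ^ n)⁻¹, hhn n g hg, h ^ n * (x * (g * x * g⁻¹)) * (h ^ n)⁻¹,
        L.hU_pow n hdU, ?_, ?_⟩
      · calc h ^ n * g * (h ^ n)⁻¹ * x * (h ^ n * g * (h ^ n)⁻¹)⁻¹
            = h ^ n * g * ((h ^ n)⁻¹ * x * h ^ n) * g⁻¹ * (h ^ n)⁻¹ := by group
          _ = h ^ n * g * x * g⁻¹ * (h ^ n)⁻¹ := by
              rw [show (h ^ n)⁻¹ * x * h ^ n = x by rw [mul_assoc, ← hxn, inv_mul_cancel_left]]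
          _ = h ^ n * (x * x) * g * x * g⁻¹ * (h ^ n)⁻¹ := by rw [B.hx]; group
          _ = (h ^ n * x) * (x * (g * x * g⁻¹)) * (h ^ n)⁻¹ := by group
          _ = x * (h ^ n * (x * (g * x * g⁻¹)) * (h ^ n)⁻¹) := by rw [hxn]; group
      · rw [conj_pow', hn]
  obtain ⟨g', hg', u', hu', hgu, huu⟩ := hex
  obtain ⟨w, hw, hw1⟩ := L.exists_conj B X hu' hu huu
  refine ⟨w * g', Y.mul_mem (hUY hw) hg', ?_⟩
  calc w * g' * x * (w * g')⁻¹ = w * (g' * x * g'⁻¹) * w⁻¹ := by group
    _ = x * u := by rw [hgu, hw1]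

/-- A 2-subgroup of `N(R)` containing `R`, whose elements fix the class of `x`, is `R`. -/
theorem Level.eq_rr [Finite G] (B : Base x E) (L : Level x E U h) (X : Expo U k) (hN : NormU x U)
    {Q : Subgroup G} (hQ : IsPGroup 2 Q) (hRQ : rr x U ≤ Q)
    (hQN : Q ≤ Subgroup.normalizer (rr x U : Set G)) {q : G} (hq : q ∈ Q)
    (hq1 : (x * (q * x * q⁻¹)) ^ 2 ^ k = 1) : q ∈ rr x U := by
  have hd := L.dd_mem B hN (hQN hq)
  obtain ⟨w, hw, hw1⟩ := L.exists_conj B X hd U.one_mem (by rw [hq1, one_pow])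
  have h1 : w * q ∈ Q := Q.mul_mem (hRQ (le_rr x U hw)) hq
  have h2 : x * (w * q) = (w * q) * x := by
    have h3 : w * (q * x * q⁻¹) * w⁻¹ = x := by
      rw [← mul_assoc x x, B.hx, one_mul, mul_one] at hw1
      exact hw1
    calc x * (w * q) = (w * (q * x * q⁻¹) * w⁻¹) * (w * q) := by rw [h3]
      _ = (w * q) * x := by group
  have h3 := B.mem_of_comm hQ ((rr_mono L.le).trans hRQ) h1 h2
  have h4 := (rr x U).mul_mem ((rr x U).inv_mem (le_rr x U hw)) (rr_mono L.le h3)
  rwa [inv_mul_cancel_left] at h4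

end Cfsg.Agent.GH.E
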