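import Cfsg.Agent.GH.ETowerN
import Cfsg.Agent.Transfer.ThompsonTransfer

/-!
# GH-E: Sylow subgroups and transfer
-/

set_option autoImplicit false

namespace Cfsg.Agent.GH.E

variable {G : Type*} [Group G] {x h : G} {E U : Subgroup G} {k : ℕ}

/-- Normalizers grow in 2-groups. -/
theorem lt_inf_normalizer [Finite G] {P D : Subgroup G} (hP : IsPGroup 2 P) (hlt : D < P) :
    D < P ⊓ Subgroup.normalizer (D : Set G) := by
  have : Fact (Nat.Prime 2) := ⟨Nat.prime_two⟩
  have : Group.IsNilpotent P := hP.isNilpotent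
  have h1 : D.subgroupOf P < ⊤ := by
    rw [lt_top_iff_ne_top, Ne, Subgroup.subgroupOf_eq_top]
    exact not_le_of_gt hlt
  have h2 := Group.normalizerCondition_of_isNilpotent (G := P) _ h1
  obtain ⟨y, hy, hyD⟩ := SetLike.exists_of_lt h2
  refine lt_of_le_of_ne (le_inf hlt.le Subgroup.le_normalizer) ?_
  intro heq
  apply hyD
  rw [Subgroup.mem_subgroupOf, heq]
  refine ⟨y.2, ?_⟩
  show (y : G) ∈ Subgroup.normalizer (D : Set G)
  rw [Subgroup.mem_normalizer_iff] at hy ⊢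
  intro g
  constructor
  · intro hg
    have h3 := (hy ⟨g, hlt.le hg⟩).1 (by rw [Subgroup.mem_subgroupOf]; exact hg)
    rw [Subgroup.mem_subgroupOf] at h3
    exact h3
  · intro hg
    have h4 : g ∈ P := by
      have h5 : (y : G)⁻¹ * ((y : G) * g * (y : G)⁻¹) * (y : G) ∈ P :=
        P.mul_mem (P.mul_mem (P.inv_mem y.2) (hlt.le hg)) y.2
      have h6 : (y : G)⁻¹ * ((y : G) * g * (y : G)⁻¹) * (y : G) = g := by group
      rwa [h6] at h5
    have h3 := (hy ⟨g, h4⟩).2 (by rw [Subgroup.mem_subgroupOf]; exact hg)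
    rw [Subgroup.mem_subgroupOf] at h3
    exact h3

/-- A 2-subgroup which is maximal among the 2-subgroups of its normaliser is a Sylow 2-subgroup. -/
theorem exists_sylow_eq [Finite G] {P : Subgroup G} (hP : IsPGroup 2 P)
    (hmax : ∀ Q : Subgroup G, IsPGroup 2 Q → P ≤ Q → Q ≤ Subgroup.normalizer (P : Set G) → Q = P) :
    ∃ S : Sylow 2 G, (S : Subgroup G) = P := by
  obtain ⟨S, hS⟩ := hP.exists_le_sylow
  refine ⟨S, ?_⟩
  by_contra hne
  have hlt : P < (S : Subgroup G) := lt_of_le_of_ne hS (Ne.symm hne)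
  have h1 := lt_inf_normalizer S.isPGroup' hlt
  have h2 := hmax _ (S.isPGroup'.to_le inf_le_left) h1.le inf_le_right
  exact h1.ne h2.symm

/-- Transfer: `P` Sylow, `K` of index 2 in `P`, no conjugate of the involution `x` in `K`. -/
theorem false_of_transfer [Finite G] (hidx : ∀ K : Subgroup G, K.index ≠ 2) {P K : Subgroup G}
    (hP : ∃ S : Sylow 2 G, (S : Subgroup G) = P) (hKP : K ≤ P) (hK : K.relIndex P = 2) (hx : x * x = 1)
    (hno : ∀ g : G, g * x * g⁻¹ ∉ K) : False := by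
  obtain ⟨S, rfl⟩ := hP
  rcases Cfsg.Agent.Transfer.ThompsonTransfer.thompson_transfer S K hKP hK x (by rw [pow_two, hx]) with
    ⟨M, _, hM, _⟩ | ⟨g, hg⟩
  · exact hidx M hM
  · exact hno g hg

/-- `x` is not conjugate to an element centralised by a 2-group of order `> 16`. -/
theorem Base.not_conj_of_card (B : Base x E) {Q : Subgroup G} (hQ : IsPGroup 2 Q)
    (hc : 16 < Nat.card Q) {e : G} (he : ∀ q ∈ Q, e * q = q * e) (g : G) : g * x * g⁻¹ ≠ e := by
  intro hge
  have h1 : IsPGroup 2 (Q.map (MulAut.conj g⁻¹).toMonoidHom) := hQ.map _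
  have h2 : ∀ q ∈ Q.map (MulAut.conj g⁻¹).toMonoidHom, x * q = q * x := by
    rintro _ ⟨q, hq, rfl⟩
    have h3 := he q hq
    rw [← hge] at h3
    simp only [MulEquiv.coe_toMonoidHom, MulAut.conj_apply, inv_inv]
    calc x * (g⁻¹ * q * g) = g⁻¹ * (g * x * g⁻¹ * q) * g := by group
      _ = g⁻¹ * (q * (g * x * g⁻¹)) * g := by rw [h3]
      _ = g⁻¹ * q * g * x := by group
  have h4 := B.cent_card _ h1 h2
  have h5 : Nat.card (Q.map (MulAut.conj g⁻¹).toMonoidHom) = Nat.card Q :=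
    Nat.card_congr (Q.equivMapOfInjective _ (MulAut.conj g⁻¹).injective).symm.toEquiv
  omega

/-- `x` is not a square of a 2-element (and neither are its conjugates). -/
theorem Base.not_sq (B : Base x E) {q : G} (hq : ∃ n : ℕ, q ^ 2 ^ n = 1) (g : G) : q * q ≠ g * x * g⁻¹ := by
  intro hc
  have h1 : (g⁻¹ * q * g) * (g⁻¹ * q * g) = x := by
    calc (g⁻¹ * q * g) * (g⁻¹ * q * g) = g⁻¹ * (q * q) * g := by group
      _ = x := by rw [hc]; group
  have h2 : x * (g⁻¹ * q * g) = (g⁻¹ * q * g) * x := by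
    rw [← h1]; group
  obtain ⟨n, hn⟩ := hq
  have h3 : (g⁻¹ * q * g) ^ 2 ^ n = 1 := by
    have h4 : g⁻¹ * q * g = g⁻¹ * q * g⁻¹⁻¹ := by rw [inv_inv]
    rw [h4, conj_pow, hn]; group
  have h5 := B.cent_sq _ h2 ⟨n, h3⟩
  exact B.x_ne_one (by rw [← h1, h5])

theorem IsPGroup.exists_pow {Q : Subgroup G} (hQ : IsPGroup 2 Q) {q : G} (hq : q ∈ Q) :
    ∃ n : ℕ, q ^ 2 ^ n = 1 := by
  obtain ⟨n, hn⟩ := hQ ⟨q, hq⟩
  refine ⟨n, ?_⟩
  have := congrArg Subtype.val hn
  rwa [Subgroup.coe_pow, Subgroup.coe_one] at this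

theorem Level.E_comm (B : Base x E) (L : Level x E U h) {e r : G} (he : e ∈ E) (hr : r ∈ rr x U) :
    e * r = r * e := by
  rcases (L.mem_rr B).1 hr with hr | hr
  · exact L.comm e (L.le he) r hr
  · have h1 := L.comm e (L.le he) _ hr
    have h2 := B.comm e he
    calc e * r = (x * x) * e * r := by rw [B.hx, one_mul]
      _ = x * (x * e) * r := by group
      _ = x * (e * x) * r := by rw [h2]
      _ = x * (e * (x * r)) := by group
      _ = x * (x * r * e) := by rw [h1]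
      _ = (x * x) * r * e := by group
      _ = r * e := by rw [B.hx, one_mul]

theorem Level.card_gt [Finite G] (B : Base x E) (L : Level x E U h) (hUE : ∃ w ∈ U, w ∉ E) :
    16 < Nat.card (rr x U) := by
  rw [L.card_rr B]
  have h1 : E < U := by
    obtain ⟨w, hw, hwE⟩ := hUE
    exact lt_of_le_of_ne L.le (fun hc => hwE (hc ▸ hw))
  have h2 : Nat.card E < Nat.card U := by
    by_contra hcon
    push Not at hcon
    exact h1.ne (Subgroup.eq_of_le_of_card_ge h1.le hcon)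
  rw [B.card] at h2
  omega

theorem conj_sq_one (B : Base x E) (g : G) : g * x * g⁻¹ * (g * x * g⁻¹) = 1 := by
  calc g * x * g⁻¹ * (g * x * g⁻¹) = g * (x * x) * g⁻¹ := by group
    _ = 1 := by rw [B.hx]; group

/-- Level `k ≥ 2`: if `N(R)` fixes the class of `x` then there is a subgroup of index 2. -/
theorem Level.false_of_fixed [Finite G] (hidx : ∀ K : Subgroup G, K.index ≠ 2) (B : Base x E)
    (L : Level x E U h) (X : Expo U k) (hUE : ∃ w ∈ U, w ∉ E)
    (hfix : ∀ g ∈ Subgroup.normalizer (rr x U : Set G), (x * (g * x * g⁻¹)) ^ 2 ^ k = 1) : False := by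
  have hN := L.normU B hUE
  have hS : ∃ S : Sylow 2 G, (S : Subgroup G) = rr x U := by
    apply exists_sylow_eq (L.rr_pgroup B)
    intro Q hQ hle hQN
    apply le_antisymm _ hle
    intro q hq
    exact L.eq_rr B X hN hQ hle hQN hq (hfix q (hQN hq))
  refine false_of_transfer hidx hS (le_rr x U) (L.relIndex_rr B) B.hx ?_
  intro g hg
  have h1 : g * x * g⁻¹ ∈ E := L.omega _ hg (conj_sq_one B g)
  exact B.not_conj_of_card (L.rr_pgroup B) (L.card_gt B hUE) (fun q hq => L.E_comm B h1 hq) g rfl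

/-- Elements of `E` are not conjugate to `x`, as soon as there is a `Top`. -/
theorem Top.not_conj_E [Finite G] (B : Base x E) (L : Level x E U h) {P : Subgroup G} (T : Top x U P)
    {e : G} (he : e ∈ E) (g : G) : g * x * g⁻¹ ≠ e := by
  have : Fact (Nat.Prime 2) := ⟨Nat.prime_two⟩
  intro hge
  have hcP : 16 < Nat.card P := by
    rw [T.card, L.card_rr B]
    have h1 : Nat.card E ≤ Nat.card U := Subgroup.card_le_of_le L.le
    rw [B.card] at h1
    omega
  -- a fixed point of `P` in `E`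
  have hPE : ∀ p ∈ P, ∀ e ∈ E, p * e * p⁻¹ ∈ E := fun p hp e he =>
    L.E_of_U B (T.normU p (T.norm hp)) he
  obtain ⟨e0, he0, he01, hfix⟩ : ∃ e0 ∈ E, e0 ≠ 1 ∧ ∀ p ∈ P, p * e0 * p⁻¹ = e0 := by
    let act : MulAction P E :=
      { smul := fun p e => ⟨p * e * (p : G)⁻¹, hPE p p.2 e e.2⟩
        one_smul := fun e => Subtype.ext (by show (1 : G) * e * (1 : G)⁻¹ = e; group)
        mul_smul := fun p q e => Subtype.ext (by
          show ((p * q : P) : G) * e * ((p * q : P) : G)⁻¹ = p * (q * e * (q : G)⁻¹) * (p : G)⁻¹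
          rw [Subgroup.coe_mul]; group) }
    have hfinE : Finite E := Nat.finite_of_card_ne_zero (by rw [B.card]; norm_num)
    have h1 := T.pgroup.card_modEq_card_fixedPoints E
    rw [B.card] at h1
    have h2 : 2 ∣ Nat.card (MulAction.fixedPoints P E) := by
      have : (8 : ℕ) ≡ 0 [MOD 2] := by decide
      exact (Nat.modEq_zero_iff_dvd).1 (h1.symm.trans this)
    have h3 : (1 : E) ∈ MulAction.fixedPoints P E := by
      intro p
      exact Subtype.ext (by show (p : G) * 1 * (p : G)⁻¹ = 1; group)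
    have hne : Nonempty (MulAction.fixedPoints P E) := ⟨⟨1, h3⟩⟩
    have h4 : 1 < Nat.card (MulAction.fixedPoints P E) := by
      have h5 : 0 < Nat.card (MulAction.fixedPoints P E) := Nat.card_pos
      omega
    obtain ⟨y, hy⟩ : ∃ y : MulAction.fixedPoints P E, y ≠ ⟨1, h3⟩ := by
      by_contra hcon
      push Not at hcon
      have : Nat.card (MulAction.fixedPoints P E) ≤ 1 := by
        have : Subsingleton (MulAction.fixedPoints P E) := ⟨fun a b => by rw [hcon a, hcon b]⟩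
        exact Finite.card_le_one_iff_subsingleton.2 this
      omega
    refine ⟨y.1.1, y.1.2, ?_, ?_⟩
    · intro hc
      exact hy (Subtype.ext (Subtype.ext hc))
    · intro p hp
      exact congrArg Subtype.val (y.2 ⟨p, hp⟩)
  have he1 : e ≠ 1 := by
    intro hc
    rw [hc, mul_inv_eq_one, mul_eq_left] at hge
    exact B.x_ne_one hge
  obtain ⟨n, hn⟩ := L.trans e he e0 he0 he1 he01
  have h6 : (h ^ n * g) * x * (h ^ n * g)⁻¹ = e0 := by
    rw [← hn, ← hge]; group
  refine B.not_conj_of_card T.pgroup hcP (e := e0) (fun p hp => ?_) _ h6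
  have h7 := hfix p hp
  rw [mul_inv_eq_iff_eq_mul] at h7
  exact h7.symm

/-- If all conjugates of `x` in `P` lie in `xU` then `P` is a Sylow 2-subgroup of `G`. -/
theorem Top.sylow [Finite G] (B : Base x E) (L : Level x E U h) {P : Subgroup G} (T : Top x U P)
    (hc : ∀ g : G, g * x * g⁻¹ ∈ P → x * (g * x * g⁻¹) ∈ U) : ∃ S : Sylow 2 G, (S : Subgroup G) = P := by
  apply exists_sylow_eq T.pgroup
  intro Q hQ hPQ hQN
  apply T.syl Q hQ hPQ
  have hxP : x ∈ P := T.le (self_mem_rr x U)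
  have key : ∀ g ∈ Q, ∀ r ∈ rr x U, g * r * g⁻¹ ∈ rr x U := by
    intro g hg
    have hgP : ∀ p ∈ P, g * p * g⁻¹ ∈ P := fun p hp => (Subgroup.mem_normalizer_iff.1 (hQN hg) p).1 hp
    have h1 : ∀ u ∈ U, g * (x * u) * g⁻¹ ∈ rr x U := by
      intro u hu
      obtain ⟨p, hp, hpu⟩ := T.trans u hu
      have h2 : g * (x * u) * g⁻¹ = (g * p) * x * (g * p)⁻¹ := by rw [← hpu]; group
      have h3 : (g * p) * x * (g * p)⁻¹ ∈ P := by
        rw [← h2]
        exact hgP _ (T.le ((rr x U).mul_mem (self_mem_rr x U) (le_rr x U hu)))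
      rw [h2]
      exact (L.mem_rr B).2 (Or.inr (hc _ h3))
    intro r hr
    rcases (L.mem_rr B).1 hr with hr | hr
    · have h2 := h1 1 U.one_mem
      have h3 := h1 r hr
      rw [mul_one] at h2
      have h4 : g * r * g⁻¹ = (g * x * g⁻¹)⁻¹ * (g * (x * r) * g⁻¹) := by group
      rw [h4]
      exact (rr x U).mul_mem ((rr x U).inv_mem h2) h3
    · have h3 := h1 _ hr
      rwa [← mul_assoc x x, B.hx, one_mul] at h3
  intro g hg
  rw [Subgroup.mem_normalizer_iff]
  intro r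
  refine ⟨key g hg r, fun hr => ?_⟩
  have h5 := key g⁻¹ (Q.inv_mem hg) _ hr
  have h6 : g⁻¹ * (g * r * g⁻¹) * g⁻¹⁻¹ = r := by group
  rwa [h6] at h5

/-- Case (b), `k ≥ 2`: an involution of `P - R` is not conjugate to `x`. -/
theorem Top.no_conj [Finite G] (B : Base x E) (L : Level x E U h) (X : Expo U k)
    (hUE : ∃ w ∈ U, w ∉ E) {P : Subgroup G} (T : Top x U P)
    (hf : ∀ p ∈ P, (∀ e ∈ E, p * e = e * p) → p ∈ rr x U) {t : G} (ht : t ∈ P) (htR : t ∉ rr x U)
    (ht2 : t * t = 1) (g : G) : g * x * g⁻¹ ≠ t := by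
  intro hgt
  have hti : t⁻¹ = t := inv_eq_iff_mul_eq_one.mpr ht2
  have htU : ∀ u ∈ U, t * u * t⁻¹ ∈ U := T.normU t (T.norm ht)
  -- some `e ∈ E` is moved by `t`
  obtain ⟨e, he, hte⟩ : ∃ e ∈ E, t * e ≠ e * t := by
    by_contra hcon
    push Not at hcon
    exact htR (hf t ht hcon)
  obtain ⟨u, hu, hue⟩ := L.pi_surj X he
  have hk : k ≠ 0 := by
    rintro rfl
    obtain ⟨w, hw, hwE⟩ := hUE
    apply hwE
    apply L.omega w hw
    have := X.all w hw
    rwa [zero_add, pow_one, pow_two] at this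
  -- `w = u u^t` is centralised by `t` and has order `2 ^ (k + 1)`
  set w := u * (t * u * t⁻¹) with hw
  have hwU : w ∈ U := U.mul_mem hu (htU u hu)
  have hwt : t * w = w * t := by
    have h1 : t * u * t⁻¹ * u = u * (t * u * t⁻¹) := L.comm _ (htU u hu) u hu
    calc t * w = t * (u * (t * u * t⁻¹)) := rfl
      _ = (t * u * t⁻¹) * (t * t) * u * t⁻¹ := by group
      _ = (t * u * t⁻¹) * u * t⁻¹ := by rw [ht2, mul_one]
      _ = u * (t * u * t⁻¹) * t := by rw [h1, hti]
      _ = w * t := rfl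
  have hwk : w ^ 2 ^ k ≠ 1 := by
    rw [hw, L.mul_pow hu (htU u hu), conj_pow', hue]
    intro hc
    apply hte
    rw [mul_eq_one_iff_inv_eq, B.inv_eq he] at hc
    -- e = t * e * t⁻¹
    have h2 : e * t = t * e := by
      conv_lhs => rw [hc]
      group
    exact h2.symm
  -- transport to `C(x)`
  have h3 : x * (g⁻¹ * w * g) = (g⁻¹ * w * g) * x := by
    rw [← hgt] at hwt
    calc x * (g⁻¹ * w * g) = g⁻¹ * (g * x * g⁻¹ * w) * g := by group
      _ = g⁻¹ * (w * (g * x * g⁻¹)) * g := by rw [hwt]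
      _ = (g⁻¹ * w * g) * x := by group
  obtain ⟨n, hn⟩ := IsPGroup.exists_pow L.pgroup hwU
  have h4 : g⁻¹ * w * g = g⁻¹ * w * g⁻¹⁻¹ := by rw [inv_inv]
  have h5 := B.cent_sq _ h3 ⟨n, by rw [h4, conj_pow, hn]; group⟩
  have h6 : w * w = 1 := by
    have h7 : g * ((g⁻¹ * w * g) * (g⁻¹ * w * g)) * g⁻¹ = w * w := by group
    rw [← h7, h5]; group
  apply hwk
  obtain ⟨j, rfl⟩ := Nat.exists_eq_succ_of_ne_zero hk
  rw [Nat.succ_eq_add_one, pow_two_pow_succ', h6, one_pow]

/-- Case (b), `k ≥ 2`: conjugates of `x` in `P` lie in `xU`. -/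
theorem Top.conj_mem [Finite G] (B : Base x E) (L : Level x E U h) (X : Expo U k)
    (hUE : ∃ w ∈ U, w ∉ E) {P : Subgroup G} (T : Top x U P)
    (hf : ∀ p ∈ P, (∀ e ∈ E, p * e = e * p) → p ∈ rr x U) (g : G) (hg : g * x * g⁻¹ ∈ P) :
    x * (g * x * g⁻¹) ∈ U := by
  by_cases h1 : g * x * g⁻¹ ∈ rr x U
  · rcases (L.mem_rr B).1 h1 with h2 | h2
    · exact absurd rfl (T.not_conj_E B L (L.omega _ h2 (conj_sq_one B g)) g)
    · exact h2
  · exact absurd rfl (T.no_conj B L X hUE hf hg h1 (conj_sq_one B g) g)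

end Cfsg.Agent.GH.E
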