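import Cfsg.Agent.GH.ETowerV

/-!
# GH-E: case (a) of the tower, `V` is homocyclic; next level or transfer
-/

set_option autoImplicit false

namespace Cfsg.Agent.GH.E

variable {G : Type*} [Group G] {x h : G} {E U P : Subgroup G} {k a : ℕ}

section

variable [Finite G] (B : Base x E) (A : TopA x E U P h) (X : Expo U k) (ha : a = 1 ∨ a = 2)
  (relE : ∀ e ∈ E, cj h 3 e = cj h a e * e)

omit [Finite G] in
include A in
theorem TopA.hEE (B : Base x E) : ∀ e ∈ E, h * e * h⁻¹ ∈ E := fun _ he => A.level.hE B he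

omit [Finite G] in
include B A X in
/-- `[U, P]` is killed by `2 ^ k`. -/
theorem TopA.comm_U {u p : G} (hu : u ∈ U) (hp : p ∈ P) : (u * p * u⁻¹ * p⁻¹) ^ 2 ^ k = 1 := by
  have h1 : u * p * u⁻¹ * p⁻¹ = u * (p * u⁻¹ * p⁻¹) := by group
  rw [h1, A.level.mul_pow hu (A.normU hp (U.inv_mem hu)), A.pow_conj X hp (U.inv_mem hu), inv_pow,
    mul_inv_cancel]

include ha relE in
/-- Commutators of `V` are killed by `2 ^ k`. -/
theorem TopA.comm_V {v w : G} (hv : v ∈ A.V B X a) (hw : w ∈ A.V B X a) :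
    (v * w * v⁻¹ * w⁻¹) ^ 2 ^ k = 1 := by
  have hVP := A.V_le_P B X (a := a)
  have F := A.form B X hVP (A.U_le_V B X) (j := k)
    (fun v hv w hw => X.all _ (A.comm_mem B X (hVP hv) (hVP hw)))
    (fun u hu v hv => A.comm_U B X hu (hVP hv))
  exact F.eq_one B (A.hEE B) relE (A.U_le_V B X) (A.ext B X ha) v hv w hw

/-- The squaring map `σ(v) = (v²) ^ 2 ^ k`. -/
def sig (k : ℕ) (v : G) : G := (v * v) ^ 2 ^ k

include B A X in
theorem TopA.sig_mem {v : G} (hv : v ∈ P) : sig k v ∈ E := A.level.pi_mem X (A.sq_mem B X hv)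

include B A X ha relE in
theorem TopA.sig_mul {v w : G} (hv : v ∈ A.V B X a) (hw : w ∈ A.V B X a) :
    sig k (v * w) = sig k v * sig k w := by
  have hvP := A.V_le_P B X hv
  have hwP := A.V_le_P B X hw
  have h1 := A.comm_mem B X (P.inv_mem hvP) hwP
  have h2 := A.comm_V B X ha relE ((A.V B X a).inv_mem hv) hw
  have h3 := A.sq_mem B X hvP
  have h4 := A.sq_mem B X hwP
  have h5 : v * w * (v * w) = v * v * (v⁻¹ * w * v⁻¹⁻¹ * w⁻¹) * (w * w) := by group
  unfold sig
  rw [h5, A.level.mul_pow (U.mul_mem h3 h1) h4, A.level.mul_pow h3 h1, h2, mul_one]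

omit [Finite G] in
theorem sig_U (X : Expo U k) {u : G} (hu : u ∈ U) : sig k u = 1 := sq_pow_eq_one X hu

omit [Finite G] in
theorem sig_cj (n : ℕ) (v : G) : sig k (cj h n v) = cj h n (sig k v) := by
  unfold sig
  rw [← cj_mul]
  unfold cj
  rw [conj_pow']

include ha relE in
/-- `σ` is trivial or injective on `V / U`. -/
theorem TopA.sig_dichotomy :
    (∀ v ∈ A.V B X a, sig k v = 1) ∨ (∀ v ∈ A.V B X a, sig k v = 1 → v ∈ U) := by
  by_cases hall : ∀ v ∈ A.V B X a, sig k v = 1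
  · exact Or.inl hall
  right
  push Not at hall
  obtain ⟨v, hv, hv1⟩ := hall
  intro w hw hw1
  by_contra hwU
  have hvU : v ∉ U := fun hc => hv1 (sig_U X hc)
  have Y := A.ext B X ha
  obtain ⟨n, u, hu, rfl⟩ := Y.trans v hv w hw hvU hwU
  have h1 : cj h n v ∈ A.V B X a := cj_mem Y.hV n hv
  rw [A.sig_mul B X ha relE h1 (A.U_le_V B X hu), sig_U X hu, mul_one, sig_cj] at hw1
  exact hv1 (cj_eq_one h n hw1)

include ha relE in
/-- `σ` is not trivial: otherwise there is an elementary abelian section of order 64. -/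
theorem TopA.sig_ne (hr : Cfsg.SectionalPRankLE 2 4 G) : ¬ ∀ v ∈ A.V B X a, sig k v = 1 := by
  intro hall
  set V := A.V B X a with hVdef
  have hVP : V ≤ P := A.V_le_P B X
  have hUV : U ≤ V := A.U_le_V B X
  -- the subgroup `U2`
  let U2 : Subgroup G :=
    { carrier := {u | u ∈ U ∧ u ^ 2 ^ k = 1}
      one_mem' := ⟨U.one_mem, one_pow _⟩
      mul_mem' := fun {u v} hu hv => ⟨U.mul_mem hu.1 hv.1, by
        rw [A.level.mul_pow hu.1 hv.1, hu.2, hv.2, one_mul]⟩
      inv_mem' := fun {u} hu => ⟨U.inv_mem hu.1, by rw [inv_pow, hu.2, inv_one]⟩ }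
  have hU2 : ∀ g, g ∈ U2 ↔ g ∈ U ∧ g ^ 2 ^ k = 1 := fun g => Iff.rfl
  have hnormal : (U2.subgroupOf V).Normal := by
    constructor
    intro n hn g
    rw [Subgroup.mem_subgroupOf] at hn ⊢
    rw [Subgroup.coe_mul, Subgroup.coe_mul, Subgroup.coe_inv]
    exact ⟨A.normU (hVP g.2) hn.1, by rw [A.pow_conj X (hVP g.2) hn.1]; exact hn.2⟩
  have hcomm : ∀ a' b' : V ⧸ U2.subgroupOf V, a' * b' = b' * a' := by
    intro a' b'
    obtain ⟨v, rfl⟩ := QuotientGroup.mk_surjective a'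
    obtain ⟨w, rfl⟩ := QuotientGroup.mk_surjective b'
    rw [← QuotientGroup.mk_mul, ← QuotientGroup.mk_mul, QuotientGroup.eq, Subgroup.mem_subgroupOf]
    have h1 : (((v * w)⁻¹ * (w * v) : V) : G)
        = (w : G)⁻¹ * (v : G)⁻¹ * ((w : G)⁻¹)⁻¹ * ((v : G)⁻¹)⁻¹ := by
      simp only [Subgroup.coe_mul, Subgroup.coe_inv]; group
    rw [h1]
    exact ⟨A.comm_mem B X (P.inv_mem (hVP w.2)) (P.inv_mem (hVP v.2)),
      A.comm_V B X ha relE (V.inv_mem w.2) (V.inv_mem v.2)⟩
  have hsq : ∀ a' : V ⧸ U2.subgroupOf V, a' ^ 2 = 1 := by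
    intro a'
    obtain ⟨v, rfl⟩ := QuotientGroup.mk_surjective a'
    rw [← QuotientGroup.mk_pow, QuotientGroup.eq_one_iff, Subgroup.mem_subgroupOf, pow_two,
      Subgroup.coe_mul]
    exact ⟨A.sq_mem B X (hVP v.2), hall v v.2⟩
  have h4 := hr V (U2.subgroupOf V) ⊤ ⟨⟨fun a' b' => Subtype.ext (hcomm a' b')⟩⟩ (fun a' _ => hsq a')
  rw [Subgroup.card_top] at h4
  -- 64 distinct cosets
  choose fv hfv hfv1 using fun e : E => A.phi_surj_V B X relE e.2
  choose fu hfu hfu1 using fun e : E => A.level.pi_surj X e.2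
  have hinj : Function.Injective (fun p : E × E =>
      (QuotientGroup.mk (⟨fv p.1 * fu p.2, V.mul_mem (hfv p.1) (hUV (hfu p.2))⟩ : V) :
        V ⧸ U2.subgroupOf V)) := by
    rintro ⟨e, f⟩ ⟨e', f'⟩ heq
    have h5 := QuotientGroup.eq.1 heq
    rw [Subgroup.mem_subgroupOf] at h5
    simp only [Subgroup.coe_mul, Subgroup.coe_inv] at h5
    have hm1 := hfv e
    have hm2 := hfv e'
    have hm3 := hfu f
    have hm4 := hfu f'
    -- apply `φ`
    have h6 : phi x k (fv e * fu f) = e := by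
      rw [A.phi_mul B X (hVP hm1) (A.U_le hm3), TopA.phi_U B A.level X hm3, mul_one]; exact hfv1 e
    have h7 : phi x k (fv e' * fu f') = e' := by
      rw [A.phi_mul B X (hVP hm2) (A.U_le hm4), TopA.phi_U B A.level X hm4, mul_one]; exact hfv1 e'
    have h8 : phi x k (fv e' * fu f') = phi x k (fv e * fu f) := by
      have h9 : fv e' * fu f' = (fv e * fu f) * ((fv e * fu f)⁻¹ * (fv e' * fu f')) := by group
      rw [h9, A.phi_mul B X (hVP (V.mul_mem hm1 (hUV hm3))) (A.U_le h5.1),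
        TopA.phi_U B A.level X h5.1, mul_one]
    have hee : e = e' := Subtype.ext (by rw [← h6, ← h7, h8])
    subst hee
    have h9 : (fv e * fu f)⁻¹ * (fv e * fu f') = (fu f)⁻¹ * fu f' := by group
    rw [h9] at h5
    have h10 := h5.2
    rw [A.level.mul_pow (U.inv_mem hm3) hm4, inv_pow, hfu1 f, hfu1 f', inv_mul_eq_one] at h10
    rw [Subtype.ext h10]
  have h11 := Nat.card_le_card_of_injective _ hinj
  rw [Nat.card_prod, B.card] at h11
  omega

include ha relE in
/-- `v² = 1 → v ∈ U` for `v ∈ V`, in general `σ(v) = 1 → v ∈ U`. -/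
theorem TopA.U_of_sig (hr : Cfsg.SectionalPRankLE 2 4 G) {v : G} (hv : v ∈ A.V B X a)
    (hv1 : sig k v = 1) : v ∈ U := by
  rcases A.sig_dichotomy B X ha relE with h1 | h1
  · exact absurd h1 (A.sig_ne B X ha relE hr)
  · exact h1 v hv hv1

include ha relE in
theorem TopA.sig_surj (hr : Cfsg.SectionalPRankLE 2 4 G) {e : G} (he : e ∈ E) :
    ∃ v ∈ A.V B X a, sig k v = e := by
  by_cases he1 : e = 1
  · exact ⟨1, (A.V B X a).one_mem, by rw [he1]; exact sig_U X U.one_mem⟩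
  have h1 := A.sig_ne B X ha relE hr
  push Not at h1
  obtain ⟨v, hv, hv1⟩ := h1
  obtain ⟨n, hn⟩ := A.level.trans _ (A.sig_mem B X (A.V_le_P B X hv)) e he hv1 he1
  exact ⟨cj h n v, cj_mem (A.ext B X ha).hV n hv, by rw [sig_cj]; exact hn⟩

include ha relE in
/-- Every element of `U` is a product of two squares of elements of `V`. -/
theorem TopA.exists_sq_sq (hr : Cfsg.SectionalPRankLE 2 4 G) {u : G} (hu : u ∈ U) :
    ∃ v ∈ A.V B X a, ∃ w ∈ U, u = v * v * (w * w) := by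
  obtain ⟨v, hv, hv1⟩ := A.sig_surj B X ha relE hr (A.level.pi_mem X hu)
  obtain ⟨w, hw, hw1⟩ := A.level.exists_sq_mul X hu (A.sq_mem B X (A.V_le_P B X hv)) hv1.symm
  exact ⟨v, hv, w, hw, hw1⟩

include ha relE in
/-- `V` is abelian. -/
theorem TopA.V_comm (hr : Cfsg.SectionalPRankLE 2 4 G) :
    ∀ v ∈ A.V B X a, ∀ w ∈ A.V B X a, v * w = w * v := by
  have hVP := A.V_le_P B X (a := a)
  have key : ∀ i : ℕ, i ≤ k → ∀ v ∈ A.V B X a, ∀ w ∈ A.V B X a,
      (v * w * v⁻¹ * w⁻¹) ^ 2 ^ (k - i) = 1 := by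
    intro i
    induction i with
    | zero => intro _ v hv w hw; exact A.comm_V B X ha relE hv hw
    | succ i ih =>
      intro hi
      have hi' := ih (by omega)
      obtain ⟨j, hj⟩ : ∃ j, k - i = j + 1 := ⟨k - (i + 1), by omega⟩
      have hj' : k - (i + 1) = j := by omega
      rw [hj] at hi'
      rw [hj']
      -- the bimultiplicative map
      have hmul : ∀ v ∈ A.V B X a, ∀ v' ∈ A.V B X a, ∀ w ∈ A.V B X a,
          (v * v' * w * (v * v')⁻¹ * w⁻¹) ^ 2 ^ j
            = (v * w * v⁻¹ * w⁻¹) ^ 2 ^ j * (v' * w * v'⁻¹ * w⁻¹) ^ 2 ^ j := by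
        intro v hv v' hv' w hw
        have h1 := A.comm_mem B X (hVP hv) (hVP hw)
        have h2 := A.comm_mem B X (hVP hv') (hVP hw)
        have hm : ∀ v ∈ A.V B X a, (v * w * v⁻¹ * w⁻¹) ^ 2 ^ j ∈ E := by
          intro v hv
          apply A.level.omega _ (U.pow_mem (A.comm_mem B X (hVP hv) (hVP hw)) _)
          rw [← pow_two_pow_succ]
          exact hi' v hv w hw
        have h3 : v * v' * w * (v * v')⁻¹ * w⁻¹
            = (v * (v' * w * v'⁻¹ * w⁻¹) * v⁻¹) * (v * w * v⁻¹ * w⁻¹) := by group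
        rw [h3, A.level.mul_pow (A.normU (hVP hv) h2) h1, conj_pow', A.cent v (hVP hv) _ (hm v' hv'),
          mul_inv_cancel_right]
        exact B.mul_comm (hm v' hv') (hm v hv)
      have hsq : ∀ v ∈ A.V B X a, ∀ w ∈ A.V B X a, (v * v * w * (v * v)⁻¹ * w⁻¹) ^ 2 ^ j = 1 := by
        intro v hv w hw
        rw [hmul v hv v hv w hw, ← pow_two_pow_succ]
        exact hi' v hv w hw
      have hU : ∀ u ∈ U, ∀ v ∈ A.V B X a, (u * v * u⁻¹ * v⁻¹) ^ 2 ^ j = 1 := by
        intro u hu v hv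
        obtain ⟨w, hw, z, hz, rfl⟩ := A.exists_sq_sq B X ha relE hr hu
        have hzV := A.U_le_V B X hz (a := a)
        rw [hmul _ ((A.V B X a).mul_mem hw hw) _ ((A.V B X a).mul_mem hzV hzV) v hv, hsq w hw v hv,
          hsq z hzV v hv, one_mul]
      have F := A.form B X hVP (A.U_le_V B X) hi' hU
      exact F.eq_one B (A.hEE B) relE (A.U_le_V B X) (A.ext B X ha)
  intro v hv w hw
  have h1 := key k le_rfl v hv w hw
  rw [Nat.sub_self, pow_zero, pow_one] at h1
  rw [mul_inv_eq_one, mul_inv_eq_iff_eq_mul] at h1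
  exact h1

include ha relE in
theorem TopA.V_omega (hr : Cfsg.SectionalPRankLE 2 4 G) {v : G} (hv : v ∈ A.V B X a)
    (hv1 : v * v = 1) : v ∈ E := by
  apply A.level.omega v _ hv1
  apply A.U_of_sig B X ha relE hr hv
  unfold sig
  rw [hv1, one_pow]

/-! ### The map `η(v) = v^x v` -/

/-- `η(v) = v^x v` -/
def eta (x v : G) : G := x * v * x⁻¹ * v

include relE in
theorem TopA.xV {v : G} (hv : v ∈ A.V B X a) : x * v * x⁻¹ ∈ A.V B X a := by
  have h1 := A.comm_mem B X A.x_mem (A.V_le_P B X hv)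
  have h2 : x * v * x⁻¹ = (x * v * x⁻¹ * v⁻¹) * v := by group
  rw [h2]
  exact (A.V B X a).mul_mem (A.U_le_V B X h1) hv

include ha relE in
theorem TopA.eta_mul (hr : Cfsg.SectionalPRankLE 2 4 G) {v w : G} (hv : v ∈ A.V B X a)
    (hw : w ∈ A.V B X a) : eta x (v * w) = eta x v * eta x w := by
  have h1 := A.V_comm B X ha relE hr _ (A.xV B X relE hw) v hv
  unfold eta
  calc x * (v * w) * x⁻¹ * (v * w) = (x * v * x⁻¹) * ((x * w * x⁻¹) * v) * w := by group
    _ = (x * v * x⁻¹) * (v * (x * w * x⁻¹)) * w := by rw [h1]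
    _ = x * v * x⁻¹ * v * (x * w * x⁻¹ * w) := by group

omit [Finite G] in
include A in
theorem TopA.eta_U {u : G} (hu : u ∈ U) : eta x u = 1 := by
  unfold eta
  rw [A.level.inv u hu, inv_mul_cancel]

include ha relE in
theorem TopA.eta_mem (hr : Cfsg.SectionalPRankLE 2 4 G) {v : G} (hv : v ∈ A.V B X a) :
    eta x v ∈ E := by
  apply A.V_omega B X ha relE hr ((A.V B X a).mul_mem (A.xV B X relE hv) hv)
  show eta x v * eta x v = 1
  rw [← A.eta_mul B X ha relE hr hv hv]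
  exact A.eta_U (A.sq_mem B X (A.V_le_P B X hv))

omit [Finite G] in
include A in
theorem TopA.eta_cj (n : ℕ) (v : G) : eta x (cj h n v) = cj h n (eta x v) := by
  unfold eta
  rw [cj_mul, cj_mul, cj_mul, cj_inv, A.cj_x]

include ha relE in
theorem TopA.eta_dichotomy (hr : Cfsg.SectionalPRankLE 2 4 G) :
    (∀ v ∈ A.V B X a, eta x v = 1) ∨ (∀ v ∈ A.V B X a, eta x v = 1 → v ∈ U) := by
  by_cases hall : ∀ v ∈ A.V B X a, eta x v = 1
  · exact Or.inl hall
  right
  push Not at hall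
  obtain ⟨v, hv, hv1⟩ := hall
  intro w hw hw1
  by_contra hwU
  have hvU : v ∉ U := fun hc => hv1 (A.eta_U hc)
  have Y := A.ext B X ha
  obtain ⟨n, u, hu, rfl⟩ := Y.trans v hv w hw hvU hwU
  have h1 : cj h n v ∈ A.V B X a := cj_mem Y.hV n hv
  rw [A.eta_mul B X ha relE hr h1 (A.U_le_V B X hu), A.eta_U hu, mul_one, A.eta_cj] at hw1
  exact hv1 (cj_eq_one h n hw1)

include relE in
theorem TopA.U_lt_V : U < A.V B X a := by
  refine lt_of_le_of_ne (A.U_le_V B X) (fun hc => ?_)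
  obtain ⟨e, he, he1⟩ := B.exists_ne_one
  obtain ⟨v, hv, hve⟩ := A.phi_surj_V B X relE he
  rw [← hc] at hv
  rw [TopA.phi_U B A.level X hv] at hve
  exact he1 hve.symm

/-- Case (a) of the tower: the next level exists. -/
theorem TopA.step (B : Base x E) (A : TopA x E U P h) (X : Expo U k)
    (hidx : ∀ K : Subgroup G, K.index ≠ 2) (hr : Cfsg.SectionalPRankLE 2 4 G) :
    ∃ V : Subgroup G, Level x E V h ∧ U < V := by
  obtain ⟨a, ha, relE⟩ := exists_rel B (A.hEE B) A.level.trans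
  set V := A.V B X a with hVdef
  have hVP : V ≤ P := A.V_le_P B X
  rcases A.eta_dichotomy B X ha relE hr with h1 | h1
  · -- `x` inverts `V`
    refine ⟨V, ⟨A.level.le.trans (A.U_le_V B X), A.V_comm B X ha relE hr, A.top.pgroup.to_le hVP, ?_,
      fun u hu => A.V_omega B X ha relE hr hu, A.level.hx, fun u hu => A.hV B X hu, A.level.trans⟩,
      A.U_lt_V B X relE⟩
    intro u hu
    exact mul_eq_one_iff_eq_inv.1 (h1 u hu)
  · exfalso
    have hE : ∀ g : G, g * x * g⁻¹ ∈ P → x * (g * x * g⁻¹) ∈ U := by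
      intro g hg
      have h2 := conj_sq_one B g
      rcases A.V_or B X relE hg with h3 | h3
      · exact absurd rfl (A.top.not_conj_E B A.level (A.V_omega B X ha relE hr h3 h2) g)
      · apply h1 _ h3
        unfold eta
        rw [B.inv_x]
        calc x * (x * (g * x * g⁻¹)) * x * (x * (g * x * g⁻¹))
            = (x * x) * (g * x * g⁻¹) * (x * x) * (g * x * g⁻¹) := by group
          _ = 1 := by rw [B.hx, one_mul, mul_one, h2]
    have hS := A.top.sylow B A.level hE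
    refine false_of_transfer hidx hS hVP (A.relIndex_V B X relE) B.hx ?_
    intro g hg
    exact A.top.not_conj_E B A.level (A.V_omega B X ha relE hr hg (conj_sq_one B g)) g rfl

end

end Cfsg.Agent.GH.E
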