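import Cfsg.Agent.GH.ETowerA

/-!
# GH-E: case (a) of the tower, the subgroup `V`
-/

set_option autoImplicit false

namespace Cfsg.Agent.GH.E

variable {G : Type*} [Group G] {x h : G} {E U P : Subgroup G} {k a : ℕ}

theorem TopA.cj_P (A : TopA x E U P h) (n : ℕ) {p : G} (hp : p ∈ P) : cj h n p ∈ P := cj_mem A.hP n hp

theorem TopA.cj_U (A : TopA x E U P h) (n : ℕ) {u : G} (hu : u ∈ U) : cj h n u ∈ U :=
  cj_mem A.level.hU n hu

/-- `V = {p ∈ P : p^{h³} p^{h^a} p ∈ U}`. -/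
def TopA.V [Finite G] (B : Base x E) (A : TopA x E U P h) (X : Expo U k) (a : ℕ) : Subgroup G where
  carrier := {p | p ∈ P ∧ cj h 3 p * cj h a p * p ∈ U}
  one_mem' := ⟨P.one_mem, by rw [cj_one, cj_one, one_mul, one_mul]; exact U.one_mem⟩
  mul_mem' := by
    rintro p q ⟨hp, hp1⟩ ⟨hq, hq1⟩
    refine ⟨P.mul_mem hp hq, ?_⟩
    have p3 := A.cj_P 3 hp
    have pa := A.cj_P a hp
    have q3 := A.cj_P 3 hq
    have qa := A.cj_P a hq
    have c1 := A.comm_mem B X q3 pa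
    have c2 := A.comm_mem B X (P.mul_mem q3 qa) hp
    have h1 := A.normU p3 c1
    have h2 := A.normU (P.mul_mem p3 pa) c2
    have h3 : cj h 3 (p * q) * cj h a (p * q) * (p * q)
        = (cj h 3 p * (cj h 3 q * cj h a p * (cj h 3 q)⁻¹ * (cj h a p)⁻¹) * (cj h 3 p)⁻¹) *
          (cj h 3 p * cj h a p * (cj h 3 q * cj h a q * p * (cj h 3 q * cj h a q)⁻¹ * p⁻¹) *
            (cj h 3 p * cj h a p)⁻¹) * (cj h 3 p * cj h a p * p) * (cj h 3 q * cj h a q * q) := by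
      rw [cj_mul, cj_mul]; group
    rw [h3]
    exact U.mul_mem (U.mul_mem (U.mul_mem h1 h2) hp1) hq1
  inv_mem' := by
    rintro p ⟨hp, hp1⟩
    refine ⟨P.inv_mem hp, ?_⟩
    have p3 := A.cj_P 3 hp
    have pa := A.cj_P a hp
    have c1 := A.comm_mem B X pa p3
    have c2 := A.comm_mem B X hp (P.mul_mem p3 pa)
    have h1 := A.normU hp c1
    have h3 : cj h 3 p⁻¹ * cj h a p⁻¹ * p⁻¹
        = ((p * (cj h a p * cj h 3 p * (cj h a p)⁻¹ * (cj h 3 p)⁻¹) * p⁻¹) *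
          (p * (cj h 3 p * cj h a p) * p⁻¹ * (cj h 3 p * cj h a p)⁻¹) *
          (cj h 3 p * cj h a p * p))⁻¹ := by
      rw [cj_inv, cj_inv]; group
    rw [h3]
    exact U.inv_mem (U.mul_mem (U.mul_mem h1 c2) hp1)

section

variable [Finite G] (B : Base x E) (A : TopA x E U P h) (X : Expo U k) (ha : a = 1 ∨ a = 2)
  (relE : ∀ e ∈ E, cj h 3 e = cj h a e * e)

theorem TopA.mem_V {p : G} : p ∈ A.V B X a ↔ p ∈ P ∧ cj h 3 p * cj h a p * p ∈ U := Iff.rfl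

theorem TopA.U_le_V : U ≤ A.V B X a := fun _ hu =>
  ⟨A.U_le hu, U.mul_mem (U.mul_mem (A.cj_U 3 hu) (A.cj_U a hu)) hu⟩

theorem TopA.V_le_P : A.V B X a ≤ P := fun _ hv => hv.1

omit [Finite G] in
include A in
theorem TopA.cj_x (n : ℕ) : cj h n x = x := by
  have h1 := (show Commute h x from A.level.hx).pow_left n
  unfold cj
  rw [h1.eq, mul_inv_cancel_right]

theorem TopA.x_notMem_V : x ∉ A.V B X a := by
  rintro ⟨_, hx⟩
  rw [A.cj_x, A.cj_x, B.hx, one_mul] at hx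
  exact A.level.x_notMem B hx

include relE in
theorem TopA.V_or {p : G} (hp : p ∈ P) : p ∈ A.V B X a ∨ x * p ∈ A.V B X a := by
  have hpsi : cj h 3 p * cj h a p * p ∈ rr x U := by
    apply A.rr_of_phi B X (P.mul_mem (P.mul_mem (A.cj_P 3 hp) (A.cj_P a hp)) hp)
    rw [A.phi_mul B X (P.mul_mem (A.cj_P 3 hp) (A.cj_P a hp)) hp,
      A.phi_mul B X (A.cj_P 3 hp) (A.cj_P a hp), A.phi_cj, A.phi_cj]
    have he := A.phi_mem B X hp
    rw [relE _ he]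
    have h1 : cj h a (phi x k p) ∈ E := cj_mem (fun e he => A.level.hE B he) a he
    calc cj h a (phi x k p) * phi x k p * cj h a (phi x k p) * phi x k p
        = (cj h a (phi x k p) * phi x k p) * (cj h a (phi x k p) * phi x k p) := by group
      _ = 1 := B.sq _ (E.mul_mem h1 he)
  rcases (A.level.mem_rr B).1 hpsi with h1 | h1
  · exact Or.inl ⟨hp, h1⟩
  · right
    refine ⟨P.mul_mem A.x_mem hp, ?_⟩
    rw [cj_mul, cj_mul, A.cj_x, A.cj_x]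
    -- x p3 x pa x p = x (p3 x p3⁻¹ x⁻¹ stuff) ...
    have p3 := A.cj_P 3 hp
    have pa := A.cj_P a hp
    have c1 := A.comm_mem B X p3 A.x_mem
    have c2 := A.comm_mem B X pa A.x_mem
    have h2 := A.normU A.x_mem c1
    have hxx : x * x = 1 := B.hx
    have hxi := B.inv_x
    -- x * p3 * (x * pa) * (x * p) = (x * [p3,x] * x⁻¹) * (x * x) * p3 * [pa,x]* x * pa * p
    have c2' := A.normU (P.mul_mem p3 A.x_mem) c2
    have h3 : x * cj h 3 p * (x * cj h a p) * (x * p)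
        = (x * (cj h 3 p * x * (cj h 3 p)⁻¹ * x⁻¹) * x⁻¹) * (x * x) *
          ((cj h 3 p) * (cj h a p * x * (cj h a p)⁻¹ * x⁻¹) * (cj h 3 p)⁻¹) *
          ((cj h 3 p * x * (cj h 3 p)⁻¹ * x⁻¹)) * (x * (cj h 3 p * cj h a p * p)) := by
      group
    rw [h3, hxx, mul_one]
    exact U.mul_mem (U.mul_mem (U.mul_mem h2 (A.normU p3 c2)) c1) h1

theorem TopA.hV {v : G} (hv : v ∈ A.V B X a) : h * v * h⁻¹ ∈ A.V B X a := by
  refine ⟨A.hP v hv.1, ?_⟩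
  have h0 : h * v * h⁻¹ = cj h 1 v := by unfold cj; rw [pow_one]
  rw [h0, cj_cj, cj_cj, show 3 + 1 = 1 + 3 by norm_num, show a + 1 = 1 + a by ring, ← cj_cj, ← cj_cj,
    ← cj_mul, ← cj_mul]
  exact A.cj_U 1 hv.2

theorem TopA.U_of_V {v : G} (hv : v ∈ A.V B X a) (h1 : phi x k v = 1) : v ∈ U := by
  have h2 := A.rr_of_phi B X hv.1 h1
  rcases (A.level.mem_rr B).1 h2 with h3 | h3
  · exact h3
  · exfalso
    apply A.x_notMem_V B X (a := a)
    have h4 := (A.V B X a).mul_mem (A.U_le_V B X h3) ((A.V B X a).inv_mem hv)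
    rwa [mul_inv_cancel_right] at h4

include relE in
theorem TopA.phi_surj_V {e : G} (he : e ∈ E) : ∃ v ∈ A.V B X a, phi x k v = e := by
  obtain ⟨p, hp, hpe⟩ := A.phi_surj B X he
  rcases A.V_or B X relE hp with h1 | h1
  · exact ⟨p, h1, hpe⟩
  · exact ⟨x * p, h1, by rw [A.phi_mul B X A.x_mem hp, TopA.phi_x B, one_mul, hpe]⟩

include ha in
theorem TopA.ext : Ext h U (A.V B X a) a where
  ha := ha
  hV := fun v hv => A.hV B X hv
  rel := fun v hv => hv.2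
  trans := by
    intro v hv w hw hvU hwU
    have h1 : phi x k v ≠ 1 := fun hc => hvU (A.U_of_V B X hv hc)
    have h2 : phi x k w ≠ 1 := fun hc => hwU (A.U_of_V B X hw hc)
    obtain ⟨n, hn⟩ := A.level.trans _ (A.phi_mem B X hv.1) _ (A.phi_mem B X hw.1) h1 h2
    have hcV : cj h n v ∈ A.V B X a := cj_mem (fun v hv => A.hV B X hv) n hv
    have h3 : (cj h n v)⁻¹ * w ∈ A.V B X a := (A.V B X a).mul_mem ((A.V B X a).inv_mem hcV) hw
    have h4 : phi x k (cj h n v) = phi x k w := by rw [A.phi_cj]; exact hn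
    have h5 : phi x k ((cj h n v)⁻¹ * w) = 1 := by
      have h6 : phi x k (cj h n v) * phi x k ((cj h n v)⁻¹ * w) = phi x k w := by
        rw [← A.phi_mul B X hcV.1 h3.1, mul_inv_cancel_left]
      rw [h4] at h6
      exact mul_eq_left.1 h6
    exact ⟨n, _, A.U_of_V B X h3 h5, by rw [mul_inv_cancel_left]⟩

/-- `V` has index 2 in `P`. -/
theorem TopA.relIndex_V (relE : ∀ e ∈ E, cj h 3 e = cj h a e * e) : (A.V B X a).relIndex P = 2 := by
  rw [Subgroup.relIndex, Subgroup.index_eq_two_iff]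
  refine ⟨⟨x, A.x_mem⟩, ?_⟩
  rintro ⟨g, hg⟩
  simp only [Subgroup.mem_subgroupOf, Subgroup.coe_mul]
  have hxV := A.x_notMem_V B X (a := a)
  -- `V` is normalised by `x`
  have hnorm : ∀ v ∈ A.V B X a, x * v * x⁻¹ ∈ A.V B X a := by
    intro v hv
    have h1 := A.comm_mem B X A.x_mem hv.1
    have h2 : x * v * x⁻¹ = (x * v * x⁻¹ * v⁻¹) * v := by group
    rw [h2]
    exact (A.V B X a).mul_mem (A.U_le_V B X h1) hv
  rcases A.V_or B X relE hg with hgV | hgV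
  · refine Or.inr ⟨hgV, fun hc => hxV ?_⟩
    have := (A.V B X a).mul_mem ((A.V B X a).inv_mem hgV) hc
    rwa [inv_mul_cancel_left] at this
  · refine Or.inl ⟨?_, fun hgV' => hxV ?_⟩
    · have h1 := hnorm _ hgV
      have h2 : x * (x * g) * x⁻¹ = g * x := by
        rw [← mul_assoc, B.hx, one_mul, B.inv_x]
      rwa [h2] at h1
    · have := (A.V B X a).mul_mem hgV ((A.V B X a).inv_mem hgV')
      rwa [mul_inv_cancel_right] at this

/-! ### The commutator forms -/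

include B A X in
/-- If all commutators of `V` are killed by `2 ^ (j + 1)` and `[U, V]` by `2 ^ j` then
`[v, w] ^ 2 ^ j` is a form. -/
theorem TopA.form {V : Subgroup G} (hVP : V ≤ P) (hUV : U ≤ V) {j : ℕ}
    (hj : ∀ v ∈ V, ∀ w ∈ V, (v * w * v⁻¹ * w⁻¹) ^ 2 ^ (j + 1) = 1)
    (hU : ∀ u ∈ U, ∀ v ∈ V, (u * v * u⁻¹ * v⁻¹) ^ 2 ^ j = 1) :
    Form h E U V (fun v w => (v * w * v⁻¹ * w⁻¹) ^ 2 ^ j) := by
  have hmemU : ∀ v ∈ V, ∀ w ∈ V, v * w * v⁻¹ * w⁻¹ ∈ U := fun v hv w hw =>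
    A.comm_mem B X (hVP hv) (hVP hw)
  have hmem : ∀ v ∈ V, ∀ w ∈ V, (v * w * v⁻¹ * w⁻¹) ^ 2 ^ j ∈ E := by
    intro v hv w hw
    apply A.level.omega _ (U.pow_mem (hmemU v hv w hw) _)
    rw [← pow_two_pow_succ]
    exact hj v hv w hw
  have hleft : ∀ v ∈ V, ∀ v' ∈ V, ∀ w ∈ V, (v * v' * w * (v * v')⁻¹ * w⁻¹) ^ 2 ^ j
      = (v * w * v⁻¹ * w⁻¹) ^ 2 ^ j * (v' * w * v'⁻¹ * w⁻¹) ^ 2 ^ j := by
    intro v hv v' hv' w hw
    have h1 := hmemU v hv w hw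
    have h2 := hmemU v' hv' w hw
    have h3 : v * v' * w * (v * v')⁻¹ * w⁻¹
        = (v * (v' * w * v'⁻¹ * w⁻¹) * v⁻¹) * (v * w * v⁻¹ * w⁻¹) := by group
    rw [h3, A.level.mul_pow (A.normU (hVP hv) h2) h1, conj_pow', A.cent v (hVP hv) _ (hmem v' hv' w hw),
      mul_inv_cancel_right]
    exact B.mul_comm (hmem v' hv' w hw) (hmem v hv w hw)
  have hinv : ∀ v ∈ V, ∀ w ∈ V, (v * w * v⁻¹ * w⁻¹) ^ 2 ^ j = (w * v * w⁻¹ * v⁻¹) ^ 2 ^ j := by
    intro v hv w hw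
    have h1 : v * w * v⁻¹ * w⁻¹ = (w * v * w⁻¹ * v⁻¹)⁻¹ := by group
    rw [h1, inv_pow]
    exact B.inv_eq (hmem w hw v hv)
  refine ⟨hmem, hleft, ?_, ?_, hU, ?_, ?_⟩
  · intro v hv w hw w' hw'
    show (v * (w * w') * v⁻¹ * (w * w')⁻¹) ^ 2 ^ j = _
    rw [hinv v hv _ (V.mul_mem hw hw'), hleft w hw w' hw' v hv, hinv w hw v hv, hinv w' hw' v hv]
  · intro v _
    show (v * v * v⁻¹ * v⁻¹) ^ 2 ^ j = 1
    have : v * v * v⁻¹ * v⁻¹ = 1 := by group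
    rw [this, one_pow]
  · intro v hv u hu
    show (v * u * v⁻¹ * u⁻¹) ^ 2 ^ j = 1
    rw [hinv v hv u (hUV hu)]
    exact hU u hu v hv
  · intro v _ w _
    show (h * v * h⁻¹ * (h * w * h⁻¹) * (h * v * h⁻¹)⁻¹ * (h * w * h⁻¹)⁻¹) ^ 2 ^ j = _
    rw [← conj_pow']
    congr 1
    group

end

end Cfsg.Agent.GH.E
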