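import Cfsg.Prelude.Def_Exceptional
import Cfsg.Prelude.Def_Sporadic
import Cfsg.Agent.GH.AssemblyK4

/-!
# GH: the abelian case at the level of isomorphism, from the statements S0506 and S1740
-/

set_option autoImplicit false

open Cfsg Subgroup
open Cfsg.Agent.GH.Defs Cfsg.Agent.GH.AssemblyK4

namespace Cfsg.Agent.GH.FinalAbel

/-! ### elementary abelian groups -/

theorem exists_pi {A : Type*} [Group A] [Finite A] (hA : ∀ a : A, a * a = 1) :
    ∃ n : ℕ, Nat.card A = 2 ^ n ∧ Nonempty (A ≃* Multiplicative (Fin n → ZMod 2)) := by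
  have hc : ∀ a b : A, a * b = b * a := by
    intro a b
    have h1 := hA (a * b)
    have ha : a⁻¹ = a := inv_eq_of_mul_eq_one_right (hA a)
    have hb : b⁻¹ = b := inv_eq_of_mul_eq_one_right (hA b)
    have h2 : (a * b)⁻¹ = a * b := inv_eq_of_mul_eq_one_right h1
    rw [← h2, mul_inv_rev, ha, hb]
  let _ : CommGroup A := { (inferInstance : Group A) with mul_comm := hc }
  let _ : Module (ZMod 2) (Additive A) := AddCommGroup.zmodModule (n := 2) (by
    intro x
    rw [two_nsmul]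
    exact hA (Additive.toMul x))
  have hfin : Module.Finite (ZMod 2) (Additive A) := Module.Finite.of_finite
  let e : Additive A ≃ₗ[ZMod 2] (Fin (Module.finrank (ZMod 2) (Additive A)) → ZMod 2) :=
    (Module.finBasis (ZMod 2) (Additive A)).equivFun
  refine ⟨Module.finrank (ZMod 2) (Additive A), ?_, ⟨?_⟩⟩
  · have h1 := Nat.card_congr e.toEquiv
    rw [Nat.card_fun, Nat.card_zmod, Nat.card_fin] at h1
    rw [← h1]
    exact Nat.card_congr Additive.ofMul
  · exact MulEquiv.toAdditive.symm (e.toAddEquiv.trans (AddEquiv.additiveMultiplicative _).symm)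

/-- Elementary abelian 2-groups of the same order are isomorphic. -/
theorem equiv_of_sq {A B : Type*} [Group A] [Group B] [Finite A] [Finite B]
    (hA : ∀ a : A, a * a = 1) (hB : ∀ b : B, b * b = 1) (h : Nat.card A = Nat.card B) :
    Nonempty (A ≃* B) := by
  obtain ⟨n, hn, ⟨e⟩⟩ := exists_pi hA
  obtain ⟨m, hm, ⟨f⟩⟩ := exists_pi hB
  have hnm : n = m := Nat.pow_right_injective (le_refl 2) (hn.symm.trans (h.trans hm))
  subst hnm
  exact ⟨e.trans f.symm⟩

/-! ### Sylow 2-subgroups of order 8 -/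

theorem card_sylow_eight {G : Type*} [Group G] [Finite G] (S : Sylow 2 G)
    (h : Nat.card G % 16 = 8) : Nat.card (S : Subgroup G) = 8 := by
  have h1 : Nat.card G = 2 ^ 3 * (2 * (Nat.card G / 16) + 1) := by omega
  exact card_sylow_eq S ⟨_, rfl⟩ h1

/-- A Sylow 2-subgroup of order 8 of a group of 2-rank at least 3 is elementary abelian. -/
theorem sq_of_rank {G : Type*} [Group G] [Finite G] (hr : ¬ PRankLE 2 2 G) (S : Sylow 2 G)
    (hS : Nat.card (S : Subgroup G) = 8) (x : ↥(S : Subgroup G)) : x * x = 1 := by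
  have h2 : Fact (Nat.Prime 2) := ⟨Nat.prime_two⟩
  unfold PRankLE at hr
  push Not at hr
  obtain ⟨A, -, hA, hcard⟩ := hr
  have hp : IsPGroup 2 A := fun a => ⟨1, by
    rw [pow_one]
    exact Subtype.ext (hA a a.2)⟩
  obtain ⟨T, hT⟩ := hp.exists_le_sylow
  have hT8 : Nat.card (T : Subgroup G) = 8 := by
    rw [← hS]
    exact Nat.card_congr (T.equiv S).toEquiv
  obtain ⟨k, hk⟩ := (IsPGroup.iff_card (p := 2)).1 hp
  have hd : Nat.card A ∣ 8 := by
    rw [← hT8]
    exact Subgroup.card_dvd_of_le hT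
  have hA8 : Nat.card A = 8 := by
    have h3 : Nat.card A ≤ 8 := Nat.le_of_dvd (by norm_num) hd
    have h4 : k ≤ 3 := by
      rw [hk] at h3
      exact (Nat.pow_le_pow_iff_right (by norm_num)).1 h3
    rw [hk] at hcard ⊢
    interval_cases k
    · omega
    · omega
    · omega
    · rfl
  have hAT : A = (T : Subgroup G) := by
    apply Subgroup.eq_of_le_of_card_ge hT
    rw [hT8, hA8]
  let e := S.equiv T
  have h3 : (e x) * (e x) = 1 := by
    apply Subtype.ext
    have h4 := hA (e x) (by rw [hAT]; exact (e x).2)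
    rw [pow_two] at h4
    exact h4
  apply e.injective
  rw [map_mul, h3, map_one]

/-- The Sylow 2-subgroups of `PSL₂(8)`. -/
theorem exists_sylow_psl {F : Type*} [Field F] [Fintype F] (hF : Fintype.card F = 8) :
    ∃ P : Sylow 2 (Matrix.ProjectiveSpecialLinearGroup (Fin 2) F),
      Nat.card (P : Subgroup (Matrix.ProjectiveSpecialLinearGroup (Fin 2) F)) = 8 ∧
        ∀ x : ↥(P : Subgroup (Matrix.ProjectiveSpecialLinearGroup (Fin 2) F)), x * x = 1 := by
  have h2 : Fact (Nat.Prime 2) := ⟨Nat.prime_two⟩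
  have hev : Even (Fintype.card F) := by rw [hF]; decide
  have hch : CharP F 2 := SectRankFour.Rank.char_two_of_even hev
  let f : Multiplicative F →* Matrix.ProjectiveSpecialLinearGroup (Fin 2) F :=
    Classification.PSLTwoEvenSylow.uniP
  have hf : Function.Injective f := Classification.PSLTwoEvenSylow.uniP_injective
  have hcard : Nat.card f.range = 8 := by
    rw [← Nat.card_congr (MonoidHom.ofInjective hf).toEquiv, ← hF, ← Nat.card_eq_fintype_card]
    exact Nat.card_congr Multiplicative.toAdd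
  have hfac : (Nat.card (Matrix.ProjectiveSpecialLinearGroup (Fin 2) F)).factorization 2 = 3 := by
    rw [Classification.PSLTwoEvenSylow.card_psl, hF]
    have h3 : (8 : ℕ) * (8 ^ 2 - 1) = 2 ^ 3 * 63 := by norm_num
    rw [h3, Nat.factorization_mul (by norm_num) (by norm_num), Nat.prime_two.factorization_pow]
    have h4 : (63 : ℕ).factorization 2 = 0 := Nat.factorization_eq_zero_of_not_dvd (by norm_num)
    simp [h4]
  refine ⟨Sylow.ofCard f.range (by rw [hcard, hfac]; norm_num), hcard, ?_⟩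
  rintro ⟨x, hx⟩
  obtain ⟨a, rfl⟩ := (hx : x ∈ f.range)
  apply Subtype.ext
  show f a * f a = 1
  rw [← map_mul]
  have h3 : a * a = 1 := by
    show Multiplicative.ofAdd (Multiplicative.toAdd a + Multiplicative.toAdd a) = 1
    rw [CharTwo.add_self_eq_zero]
    rfl
  rw [h3, map_one]

theorem exists_field : ∃ (F : Type) (_ : Field F) (_ : Fintype F), Fintype.card F = 2 ^ 3 := by
  have : Fact (Nat.Prime 2) := ⟨Nat.prime_two⟩
  let _ : Fintype (GaloisField 2 3) := Fintype.ofFinite _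
  refine ⟨GaloisField 2 3, inferInstance, inferInstance, ?_⟩
  rw [← Nat.card_eq_fintype_card]
  exact GaloisField.card 2 3 (by norm_num)

/-! ### the orders -/

theorem ree_mod (m : ℕ) : ((3 ^ (2 * m + 1)) ^ 3 * ((3 ^ (2 * m + 1)) ^ 3 + 1) *
    (3 ^ (2 * m + 1) - 1)) % 16 = 8 := by
  obtain ⟨k, hk⟩ : ∃ k, 3 ^ (2 * m + 1) = 16 * k + 3 ∨ 3 ^ (2 * m + 1) = 16 * k + 11 := by
    induction m with
    | zero => exact ⟨0, Or.inl (by norm_num)⟩
    | succ m ih =>
      obtain ⟨k, hk⟩ := ih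
      have h1 : 3 ^ (2 * (m + 1) + 1) = 9 * 3 ^ (2 * m + 1) := by
        rw [show 2 * (m + 1) + 1 = (2 * m + 1) + 2 by ring, pow_add]
        ring
      rcases hk with hk | hk
      · exact ⟨9 * k + 1, Or.inr (by rw [h1, hk]; ring)⟩
      · exact ⟨9 * k + 6, Or.inl (by rw [h1, hk]; ring)⟩
  generalize 3 ^ (2 * m + 1) = q at *
  rcases hk with hk | hk
  · have h1 : q - 1 = 16 * k + 2 := by omega
    rw [h1, hk]
    simp only [Nat.mul_mod, Nat.add_mod, Nat.pow_mod, Nat.mod_mod]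
    norm_num
  · have h1 : q - 1 = 16 * k + 10 := by omega
    rw [h1, hk]
    simp only [Nat.mul_mod, Nat.add_mod, Nat.pow_mod, Nat.mod_mod]
    norm_num

section

variable {G : Type*} [Group G] [Finite G]

/-- The statement S0506 for the group `G`. -/
def St0506 (G : Type*) [Group G] : Prop :=
  ∀ (S : Sylow 2 G), IsMulCommutative (S : Subgroup G) →
    (∃ a : ℕ, 2 ≤ a ∧ ∃ (F : Type) (_ : Field F) (_ : Fintype F), Fintype.card F = 2 ^ a ∧ Nonempty (G ≃* Matrix.ProjectiveSpecialLinearGroup (Fin 2) F)) ∨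
      (∃ (F : Type) (_ : Field F) (_ : Fintype F), (Fintype.card F % 8 = 3 ∨ Fintype.card F % 8 = 5) ∧ Nonempty (G ≃* Matrix.ProjectiveSpecialLinearGroup (Fin 2) F)) ∨
      Cfsg.IsRee G ∨ Cfsg.IsJ1 G

/-- Order not divisible by 16, elementary abelian Sylow 2-subgroup of order 8. -/
theorem of_sixteen (h40 : St1740 G) (hr : ¬ PRankLE 2 2 G) (h4 : SectionalPRankLE 2 4 G)
    (S : Sylow 2 G) (h : Nat.card G % 16 = 8) :
    (∃ (F : Type) (_ : Field F) (_ : Fintype F) (n : ℕ), 2 ≤ n ∧ Fintype.card F = 2 ^ n ∧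
        Nonempty (G ≃* Matrix.ProjectiveSpecialLinearGroup (Fin 2) F)) ∨
      Lie.IsoRee G ∨ Spor.IsoJ1 G := by
  have hS8 := card_sylow_eight S h
  obtain ⟨F, _, _, hF⟩ := exists_field
  obtain ⟨P, hP, hPsq⟩ := exists_sylow_psl (F := F) hF
  obtain ⟨e⟩ := equiv_of_sq (sq_of_rank hr S hS8) hPsq (hS8.trans hP.symm)
  rcases h40 S 3 (Or.inl ⟨F, _, _, hF, Or.inl ⟨P, ⟨e⟩⟩⟩) with
    ⟨K, _, _, hK, ⟨⟨f⟩⟩ | ⟨⟨f⟩⟩ | ⟨⟨f⟩⟩⟩ | ⟨K, _, _, hK, ⟨f⟩⟩ | ⟨m, hm, hm3, K, _, _, hK, ⟨f⟩⟩ | hR | hJ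
  · exact Or.inl ⟨K, _, _, 3, by norm_num, hK, ⟨f⟩⟩
  · exfalso
    obtain ⟨m, hm, hcard⟩ := card_psl_three (Or.inr rfl) hK
    rw [Nat.card_congr f.toEquiv, hcard] at h
    omega
  · exfalso
    obtain ⟨m, hm, hcard⟩ := card_psp_two (Or.inr rfl) hK
    rw [Nat.card_congr f.toEquiv, hcard] at h
    omega
  · exfalso
    have h1 := SectRankFour.Rank.card_le_psu (n := 3) (by norm_num)
      (by rw [hK]; norm_num) h4 f
    norm_num at h1
  · exfalso
    obtain rfl : m = 1 := by omega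
    have h1 := card_sz_eight (F := K) hK
    rw [Nat.card_congr f.toEquiv] at h
    have h2 : (2 : ℕ) ^ (1 + 1) = 4 := by norm_num
    rw [h2, h1] at h
    omega
  · exact Or.inr (Or.inl hR)
  · exact Or.inr (Or.inr hJ)

/-- The abelian case, at the level of isomorphism, from S0506 and S1740. -/
theorem abel (h06 : St0506 G) (h40 : St1740 G) (hr : ¬ PRankLE 2 2 G)
    (h4 : SectionalPRankLE 2 4 G) (S : Sylow 2 G) (hS : IsMulCommutative ↥(S : Subgroup G)) :
    (∃ (F : Type) (_ : Field F) (_ : Fintype F) (n : ℕ), 2 ≤ n ∧ Fintype.card F = 2 ^ n ∧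
        Nonempty (G ≃* Matrix.ProjectiveSpecialLinearGroup (Fin 2) F)) ∨
      (∃ (F : Type) (_ : Field F) (_ : Fintype F),
        (Fintype.card F % 8 = 3 ∨ Fintype.card F % 8 = 5) ∧ 5 ≤ Fintype.card F ∧
          Nonempty (G ≃* Matrix.ProjectiveSpecialLinearGroup (Fin 2) F)) ∨
      Lie.IsoRee G ∨ Spor.IsoJ1 G := by
  rcases h06 S hS with ⟨n, hn, F, i, j, hF, e⟩ | ⟨F, i, j, hF, e⟩ | hR | hJ
  · exact Or.inl ⟨F, i, j, n, hn, hF, e⟩
  · refine Or.inr (Or.inl ⟨F, i, j, hF, ?_, e⟩)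
    by_contra hlt
    have h3 : Fintype.card F = 3 := by omega
    obtain ⟨e⟩ := e
    apply hr
    apply rank_of_not_dvd
    have h1 := SmallSimple.PSLTwoPart.card_psl_two_odd (F := F) (by rw [h3]; decide)
    rw [← Nat.card_congr e.toEquiv, h3] at h1
    omega
  · have h : Nat.card G % 16 = 8 := by
      obtain ⟨-, m, -, hm⟩ := hR
      rw [hm]
      exact ree_mod m
    rcases of_sixteen h40 hr h4 S h with h1 | h1
    · exact Or.inl h1
    · exact Or.inr (Or.inr h1)
  · have h : Nat.card G % 16 = 8 := by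
      rw [hJ.2]
    rcases of_sixteen h40 hr h4 S h with h1 | h1
    · exact Or.inl h1
    · exact Or.inr (Or.inr h1)

end

end Cfsg.Agent.GH.FinalAbel
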