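import Cfsg.Agent.GH.FinalLit

/-!
# GH: the induction, from `Hyp G → GType G ∨ K4r G` to S0500
-/

set_option autoImplicit false

open Cfsg Subgroup
open Cfsg.Agent.GH.Defs Cfsg.Agent.GH.AssemblyK4

namespace Cfsg.Agent.GH.FinalInd

universe u

/-- The induction on the order: all simple groups of sectional 2-rank at most 4. -/
theorem k4_aux (h2 : ∀ (G : Type u) [Group G] [Finite G] [IsSimpleGroup G], ¬ IsMulCommutative G →
      PRankLE 2 2 G → K2 G)
    (hI : ∀ (G : Type u) [Group G] [Finite G], Hyp G → Inputs G)
    (hGH : ∀ (G : Type u) [Group G] [Finite G], Hyp G → GType G ∨ K4r G) (n : ℕ) :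
    ∀ (G : Type u) [Group G] [Finite G], Nat.card G = n → IsSimpleGroup G → ¬ IsMulCommutative G →
      SectionalPRankLE 2 4 G → K4 G ∧ (¬ PRankLE 2 2 G → Hyp G ∧ K4r G) := by
  induction n using Nat.strong_induction_on with
  | _ n ih =>
    intro G _ _ hn hs hna h4
    by_cases hr : PRankLE 2 2 G
    · exact ⟨Or.inl (h2 G hna hr), fun h => absurd hr h⟩
    · have hyp : Hyp G :=
        { simple := hs
          nonComm := hna
          rank4 := h4
          rank3 := hr
          sec := by
            intro H hH N _ hsN hnaN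
            have h1 : Nat.card (H ⧸ N) < n := by
              rw [← hn]
              have h5 : Nat.card (H ⧸ N) ≤ Nat.card H :=
                Nat.card_le_card_of_surjective _ (QuotientGroup.mk'_surjective N)
              have h6 : Nat.card H < Nat.card G := by
                rcases lt_or_eq_of_le (Subgroup.card_le_card_group H) with h | h
                · exact h
                · exact absurd ((Subgroup.card_eq_iff_eq_top H).1 h) hH
              omega
            exact (ih _ h1 (H ⧸ N) rfl hsN hnaN
              (Rank.of_surjective (Rank.of_subgroup h4 H) (QuotientGroup.mk' N)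
                (QuotientGroup.mk'_surjective N))).1 }
      have h1 : K4r G := by
        rcases hGH G hyp with h | h
        · exact k4r_of_gType hyp (hI G hyp) h
        · exact h
      exact ⟨h1.k4, fun _ => ⟨hyp, h1⟩⟩

/-- All simple groups of sectional 2-rank at most 4 are in the list `K4`. -/
theorem k4 (h2 : ∀ (G : Type u) [Group G] [Finite G] [IsSimpleGroup G], ¬ IsMulCommutative G →
      PRankLE 2 2 G → K2 G)
    (hI : ∀ (G : Type u) [Group G] [Finite G], Hyp G → Inputs G)
    (hGH : ∀ (G : Type u) [Group G] [Finite G], Hyp G → GType G ∨ K4r G)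
    (G : Type u) [Group G] [Finite G] [IsSimpleGroup G] (hna : ¬ IsMulCommutative G)
    (h4 : SectionalPRankLE 2 4 G) : K4 G :=
  (k4_aux h2 hI hGH _ G rfl inferInstance hna h4).1

/-- **S0500**, from the theorem `Hyp G → GType G ∨ K4r G`. -/
theorem lit (O : FinalLit.Orders) (h2 : ∀ (G : Type u) [Group G] [Finite G] [IsSimpleGroup G],
      ¬ IsMulCommutative G → PRankLE 2 2 G → K2 G)
    (hI : ∀ (G : Type u) [Group G] [Finite G], Hyp G → Inputs G)
    (hGH : ∀ (G : Type u) [Group G] [Finite G], Hyp G → GType G ∨ K4r G)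
    (h38 : ∀ (G : Type u) [Group G] [Finite G], AltOut.St1738 G)
    (G : Type u) [Group G] [Finite G] [IsSimpleGroup G] (hna : ¬ IsMulCommutative G)
    (h4 : SectionalPRankLE 2 4 G) : FinalLit.Lit G := by
  by_cases hr : PRankLE 2 2 G
  · exact Or.inl hr
  · obtain ⟨hyp, h⟩ := (k4_aux h2 hI hGH _ G rfl inferInstance hna h4).2 hr
    exact FinalLit.lit_of_k4r O hna hyp.oddCore_eq_bot (h38 G) h

end Cfsg.Agent.GH.FinalInd
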