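import Cfsg.Agent.GH.FinalInd
import Cfsg.Agent.GH.FinalAbel
import Cfsg.Agent.Classification.NonConnEnd
import Cfsg.Agent.J2Sylow.SporSylow

/-!
# GH: `Inputs G` from the statements

`Stmts` = the statements S0482, S0506, S1740, S1776, S0509, S0510 (with `HasAltCover G` instead of the
order of `McL`), S0511, S1742, S1738, `M₁₁`, `M₂₂`, `M₂₃` from their orders and the theorem on strongly
embedded subgroups (`StrongEmb.Strong.result`).
-/

set_option autoImplicit false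

open Cfsg Subgroup
open Cfsg.Agent.GH.Defs Cfsg.Agent.GH.AssemblyK4

namespace Cfsg.Agent.GH.FinalInputs

universe u

/-- The statements which are used. -/
structure Stmts : Prop where
  /-- `StrongEmb.Strong.result` -/
  strong : ∀ (G : Type u) [Group G] [Finite G] [IsSimpleGroup G], (∃ a b : G, a * b ≠ b * a) →
    ∀ H : Subgroup G, IsStronglyEmbedded H →
    (∃ (F : Type) (_ : Field F) (_ : Fintype F), (∃ n : ℕ, 2 ≤ n ∧ Fintype.card F = 2 ^ n) ∧
          Nonempty (G ≃* Matrix.ProjectiveSpecialLinearGroup (Fin 2) F)) ∨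
        Cfsg.Lie.IsoSuzuki G ∨
        (∃ (F : Type) (_ : Field F) (_ : Fintype F) (n : ℕ), 2 ≤ n ∧
          Fintype.card F = (2 ^ n) ^ 2 ∧ Nonempty (G ≃* Cfsg.PSU 3 F (2 ^ n)))
  /-- S0482 -/
  s0482 : ∀ (G : Type u) [Group G] [Finite G] [IsSimpleGroup G], ¬ IsMulCommutative G →
    Cfsg.PRankLE 2 2 G →
    (∃ (F : Type) (_ : Field F) (_ : Fintype F), Odd (Fintype.card F) ∧ 5 ≤ Fintype.card F ∧
        Nonempty (G ≃* Matrix.ProjectiveSpecialLinearGroup (Fin 2) F)) ∨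
      (∃ (F : Type) (_ : Field F) (_ : Fintype F), Odd (Fintype.card F) ∧
        Nonempty (G ≃* Matrix.ProjectiveSpecialLinearGroup (Fin 3) F)) ∨
      (∃ (F : Type) (_ : Field F) (_ : Fintype F) (q : ℕ), Fintype.card F = q ^ 2 ∧ Odd q ∧
        Nonempty (G ≃* Cfsg.PSU 3 F q)) ∨
      (∃ (F : Type) (_ : Field F) (_ : Fintype F), Fintype.card F = 16 ∧ Nonempty (G ≃* Cfsg.PSU 3 F 4)) ∨
      Nonempty (G ≃* alternatingGroup (Fin 7)) ∨
      Cfsg.IsM11 G
  /-- `TwoGenCore.IsoMEleven.isoM11` -/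
  m11 : ∀ (G : Type u) [Group G] [Finite G], IsM11 G → Spor.IsoM11 G
  /-- S1663 -/
  m22 : ∀ (G : Type u) [Group G] [Finite G], IsM22 G → Spor.IsoM22 G
  /-- S1664 -/
  m23 : ∀ (G : Type u) [Group G] [Finite G], IsM23 G → Spor.IsoM23 G
  /-- S0506 -/
  s0506 : ∀ (G : Type u) [Group G] [Finite G] [IsSimpleGroup G], ¬ IsMulCommutative G →
    FinalAbel.St0506 G
  /-- S1740 -/
  s1740 : ∀ (G : Type u) [Group G] [Finite G] [IsSimpleGroup G], ¬ IsMulCommutative G →
    ¬ Cfsg.PRankLE 2 2 G → St1740 G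
  /-- S1776 -/
  s1776 : ∀ (G : Type u) [Group G] [Finite G] [IsSimpleGroup G] (S : Sylow 2 G)
    (P : Sylow 2 Cfsg.Spor.J2), Nonempty (↥(S : Subgroup G) ≃* ↥(P : Subgroup Cfsg.Spor.J2)) →
    Cfsg.Spor.IsoJ2 G ∨ Cfsg.Spor.IsoJ3 G
  /-- S0509 -/
  s0509 : ∀ (G : Type u) [Group G] [Finite G] [IsSimpleGroup G]
    (F : Type) [Field F] [Fintype F], Odd (Fintype.card F) → ∀ (S : Sylow 2 G)
    (P : Sylow 2 (Cfsg.PSp 2 F)), Nonempty ((S : Subgroup G) ≃* (P : Subgroup (Cfsg.PSp 2 F))) →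
    (∃ (K : Type) (_ : Field K) (_ : Fintype K), Odd (Fintype.card K) ∧ Nonempty (G ≃* Cfsg.PSp 2 K)) ∨
      Nonempty (G ≃* alternatingGroup (Fin 8)) ∨ Nonempty (G ≃* alternatingGroup (Fin 9))
  /-- S0510 with `HasAltCover G` instead of the order of `McL` -/
  s0510 : ∀ (G : Type u) [Group G] [Finite G] [IsSimpleGroup G]
    (F : Type) [Field F] [Fintype F], Odd (Fintype.card F) → ∀ (S : Sylow 2 G)
    (P : Sylow 2 (Matrix.ProjectiveSpecialLinearGroup (Fin 4) F)),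
    Nonempty ((S : Subgroup G) ≃* (P : Subgroup (Matrix.ProjectiveSpecialLinearGroup (Fin 4) F))) →
    (∃ (K : Type) (_ : Field K) (_ : Fintype K), Odd (Fintype.card K) ∧
        Nonempty (G ≃* Matrix.ProjectiveSpecialLinearGroup (Fin 4) K)) ∨
      (∃ (K : Type) (_ : Field K) (_ : Fintype K) (r : ℕ), Fintype.card K = r ^ 2 ∧ Odd r ∧
        Nonempty (G ≃* Cfsg.PSU 4 K r)) ∨
      Nonempty (G ≃* alternatingGroup (Fin 10)) ∨ Nonempty (G ≃* alternatingGroup (Fin 11)) ∨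
      Cfsg.IsM22 G ∨ Cfsg.IsM23 G ∨ HasAltCover G
  /-- S0511 -/
  s0511 : ∀ (G : Type u) [Group G] [Finite G] [IsSimpleGroup G]
    (F : Type) [Field F] [Fintype F], Odd (Fintype.card F) → ∀ (S : Sylow 2 G)
    (P : Sylow 2 (Matrix.ProjectiveSpecialLinearGroup (Fin 5) F)),
    Nonempty ((S : Subgroup G) ≃* (P : Subgroup (Matrix.ProjectiveSpecialLinearGroup (Fin 5) F))) →
    (∃ (K : Type) (_ : Field K) (_ : Fintype K), Odd (Fintype.card K) ∧
        Nonempty (G ≃* Matrix.ProjectiveSpecialLinearGroup (Fin 5) K)) ∨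
      (∃ (K : Type) (_ : Field K) (_ : Fintype K) (r : ℕ), Fintype.card K = r ^ 2 ∧ Odd r ∧
        Nonempty (G ≃* Cfsg.PSU 5 K r))
  /-- S1742 -/
  s1742 : ∀ (G : Type u) [Group G] [Finite G] [IsSimpleGroup G]
    (F : Type) [Field F] [Fintype F], Odd (Fintype.card F) → ∀ (S : Sylow 2 G)
    (P : Sylow 2 ↥(Cfsg.Lie.chevG2.group F)),
    Nonempty (↥(S : Subgroup G) ≃* ↥(P : Subgroup ↥(Cfsg.Lie.chevG2.group F))) →
    (∃ (E : Type) (_ : Field E) (_ : Fintype E), Odd (Fintype.card E) ∧ Nonempty (G ≃* ↥(Cfsg.Lie.chevG2.group E))) ∨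
      (∃ (K : Type) (_ : Field K) (_ : Fintype K) (r : ℕ), Odd r ∧ Fintype.card K = r ^ 3 ∧ Nonempty (G ≃* ↥(Cfsg.Lie.twistedD4 K r))) ∨
      Cfsg.Spor.IsoM12 G
  /-- S1738 -/
  s1738 : ∀ (G : Type u) [Group G] [Finite G], AltOut.St1738 G

/-- A Sylow 2-subgroup which is not four-connected is isomorphic to one of `J₂`. -/
theorem sylOf_J2 {G : Type*} [Group G] [Finite G] [IsSimpleGroup G] (hr : ¬ Cfsg.PRankLE 2 2 G)
    (S : Sylow 2 G) (hS : ¬ Cfsg.IsFourConnected (S : Subgroup G)) :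
    ∃ P : Sylow 2 Cfsg.Spor.J2, Nonempty (↥(S : Subgroup G) ≃* ↥(P : Subgroup Cfsg.Spor.J2)) := by
  obtain ⟨h, hS⟩ := Classification.NonConnEnd.exists_setup hr S hS
  obtain ⟨P⟩ : Nonempty (Sylow 2 Cfsg.Spor.J2) := inferInstance
  obtain ⟨e⟩ := J2Sylow.SporSylow.exists_equiv P
  refine ⟨P, ⟨?_⟩⟩
  have e1 : J2Sylow.Model.T ≃* h.S := MonoidHom.ofInjective h.inj
  exact (MulEquiv.subgroupCongr hS.symm).trans (e1.symm.trans e)

theorem inputs (I : Stmts.{u}) (G : Type u) [Group G] [Finite G] (h : Hyp G) : Inputs G := by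
  have := h.simple
  exact
    { strong := fun H hH => I.strong G h.exists_not_comm H hH
      abel := fun S hS => FinalAbel.abel (I.s0506 G h.nonComm) (I.s1740 G h.nonComm h.rank3) h.rank3
        h.rank4 S hS
      nonconn := fun S hS => by
        obtain ⟨P, e⟩ := sylOf_J2 h.rank3 S hS
        exact I.s1776 G S P e
      j2 := fun S P e => I.s1776 G S P e
      bender := I.s1740 G h.nonComm h.rank3
      sp4 := fun F _ _ hF S P e => I.s0509 G F hF S P e
      l4 := fun F _ _ hF S P e => by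
        rcases I.s0510 G F hF S P e with h1 | h1 | h1 | h1 | h1 | h1 | h1
        · exact Or.inl h1
        · exact Or.inr (Or.inl h1)
        · exact Or.inr (Or.inr (Or.inl h1))
        · exact Or.inr (Or.inr (Or.inr (Or.inl h1)))
        · exact Or.inr (Or.inr (Or.inr (Or.inr (Or.inl (I.m22 G h1)))))
        · exact Or.inr (Or.inr (Or.inr (Or.inr (Or.inr (Or.inl (I.m23 G h1))))))
        · exact Or.inr (Or.inr (Or.inr (Or.inr (Or.inr (Or.inr h1)))))
      l5 := fun F _ _ hF S P e => I.s0511 G F hF S P e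
      g2 := fun F _ _ hF S P e => I.s1742 G F hF S P e }

theorem k2 (I : Stmts.{u}) (G : Type u) [Group G] [Finite G] [IsSimpleGroup G]
    (hna : ¬ IsMulCommutative G) (hr : PRankLE 2 2 G) : K2 G := by
  rcases I.s0482 G hna hr with h1 | h1 | h1 | h1 | h1 | h1
  · exact Or.inl h1
  · exact Or.inr (Or.inl h1)
  · exact Or.inr (Or.inr (Or.inl h1))
  · exact Or.inr (Or.inr (Or.inr (Or.inl h1)))
  · exact Or.inr (Or.inr (Or.inr (Or.inr (Or.inl h1))))
  · exact Or.inr (Or.inr (Or.inr (Or.inr (Or.inr (I.m11 G h1)))))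

/-- All finite simple groups of sectional 2-rank at most 4 are in the list `K4`. -/
theorem k4 (I : Stmts.{u})
    (hGH : ∀ (G : Type u) [Group G] [Finite G], Hyp G → GType G ∨ K4r G)
    (G : Type u) [Group G] [Finite G] [IsSimpleGroup G] (hna : ¬ IsMulCommutative G)
    (h4 : SectionalPRankLE 2 4 G) : K4 G :=
  FinalInd.k4 (k2 I) (inputs I) hGH G hna h4

/-- **S0500** from the theorem `Hyp G → GType G ∨ K4r G` and the statements `Stmts`. -/
theorem lit (O : FinalLit.Orders) (I : Stmts.{u})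
    (hGH : ∀ (G : Type u) [Group G] [Finite G], Hyp G → GType G ∨ K4r G)
    (G : Type u) [Group G] [Finite G] [IsSimpleGroup G] (hna : ¬ IsMulCommutative G)
    (h4 : SectionalPRankLE 2 4 G) : FinalLit.Lit G :=
  FinalInd.lit O (k2 I) (inputs I) hGH (fun G _ _ => I.s1738 G) G hna h4

end Cfsg.Agent.GH.FinalInputs
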