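import Cfsg.Prelude.Def_Exceptional
import Cfsg.Prelude.Def_Sporadic
import Cfsg.Agent.GH.AssemblyK4
import Cfsg.Agent.GH.AltOut

/-!
# GH: from the list `K4r G` to the literal conclusion of S0500

`Orders` collects the orders of the explicit groups (proved in `GH/FinalOrders.lean`).
-/

set_option autoImplicit false

open Cfsg Subgroup
open Cfsg.Agent.GH.Defs Cfsg.Agent.GH.AssemblyK4

namespace Cfsg.Agent.GH.FinalLit

/-- The conclusion of S0500. -/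
def Lit (G : Type*) [Group G] : Prop :=
    Cfsg.PRankLE 2 2 G ∨ Cfsg.IsG2 G ∨ Cfsg.Is3D4 G ∨
      (∃ (F : Type) (_ : Field F) (_ : Fintype F), Odd (Fintype.card F) ∧ Nonempty (G ≃* Cfsg.PSp 2 F)) ∨
      Cfsg.IsRee G ∨
      (∃ (F : Type) (_ : Field F) (_ : Fintype F), Odd (Fintype.card F) ∧ Fintype.card F % 8 ≠ 1 ∧ Nonempty (G ≃* Matrix.ProjectiveSpecialLinearGroup (Fin 4) F)) ∨
      (∃ (F : Type) (_ : Field F) (_ : Fintype F) (q : ℕ), Fintype.card F = q ^ 2 ∧ Odd q ∧ q % 8 ≠ 7 ∧ Nonempty (G ≃* Cfsg.PSU 4 F q)) ∨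
      (∃ (F : Type) (_ : Field F) (_ : Fintype F), Fintype.card F % 4 = 3 ∧ Nonempty (G ≃* Matrix.ProjectiveSpecialLinearGroup (Fin 5) F)) ∨
      (∃ (F : Type) (_ : Field F) (_ : Fintype F) (q : ℕ), Fintype.card F = q ^ 2 ∧ q % 4 = 1 ∧ Nonempty (G ≃* Cfsg.PSU 5 F q)) ∨
      (∃ (F : Type) (_ : Field F) (_ : Fintype F), (Fintype.card F = 8 ∨ Fintype.card F = 16) ∧ Nonempty (G ≃* Matrix.ProjectiveSpecialLinearGroup (Fin 2) F)) ∨
      (∃ (F : Type) (_ : Field F) (_ : Fintype F), Fintype.card F = 4 ∧ Nonempty (G ≃* Matrix.ProjectiveSpecialLinearGroup (Fin 3) F)) ∨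
      (∃ (F : Type) (_ : Field F) (_ : Fintype F), Fintype.card F = 16 ∧ Nonempty (G ≃* Cfsg.PSU 3 F 4)) ∨
      (∃ (F : Type) (_ : Field F) (_ : Fintype F), Fintype.card F = 2 ∧ Nonempty (G ≃* Matrix.ProjectiveSpecialLinearGroup (Fin 4) F)) ∨
      (Cfsg.IsSuzuki G ∧ Nat.card G = 29120) ∨
      (∃ n : ℕ, 8 ≤ n ∧ n ≤ 11 ∧ Nonempty (G ≃* alternatingGroup (Fin n))) ∨
      Cfsg.IsM12 G ∨ Cfsg.IsM22 G ∨ Cfsg.IsM23 G ∨ Cfsg.IsJ1 G ∨ Cfsg.IsJ2 G ∨ Cfsg.IsJ3 G ∨ Cfsg.IsMcL G ∨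
      Cfsg.IsLy G

/-- The orders of the explicit groups of the list. -/
structure Orders : Prop where
  g2 : ∀ (F : Type) [Field F] [Fintype F], Nat.card ↥(Cfsg.Lie.chevG2.group F) =
    Fintype.card F ^ 6 * (Fintype.card F ^ 2 - 1) * (Fintype.card F ^ 6 - 1)
  d4 : ∀ (K : Type) [Field K] [Fintype K] (q : ℕ), IsPrimePow q → Fintype.card K = q ^ 3 →
    Nat.card ↥(Cfsg.Lie.twistedD4 K q) = q ^ 12 * (q ^ 2 - 1) * (q ^ 6 - 1) * (q ^ 8 + q ^ 4 + 1)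
  ree : ∀ (K : Type) [Field K] [Fintype K] (m : ℕ), Fintype.card K = 3 ^ (2 * m + 1) →
    Nat.card ↥(Cfsg.Lie.twistedG2 K (3 ^ m)) =
      (3 ^ (2 * m + 1)) ^ 3 * (3 ^ (2 * m + 1) - 1) * ((3 ^ (2 * m + 1)) ^ 3 + 1)
  m12 : Nat.card ↥Cfsg.Spor.M12 = 95040
  m22 : Nat.card ↥Cfsg.Spor.M22 = 443520
  m23 : Nat.card ↥Cfsg.Spor.M23 = 10200960
  j1 : Nat.card ↥Cfsg.Spor.J1 = 175560
  j2 : Nat.card Cfsg.Spor.J2 = 604800
  j3 : ∀ (F : Type) [Field F] [Fintype F] (w : F), Fintype.card F = 4 → w ^ 2 + w + 1 = 0 →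
    Nat.card (Cfsg.Spor.J3 F w) = 50232960
  mcl : Nat.card ↥Cfsg.Spor.McL = 898128000
  ly : Nat.card Cfsg.Spor.Ly = 51765179004000000

variable {G : Type*} [Group G]

theorem isG2 (O : Orders) [IsSimpleGroup G] (h : IsG2odd G) : Cfsg.IsG2 G := by
  obtain ⟨F, _, _, hodd, ⟨e⟩⟩ := h
  refine ⟨inferInstance, Fintype.card F, ?_, ?_, ?_⟩
  · exact FiniteField.isPrimePow_card F
  · have h1 : 1 < Fintype.card F := Fintype.one_lt_card
    rcases hodd with ⟨k, hk⟩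
    omega
  · rw [Nat.card_congr e.toEquiv, O.g2 F]
    ring

theorem is3D4 (O : Orders) [IsSimpleGroup G] (h : IsD4odd G) : Cfsg.Is3D4 G := by
  obtain ⟨K, _, _, q, hodd, hK, ⟨e⟩⟩ := h
  have hq : IsPrimePow q := by
    have h1 : IsPrimePow (q ^ 3) := by
      rw [← hK]
      exact FiniteField.isPrimePow_card K
    exact (isPrimePow_pow_iff (by norm_num)).1 h1
  refine ⟨inferInstance, q, hq, ?_⟩
  rw [Nat.card_congr e.toEquiv, O.d4 K q hq hK]
  ring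

theorem isRee (O : Orders) [IsSimpleGroup G] (h : Lie.IsoRee G) : Cfsg.IsRee G := by
  obtain ⟨K, _, _, m, hm, hK, ⟨e⟩⟩ := h
  refine ⟨inferInstance, m, hm, ?_⟩
  rw [Nat.card_congr e.toEquiv, O.ree K m hK]
  ring

theorem isSz8 [Finite G] [IsSimpleGroup G] (h : IsSz8 G) : Cfsg.IsSuzuki G ∧ Nat.card G = 29120 := by
  obtain ⟨F, _, _, hF, ⟨e⟩⟩ := h
  have h1 : Nat.card G = 29120 := by
    rw [Nat.card_congr e.toEquiv, card_sz_eight hF]
    norm_num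
  exact ⟨⟨inferInstance, 1, le_rfl, by rw [h1]; norm_num⟩, h1⟩

/-- **The literal conclusion of S0500** -/
theorem lit_of_k4r (O : Orders) [Finite G] [IsSimpleGroup G] (hna : ¬ IsMulCommutative G)
    (hO : oddCore G = ⊥) (h38 : AltOut.St1738 G) (h : K4r G) : Lit G := by
  rcases h with h | h | h | h | ⟨n, h1, h2, h⟩ | h | h | h | h | h | h | h | h | h | h | h | h | h
  · -- `U₃(4)`
    iterate 11 right
    exact Or.inl h
  · rcases h with ⟨F, i, j, hF, e⟩ | h | h | ⟨⟨e⟩⟩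
    · iterate 9 right
      exact Or.inl ⟨F, i, j, Or.inl hF, e⟩
    · iterate 13 right
      exact Or.inl (isSz8 h)
    · iterate 4 right
      exact Or.inl (isRee O h)
    · iterate 18 right
      exact Or.inl ⟨inferInstance, by rw [Nat.card_congr e.toEquiv, O.j1]⟩
  · obtain ⟨F, i, j, hF, e⟩ := h
    iterate 9 right
    exact Or.inl ⟨F, i, j, Or.inr hF, e⟩
  · iterate 10 right
    exact Or.inl h
  · iterate 14 right
    exact Or.inl ⟨n, h1, h2, h⟩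
  · iterate 3 right
    exact Or.inl h
  · iterate 5 right
    exact Or.inl h
  · iterate 6 right
    exact Or.inl h
  · iterate 7 right
    exact Or.inl h
  · iterate 8 right
    exact Or.inl h
  · exact Or.inr (Or.inl (isG2 O h.1))
  · exact Or.inr (Or.inr (Or.inl (is3D4 O h.1)))
  · obtain ⟨e⟩ := h
    iterate 15 right
    exact Or.inl ⟨inferInstance, by rw [Nat.card_congr e.toEquiv, O.m12]⟩
  · obtain ⟨e⟩ := h
    iterate 16 right
    exact Or.inl ⟨inferInstance, by rw [Nat.card_congr e.toEquiv, O.m22]⟩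
  · obtain ⟨e⟩ := h
    iterate 17 right
    exact Or.inl ⟨inferInstance, by rw [Nat.card_congr e.toEquiv, O.m23]⟩
  · obtain ⟨e⟩ := h
    iterate 19 right
    exact Or.inl ⟨inferInstance, by rw [Nat.card_congr e.toEquiv, O.j2]⟩
  · obtain ⟨F, _, _, w, hF, hw, ⟨e⟩⟩ := h
    iterate 20 right
    exact Or.inl ⟨inferInstance, by rw [Nat.card_congr e.toEquiv, O.j3 F w hF hw]⟩
  · rcases AltOut.mcl_or_ly hna hO h38 h with ⟨⟨e⟩⟩ | ⟨⟨e⟩⟩
    · iterate 21 right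
      exact Or.inl ⟨inferInstance, by rw [Nat.card_congr e.toEquiv, O.mcl]⟩
    · iterate 22 right
      exact ⟨inferInstance, by rw [Nat.card_congr e.toEquiv, O.ly]⟩

end Cfsg.Agent.GH.FinalLit
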