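import Mathlib
import Cfsg.Agent.Cit.Quat
import Cfsg.Agent.TwoFusion.SectionalRank
import Cfsg.Agent.Lib.NormalAbelian

/-!
# GH-Q scenario A: two lemmas on 2-groups with a normal generalised quaternion subgroup (helper413)

* `lemmaQ`: `T` a 2-group of sectional rank at most 2 with a normal generalised quaternion subgroup
  `Q`: `T = Q`, or `|T : Q| = 2` and `T` is generalised quaternion or semidihedral.
* `lemmaS`: a 2-group `C` with `Q`, `⟨a⟩` normal, `⟨a, t⟩` quaternion or semidihedral containing `Q`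
  with index 2, `C_C(Q)` centralising `a`: `C = ⟨a, t⟩ C_C(Q)`.
-/

set_option autoImplicit false

namespace Cfsg.Agent.GH.QALemmaQ

open Subgroup Cfsg Cfsg.Agent.Cit Cfsg.Agent.TwoFusion.SectionalRank

variable {G : Type*} [Group G]

/-! ### sections -/

theorem sec_card [Finite G] {T X Y : Subgroup G} {k : ℕ} (hr : SectionalPRankLE 2 k T)
    (h : ElemSection 2 X Y) (hX : X ≤ T) : Nat.card X ≤ 2 ^ k * Nat.card Y := by
  have h1 := sectionalPRankLE_iff.1 hr (X.subgroupOf T) (Y.subgroupOf T) (h.comap T.subtype)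
  rwa [Nat.card_congr (subgroupOfEquivOfLe hX).toEquiv,
    Nat.card_congr (subgroupOfEquivOfLe (h.le.trans hX)).toEquiv] at h1

theorem of_sq {X Y : Subgroup G} (hle : Y ≤ X) (hn : ∀ x ∈ X, ∀ y ∈ Y, x * y * x⁻¹ ∈ Y)
    (hsq : ∀ x ∈ X, x * x ∈ Y) : ElemSection 2 X Y where
  le := hle
  comm a ha b hb := by
    have h1 := hsq _ (X.mul_mem ha hb)
    have h2 := hn _ (X.inv_mem hb) _ (Y.inv_mem (hsq a ha))
    have h3 := Y.inv_mem (hsq b hb)
    have h4 : a * b * a⁻¹ * b⁻¹ = (a * b * (a * b)) * (b⁻¹ * (a * a)⁻¹ * b⁻¹⁻¹) * (b * b)⁻¹ := by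
      group
    rw [h4]
    exact Y.mul_mem (Y.mul_mem h1 h2) h3
  pow a ha := by rw [pow_two]; exact hsq a ha

/-- adjoining an element to an elementary abelian section -/
theorem adjoin [Finite G] {X Y : Subgroup G} (h : ElemSection 2 X Y) {d : G} (hd : d ∉ X)
    (hdd : d * d ∈ Y) (hc : ∀ x ∈ X, d * x * d⁻¹ * x⁻¹ ∈ Y) :
    ∃ X' : Subgroup G, ElemSection 2 X' Y ∧ Nat.card X' = 2 * Nat.card X ∧
      ∀ g, g ∈ X' ↔ g ∈ X ∨ ∃ x ∈ X, g = x * d := by
  have hYX := h.le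
  have hdx : ∀ x ∈ X, d * x * d⁻¹ ∈ X := by
    intro x hx
    have := X.mul_mem (hYX (hc x hx)) hx
    simpa using this
  have hdd' : d * d ∈ X := hYX hdd
  let X' : Subgroup G :=
    { carrier := {g | g ∈ X ∨ ∃ x ∈ X, g = x * d}
      one_mem' := Or.inl X.one_mem
      mul_mem' := by
        rintro a b (ha | ⟨a, ha, rfl⟩) (hb | ⟨b, hb, rfl⟩)
        · exact Or.inl (X.mul_mem ha hb)
        · exact Or.inr ⟨a * b, X.mul_mem ha hb, by group⟩
        · exact Or.inr ⟨a * (d * b * d⁻¹), X.mul_mem ha (hdx b hb), by group⟩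
        · refine Or.inl ?_
          have : a * d * (b * d) = a * (d * b * d⁻¹) * (d * d) := by group
          rw [this]
          exact X.mul_mem (X.mul_mem ha (hdx b hb)) hdd'
      inv_mem' := by
        rintro a (ha | ⟨a, ha, rfl⟩)
        · exact Or.inl (X.inv_mem ha)
        · refine Or.inr ⟨(d * d)⁻¹ * (d * a⁻¹ * d⁻¹), X.mul_mem (X.inv_mem hdd')
            (hdx _ (X.inv_mem ha)), by group⟩ }
  have hmem : ∀ g, g ∈ X' ↔ g ∈ X ∨ ∃ x ∈ X, g = x * d := fun g => Iff.rfl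
  refine ⟨X', ?_, ?_, hmem⟩
  · refine of_sq (fun y hy => Or.inl (hYX hy)) ?_ ?_
    · rintro a (ha | ⟨a, ha, rfl⟩) y hy
      · exact h.conj_mem ha hy
      · have h1 : a * d * y * (a * d)⁻¹ = a * (d * y * d⁻¹ * y⁻¹ * y) * a⁻¹ := by group
        rw [h1]
        exact h.conj_mem ha (Y.mul_mem (hc y (hYX hy)) hy)
    · rintro a (ha | ⟨a, ha, rfl⟩)
      · have := h.pow a ha
        rwa [pow_two] at this
      · have h1 : a * d * (a * d) = a * (d * a * d⁻¹ * a⁻¹) * a⁻¹ * (a * a) * (d * d) := by group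
        rw [h1]
        have h2 := h.pow a ha
        rw [pow_two] at h2
        exact Y.mul_mem (Y.mul_mem (h.conj_mem ha (hc a ha)) h2) hdd
  · have h1 : (X' : Set G) = (X : Set G) ∪ (fun x => x * d) '' (X : Set G) := by
      ext g
      constructor
      · rintro (hg | ⟨x, hx, rfl⟩)
        · exact Or.inl hg
        · exact Or.inr ⟨x, hx, rfl⟩
      · rintro (hg | ⟨x, hx, rfl⟩)
        · exact Or.inl hg
        · exact Or.inr ⟨x, hx, rfl⟩
    have h2 : Disjoint (X : Set G) ((fun x => x * d) '' (X : Set G)) := by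
      rw [Set.disjoint_left]
      rintro _ hg ⟨x, hx, rfl⟩
      apply hd
      have := X.mul_mem (X.inv_mem hx) hg
      simpa using this
    have h3 := Set.ncard_union_eq h2 (Set.toFinite _) (Set.toFinite _)
    rw [← h1, Set.ncard_image_of_injective _ (mul_left_injective d)] at h3
    rw [← Nat.card_coe_set_eq, ← Nat.card_coe_set_eq] at h3
    change Nat.card X' = Nat.card X + Nat.card X at h3
    rw [h3, two_mul]

/-! ### arithmetic in a cyclic 2-group -/

theorem no_neg {g : G} {m : ℕ} (ho : orderOf g = 2 ^ (m + 2)) {l : ℤ} (h : g ^ (l * l) = g⁻¹) :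
    False := by
  have h1 : g ^ (l * l + 1) = 1 := by rw [zpow_add_one, h, inv_mul_cancel]
  have h2 := orderOf_dvd_iff_zpow_eq_one.2 h1
  rw [ho] at h2
  have h3 : (4 : ℤ) ∣ l * l + 1 := by
    refine dvd_trans ?_ h2
    push_cast
    exact ⟨2 ^ m, by ring⟩
  rcases Int.even_or_odd' l with ⟨k, rfl | rfl⟩
  · obtain ⟨r, hr⟩ := h3
    have : 4 * (k * k - r) = -1 := by linarith
    omega
  · obtain ⟨r, hr⟩ := h3
    have : 4 * (k * k + k - r) = -2 := by linarith
    omega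

theorem z_zpow_even {z : G} (hz : z * z = 1) {s : ℤ} (hs : Even s) : z ^ s = 1 := by
  obtain ⟨r, rfl⟩ := hs
  rw [zpow_add, ← (Commute.refl z).mul_zpow, hz, one_zpow]

theorem z_zpow_odd {z : G} (hz : z * z = 1) {s : ℤ} (hs : Odd s) : z ^ s = z := by
  obtain ⟨r, rfl⟩ := hs
  rw [zpow_add_one, two_mul, z_zpow_even hz ⟨r, rfl⟩, one_mul]

theorem z_zpow {z : G} (hz : z * z = 1) (s : ℤ) : z ^ s = 1 ∨ z ^ s = z :=
  (Int.even_or_odd s).imp (z_zpow_even hz) (z_zpow_odd hz)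

theorem z_mul_of_ord {g z : G} {m : ℕ} (ho : orderOf g = 2 ^ (m + 2)) (hz : g ^ 2 ^ (m + 1) = z) :
    z * z = 1 := by
  rw [← hz, ← pow_two, ← pow_mul, ← pow_succ, ← ho, pow_orderOf_eq_one]

theorem pow_four {g z : G} {m : ℕ} (ho : orderOf g = 2 ^ (m + 2)) (hz : g ^ 2 ^ (m + 1) = z)
    {l : ℤ} (h : g ^ (l * l) = g) : g ^ l = g ∨ g ^ l = g * z ∨ g ^ l = g⁻¹ ∨ g ^ l = g⁻¹ * z := by
  have hzz := z_mul_of_ord ho hz
  have hgz : g * z = z * g := by rw [← hz, ← pow_succ', ← pow_succ]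
  have hz' : g ^ (2 ^ (m + 1) : ℤ) = z := by
    rw [← hz, ← zpow_natCast]; push_cast; rfl
  have h1 : g ^ (l * l - 1) = 1 := by rw [zpow_sub_one, h, mul_inv_cancel]
  have h2 := orderOf_dvd_iff_zpow_eq_one.2 h1
  rw [ho] at h2
  have h3 : (2 ^ m * 4 : ℤ) ∣ l * l - 1 := by
    refine dvd_trans (dvd_of_eq ?_) h2
    push_cast
    ring
  rcases Int.even_or_odd' l with ⟨k, rfl | rfl⟩
  · exfalso
    obtain ⟨r, hr⟩ := h3
    have : 4 * (k * k - 2 ^ m * r) = 1 := by linarith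
    omega
  · have h4 : (2 ^ m : ℤ) ∣ k * (k + 1) := by
      obtain ⟨r, hr⟩ := h3
      exact ⟨r, by linarith⟩
    rcases Int.even_or_odd' k with ⟨r, hr | hr⟩
    · have hco : IsCoprime (2 : ℤ) (k + 1) := ⟨-r, 1, by rw [hr]; ring⟩
      obtain ⟨s, hs⟩ := (hco.pow_left (m := m)).dvd_of_dvd_mul_right h4
      have h5 : g ^ (2 * k + 1) = g * z ^ s := by
        rw [zpow_add_one, hs, ← mul_assoc, ← pow_succ', zpow_mul, hz']
        rcases z_zpow hzz s with h6 | h6 <;> rw [h6]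
        · rw [one_mul, mul_one]
        · exact hgz.symm
      rw [h5]
      rcases z_zpow hzz s with h6 | h6 <;> rw [h6]
      · left; rw [mul_one]
      · right; left; rfl
    · have hco : IsCoprime (2 : ℤ) k := ⟨-r, 1, by rw [hr]; ring⟩
      obtain ⟨s, hs⟩ := (hco.pow_left (m := m)).dvd_of_dvd_mul_left h4
      have hgz' : g⁻¹ * z = z * g⁻¹ := by
        rw [inv_mul_eq_iff_eq_mul, ← mul_assoc, hgz, mul_inv_cancel_right]
      have h5 : g ^ (2 * k + 1) = g⁻¹ * z ^ s := by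
        have h7 : 2 * k + 1 = 2 ^ (m + 1) * s - 1 := by
          have : k = 2 ^ m * s - 1 := by linarith
          rw [this, pow_succ]; ring
        rw [h7, zpow_sub_one, zpow_mul, hz']
        rcases z_zpow hzz s with h6 | h6 <;> rw [h6]
        · rw [one_mul, mul_one]
        · exact hgz'.symm
      rw [h5]
      rcases z_zpow hzz s with h6 | h6 <;> rw [h6]
      · right; right; left; rw [mul_one]
      · right; right; right; rfl

/-! ### quaternion coordinates -/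

section quat

variable {Q : Subgroup G} {c v z : G} {n : ℕ}

theorem c_zpow_mem (h : GQ Q c v z n) (i : ℤ) : c ^ i ∈ Q := Q.zpow_mem h.c_mem i

theorem conj_zpow (h : GQ Q c v z n) (i : ℤ) : v * c ^ i * v⁻¹ = c ^ (-i) := by
  rw [← _root_.conj_zpow, h.conj, inv_zpow, zpow_neg]

theorem v_zpow (h : GQ Q c v z n) (i : ℤ) : v * c ^ i = c ^ (-i) * v := by
  rw [← conj_zpow h, inv_mul_cancel_right]

theorem cov' (h : GQ Q c v z n) {x : G} (hx : x ∈ Q) : (∃ i : ℤ, x = c ^ i) ∨ ∃ i : ℤ, x = c ^ i * v := by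
  rcases h.cov x hx with ⟨i, rfl⟩ | ⟨i, rfl⟩
  · exact Or.inl ⟨i, (zpow_natCast c i).symm⟩
  · refine Or.inr ⟨-i, ?_⟩
    rw [← zpow_natCast, v_zpow h]

theorem z_comm (h : GQ Q c v z n) {x : G} (hx : x ∈ normalizer (Q : Set G)) : x * z = z * x := by
  have h1 : x * z * x⁻¹ ∈ Q := (mem_normalizer_iff.1 hx z).1 h.z_mem
  have h2 : x * z * x⁻¹ = z := by
    apply h.eq_z h1
    · have : x * z * x⁻¹ * (x * z * x⁻¹) = x * (z * z) * x⁻¹ := by group
      rw [this, h.z_mul]; group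
    · intro h3
      apply h.z_ne
      have : z = x⁻¹ * (x * z * x⁻¹) * x := by group
      rw [this, h3]; group
  rw [mul_inv_eq_iff_eq_mul] at h2
  exact h2

theorem z_c (h : GQ Q c v z n) : c * z = z * c := z_comm h (le_normalizer h.c_mem)

theorem z_v (h : GQ Q c v z n) : v * z = z * v := z_comm h (le_normalizer h.v_mem)

theorem v_not_zpow (h : GQ Q c v z n) (i : ℤ) : v ≠ c ^ i := by
  intro hv
  apply h.not_comm
  rw [hv, ← zpow_add_one, ← zpow_one_add, add_comm]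

theorem c_ne_inv (h : GQ Q c v z n) : c ≠ c⁻¹ := by
  intro hc
  apply h.c_sq_ne
  nth_rw 2 [hc]
  group

/-- elements of `Q` commuting with `c` and `v` -/
theorem mem_center (h : GQ Q c v z n) {x : G} (hx : x ∈ Q) (hc : x * c = c * x) (hv : x * v = v * x) :
    x = 1 ∨ x = z := by
  rcases cov' h hx with ⟨i, rfl⟩ | ⟨i, rfl⟩
  · by_cases h1 : c ^ i = 1
    · exact Or.inl h1
    · refine Or.inr (h.eq_z hx ?_ h1)
      have h2 : c ^ (-i) = c ^ i := by
        apply mul_right_cancel (b := v)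
        rw [← v_zpow h, hv]
      have h3 : c ^ i * c ^ i = c ^ i * c ^ (-i) := by rw [h2]
      rw [h3, ← zpow_add, add_neg_cancel, zpow_zero]
  · exfalso
    apply h.not_comm
    have h1 : c ^ i * v * c = c ^ i * (c * v) := by
      rw [hc, ← mul_assoc, ← mul_assoc, ← zpow_add_one, ← zpow_one_add, add_comm]
    rw [mul_assoc] at h1
    exact mul_left_cancel h1

/-- elements commuting with `c` and `v` centralise `Q` -/
theorem comm_of (h : GQ Q c v z n) {x : G} (hc : x * c = c * x) (hv : x * v = v * x) :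
    ∀ q ∈ Q, x * q = q * x := by
  intro q hq
  have hc' : Commute x c := hc
  have hv' : Commute x v := hv
  rcases cov' h hq with ⟨i, rfl⟩ | ⟨i, rfl⟩
  · exact (hc'.zpow_right i).eq
  · exact ((hc'.zpow_right i).mul_right hv').eq

end quat

/-! ### the rank three section -/

theorem orderOf_sq {g : G} {m : ℕ} (ho : orderOf g = 2 ^ (m + 1)) : orderOf (g * g) = 2 ^ m := by
  rw [← pow_two, orderOf_pow' g (by norm_num), ho, Nat.gcd_eq_right (dvd_pow_self 2 (by omega)),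
    pow_succ, Nat.mul_div_cancel _ (by norm_num)]

theorem no_rank_three [Finite G] {T : Subgroup G} (hr : SectionalPRankLE 2 2 T) {g w e : G} {m : ℕ}
    (hg : g ∈ T) (hw : w ∈ T) (he : e ∈ T) (ho : orderOf g = 2 ^ (m + 1))
    (hwg : w * g * w⁻¹ = g⁻¹) (hww : w * w ∈ zpowers (g * g)) (hwn : w ∉ zpowers g)
    (hee : e * e ∈ zpowers (g * g)) (heg : e * g = g * e) (hew : e * w = w * e)
    (hen : e ∉ zpowers g) (hen' : ∀ i : ℤ, e ≠ g ^ i * w) : False := by
  have hsq : ∀ i : ℤ, g ^ i * g ^ i = (g * g) ^ i := fun i => ((Commute.refl g).mul_zpow i).symm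
  have h1 : ElemSection 2 (zpowers g) (zpowers (g * g)) := by
    refine of_sq ?_ ?_ ?_
    · rw [zpowers_le]; exact mul_mem (mem_zpowers g) (mem_zpowers g)
    · rintro _ ⟨i, rfl⟩ _ ⟨j, rfl⟩
      have h2 : Commute (g ^ i) ((g * g) ^ j) :=
        (((Commute.refl g).mul_right (Commute.refl g)).zpow_right j).zpow_left i
      have h3 : g ^ i * (g * g) ^ j * (g ^ i)⁻¹ = (g * g) ^ j := by rw [h2.eq]; group
      exact ⟨j, h3.symm⟩
    · rintro _ ⟨i, rfl⟩
      exact ⟨i, (hsq i).symm⟩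
  have hwgi : ∀ i : ℤ, w * g ^ i * w⁻¹ * (g ^ i)⁻¹ = (g * g) ^ (-i) := by
    intro i
    rw [← _root_.conj_zpow, hwg, inv_zpow, ← zpow_neg, hsq]
  obtain ⟨X, hX, hXc, hXm⟩ := adjoin h1 hwn hww (by
    rintro _ ⟨i, rfl⟩
    exact ⟨-i, (hwgi i).symm⟩)
  have hcomm : ∀ x ∈ X, e * x = x * e := by
    intro x hx
    have heg' : Commute e g := heg
    rcases (hXm x).1 hx with ⟨i, rfl⟩ | ⟨_, ⟨i, rfl⟩, rfl⟩
    · exact (heg'.zpow_right i).eq
    · exact ((heg'.zpow_right i).mul_right hew).eq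
  have hXe : e ∉ X := by
    intro hx
    rcases (hXm e).1 hx with h2 | ⟨_, ⟨i, rfl⟩, h2⟩
    · exact hen h2
    · exact hen' i h2
  obtain ⟨X', hX', hXc', hXm'⟩ := adjoin hX hXe hee (by
    intro x hx
    rw [hcomm x hx]
    have : x * e * e⁻¹ * x⁻¹ = 1 := by group
    rw [this]; exact one_mem _)
  have hXT : X ≤ T := by
    intro x hx
    rcases (hXm x).1 hx with h2 | ⟨y, h2, rfl⟩
    · exact (zpowers_le.2 hg) h2
    · exact T.mul_mem ((zpowers_le.2 hg) h2) hw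
  have hXT' : X' ≤ T := by
    intro x hx
    rcases (hXm' x).1 hx with h2 | ⟨y, h2, rfl⟩
    · exact hXT h2
    · exact T.mul_mem (hXT h2) he
  have h5 := sec_card hr hX' hXT'
  rw [hXc', hXc, Nat.card_zpowers, Nat.card_zpowers, orderOf_sq ho, ho, pow_succ] at h5
  have : 0 < 2 ^ m := by positivity
  omega

/-! ### the core argument -/

section core

variable {T Q : Subgroup G} {c v z : G} {n : ℕ}

theorem exists_j (hQ : GQ Q c v z n) {x : G} (hx : x ∈ normalizer (Q : Set G))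
    (hc : x * c = c * x) : ∃ j : ℤ, x * v * x⁻¹ = c ^ j * v := by
  have h1 : x * v * x⁻¹ ∈ Q := (mem_normalizer_iff.1 hx v).1 hQ.v_mem
  rcases cov' hQ h1 with ⟨i, hi⟩ | ⟨i, hi⟩
  · exfalso
    apply v_not_zpow hQ i
    have hx' : Commute x c := hc
    have h2 : x * v = x * c ^ i := by rw [(hx'.zpow_right i).eq, ← hi]; group
    exact mul_left_cancel h2
  · exact ⟨i, hi⟩

theorem z_mem_sq (hQ : GQ Q c v z n) : z ∈ zpowers (c * c) := by
  refine ⟨2 ^ n, ?_⟩
  have : (c * c) ^ (2 ^ n : ℤ) = (c * c) ^ (2 ^ n : ℕ) := by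
    rw [← zpow_natCast]; push_cast; rfl
  change (c * c) ^ (2 ^ n : ℤ) = z
  rw [this, ← pow_two, ← pow_mul, ← pow_succ', hQ.z_eq]

/-- a power of `d` which is outside a set but with square inside -/
theorem exists_last [Finite G] (hT : IsPGroup 2 T) {d : G} (hd : d ∈ T) (P : G → Prop) (hP1 : P 1)
    (hdP : ¬ P d) : ∃ k : ℕ, ¬ P (d ^ k) ∧ P (d ^ k * d ^ k) := by
  classical
  obtain ⟨m, hm⟩ := hT ⟨d, hd⟩
  have hm' : d ^ 2 ^ m = 1 := congrArg Subtype.val hm
  have hex : ∃ k : ℕ, P (d ^ 2 ^ k) := ⟨m, by rw [hm']; exact hP1⟩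
  have h1 := Nat.find_spec hex
  obtain ⟨j, hj⟩ : ∃ j, Nat.find hex = j + 1 := by
    refine Nat.exists_eq_add_one.2 (Nat.pos_of_ne_zero ?_)
    intro h0
    rw [h0, pow_zero, pow_one] at h1
    exact hdP h1
  refine ⟨2 ^ j, Nat.find_min hex (by omega), ?_⟩
  rw [hj] at h1
  rwa [← pow_add, ← two_mul, ← pow_succ']

/-- `C_T(Q) = Z(Q)` -/
theorem centQ [Finite G] (hT : IsPGroup 2 T) (hQT : Q ≤ T) (hQ : GQ Q c v z n)
    (hr : SectionalPRankLE 2 2 T) : ∀ d ∈ T, (∀ q ∈ Q, d * q = q * d) → d = 1 ∨ d = z := by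
  intro d hd hdQ
  by_contra hcon
  obtain ⟨k, hk1, hk2⟩ := exists_last hT hd (fun x => x = 1 ∨ x = z) (Or.inl rfl) hcon
  set e := d ^ k with he
  have heT : e ∈ T := T.pow_mem hd k
  have heQ : ∀ q ∈ Q, e * q = q * e := fun q hq =>
    ((show Commute d q from hdQ q hq).pow_left k).eq
  have hne : e ∉ Q := by
    intro h1
    exact hk1 (mem_center hQ h1 (heQ c hQ.c_mem) (heQ v hQ.v_mem))
  have hzY := z_mem_sq hQ
  refine no_rank_three (m := n + 1) hr (hQT hQ.c_mem) (hQT hQ.v_mem) heT hQ.ord hQ.conj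
    (by rw [hQ.v_sq]; exact hzY) ?_ ?_ (heQ c hQ.c_mem) (heQ v hQ.v_mem) ?_ ?_
  · rintro ⟨i, hi⟩; exact v_not_zpow hQ i hi.symm
  · rcases hk2 with h1 | h1
    · rw [h1]; exact one_mem _
    · rw [h1]; exact hzY
  · intro h1; exact hne ((zpowers_le.2 hQ.c_mem) h1)
  · intro i h1; apply hne; rw [h1]; exact Q.mul_mem (c_zpow_mem hQ i) hQ.v_mem

/-! ### an invariant cyclic subgroup of index two -/

theorem c_sq (h : GQ Q c v z 0) : c * c = z := by
  have := h.z_eq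
  rwa [zero_add, pow_one, pow_two] at this

theorem list8 (h : GQ Q c v z 0) {x : G} (hx : x ∈ Q) : (x = 1 ∨ x = z ∨ x = c ∨ x = c * z) ∨
    (x = v ∨ x = v * z ∨ x = c * v ∨ x = c * v * z) := by
  have hcc := c_sq h
  have key : ∀ i : ℤ, c ^ i = 1 ∨ c ^ i = z ∨ c ^ i = c ∨ c ^ i = c * z := by
    intro i
    have h1 : ∀ r : ℤ, c ^ (2 * r) = z ^ r := by
      intro r; rw [zpow_mul]; congr 1; rw [zpow_ofNat, pow_two, hcc]
    rcases Int.even_or_odd' i with ⟨r, rfl | rfl⟩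
    · rw [h1]
      rcases z_zpow h.z_mul r with h2 | h2 <;> rw [h2] <;> simp
    · rw [zpow_add_one, h1]
      rcases z_zpow h.z_mul r with h2 | h2 <;> rw [h2]
      · rw [one_mul]; simp
      · rw [← z_c h]; simp
  rcases cov' h hx with ⟨i, rfl⟩ | ⟨i, rfl⟩
  · exact Or.inl (key i)
  · right
    rcases key i with h1 | h1 | h1 | h1 <;> rw [h1]
    · left; rw [one_mul]
    · right; left; exact (z_v h).symm
    · right; right; left; rfl
    · right; right; right
      rw [mul_assoc, mul_assoc, z_v h]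

theorem gq_v (h : GQ Q c v z 0) : GQ Q v c z 0 := by
  have hcc := c_sq h
  have hvz : v * z = z * v := z_v h
  have h3 : v ^ 3 = v * z := by rw [pow_succ', pow_two, h.v_sq]
  refine ⟨h.v_mem, h.c_mem, by rw [h.orderOf_v]; norm_num, by rw [zero_add, pow_one, pow_two, h.v_sq],
    hcc, ?_, ?_⟩
  · have h1 : v * (z * v) = 1 := by rw [← hvz, ← mul_assoc, h.v_sq, h.z_mul]
    have h2 : c * v * c⁻¹ = c * (v * c * v⁻¹)⁻¹ * v := by group
    rw [h2, h.conj, inv_inv, hcc]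
    exact eq_inv_of_mul_eq_one_right h1
  · intro x hx
    rcases list8 h hx with (rfl | rfl | rfl | rfl) | (rfl | rfl | rfl | rfl)
    · left; exact ⟨0, (pow_zero _).symm⟩
    · left; exact ⟨2, by rw [pow_two, h.v_sq]⟩
    · right; exact ⟨0, by rw [pow_zero, mul_one]⟩
    · right; exact ⟨2, by rw [pow_two, h.v_sq]⟩
    · left; exact ⟨1, (pow_one _).symm⟩
    · left; exact ⟨3, h3.symm⟩
    · right; exact ⟨1, by rw [pow_one]⟩
    · right; exact ⟨3, by rw [h3, mul_assoc]⟩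

theorem gq_cv (h : GQ Q c v z 0) : GQ Q (c * v) c z 0 := by
  have hcc := c_sq h
  have hvz : v * z = z * v := z_v h
  have hcz : c * z = z * c := z_c h
  have hvc : v * c = c⁻¹ * v := by rw [← h.conj]; group
  have hci : c⁻¹ = c * z := by rw [inv_eq_iff_mul_eq_one, ← mul_assoc, hcc, h.z_mul]
  have hqq : c * v * (c * v) = z := by
    calc c * v * (c * v) = c * (v * c) * v := by group
      _ = v * v := by rw [hvc]; group
      _ = z := h.v_sq
  have hqz : c * v * z = z * (c * v) := by rw [mul_assoc, hvz, ← mul_assoc, hcz, mul_assoc]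
  have h3 : (c * v) ^ 3 = c * v * z := by rw [pow_succ', pow_two, hqq]
  refine ⟨Q.mul_mem h.c_mem h.v_mem, h.c_mem, by rw [GQ.orderOf_of_sq hqq h.z_mul h.z_ne]; norm_num,
    by rw [zero_add, pow_one, pow_two, hqq], hcc, ?_, ?_⟩
  · have h1 : c * v * (z * (c * v)) = 1 := by rw [← hqz, ← mul_assoc, hqq, h.z_mul]
    have h2 : c * (c * v) * c⁻¹ = c * c * (v * c⁻¹) := by group
    have h4 : v * c⁻¹ = c * v := by
      rw [mul_inv_eq_iff_eq_mul, mul_assoc, hvc]; group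
    rw [h2, h4, hcc]
    exact eq_inv_of_mul_eq_one_right h1
  · intro x hx
    rcases list8 h hx with (rfl | rfl | rfl | rfl) | (rfl | rfl | rfl | rfl)
    · left; exact ⟨0, (pow_zero _).symm⟩
    · left; exact ⟨2, by rw [pow_two, hqq]⟩
    · right; exact ⟨0, by rw [pow_zero, mul_one]⟩
    · right; exact ⟨2, by rw [pow_two, hqq]⟩
    · right; refine ⟨3, ?_⟩
      rw [h3, ← mul_assoc, ← mul_assoc, hcc, ← hvz, mul_assoc, h.z_mul, mul_one]
    · right; refine ⟨1, ?_⟩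
      rw [pow_one, ← mul_assoc, hcc, hvz]
    · left; exact ⟨1, (pow_one _).symm⟩
    · left; exact ⟨3, h3.symm⟩

theorem choose_inv [Finite G] (hT : IsPGroup 2 T) (hQT : Q ≤ T) (hn : T ≤ normalizer (Q : Set G))
    (hQ : GQ Q c v z n) : ∃ c' v', GQ Q c' v' z n ∧ ∀ x ∈ T, ∃ i : ℤ, x * c' * x⁻¹ = c' ^ i := by
  rcases Nat.eq_zero_or_pos n with rfl | hpos
  · -- the quotient by `⟨z⟩`
    have hzT : ∀ x ∈ T, x * z = z * x := fun x hx => z_comm hQ (hn hx)
    have hZmem : ∀ y : G, y ∈ zpowers z ↔ y = 1 ∨ y = z := by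
      intro y
      constructor
      · rintro ⟨k, rfl⟩
        exact z_zpow hQ.z_mul k
      · rintro (rfl | rfl)
        · exact one_mem _
        · exact mem_zpowers _
    have hZn : ((zpowers z).subgroupOf T).Normal := by
      constructor
      rintro ⟨y, hy⟩ hy' ⟨x, hx⟩
      rw [mem_subgroupOf] at hy' ⊢
      change y ∈ zpowers z at hy'
      change x * y * x⁻¹ ∈ zpowers z
      rw [hZmem] at hy' ⊢
      rcases hy' with rfl | rfl
      · left; group
      · right; rw [hzT x hx]; group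
    have hQn : (Q.subgroupOf T).Normal := by
      constructor
      rintro ⟨y, hy⟩ hy' ⟨x, hx⟩
      exact (mem_normalizer_iff.1 (hn hx) y).1 hy'
    let π := QuotientGroup.mk' ((zpowers z).subgroupOf T)
    have hN : ((Q.subgroupOf T).map π).Normal := hQn.map π (QuotientGroup.mk'_surjective _)
    have hnil : Group.IsNilpotent (↥T ⧸ (zpowers z).subgroupOf T) :=
      (hT.to_quotient ((zpowers z).subgroupOf T)).isNilpotent
    have hNne : (Q.subgroupOf T).map π ≠ ⊥ := by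
      intro h0
      have h1 : π ⟨c, hQT hQ.c_mem⟩ ∈ (Q.subgroupOf T).map π :=
        mem_map_of_mem π (by rw [mem_subgroupOf]; exact hQ.c_mem)
      rw [h0, mem_bot] at h1
      have h2 := (QuotientGroup.eq_one_iff _).1 h1
      rw [mem_subgroupOf] at h2
      change c ∈ zpowers z at h2
      rcases (hZmem c).1 h2 with h3 | h3
      · exact hQ.c_sq_ne (by rw [h3, one_mul])
      · exact hQ.c_sq_ne (by rw [h3, hQ.z_mul])
    obtain ⟨⟨y, hy⟩, hy1⟩ := Subgroup.ne_bot_iff_exists_ne_one.1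
      (Lib.NormalAbelian.normal_inf_center_ne_bot ((Q.subgroupOf T).map π) hNne)
    obtain ⟨⟨⟨q, hqT⟩, hqQ, rfl⟩, hyc⟩ := hy
    have hqQ' : q ∈ Q := hqQ
    have hq1 : ¬ (q = 1 ∨ q = z) := by
      intro h1
      apply hy1
      apply Subtype.ext
      change π ⟨q, hqT⟩ = 1
      refine (QuotientGroup.eq_one_iff _).2 ?_
      rw [mem_subgroupOf]
      exact (hZmem q).2 h1
    have hqx : ∀ x ∈ T, x * q * x⁻¹ = q ∨ x * q * x⁻¹ = q * z := by
      intro x hx
      have h1 := mem_center_iff.1 hyc (π ⟨x, hx⟩)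
      have h2 : π (⟨q, hqT⟩⁻¹ * (⟨x, hx⟩ * ⟨q, hqT⟩ * ⟨x, hx⟩⁻¹)) = 1 := by
        rw [map_mul, map_mul, map_mul, map_inv, map_inv, h1]
        group
      have h3 := (QuotientGroup.eq_one_iff _).1 h2
      rw [mem_subgroupOf] at h3
      change q⁻¹ * (x * q * x⁻¹) ∈ zpowers z at h3
      rcases (hZmem _).1 h3 with h4 | h4
      · left; exact (inv_mul_eq_one.1 h4).symm
      · right; exact inv_mul_eq_iff_eq_mul.1 h4
    have hinv : ∀ p : G, p * p = z → (∀ x ∈ T, x * p * x⁻¹ = p ∨ x * p * x⁻¹ = p * z) →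
        ∀ x ∈ T, ∃ i : ℤ, x * p * x⁻¹ = p ^ i := by
      intro p hp h x hx
      rcases h x hx with h1 | h1
      · exact ⟨1, by rw [h1, zpow_one]⟩
      · refine ⟨3, ?_⟩
        rw [h1, show (3 : ℤ) = 1 + 2 by norm_num, zpow_add, zpow_one]
        congr 1
        rw [zpow_ofNat, pow_two, hp]
    have hpz : ∀ p : G, (∀ x ∈ T, x * (p * z) * x⁻¹ = p * z ∨ x * (p * z) * x⁻¹ = p * z * z) →
        ∀ x ∈ T, x * p * x⁻¹ = p ∨ x * p * x⁻¹ = p * z := by
      intro p h x hx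
      have h1 : x * p * x⁻¹ = x * (p * z) * x⁻¹ * z := by
        have h2 : x⁻¹ * z = z * x⁻¹ := hzT _ (T.inv_mem hx)
        calc x * p * x⁻¹ = x * p * (z * z) * x⁻¹ := by rw [hQ.z_mul, mul_one]
          _ = x * (p * z) * (z * x⁻¹) := by group
          _ = x * (p * z) * x⁻¹ * z := by rw [← h2]; simp only [mul_assoc]
      rcases h x hx with h3 | h3
      · left; rw [h1, h3, mul_assoc, hQ.z_mul, mul_one]
      · right; rw [h1, h3, mul_assoc, hQ.z_mul, mul_one]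
    have hvv := hQ.v_sq
    have hqq : c * v * (c * v) = z := by
      have := (gq_cv hQ).z_eq
      rwa [zero_add, pow_one, pow_two] at this
    rcases list8 hQ hqQ' with (rfl | rfl | rfl | rfl) | (rfl | rfl | rfl | rfl)
    · exact absurd (Or.inl rfl) hq1
    · exact absurd (Or.inr rfl) hq1
    · exact ⟨q, v, hQ, hinv q (c_sq hQ) hqx⟩
    · exact ⟨c, v, hQ, hinv c (c_sq hQ) (hpz c hqx)⟩
    · exact ⟨q, c, gq_v hQ, hinv q hvv hqx⟩
    · exact ⟨v, c, gq_v hQ, hinv v hvv (hpz v hqx)⟩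
    · exact ⟨c * v, c, gq_cv hQ, hinv _ hqq hqx⟩
    · exact ⟨c * v, c, gq_cv hQ, hinv _ hqq (hpz _ hqx)⟩
  · refine ⟨c, v, hQ, ?_⟩
    intro x hx
    have h1 : x * c * x⁻¹ ∈ Q := (mem_normalizer_iff.1 (hn hx) c).1 hQ.c_mem
    rcases cov' hQ h1 with h2 | ⟨i, h2⟩
    · exact h2
    · exfalso
      have h3 : orderOf (x * c * x⁻¹) = orderOf c := by
        have := MulEquiv.orderOf_eq (MulAut.conj x) c
        rwa [MulAut.conj_apply] at this
      have h4 : c ^ i * v * (c ^ i * v) = z := by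
        have : c ^ i * v * (c ^ i * v) = c ^ i * (v * c ^ i * v⁻¹) * (v * v) := by group
        rw [this, conj_zpow hQ, ← zpow_add, add_neg_cancel, zpow_zero, one_mul, hQ.v_sq]
      rw [h2, GQ.orderOf_of_sq h4 hQ.z_mul hQ.z_ne, hQ.ord] at h3
      have h5 : 2 ^ 3 ≤ 2 ^ (n + 2) := Nat.pow_le_pow_right (by norm_num) (by omega)
      omega

/-! ### the element `b` -/

/-- `c ∉ {c z}`, and `c⁻¹ = c z` only for `n = 0` -/
theorem c_ne_cz (hQ : GQ Q c v z n) : c * z ≠ c := by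
  intro h
  exact hQ.z_ne (mul_eq_left.1 h)

theorem inv_ne_cz (hQ : GQ Q c v z n) (hn : n ≠ 0) : c * z ≠ c⁻¹ := by
  intro h
  have h1 : c * c = z := by
    have h2 : c * (c * z) = 1 := by rw [h, mul_inv_cancel]
    have h3 : c * c * z = 1 := by rw [mul_assoc, h2]
    rw [mul_eq_one_iff_eq_inv.1 h3, hQ.z_inv]
  have h4 := orderOf_dvd_of_pow_eq_one (show c ^ 4 = 1 by
    rw [show 4 = 2 * 2 by norm_num, pow_mul, pow_two c, h1, pow_two, hQ.z_mul])
  rw [hQ.ord] at h4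
  have h5 := Nat.le_of_dvd (by norm_num) h4
  have h6 : 2 ^ 3 ≤ 2 ^ (n + 2) := Nat.pow_le_pow_right (by norm_num) (by omega)
  omega

/-- reduction to an element with `b c b⁻¹ = c z` -/
theorem reduce_b [Finite G] (hT : IsPGroup 2 T) (hQT : Q ≤ T) (hn : T ≤ normalizer (Q : Set G))
    (hQ : GQ Q c v z n) (hci : ∀ x ∈ T, ∃ i : ℤ, x * c * x⁻¹ = c ^ i)
    (hx : ∃ x ∈ T, ¬ (x * c * x⁻¹ = c ∨ x * c * x⁻¹ = c⁻¹)) :
    n ≠ 0 ∧ ∃ b ∈ T, b * c * b⁻¹ = c * z := by
  obtain ⟨x, hxT, hx⟩ := hx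
  obtain ⟨k, hk1, hk2⟩ := exists_last hT hxT (fun y => y * c * y⁻¹ = c ∨ y * c * y⁻¹ = c⁻¹)
    (Or.inl (by group)) hx
  have hbT : x ^ k ∈ T := T.pow_mem hxT k
  generalize x ^ k = b at hk1 hk2 hbT
  obtain ⟨l, hl⟩ := hci b hbT
  have h1 : b * b * c * (b * b)⁻¹ = c ^ (l * l) := by
    have : b * b * c * (b * b)⁻¹ = b * (b * c * b⁻¹) * b⁻¹ := by group
    rw [this, hl, ← _root_.conj_zpow, hl, zpow_mul]
  have h2 : c ^ (l * l) = c := by
    rw [← h1]
    rcases hk2 with h3 | h3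
    · exact h3
    · exact (no_neg hQ.ord (h1.symm.trans h3)).elim
  have hbz : b * z = z * b := z_comm hQ (hn hbT)
  rcases pow_four hQ.ord hQ.z_eq h2 with h3 | h3 | h3 | h3
  · exact absurd (Or.inl (hl.trans h3)) hk1
  · refine ⟨?_, b, hbT, hl.trans h3⟩
    rintro rfl
    apply hk1
    right
    rw [hl, h3]
    apply eq_inv_of_mul_eq_one_left
    rw [mul_assoc, ← z_c hQ, ← mul_assoc, c_sq hQ, hQ.z_mul]
  · exact absurd (Or.inr (hl.trans h3)) hk1
  · refine ⟨?_, b * v, T.mul_mem hbT (hQT hQ.v_mem), ?_⟩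
    · rintro rfl
      apply hk1
      left
      rw [hl, h3, inv_mul_eq_iff_eq_mul, c_sq hQ]
    · have : b * v * c * (b * v)⁻¹ = b * (v * c * v⁻¹) * b⁻¹ := by group
      rw [this, hQ.conj, ← conj_inv, hl, h3, mul_inv_rev, inv_inv, hQ.z_inv, z_c hQ]

/-- no such element if `C_T(c) = ⟨c⟩` -/
theorem caseOne [Finite G] (hQT : Q ≤ T) (hn : T ≤ normalizer (Q : Set G))
    (hQ : GQ Q c v z n) (hr : SectionalPRankLE 2 2 T) (hn0 : n ≠ 0)
    (hC : ∀ x ∈ T, x * c = c * x → x ∈ zpowers c) {b : G} (hb : b ∈ T)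
    (hbc : b * c * b⁻¹ = c * z) : False := by
  obtain ⟨m, rfl⟩ := Nat.exists_eq_succ_of_ne_zero hn0
  have hbz : b * z = z * b := z_comm hQ (hn hb)
  have hcz := z_c hQ
  have hcz' : Commute c z := hcz
  have hbci : ∀ i : ℤ, b * c ^ i * b⁻¹ = c ^ i * z ^ i := by
    intro i
    rw [← _root_.conj_zpow, hbc, hcz'.mul_zpow]
  -- `b² = c^(2k)`
  have hbb : b * b * c = c * (b * b) := by
    have h1 : b * b * c * (b * b)⁻¹ = c := by
      have : b * b * c * (b * b)⁻¹ = b * (b * c * b⁻¹) * b⁻¹ := by group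
      rw [this, hbc]
      have : b * (c * z) * b⁻¹ = b * c * b⁻¹ * (b * z * b⁻¹) := by group
      rw [this, hbc, hbz, mul_inv_cancel_right, mul_assoc, hQ.z_mul, mul_one]
    exact mul_inv_eq_iff_eq_mul.1 h1
  obtain ⟨i, hi⟩ := hC _ (T.mul_mem hb hb) hbb
  change c ^ i = b * b at hi
  have hi2 : z ^ i = 1 := by
    have h1 := hbci i
    rw [hi] at h1
    have h2 : b * (b * b) * b⁻¹ = b * b := by group
    rw [h2] at h1
    exact (mul_eq_left.1 h1.symm)
  obtain ⟨k, hk⟩ : Even i := by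
    by_contra h1
    rw [Int.not_even_iff_odd] at h1
    rw [z_zpow_odd hQ.z_mul h1] at hi2
    exact hQ.z_ne hi2
  have hzc : c ^ (2 ^ (m + 2) : ℤ) = z := by
    rw [← hQ.z_eq, ← zpow_natCast]; push_cast; rfl
  -- an involution
  obtain ⟨e, heT, hec, hee⟩ : ∃ e ∈ T, e * c * e⁻¹ = c * z ∧ e * e = 1 := by
    have hgen : ∀ j : ℤ, b * c ^ j * (b * c ^ j) = c ^ (j + i + j) * z ^ j := by
      intro j
      have : b * c ^ j * (b * c ^ j) = b * c ^ j * b⁻¹ * (b * b) * c ^ j := by group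
      rw [this, hbci, ← hi, zpow_add, zpow_add]
      have h5 : Commute (z ^ j) (c ^ i * c ^ j) :=
        ((hcz'.symm.zpow_left j).zpow_right i).mul_right ((hcz'.symm.zpow_left j).zpow_right j)
      calc c ^ j * z ^ j * c ^ i * c ^ j = c ^ j * (z ^ j * (c ^ i * c ^ j)) := by group
        _ = c ^ j * c ^ i * c ^ j * z ^ j := by rw [h5.eq]; group
    have hact : ∀ j : ℤ, b * c ^ j * c * (b * c ^ j)⁻¹ = c * z := by
      intro j
      have : b * c ^ j * c * (b * c ^ j)⁻¹ = b * c * b⁻¹ := by group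
      rw [this, hbc]
    have hmem : ∀ j : ℤ, b * c ^ j ∈ T := fun j => T.mul_mem hb (T.zpow_mem (hQT hQ.c_mem) j)
    rcases Int.even_or_odd k with hke | hko
    · refine ⟨b * c ^ (-k), hmem _, hact _, ?_⟩
      rw [hgen, z_zpow_even hQ.z_mul hke.neg, hk, mul_one]
      have : -k + (k + k) + -k = 0 := by ring
      rw [this, zpow_zero]
    · refine ⟨b * c ^ (-k + 2 ^ (m + 1)), hmem _, hact _, ?_⟩
      rw [hgen, z_zpow_odd hQ.z_mul, hk]
      · have : -k + 2 ^ (m + 1) + (k + k) + (-k + 2 ^ (m + 1)) = (2 : ℤ) ^ (m + 2) := by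
          rw [pow_succ (2 : ℤ) (m + 1)]; ring
        rw [this, hzc, hQ.z_mul]
      · refine hko.neg.add_even ?_
        rw [pow_succ]; exact even_two.mul_left _
  have heinv : e⁻¹ = e := inv_eq_of_mul_eq_one_left hee
  have hecz : ∀ i : ℤ, e * c ^ i * e⁻¹ = c ^ i * z ^ i := by
    intro i
    rw [← _root_.conj_zpow, hec, hcz'.mul_zpow]
  have hne : e ∉ Q := by
    intro h1
    rcases cov' hQ h1 with ⟨i, rfl⟩ | ⟨i, rfl⟩
    · apply c_ne_cz hQ
      rw [← hec]; group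
    · apply inv_ne_cz hQ hn0
      rw [← hec]
      have : c ^ i * v * c * (c ^ i * v)⁻¹ = c ^ i * (v * c * v⁻¹) * (c ^ i)⁻¹ := by group
      rw [this, hQ.conj]; group
  -- the action on `v`
  have hev : e * v * e⁻¹ ∈ Q := (mem_normalizer_iff.1 (hn heT) v).1 hQ.v_mem
  obtain ⟨j, hj⟩ : ∃ j : ℤ, e * v * e⁻¹ = c ^ j * v := by
    rcases cov' hQ hev with ⟨j, hj⟩ | ⟨j, hj⟩
    · exfalso
      have h1 : v = e⁻¹ * c ^ j * e := by rw [← hj]; group
      have h2 := hecz j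
      rw [heinv] at h1 h2
      rw [h2] at h1
      rcases z_zpow hQ.z_mul j with h3 | h3 <;> rw [h3] at h1
      · rw [mul_one] at h1; exact v_not_zpow hQ _ h1
      · rw [← hzc, ← zpow_add] at h1; exact v_not_zpow hQ _ h1
    · exact ⟨j, hj⟩
  have hj2 : c ^ (j + j) * z ^ j = 1 := by
    have h1 : v = e * (e * v * e⁻¹) * e⁻¹ := by
      rw [heinv]
      calc v = (e * e) * v * (e * e) := by rw [hee]; group
        _ = _ := by group
    rw [hj] at h1
    have h2 : e * (c ^ j * v) * e⁻¹ = (e * c ^ j * e⁻¹) * (e * v * e⁻¹) := by group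
    rw [h2, hecz, hj] at h1
    have h3 : c ^ j * z ^ j * (c ^ j * v) = c ^ (j + j) * z ^ j * v := by
      have h5 : Commute (z ^ j) (c ^ j) := (hcz'.symm.zpow_left j).zpow_right j
      calc c ^ j * z ^ j * (c ^ j * v) = c ^ j * (z ^ j * c ^ j) * v := by group
        _ = _ := by rw [h5.eq, zpow_add]; group
    rw [h3] at h1
    exact (mul_eq_right.1 h1.symm)
  have hjz : c ^ j = 1 ∨ c ^ j = z := by
    by_cases h0 : c ^ j = 1
    · exact Or.inl h0
    · refine Or.inr (hQ.eq_z (c_zpow_mem hQ j) ?_ h0)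
      rcases Int.even_or_odd j with hje | hjo
      · rwa [z_zpow_even hQ.z_mul hje, mul_one, zpow_add] at hj2
      · exfalso
        rw [z_zpow_odd hQ.z_mul hjo] at hj2
        have h1 : c ^ (j + j) = z := by
          rw [mul_eq_one_iff_eq_inv.1 hj2, hQ.z_inv]
        have h2 : c ^ (4 * j) = 1 := by
          have : 4 * j = (j + j) + (j + j) := by ring
          rw [this, zpow_add, h1, hQ.z_mul]
        have h3 := orderOf_dvd_iff_zpow_eq_one.2 h2
        rw [hQ.ord] at h3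
        have h4 : (8 : ℤ) ∣ 4 * j := by
          refine dvd_trans ?_ h3
          push_cast
          exact ⟨2 ^ m, by rw [show m.succ + 2 = m + 3 from rfl, pow_add]; ring⟩
        obtain ⟨r, hr⟩ := hjo
        obtain ⟨s, hs⟩ := h4
        omega
  -- the commuting complement
  obtain ⟨w, hwQ, hew, hwc, hww, hwn⟩ : ∃ w ∈ Q, e * w = w * e ∧ w * c * w⁻¹ = c⁻¹ ∧ w * w = z ∧
      ∀ i : ℤ, w ≠ c ^ i := by
    rcases hjz with h0 | h0 <;> rw [h0] at hj
    · refine ⟨v, hQ.v_mem, ?_, hQ.conj, hQ.v_sq, v_not_zpow hQ⟩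
      rw [one_mul] at hj
      exact mul_inv_eq_iff_eq_mul.1 hj
    · refine ⟨c * v, Q.mul_mem hQ.c_mem hQ.v_mem, ?_, ?_, ?_, ?_⟩
      · have h1 : e * (c * v) * e⁻¹ = c * v := by
          have : e * (c * v) * e⁻¹ = e * c * e⁻¹ * (e * v * e⁻¹) := by group
          rw [this, hec, hj, mul_assoc, ← mul_assoc z, hQ.z_mul, one_mul]
        exact mul_inv_eq_iff_eq_mul.1 h1
      · have : c * v * c * (c * v)⁻¹ = c * (v * c * v⁻¹) * c⁻¹ := by group
        rw [this, hQ.conj]; group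
      · have : c * v * (c * v) = c * (v * c * v⁻¹) * (v * v) := by group
        rw [this, hQ.conj, hQ.v_sq, mul_inv_cancel, one_mul]
      · intro i h1
        apply v_not_zpow hQ (-1 + i)
        rw [zpow_add, ← h1, zpow_neg_one, inv_mul_cancel_left]
  -- the section
  have hcc2 : e * (c * c) = c * c * e := by
    have h1 : e * (c * c) * e⁻¹ = c * c := by
      have : e * (c * c) * e⁻¹ = e * c * e⁻¹ * (e * c * e⁻¹) := by group
      rw [this, hec]
      calc c * z * (c * z) = c * (z * c) * z := by group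
        _ = c * c * (z * z) := by rw [← hcz]; group
        _ = c * c := by rw [hQ.z_mul, mul_one]
    exact mul_inv_eq_iff_eq_mul.1 h1
  have hzz : z ∈ zpowers (c * c * (c * c)) := by
    refine ⟨2 ^ m, ?_⟩
    change (c * c * (c * c)) ^ (2 ^ m : ℤ) = z
    have h1 : c * c * (c * c) = c ^ (4 : ℤ) := by
      rw [show (4 : ℤ) = 1 + 1 + (1 + 1) by norm_num, zpow_add, zpow_add, zpow_one]
    rw [h1, ← zpow_mul, ← hzc]
    congr 1
    rw [pow_add]; ring
  have hzp : zpowers (c * c) ≤ zpowers c := by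
    rw [zpowers_le]; exact mul_mem (mem_zpowers c) (mem_zpowers c)
  refine no_rank_three (m := m + 1) hr (hQT (Q.mul_mem hQ.c_mem hQ.c_mem)) (hQT hwQ) heT
    (orderOf_sq hQ.ord) ?_ ?_ ?_ ?_ hcc2 hew ?_ ?_
  · have : w * (c * c) * w⁻¹ = w * c * w⁻¹ * (w * c * w⁻¹) := by group
    rw [this, hwc]; group
  · rw [hww]; exact hzz
  · intro h1
    obtain ⟨i, hi⟩ := hzp h1
    exact hwn i hi.symm
  · rw [hee]; exact one_mem _
  · intro h1
    exact hne ((zpowers_le.2 hQ.c_mem) (hzp h1))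
  · intro i h1
    apply hne
    rw [h1]
    exact Q.mul_mem (Q.zpow_mem (Q.mul_mem hQ.c_mem hQ.c_mem) i) hwQ

/-- coordinates with `c z` in place of `c` -/
theorem gq_cz (h : GQ Q c v z n) : GQ Q (c * z) v z n := by
  have hcz' : Commute c z := z_c h
  have hz2 : z ^ 2 ^ (n + 1) = 1 := by
    rw [pow_succ', pow_mul, pow_two, h.z_mul, one_pow]
  have h1 : (c * z) ^ 2 ^ (n + 1) = z := by
    rw [hcz'.mul_pow, h.z_eq, hz2, mul_one]
  have h2 : (c * z) ^ (2 ^ (n + 1) + 1) = c := by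
    rw [pow_succ', h1, mul_assoc, h.z_mul, mul_one]
  refine ⟨Q.mul_mem h.c_mem h.z_mem, h.v_mem, ?_, h1, h.v_sq, ?_, ?_⟩
  · refine orderOf_eq_prime_pow (p := 2) (n := n + 1) ?_ ?_
    · rw [h1]; exact h.z_ne
    · rw [pow_succ 2 (n + 1), pow_mul, h1, pow_two, h.z_mul]
  · have : v * (c * z) * v⁻¹ = v * c * v⁻¹ * (v * z * v⁻¹) := by group
    rw [this, h.conj, z_v h, mul_inv_cancel_right, mul_inv_rev, h.z_inv]
    exact (hcz'.inv_left).eq
  · intro x hx
    rcases h.cov x hx with ⟨i, rfl⟩ | ⟨i, rfl⟩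
    · left; exact ⟨(2 ^ (n + 1) + 1) * i, by rw [pow_mul, h2]⟩
    · right; exact ⟨(2 ^ (n + 1) + 1) * i, by rw [pow_mul, h2]⟩

/-- the data of the element `a` -/
structure AData (T Q : Subgroup G) (c v z a : G) (n : ℕ) : Prop where
  memT : a ∈ T
  comm : a * c = c * a
  conj : a * v * a⁻¹ = c * v
  sq : a * a = c ∨ a * a = c * z
  gq : GQ Q (a * a) v z n
  ord : orderOf a = 2 ^ (n + 3)
  vconj : v * a * v⁻¹ = a⁻¹ ∨ v * a * v⁻¹ = a⁻¹ * z

theorem AData.of [Finite G] (hQ : GQ Q c v z n)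
    (hcen : ∀ d ∈ T, (∀ q ∈ Q, d * q = q * d) → d = 1 ∨ d = z) (hQT : Q ≤ T) {a : G} (ha : a ∈ T)
    (hac : a * c = c * a) (hav : a * v * a⁻¹ = c * v) : AData T Q c v z a n := by
  have hcT := hQT hQ.c_mem
  have haz : a * z = z * a := by
    rw [← hQ.z_eq]; exact ((show Commute a c from hac).pow_right _).eq
  have h1 : (c⁻¹ * (a * a)) * c = c * (c⁻¹ * (a * a)) := by
    have h2 : Commute (a * a) c := (show Commute a c from hac).mul_left hac
    calc (c⁻¹ * (a * a)) * c = c⁻¹ * (a * a * c) := by group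
      _ = c⁻¹ * (c * (a * a)) := by rw [h2.eq]
      _ = _ := by group
  have h2 : (c⁻¹ * (a * a)) * v = v * (c⁻¹ * (a * a)) := by
    have h3 : a * a * v * (a * a)⁻¹ = c * c * v := by
      have : a * a * v * (a * a)⁻¹ = a * (a * v * a⁻¹) * a⁻¹ := by group
      rw [this, hav]
      have : a * (c * v) * a⁻¹ = a * c * a⁻¹ * (a * v * a⁻¹) := by group
      rw [this, hav, hac]; group
    have h4 : a * a * v = c * c * v * (a * a) := mul_inv_eq_iff_eq_mul.1 h3
    have h5 : c * v = v * c⁻¹ := by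
      have := v_zpow hQ (-1)
      rw [neg_neg, zpow_neg_one, zpow_one] at this
      exact this.symm
    calc (c⁻¹ * (a * a)) * v = c⁻¹ * (a * a * v) := by group
      _ = c * v * (a * a) := by rw [h4]; group
      _ = v * (c⁻¹ * (a * a)) := by rw [h5]; group
  have h3 : a * a = c ∨ a * a = c * z := by
    rcases hcen _ (T.mul_mem (T.inv_mem hcT) (T.mul_mem ha ha)) (comm_of hQ h1 h2) with h4 | h4
    · left; exact (inv_mul_eq_one.1 h4).symm
    · right; exact inv_mul_eq_iff_eq_mul.1 h4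
  have hgq : GQ Q (a * a) v z n := by
    rcases h3 with h4 | h4 <;> rw [h4]
    · exact hQ
    · exact gq_cz hQ
  have hp : a ^ 2 ^ (n + 2) = z := by
    rw [pow_succ', pow_mul, pow_two, hgq.z_eq]
  refine ⟨ha, hac, hav, h3, hgq, ?_, ?_⟩
  · refine orderOf_eq_prime_pow (p := 2) (n := n + 2) ?_ ?_
    · rw [hp]; exact hQ.z_ne
    · rw [pow_succ 2 (n + 2), pow_mul, hp, pow_two, hQ.z_mul]
  · have h4 : v * a * v⁻¹ = c⁻¹ * a := by
      have : v * a * v⁻¹ = v * (a * v * a⁻¹)⁻¹ * a := by group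
      rw [this, hav]; group
    rw [h4]
    rcases h3 with h5 | h5
    · left; rw [← h5]; group
    · right
      have h6 : c = a * a * z := by rw [h5, mul_assoc, hQ.z_mul, mul_one]
      rw [h6, mul_inv_rev, hQ.z_inv, mul_inv_rev]
      have h7 : Commute z a⁻¹ := (show Commute a z from haz).symm.inv_right
      calc z * (a⁻¹ * a⁻¹) * a = z * a⁻¹ := by group
        _ = a⁻¹ * z := h7.eq

/-- in case two the centraliser of `c` is `⟨a⟩` -/
theorem AData.cent {a : G} (h : AData T Q c v z a n) (hQ : GQ Q c v z n) (hQT : Q ≤ T)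
    (hn : T ≤ normalizer (Q : Set G))
    (hcen : ∀ d ∈ T, (∀ q ∈ Q, d * q = q * d) → d = 1 ∨ d = z) :
    ∀ x ∈ T, x * c = c * x → x ∈ zpowers a := by
  intro x hx hxc
  have hca : c ∈ zpowers a := by
    rcases h.sq with h1 | h1
    · exact ⟨2, by change a ^ (2 : ℤ) = c; rw [← h1, zpow_ofNat, pow_two]⟩
    · have hza : z ∈ zpowers a := by
        refine ⟨2 ^ (n + 2), ?_⟩
        change a ^ (2 ^ (n + 2) : ℤ) = z
        have h2 : a ^ (2 ^ (n + 2) : ℤ) = a ^ (2 ^ (n + 2) : ℕ) := by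
          rw [← zpow_natCast]; push_cast; rfl
        rw [h2, pow_succ', pow_mul, pow_two, h.gq.z_eq]
      have h3 : c = a * a * z := by rw [h1, mul_assoc, hQ.z_mul, mul_one]
      rw [h3]
      exact mul_mem (mul_mem (mem_zpowers a) (mem_zpowers a)) hza
  have hza : z ∈ zpowers a := by
    rw [← hQ.z_eq]; exact pow_mem hca _
  obtain ⟨j, hj⟩ := exists_j hQ (hn hx) hxc
  have hxc' : Commute x c := hxc
  -- the even case
  have key : ∀ y ∈ T, y * c = c * y → ∀ k : ℤ, y * v * y⁻¹ = c ^ (k + k) * v → y ∈ zpowers a := by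
    intro y hy hyc k hk
    have hyc' : Commute y c := hyc
    have h1 : c ^ (-k) * y = 1 ∨ c ^ (-k) * y = z := by
      refine hcen _ (T.mul_mem (T.zpow_mem (hQT hQ.c_mem) _) hy) (comm_of hQ ?_ ?_)
      · exact ((((Commute.refl c).zpow_left (-k))).mul_left hyc').eq
      · have h2 : y * v = c ^ (k + k) * v * y := mul_inv_eq_iff_eq_mul.1 hk
        have h3 : c ^ (-k) * c ^ (k + k) = c ^ k := by rw [← zpow_add]; congr 1; ring
        calc c ^ (-k) * y * v = c ^ (-k) * (y * v) := by group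
          _ = c ^ (-k) * c ^ (k + k) * v * y := by rw [h2]; group
          _ = c ^ (- -k) * v * y := by rw [h3, neg_neg]
          _ = v * c ^ (-k) * y := by rw [v_zpow hQ]
          _ = v * (c ^ (-k) * y) := by group
    have h2 : y = c ^ k * (c ^ (-k) * y) := by rw [← mul_assoc, ← zpow_add]; simp
    rw [h2]
    rcases h1 with h3 | h3 <;> rw [h3]
    · exact mul_mem (zpow_mem hca k) (one_mem _)
    · exact mul_mem (zpow_mem hca k) hza
  rcases Int.even_or_odd j with ⟨k, rfl⟩ | ⟨k, rfl⟩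
  · exact key x hx hxc k hj
  · have h1 : a⁻¹ * x ∈ zpowers a := by
      have hac' : Commute a c := h.comm
      refine key _ (T.mul_mem (T.inv_mem h.memT) hx) (hac'.inv_left.mul_left hxc').eq k ?_
      have h2 : a⁻¹ * x * v * (a⁻¹ * x)⁻¹ = a⁻¹ * (x * v * x⁻¹) * a := by group
      have h3 : a⁻¹ * v * a = c⁻¹ * v := by
        have h4 : v = a⁻¹ * (c * v) * a := by rw [← h.conj]; group
        have h5 : a⁻¹ * (c * v) * a = c * (a⁻¹ * v * a) := by
          have : a⁻¹ * c = c * a⁻¹ := hac'.inv_left.eq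
          calc a⁻¹ * (c * v) * a = a⁻¹ * c * v * a := by group
            _ = _ := by rw [this]; group
        rw [h5] at h4
        rw [eq_inv_mul_iff_mul_eq]; exact h4.symm
      rw [h2, hj]
      have h6 : a⁻¹ * (c ^ (2 * k + 1) * v) * a = c ^ (2 * k + 1) * (a⁻¹ * v * a) := by
        have : a⁻¹ * c ^ (2 * k + 1) = c ^ (2 * k + 1) * a⁻¹ := (hac'.inv_left.zpow_right _).eq
        calc a⁻¹ * (c ^ (2 * k + 1) * v) * a = a⁻¹ * c ^ (2 * k + 1) * v * a := by group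
          _ = _ := by rw [this]; group
      rw [h6, h3, ← mul_assoc, ← zpow_sub_one]
      congr 2; ring
    have h2 : x = a * (a⁻¹ * x) := by group
    rw [h2]
    exact mul_mem (mem_zpowers a) h1

theorem even_mem (hQ : GQ Q c v z n) (hQT : Q ≤ T)
    (hcen : ∀ d ∈ T, (∀ q ∈ Q, d * q = q * d) → d = 1 ∨ d = z) {y : G} (hy : y ∈ T)
    (hyc : y * c = c * y) {k : ℤ} (hk : y * v * y⁻¹ = c ^ (k + k) * v) : y ∈ zpowers c := by
  have hyc' : Commute y c := hyc
  have h1 : c ^ (-k) * y = 1 ∨ c ^ (-k) * y = z := by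
    refine hcen _ (T.mul_mem (T.zpow_mem (hQT hQ.c_mem) _) hy) (comm_of hQ ?_ ?_)
    · exact ((((Commute.refl c).zpow_left (-k))).mul_left hyc').eq
    · have h2 : y * v = c ^ (k + k) * v * y := mul_inv_eq_iff_eq_mul.1 hk
      have h3 : c ^ (-k) * c ^ (k + k) = c ^ k := by rw [← zpow_add]; congr 1; ring
      calc c ^ (-k) * y * v = c ^ (-k) * (y * v) := by group
        _ = c ^ (-k) * c ^ (k + k) * v * y := by rw [h2]; group
        _ = c ^ (- -k) * v * y := by rw [h3, neg_neg]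
        _ = v * c ^ (-k) * y := by rw [v_zpow hQ]
        _ = v * (c ^ (-k) * y) := by group
  have h2 : y = c ^ k * (c ^ (-k) * y) := by rw [← mul_assoc, ← zpow_add]; simp
  rw [h2]
  rcases h1 with h3 | h3 <;> rw [h3]
  · exact mul_mem (zpow_mem (mem_zpowers c) k) (one_mem _)
  · refine mul_mem (zpow_mem (mem_zpowers c) k) ?_
    rw [← hQ.z_eq]; exact pow_mem (mem_zpowers c) _

theorem caseOne_cent (hQ : GQ Q c v z n) (hQT : Q ≤ T) (hn : T ≤ normalizer (Q : Set G))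
    (hcen : ∀ d ∈ T, (∀ q ∈ Q, d * q = q * d) → d = 1 ∨ d = z)
    (hno : ¬ ∃ a ∈ T, a * c = c * a ∧ a * v * a⁻¹ = c * v) :
    ∀ x ∈ T, x * c = c * x → x ∈ zpowers c := by
  intro x hx hxc
  obtain ⟨j, hj⟩ := exists_j hQ (hn hx) hxc
  have hxc' : Commute x c := hxc
  rcases Int.even_or_odd j with ⟨k, rfl⟩ | ⟨k, rfl⟩
  · exact even_mem hQ hQT hcen hx hxc hj
  · exfalso
    apply hno
    refine ⟨c ^ (-k) * x, T.mul_mem (T.zpow_mem (hQT hQ.c_mem) _) hx,
      (((Commute.refl c).zpow_left (-k)).mul_left hxc').eq, ?_⟩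
    have h1 : c ^ (-k) * x * v * (c ^ (-k) * x)⁻¹ = c ^ (-k) * (x * v * x⁻¹) * (c ^ (-k))⁻¹ := by
      group
    rw [h1, hj, ← zpow_neg, neg_neg, mul_assoc, mul_assoc, v_zpow hQ, ← mul_assoc, ← mul_assoc,
      ← zpow_add, ← zpow_add]
    congr 1
    have : -k + (2 * k + 1) + -k = 1 := by ring
    rw [this, zpow_one]

/-- no `b` in case two -/
theorem caseTwo {a : G} (h : AData T Q c v z a n) (hQ : GQ Q c v z n) (hQT : Q ≤ T)
    (hn : T ≤ normalizer (Q : Set G))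
    (hcen : ∀ d ∈ T, (∀ q ∈ Q, d * q = q * d) → d = 1 ∨ d = z) (hn0 : n ≠ 0) {b : G} (hb : b ∈ T)
    (hbc : b * c * b⁻¹ = c * z) : False := by
  have hbz : b * z = z * b := z_comm hQ (hn hb)
  have haz : a * z = z * a := z_comm hQ (hn h.memT)
  have hbc' : b⁻¹ * c * b = c * z := by
    have h1 : c = b⁻¹ * (b * c * b⁻¹) * b := by group
    rw [hbc] at h1
    have h2 : b⁻¹ * (c * z) * b = b⁻¹ * c * b * z := by
      have : z * b = b * z := hbz.symm
      calc b⁻¹ * (c * z) * b = b⁻¹ * c * (z * b) := by group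
        _ = b⁻¹ * c * b * z := by rw [this]; group
    rw [h2] at h1
    have h3 : c * z = b⁻¹ * c * b * z * z := by rw [← h1]
    rw [h3, mul_assoc (b⁻¹ * c * b), hQ.z_mul, mul_one]
  have h1 : b * a * b⁻¹ * c = c * (b * a * b⁻¹) := by
    have h2 : a * (c * z) = c * z * a := by
      rw [← mul_assoc, h.comm, mul_assoc, haz, mul_assoc]
    have h3 : b * c * z * b⁻¹ = c := by
      have : b * c * z * b⁻¹ = b * c * b⁻¹ * (b * z * b⁻¹) := by group
      rw [this, hbc, hbz, mul_inv_cancel_right, mul_assoc, hQ.z_mul, mul_one]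
    calc b * a * b⁻¹ * c = b * (a * (b⁻¹ * c * b)) * b⁻¹ := by group
      _ = b * (c * z * a) * b⁻¹ := by rw [hbc', h2]
      _ = b * c * z * b⁻¹ * (b * a * b⁻¹) := by group
      _ = c * (b * a * b⁻¹) := by rw [h3]
  obtain ⟨l, hl⟩ := h.cent hQ hQT hn hcen _ (T.mul_mem (T.mul_mem hb h.memT) (T.inv_mem hb)) h1
  change a ^ l = b * a * b⁻¹ at hl
  have hbb : b * b * c = c * (b * b) := by
    have h1 : b * b * c * (b * b)⁻¹ = c := by
      have : b * b * c * (b * b)⁻¹ = b * (b * c * b⁻¹) * b⁻¹ := by group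
      rw [this, hbc]
      have : b * (c * z) * b⁻¹ = b * c * b⁻¹ * (b * z * b⁻¹) := by group
      rw [this, hbc, hbz, mul_inv_cancel_right, mul_assoc, hQ.z_mul, mul_one]
    exact mul_inv_eq_iff_eq_mul.1 h1
  obtain ⟨r, hr⟩ := h.cent hQ hQT hn hcen _ (T.mul_mem hb hb) hbb
  change a ^ r = b * b at hr
  have h2 : a ^ (l * l) = a := by
    have h3 : b * b * a * (b * b)⁻¹ = a ^ (l * l) := by
      have : b * b * a * (b * b)⁻¹ = b * (b * a * b⁻¹) * b⁻¹ := by group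
      rw [this, ← hl, ← _root_.conj_zpow, ← hl, zpow_mul]
    rw [← h3, ← hr]
    have : Commute (a ^ r) a := (Commute.refl a).zpow_left r
    rw [this.eq]; group
  have hap : a ^ 2 ^ (n + 1 + 1) = z := by
    rw [pow_succ', pow_mul, pow_two, h.gq.z_eq]
  have hbaa : b * (a * a) * b⁻¹ = a * a * z := by
    rcases h.sq with h4 | h4 <;> rw [h4]
    · exact hbc
    · have : b * (c * z) * b⁻¹ = b * c * b⁻¹ * (b * z * b⁻¹) := by group
      rw [this, hbc, hbz, mul_inv_cancel_right]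
  have h5 : b * (a * a) * b⁻¹ = a ^ l * a ^ l := by rw [hl]; group
  rw [h5] at hbaa
  have hazi : a⁻¹ * z = z * a⁻¹ := (show Commute a z from haz).inv_left.eq
  rcases pow_four (m := n + 1) h.ord hap h2 with h6 | h6 | h6 | h6 <;> rw [h6] at hbaa
  · exact c_ne_cz h.gq hbaa.symm
  · apply c_ne_cz h.gq
    rw [← hbaa]
    calc a * z * (a * z) = a * (z * a) * z := by group
      _ = a * a * (z * z) := by rw [← haz]; group
      _ = a * a := by rw [hQ.z_mul, mul_one]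
  · apply inv_ne_cz h.gq hn0
    rw [← hbaa, mul_inv_rev]
  · apply inv_ne_cz h.gq hn0
    rw [← hbaa, mul_inv_rev]
    calc a⁻¹ * z * (a⁻¹ * z) = a⁻¹ * (z * a⁻¹) * z := by group
      _ = a⁻¹ * a⁻¹ * (z * z) := by rw [← hazi]; group
      _ = a⁻¹ * a⁻¹ := by rw [hQ.z_mul, mul_one]

end core

/-- **Lemma Q** -/
theorem lemmaQ [Finite G] {T Q : Subgroup G} {c v z : G} {n : ℕ} (hT : IsPGroup 2 T) (hQT : Q ≤ T)
    (hn : T ≤ normalizer (Q : Set G)) (hQ : GQ Q c v z n) (hr : SectionalPRankLE 2 2 T) :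
    T = Q ∨ ∃ a t : G, a ∈ T ∧ t ∈ Q ∧ GQ Q (a * a) t z n ∧ orderOf a = 2 ^ (n + 3) ∧
      (t * a * t⁻¹ = a⁻¹ ∨ t * a * t⁻¹ = a⁻¹ * z) ∧
      ∀ x ∈ T, (∃ i : ℕ, x = a ^ i) ∨ ∃ i : ℕ, x = t * a ^ i := by
  obtain ⟨c, v, hQ, hci⟩ := choose_inv hT hQT hn hQ
  have hcen := centQ hT hQT hQ hr
  by_cases hA : ∃ a ∈ T, a * c = c * a ∧ a * v * a⁻¹ = c * v
  · obtain ⟨a, haT, hac, hav⟩ := hA
    have h := AData.of hQ hcen hQT haT hac hav
    have hb : ∀ x ∈ T, x * c * x⁻¹ = c ∨ x * c * x⁻¹ = c⁻¹ := by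
      by_contra hcon
      push Not at hcon
      obtain ⟨x, hx, h1, h2⟩ := hcon
      obtain ⟨hn0, b, hbT, hbc⟩ := reduce_b hT hQT hn hQ hci ⟨x, hx, not_or.2 ⟨h1, h2⟩⟩
      exact caseTwo h hQ hQT hn hcen hn0 hbT hbc
    have hpow : ∀ x ∈ T, x * c = c * x → ∃ i : ℕ, x = a ^ i := by
      intro x hx hxc
      have h1 := h.cent hQ hQT hn hcen x hx hxc
      rw [← mem_powers_iff_mem_zpowers] at h1
      obtain ⟨i, hi⟩ := h1
      exact ⟨i, hi.symm⟩
    right
    refine ⟨a, v, haT, hQ.v_mem, h.gq, h.ord, h.vconj, ?_⟩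
    intro x hx
    rcases hb x hx with h1 | h1
    · exact Or.inl (hpow x hx (mul_inv_eq_iff_eq_mul.1 h1))
    · right
      have h2 : v⁻¹ * x * c * (v⁻¹ * x)⁻¹ = c := by
        have : v⁻¹ * x * c * (v⁻¹ * x)⁻¹ = v⁻¹ * (x * c * x⁻¹) * v := by group
        rw [this, h1, ← hQ.conj]; group
      obtain ⟨i, hi⟩ := hpow _ (T.mul_mem (T.inv_mem (hQT hQ.v_mem)) hx)
        (mul_inv_eq_iff_eq_mul.1 h2)
      exact ⟨i, by rw [← hi]; group⟩
  · have hC := caseOne_cent hQ hQT hn hcen hA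
    have hb : ∀ x ∈ T, x * c * x⁻¹ = c ∨ x * c * x⁻¹ = c⁻¹ := by
      by_contra hcon
      push Not at hcon
      obtain ⟨x, hx, h1, h2⟩ := hcon
      obtain ⟨hn0, b, hbT, hbc⟩ := reduce_b hT hQT hn hQ hci ⟨x, hx, not_or.2 ⟨h1, h2⟩⟩
      exact caseOne hQT hn hQ hr hn0 hC hbT hbc
    left
    refine le_antisymm ?_ hQT
    intro x hx
    have hcQ : zpowers c ≤ Q := zpowers_le.2 hQ.c_mem
    rcases hb x hx with h1 | h1
    · exact hcQ (hC x hx (mul_inv_eq_iff_eq_mul.1 h1))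
    · have h2 : v⁻¹ * x * c * (v⁻¹ * x)⁻¹ = c := by
        have : v⁻¹ * x * c * (v⁻¹ * x)⁻¹ = v⁻¹ * (x * c * x⁻¹) * v := by group
        rw [this, h1, ← hQ.conj]; group
      have h3 := hcQ (hC _ (T.mul_mem (T.inv_mem (hQT hQ.v_mem)) hx) (mul_inv_eq_iff_eq_mul.1 h2))
      have h4 := Q.mul_mem hQ.v_mem h3
      rwa [← mul_assoc, mul_inv_cancel, one_mul] at h4

/-- elements of `C` commuting with `a²` -/
theorem lemmaS_cent {C Q : Subgroup G} {a t z : G} {n : ℕ}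
    (hQn : C ≤ normalizer (Q : Set G)) (hQ : GQ Q (a * a) t z n)
    (hta : t * a * t⁻¹ = a⁻¹ ∨ t * a * t⁻¹ = a⁻¹ * z) {b : G} (hb : b ∈ C)
    (hba : b * (a * a) = a * a * b) : ∃ k : ℤ, ∀ q ∈ Q, a ^ k * b * q = q * (a ^ k * b) := by
  have hzz := hQ.z_mul
  have hcz := z_c hQ
  have haz : a * z = z * a := by
    rw [← hQ.z_eq]
    exact (((Commute.refl a).mul_right (Commute.refl a)).pow_right _).eq
  obtain ⟨j, hj⟩ := exists_j hQ (hQn hb) hba
  obtain ⟨ζ, hζ, hζa, hat⟩ : ∃ ζ : G, (ζ = 1 ∨ ζ = z) ∧ a * ζ = ζ * a ∧ a * t * a⁻¹ = a * a * ζ * t := by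
    have key : ∀ ζ : G, a * ζ = ζ * a → ζ * ζ = 1 → t * a * t⁻¹ = a⁻¹ * ζ →
        a * t * a⁻¹ = a * a * ζ * t := by
      intro ζ h1 h2 h3
      have h4 : t * a⁻¹ = ζ⁻¹ * a * t := by
        have : t * a⁻¹ = (t * a * t⁻¹)⁻¹ * t := by group
        rw [this, h3]; group
      have h5 : ζ⁻¹ = ζ := inv_eq_of_mul_eq_one_left h2
      rw [h5] at h4
      calc a * t * a⁻¹ = a * (t * a⁻¹) := by group
        _ = a * (ζ * a * t) := by rw [h4]
        _ = a * (a * ζ * t) := by rw [h1]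
        _ = _ := by group
    rcases hta with h | h
    · exact ⟨1, Or.inl rfl, by group, key 1 (by group) (by group) (by rw [h, mul_one])⟩
    · exact ⟨z, Or.inr rfl, haz, key z haz hzz h⟩
  have hac : Commute a (a * a) := (Commute.refl a).mul_right (Commute.refl a)
  have haζ : Commute a (a * a * ζ) := hac.mul_right hζa
  have hakt : ∀ k : ℤ, a ^ k * t * (a ^ k)⁻¹ = (a * a * ζ) ^ k * t := by
    have h1 : t * a⁻¹ * t⁻¹ = ζ * a := by
      have h2 : t * a⁻¹ = a⁻¹ * (a * a * ζ * t) := by rw [← hat]; group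
      rw [h2, hζa.symm]; group
    intro k
    have h2 : t * (a ^ k)⁻¹ * t⁻¹ = (ζ * a) ^ k := by
      rw [← h1, _root_.conj_zpow, inv_zpow]
    have h3 : a ^ k * t * (a ^ k)⁻¹ = a ^ k * (t * (a ^ k)⁻¹ * t⁻¹) * t := by group
    rw [h3, h2, ← ((Commute.mul_right (show Commute a ζ from hζa) (Commute.refl a)).mul_zpow k)]
    congr 2
    rw [← hζa]; group
  obtain ⟨k, hk⟩ : ∃ k : ℤ, (a * a * ζ) ^ k * (a * a) ^ j = 1 := by
    have hcz' : Commute (a * a) z := hcz
    rcases hζ with rfl | rfl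
    · exact ⟨-j, by rw [mul_one, ← zpow_add, neg_add_cancel, zpow_zero]⟩
    · rcases Int.even_or_odd j with hj' | hj'
      · refine ⟨-j, ?_⟩
        rw [hcz'.mul_zpow, z_zpow_even hzz hj'.neg, mul_one, ← zpow_add, neg_add_cancel, zpow_zero]
      · refine ⟨-j + 2 ^ (n + 1), ?_⟩
        have h1 : (a * a) ^ (2 ^ (n + 1) : ℤ) = ζ := by
          rw [← hQ.z_eq, ← zpow_natCast]; push_cast; rfl
        have h2 : Odd (-j + 2 ^ (n + 1)) := by
          refine hj'.neg.add_even ?_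
          rw [pow_succ]; exact even_two.mul_left _
        rw [hcz'.mul_zpow, z_zpow_odd hzz h2, zpow_add, h1, mul_assoc _ ζ ζ, hzz, mul_one, ← zpow_add,
          neg_add_cancel, zpow_zero]
  refine ⟨k, comm_of hQ ?_ ?_⟩
  · exact ((hac.zpow_left k).mul_left (show Commute b (a * a) from hba)).eq
  · have h1 : a ^ k * b * t * (a ^ k * b)⁻¹ = t := by
      have h2 : a ^ k * b * t * (a ^ k * b)⁻¹ = a ^ k * (b * t * b⁻¹) * (a ^ k)⁻¹ := by group
      rw [h2, hj]
      have h3 : a ^ k * ((a * a) ^ j * t) * (a ^ k)⁻¹ = (a * a) ^ j * (a ^ k * t * (a ^ k)⁻¹) := by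
        have : a ^ k * (a * a) ^ j = (a * a) ^ j * a ^ k := ((hac.zpow_left k).zpow_right j).eq
        calc a ^ k * ((a * a) ^ j * t) * (a ^ k)⁻¹ = a ^ k * (a * a) ^ j * t * (a ^ k)⁻¹ := by group
          _ = _ := by rw [this]; group
      rw [h3, hakt, ← mul_assoc]
      have h4 : (a * a) ^ j * (a * a * ζ) ^ k = (a * a * ζ) ^ k * (a * a) ^ j := by
        have : Commute (a * a) (a * a * ζ) := haζ.mul_left haζ
        exact ((this.zpow_right k).zpow_left j).eq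
      rw [h4, hk, one_mul]
    exact mul_inv_eq_iff_eq_mul.1 h1

/-- **Lemma S** -/
theorem lemmaS [Finite G] {C Q : Subgroup G} {a t z : G} {n : ℕ} (hC : IsPGroup 2 C)
    (haC : a ∈ C) (hQC : Q ≤ C) (hQn : C ≤ normalizer (Q : Set G))
    (han : C ≤ normalizer (zpowers a : Set G)) (hQ : GQ Q (a * a) t z n)
    (hord : orderOf a = 2 ^ (n + 3)) (hta : t * a * t⁻¹ = a⁻¹ ∨ t * a * t⁻¹ = a⁻¹ * z)
    (hcent : ∀ d ∈ C, (∀ q ∈ Q, d * q = q * d) → d * a = a * d) :
    ∀ b ∈ C, ∃ w ∈ Subgroup.closure ({a, t} : Set G), ∃ d ∈ C, (∀ q ∈ Q, d * q = q * d) ∧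
      b = w * d := by
  have htC : t ∈ C := hQC hQ.v_mem
  have haW : a ∈ Subgroup.closure ({a, t} : Set G) := subset_closure (by simp)
  have htW : t ∈ Subgroup.closure ({a, t} : Set G) := subset_closure (by simp)
  have hci : ∀ x ∈ C, ∃ i : ℤ, x * a * x⁻¹ = a ^ i := by
    intro x hx
    have := (mem_normalizer_iff.1 (han hx) a).1 (mem_zpowers a)
    obtain ⟨i, hi⟩ := this
    exact ⟨i, hi.symm⟩
  have hap : a ^ 2 ^ (n + 1 + 1) = z := by
    rw [pow_succ', pow_mul, pow_two, hQ.z_eq]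
  have haz : a * z = z * a := by
    rw [← hap]; exact ((Commute.refl a).pow_right _).eq
  have hazi : a⁻¹ * z = z * a⁻¹ := (show Commute a z from haz).inv_left.eq
  -- (i)
  have h1 : ∀ b ∈ C, b * (a * a) = a * a * b → ∃ k : ℤ, ∃ d ∈ C, (∀ q ∈ Q, d * q = q * d) ∧
      b = a ^ k * d := by
    intro b hb hba
    obtain ⟨k, hk⟩ := lemmaS_cent hQn hQ hta hb hba
    exact ⟨-k, a ^ k * b, C.mul_mem (C.zpow_mem haC k) hb, hk, by
      rw [← mul_assoc, ← zpow_add, neg_add_cancel, zpow_zero, one_mul]⟩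
  -- (ii)
  have h2 : ∀ b ∈ C, b * (a * a) * b⁻¹ = a * a ∨ b * (a * a) * b⁻¹ = (a * a)⁻¹ := by
    by_contra hcon
    push Not at hcon
    obtain ⟨x, hx, hx1, hx2⟩ := hcon
    obtain ⟨k, hk1, hk2⟩ := exists_last hC hx (fun y => y * (a * a) * y⁻¹ = a * a ∨
      y * (a * a) * y⁻¹ = (a * a)⁻¹) (Or.inl (by group)) (not_or.2 ⟨hx1, hx2⟩)
    have hbC : x ^ k ∈ C := C.pow_mem hx k
    generalize x ^ k = b at hk1 hk2 hbC
    obtain ⟨l, hl⟩ := hci b hbC
    have hb1 : b * (a * a) * b⁻¹ = (a * a) ^ l := by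
      have : b * (a * a) * b⁻¹ = b * a * b⁻¹ * (b * a * b⁻¹) := by group
      rw [this, hl, ← (Commute.refl a).mul_zpow]
    have hb2 : b * b * (a * a) * (b * b)⁻¹ = (a * a) ^ (l * l) := by
      have : b * b * (a * a) * (b * b)⁻¹ = b * (b * (a * a) * b⁻¹) * b⁻¹ := by group
      rw [this, hb1, ← _root_.conj_zpow, hb1, zpow_mul]
    have hb3 : b * b * (a * a) = a * a * (b * b) := by
      rcases hk2 with h3 | h3
      · exact mul_inv_eq_iff_eq_mul.1 h3
      · exact (no_neg hQ.ord (hb2.symm.trans h3)).elim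
    obtain ⟨r, d, hd, hdQ, hr⟩ := h1 _ (C.mul_mem hbC hbC) hb3
    have hb4 : b * b * a = a * (b * b) := by
      have h5 : Commute (a ^ r * d) a :=
        ((Commute.refl a).zpow_left r).mul_left (hcent d hd hdQ)
      rw [hr]; exact h5.eq
    have hb5 : a ^ (l * l) = a := by
      have h5 : b * b * a * (b * b)⁻¹ = a ^ (l * l) := by
        have : b * b * a * (b * b)⁻¹ = b * (b * a * b⁻¹) * b⁻¹ := by group
        rw [this, hl, ← _root_.conj_zpow, hl, zpow_mul]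
      rw [← h5, hb4]; group
    apply hk1
    have h6 : b * (a * a) * b⁻¹ = a ^ l * a ^ l := by
      rw [hb1, (Commute.refl a).mul_zpow]
    rw [h6]
    rcases pow_four (m := n + 1) hord hap hb5 with h7 | h7 | h7 | h7 <;> rw [h7]
    · left; rfl
    · left
      calc a * z * (a * z) = a * (z * a) * z := by group
        _ = a * a * (z * z) := by rw [← haz]; group
        _ = a * a := by rw [hQ.z_mul, mul_one]
    · right; rw [mul_inv_rev]
    · right
      rw [mul_inv_rev]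
      calc a⁻¹ * z * (a⁻¹ * z) = a⁻¹ * (z * a⁻¹) * z := by group
        _ = a⁻¹ * a⁻¹ * (z * z) := by rw [← hazi]; group
        _ = a⁻¹ * a⁻¹ := by rw [hQ.z_mul, mul_one]
  intro b hb
  rcases h2 b hb with h3 | h3
  · obtain ⟨k, d, hd, hdQ, rfl⟩ := h1 b hb (mul_inv_eq_iff_eq_mul.1 h3)
    exact ⟨a ^ k, zpow_mem haW k, d, hd, hdQ, rfl⟩
  · have h4 : t⁻¹ * b * (a * a) * (t⁻¹ * b)⁻¹ = a * a := by
      have : t⁻¹ * b * (a * a) * (t⁻¹ * b)⁻¹ = t⁻¹ * (b * (a * a) * b⁻¹) * t := by group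
      rw [this, h3, ← hQ.conj]; group
    obtain ⟨k, d, hd, hdQ, h5⟩ := h1 _ (C.mul_mem (C.inv_mem htC) hb) (mul_inv_eq_iff_eq_mul.1 h4)
    refine ⟨t * a ^ k, mul_mem htW (zpow_mem haW k), d, hd, hdQ, ?_⟩
    rw [mul_assoc, ← h5]; group

end Cfsg.Agent.GH.QALemmaQ
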