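import Cfsg.Agent.GH.PumpUp
import Cfsg.Agent.Lib.FrattiniPGroup
import Cfsg.Agent.Intrinsic.Diag

/-!
# GH-0: the tops of 2-components

* `exists_inv`: a central involution of `K / O(K)` lifts to `K`;
* `srank_top_mono`: `K ≤ J` 2-components: `r(STop K) ≤ r(STop J)`;
* `srank_add_of_ne`: distinct 2-components of `X`: `r(STop J₁) + r(STop J₂) ≤ r(X)`;
* `two_le_srank_top`: `2 ≤ r(STop K)`;
* `srank_top_congr`, `srank_top_cj`, `srank_top_of_sup`.
-/

set_option autoImplicit false

open Cfsg Subgroup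
open Cfsg.Agent.SignalizersComponents.IntrinsicBasic
open Cfsg.Agent.Intrinsic.Basic Cfsg.Agent.Intrinsic.Cen
open Cfsg.Agent.GH.Defs Cfsg.Agent.GH.Rank Cfsg.Agent.GH.Comp
open scoped commutatorElement

namespace Cfsg.Agent.GH.Tops

variable {G : Type*} [Group G] [Finite G]

omit [Finite G] in
theorem fixes_of_center {K : Subgroup G} {z : G} (hz : z ∈ K)
    (h : (QuotientGroup.mk' (oddCore ↥K)) ⟨z, hz⟩ ∈ center (Bar K)) : Fixes z K := by
  refine ⟨le_normalizer hz, ?_⟩
  have h1 : (⟨z, hz⟩ : K) ∈ (topMap K).ker := (QuotientGroup.eq_one_iff _).mpr h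
  exact mem_ker_topMap.mp h1

omit [Finite G] in
theorem center_of_fixes {K : Subgroup G} {z : G} (hz : z ∈ K) (h : Fixes z K) :
    (QuotientGroup.mk' (oddCore ↥K)) ⟨z, hz⟩ ∈ center (Bar K) := by
  have h1 : (⟨z, hz⟩ : K) ∈ (topMap K).ker := mem_ker_topMap.mpr h.2
  exact (QuotientGroup.eq_one_iff _).mp h1

/-- A central involution of `K / O(K)` lifts to an involution of `K`. -/
theorem exists_inv {K : Subgroup G} (he : EvenCenter K) :
    ∃ z ∈ K, orderOf z = 2 ∧ Fixes z K := by
  have hp : Fact (Nat.Prime 2) := ⟨Nat.prime_two⟩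
  obtain ⟨c, hc⟩ := exists_prime_orderOf_dvd_card' (G := center (Bar K)) 2
    (even_iff_two_dvd.mp he)
  obtain ⟨k, hk⟩ := QuotientGroup.mk'_surjective (oddCore ↥K) (c : Bar K)
  have hc2 : (c : Bar K) ^ 2 = 1 := by
    have h1 : c ^ 2 = 1 := by
      have := pow_orderOf_eq_one c
      rwa [hc] at this
    have h2 := congrArg Subtype.val h1
    simpa using h2
  have hc1 : (c : Bar K) ≠ 1 := by
    intro h
    have h1 : c = 1 := Subtype.ext h
    rw [h1, orderOf_one] at hc
    omega
  have hodd : Odd (Nat.card (oddCore ↥K)) :=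
    Nat.coprime_two_right.1 (Lib.Cores.pPrimeCore_coprime (G := K) 2)
  obtain ⟨m, hm⟩ := hodd
  obtain ⟨z, hz⟩ : ∃ z, z = k ^ Nat.card (oddCore ↥K) := ⟨_, rfl⟩
  have hk2 : k ^ 2 ∈ oddCore ↥K := by
    rw [← QuotientGroup.eq_one_iff]
    change QuotientGroup.mk' (oddCore ↥K) (k ^ 2) = 1
    rw [map_pow, hk, hc2]
  have hz2 : z ^ 2 = 1 := by
    rw [hz, ← pow_mul, mul_comm, pow_mul]
    have h1 : (⟨k ^ 2, hk2⟩ : oddCore ↥K) ^ Nat.card (oddCore ↥K) = 1 := pow_card_eq_one'
    exact congrArg Subtype.val h1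
  have hzc : QuotientGroup.mk' (oddCore ↥K) z = c := by
    rw [hz, map_pow, hk, hm, pow_succ, pow_mul, hc2, one_pow, one_mul]
  refine ⟨z, z.2, ?_, ?_⟩
  · apply orderOf_eq_prime
    · have := congrArg Subtype.val hz2
      simpa using this
    · intro h
      apply hc1
      rw [← hzc, show z = 1 from Subtype.ext h, map_one]
  · apply fixes_of_center z.2
    change QuotientGroup.mk' (oddCore ↥K) z ∈ _
    rw [hzc]
    exact c.2

/-- A 2-component contained in another one: the elements fixing the big one fix the small one. -/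
theorem ker_le {H K J : Subgroup G} (hK : IsComp H K) (hKJ : K ≤ J) :
    ((topMap J).comp (inclusion hKJ)).ker ≤ (topMap K).ker := by
  obtain ⟨N, hN⟩ : ∃ N, N = ((topMap J).comp (inclusion hKJ)).ker := ⟨_, rfl⟩
  rw [← hN]
  have hNn : N.Normal := by rw [hN]; infer_instance
  have hle : N.map K.subtype ≤ K := map_subtype_le _
  have hs : ((N.map K.subtype).subgroupOf H).IsSubnormal := by
    have h1 : (N.map K.subtype).subgroupOf H =
        (N.comap (subgroupOfEquivOfLe hK.le).toMonoidHom).map (K.subgroupOf H).subtype := by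
      ext ⟨a, ha⟩
      constructor
      · rintro ⟨y, hy, hya⟩
        have haK : a ∈ K := by
          change (y : G) = a at hya
          rw [← hya]; exact y.2
        refine ⟨⟨⟨a, ha⟩, haK⟩, ?_, rfl⟩
        change (⟨a, haK⟩ : K) ∈ N
        have : (⟨a, haK⟩ : K) = y := Subtype.ext (by exact hya.symm)
        rw [this]; exact hy
      · rintro ⟨⟨⟨b, hb⟩, hb'⟩, hbN, hba⟩
        have hba' : b = a := congrArg Subtype.val hba
        subst hba'
        exact ⟨⟨b, hb'⟩, hbN, rfl⟩
    rw [h1]
    have h2 : (N.comap (subgroupOfEquivOfLe hK.le).toMonoidHom).Normal := inferInstance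
    exact h2.isSubnormal.trans' hK.2.1
  rcases hK.le_or_comm (hle.trans hK.le) hs with h | h
  · exfalso
    refine hK.not_odd (odd_card_core J) ?_
    rw [← hK.perfect, commutator_le]
    intro a ha b hb
    obtain ⟨y, hy, hya⟩ := h ha
    have hya' : (y : G) = a := hya
    subst hya'
    rw [hN] at hy
    have h3 : inclusion hKJ y ∈ (topMap J).ker := hy
    exact mem_ker_topMap.mp h3 b (hKJ hb)
  · intro n hn
    rw [mem_ker_topMap]
    intro y hy
    rw [hK.core_eq]
    refine ⟨K.mul_mem (K.mul_mem (K.mul_mem n.2 hy) (K.inv_mem n.2)) (K.inv_mem hy), ?_⟩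
    have h3 : ⁅y, (n : G)⁆ ∈ core H := h (commutator_mem_commutator hy ⟨n, hn, rfl⟩)
    rw [← commutatorElement_inv]
    exact (core H).inv_mem h3

/-- A 2-component contained in another one has a smaller top. -/
theorem srank_top_mono {H K J : Subgroup G} (hK : IsComp H K) (hKJ : K ≤ J) :
    srank 2 (STop K) ≤ srank 2 (STop J) := by
  refine (srank_le_iff (by norm_num)).2 ?_
  exact of_homs (srank_spec (by norm_num)) ((topMap J).comp (inclusion hKJ)) (topMap K)
    (topMap_surjective K) fun m hm => ker_le hK hKJ hm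

/-- Distinct 2-components. -/
theorem srank_add_of_ne {X J₁ J₂ : Subgroup G} (h₁ : IsComp X J₁) (h₂ : IsComp X J₂)
    (hne : J₁ ≠ J₂) : srank 2 (STop J₁) + srank 2 (STop J₂) ≤ srank 2 X := by
  have h3 := srank_top_add_le (D := J₂) h₁ h₂.le (fun d hd => h₁.fixes_of_mem h₂ hne hd)
    (topMap J₂).ker (by
      rintro d ⟨k, hk, hkd⟩
      rw [mem_ker_topMap]
      intro y hy
      rw [h₂.core_eq]
      refine ⟨J₂.mul_mem (J₂.mul_mem (J₂.mul_mem d.2 hy) (J₂.inv_mem d.2)) (J₂.inv_mem hy), ?_⟩
      have hky : ⁅k, y⁆ ∈ core X := h₂.core_le_core ((h₂.fixes_of_mem h₁ hne.symm hk).2 y hy)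
      obtain ⟨c, hc⟩ : ∃ c, c = k⁻¹ * (d : G) := ⟨_, rfl⟩
      rw [← hc] at hkd
      have hd : (d : G) = k * c := by rw [hc]; group
      have hkX : k ∈ normalizer (core X : Set G) := le_normalizer_core X (h₁.le hk)
      have hyX : y ∈ normalizer (core X : Set G) := le_normalizer_core X (h₂.le hy)
      have e : ⁅(d : G), y⁆ = (k * (c * (y * c⁻¹ * y⁻¹)) * k⁻¹) * ⁅k, y⁆ := by
        rw [hd, commutatorElement_def, commutatorElement_def]
        group
      rw [e]
      refine mul_mem ((mem_normalizer_iff.mp hkX _).mp (mul_mem hkd ?_)) hky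
      exact (mem_normalizer_iff.mp hyX _).mp (inv_mem hkd))
  have h4 : srank 2 (J₂ ⧸ (topMap J₂).ker) = srank 2 (STop J₂) :=
    srank_congr (by norm_num) (QuotientGroup.quotientKerEquivOfSurjective _ (topMap_surjective J₂))
  rwa [h4] at h3

theorem srank_top_congr {J X : Subgroup G} (e : Bar J ≃* Bar X) :
    srank 2 (STop J) = srank 2 (STop X) := by
  refine srank_congr (by norm_num) (QuotientGroup.congr _ _ e ?_)
  ext y
  constructor
  · rintro ⟨a, ha, rfl⟩
    rw [mem_center_iff]
    intro g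
    obtain ⟨b, rfl⟩ := e.surjective g
    have := mem_center_iff.mp ha b
    change e b * e a = e a * e b
    rw [← map_mul, ← map_mul, this]
  · intro hy
    obtain ⟨a, rfl⟩ := e.surjective y
    refine ⟨a, ?_, rfl⟩
    rw [SetLike.mem_coe, mem_center_iff]
    intro g
    apply e.injective
    rw [map_mul, map_mul]
    exact mem_center_iff.mp hy (e g)

theorem srank_top_cj (g : G) (J : Subgroup G) : srank 2 (STop (cj g J)) = srank 2 (STop J) :=
  (srank_top_congr (cjQuot g J)).symm

/-- The tops of `K` and of a subgroup covering `K / O(K)`. -/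
theorem srank_top_of_sup {J X : Subgroup G} (hs : J ⊔ core X = X) :
    srank 2 (STop J) = srank 2 (STop X) := by
  obtain ⟨e, -⟩ := exists_quotEquiv hs
  exact srank_top_congr e

/-! ### the rank of a simple group -/

/-- A 2-group of sectional rank at most 1 is cyclic. -/
theorem isCyclic_of_le_one {P : Type*} [Group P] [Finite P] (hP : IsPGroup 2 P)
    (h : SectionalPRankLE 2 1 P) : IsCyclic P := by
  have hp : Fact (Nat.Prime 2) := ⟨Nat.prime_two⟩
  have h1 : Nat.card (P ⧸ frattini P) ≤ 2 ^ 1 := by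
    refine card_le (of_quotient h _) ?_ ?_
    · intro a b
      obtain ⟨a, rfl⟩ := QuotientGroup.mk'_surjective _ a
      obtain ⟨b, rfl⟩ := QuotientGroup.mk'_surjective _ b
      rw [← commutatorElement_eq_one_iff_mul_comm, ← map_commutatorElement]
      exact (QuotientGroup.eq_one_iff _).mpr (Lib.FrattiniPGroup.commutator_mem_frattini hP a b)
    · intro a
      obtain ⟨a, rfl⟩ := QuotientGroup.mk'_surjective _ a
      rw [← map_pow]
      exact (QuotientGroup.eq_one_iff _).mpr (Lib.FrattiniPGroup.pow_mem_frattini hP a)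
  have h2 : IsCyclic (P ⧸ frattini P) := by
    have h3 : 0 < Nat.card (P ⧸ frattini P) := Nat.card_pos
    rcases (show Nat.card (P ⧸ frattini P) = 1 ∨ Nat.card (P ⧸ frattini P) = 2 by omega) with h | h
    · have := (Nat.card_eq_one_iff_unique.mp h).1
      infer_instance
    · exact isCyclic_of_prime_card h
  obtain ⟨g, hg⟩ := h2.exists_generator
  obtain ⟨g, rfl⟩ := QuotientGroup.mk'_surjective _ g
  have h3 : zpowers g ⊔ frattini P = ⊤ := by
    rw [eq_top_iff]
    intro x _
    obtain ⟨n, hn⟩ := hg (QuotientGroup.mk' _ x)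
    have h4 : (g ^ n)⁻¹ * x ∈ frattini P := by
      rw [← QuotientGroup.eq_one_iff]
      change QuotientGroup.mk' (frattini P) ((g ^ n)⁻¹ * x) = 1
      rw [map_mul, map_inv, map_zpow, ← hn]
      exact inv_mul_cancel _
    have h5 : x = g ^ n * ((g ^ n)⁻¹ * x) := by group
    rw [h5]
    exact mul_mem (mem_sup_left ⟨n, rfl⟩) (mem_sup_right h4)
  have h4 := frattini_nongenerating h3
  refine ⟨g, fun x => ?_⟩
  have h5 : x ∈ zpowers g := h4 ▸ mem_top x
  exact h5

/-- A simple nonabelian group of even order has sectional 2-rank at least 2. -/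
theorem two_le_srank {X : Type*} [Group X] [Finite X] [hs : IsSimpleGroup X]
    (hna : ¬ IsMulCommutative X) (h2 : 2 ∣ Nat.card X) : 2 ≤ srank 2 X := by
  by_contra hlt
  have h1 : SectionalPRankLE 2 1 X := (srank_le_iff (by norm_num)).1 (by omega)
  have hp : Fact (Nat.Prime 2) := ⟨Nat.prime_two⟩
  obtain ⟨P⟩ : Nonempty (Sylow 2 X) := inferInstance
  have hcyc : IsCyclic P := isCyclic_of_le_one P.isPGroup' (of_subgroup h1 _)
  have hmin : (Nat.card X).minFac = 2 := by
    rw [Nat.minFac_eq_two_iff]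
    exact h2
  have hc := IsCyclic.isComplement' hmin hcyc
  rcases (inferInstance : ((MonoidHom.transferSylow P
    (hcyc.normalizer_le_centralizer hmin)).ker).Normal).eq_bot_or_eq_top with h | h
  · rw [h] at hc
    have h3 : (P : Subgroup X) = ⊤ := isComplement'_bot_left.mp hc
    apply hna
    have h4 : ∀ a b : P, a * b = b * a := by
      letI := hcyc.commGroup
      exact mul_comm
    refine ⟨⟨fun a b => ?_⟩⟩
    have ha : a ∈ (P : Subgroup X) := h3 ▸ mem_top a
    have hb : b ∈ (P : Subgroup X) := h3 ▸ mem_top b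
    exact congrArg Subtype.val (h4 ⟨a, ha⟩ ⟨b, hb⟩)
  · rw [h] at hc
    have h3 : (P : Subgroup X) = ⊥ := isComplement'_top_left.mp hc
    exact P.ne_bot_of_dvd_card h2 h3

theorem even_top {H K : Subgroup G} (hK : IsComp H K) : 2 ∣ Nat.card (STop K) := by
  have h1 : 2 ∣ Nat.card (Bar K) := by
    have h2 : Nat.card K = Nat.card (Bar K) * Nat.card (oddCore ↥K) :=
      card_eq_card_quotient_mul_card_subgroup _
    have h3 := hK.even
    rw [h2, Nat.prime_two.dvd_mul] at h3
    refine h3.resolve_right fun h4 => ?_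
    have h5 := Nat.coprime_two_right.1 (Lib.Cores.pPrimeCore_coprime (G := K) 2)
    exact (Nat.not_even_iff_odd.2 h5) (even_iff_two_dvd.2 h4)
  refine Intrinsic.Diag.even_of_quot (φ := QuotientGroup.mk' (center (Bar K)))
    (quasisimple hK).1 h1 (QuotientGroup.mk'_surjective _) ?_
  rw [QuotientGroup.ker_mk']

theorem two_le_srank_top {H K : Subgroup G} (hK : IsComp H K) : 2 ≤ srank 2 (STop K) := by
  have := top_simple hK
  exact two_le_srank (top_nonComm hK) (even_top hK)

end Cfsg.Agent.GH.Tops
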