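import Cfsg.Agent.GH.XSet
import Cfsg.Agent.TwoFusion.CentResidualBasic
import Cfsg.Agent.Transfer.PGroupNormal
import Cfsg.Agent.SmallSimple.SylowMaxInter
import Cfsg.Prelude.Def_TwoFusion

/-!
# GH-L2, LEMMA S (helper299)

`G` simple, not commutative, `X ≠ ∅` an `XBase` set of involutions (see `GH/XSet.lean`).  Then there are
commuting `y, t ∈ X` such that `t` does not fix `KK y`.

Proof.  Otherwise let `S` be a Sylow 2-subgroup.  `Good X R L`: `L` is a 2-component of `C(W)`,
`W = ⟨X ∩ R⟩ ≠ 1`, covering `KK u / O` for all `u ∈ X ∩ R`, and the involutions of `R` fixing `L` are in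
`X`.  A maximal good `R ≤ S` is `S`; then `{s ∈ S | Fixes s L}` is strongly closed in `S` and S1173 gives a
contradiction.
-/

set_option autoImplicit false

open Cfsg Subgroup
open Cfsg.Agent.SignalizersComponents Cfsg.Agent.Lib
open Cfsg.Agent.SignalizersComponents.IntrinsicBasic
open Cfsg.Agent.Intrinsic.Basic Cfsg.Agent.Intrinsic.Cen
open Cfsg.Agent.GH.Defs Cfsg.Agent.GH.XSet
open scoped commutatorElement

namespace Cfsg.Agent.GH.LemmaS

variable {G : Type*} [Group G]

/-- `⟨X ∩ R⟩` -/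
def cl (X : Set G) (R : Subgroup G) : Subgroup G := closure (X ∩ (R : Set G))

theorem cl_le (X : Set G) (R : Subgroup G) : cl X R ≤ R := (closure_le _).mpr fun _ h => h.2

theorem mem_cl {X : Set G} {R : Subgroup G} {y : G} (hy : y ∈ X) (hyR : y ∈ R) : y ∈ cl X R :=
  subset_closure ⟨hy, hyR⟩

theorem cl_mono {X : Set G} {R R' : Subgroup G} (h : R ≤ R') : cl X R ≤ cl X R' :=
  closure_mono fun _ hx => ⟨hx.1, h hx.2⟩

theorem normalizer_le_normalizer_cl {X : Set G} (hX : ∀ y ∈ X, ∀ g : G, g * y * g⁻¹ ∈ X)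
    (R : Subgroup G) : normalizer (R : Set G) ≤ normalizer (cl X R : Set G) := by
  have key : ∀ g ∈ normalizer (R : Set G), cj g (cl X R) ≤ cl X R := by
    intro g hg
    rw [cj_def, cl, MonoidHom.map_closure]
    refine closure_mono ?_
    rintro _ ⟨y, ⟨hy, hyR⟩, rfl⟩
    exact ⟨hX y hy g, (mem_normalizer_iff.mp hg y).mp hyR⟩
  intro g hg
  rw [mem_normalizer_iff_cj]
  apply le_antisymm (key g hg)
  have h1 := cj_mono (g := g) (key g⁻¹ (inv_mem hg))
  rwa [cj_cj_inv] at h1

/-- The inductive hypothesis. -/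
structure Good (X : Set G) (R L : Subgroup G) : Prop where
  ne : ∃ y ∈ X, y ∈ R
  comp : IsComp (centralizer (cl X R : Set G)) L
  cov : ∀ u ∈ X, u ∈ R → L ⊔ core (KK u) = KK u
  mem : ∀ s ∈ R, orderOf s = 2 → Fixes s L → s ∈ X

variable [Finite G] {X : Set G}

/-- Construction of good pairs. -/
theorem good_of_central (h : XBase X) (hp : ∀ y ∈ X, ∀ t ∈ X, Commute y t → Fixes t (KK y))
    {R H L : Subgroup G} (hR : IsPGroup 2 R) {u : G} (hu : u ∈ X) (huR : u ∈ R)
    (hc : ∀ s ∈ R, Commute s u) (hL : IsComp H L) (hH : centralizer (cl X R : Set G) ≤ H)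
    (hN : R ≤ normalizer (L : Set G)) (hcov : L ⊔ core (KK u) = KK u) :
    Good X R (cenW L (cl X R)) := by
  have hW : IsPGroup 2 (cl X R) := hR.to_le (cl_le X R)
  have hiff : ∀ s ∈ R, Fixes s L ↔ Fixes s (KK u) := fun s hs =>
    fixes_iff_of_sup hcov (hN hs) (h.mem_normalizer hu (hc s hs))
  have hf : ∀ w ∈ cl X R, Fixes w L := by
    have h1 : cl X R ≤ fixer L := by
      refine (closure_le _).mpr ?_
      rintro t ⟨ht, htR⟩
      exact (hiff t htR).mpr (hp u hu t ht (hc t htR).symm)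
    exact fun w hw => h1 hw
  obtain ⟨h1, h2⟩ := isComp_cenW hL hW hf
  rw [inf_of_le_right hH] at h1
  refine ⟨⟨u, hu, huR⟩, h1, ?_, ?_⟩
  · intro t ht htR
    refine h.sup_of_commute hu ht (hc t htR).symm (hp u hu t ht (hc t htR).symm)
      (hp t ht u hu (hc t htR)) (pElem_pElem _) (sup_trans h2 hcov) ?_
    exact (cenW_le_centralizer _ _).trans (XBase.centralizer_le (mem_cl ht htR))
  · intro s hs hs2 hfix
    have h3 : Fixes s L := (fixes_iff_of_sup h2 hfix.1 (hN hs)).mp hfix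
    exact h.closed u hu s hs2 (hc s hs) ((hiff s hs).mp h3)

omit [Finite G] in
theorem cj_sup (g : G) (A B : Subgroup G) : cj g (A ⊔ B) = cj g A ⊔ cj g B := by
  rw [cj_def, Subgroup.map_sup]
  rfl

omit [Finite G] in
theorem cj_centralizer_sub (g : G) (W : Subgroup G) :
    cj g (centralizer (W : Set G)) = centralizer (cj g W : Set G) := by
  ext x
  rw [mem_cj, mem_centralizer_iff, mem_centralizer_iff]
  constructor
  · intro h w hw
    have h1 := h _ (mem_cj.mp hw)
    calc w * x = g * ((g⁻¹ * w * g) * (g⁻¹ * x * g)) * g⁻¹ := by group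
      _ = g * ((g⁻¹ * x * g) * (g⁻¹ * w * g)) * g⁻¹ := by rw [h1]
      _ = x * w := by group
  · intro h w hw
    have h1 := h _ (conj_mem_cj (g := g) hw)
    calc w * (g⁻¹ * x * g) = g⁻¹ * ((g * w * g⁻¹) * x) * g := by group
      _ = g⁻¹ * (x * (g * w * g⁻¹)) * g := by rw [h1]
      _ = g⁻¹ * x * g * w := by group

/-- The elements normalizing `⟨X ∩ R⟩` normalize `L`. -/
theorem Good.le_normalizer (h : XBase X) {R L : Subgroup G} (hg : Good X R L) :
    normalizer (cl X R : Set G) ≤ normalizer (L : Set G) := by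
  intro s hs
  obtain ⟨y, hy, hyR⟩ := hg.ne
  have hu : s * y * s⁻¹ ∈ X := h.conj y hy s
  have huR : s * y * s⁻¹ ∈ R := cl_le X R ((mem_normalizer_iff.mp hs y).mp (mem_cl hy hyR))
  have h1 := hg.cov _ hu huR
  have h2 : cj s L ⊔ core (KK (s * y * s⁻¹)) = KK (s * y * s⁻¹) := by
    rw [← h.cj_KK hy, core_cj, ← cj_sup, hg.cov y hy hyR]
  have h3 : IsComp (centralizer (cl X R : Set G)) (cj s L) := by
    have h4 := hg.comp.cj s
    have h5 : cj s (centralizer (cl X R : Set G)) = centralizer (cl X R : Set G) := by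
      rw [cj_centralizer_sub, mem_normalizer_iff_cj.mp hs]
    rwa [h5] at h4
  rw [mem_normalizer_iff_cj]
  exact eq_of_sup (h.comp _ hu) h3 hg.comp h2 h1

/-- The step: from `R` to `N_S(⟨X ∩ R⟩)`. -/
theorem Good.step (h : XBase X) (hp : ∀ y ∈ X, ∀ t ∈ X, Commute y t → Fixes t (KK y))
    {S R L : Subgroup G} (hS : IsPGroup 2 S) (hRS : R ≤ S) (hg : Good X R L) :
    ∃ L', Good X (S ⊓ normalizer (cl X R : Set G)) L' := by
  have : Fact (Nat.Prime 2) := ⟨Nat.prime_two⟩
  obtain ⟨P, hP⟩ : ∃ P, P = S ⊓ normalizer (cl X R : Set G) := ⟨_, rfl⟩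
  rw [← hP]
  have hPp : IsPGroup 2 P := hS.to_le (hP ▸ inf_le_left)
  have hPN : P ≤ normalizer (cl X R : Set G) := hP ▸ inf_le_right
  have hRP : R ≤ P := by
    rw [hP]
    exact le_inf hRS (Subgroup.le_normalizer.trans (normalizer_le_normalizer_cl h.conj R))
  -- the central involution of `W`
  obtain ⟨u, huW, hu2, huc⟩ : ∃ u ∈ cl X R, orderOf u = 2 ∧ ∀ s ∈ P, Commute s u := by
    have h1 : ((cl X R).subgroupOf P).Normal := normal_subgroupOf_of_le_normalizer hPN
    have h2 : (cl X R).subgroupOf P ≠ ⊥ := by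
      obtain ⟨y, hy, hyR⟩ := hg.ne
      intro h3
      have h4 : (⟨y, hRP hyR⟩ : P) ∈ (cl X R).subgroupOf P := mem_cl hy hyR
      rw [h3, mem_bot] at h4
      exact h.ne_one hy (congrArg Subtype.val h4)
    obtain ⟨z, hz, hzc, hz2⟩ := Transfer.PGroupNormal.exists_mem_inf_center_orderOf hPp
      ((cl X R).subgroupOf P) h2
    refine ⟨z, hz, ?_, fun s hs => ?_⟩
    · rw [← hz2]
      exact Subgroup.orderOf_coe z
    · exact congrArg Subtype.val (mem_center_iff.mp hzc ⟨s, hs⟩)
  have huR : u ∈ R := cl_le X R huW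
  have huL : Fixes u L := fixes_of_comm fun k hk =>
    (mem_centralizer_iff.mp (hg.comp.le hk) u huW)
  have hu : u ∈ X := hg.mem u huR hu2 huL
  refine ⟨_, good_of_central h hp hPp hu (hRP huR) huc hg.comp ?_ (hPN.trans (hg.le_normalizer h))
    (hg.cov u hu huR)⟩
  exact Subgroup.centralizer_le (cl_mono hRP)

/-- The beginning of the chain. -/
theorem exists_good (h : XBase X) (hp : ∀ y ∈ X, ∀ t ∈ X, Commute y t → Fixes t (KK y))
    {S : Subgroup G} (hS : IsPGroup 2 S) {x : G} (hx : x ∈ X) (hxS : x ∈ S) :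
    ∃ L, Good X (S ⊓ centralizer ({x} : Set G)) L := by
  have hxR : x ∈ S ⊓ centralizer ({x} : Set G) := ⟨hxS, mem_centralizer_singleton_iff.mpr rfl⟩
  refine ⟨_, good_of_central h hp (hS.to_le inf_le_left) hx hxR (fun s hs =>
    mem_centralizer_singleton_iff.mp hs.2) (h.comp x hx)
    (XBase.centralizer_le (mem_cl hx hxR)) ?_ ?_⟩
  · intro s hs
    exact h.mem_normalizer hx (mem_centralizer_singleton_iff.mp hs.2)
  · exact sup_eq_left.mpr (core_le _)

/-- A good pair `(S, L)`. -/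
theorem exists_good_top (h : XBase X) (hp : ∀ y ∈ X, ∀ t ∈ X, Commute y t → Fixes t (KK y))
    {S : Subgroup G} (hS : IsPGroup 2 S) {x : G} (hx : x ∈ X) (hxS : x ∈ S) :
    ∃ L, Good X S L := by
  have : Fact (Nat.Prime 2) := ⟨Nat.prime_two⟩
  obtain ⟨R, ⟨hRS, L, hg⟩, hmax⟩ := Set.Finite.exists_maximal (s := {R : Subgroup G | R ≤ S ∧ ∃ L, Good X R L})
    (Set.toFinite _) ⟨_, inf_le_left, exists_good h hp hS hx hxS⟩
  by_cases hRS' : R = S
  · exact ⟨L, hRS' ▸ hg⟩
  exfalso
  have h1 : R < S := lt_of_le_of_ne hRS hRS'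
  have h2 := SmallSimple.SylowMaxInter.lt_inf_normalizer hS h1
  have h3 : R < S ⊓ normalizer (cl X R : Set G) :=
    lt_of_lt_of_le h2 (inf_le_inf_left _ (normalizer_le_normalizer_cl h.conj R))
  obtain ⟨L', hg'⟩ := hg.step h hp hS hRS
  exact absurd (hmax ⟨inf_le_left, L', hg'⟩ h3.le) (not_le_of_gt h3)

/-- **LEMMA S.** -/
theorem lemmaS [IsSimpleGroup G] (hna : ∃ a b : G, a * b ≠ b * a)
    (h1173 : oddCore G = ⊥ → ∀ (S : Sylow 2 G) (T : Subgroup G),
      IsStronglyClosed T (S : Subgroup G) →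
      ((⨅ n : ℕ, derivedSeries ↥(centralizer (T : Set G)) n).map
        (centralizer (T : Set G)).subtype).Normal)
    (h : XBase X) (hne : X.Nonempty) :
    ∃ y ∈ X, ∃ t ∈ X, Commute y t ∧ ¬ Fixes t (KK y) := by
  have hp2 : Fact (Nat.Prime 2) := ⟨Nat.prime_two⟩
  by_contra hcon
  have hp : ∀ y ∈ X, ∀ t ∈ X, Commute y t → Fixes t (KK y) := by
    intro y hy t ht hyt
    by_contra hno
    exact hcon ⟨y, hy, t, ht, hyt, hno⟩
  obtain ⟨x, hx⟩ := hne
  -- a Sylow 2-subgroup containing `x`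
  have hxp : IsPGroup 2 (zpowers x) := by
    apply IsPGroup.of_card (n := 1)
    rw [Nat.card_zpowers, h.inv x hx, pow_one]
  obtain ⟨S, hS⟩ := hxp.exists_le_sylow
  have hxS : x ∈ (S : Subgroup G) := hS (mem_zpowers x)
  obtain ⟨L, hg⟩ := exists_good_top h hp S.2 hx hxS
  have hSN : (S : Subgroup G) ≤ normalizer (L : Set G) :=
    (Subgroup.le_normalizer.trans (normalizer_le_normalizer_cl h.conj _)).trans
      (hg.le_normalizer h)
  -- odd core
  have hO : oddCore G = ⊥ := by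
    rcases (inferInstance : (oddCore G).Normal).eq_bot_or_eq_top with h1 | h1
    · exact h1
    · exfalso
      have h2 : core (⊤ : Subgroup G) = ⊤ := by
        rw [eq_top_iff]
        intro g _
        rw [mem_core_iff (mem_top g)]
        have h3 := Cores.map_equiv_pPrimeCore (Subgroup.topEquiv (G := G)).symm 2
        have h4 : (⟨g, mem_top g⟩ : (⊤ : Subgroup G)) ∈ (pPrimeCore 2 G).map
            (Subgroup.topEquiv (G := G)).symm.toMonoidHom := by
          refine ⟨g, ?_, rfl⟩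
          have h5 : oddCore G = pPrimeCore 2 G := rfl
          rw [← h5, h1]
          exact mem_top g
        rw [h3] at h4
        exact h4
      have h3 : x ∈ core (⊤ : Subgroup G) := by rw [h2]; exact mem_top x
      exact h.ne_one hx (eq_one_of_mem_core_sq h3 (h.sq hx))
  -- the strongly closed subgroup
  obtain ⟨T, hT⟩ : ∃ T, T = (S : Subgroup G) ⊓ fixer L := ⟨_, rfl⟩
  have hWT : cl X S ≤ T := by
    rw [hT]
    refine le_inf (cl_le _ _) fun w hw => ?_
    exact fixes_of_comm fun k hk => mem_centralizer_iff.mp (hg.comp.le hk) w hw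
  have hxT : x ∈ T := hWT (mem_cl hx hxS)
  have hcl : IsStronglyClosed T (S : Subgroup G) := by
    refine ⟨hT ▸ inf_le_left, ?_⟩
    intro a ha g hgS
    by_cases ha1 : a = 1
    · subst ha1
      have : g * 1 * g⁻¹ = (1 : G) := by group
      rw [this]
      exact one_mem _
    rw [hT] at ha ⊢
    refine ⟨hgS, ?_⟩
    -- the involution `u` of `⟨a⟩`
    obtain ⟨n, hn⟩ := S.2 ⟨a, ha.1⟩
    obtain ⟨k, hk⟩ := (Nat.dvd_prime_pow Nat.prime_two).mp
      (orderOf_dvd_of_pow_eq_one (show a ^ 2 ^ n = 1 from congrArg Subtype.val hn))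
    have hk2 : orderOf a = 2 ^ k := hk.2
    have hk0 : k ≠ 0 := by
      rintro rfl
      rw [pow_zero, orderOf_eq_one_iff] at hk2
      exact ha1 hk2
    obtain ⟨j, rfl⟩ := Nat.exists_eq_succ_of_ne_zero hk0
    obtain ⟨u, hu⟩ : ∃ u, u = a ^ 2 ^ j := ⟨_, rfl⟩
    have hu2 : orderOf u = 2 := by
      rw [hu, orderOf_pow' a (by positivity), hk2, Nat.succ_eq_add_one, pow_succ]
      rw [Nat.gcd_eq_right (Dvd.intro _ rfl), Nat.mul_div_cancel_left _ (by positivity)]
    have huS : u ∈ (S : Subgroup G) := hu ▸ pow_mem ha.1 _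
    have huf : Fixes u L := by
      have : u ∈ fixer L := hu ▸ pow_mem ha.2 _
      exact this
    have huX : u ∈ X := hg.mem u huS hu2 huf
    have hau : Commute a u := hu ▸ (Commute.refl a).pow_right _
    have haK : Fixes a (KK u) :=
      (fixes_iff_of_sup (hg.cov u huX huS) (hSN ha.1) (h.mem_normalizer huX hau)).mp ha.2
    have h1 := haK.cj g
    rw [h.cj_KK huX] at h1
    have hgu : g * u * g⁻¹ ∈ X := h.conj u huX g
    have hguS : g * u * g⁻¹ ∈ (S : Subgroup G) := by
      have h2 : g * u * g⁻¹ = (g * a * g⁻¹) ^ 2 ^ j := by rw [hu, conj_pow]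
      rw [h2]
      exact pow_mem hgS _
    exact (fixes_iff_of_sup (hg.cov _ hgu hguS) (hSN hgS) h1.1).mpr h1
  have hnorm := h1173 hO S T hcl
  rw [TwoFusion.CentResidual.map_iInf_derivedSeries] at hnorm
  have hTp : IsPGroup 2 T := S.2.to_le (hT ▸ inf_le_left)
  obtain ⟨h1, h2⟩ := isComp_cenW hg.comp hTp (fun w hw => by
    rw [hT] at hw
    exact hw.2)
  have hle : cenW L T ≤ TwoFusion.CentResidual.PR (centralizer (T : Set G)) :=
    TwoFusion.CentResidual.le_PR (cenW_le_centralizer _ _) (le_of_eq h1.perfect.symm)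
  rcases hnorm.eq_bot_or_eq_top with h3 | h3
  · rw [h3, le_bot_iff] at hle
    exact h1.ne_bot hle
  · have h4 : centralizer (T : Set G) = ⊤ := by
      rw [eq_top_iff, ← h3]
      exact TwoFusion.CentResidual.PR_le _
    have h5 : x ∈ center G := by
      rw [mem_center_iff]
      intro g
      have h6 : g ∈ centralizer (T : Set G) := by rw [h4]; exact mem_top g
      exact (mem_centralizer_iff.mp h6 x hxT).symm
    rcases (inferInstance : (center G).Normal).eq_bot_or_eq_top with h6 | h6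
    · rw [h6, mem_bot] at h5
      exact h.ne_one hx h5
    · obtain ⟨a, b, hab⟩ := hna
      apply hab
      have h7 : b ∈ center G := by rw [h6]; exact mem_top b
      exact mem_center_iff.mp h7 a

end Cfsg.Agent.GH.LemmaS
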