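import Cfsg.Agent.GH.Assembly
import Cfsg.Agent.GH.AssemblyK4
import Cfsg.Agent.GH.BranchEC
import Cfsg.Agent.GH.BranchE
import Cfsg.Agent.GH.BranchTop
import Cfsg.Agent.GH.L3S.Main
import Cfsg.Agent.GH.BranchL2
import Cfsg.Agent.S1173
import Cfsg.Agent.TwoFusion.ClosedCommutator

/-!
# GH: the branches plugged into the assembly

`gh_of`: `Hyp G → GType G ∨ K4r G`, from the branch of characteristic 2 type (`GH/BranchC2.lean`).
-/

set_option autoImplicit false

open Cfsg Subgroup
open Cfsg.Agent.GH.Defs Cfsg.Agent.GH.AssemblyK4 Cfsg.Agent.GH.Branches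

namespace Cfsg.Agent.GH.FinalMain

universe u

theorem branchL3 : Branches.BranchL3.{u} :=
  L3S.Main.branchL3 (fun _ _ _ hO S T hT => Cfsg.Agent.S1173.result hO S T hT)
    (fun _ _ _ P A B hAB hA hB => TwoFusion.ClosedCommutator.commutator_le P A B hAB hA hB)

/-- The theorem `Hyp G → GType G ∨ K4r G`. -/
theorem gh_of (hc2 : Branches.BranchC2.{u}) (G : Type u) [Group G] [Finite G] (h : Hyp G) :
    GType G ∨ K4r G :=
  Assembly.main BranchEC.branchEC BranchE.branchE BranchTop.branchTop branchL3 BranchL2.branchL2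
    hc2 G h

end Cfsg.Agent.GH.FinalMain
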