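import Cfsg.Agent.GH.FinalLit
import Cfsg.Agent.S1059
import Cfsg.Agent.S1067
import Cfsg.Agent.S1069
import Cfsg.Agent.S1619
import Cfsg.Agent.S1625
import Cfsg.Agent.MTwelveType.SylowModel
import Cfsg.Agent.SporadicA.MathieuRecog
import Cfsg.Agent.SporRec.J1.Words
import Cfsg.Agent.McLType.ThreeElts
import Cfsg.Agent.R10.FiveComm

/-!
# The orders used in S0500
-/

set_option autoImplicit false

namespace Cfsg.Agent.GH.FinalOrders

open Cfsg

theorem orders : FinalLit.Orders where
  g2 _ _ _ := S1059.result rfl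
  d4 _ _ _ _ hq hK := S1067.result hq hK
  ree _ _ _ _ hK := S1069.result hK
  m12 := MTwelveType.SylowModel.card_M12
  m22 := SporadicA.MathieuRecog.card_M22
  m23 := SporadicA.MathieuRecog.card_M23
  j1 := SporRec.J1.Words.card_J1
  j2 := S1619.result.2.2.2
  j3 F _ _ w hF hw := (S1625.result F hF w hw).2.2.1
  mcl := McLType.ThreeElts.card_of_iso ⟨MulEquiv.refl _⟩
  ly := R10.FiveComm.isLy.2

end Cfsg.Agent.GH.FinalOrders
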