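import Mathlib

/-!
# `GL(4,2)` on codes (project GH, letter C2, helper871)

Elements of an elementary abelian group of order `16` are coded by numbers `< 16` (`xor`), automorphisms by
numbers `< 65536` (four columns of four bits).  `ap M a` = image of the code `a`, `mu M N` = product.
-/

set_option autoImplicit false

namespace Cfsg.Agent.GH.GL4

/-- image of the code `a` under the matrix `M` (raw operations, for the kernel) -/
def ap (M a : ℕ) : ℕ :=
  Nat.xor (Nat.xor (Nat.mul (Nat.land a 1) (Nat.land M 15))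
      (Nat.mul (Nat.land (Nat.shiftRight a 1) 1) (Nat.land (Nat.shiftRight M 4) 15)))
    (Nat.xor (Nat.mul (Nat.land (Nat.shiftRight a 2) 1) (Nat.land (Nat.shiftRight M 8) 15))
      (Nat.mul (Nat.land (Nat.shiftRight a 3) 1) (Nat.land (Nat.shiftRight M 12) 15)))

/-- product of matrices: `ap (mu M N) a = ap M (ap N a)` -/
def mu (M N : ℕ) : ℕ :=
  Nat.xor (Nat.xor (Nat.mul (Nat.land N 4369) (Nat.land M 15))
      (Nat.mul (Nat.land (Nat.shiftRight N 1) 4369) (Nat.land (Nat.shiftRight M 4) 15)))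
    (Nat.xor (Nat.mul (Nat.land (Nat.shiftRight N 2) 4369) (Nat.land (Nat.shiftRight M 8) 15))
      (Nat.mul (Nat.land (Nat.shiftRight N 3) 4369) (Nat.land (Nat.shiftRight M 12) 15)))

/-- column `k` -/
def col (M k : ℕ) : ℕ := (M >>> (4 * k)) &&& 15

/-- bit `k` -/
def bt (a k : ℕ) : ℕ := (a >>> k) &&& 1

theorem ap_def (M a : ℕ) : ap M a = ((bt a 0 * col M 0) ^^^ (bt a 1 * col M 1)) ^^^
    ((bt a 2 * col M 2) ^^^ (bt a 3 * col M 3)) := rfl

theorem bt_cases (a k : ℕ) : bt a k = 0 ∨ bt a k = 1 := by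
  unfold bt
  have : (a >>> k) &&& 1 = (a >>> k) % 2 := Nat.and_one_is_mod _
  omega

theorem bt_xor (a b k : ℕ) : bt (a ^^^ b) k = bt a k ^^^ bt b k := by
  unfold bt
  rw [Nat.shiftRight_xor_distrib, Nat.and_xor_distrib_right]

theorem xor_mul (x y m : ℕ) (hx : x = 0 ∨ x = 1) (hy : y = 0 ∨ y = 1) : (x ^^^ y) * m = x * m ^^^ y * m := by
  rcases hx with rfl | rfl <;> rcases hy with rfl | rfl <;> simp

theorem ap_xor (M a b : ℕ) : ap M (a ^^^ b) = ap M a ^^^ ap M b := by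
  simp only [ap_def, bt_xor]
  rw [xor_mul _ _ _ (bt_cases a 0) (bt_cases b 0), xor_mul _ _ _ (bt_cases a 1) (bt_cases b 1),
    xor_mul _ _ _ (bt_cases a 2) (bt_cases b 2), xor_mul _ _ _ (bt_cases a 3) (bt_cases b 3)]
  simp only [Nat.xor_assoc, Nat.xor_left_comm]

theorem ap_zero (M : ℕ) : ap M 0 = 0 := by
  simp [ap_def, bt]

theorem col_lt (M k : ℕ) : col M k < 16 := lt_of_le_of_lt Nat.and_le_right (by norm_num)

theorem xor_lt {a b : ℕ} (ha : a < 16) (hb : b < 16) : a ^^^ b < 16 :=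
  Nat.xor_lt_two_pow (n := 4) ha hb

theorem bt_mul_lt (a k m : ℕ) (hm : m < 16) : bt a k * m < 16 := by
  rcases bt_cases a k with h | h <;> rw [h] <;> omega

theorem ap_lt (M a : ℕ) : ap M a < 16 := by
  rw [ap_def]
  exact xor_lt (xor_lt (bt_mul_lt _ _ _ (col_lt _ _)) (bt_mul_lt _ _ _ (col_lt _ _)))
    (xor_lt (bt_mul_lt _ _ _ (col_lt _ _)) (bt_mul_lt _ _ _ (col_lt _ _)))

theorem ap_pow (M : ℕ) {k : ℕ} (hk : k < 4) : ap M (2 ^ k) = col M k := by
  interval_cases k <;> simp [ap_def, bt]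

theorem land_add (q Q r R : ℕ) (hr : r < 2 ^ 4) (hR : R < 2 ^ 4) :
    (2 ^ 4 * q + r) &&& (2 ^ 4 * Q + R) = 2 ^ 4 * (q &&& Q) + (r &&& R) := by
  apply Nat.eq_of_testBit_eq
  intro i
  have h : (r &&& R) < 2 ^ 4 := lt_of_le_of_lt Nat.and_le_left hr
  rw [Nat.testBit_and, Nat.testBit_two_pow_mul_add _ hr, Nat.testBit_two_pow_mul_add _ hR,
    Nat.testBit_two_pow_mul_add _ h]
  split_ifs <;> simp

theorem land_key (y Q : ℕ) : y &&& (16 * Q + 1) = 16 * ((y >>> 4) &&& Q) + bt y 0 := by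
  have h1 : y = 2 ^ 4 * (y >>> 4) + y % 16 := by
    rw [Nat.shiftRight_eq_div_pow]; omega
  have h2 : (y % 16) &&& 1 = bt y 0 := by
    unfold bt
    rw [Nat.and_one_is_mod, Nat.and_one_is_mod]
    simp only [Nat.shiftRight_zero]
    omega
  have h3 := land_add (y >>> 4) Q (y % 16) 1 (Nat.mod_lt _ (by norm_num)) (by norm_num)
  rw [← h1, h2] at h3
  exact h3

theorem land_mask (x : ℕ) : x &&& 4369 = bt x 0 + 16 * (bt x 4 + 16 * (bt x 8 + 16 * bt x 12)) := by
  have hb : ∀ k l, bt (x >>> k) l = bt x (k + l) := by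
    intro k l
    unfold bt
    rw [Nat.shiftRight_add]
  have e1 := land_key x 273
  have e2 := land_key (x >>> 4) 17
  have e3 := land_key (x >>> 4 >>> 4) 1
  have e4 : (x >>> 4 >>> 4 >>> 4) &&& 1 = bt x 12 := by
    unfold bt
    rw [← Nat.shiftRight_add, ← Nat.shiftRight_add]
  rw [← Nat.shiftRight_add] at e3
  rw [hb] at e2 e3
  rw [← Nat.shiftRight_add x] at e2 e4
  norm_num only at e1 e2 e3 e4
  rw [e1, e2, e3, e4]
  ring

/-- bounded check (kernel friendly) -/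
def allLT (n : ℕ) (p : ℕ → Bool) : Bool :=
  Nat.rec true (fun k ih => p k && ih) n

theorem allLT_spec {n : ℕ} {p : ℕ → Bool} (h : allLT n p = true) : ∀ k < n, p k = true := by
  induction n with
  | zero => intro k hk; omega
  | succ n ih =>
    have h' : (p n && allLT n p) = true := h
    rw [Bool.and_eq_true] at h'
    intro k hk
    rcases Nat.lt_succ_iff_lt_or_eq.mp hk with h2 | h2
    · exact ih h'.2 k h2
    · rw [h2]; exact h'.1

theorem digit_aux : (allLT 2 fun b0 => allLT 2 fun b1 => allLT 2 fun b2 => allLT 2 fun b3 => allLT 16 fun m =>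
    Nat.beq (col ((b0 + 16 * (b1 + 16 * (b2 + 16 * b3))) * m) 0) (b0 * m) &&
    (Nat.beq (col ((b0 + 16 * (b1 + 16 * (b2 + 16 * b3))) * m) 1) (b1 * m) &&
    (Nat.beq (col ((b0 + 16 * (b1 + 16 * (b2 + 16 * b3))) * m) 2) (b2 * m) &&
    Nat.beq (col ((b0 + 16 * (b1 + 16 * (b2 + 16 * b3))) * m) 3) (b3 * m)))) = true := by
  decide +kernel

theorem digit (b0 b1 b2 b3 m : ℕ) (h0 : b0 = 0 ∨ b0 = 1) (h1 : b1 = 0 ∨ b1 = 1) (h2 : b2 = 0 ∨ b2 = 1)
    (h3 : b3 = 0 ∨ b3 = 1) (hm : m < 16) :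
    col ((b0 + 16 * (b1 + 16 * (b2 + 16 * b3))) * m) 0 = b0 * m ∧
    col ((b0 + 16 * (b1 + 16 * (b2 + 16 * b3))) * m) 1 = b1 * m ∧
    col ((b0 + 16 * (b1 + 16 * (b2 + 16 * b3))) * m) 2 = b2 * m ∧
    col ((b0 + 16 * (b1 + 16 * (b2 + 16 * b3))) * m) 3 = b3 * m := by
  have h := allLT_spec (allLT_spec (allLT_spec (allLT_spec (allLT_spec digit_aux b0 (by omega)) b1
    (by omega)) b2 (by omega)) b3 (by omega)) m hm
  simp only [Bool.and_eq_true] at h
  exact ⟨Nat.eq_of_beq_eq_true h.1, Nat.eq_of_beq_eq_true h.2.1, Nat.eq_of_beq_eq_true h.2.2.1,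
    Nat.eq_of_beq_eq_true h.2.2.2⟩

theorem col_xor (x y k : ℕ) : col (x ^^^ y) k = col x k ^^^ col y k := by
  unfold col
  rw [Nat.shiftRight_xor_distrib, Nat.and_xor_distrib_right]

theorem mu_def (M N : ℕ) : mu M N = (((N &&& 4369) * col M 0) ^^^ (((N >>> 1) &&& 4369) * col M 1)) ^^^
    ((((N >>> 2) &&& 4369) * col M 2) ^^^ (((N >>> 3) &&& 4369) * col M 3)) := rfl

theorem col_mask (N j m : ℕ) (hm : m < 16) {k : ℕ} (hk : k < 4) :
    col (((N >>> j) &&& 4369) * m) k = bt N (4 * k + j) * m := by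
  rw [land_mask]
  have h := digit (bt (N >>> j) 0) (bt (N >>> j) 4) (bt (N >>> j) 8) (bt (N >>> j) 12) m
    (bt_cases _ _) (bt_cases _ _) (bt_cases _ _) (bt_cases _ _) hm
  have hb : ∀ l, bt (N >>> j) l = bt N (l + j) := by
    intro l
    unfold bt
    rw [← Nat.shiftRight_add, Nat.add_comm]
  obtain ⟨h0, h1, h2, h3⟩ := h
  interval_cases k
  · rw [h0, hb]
  · rw [h1, hb]
  · rw [h2, hb]
  · rw [h3, hb]

theorem bt_col (N : ℕ) {k j : ℕ} (hj : j < 4) : bt (col N k) j = bt N (4 * k + j) := by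
  unfold bt col
  rw [Nat.shiftRight_add, Nat.shiftRight_and_distrib, Nat.and_assoc]
  congr 1
  interval_cases j <;> rfl

theorem col_mu (M N : ℕ) {k : ℕ} (hk : k < 4) : col (mu M N) k = ap M (col N k) := by
  rw [mu_def, col_xor, col_xor, col_xor]
  have h0 := col_mask N 0 (col M 0) (col_lt _ _) hk
  rw [Nat.shiftRight_zero] at h0
  rw [h0, col_mask N 1 (col M 1) (col_lt _ _) hk, col_mask N 2 (col M 2) (col_lt _ _) hk,
    col_mask N 3 (col M 3) (col_lt _ _) hk, ap_def, bt_col N (by norm_num), bt_col N (by norm_num),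
    bt_col N (by norm_num), bt_col N (by norm_num)]

theorem code_eq {a : ℕ} (ha : a < 16) : a = (((bt a 0 * 2 ^ 0) ^^^ (bt a 1 * 2 ^ 1)) ^^^
    ((bt a 2 * 2 ^ 2) ^^^ (bt a 3 * 2 ^ 3))) := by
  interval_cases a <;> rfl

theorem bt_mul_ap (M a k b : ℕ) : ap M (bt a k * b) = bt a k * ap M b := by
  rcases bt_cases a k with h | h <;> rw [h] <;> simp [ap_zero]

/-- two maps with the same columns agree -/
theorem ap_ext {M N : ℕ} (h : ∀ k < 4, col M k = col N k) {a : ℕ} : ap M a = ap N a := by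
  rw [ap_def, ap_def, h 0 (by norm_num), h 1 (by norm_num), h 2 (by norm_num), h 3 (by norm_num)]

theorem ap_mu (M N a : ℕ) : ap (mu M N) a = ap M (ap N a) := by
  conv_rhs => rw [ap_def N a]
  rw [ap_xor, ap_xor, ap_xor, bt_mul_ap, bt_mul_ap, bt_mul_ap, bt_mul_ap, ap_def (mu M N) a,
    col_mu M N (by norm_num), col_mu M N (by norm_num), col_mu M N (by norm_num), col_mu M N (by norm_num)]

theorem eq_of_col {M N : ℕ} (hM : M < 65536) (hN : N < 65536) (h : ∀ k < 4, col M k = col N k) : M = N := by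
  have e : ∀ x k, col x k = (x / 2 ^ (4 * k)) % 16 := by
    intro x k
    unfold col
    rw [Nat.shiftRight_eq_div_pow, show 15 = 2 ^ 4 - 1 by norm_num, Nat.and_two_pow_sub_one_eq_mod]
  have h0 := h 0 (by norm_num)
  have h1 := h 1 (by norm_num)
  have h2 := h 2 (by norm_num)
  have h3 := h 3 (by norm_num)
  rw [e, e] at h0 h1 h2 h3
  norm_num at h0 h1 h2 h3
  omega

theorem eq_of_ap {M N : ℕ} (hM : M < 65536) (hN : N < 65536) (h : ∀ a < 16, ap M a = ap N a) : M = N := by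
  apply eq_of_col hM hN
  intro k hk
  rw [← ap_pow M hk, ← ap_pow N hk]
  exact h _ (by interval_cases k <;> norm_num)

theorem mu_lt (M N : ℕ) : mu M N < 65536 := by
  rw [mu_def]
  have h : ∀ x m, m < 16 → (x &&& 4369) * m < 2 ^ 16 := by
    intro x m hm
    have : (x &&& 4369) ≤ 4369 := Nat.and_le_right
    calc (x &&& 4369) * m ≤ 4369 * 15 := Nat.mul_le_mul this (by omega)
      _ < 2 ^ 16 := by norm_num
  exact Nat.xor_lt_two_pow (n := 16)
    (Nat.xor_lt_two_pow (h _ _ (col_lt _ _)) (h _ _ (col_lt _ _)))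
    (Nat.xor_lt_two_pow (h _ _ (col_lt _ _)) (h _ _ (col_lt _ _)))

/-- matrix with given columns -/
def mk (a b c d : ℕ) : ℕ := a + 16 * b + 256 * c + 4096 * d

theorem mk_lt {a b c d : ℕ} (ha : a < 16) (hb : b < 16) (hc : c < 16) (hd : d < 16) : mk a b c d < 65536 := by
  unfold mk; omega

theorem mk_col {a b c d : ℕ} (ha : a < 16) (hb : b < 16) (hc : c < 16) (hd : d < 16) :
    col (mk a b c d) 0 = a ∧ col (mk a b c d) 1 = b ∧ col (mk a b c d) 2 = c ∧ col (mk a b c d) 3 = d := by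
  have e : ∀ x k, col x k = (x / 2 ^ (4 * k)) % 16 := by
    intro x k
    unfold col
    rw [Nat.shiftRight_eq_div_pow, show 15 = 2 ^ 4 - 1 by norm_num, Nat.and_two_pow_sub_one_eq_mod]
  unfold mk
  rw [e, e, e, e]
  norm_num
  omega

theorem eq_mk {M : ℕ} (hM : M < 65536) : M = mk (col M 0) (col M 1) (col M 2) (col M 3) := by
  apply eq_of_col hM (mk_lt (col_lt _ _) (col_lt _ _) (col_lt _ _) (col_lt _ _))
  obtain ⟨h0, h1, h2, h3⟩ := mk_col (col_lt M 0) (col_lt M 1) (col_lt M 2) (col_lt M 3)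
  intro k hk
  interval_cases k
  · exact h0.symm
  · exact h1.symm
  · exact h2.symm
  · exact h3.symm

/-! ### models -/

section model

variable {Y V : Type*} [Group Y] [Group V]

/-- codes for `V` and matrices for `Y` -/
structure Model (φ : Y →* MulAut V) where
  c : V → ℕ
  m : Y → ℕ
  c_lt : ∀ v, c v < 16
  c_inj : Function.Injective c
  c_surj : ∀ a < 16, ∃ v, c v = a
  c_mul : ∀ v w, c (v * w) = c v ^^^ c w
  m_lt : ∀ y, m y < 65536
  m_ap : ∀ y v, c (φ y v) = ap (m y) (c v)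

namespace Model

variable {φ : Y →* MulAut V} (K : Model φ)

theorem c_one : K.c 1 = 0 := by
  have h := K.c_mul 1 1
  rw [mul_one, Nat.xor_self] at h
  exact h

theorem c_eq_zero {v : V} : K.c v = 0 ↔ v = 1 := by
  rw [← K.c_one]
  exact K.c_inj.eq_iff

theorem m_ap' (y : Y) {a : ℕ} (ha : a < 16) : ∀ v, K.c v = a → K.c (φ y v) = ap (K.m y) a := by
  intro v hv
  rw [K.m_ap, hv]

theorem m_mul (y z : Y) : K.m (y * z) = mu (K.m y) (K.m z) := by
  apply eq_of_ap (K.m_lt _) (mu_lt _ _)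
  intro a ha
  obtain ⟨v, rfl⟩ := K.c_surj a ha
  rw [ap_mu, ← K.m_ap, ← K.m_ap, ← K.m_ap, map_mul]
  rfl

theorem m_one : K.m 1 = 33825 := by
  apply eq_of_ap (K.m_lt _) (by norm_num)
  intro a ha
  obtain ⟨v, rfl⟩ := K.c_surj a ha
  rw [← K.m_ap, map_one]
  have h : ∀ a < 16, ap 33825 a = a := by decide
  rw [h _ (K.c_lt v)]
  rfl

theorem m_inj (hφ : Function.Injective φ) : Function.Injective K.m := by
  intro y z h
  apply hφ
  ext v
  apply K.c_inj
  rw [K.m_ap, K.m_ap, h]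

theorem ne_zero (y : Y) {a : ℕ} (ha : a < 16) (h0 : a ≠ 0) : ap (K.m y) a ≠ 0 := by
  obtain ⟨v, rfl⟩ := K.c_surj a ha
  rw [← K.m_ap]
  intro h
  rw [K.c_eq_zero] at h
  apply h0
  rw [K.c_eq_zero]
  have := (φ y).injective (h.trans (map_one (φ y)).symm)
  exact this

end Model

end model

end Cfsg.Agent.GH.GL4
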