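import Cfsg.Agent.GH.GL4Tab

/-!
# GH-C2, `GL(4,2)`: tables for the orthogonal case (machine generated, helper871)
-/

set_option autoImplicit false

namespace Cfsg.Agent.GH.GL4

def ev5w : List ℕ := [1498223176, 1248465551, 55382772, 15471663, 187372674, 333048, 174856228, 11147343, 157620466, 19472168, 7020354, 139140, 2695503, 11215236, 205304, 88941592, 11193099407, 174728433, 862239, 19671105, 1248405748, 23408404, 992554824, 15347585, 56967464, 1260994959, 19546610, 279071, 6898305, 15418104, 443172882, 187320367, 1399146737, 174673688, 1396513, 2903938, 443121967, 1933634, 7111156, 2785812, 174817871, 187269873, 19629087, 33825, 11109618, 11985915666, 711626532, 156077889, 11985875236, 187494728, 21885314, 11334168, 711586369, 2486916, 455734290, 7009320, 124122241, 15333396, 2881569, 129090]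

def od5w : List ℕ := [856655, 11080324, 162075384, 15340584, 19666063, 3020018, 27924527, 125048898, 61610228, 2826020, 158408520, 187768706, 24256840, 23929231, 225518068, 179381279, 337025, 6890744, 22947860, 11151439, 15476977, 160247576, 28061505, 23932804, 20267311, 27869570, 183583224, 61489688, 15417999, 91308785, 2705439, 187975713, 2443506, 11292434, 21909288, 6967169, 7110948, 23494991, 2785778, 24412703, 175211073, 28017396, 57771026, 28214319, 11240689, 1937172, 19500833, 7704386, 1437992, 15331650, 61206916, 19591700, 2945608, 22475393, 3535896, 61469729, 183825538, 7075858, 24246308, 225638465]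

def ev5 : List ℕ := [4680, 4751, 4852, 5167, 5250, 5368, 6180, 6223, 6386, 7976, 8002, 8068, 8527, 8580, 8696, 9240, 9359, 9457, 10271, 10305, 10484, 12052, 12104, 12161, 16680, 16783, 16882, 16927, 17025, 17144, 18450, 18479, 18673, 20248, 20257, 20354, 33071, 33090, 33268, 33300, 33359, 33521, 33823, 33825, 34034, 36626, 36644, 36673, 61732, 61768, 61826, 61976, 62017, 62084, 62482, 62504, 62593, 63508, 63521, 63554]

def od5 : List ℕ := [4687, 4740, 4856, 5160, 5263, 5362, 6191, 6210, 6388, 7972, 8008, 8066, 8520, 8591, 8692, 9247, 9345, 9464, 10260, 10319, 10481, 12056, 12097, 12164, 16687, 16770, 16888, 16920, 17039, 17137, 18463, 18465, 18674, 20242, 20264, 20353, 33060, 33103, 33266, 33311, 33345, 33524, 33810, 33839, 34033, 36628, 36641, 36674, 61736, 61762, 61828, 61972, 62024, 62081, 62488, 62497, 62594, 63506, 63524, 63553]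

end Cfsg.Agent.GH.GL4
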