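import Cfsg.Agent.GH.GL4

/-!
# Models of `Y ≤ GL(4,2)` from frames; the model adapted to an element of order five (GH-C2, helper871)
-/

set_option autoImplicit false

namespace Cfsg.Agent.GH.GL4

section frame

variable {V : Type*} [Group V]

/-- `v` or `1` -/
def pw (v : V) (b : ℕ) : V := if b = 1 then v else 1

theorem pw_zero (v : V) : pw v 0 = 1 := rfl
theorem pw_one (v : V) : pw v 1 = v := rfl

theorem pw_xor (hsq : ∀ v : V, v * v = 1) (v : V) {a b : ℕ} (ha : a = 0 ∨ a = 1) (hb : b = 0 ∨ b = 1) :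
    pw v (a ^^^ b) = pw v a * pw v b := by
  rcases ha with rfl | rfl <;> rcases hb with rfl | rfl
  · rw [Nat.xor_self, pw_zero, mul_one]
  · rw [Nat.zero_xor, pw_zero, one_mul]
  · rw [Nat.xor_zero, pw_zero, mul_one]
  · rw [Nat.xor_self, pw_zero, pw_one, hsq]

/-- the element with code `a` in the basis `v0, v1, v2, v3` -/
def dec (v0 v1 v2 v3 : V) (a : ℕ) : V :=
  (pw v0 (bt a 0) * pw v1 (bt a 1)) * (pw v2 (bt a 2) * pw v3 (bt a 3))

theorem mul_comm_of_sq (hsq : ∀ v : V, v * v = 1) (a b : V) : a * b = b * a := by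
  have hi : ∀ v : V, v⁻¹ = v := fun v => inv_eq_of_mul_eq_one_left (hsq v)
  have := hi (a * b)
  rw [mul_inv_rev, hi, hi] at this
  exact this.symm

theorem dec_xor (hsq : ∀ v : V, v * v = 1) (v0 v1 v2 v3 : V) (a b : ℕ) :
    dec v0 v1 v2 v3 (a ^^^ b) = dec v0 v1 v2 v3 a * dec v0 v1 v2 v3 b := by
  have hc := mul_comm_of_sq hsq
  unfold dec
  rw [bt_xor, bt_xor, bt_xor, bt_xor, pw_xor hsq _ (bt_cases _ _) (bt_cases _ _),
    pw_xor hsq _ (bt_cases _ _) (bt_cases _ _), pw_xor hsq _ (bt_cases _ _) (bt_cases _ _),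
    pw_xor hsq _ (bt_cases _ _) (bt_cases _ _)]
  have h4 : ∀ p q r s : V, (p * q) * (r * s) = (p * r) * (q * s) := by
    intro p q r s
    rw [mul_assoc, ← mul_assoc q r s, hc q r, mul_assoc r q s, ← mul_assoc p r]
  rw [h4 (pw v0 _), h4 (pw v2 _), h4]

theorem dec_zero (v0 v1 v2 v3 : V) : dec v0 v1 v2 v3 0 = 1 := by
  simp [dec, bt, pw]

theorem dec_basis (v0 v1 v2 v3 : V) : dec v0 v1 v2 v3 1 = v0 ∧ dec v0 v1 v2 v3 2 = v1 ∧
    dec v0 v1 v2 v3 4 = v2 ∧ dec v0 v1 v2 v3 8 = v3 := by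
  simp [dec, bt, pw]

theorem dec_fifteen (v0 v1 v2 v3 : V) : dec v0 v1 v2 v3 15 = (v0 * v1) * (v2 * v3) := by
  simp [dec, bt, pw]

theorem dec_bt (v0 v1 v2 v3 : V) (a k m : ℕ) :
    dec v0 v1 v2 v3 (bt a k * m) = pw (dec v0 v1 v2 v3 m) (bt a k) := by
  rcases bt_cases a k with h | h
  · rw [h, zero_mul, dec_zero, pw_zero]
  · rw [h, one_mul, pw_one]

/-- `dec` of an image -/
theorem dec_ap (hsq : ∀ v : V, v * v = 1) (v0 v1 v2 v3 : V) (M a : ℕ) :
    dec v0 v1 v2 v3 (ap M a) = dec (dec v0 v1 v2 v3 (col M 0)) (dec v0 v1 v2 v3 (col M 1))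
      (dec v0 v1 v2 v3 (col M 2)) (dec v0 v1 v2 v3 (col M 3)) a := by
  rw [ap_def, dec_xor hsq, dec_xor hsq, dec_xor hsq, dec_bt, dec_bt, dec_bt, dec_bt]
  rfl

theorem map_dec (f : V →* V) (v0 v1 v2 v3 : V) (a : ℕ) :
    f (dec v0 v1 v2 v3 a) = dec (f v0) (f v1) (f v2) (f v3) a := by
  have h : ∀ (v : V) (b : ℕ), f (pw v b) = pw (f v) b := by
    intro v b
    unfold pw
    split_ifs
    · rfl
    · exact map_one f
  unfold dec
  rw [map_mul, map_mul, map_mul, h, h, h, h]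

/-- codes for `V` -/
structure Frame (V : Type*) [Group V] where
  c : V → ℕ
  c_lt : ∀ v, c v < 16
  c_inj : Function.Injective c
  c_surj : ∀ a < 16, ∃ v, c v = a
  c_mul : ∀ v w, c (v * w) = c v ^^^ c w

theorem exists_frame (hV : Nat.card V = 16) (hsq : ∀ v : V, v * v = 1) (v0 v1 v2 v3 : V)
    (hker : ∀ a < 16, dec v0 v1 v2 v3 a = 1 → a = 0) :
    ∃ K : Frame V, ∀ a < 16, K.c (dec v0 v1 v2 v3 a) = a := by
  classical
  have hfin : Finite V := Nat.finite_of_card_ne_zero (by rw [hV]; norm_num)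
  let d : Fin 16 → V := fun a => dec v0 v1 v2 v3 a.1
  have hinj : Function.Injective d := by
    intro a b hab
    have h1 : dec v0 v1 v2 v3 (a.1 ^^^ b.1) = 1 := by
      rw [dec_xor hsq]
      have : dec v0 v1 v2 v3 a.1 = dec v0 v1 v2 v3 b.1 := hab
      rw [this, hsq]
    have h2 := hker _ (xor_lt a.2 b.2) h1
    exact Fin.ext (Nat.xor_eq_zero_iff.mp h2)
  have hbij : Function.Bijective d := by
    rw [Nat.bijective_iff_injective_and_card]
    exact ⟨hinj, by rw [hV, Nat.card_fin]⟩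
  let e := Equiv.ofBijective d hbij
  refine ⟨⟨fun v => (e.symm v).1, fun v => (e.symm v).2, ?_, ?_, ?_⟩, ?_⟩
  · intro v w h
    exact e.symm.injective (Fin.ext h)
  · intro a ha
    exact ⟨e ⟨a, ha⟩, by simp⟩
  · intro v w
    show (e.symm (v * w)).1 = _
    have h1 : v * w = e ⟨(e.symm v).1 ^^^ (e.symm w).1, xor_lt (e.symm v).2 (e.symm w).2⟩ := by
      show _ = dec v0 v1 v2 v3 ((e.symm v).1 ^^^ (e.symm w).1)
      rw [dec_xor hsq]
      have h2 : ∀ u, dec v0 v1 v2 v3 (e.symm u).1 = u := fun u => e.apply_symm_apply u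
      rw [h2, h2]
    rw [h1, Equiv.symm_apply_apply]
  · intro a ha
    show (e.symm (dec v0 v1 v2 v3 a)).1 = a
    have : dec v0 v1 v2 v3 a = e ⟨a, ha⟩ := rfl
    rw [this, Equiv.symm_apply_apply]

end frame

section model

variable {Y V : Type*} [Group Y] [Group V]

theorem Frame.c_one (K : Frame V) : K.c 1 = 0 := by
  have h := K.c_mul 1 1
  rw [mul_one, Nat.xor_self] at h
  exact h

theorem Frame.eq_dec (K : Frame V) {v0 v1 v2 v3 : V} (h0 : K.c v0 = 1) (h1 : K.c v1 = 2)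
    (h2 : K.c v2 = 4) (h3 : K.c v3 = 8) (v : V) : v = dec v0 v1 v2 v3 (K.c v) := by
  apply K.c_inj
  have h : ∀ (w : V) (k : ℕ), K.c (pw w (bt (K.c v) k)) = bt (K.c v) k * K.c w := by
    intro w k
    rcases bt_cases (K.c v) k with h | h
    · rw [h, pw_zero, zero_mul, K.c_one]
    · rw [h, pw_one, one_mul]
  unfold dec
  rw [K.c_mul, K.c_mul, K.c_mul, h, h, h, h, h0, h1, h2, h3]
  exact code_eq (K.c_lt v)

theorem Frame.exists_model (K : Frame V) (φ : Y →* MulAut V) : ∃ L : Model φ, L.c = K.c := by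
  obtain ⟨v0, h0⟩ := K.c_surj 1 (by norm_num)
  obtain ⟨v1, h1⟩ := K.c_surj 2 (by norm_num)
  obtain ⟨v2, h2⟩ := K.c_surj 4 (by norm_num)
  obtain ⟨v3, h3⟩ := K.c_surj 8 (by norm_num)
  refine ⟨⟨K.c, fun y => GL4.mk (K.c (φ y v0)) (K.c (φ y v1)) (K.c (φ y v2)) (K.c (φ y v3)), K.c_lt, K.c_inj,
    K.c_surj, K.c_mul, fun y => mk_lt (K.c_lt _) (K.c_lt _) (K.c_lt _) (K.c_lt _), ?_⟩, rfl⟩
  intro y v
  obtain ⟨e0, e1, e2, e3⟩ := mk_col (K.c_lt (φ y v0)) (K.c_lt (φ y v1)) (K.c_lt (φ y v2)) (K.c_lt (φ y v3))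
  rw [ap_def, e0, e1, e2, e3]
  have h : ∀ (w : V) (k : ℕ), K.c (pw w (bt (K.c v) k)) = bt (K.c v) k * K.c w := by
    intro w k
    rcases bt_cases (K.c v) k with h | h
    · rw [h, pw_zero, zero_mul, K.c_one]
    · rw [h, pw_one, one_mul]
  have hv := K.eq_dec h0 h1 h2 h3 v
  have hm : φ y (dec v0 v1 v2 v3 (K.c v)) = dec (φ y v0) (φ y v1) (φ y v2) (φ y v3) (K.c v) :=
    map_dec (φ y).toMonoidHom v0 v1 v2 v3 (K.c v)
  rw [← hv] at hm
  rw [hm]
  unfold dec
  rw [K.c_mul, K.c_mul, K.c_mul, h, h, h, h]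

/-- the fixed points of an element of order five are trivial -/
theorem fixed_five {φ : Y →* MulAut V} (hφ : Function.Injective φ) (hV : Nat.card V = 16) {x : Y}
    (hx5 : x ^ 5 = 1) (hx : x ≠ 1) {v : V} (hv : φ x v = v) : v = 1 := by
  classical
  have hfin : Finite V := Nat.finite_of_card_ne_zero (by rw [hV]; norm_num)
  haveI : Fact (Nat.Prime 5) := ⟨by norm_num⟩
  have hord : orderOf x = 5 := orderOf_eq_prime hx5 hx
  let Z := Subgroup.zpowers x
  have hZ : Nat.card Z = 5 := by rw [Nat.card_zpowers, hord]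
  letI : MulAction Z V := MulAction.compHom V (φ.comp Z.subtype)
  have hsmul : ∀ (z : Z) (w : V), z • w = φ z.1 w := fun z w => rfl
  have hp : IsPGroup 5 Z := IsPGroup.of_card (n := 1) (by rw [hZ]; norm_num)
  have hmod := hp.card_modEq_card_fixedPoints V
  let C : Subgroup V :=
    { carrier := {w | φ x w = w}
      mul_mem' := by
        intro a b ha hb
        show φ x (a * b) = a * b
        rw [map_mul, show φ x a = a from ha, show φ x b = b from hb]
      one_mem' := map_one _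
      inv_mem' := by
        intro a ha
        show φ x a⁻¹ = a⁻¹
        rw [map_inv, show φ x a = a from ha] }
  have hfix : ∀ w : V, w ∈ MulAction.fixedPoints Z V ↔ w ∈ C := by
    intro w
    constructor
    · intro h
      exact h ⟨x, Subgroup.mem_zpowers x⟩
    · intro h z
      rw [hsmul]
      obtain ⟨k, hk⟩ := Subgroup.mem_zpowers_iff.mp z.2
      rw [← hk, map_zpow]
      have h1 : φ x ∈ MulAction.stabilizer (MulAut V) w := by
        rw [MulAction.mem_stabilizer_iff]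
        exact h
      have h2 := (MulAction.stabilizer (MulAut V) w).zpow_mem h1 k
      rw [MulAction.mem_stabilizer_iff] at h2
      exact h2
  have hcard : Nat.card (MulAction.fixedPoints Z V) = Nat.card C :=
    Nat.card_congr (Equiv.subtypeEquivRight hfix)
  rw [hcard, hV] at hmod
  have hdvd : Nat.card C ∣ 16 := hV ▸ Subgroup.card_subgroup_dvd_card C
  have hle : Nat.card C ≤ 16 := Nat.le_of_dvd (by norm_num) hdvd
  have hpos : 0 < Nat.card C := Nat.card_pos
  have hcases : Nat.card C = 1 ∨ Nat.card C = 16 := by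
    unfold Nat.ModEq at hmod
    generalize Nat.card C = n at *
    interval_cases n <;> simp_all
  rcases hcases with h1 | h1
  · have h2 : C = ⊥ := Subgroup.eq_bot_of_card_eq C h1
    have h3 : v ∈ C := hv
    rw [h2] at h3
    exact Subgroup.mem_bot.mp h3
  · have h2 : C = ⊤ := Subgroup.eq_top_of_card_eq C (by rw [h1, hV])
    exfalso
    apply hx
    apply hφ
    rw [map_one]
    ext w
    have h3 : w ∈ C := by rw [h2]; trivial
    exact h3

def comb (s a : ℕ) : ℕ := ((bt s 0 * a) ^^^ (bt s 1 * ap 63554 a)) ^^^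
  ((bt s 2 * ap 63554 (ap 63554 a)) ^^^ (bt s 3 * ap 63554 (ap 63554 (ap 63554 a))))

theorem comb_check : ∀ a < 16, a ≠ 0 → ∃ s < 16, comb s a = 1 := by decide +kernel

/-- a model adapted to an element of order five and a vector -/
theorem exists_model_five {φ : Y →* MulAut V} (hφ : Function.Injective φ) (hV : Nat.card V = 16)
    (hsq : ∀ v : V, v * v = 1) {x : Y} (hx5 : x ^ 5 = 1) (hx : x ≠ 1) {v : V} (hv : v ≠ 1) :
    ∃ K : Model φ, K.m x = 63554 ∧ K.c v = 1 := by
  have hc := mul_comm_of_sq hsq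
  let A : V →* V := (φ x).toMonoidHom
  have hA : ∀ w, φ x w = A w := fun w => rfl
  have hA5 : ∀ w, A (A (A (A (A w)))) = w := by
    intro w
    show φ x (φ x (φ x (φ x (φ x w)))) = w
    have h : φ (x ^ 5) w = w := by rw [hx5, map_one]; rfl
    rw [map_pow] at h
    exact h
  have hfour : A (A (A (A v))) = (v * A v) * (A (A v) * A (A (A v))) := by
    have h1 : ((v * A v) * (A (A v) * A (A (A v)))) * A (A (A (A v))) = 1 := by
      apply fixed_five hφ hV hx5 hx
      rw [hA, map_mul, map_mul, map_mul, map_mul, hA5]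
      rw [mul_comm_of_sq hsq _ v]
      simp only [mul_assoc]
    have h2 := hsq (A (A (A (A v))))
    exact mul_right_cancel (h2.trans h1.symm)
  have hdA : ∀ a, A (dec v (A v) (A (A v)) (A (A (A v))) a) = dec v (A v) (A (A v)) (A (A (A v))) (ap 63554 a) := by
    intro a
    rw [map_dec, dec_ap hsq]
    have e0 : col 63554 0 = 2 := rfl
    have e1 : col 63554 1 = 4 := rfl
    have e2 : col 63554 2 = 8 := rfl
    have e3 : col 63554 3 = 15 := rfl
    obtain ⟨d0, d1, d2, d3⟩ := dec_basis v (A v) (A (A v)) (A (A (A v)))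
    rw [e0, e1, e2, e3, d1, d2, d3, dec_fifteen, hfour]
  have hker : ∀ a < 16, dec v (A v) (A (A v)) (A (A (A v))) a = 1 → a = 0 := by
    intro a ha h
    by_contra h0
    obtain ⟨s, hs, hsa⟩ := comb_check a ha h0
    have h1 : dec v (A v) (A (A v)) (A (A (A v))) (ap 63554 a) = 1 := by rw [← hdA, h, map_one]
    have h2 : dec v (A v) (A (A v)) (A (A (A v))) (ap 63554 (ap 63554 a)) = 1 := by rw [← hdA, h1, map_one]
    have h3 : dec v (A v) (A (A v)) (A (A (A v))) (ap 63554 (ap 63554 (ap 63554 a))) = 1 := by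
      rw [← hdA, h2, map_one]
    have h4 : dec v (A v) (A (A v)) (A (A (A v))) (comb s a) = 1 := by
      unfold comb
      have hp : ∀ b, pw (1 : V) b = 1 := by intro b; unfold pw; split_ifs <;> rfl
      rw [dec_xor hsq, dec_xor hsq, dec_xor hsq, dec_bt, dec_bt, dec_bt, dec_bt, h, h1, h2, h3, hp, hp, hp, hp]
      simp
    rw [hsa, (dec_basis v (A v) (A (A v)) (A (A (A v)))).1] at h4
    exact hv h4
  obtain ⟨F, hF⟩ := exists_frame hV hsq v (A v) (A (A v)) (A (A (A v))) hker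
  obtain ⟨K, hK⟩ := F.exists_model φ
  have hKc : ∀ a < 16, K.c (dec v (A v) (A (A v)) (A (A (A v))) a) = a := by rw [hK]; exact hF
  refine ⟨K, ?_, ?_⟩
  · apply eq_of_ap (K.m_lt _) (by norm_num)
    intro a ha
    rw [← hKc _ (ap_lt 63554 a), ← hdA]
    have := K.m_ap x (dec v (A v) (A (A v)) (A (A (A v))) a)
    rw [hKc a ha] at this
    rw [← this]
    rfl
  · have := hKc 1 (by norm_num)
    rw [(dec_basis v (A v) (A (A v)) (A (A (A v)))).1] at this
    exact this

end model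

end Cfsg.Agent.GH.GL4
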