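import Cfsg.Agent.GH.GL4Tab
import Cfsg.Agent.GH.GL4Frame

/-!
# Subgroups of `GL(4,2)` containing an element of order five: the trichotomy (GH-C2, helper871)
-/

set_option autoImplicit false

namespace Cfsg.Agent.GH.GL4

variable {Y V : Type*} [Group Y] [Group V] {φ : Y →* MulAut V}

namespace Model

variable (K : Model φ)

/-- `M` is the matrix of an element of `Y` -/
def Has (M : ℕ) : Prop := ∃ y, K.m y = M

theorem has_mu {a b : ℕ} (ha : K.Has a) (hb : K.Has b) : K.Has (mu a b) := by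
  obtain ⟨y, rfl⟩ := ha
  obtain ⟨z, rfl⟩ := hb
  exact ⟨y * z, K.m_mul y z⟩

theorem m_pow {x : Y} (hx : K.m x = 63554) : ∀ i < 5, K.m (x ^ i) = xp i := by
  intro i hi
  have h0 : K.m (x ^ 0) = 33825 := by rw [pow_zero]; exact K.m_one
  have h1 : K.m (x ^ 1) = 63554 := by rw [pow_one]; exact hx
  have h2 : K.m (x ^ 2) = 8068 := by rw [pow_succ, K.m_mul, h1, hx]; decide
  have h3 : K.m (x ^ 3) = 8696 := by rw [pow_succ, K.m_mul, h2, hx]; decide
  have h4 : K.m (x ^ 4) = 16927 := by rw [pow_succ, K.m_mul, h3, hx]; decide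
  interval_cases i
  · exact h0
  · exact h1
  · exact h2
  · exact h3
  · exact h4

theorem has_xp {x : Y} (hx : K.m x = 63554) (d : ℕ) : K.Has (xp d) := by
  by_cases h : d < 5
  · exact ⟨_, K.m_pow hx d h⟩
  · have : xp d = xp 4 := by
      unfold xp
      have e1 : Nat.beq d 1 = false := by
        rw [Bool.eq_false_iff]; intro h1; have := Nat.eq_of_beq_eq_true h1; omega
      have e2 : Nat.beq d 2 = false := by
        rw [Bool.eq_false_iff]; intro h1; have := Nat.eq_of_beq_eq_true h1; omega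
      have e3 : Nat.beq d 3 = false := by
        rw [Bool.eq_false_iff]; intro h1; have := Nat.eq_of_beq_eq_true h1; omega
      have e0 : Nat.beq d 0 = false := by
        rw [Bool.eq_false_iff]; intro h1; have := Nat.eq_of_beq_eq_true h1; omega
      rw [e1, e2, e3, e0]
      rfl
    rw [this]
    exact ⟨_, K.m_pow hx 4 (by norm_num)⟩

theorem has_ev {x : Y} (hx : K.m x = 63554) {M N : ℕ} (hM : K.Has M) (hN : K.Has N) (n w : ℕ) :
    K.Has (ev M N n w 33825) :=
  ev_closed K.Has (fun _ _ ha hb => K.has_mu ha hb) (K.has_xp hx) hM hN n w _ ⟨1, K.m_one⟩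

theorem m_inv_mul (y : Y) : mu (K.m y⁻¹) (K.m y) = 33825 := by
  rw [← K.m_mul, inv_mul_cancel, K.m_one]

end Model

theorem pres_spec {j M : ℕ} (h : pres j M = true) {a : ℕ} (ha : a < 16) (hO : inO j a = true) :
    inO j (ap M a) = true := by
  have := allLT_spec h a ha
  rw [hO] at this
  exact this

theorem pres_of {j M : ℕ} (h : ∀ a < 16, inO j a = true → inO j (ap M a) = true) : pres j M = true := by
  have key : ∀ (n : ℕ) (p : ℕ → Bool), (∀ k < n, p k = true) → allLT n p = true := by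
    intro n p
    induction n with
    | zero => intro _; rfl
    | succ n ih =>
      intro hk
      show (p n && allLT n p) = true
      rw [Bool.and_eq_true]
      exact ⟨hk n (Nat.lt_succ_self n), ih fun k h => hk k (Nat.lt_succ_of_lt h)⟩
  apply key
  intro a ha
  cases hO : inO j a
  · rfl
  · exact h a ha hO

theorem inO_shift : ∀ j < 4, ∀ a < 16, inO j a = inO j (ap 63554 a) := by decide +kernel

theorem first_col : ∀ a < 16, a ≠ 0 → ∃ i < 5, ap (xp i) a = 1 ∨ ap (xp i) a = 3 ∨ ap (xp i) a = 5 := by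
  decide +kernel

namespace Model

variable (K : Model φ)

theorem inO_pow {x : Y} (hx : K.m x = 63554) {j : ℕ} (hj : j < 4) (i : ℕ) (v : V) :
    inO j (K.c (φ (x ^ i) v)) = inO j (K.c v) := by
  induction i generalizing v with
  | zero => rw [pow_zero, map_one]; rfl
  | succ i ih =>
    rw [pow_succ, map_mul]
    show inO j (K.c (φ (x ^ i) (φ x v))) = _
    rw [ih, K.m_ap, hx]
    exact (inO_shift j hj _ (K.c_lt v)).symm

/-- every element of `Y` permutes the vectors with code in `O_j` -/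
theorem pres_iff {j : ℕ} (y : Y) :
    pres j (K.m y) = true ↔ ∀ v, inO j (K.c v) = true → inO j (K.c (φ y v)) = true := by
  constructor
  · intro h v hv
    rw [K.m_ap]
    exact pres_spec h (K.c_lt v) hv
  · intro h
    apply pres_of
    intro a ha hO
    obtain ⟨v, rfl⟩ := K.c_surj a ha
    rw [← K.m_ap]
    exact h v hO

/-- one element -/
theorem alt (hφ : Function.Injective φ) {x : Y} (hx : K.m x = 63554) (y : Y) :
    (∃ k, 1 ≤ k ∧ k ≤ 4 ∧ y * x = x ^ k * y) ∨ K.Has 22833 ∨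
    (∃ j, 1 ≤ j ∧ j ≤ 3 ∧ pres j (K.m y) = true ∧ K.Has (gen j)) := by
  have hc0 : ap (K.m y) 1 ≠ 0 := K.ne_zero y (by norm_num) (by norm_num)
  obtain ⟨i, hi, hcol⟩ := first_col _ (ap_lt _ _) hc0
  have hcol' : col (K.m (x ^ i * y)) 0 = ap (xp i) (ap (K.m y) 1) := by
    rw [← ap_pow _ (by norm_num), K.m_mul, ap_mu, K.m_pow hx i hi]
    rfl
  rw [← hcol'] at hcol
  have hy' : K.Has (K.m (x ^ i * y)) := ⟨_, rfl⟩
  rcases table (K.m_lt _) hcol with ⟨a, ha1, ha2, ha3⟩ | ⟨k, hk1, hk4, hk⟩ | ⟨w, hw⟩ | ⟨j, hj1, hj3, hp, w, hw⟩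
  · exact absurd ha3 (K.ne_zero _ (by omega) (by omega))
  · left
    refine ⟨k, hk1, hk4, ?_⟩
    have h1 : x ^ i * y * x = x ^ k * (x ^ i * y) := by
      apply K.m_inj hφ
      rw [K.m_mul, K.m_mul (x ^ k), hx, hk, K.m_pow hx k (by omega)]
    have h2 : x ^ i * (y * x) = x ^ i * (x ^ k * y) := by
      rw [← mul_assoc, h1, ← mul_assoc, ← mul_assoc, (Commute.pow_pow_self x k i).eq]
    exact mul_left_cancel h2
  · right; left
    obtain ⟨w', hw'⟩ := inL_spec chkW_tn hw
    rw [← hw']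
    exact K.has_ev hx (K.has_ev hx hy' hy' _ _) (K.has_ev hx hy' hy' _ _) _ _
  · right; right
    refine ⟨j, hj1, hj3, ?_, ?_⟩
    · rw [K.pres_iff] at hp ⊢
      intro v hv
      have h1 := hp v hv
      rw [map_mul] at h1
      have h2 := K.inO_pow hx (j := j) (by omega) i (φ y v)
      rw [← h2]
      exact h1
    · obtain ⟨w', hw'⟩ := tow_spec j hw
      rw [← hw']
      exact K.has_ev hx (K.has_ev hx hy' hy' _ _) (K.has_ev hx hy' hy' _ _) _ _

theorem pair {x : Y} (hx : K.m x = 63554) {j k : ℕ} (hj1 : 1 ≤ j) (hj3 : j ≤ 3) (hk1 : 1 ≤ k) (hk3 : k ≤ 3)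
    (hjk : j ≠ k) (hj : K.Has (gen j)) (hk : K.Has (gen k)) : K.Has 22833 := by
  have hp := pair_check
  rw [Bool.and_eq_true, Bool.and_eq_true] at hp
  have key : ∀ a b w : ℕ, K.Has a → K.Has b → inL tnw (ev a b 5 w 33825) = true → K.Has 22833 := by
    intro a b w ha hb h
    obtain ⟨w', hw'⟩ := inL_spec chkW_tn h
    rw [← hw']
    exact K.has_ev hx (K.has_ev hx ha hb _ _) (K.has_ev hx ha hb _ _) _ _
  have g1 : gen 1 = 5368 := rfl
  have g2 : gen 2 = 18621 := rfl
  have g3 : gen 3 = 5064 := rfl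
  interval_cases j <;> interval_cases k
  · exact absurd rfl hjk
  · exact key _ _ _ hj hk hp.1
  · exact key _ _ _ hj hk hp.2.1
  · exact key _ _ _ hk hj hp.1
  · exact absurd rfl hjk
  · exact key _ _ _ hj hk hp.2.2
  · exact key _ _ _ hk hj hp.2.1
  · exact key _ _ _ hk hj hp.2.2
  · exact absurd rfl hjk

theorem x_five (hφ : Function.Injective φ) {x : Y} (hx : K.m x = 63554) : x ^ 5 = 1 := by
  apply K.m_inj hφ
  rw [pow_succ, K.m_mul, K.m_pow hx 4 (by norm_num), hx, K.m_one]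
  decide

theorem x_ne {x : Y} (hx : K.m x = 63554) : x ≠ 1 := by
  rintro rfl
  rw [K.m_one] at hx
  exact absurd hx (by norm_num)

end Model

/-- the elements normalising `⟨x⟩` -/
def HG {x : Y} (hx5 : x ^ 5 = 1) : Subgroup Y where
  carrier := {y | ∃ k, 1 ≤ k ∧ k ≤ 4 ∧ y * x = x ^ k * y}
  one_mem' := ⟨1, by norm_num, by norm_num, by rw [pow_one, one_mul, mul_one]⟩
  mul_mem' := by
    rintro y z ⟨k, hk1, hk4, hk⟩ ⟨l, hl1, hl4, hl⟩
    have hpow : ∀ n : ℕ, y * x ^ n = x ^ (k * n) * y := by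
      intro n
      induction n with
      | zero => rw [Nat.mul_zero, pow_zero, one_mul, mul_one]
      | succ n ih => rw [pow_succ, ← mul_assoc, ih, mul_assoc, hk, ← mul_assoc, ← pow_add, Nat.mul_succ]
    refine ⟨(k * l) % 5, ?_, ?_, ?_⟩
    · interval_cases k <;> interval_cases l <;> norm_num
    · have := Nat.mod_lt (k * l) (show 0 < 5 by norm_num); omega
    · have h1 : x ^ ((k * l) % 5) = x ^ (k * l) := by
        conv_rhs => rw [← Nat.div_add_mod (k * l) 5, pow_add, pow_mul, hx5, one_pow, one_mul]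
      rw [mul_assoc, hl, ← mul_assoc, hpow, h1, mul_assoc]
  inv_mem' := by
    rintro y ⟨k, hk1, hk4, hk⟩
    have hpow : ∀ n : ℕ, y * x ^ n = x ^ (k * n) * y := by
      intro n
      induction n with
      | zero => rw [Nat.mul_zero, pow_zero, one_mul, mul_one]
      | succ n ih => rw [pow_succ, ← mul_assoc, ih, mul_assoc, hk, ← mul_assoc, ← pow_add, Nat.mul_succ]
    have hl : ∃ l, 1 ≤ l ∧ l ≤ 4 ∧ (k * l) % 5 = 1 := by
      interval_cases k
      · exact ⟨1, by norm_num⟩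
      · exact ⟨3, by norm_num⟩
      · exact ⟨2, by norm_num⟩
      · exact ⟨4, by norm_num⟩
    obtain ⟨l, hl1, hl4, hl⟩ := hl
    refine ⟨l, hl1, hl4, ?_⟩
    have h1 : x ^ (k * l) = x := by
      conv_lhs => rw [← Nat.div_add_mod (k * l) 5, pow_add, pow_mul, hx5, one_pow, one_mul, hl, pow_one]
    have h2 := hpow l
    rw [h1] at h2
    rw [eq_comm, mul_inv_eq_iff_eq_mul, mul_assoc, ← h2, inv_mul_cancel_left]

theorem mem_HG {x : Y} (hx5 : x ^ 5 = 1) {y : Y} :
    y ∈ HG hx5 ↔ ∃ k, 1 ≤ k ∧ k ≤ 4 ∧ y * x = x ^ k * y := Iff.rfl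

namespace Model

variable (K : Model φ)

/-- the trichotomy -/
theorem five_cases (hφ : Function.Injective φ) {x : Y} (hx : K.m x = 63554) (hx5 : x ^ 5 = 1) :
    (∀ y, y ∈ HG hx5) ∨ K.Has 22833 ∨
    (∃ j, 1 ≤ j ∧ j ≤ 3 ∧ (∀ y, pres j (K.m y) = true) ∧ ∃ y, y ∉ HG hx5) := by
  by_cases hH : ∀ y, y ∈ HG hx5
  · exact Or.inl hH
  by_cases hN : K.Has 22833
  · exact Or.inr (Or.inl hN)
  right; right
  rw [not_forall] at hH
  obtain ⟨y1, hy1⟩ := hH
  rcases K.alt hφ hx y1 with h | h | ⟨j, hj1, hj3, hp, hg⟩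
  · exact absurd h hy1
  · exact absurd h hN
  refine ⟨j, hj1, hj3, ?_, y1, hy1⟩
  -- an element outside `H` preserves `O_j`
  have key : ∀ y, y ∉ HG hx5 → pres j (K.m y) = true := by
    intro y hy
    rcases K.alt hφ hx y with h | h | ⟨k, hk1, hk3, hpk, hgk⟩
    · exact absurd h hy
    · exact absurd h hN
    · by_cases hjk : j = k
      · rw [hjk]; exact hpk
      · exact absurd (K.pair hx hj1 hj3 hk1 hk3 hjk hg hgk) hN
  intro y
  by_cases hy : y ∈ HG hx5
  · have h1 : y1 * y ∉ HG hx5 := fun h => hy1 (((HG hx5).mul_mem_cancel_right hy).mp h)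
    have h2 : y1⁻¹ ∉ HG hx5 := fun h => hy1 (by simpa using (HG hx5).inv_mem h)
    have h3 := key _ h1
    have h4 := key _ h2
    rw [K.pres_iff] at h3 h4 ⊢
    intro v hv
    have h5 := h4 _ (h3 v hv)
    have h6 : φ y1⁻¹ (φ (y1 * y) v) = φ y v := by
      rw [← MulAut.mul_apply, ← map_mul, inv_mul_cancel_left]
    rw [h6] at h5
    exact h5
  · exact key y hy

end Model

end Cfsg.Agent.GH.GL4
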