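import Cfsg.Agent.GH.GL4Five
import Cfsg.Agent.GH.C2GrowG

/-!
# Subgroups of `GL(4,2)` containing the natural `A₅` (GH-C2, helper871)

Output: `NatD` (the four-group `⟨a, d a d⁻¹⟩`) and the cases (N1), (N2), (N3).
-/

set_option autoImplicit false

namespace Cfsg.Agent.GH.GL4

open Subgroup

variable {Y V : Type*} [Group Y] [Group V] {φ : Y →* MulAut V}

/-- The four-group `⟨a, d a d⁻¹⟩` of the natural `A₅` on `V`, `U = C_V(F) = [V, F]`. -/
structure NatD (φ : Y →* MulAut V) (U : Subgroup V) (a d : Y) : Prop where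
  cardU : Nat.card U = 4
  d3 : d * d * d = 1
  fpf : ∀ v, φ d v = v → v = 1
  dU : ∀ u ∈ U, φ d u ∈ U
  a_ne : a ≠ 1
  aa : a * a = 1
  prod : a * (d * a * d⁻¹) * (d * (d * a * d⁻¹) * d⁻¹) = 1
  comm : a * (d * a * d⁻¹) = (d * a * d⁻¹) * a
  ne : a ≠ d * a * d⁻¹
  fa : ∀ v, φ a v = v ↔ v ∈ U
  ca : ∀ v, φ a v * v⁻¹ ∈ U
  sur : ∀ u ∈ U, ∃ v, φ a v * v⁻¹ = u

/-! ### the table -/

def inF (M : ℕ) : Bool := Nat.beq M 33825 || (Nat.beq M 22833 || (Nat.beq M 38369 || Nat.beq M 18673))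

def conjF (M f : ℕ) : Bool := Nat.beq (mu M f) (mu 22833 M) || (Nat.beq (mu M f) (mu 38369 M) ||
  Nat.beq (mu M f) (mu 18673 M))

def tT (T : ℕ) : Bool := Nat.beq (mu T T) 33825 && (Nat.beq (mu T 9133) (mu 42892 T) &&
  ((Nat.beq (mu T 22833) (mu 22833 T) || (Nat.beq (mu T 38369) (mu 38369 T) ||
    Nat.beq (mu T 18673) (mu 18673 T))) && !(Nat.beq (ap T 1) 1 && Nat.beq (ap T 12) 12)))

def t0T (T : ℕ) : Bool := Nat.beq (mu T T) 33825 && (Nat.beq (mu T 9133) (mu 9133 T) &&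
  (Nat.beq (mu T 22833) (mu 22833 T) && (Nat.beq (ap T 1) 1 && Nat.beq (ap T 12) 12)))

def okT (T : ℕ) : Bool := tT T || t0T T

def okA (M : ℕ) : Bool :=
  bif (conjF M 22833 && conjF M 38369) && (inF (mu M M) && !(inF M)) then
    okT M || (okT (mu 22833 M) || (okT (mu 38369 M) || okT (mu 18673 M)))
  else true

def lU : List ℕ := [1, 12, 13]

theorem okA_check : (lU.all fun c0 => allLT 16 fun c1 => allLT 16 fun c2 => lU.all fun w =>
    okA (Nat.add c0 (Nat.add (Nat.mul 16 c1) (Nat.add (Nat.mul 256 c2) (Nat.mul 4096 (Nat.xor c2 w)))))) = true := by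
  decide +kernel

theorem okA_spec {M : ℕ} (hM : M < 65536) (h1 : ap M 1 ∈ lU) (h2 : ap M 12 ∈ lU) : okA M = true := by
  have h := okA_check
  rw [List.all_eq_true] at h
  have h' := List.all_eq_true.mp (allLT_spec (allLT_spec (h _ h1) (col M 1) (col_lt _ _)) (col M 2) (col_lt _ _))
    _ h2
  have e3 : (col M 2) ^^^ (ap M 12) = col M 3 := by
    have e : ap M 12 = col M 2 ^^^ col M 3 := by
      have : (12 : ℕ) = 4 ^^^ 8 := rfl
      rw [this, ap_xor]
      have a1 := ap_pow M (k := 2) (by norm_num)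
      have a2 := ap_pow M (k := 3) (by norm_num)
      norm_num at a1 a2
      rw [a1, a2]
    rw [e, ← Nat.xor_assoc, Nat.xor_self, Nat.zero_xor]
  have e0 : ap M 1 = col M 0 := by
    have a1 := ap_pow M (k := 0) (by norm_num)
    norm_num at a1
    exact a1
  have e : ap M 1 + (16 * col M 1 + (256 * col M 2 + 4096 * (col M 2 ^^^ ap M 12))) = M := by
    rw [e3, e0]
    have h1 := eq_mk hM
    unfold GL4.mk at h1
    omega
  have h'' : okA (ap M 1 + (16 * col M 1 + (256 * col M 2 + 4096 * (col M 2 ^^^ ap M 12)))) = true := h'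
  rwa [e] at h''

/-! ### action on `U` -/

/-- image of `a ∈ U` if `1 ↦ p`, `12 ↦ q` -/
def ua (p q a : ℕ) : ℕ := if a = 1 then p else if a = 12 then q else p ^^^ q

theorem ap_ua (M : ℕ) : ∀ a ∈ lU, ap M a = ua (ap M 1) (ap M 12) a := by
  intro a ha
  simp only [lU, List.mem_cons, List.not_mem_nil, or_false] at ha
  rcases ha with rfl | rfl | rfl
  · rfl
  · rfl
  · have : (13 : ℕ) = 1 ^^^ 12 := rfl
    rw [this, ap_xor]
    rfl

def trOK (p q p' q' : ℕ) : Bool :=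
  bif (Nat.beq (ua p q p) 1 && Nat.beq (ua p q q) 12 && !(Nat.beq p 1 && Nat.beq q 12) &&
    Nat.beq (ua p' q' p') 1 && Nat.beq (ua p' q' q') 12 && !(Nat.beq p' 1 && Nat.beq q' 12) &&
    Nat.beq (ua p q (ua p' q' (ua p q p'))) 1 && Nat.beq (ua p q (ua p' q' (ua p q q'))) 12) then
    Nat.beq (ua p q p') 1 && Nat.beq (ua p q q') 12 else true

theorem trOK_check : (lU.all fun p => lU.all fun q => lU.all fun p' => lU.all fun q' => trOK p q p' q') = true := by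
  decide +kernel

theorem tr_lemma {p q p' q' : ℕ} (hp : p ∈ lU) (hq : q ∈ lU) (hp' : p' ∈ lU) (hq' : q' ∈ lU)
    (h1 : ua p q p = 1) (h2 : ua p q q = 12) (h3 : ¬ (p = 1 ∧ q = 12)) (h4 : ua p' q' p' = 1)
    (h5 : ua p' q' q' = 12) (h6 : ¬ (p' = 1 ∧ q' = 12)) (h7 : ua p q (ua p' q' (ua p q p')) = 1)
    (h8 : ua p q (ua p' q' (ua p q q')) = 12) : ua p q p' = 1 ∧ ua p q q' = 12 := by
  have h := List.all_eq_true.mp (List.all_eq_true.mp (List.all_eq_true.mp (List.all_eq_true.mp trOK_check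
    p hp) q hq) p' hp') q' hq'
  unfold trOK at h
  have e3 : (Nat.beq p 1 && Nat.beq q 12) = false := by
    rw [Bool.eq_false_iff]
    intro h9
    rw [Bool.and_eq_true] at h9
    exact h3 ⟨Nat.eq_of_beq_eq_true h9.1, Nat.eq_of_beq_eq_true h9.2⟩
  have e6 : (Nat.beq p' 1 && Nat.beq q' 12) = false := by
    rw [Bool.eq_false_iff]
    intro h9
    rw [Bool.and_eq_true] at h9
    exact h6 ⟨Nat.eq_of_beq_eq_true h9.1, Nat.eq_of_beq_eq_true h9.2⟩
  rw [h1, h2, e3, h4, h5, e6, h7, h8] at h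
  simp only [Nat.beq_refl, Bool.not_false, Bool.and_true, cond_true, Bool.and_eq_true] at h
  exact ⟨Nat.eq_of_beq_eq_true h.1, Nat.eq_of_beq_eq_true h.2⟩

theorem four_lemma : ∀ p ∈ lU, ∀ q ∈ lU, p ≠ q → ua p q (ua p q (ua p q p)) = 1 →
    ua p q (ua p q (ua p q q)) = 12 → ua p q p = 1 ∧ ua p q q = 12 := by decide +kernel

/-! ### cardinalities from codes -/

theorem card_of_codes {α : Type*} (f : α → ℕ) (hf : Function.Injective f) (l : List ℕ) (hl : l.Nodup)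
    (A : Set α) (h : ∀ x, x ∈ A ↔ f x ∈ l) (h2 : ∀ n ∈ l, ∃ x, f x = n) : Nat.card A = l.length := by
  classical
  have e : A ≃ {n // n ∈ l.toFinset} := by
    refine Equiv.ofBijective (fun x => ⟨f x.1, by rw [List.mem_toFinset]; exact (h x.1).mp x.2⟩) ⟨?_, ?_⟩
    · intro x y hxy
      exact Subtype.ext (hf (congrArg Subtype.val hxy))
    · rintro ⟨n, hn⟩
      rw [List.mem_toFinset] at hn
      obtain ⟨x, hx⟩ := h2 n hn
      exact ⟨⟨x, (h x).mpr (by rw [hx]; exact hn)⟩, Subtype.ext hx⟩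
  rw [Nat.card_congr e, Nat.card_eq_fintype_card, Fintype.card_coe, List.toFinset_card_of_nodup hl]

namespace Model

variable (K : Model φ)

include K in
theorem sq_one (v : V) : v * v = 1 := by
  rw [← K.c_eq_zero, K.c_mul, Nat.xor_self]

include K in
theorem inv_eq (v : V) : v⁻¹ = v := inv_eq_of_mul_eq_one_left (K.sq_one v)

/-- subgroup of `V` with given codes -/
def subV (l : List ℕ) (h0 : 0 ∈ l) (hl : ∀ a ∈ l, ∀ b ∈ l, a ^^^ b ∈ l) : Subgroup V where
  carrier := {v | K.c v ∈ l}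
  one_mem' := by
    show K.c 1 ∈ l
    rw [K.c_one]
    exact h0
  mul_mem' := by
    intro a b ha hb
    show K.c (a * b) ∈ l
    rw [K.c_mul]
    exact hl _ ha _ hb
  inv_mem' := by
    intro a ha
    show K.c a⁻¹ ∈ l
    rw [K.inv_eq]
    exact ha

/-- subgroup of `Y` with given codes, `Y` finite -/
def subY [Finite Y] (l : List ℕ) (h0 : 33825 ∈ l) (hl : ∀ a ∈ l, ∀ b ∈ l, mu a b ∈ l) : Subgroup Y where
  carrier := {y | K.m y ∈ l}
  one_mem' := by
    show K.m 1 ∈ l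
    rw [K.m_one]
    exact h0
  mul_mem' := by
    intro a b ha hb
    show K.m (a * b) ∈ l
    rw [K.m_mul]
    exact hl _ ha _ hb
  inv_mem' := by
    intro y hy
    show K.m y⁻¹ ∈ l
    have hpow : ∀ n : ℕ, K.m (y ^ (n + 1)) ∈ l := by
      intro n
      induction n with
      | zero => rw [zero_add, pow_one]; exact hy
      | succ n ih => rw [pow_succ, K.m_mul]; exact hl _ ih _ hy
    have h1 : 0 < orderOf y := orderOf_pos y
    have h2 : y⁻¹ = y ^ (orderOf y - 1) := by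
      rw [inv_eq_iff_mul_eq_one, ← pow_succ', Nat.sub_add_cancel h1, pow_orderOf_eq_one]
    rw [h2]
    by_cases h3 : orderOf y - 1 = 0
    · rw [h3, pow_zero, K.m_one]
      exact h0
    · have h4 : orderOf y - 1 = (orderOf y - 2) + 1 := by omega
      rw [h4]
      exact hpow _

theorem mem_subY [Finite Y] {l : List ℕ} {h0 : 33825 ∈ l} {hl : ∀ a ∈ l, ∀ b ∈ l, mu a b ∈ l} {y : Y} :
    y ∈ K.subY l h0 hl ↔ K.m y ∈ l := Iff.rfl

theorem mem_subV {l : List ℕ} {h0 : 0 ∈ l} {hl : ∀ a ∈ l, ∀ b ∈ l, a ^^^ b ∈ l} {v : V} :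
    v ∈ K.subV l h0 hl ↔ K.c v ∈ l := Iff.rfl

end Model

def lU0 : List ℕ := [0, 1, 12, 13]

def lF : List ℕ := [33825, 22833, 38369, 18673]

def lF1 : List ℕ := [22833, 38369, 18673]

theorem lU0_xor : ∀ a ∈ lU0, ∀ b ∈ lU0, a ^^^ b ∈ lU0 := by decide
theorem lF_mu : ∀ a ∈ lF, ∀ b ∈ lF, mu a b ∈ lF := by decide

theorem nat_fix : ∀ M ∈ lF1, ∀ a < 16, (ap M a = a ↔ a ∈ lU0) := by decide +kernel
theorem nat_cm : ∀ M ∈ lF1, ∀ a < 16, ap M a ^^^ a ∈ lU0 := by decide +kernel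
theorem nat_sur : ∀ M ∈ lF1, ∀ u ∈ lU0, ∃ a < 16, ap M a ^^^ a = u := by decide +kernel
theorem nat_fpf : ∀ a < 16, ap 9133 a = a → a = 0 := by decide +kernel
theorem nat_dU : ∀ a ∈ lU0, ap 9133 a ∈ lU0 := by decide +kernel
theorem nat_d : mu (mu 9133 9133) 9133 = 33825 := by decide +kernel
theorem nat_f : ∀ M ∈ lF1, mu M M = 33825 ∧ mu (mu 9133 M) 42892 ∈ lF1 ∧
    mu (mu M (mu (mu 9133 M) 42892)) (mu (mu 9133 (mu (mu 9133 M) 42892)) 42892) = 33825 ∧
    mu M (mu (mu 9133 M) 42892) = mu (mu (mu 9133 M) 42892) M ∧ M ≠ mu (mu 9133 M) 42892 ∧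
    (∀ N ∈ lF, N = 33825 ∨ N = M ∨ N = mu (mu 9133 M) 42892 ∨ N = mu M (mu (mu 9133 M) 42892)) := by
  decide +kernel

namespace Model

variable (K : Model φ)

/-- `U` -/
def U : Subgroup V := K.subV lU0 (by decide) lU0_xor

/-- `F` -/
def F [Finite Y] : Subgroup Y := K.subY lF (by decide) lF_mu

theorem m_inv_d {d : Y} (hφ : Function.Injective φ) (hd : K.m d = 9133) : d * d * d = 1 ∧ K.m d⁻¹ = 42892 := by
  have h1 : d * d * d = 1 := by
    apply K.m_inj hφ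
    rw [K.m_mul, K.m_mul, hd, K.m_one]
    exact nat_d
  refine ⟨h1, ?_⟩
  have h2 : d⁻¹ = d * d := by
    rw [inv_eq_iff_mul_eq_one, ← mul_assoc]
    exact h1
  rw [h2, K.m_mul, hd]
  decide

theorem natD (hφ : Function.Injective φ) {a d : Y} (ha : K.m a ∈ lF1) (hd : K.m d = 9133) :
    NatD φ K.U a d := by
  obtain ⟨hd3, hdi⟩ := K.m_inv_d hφ hd
  obtain ⟨h1, h2, h3, h4, h5, h6⟩ := nat_f _ ha
  refine ⟨?_, hd3, ?_, ?_, ?_, ?_, ?_, ?_, ?_, ?_, ?_, ?_⟩
  · exact card_of_codes K.c K.c_inj lU0 (by decide) (K.U : Set V) (fun v => Iff.rfl)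
      (fun n hn => K.c_surj n (by revert n; decide))
  · intro v hv
    rw [← K.c_eq_zero]
    apply nat_fpf _ (K.c_lt v)
    rw [← hd, ← K.m_ap, hv]
  · intro u hu
    show K.c (φ d u) ∈ lU0
    rw [K.m_ap, hd]
    exact nat_dU _ hu
  · rintro rfl
    rw [K.m_one] at ha
    revert ha
    decide
  · apply K.m_inj hφ
    rw [K.m_mul, h1, K.m_one]
  · apply K.m_inj hφ
    simp only [K.m_mul, hd, hdi, K.m_one]
    exact h3
  · apply K.m_inj hφ
    simp only [K.m_mul, hd, hdi]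
    exact h4
  · intro h
    apply h5
    have := congrArg K.m h
    rw [K.m_mul, K.m_mul, hd, hdi] at this
    exact this
  · intro v
    rw [← K.c_inj.eq_iff, K.m_ap]
    exact nat_fix _ ha _ (K.c_lt v)
  · intro v
    show K.c (φ a v * v⁻¹) ∈ lU0
    rw [K.inv_eq, K.c_mul, K.m_ap]
    exact nat_cm _ ha _ (K.c_lt v)
  · intro u hu
    obtain ⟨b, hb, hb2⟩ := nat_sur _ ha _ hu
    obtain ⟨v, rfl⟩ := K.c_surj b hb
    refine ⟨v, ?_⟩
    rw [← K.c_inj.eq_iff, K.inv_eq, K.c_mul, K.m_ap]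
    exact hb2

theorem closure_F [Finite Y] (hφ : Function.Injective φ) {a d : Y} (ha : K.m a ∈ lF1) (hd : K.m d = 9133) :
    closure ({a, d * a * d⁻¹} : Set Y) = K.F := by
  obtain ⟨hd3, hdi⟩ := K.m_inv_d hφ hd
  obtain ⟨h1, h2, h3, h4, h5, h6⟩ := nat_f _ ha
  have hb : K.m (d * a * d⁻¹) = mu (mu 9133 (K.m a)) 42892 := by rw [K.m_mul, K.m_mul, hd, hdi]
  have hsub : ∀ M ∈ lF1, M ∈ lF := by decide
  apply le_antisymm
  · rw [closure_le]
    rintro y (rfl | rfl)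
    · exact hsub _ ha
    · show K.m _ ∈ lF
      rw [hb]
      exact hsub _ h2
  · intro y hy
    have hac : a ∈ closure ({a, d * a * d⁻¹} : Set Y) := subset_closure (Or.inl rfl)
    have hbc : d * a * d⁻¹ ∈ closure ({a, d * a * d⁻¹} : Set Y) := subset_closure (Or.inr rfl)
    rcases h6 _ hy with h | h | h | h
    · have : y = 1 := K.m_inj hφ (by rw [h, K.m_one])
      rw [this]
      exact one_mem _
    · have : y = a := K.m_inj hφ h
      rw [this]
      exact hac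
    · have : y = d * a * d⁻¹ := K.m_inj hφ (by rw [h, hb])
      rw [this]
      exact hbc
    · have : y = a * (d * a * d⁻¹) := K.m_inj hφ (by rw [h, K.m_mul a, hb])
      rw [this]
      exact mul_mem hac hbc

theorem card_F [Finite Y] (hφ : Function.Injective φ) (h : ∀ M ∈ lF, K.Has M) : Nat.card K.F = 4 :=
  card_of_codes K.m (K.m_inj hφ) lF (by decide) (K.F : Set Y) (fun _ => Iff.rfl) h

end Model

end Cfsg.Agent.GH.GL4
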