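import Cfsg.Agent.GH.GL4Nat

/-!
# GH-C2, `GL(4,2)`: the Sylow 2-subgroups in the natural case (helper871)
-/

set_option autoImplicit false

namespace Cfsg.Agent.GH.GL4

open Subgroup

variable {Y V : Type*} [Group Y] [Group V] {φ : Y →* MulAut V}

/-- growth inside a 2-group -/
theorem exists_grow [Finite Y] {F P : Subgroup Y} (hP : IsPGroup 2 P) (hFP : F ≤ P) (hne : ¬ P ≤ F) :
    ∃ u ∈ P, u ∉ F ∧ u * u ∈ F ∧ ∀ f ∈ F, u * f * u⁻¹ ∈ F := by
  obtain ⟨r, hrP, hrF, hrn⟩ := C2GrowG.exists_mem_normalizer hP (hP.to_le hFP) (hFP.trans le_normalizer) hne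
  obtain ⟨k, hk⟩ := hP ⟨r, hrP⟩
  have hk' : r ^ (2 ^ k) = 1 := congrArg Subtype.val hk
  have hex : ∃ n, r ^ (2 ^ n) ∈ F := ⟨k, by rw [hk']; exact one_mem _⟩
  classical
  let n := Nat.find hex
  have hn : r ^ (2 ^ n) ∈ F := Nat.find_spec hex
  have hmin : ∀ m < n, r ^ (2 ^ m) ∉ F := fun m hm => Nat.find_min hex hm
  have hn0 : n ≠ 0 := by
    intro h0
    rw [h0, pow_zero, pow_one] at hn
    exact hrF hn
  refine ⟨r ^ (2 ^ (n - 1)), P.pow_mem hrP _, hmin _ (by omega), ?_, ?_⟩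
  · rw [← pow_add, ← two_mul, ← pow_succ', Nat.sub_add_cancel (Nat.one_le_iff_ne_zero.mpr hn0)]
    exact hn
  · intro f hf
    have h1 : r ^ (2 ^ (n - 1)) ∈ normalizer (F : Set Y) := pow_mem hrn _
    exact (mem_normalizer_iff.mp h1 f).mp hf

/-- `F ∪ F t` -/
def ext (F : Subgroup Y) (t : Y) (h1 : ∀ f ∈ F, t * f * t⁻¹ ∈ F) (h2 : t * t = 1) : Subgroup Y where
  carrier := {y | y ∈ F ∨ y * t ∈ F}
  one_mem' := Or.inl (one_mem _)
  mul_mem' := by
    have ht : t⁻¹ = t := inv_eq_of_mul_eq_one_left h2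
    rintro a b (ha | ha) (hb | hb)
    · exact Or.inl (mul_mem ha hb)
    · right
      rw [mul_assoc]
      exact mul_mem ha hb
    · right
      have e : a * b * t = (a * t) * (t * b * t⁻¹) := by
        rw [ht]
        calc a * b * t = a * (t * t) * b * t := by rw [h2]; group
          _ = _ := by group
      rw [e]
      exact mul_mem ha (h1 b hb)
    · left
      have e : a * b = (a * t) * (t * (b * t) * t⁻¹) := by
        calc a * b = a * (t * t) * b := by rw [h2]; group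
          _ = _ := by group
      rw [e]
      exact mul_mem ha (h1 _ hb)
  inv_mem' := by
    have ht : t⁻¹ = t := inv_eq_of_mul_eq_one_left h2
    rintro a (ha | ha)
    · exact Or.inl (inv_mem ha)
    · right
      have h3 := h1 _ (inv_mem ha)
      have e : t * (a * t)⁻¹ * t⁻¹ = a⁻¹ * t := by
        calc t * (a * t)⁻¹ * t⁻¹ = (t * t⁻¹) * a⁻¹ * t⁻¹ := by group
          _ = a⁻¹ * t := by rw [ht, h2]; group
      rw [e] at h3
      exact h3

theorem mem_ext {F : Subgroup Y} {t : Y} {h1 : ∀ f ∈ F, t * f * t⁻¹ ∈ F} {h2 : t * t = 1} {y : Y} :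
    y ∈ ext F t h1 h2 ↔ y ∈ F ∨ y * t ∈ F := Iff.rfl

theorem card_ext [Finite Y] {F : Subgroup Y} {t : Y} (h1 : ∀ f ∈ F, t * f * t⁻¹ ∈ F) (h2 : t * t = 1)
    (ht : t ∉ F) : Nat.card (ext F t h1 h2) = 2 * Nat.card F := by
  have hle : F ≤ ext F t h1 h2 := fun y hy => Or.inl hy
  have htm : t ∈ ext F t h1 h2 := Or.inr (by rw [h2]; exact one_mem _)
  have hi : (F.subgroupOf (ext F t h1 h2)).index = 2 := by
    rw [index_eq_two_iff]
    refine ⟨⟨t, htm⟩, ?_⟩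
    rintro ⟨b, hb⟩
    rw [mem_subgroupOf, mem_subgroupOf]
    rcases hb with hb | hb
    · right
      refine ⟨hb, fun h => ht ?_⟩
      have := mul_mem (inv_mem hb) h
      rwa [Subgroup.coe_mul, inv_mul_cancel_left] at this
    · left
      refine ⟨hb, fun h => ht ?_⟩
      have := mul_mem (inv_mem h) hb
      rwa [inv_mul_cancel_left] at this
  have h3 := (F.subgroupOf (ext F t h1 h2)).card_mul_index
  rw [hi, Nat.card_congr (subgroupOfEquivOfLe hle).toEquiv] at h3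
  omega

theorem ext_isPGroup [Finite Y] {F : Subgroup Y} {t : Y} (h1 : ∀ f ∈ F, t * f * t⁻¹ ∈ F) (h2 : t * t = 1)
    (ht : t ∉ F) (hF : Nat.card F = 4) : IsPGroup 2 (ext F t h1 h2) :=
  IsPGroup.of_card (n := 3) (by rw [card_ext h1 h2 ht, hF]; norm_num)

namespace Model

variable (K : Model φ)

theorem mem_U {v : V} : v ∈ K.U ↔ K.c v ∈ lU0 := Iff.rfl

theorem mem_F [Finite Y] {y : Y} : y ∈ K.F ↔ K.m y ∈ lF := Iff.rfl

theorem F_fix [Finite Y] {f : Y} (hf : f ∈ K.F) {v : V} (hv : v ∈ K.U) : φ f v = v := by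
  rw [← K.c_inj.eq_iff, K.m_ap]
  have h : ∀ M ∈ lF, ∀ a ∈ lU0, ap M a = a := by decide +kernel
  exact h _ hf _ hv

/-- a nontrivial element of `F` has fixed points `U` -/
theorem F_fix_iff [Finite Y] {f : Y} (hf : f ∈ K.F) (hf1 : f ≠ 1) (hφ : Function.Injective φ) {v : V} :
    φ f v = v ↔ v ∈ K.U := by
  rw [← K.c_inj.eq_iff, K.m_ap]
  have h : K.m f ∈ lF1 := by
    have h1 : K.m f ∈ lF := hf
    have h2 : K.m f ≠ 33825 := fun h => hf1 (K.m_inj hφ (h.trans K.m_one.symm))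
    revert h1 h2
    generalize K.m f = M
    intro h1 h2
    simp only [lF, lF1, List.mem_cons, List.not_mem_nil, or_false] at h1 ⊢
    rcases h1 with h | h | h | h
    · exact absurd h h2
    · exact Or.inl h
    · exact Or.inr (Or.inl h)
    · exact Or.inr (Or.inr h)
  exact nat_fix _ h _ (K.c_lt v)

/-- an element normalising `F` preserves `U` -/
theorem pres_U [Finite Y] (hφ : Function.Injective φ) (hF : ∀ M ∈ lF, K.Has M) {u : Y}
    (hu : ∀ f ∈ K.F, u * f * u⁻¹ ∈ K.F) {v : V} (hv : v ∈ K.U) : φ u v ∈ K.U := by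
  obtain ⟨f, hf⟩ := hF 22833 (by decide)
  have hfF : f ∈ K.F := by rw [K.mem_F, hf]; decide
  have hf1 : f ≠ 1 := by
    rintro rfl
    rw [K.m_one] at hf
    exact absurd hf (by norm_num)
  have h1 : u * f * u⁻¹ ≠ 1 := by
    intro h
    apply hf1
    have := mul_inv_eq_one.mp h
    simpa using this
  rw [← K.F_fix_iff (hu f hfF) h1 hφ]
  have h2 : φ (u * f * u⁻¹) (φ u v) = φ u (φ f v) := by
    rw [← MulAut.mul_apply, ← MulAut.mul_apply, ← map_mul, ← map_mul]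
    congr 2
    group
  rw [h2, K.F_fix hfF hv]

theorem mem_lU {a : ℕ} (h : a ∈ lU0) (h0 : a ≠ 0) : a ∈ lU := by
  simp only [lU0, lU, List.mem_cons, List.not_mem_nil, or_false] at h ⊢
  omega

theorem ap_mem_lU [Finite Y] (hφ : Function.Injective φ) (hF : ∀ M ∈ lF, K.Has M) {u : Y}
    (hu : ∀ f ∈ K.F, u * f * u⁻¹ ∈ K.F) {a : ℕ} (ha : a ∈ lU) : ap (K.m u) a ∈ lU := by
  have h16 : ∀ a ∈ lU, a < 16 ∧ a ≠ 0 ∧ a ∈ lU0 := by decide
  obtain ⟨h1, h2, h3⟩ := h16 a ha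
  obtain ⟨v, rfl⟩ := K.c_surj a h1
  apply mem_lU _ (K.ne_zero u h1 h2)
  rw [← K.m_ap]
  exact K.pres_U hφ hF hu h3

/-- check A -/
theorem step_A [Finite Y] (hφ : Function.Injective φ) (hF : ∀ M ∈ lF, K.Has M) {u : Y} (hu1 : u ∉ K.F)
    (hu2 : u * u ∈ K.F) (hu : ∀ f ∈ K.F, u * f * u⁻¹ ∈ K.F) : ∃ f ∈ K.F, okT (K.m (f * u)) = true := by
  have hA := okA_spec (K.m_lt u) (K.ap_mem_lU hφ hF hu (a := 1) (by decide))
    (K.ap_mem_lU hφ hF hu (a := 12) (by decide))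
  have hconj : ∀ M ∈ lF1, conjF (K.m u) M = true := by
    intro M hM
    have hMF : M ∈ lF := by revert M; decide
    obtain ⟨f, rfl⟩ := hF M hMF
    have h1 : K.m (u * f * u⁻¹) ∈ lF := hu f hMF
    have h2 : mu (K.m u) (K.m f) = mu (K.m (u * f * u⁻¹)) (K.m u) := by
      rw [← K.m_mul, ← K.m_mul, inv_mul_cancel_right]
    have h3 : K.m (u * f * u⁻¹) ≠ 33825 := by
      intro h
      have h4 : u * f * u⁻¹ = 1 := K.m_inj hφ (h.trans K.m_one.symm)
      have h5 : f = 1 := by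
        have := mul_inv_eq_one.mp h4
        simpa using this
      rw [h5, K.m_one] at hM
      revert hM
      decide
    unfold conjF
    rw [h2]
    simp only [lF, List.mem_cons, List.not_mem_nil, or_false] at h1
    rcases h1 with h | h | h | h
    · exact absurd h h3
    · rw [h]; simp
    · rw [h]; simp
    · rw [h]; simp
  have hin : ∀ y : Y, y ∈ K.F → inF (K.m y) = true := by
    intro y hy
    have h1 : ∀ M ∈ lF, inF M = true := by decide
    exact h1 _ hy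
  have hnin : inF (K.m u) = false := by
    rw [Bool.eq_false_iff]
    intro h
    apply hu1
    unfold inF at h
    rw [K.mem_F]
    simp only [Bool.or_eq_true] at h
    simp only [lF, List.mem_cons, List.not_mem_nil, or_false]
    rcases h with h | h | h | h
    · exact Or.inl (Nat.eq_of_beq_eq_true h)
    · exact Or.inr (Or.inl (Nat.eq_of_beq_eq_true h))
    · exact Or.inr (Or.inr (Or.inl (Nat.eq_of_beq_eq_true h)))
    · exact Or.inr (Or.inr (Or.inr (Nat.eq_of_beq_eq_true h)))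
  unfold okA at hA
  rw [hconj 22833 (by decide), hconj 38369 (by decide), ← K.m_mul, hin _ hu2, hnin] at hA
  simp only [Bool.and_self, Bool.not_false, cond_true, Bool.or_eq_true] at hA
  obtain ⟨f1, hf1⟩ := hF 22833 (by decide)
  obtain ⟨f2, hf2⟩ := hF 38369 (by decide)
  obtain ⟨f3, hf3⟩ := hF 18673 (by decide)
  rcases hA with h | h | h | h
  · exact ⟨1, one_mem _, by rw [one_mul]; exact h⟩
  · exact ⟨f1, by rw [K.mem_F, hf1]; decide, by rw [K.m_mul, hf1]; exact h⟩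
  · exact ⟨f2, by rw [K.mem_F, hf2]; decide, by rw [K.m_mul, hf2]; exact h⟩
  · exact ⟨f3, by rw [K.mem_F, hf3]; decide, by rw [K.m_mul, hf3]; exact h⟩

/-- meaning of `tT` -/
theorem tT_spec (hφ : Function.Injective φ) {d t : Y} (hd : K.m d = 9133) (h : tT (K.m t) = true) :
    t * t = 1 ∧ t * d * t⁻¹ = d⁻¹ ∧
      ((mu (K.m t) 22833 = mu 22833 (K.m t) ∨ mu (K.m t) 38369 = mu 38369 (K.m t) ∨
        mu (K.m t) 18673 = mu 18673 (K.m t)) ∧ ¬ (ap (K.m t) 1 = 1 ∧ ap (K.m t) 12 = 12)) := by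
  unfold tT at h
  simp only [Bool.and_eq_true, Bool.or_eq_true, Bool.not_eq_true'] at h
  obtain ⟨h1, h2, h3, h4⟩ := h
  have e1 := Nat.eq_of_beq_eq_true h1
  have e2 := Nat.eq_of_beq_eq_true h2
  refine ⟨?_, ?_, ?_, ?_⟩
  · apply K.m_inj hφ
    rw [K.m_mul, e1, K.m_one]
  · rw [mul_inv_eq_iff_eq_mul]
    apply K.m_inj hφ
    rw [K.m_mul, K.m_mul, hd, (K.m_inv_d hφ hd).2, e2]
  · rcases h3 with h | h | h
    · exact Or.inl (Nat.eq_of_beq_eq_true h)
    · exact Or.inr (Or.inl (Nat.eq_of_beq_eq_true h))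
    · exact Or.inr (Or.inr (Nat.eq_of_beq_eq_true h))
  · rintro ⟨a1, a2⟩
    rw [a1, a2] at h4
    exact absurd h4 (by decide)

theorem t0T_spec (hφ : Function.Injective φ) {d t : Y} (hd : K.m d = 9133) (h : t0T (K.m t) = true) :
    t * t = 1 ∧ t * d = d * t ∧ mu (K.m t) 22833 = mu 22833 (K.m t) ∧
      (ap (K.m t) 1 = 1 ∧ ap (K.m t) 12 = 12) := by
  unfold t0T at h
  simp only [Bool.and_eq_true] at h
  obtain ⟨h1, h2, h3, h4, h5⟩ := h
  have e1 := Nat.eq_of_beq_eq_true h1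
  have e2 := Nat.eq_of_beq_eq_true h2
  refine ⟨?_, ?_, Nat.eq_of_beq_eq_true h3, Nat.eq_of_beq_eq_true h4, Nat.eq_of_beq_eq_true h5⟩
  · apply K.m_inj hφ
    rw [K.m_mul, e1, K.m_one]
  · apply K.m_inj hφ
    rw [K.m_mul, K.m_mul, hd, e2]

/-- trivial on `U` -/
def TrivU (y : Y) : Prop := ap (K.m y) 1 = 1 ∧ ap (K.m y) 12 = 12

theorem trivU_iff {y : Y} : K.TrivU y ↔ ∀ v ∈ K.U, φ y v = v := by
  constructor
  · rintro ⟨h1, h2⟩ v hv
    rw [← K.c_inj.eq_iff, K.m_ap]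
    rw [K.mem_U] at hv
    by_cases h0 : K.c v = 0
    · rw [h0, ap_zero]
    · rw [ap_ua _ _ (mem_lU hv h0), h1, h2]
      have h3 : ∀ a ∈ lU, ua 1 12 a = a := by decide
      exact h3 _ (mem_lU hv h0)
  · intro h
    have key : ∀ a ∈ lU, ap (K.m y) a = a := by
      intro a ha
      have h16 : ∀ a ∈ lU, a < 16 ∧ a ∈ lU0 := by decide
      obtain ⟨v, rfl⟩ := K.c_surj a (h16 a ha).1
      rw [← K.m_ap, h v (h16 _ ha).2]
    exact ⟨key 1 (by decide), key 12 (by decide)⟩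

theorem trivU_mul {a b : Y} (ha : K.TrivU a) (hb : K.TrivU b) : K.TrivU (a * b) := by
  rw [K.trivU_iff] at ha hb ⊢
  intro v hv
  rw [map_mul, MulAut.mul_apply, hb v hv, ha v hv]

theorem trivU_inv {a : Y} (ha : K.TrivU a) : K.TrivU a⁻¹ := by
  rw [K.trivU_iff] at ha ⊢
  intro v hv
  have h1 : φ a⁻¹ (φ a v) = v := by rw [← MulAut.mul_apply, ← map_mul, inv_mul_cancel, map_one]; rfl
  rwa [ha v hv] at h1

theorem trivU_of_F [Finite Y] {f : Y} (hf : f ∈ K.F) : K.TrivU f :=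
  K.trivU_iff.mpr fun _ hv => K.F_fix hf hv

theorem ap_mul (y z : Y) (a : ℕ) : ap (K.m (y * z)) a = ap (K.m y) (ap (K.m z) a) := by
  rw [K.m_mul, ap_mu]

theorem ap_ne (y : Y) : ap (K.m y) 1 ≠ ap (K.m y) 12 := by
  intro h
  have h1 : ap (K.m y) 13 = 0 := by
    have : (13 : ℕ) = 1 ^^^ 12 := rfl
    rw [this, ap_xor, h, Nat.xor_self]
  exact K.ne_zero y (by norm_num) (by norm_num) h1

/-- the three natural cases, in codes -/
theorem nat_cases' [Finite Y] (hφ : Function.Injective φ) (hF : ∀ M ∈ lF, K.Has M) {d : Y}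
    (hd : K.m d = 9133) :
    (∃ P : Sylow 2 Y, (P : Subgroup Y) = K.F) ∨
    (∃ (t : Y) (h1 : ∀ f ∈ K.F, t * f * t⁻¹ ∈ K.F) (h2 : t * t = 1), tT (K.m t) = true ∧ t ∉ K.F ∧
      ∃ P : Sylow 2 Y, (P : Subgroup Y) = ext K.F t h1 h2) ∨
    (∃ t, t0T (K.m t) = true ∧ t ∉ K.F) := by
  have : Fact (Nat.Prime 2) := ⟨Nat.prime_two⟩
  have hF4 := K.card_F hφ hF
  have hF2 : IsPGroup 2 K.F := IsPGroup.of_card (n := 2) (by rw [hF4]; norm_num)
  obtain ⟨P, hFP⟩ := hF2.exists_le_sylow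
  by_cases hPF : (P : Subgroup Y) ≤ K.F
  · exact Or.inl ⟨P, le_antisymm hPF hFP⟩
  obtain ⟨u, huP, huF, huu, hun⟩ := exists_grow P.isPGroup' hFP hPF
  obtain ⟨f, hf, hok⟩ := K.step_A hφ hF huF huu hun
  have hnot : ∀ {a b : Y}, a ∈ K.F → b ∉ K.F → a * b ∉ K.F := by
    intro a b ha hb h
    apply hb
    have := mul_mem (inv_mem ha) h
    rwa [inv_mul_cancel_left] at this
  unfold okT at hok
  rw [Bool.or_eq_true] at hok
  rcases hok with hok | hok
  swap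
  · exact Or.inr (Or.inr ⟨f * u, hok, hnot hf huF⟩)
  obtain ⟨t, ht⟩ : ∃ t, t = f * u := ⟨_, rfl⟩
  have htP : t ∈ (P : Subgroup Y) := by rw [ht]; exact mul_mem (hFP hf) huP
  have htF : t ∉ K.F := by rw [ht]; exact hnot hf huF
  rw [← ht] at hok
  obtain ⟨htt, htd, htc, htU⟩ := K.tT_spec hφ hd hok
  have htn : ∀ g ∈ K.F, t * g * t⁻¹ ∈ K.F := by
    intro g hg
    have e : t * g * t⁻¹ = f * (u * g * u⁻¹) * f⁻¹ := by rw [ht]; group
    rw [e]
    exact mul_mem (mul_mem hf (hun g hg)) (inv_mem hf)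
  have hti : t⁻¹ = t := inv_eq_of_mul_eq_one_left htt
  set R := ext K.F t htn htt with hR
  have hFR : K.F ≤ R := fun y hy => Or.inl hy
  have htR : t ∈ R := Or.inr (by rw [htt]; exact one_mem _)
  have hRP : R ≤ (P : Subgroup Y) := by
    rintro y (hy | hy)
    · exact hFP hy
    · have := mul_mem (hFP hy) (inv_mem htP)
      rwa [mul_inv_cancel_right] at this
  by_cases hPR : (P : Subgroup Y) ≤ R
  · exact Or.inr (Or.inl ⟨t, htn, htt, hok, htF, P, le_antisymm hPR hRP⟩)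
  obtain ⟨w, hwP, hwR, hww, hwn⟩ := exists_grow P.isPGroup' hRP hPR
  -- (c1)
  have c1 : ∀ r ∈ R, K.TrivU r → r ∈ K.F := by
    rintro r (hr | hr) hrU
    · exact hr
    · exfalso
      have h1 := K.trivU_of_F hr
      have h2 := K.trivU_mul (K.trivU_inv hrU) h1
      rw [inv_mul_cancel_left] at h2
      exact htU h2
  have hsqR : ∀ r ∈ R, r * r ∈ K.F := by
    rintro r (hr | hr)
    · exact mul_mem hr hr
    · have e : r * r = (r * t) * (t * (r * t) * t⁻¹) := by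
        calc r * r = r * (t * t) * r := by rw [htt]; group
          _ = _ := by group
      rw [e]
      exact mul_mem hr (htn _ hr)
  have hmulR : ∀ r ∈ R, ∀ s ∈ R, r ∉ K.F → s ∉ K.F → r * s ∈ K.F := by
    rintro r (hr | hr) s (hs | hs) h1 h2
    · exact absurd hr h1
    · exact absurd hr h1
    · exact absurd hs h2
    · have e : r * s = (r * t) * (t * (s * t) * t⁻¹) := by
        calc r * s = r * (t * t) * s := by rw [htt]; group
          _ = _ := by group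
      rw [e]
      exact mul_mem hr (htn _ hs)
  -- (c2)
  have c2 : ∀ g ∈ K.F, w * g * w⁻¹ ∈ K.F := by
    obtain ⟨f1, hf1⟩ := hF 22833 (by decide)
    obtain ⟨f2, hf2⟩ := hF 38369 (by decide)
    have hf1F : f1 ∈ K.F := by rw [K.mem_F, hf1]; decide
    have hf2F : f2 ∈ K.F := by rw [K.mem_F, hf2]; decide
    have hne1 : f1 ≠ 1 := by
      rintro rfl
      rw [K.m_one] at hf1
      exact absurd hf1 (by norm_num)
    have hne2 : f2 ≠ 1 := by
      rintro rfl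
      rw [K.m_one] at hf2
      exact absurd hf2 (by norm_num)
    have hne3 : f1 * f2 ≠ 1 := by
      intro h
      have h1 := congrArg K.m h
      rw [K.m_mul, hf1, hf2, K.m_one] at h1
      exact absurd h1 (by decide)
    obtain ⟨g, hg, hg1, hgF⟩ : ∃ g ∈ K.F, g ≠ 1 ∧ w * g * w⁻¹ ∈ K.F := by
      by_cases h1 : w * f1 * w⁻¹ ∈ K.F
      · exact ⟨f1, hf1F, hne1, h1⟩
      by_cases h2 : w * f2 * w⁻¹ ∈ K.F
      · exact ⟨f2, hf2F, hne2, h2⟩
      refine ⟨f1 * f2, mul_mem hf1F hf2F, hne3, ?_⟩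
      have e : w * (f1 * f2) * w⁻¹ = (w * f1 * w⁻¹) * (w * f2 * w⁻¹) := by group
      rw [e]
      exact hmulR _ (hwn _ (hFR hf1F)) _ (hwn _ (hFR hf2F)) h1 h2
    have hr1 : w * g * w⁻¹ ≠ 1 := by
      intro h
      apply hg1
      have := mul_inv_eq_one.mp h
      simpa using this
    -- `w⁻¹` preserves `U`
    have hwU : ∀ v ∈ K.U, φ w⁻¹ v ∈ K.U := by
      intro v hv
      rw [← K.F_fix_iff hg hg1 hφ]
      have h2 : φ g (φ w⁻¹ v) = φ w⁻¹ (φ (w * g * w⁻¹) v) := by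
        rw [← MulAut.mul_apply, ← MulAut.mul_apply, ← map_mul, ← map_mul]
        congr 2
        group
      rw [h2, K.F_fix hgF hv]
    intro g' hg'
    apply c1 _ (hwn _ (hFR hg'))
    rw [K.trivU_iff]
    intro v hv
    have h2 : φ (w * g' * w⁻¹) v = φ w (φ g' (φ w⁻¹ v)) := by
      rw [← MulAut.mul_apply, ← MulAut.mul_apply, ← map_mul, ← map_mul]
    rw [h2, K.F_fix hg' (hwU v hv)]
    rw [← MulAut.mul_apply, ← map_mul, mul_inv_cancel, map_one]
    rfl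
  have hwF : w ∉ K.F := fun h => hwR (hFR h)
  have hlw : ∀ a ∈ lU, ap (K.m w) a ∈ lU := fun a ha => K.ap_mem_lU hφ hF c2 ha
  -- (c3)
  have c3 : w * w ∈ K.F := by
    apply c1 _ hww
    have h4 : K.TrivU ((w * w) * (w * w)) := K.trivU_of_F (hsqR _ hww)
    obtain ⟨h5, h6⟩ := h4
    have p1 := hlw 1 (by decide)
    have q1 := hlw 12 (by decide)
    have e : ∀ a ∈ lU, ap (K.m w) a = ua (ap (K.m w) 1) (ap (K.m w) 12) a := ap_ua _
    rw [K.ap_mul, K.ap_mul, K.ap_mul, e _ (hlw _ (hlw _ p1)), e _ (hlw _ p1), e _ p1] at h5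
    rw [K.ap_mul, K.ap_mul, K.ap_mul, e _ (hlw _ (hlw _ q1)), e _ (hlw _ q1), e _ q1] at h6
    have h7 := four_lemma _ p1 _ q1 (K.ap_ne w) h5 h6
    refine ⟨?_, ?_⟩
    · rw [K.ap_mul, e _ p1]; exact h7.1
    · rw [K.ap_mul, e _ q1]; exact h7.2
  obtain ⟨f', hf', hok'⟩ := K.step_A hφ hF hwF c3 c2
  unfold okT at hok'
  rw [Bool.or_eq_true] at hok'
  rcases hok' with hok' | hok'
  swap
  · exact Or.inr (Or.inr ⟨f' * w, hok', hnot hf' hwF⟩)
  obtain ⟨s, hs⟩ : ∃ s, s = f' * w := ⟨_, rfl⟩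
  rw [← hs] at hok'
  obtain ⟨hss, hsd, hsc, hsU⟩ := K.tT_spec hφ hd hok'
  have hsi : s⁻¹ = s := inv_eq_of_mul_eq_one_left hss
  have hsR : s ∉ R := by
    intro h
    apply hwR
    have := mul_mem (inv_mem (hFR hf')) h
    rwa [hs, inv_mul_cancel_left] at this
  have hsn : ∀ g ∈ K.F, s * g * s⁻¹ ∈ K.F := by
    intro g hg
    have e : s * g * s⁻¹ = f' * (w * g * w⁻¹) * f'⁻¹ := by rw [hs]; group
    rw [e]
    exact mul_mem (mul_mem hf' (c2 g hg)) (inv_mem hf')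
  have hsnR : s * t * s⁻¹ ∈ R := by
    have e : s * t * s⁻¹ = f' * (w * t * w⁻¹) * f'⁻¹ := by rw [hs]; group
    rw [e]
    exact mul_mem (mul_mem (hFR hf') (hwn t htR)) (inv_mem (hFR hf'))
  have hstF : s * t * s⁻¹ ∉ K.F := by
    intro h
    apply htF
    have h1 := hsn _ h
    have e : s * (s * t * s⁻¹) * s⁻¹ = t := by
      rw [hsi]
      calc s * (s * t * s) * s = (s * s) * t * (s * s) := by group
        _ = t := by rw [hss]; group
    rwa [e] at h1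
  have hst2 : (s * t) * (s * t) ∈ K.F := by
    have e : (s * t) * (s * t) = (s * t * s⁻¹) * t := by rw [hsi]; group
    rw [e]
    exact hmulR _ hsnR _ htR hstF htF
  have hls : ∀ a ∈ lU, ap (K.m s) a ∈ lU := fun a ha => K.ap_mem_lU hφ hF hsn ha
  have hlt : ∀ a ∈ lU, ap (K.m t) a ∈ lU := fun a ha => K.ap_mem_lU hφ hF htn ha
  have hstU : K.TrivU (s * t) := by
    have es : ∀ a ∈ lU, ap (K.m s) a = ua (ap (K.m s) 1) (ap (K.m s) 12) a := ap_ua _
    have et : ∀ a ∈ lU, ap (K.m t) a = ua (ap (K.m t) 1) (ap (K.m t) 12) a := ap_ua _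
    have s1 := hls 1 (by decide)
    have s2 := hls 12 (by decide)
    have t1 := hlt 1 (by decide)
    have t2 := hlt 12 (by decide)
    have a1 : ua (ap (K.m s) 1) (ap (K.m s) 12) (ap (K.m s) 1) = 1 := by
      rw [← es _ s1, ← K.ap_mul, hss, K.m_one]; rfl
    have a2 : ua (ap (K.m s) 1) (ap (K.m s) 12) (ap (K.m s) 12) = 12 := by
      rw [← es _ s2, ← K.ap_mul, hss, K.m_one]; rfl
    have a3 : ua (ap (K.m t) 1) (ap (K.m t) 12) (ap (K.m t) 1) = 1 := by
      rw [← et _ t1, ← K.ap_mul, htt, K.m_one]; rfl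
    have a4 : ua (ap (K.m t) 1) (ap (K.m t) 12) (ap (K.m t) 12) = 12 := by
      rw [← et _ t2, ← K.ap_mul, htt, K.m_one]; rfl
    obtain ⟨h5, h6⟩ := K.trivU_of_F hst2
    rw [K.ap_mul, K.ap_mul, K.ap_mul, es _ t1] at h5
    rw [K.ap_mul, K.ap_mul, K.ap_mul, es _ t2] at h6
    have m1 : ua (ap (K.m s) 1) (ap (K.m s) 12) (ap (K.m t) 1) ∈ lU := by rw [← es _ t1]; exact hls _ t1
    have m2 : ua (ap (K.m s) 1) (ap (K.m s) 12) (ap (K.m t) 12) ∈ lU := by rw [← es _ t2]; exact hls _ t2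
    rw [et _ m1, es _ (by rw [← et _ m1]; exact hlt _ m1)] at h5
    rw [et _ m2, es _ (by rw [← et _ m2]; exact hlt _ m2)] at h6
    have h7 := tr_lemma s1 s2 t1 t2 a1 a2 hsU a3 a4 htU h5 h6
    refine ⟨?_, ?_⟩
    · rw [K.ap_mul, es _ t1]; exact h7.1
    · rw [K.ap_mul, es _ t2]; exact h7.2
  have hzF : s * t ∉ K.F := by
    intro h
    apply hsR
    exact Or.inr h
  have hzn : ∀ g ∈ K.F, (s * t) * g * (s * t)⁻¹ ∈ K.F := by
    intro g hg
    have e : (s * t) * g * (s * t)⁻¹ = s * (t * g * t⁻¹) * s⁻¹ := by group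
    rw [e]
    exact hsn _ (htn g hg)
  obtain ⟨f'', hf'', hok''⟩ := K.step_A hφ hF hzF hst2 hzn
  unfold okT at hok''
  rw [Bool.or_eq_true] at hok''
  rcases hok'' with hok'' | hok''
  · exact absurd (K.trivU_mul (K.trivU_of_F hf'') hstU) (K.tT_spec hφ hd hok'').2.2.2
  · exact Or.inr (Or.inr ⟨f'' * (s * t), hok'', hnot hf'' hzF⟩)

end Model

end Cfsg.Agent.GH.GL4
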