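import Cfsg.Agent.GH.GL4NatOut
import Cfsg.Agent.GH.GL4Data5

/-!
# GH-C2, `GL(4,2)`: the orthogonal case (`A₅`, `S₅` on the permutation module) (helper871)
-/

set_option autoImplicit false

namespace Cfsg.Agent.GH.GL4

open Subgroup

variable {Y V : Type*} [Group Y] [Group V] {φ : Y →* MulAut V}

/-! ### tables -/

theorem ev5_words : (ev5w.all fun p => Nat.beq (ev 5368 5368 6 (Nat.shiftRight p 16) 33825) (Nat.land p 65535)) =
    true := by decide +kernel

theorem ev5_eq : ev5 = ev5w.map (fun p => Nat.land p 65535) := by decide +kernel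

theorem od5_words : (od5w.all fun p => Nat.beq (ev (Nat.land p 65535) 5368 6 (Nat.shiftRight p 16) 33825) 9345) =
    true := by decide +kernel

theorem od5_eq : od5 = od5w.map (fun p => Nat.land p 65535) := by decide +kernel

theorem od5_t : (od5.all fun M => ev5.contains (mu M 9345) && Nat.beq (mu (mu M 9345) 9345) M) = true := by
  decide +kernel

def o1 : List ℕ := [1, 2, 4, 8, 15]

/-- matrices preserving `O_1` -/
def s5OK (M : ℕ) : Bool := (ev5.contains M || od5.contains M) ||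
  !(allLT 16 fun a => Nat.beq a 0 || !(Nat.beq (ap M a) 0))

theorem s5_check : (o1.all fun a => o1.all fun b => o1.all fun c => o1.all fun d =>
    s5OK (Nat.add (Nat.add (Nat.add a (Nat.mul 16 b)) (Nat.mul 256 c)) (Nat.mul 4096 d))) = true := by
  decide +kernel

theorem inO_one {a : ℕ} (ha : a < 16) (h : inO 1 a = true) : a ∈ o1 := by
  have h1 : ∀ a < 16, inO 1 a = true → a ∈ o1 := by decide +kernel
  exact h1 a ha h

namespace Model

variable (K : Model φ)

theorem s5_mem (y : Y) (h : pres 1 (K.m y) = true) : K.m y ∈ ev5 ∨ K.m y ∈ od5 := by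
  have hc : ∀ k < 4, col (K.m y) k ∈ o1 := by
    intro k hk
    rw [← ap_pow _ hk]
    have hO : ∀ k < 4, inO 1 (2 ^ k) = true ∧ 2 ^ k < 16 := by decide
    exact inO_one (ap_lt _ _) (pres_spec h (hO k hk).2 (hO k hk).1)
  have h1 := List.all_eq_true.mp (List.all_eq_true.mp (List.all_eq_true.mp (List.all_eq_true.mp s5_check
    _ (hc 0 (by norm_num))) _ (hc 1 (by norm_num))) _ (hc 2 (by norm_num))) _ (hc 3 (by norm_num))
  have h2 : s5OK (K.m y) = true := by
    have e := eq_mk (K.m_lt y)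
    unfold GL4.mk at e
    have h3 : s5OK (col (K.m y) 0 + 16 * col (K.m y) 1 + 256 * col (K.m y) 2 + 4096 * col (K.m y) 3) = true := h1
    rwa [← e] at h3
  unfold s5OK at h2
  rw [Bool.or_eq_true, Bool.or_eq_true] at h2
  rcases h2 with (h2 | h2) | h2
  · left; simpa using h2
  · right; simpa using h2
  · exfalso
    rw [Bool.not_eq_true'] at h2
    have h3 : (allLT 16 fun a => Nat.beq a 0 || !(Nat.beq (ap (K.m y) a) 0)) = true := by
      have key : ∀ (n : ℕ) (p : ℕ → Bool), (∀ k < n, p k = true) → allLT n p = true := by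
        intro n p
        induction n with
        | zero => intro _; rfl
        | succ n ih =>
          intro hk
          show (p n && allLT n p) = true
          rw [Bool.and_eq_true]
          exact ⟨hk n (Nat.lt_succ_self n), ih fun k h => hk k (Nat.lt_succ_of_lt h)⟩
      apply key
      intro a ha
      rw [Bool.or_eq_true, Bool.not_eq_true']
      by_cases h0 : a = 0
      · left; rw [h0]; rfl
      · right
        rw [Bool.eq_false_iff]
        intro h4
        exact K.ne_zero y ha h0 (Nat.eq_of_beq_eq_true h4)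
    rw [h3] at h2
    exact absurd h2 (by decide)

theorem has_ev5 {x : Y} (hx : K.m x = 63554) (hg : K.Has 5368) : ∀ M ∈ ev5, K.Has M := by
  intro M hM
  rw [ev5_eq, List.mem_map] at hM
  obtain ⟨p, hp, rfl⟩ := hM
  have h := List.all_eq_true.mp ev5_words p hp
  have h1 := Nat.eq_of_beq_eq_true h
  have h2 := K.has_ev hx hg hg 6 (Nat.shiftRight p 16)
  rwa [h1] at h2

theorem has_od5 {x : Y} (hx : K.m x = 63554) (hg : K.Has 5368) {N : ℕ} (hN : N ∈ od5) (hN2 : K.Has N) :
    ∀ M ∈ od5, K.Has M := by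
  have ht : K.Has 9345 := by
    rw [od5_eq, List.mem_map] at hN
    obtain ⟨p, hp, rfl⟩ := hN
    have h := List.all_eq_true.mp od5_words p hp
    have h1 := Nat.eq_of_beq_eq_true h
    have h2 := K.has_ev hx hN2 hg 6 (Nat.shiftRight p 16)
    rwa [h1] at h2
  intro M hM
  have h := List.all_eq_true.mp od5_t M hM
  rw [Bool.and_eq_true] at h
  have h1 : mu M 9345 ∈ ev5 := by simpa using h.1
  have h2 := K.has_mu (K.has_ev5 hx hg _ h1) ht
  rwa [Nat.eq_of_beq_eq_true h.2] at h2

end Model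

/-! ### rebasing -/

def rj (j : ℕ) : ℕ := if j = 1 then 1 else if j = 2 then 3 else 5

theorem rj_spec : ∀ j < 4, 1 ≤ j → ∀ a < 16, inO j a = true ↔ ∃ i < 5, a = ap (xp i) (rj j) := by decide +kernel

namespace Model

variable (K : Model φ)

theorem inO_iff {x : Y} (hx : K.m x = 63554) {j : ℕ} (hj1 : 1 ≤ j) (hj3 : j ≤ 3) {v' : V} (hv' : K.c v' = rj j)
    (v : V) : inO j (K.c v) = true ↔ ∃ i < 5, v = φ (x ^ i) v' := by
  rw [rj_spec j (by omega) hj1 _ (K.c_lt v)]
  constructor
  · rintro ⟨i, hi, h⟩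
    refine ⟨i, hi, K.c_inj ?_⟩
    rw [h, K.m_ap, K.m_pow hx i hi, hv']
  · rintro ⟨i, hi, h⟩
    refine ⟨i, hi, ?_⟩
    rw [h, K.m_ap, K.m_pow hx i hi, hv']

theorem rebase (hφ : Function.Injective φ) {x : Y} (hx : K.m x = 63554) {j : ℕ} (hj1 : 1 ≤ j) (hj3 : j ≤ 3)
    (h : ∀ y, pres j (K.m y) = true) (hV : Nat.card V = 16) :
    ∃ K' : Model φ, K'.m x = 63554 ∧ ∀ y, pres 1 (K'.m y) = true := by
  have hr : ∀ j < 4, 1 ≤ j → rj j < 16 ∧ rj j ≠ 0 := by decide
  obtain ⟨h16, h0⟩ := hr j (by omega) hj1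
  obtain ⟨v', hv'⟩ := K.c_surj _ h16
  have hv1 : v' ≠ 1 := by
    rintro rfl
    rw [K.c_one] at hv'
    exact h0 hv'.symm
  obtain ⟨K', hx', hc'⟩ := exists_model_five hφ hV K.sq_one (K.x_five hφ hx) (K.x_ne hx) hv1
  refine ⟨K', hx', ?_⟩
  intro y
  rw [K'.pres_iff]
  intro v hv
  rw [K'.inO_iff hx' (le_refl 1) (by norm_num) (v' := v') hc'] at hv ⊢
  rw [← K.inO_iff hx hj1 hj3 hv'] at hv ⊢
  exact (K.pres_iff y).mp (h y) v hv

theorem has_gen1 (hφ : Function.Injective φ) {x : Y} (hx : K.m x = 63554) (hx5 : x ^ 5 = 1)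
    (h : ∀ y, pres 1 (K.m y) = true) {y : Y} (hy : y ∉ HG hx5) : K.Has 5368 := by
  have hp : ∀ M, K.Has M → pres 1 M = true := by
    rintro M ⟨z, rfl⟩
    exact h z
  rcases K.alt hφ hx y with h1 | h1 | ⟨j, hj1, hj3, -, h1⟩
  · exact absurd h1 hy
  · exact absurd (hp _ h1) (by decide +kernel)
  · interval_cases j
    · exact h1
    · exact absurd (hp _ h1) (by decide +kernel)
    · exact absurd (hp _ h1) (by decide +kernel)

end Model

end Cfsg.Agent.GH.GL4
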