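import Cfsg.Agent.GH.GL4Orb

/-!
# GH-C2, `GL(4,2)`: output in the orthogonal case (helper871)
-/

set_option autoImplicit false

namespace Cfsg.Agent.GH.GL4

open Subgroup

variable {Y V : Type*} [Group Y] [Group V] {φ : Y →* MulAut V}

/-- (O1) [`A₅` on the permutation module]: the Sylow 2-subgroup `⟨a, b⟩` permutes the basis `e` regularly. -/
def O1 (φ : Y →* MulAut V) : Prop := ∃ (e : Fin 4 → V) (a b : Y),
  closure (Set.range e) = ⊤ ∧ (∀ i, φ a (e i) = e ((![1, 0, 3, 2] : Fin 4 → Fin 4) i)) ∧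
  (∀ i, φ b (e i) = e ((![2, 3, 0, 1] : Fin 4 → Fin 4) i)) ∧ a * a = 1 ∧ b * b = 1 ∧ a * b = b * a ∧
  Nat.card Y = 60 ∧ ∃ P : Sylow 2 Y, (P : Subgroup Y) = closure {a, b} ∧ Nat.card P = 4

/-- (O2) [`S₅` on the permutation module]: the Sylow 2-subgroup `⟨t, a⟩` is dihedral of order 8 and permutes
the basis `e`; `d` commutes with the transposition `t`; `y` is an element of order three fixing
`z = e 0 e 1 e 2 e 3` and permuting `a, b, a b`. -/
def O2 (φ : Y →* MulAut V) : Prop := ∃ (e : Fin 4 → V) (t a b d y : Y),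
  closure (Set.range e) = ⊤ ∧ (∀ i, φ t (e i) = e ((![0, 3, 2, 1] : Fin 4 → Fin 4) i)) ∧
  (∀ i, φ a (e i) = e ((![1, 0, 3, 2] : Fin 4 → Fin 4) i)) ∧
  (∀ i, φ b (e i) = e ((![2, 3, 0, 1] : Fin 4 → Fin 4) i)) ∧
  t * t = 1 ∧ a * a = 1 ∧ b * b = 1 ∧ a * b = b * a ∧ t * a ≠ a * t ∧ b ∈ closure ({t, a} : Set Y) ∧
  d * t = t * d ∧ d * d * d = 1 ∧
  (∀ v, φ t v = v → (φ d v * v⁻¹ = 1 ∨ φ d v * v⁻¹ = e 1 * e 3) → v = 1 ∨ v = e 1 * e 3) ∧
  y * a * y⁻¹ = b ∧ y * b * y⁻¹ = a * b ∧ e 0 * e 1 * e 2 * e 3 ≠ 1 ∧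
  φ y (e 0 * e 1 * e 2 * e 3) = e 0 * e 1 * e 2 * e 3 ∧
  Nat.card Y = 120 ∧ ∃ P : Sylow 2 Y, (P : Subgroup Y) = closure {t, a} ∧ Nat.card P = 8

theorem exists_sylow_of_index [Finite Y] {H : Subgroup Y} (h : IsPGroup 2 H) (hi : ¬ 2 ∣ H.index) :
    ∃ P : Sylow 2 Y, (P : Subgroup Y) = H := by
  have : Fact (Nat.Prime 2) := ⟨Nat.prime_two⟩
  exact ⟨h.toSylow hi, rfl⟩

def lP4 : List ℕ := [33825, 18450, 8580, 4680]

def lP8 : List ℕ := [33825, 18450, 8580, 4680, 9345, 33060, 6210, 16920]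

theorem lP4_mu : ∀ a ∈ lP4, ∀ b ∈ lP4, mu a b ∈ lP4 := by decide +kernel
theorem lP8_mu : ∀ a ∈ lP8, ∀ b ∈ lP8, mu a b ∈ lP8 := by decide +kernel

theorem lP4_gen : ∀ N ∈ lP4, N = 33825 ∨ N = 18450 ∨ N = 8580 ∨ N = mu 18450 8580 := by decide +kernel

theorem lP8_gen : ∀ N ∈ lP8, N = 33825 ∨ N = 18450 ∨ N = 9345 ∨ N = mu 18450 9345 ∨ N = mu 9345 18450 ∨
    N = mu 9345 (mu 18450 9345) ∨ N = mu 18450 (mu 9345 18450) ∨
    N = mu (mu 18450 9345) (mu 18450 9345) := by decide +kernel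

namespace Model

variable (K : Model φ)

/-- the basis -/
theorem exists_basis : ∃ e : Fin 4 → V, K.c (e 0) = 1 ∧ K.c (e 1) = 2 ∧ K.c (e 2) = 4 ∧ K.c (e 3) = 8 ∧
    closure (Set.range e) = ⊤ := by
  obtain ⟨v0, h0⟩ := K.c_surj 1 (by norm_num)
  obtain ⟨v1, h1⟩ := K.c_surj 2 (by norm_num)
  obtain ⟨v2, h2⟩ := K.c_surj 4 (by norm_num)
  obtain ⟨v3, h3⟩ := K.c_surj 8 (by norm_num)
  refine ⟨![v0, v1, v2, v3], h0, h1, h2, h3, ?_⟩
  rw [eq_top_iff]
  intro v _
  let Fr : Frame V := ⟨K.c, K.c_lt, K.c_inj, K.c_surj, K.c_mul⟩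
  have hv := Fr.eq_dec h0 h1 h2 h3 v
  have hm : ∀ i, (![v0, v1, v2, v3] : Fin 4 → V) i ∈ closure (Set.range (![v0, v1, v2, v3] : Fin 4 → V)) :=
    fun i => subset_closure ⟨i, rfl⟩
  have hp : ∀ w ∈ closure (Set.range (![v0, v1, v2, v3] : Fin 4 → V)), ∀ b,
      pw w b ∈ closure (Set.range (![v0, v1, v2, v3] : Fin 4 → V)) := by
    intro w hw b
    unfold pw
    split_ifs
    · exact hw
    · exact one_mem _
  rw [hv]
  unfold dec
  exact mul_mem (mul_mem (hp _ (hm 0) _) (hp _ (hm 1) _)) (mul_mem (hp _ (hm 2) _) (hp _ (hm 3) _))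

theorem card_P4 [Finite Y] (hφ : Function.Injective φ) (h : ∀ M ∈ lP4, K.Has M) :
    Nat.card (K.subY lP4 (by decide) lP4_mu) = 4 :=
  card_of_codes K.m (K.m_inj hφ) lP4 (by decide) (K.subY lP4 (by decide) lP4_mu : Set Y) (fun _ => Iff.rfl) h

theorem card_P8 [Finite Y] (hφ : Function.Injective φ) (h : ∀ M ∈ lP8, K.Has M) :
    Nat.card (K.subY lP8 (by decide) lP8_mu) = 8 :=
  card_of_codes K.m (K.m_inj hφ) lP8 (by decide) (K.subY lP8 (by decide) lP8_mu : Set Y) (fun _ => Iff.rfl) h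

theorem orb_out [Finite Y] (hφ : Function.Injective φ) {x : Y} (hx : K.m x = 63554) (hx5 : x ^ 5 = 1)
    (h : ∀ y, pres 1 (K.m y) = true) {y1 : Y} (hy1 : y1 ∉ HG hx5) : O1 φ ∨ O2 φ := by
  have hg := K.has_gen1 hφ hx hx5 h hy1
  have hev := K.has_ev5 hx hg
  obtain ⟨e, he0, he1, he2, he3, hgen⟩ := K.exists_basis
  have hact : ∀ (g : Y) (M : ℕ), K.m g = M → ∀ (i j : Fin 4), ap M (K.c (e i)) = K.c (e j) → φ g (e i) = e j := by
    intro g M hg i j hij
    apply K.c_inj
    rw [K.m_ap, hg, hij]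
  obtain ⟨a, ha⟩ := hev 18450 (by decide)
  obtain ⟨b, hb⟩ := hev 8580 (by decide)
  have hactA : ∀ i, φ a (e i) = e ((![1, 0, 3, 2] : Fin 4 → Fin 4) i) := by
    intro i
    apply hact a _ ha
    fin_cases i
    · show ap 18450 (K.c (e 0)) = K.c (e 1)
      rw [he0, he1]; decide
    · show ap 18450 (K.c (e 1)) = K.c (e 0)
      rw [he0, he1]; decide
    · show ap 18450 (K.c (e 2)) = K.c (e 3)
      rw [he2, he3]; decide
    · show ap 18450 (K.c (e 3)) = K.c (e 2)
      rw [he2, he3]; decide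
  have hactB : ∀ i, φ b (e i) = e ((![2, 3, 0, 1] : Fin 4 → Fin 4) i) := by
    intro i
    apply hact b _ hb
    fin_cases i
    · show ap 8580 (K.c (e 0)) = K.c (e 2)
      rw [he0, he2]; decide
    · show ap 8580 (K.c (e 1)) = K.c (e 3)
      rw [he1, he3]; decide
    · show ap 8580 (K.c (e 2)) = K.c (e 0)
      rw [he0, he2]; decide
    · show ap 8580 (K.c (e 3)) = K.c (e 1)
      rw [he1, he3]; decide
  have haa : a * a = 1 := K.m_inj hφ (by rw [K.m_mul, ha, K.m_one]; decide)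
  have hbb : b * b = 1 := K.m_inj hφ (by rw [K.m_mul, hb, K.m_one]; decide)
  have hab : a * b = b * a := K.m_inj hφ (by rw [K.m_mul, K.m_mul, ha, hb]; decide)
  by_cases hodd : ∃ y, K.m y ∈ od5
  · -- `S₅`
    right
    obtain ⟨y2, hy2⟩ := hodd
    have hod := K.has_od5 hx hg hy2 ⟨y2, rfl⟩
    have hcard : Nat.card Y = 120 := by
      have h1 := card_of_codes K.m (K.m_inj hφ) (ev5 ++ od5) (by decide +kernel) (Set.univ : Set Y)
        (fun y => by
          rw [List.mem_append]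
          exact ⟨fun _ => K.s5_mem y (h y), fun _ => Set.mem_univ y⟩)
        (fun M hM => by
          rw [List.mem_append] at hM
          rcases hM with hM | hM
          · exact hev M hM
          · exact hod M hM)
      rw [Nat.card_congr (Equiv.Set.univ Y)] at h1
      rw [h1]
      decide +kernel
    have hP8 : ∀ M ∈ lP8, K.Has M := by
      have h1 : ∀ M ∈ lP8, M ∈ ev5 ∨ M ∈ od5 := by decide +kernel
      intro M hM
      rcases h1 M hM with h2 | h2
      · exact hev M h2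
      · exact hod M h2
    obtain ⟨t, ht⟩ := hod 9345 (by decide +kernel)
    obtain ⟨d, hd⟩ := hev 36644 (by decide +kernel)
    obtain ⟨y, hy⟩ := hev 5250 (by decide +kernel)
    have hyi : K.m y⁻¹ = mu 5250 5250 := by
      have h1 : y * y * y = 1 := K.m_inj hφ (by rw [K.m_mul, K.m_mul, hy, K.m_one]; decide)
      have h2 : y⁻¹ = y * y := by
        rw [inv_eq_iff_mul_eq_one, ← mul_assoc]
        exact h1
      rw [h2, K.m_mul, hy]
    have hc4 := K.card_P8 hφ hP8
    have hcl : (K.subY lP8 (by decide) lP8_mu : Subgroup Y) = closure {t, a} := by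
      apply le_antisymm
      · intro g hg
        have htm : t ∈ closure ({t, a} : Set Y) := subset_closure (Or.inl rfl)
        have ham : a ∈ closure ({t, a} : Set Y) := subset_closure (Or.inr rfl)
        rcases lP8_gen _ hg with h | h | h | h | h | h | h | h
        · rw [show g = 1 from K.m_inj hφ (by rw [h, K.m_one])]; exact one_mem _
        · rw [show g = a from K.m_inj hφ (by rw [h, ha])]; exact ham
        · rw [show g = t from K.m_inj hφ (by rw [h, ht])]; exact htm
        · rw [show g = a * t from K.m_inj hφ (by rw [h, K.m_mul, ha, ht])]; exact mul_mem ham htm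
        · rw [show g = t * a from K.m_inj hφ (by rw [h, K.m_mul, ha, ht])]; exact mul_mem htm ham
        · rw [show g = t * (a * t) from K.m_inj hφ (by rw [h, K.m_mul, K.m_mul, ha, ht])]
          exact mul_mem htm (mul_mem ham htm)
        · rw [show g = a * (t * a) from K.m_inj hφ (by rw [h, K.m_mul, K.m_mul, ha, ht])]
          exact mul_mem ham (mul_mem htm ham)
        · rw [show g = (a * t) * (a * t) from K.m_inj hφ (by rw [h, K.m_mul, K.m_mul a, ha, ht])]
          exact mul_mem (mul_mem ham htm) (mul_mem ham htm)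
      · rw [closure_le]
        rintro g (rfl | rfl)
        · show K.m g ∈ lP8
          rw [ht]; decide
        · show K.m g ∈ lP8
          rw [ha]; decide
    have hidx : (K.subY lP8 (by decide) lP8_mu : Subgroup Y).index = 15 := by
      have h1 := (K.subY lP8 (by decide) lP8_mu : Subgroup Y).card_mul_index
      rw [hc4, hcard] at h1
      omega
    obtain ⟨P, hP⟩ := exists_sylow_of_index (H := (K.subY lP8 (by decide) lP8_mu : Subgroup Y))
      (IsPGroup.of_card (n := 3) (by rw [hc4]; norm_num)) (by rw [hidx]; norm_num)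
    have hz : K.c (e 0 * e 1 * e 2 * e 3) = 15 := by
      rw [K.c_mul, K.c_mul, K.c_mul, he0, he1, he2, he3]; decide
    refine ⟨e, t, a, b, d, y, hgen, ?_, hactA, hactB, ?_, haa, hbb, hab, ?_, ?_, ?_, ?_, ?_, ?_, ?_, ?_, ?_, hcard,
      P, ?_, ?_⟩
    · intro i
      apply hact t _ ht
      fin_cases i
      · show ap 9345 (K.c (e 0)) = K.c (e 0)
        rw [he0]; decide
      · show ap 9345 (K.c (e 1)) = K.c (e 3)
        rw [he1, he3]; decide
      · show ap 9345 (K.c (e 2)) = K.c (e 2)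
        rw [he2]; decide
      · show ap 9345 (K.c (e 3)) = K.c (e 1)
        rw [he1, he3]; decide
    · exact K.m_inj hφ (by rw [K.m_mul, ht, K.m_one]; decide)
    · intro h1
      have h2 := congrArg K.m h1
      rw [K.m_mul, K.m_mul, ht, ha] at h2
      exact absurd h2 (by decide)
    · rw [← hcl]
      show K.m b ∈ lP8
      rw [hb]; decide
    · exact K.m_inj hφ (by rw [K.m_mul, K.m_mul, ht, hd]; decide)
    · exact K.m_inj hφ (by rw [K.m_mul, K.m_mul, hd, K.m_one]; decide)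
    · have h13 : K.c (e 1 * e 3) = 10 := by rw [K.c_mul, he1, he3]; decide
      have key : ∀ n < 16, ap 9345 n = n → (ap 36644 n ^^^ n = 0 ∨ ap 36644 n ^^^ n = 10) → n = 0 ∨ n = 10 := by
        decide +kernel
      intro v h1 h2
      have h3 : ap 9345 (K.c v) = K.c v := by rw [← ht, ← K.m_ap, h1]
      have h4 : K.c (φ d v * v⁻¹) = ap 36644 (K.c v) ^^^ K.c v := by
        rw [K.inv_eq, K.c_mul, K.m_ap, hd]
      rcases key _ (K.c_lt v) h3 (by
        rcases h2 with h2 | h2
        · left; rw [← h4, h2, K.c_one]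
        · right; rw [← h4, h2, h13]) with h5 | h5
      · left; exact K.c_eq_zero.mp h5
      · right; exact K.c_inj (h5.trans h13.symm)
    · exact K.m_inj hφ (by rw [K.m_mul, K.m_mul, hy, ha, hyi, hb]; decide)
    · exact K.m_inj hφ (by rw [K.m_mul, K.m_mul, K.m_mul, hy, ha, hyi, hb]; decide)
    · intro h1
      rw [h1, K.c_one] at hz
      exact absurd hz (by norm_num)
    · apply K.c_inj
      rw [K.m_ap, hz, hy]; decide
    · rw [hP, hcl]
    · have h5 : Nat.card P = Nat.card (P : Subgroup Y) := rfl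
      rw [h5, hP, hc4]
  · -- `A₅`
    left
    have hall : ∀ y, K.m y ∈ ev5 := by
      intro y
      rcases K.s5_mem y (h y) with h1 | h1
      · exact h1
      · exact absurd ⟨y, h1⟩ hodd
    have hcard : Nat.card Y = 60 := by
      have h1 := card_of_codes K.m (K.m_inj hφ) ev5 (by decide +kernel) (Set.univ : Set Y)
        (fun y => ⟨fun _ => hall y, fun _ => Set.mem_univ y⟩) hev
      rw [Nat.card_congr (Equiv.Set.univ Y)] at h1
      rw [h1]
      decide +kernel
    have hP4 : ∀ M ∈ lP4, K.Has M := by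
      have h1 : ∀ M ∈ lP4, M ∈ ev5 := by decide +kernel
      exact fun M hM => hev M (h1 M hM)
    have hc4 := K.card_P4 hφ hP4
    have hcl : (K.subY lP4 (by decide) lP4_mu : Subgroup Y) = closure {a, b} := by
      apply le_antisymm
      · intro g hg
        have ham : a ∈ closure ({a, b} : Set Y) := subset_closure (Or.inl rfl)
        have hbm : b ∈ closure ({a, b} : Set Y) := subset_closure (Or.inr rfl)
        rcases lP4_gen _ hg with h | h | h | h
        · rw [show g = 1 from K.m_inj hφ (by rw [h, K.m_one])]; exact one_mem _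
        · rw [show g = a from K.m_inj hφ (by rw [h, ha])]; exact ham
        · rw [show g = b from K.m_inj hφ (by rw [h, hb])]; exact hbm
        · rw [show g = a * b from K.m_inj hφ (by rw [h, K.m_mul, ha, hb])]; exact mul_mem ham hbm
      · rw [closure_le]
        rintro g (rfl | rfl)
        · show K.m g ∈ lP4
          rw [ha]; decide
        · show K.m g ∈ lP4
          rw [hb]; decide
    have hidx : (K.subY lP4 (by decide) lP4_mu : Subgroup Y).index = 15 := by
      have h1 := (K.subY lP4 (by decide) lP4_mu : Subgroup Y).card_mul_index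
      rw [hc4, hcard] at h1
      omega
    obtain ⟨P, hP⟩ := exists_sylow_of_index (H := (K.subY lP4 (by decide) lP4_mu : Subgroup Y))
      (IsPGroup.of_card (n := 2) (by rw [hc4]; norm_num)) (by rw [hidx]; norm_num)
    refine ⟨e, a, b, hgen, hactA, hactB, haa, hbb, hab, hcard, P, ?_, ?_⟩
    · rw [hP, hcl]
    · have h5 : Nat.card P = Nat.card (P : Subgroup Y) := rfl
      rw [h5, hP, hc4]

end Model

end Cfsg.Agent.GH.GL4
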