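import Cfsg.Agent.GH.GL4Data

/-!
# The table check for an element of order five (project GH, letter C2, helper871)
-/

set_option autoImplicit false

namespace Cfsg.Agent.GH.GL4

/-- `X^d` for `d = 1,2,3`, `X^4` otherwise -/
def xp (d : ℕ) : ℕ :=
  bif Nat.beq d 1 then 63554 else bif Nat.beq d 2 then 8068 else bif Nat.beq d 3 then 8696 else
  bif Nat.beq d 0 then 33825 else 16927

def letter (M N d : ℕ) : ℕ :=
  bif Nat.beq d 5 then M else bif Nat.beq d 6 then N else xp d

def step (M N d acc : ℕ) : ℕ := bif Nat.beq d 0 then acc else mu (letter M N d) acc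

def ev (M N : ℕ) : ℕ → ℕ → ℕ → ℕ
  | 0, _, acc => acc
  | n + 1, w, acc => ev M N n (Nat.shiftRight w 3) (step M N (Nat.land w 7) acc)

theorem ev_closed (S : ℕ → Prop) (hS : ∀ a b, S a → S b → S (mu a b)) (hx : ∀ d, S (xp d)) {M N : ℕ}
    (hM : S M) (hN : S N) : ∀ n w acc, S acc → S (ev M N n w acc) := by
  intro n
  induction n with
  | zero => intro w acc h; exact h
  | succ n ih =>
    intro w acc h
    apply ih
    unfold step
    cases Nat.beq (Nat.land w 7) 0
    · simp only [cond_false]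
      apply hS _ _ _ h
      unfold letter
      cases Nat.beq (Nat.land w 7) 5
      · simp only [cond_false]
        cases Nat.beq (Nat.land w 7) 6
        · exact hx _
        · exact hN
      · exact hM
    · exact h

/-- membership in a word list -/
def inL (l : List ℕ) (R : ℕ) : Bool := l.any fun p => Nat.beq (Nat.land p 65535) R

def msk (j : ℕ) : ℕ := bif Nat.beq j 1 then 33046 else bif Nat.beq j 2 then 20680 else 11808

/-- `a ∈ O_j` -/
def inO (j a : ℕ) : Bool := Nat.beq (Nat.land (Nat.shiftRight (msk j) a) 1) 1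

/-- `M` preserves `O_j` -/
def pres (j M : ℕ) : Bool := allLT 16 fun a => bif inO j a then inO j (ap M a) else true

def tow (j : ℕ) : List ℕ := bif Nat.beq j 1 then tow1 else bif Nat.beq j 2 then tow2 else tow3

def gen (j : ℕ) : ℕ := bif Nat.beq j 1 then 5368 else bif Nat.beq j 2 then 18621 else 5064

def entOK2 (M t w : ℕ) : Bool :=
  bif Nat.beq t 0 then inL tnw (ev M M 15 w 33825) else
  bif Nat.beq t 7 then (Nat.ble 1 w && (Nat.ble w 4 && Nat.beq (mu M 63554) (mu (xp w) M))) else
  bif Nat.beq t 6 then (Nat.ble 1 w && (Nat.ble w 15 && Nat.beq (ap M w) 0)) else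
  (Nat.ble t 3 && (pres t M && inL (tow t) (ev M M 15 w 33825)))

def entOK (M e : ℕ) : Bool := entOK2 M (Nat.land e 7) (Nat.shiftRight e 3)

def chk (c0 : ℕ) : List ℕ → ℕ → Bool
  | [], n => Nat.beq n 256
  | b :: l, n => (allLT 16 fun c3 => entOK (Nat.add c0 (Nat.add (Nat.mul 16 n) (Nat.mul 4096 c3)))
      (Nat.land (Nat.shiftRight b (Nat.mul 48 c3)) 281474976710655)) && chk c0 l (Nat.add n 1)

theorem chk_spec (c0 : ℕ) : ∀ (l : List ℕ) (n : ℕ), chk c0 l n = true →
    ∀ k, n ≤ k → k < 256 → ∀ c3 < 16, ∃ e, entOK (c0 + (16 * k + 4096 * c3)) e = true := by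
  intro l
  induction l with
  | nil =>
    intro n h k hk hk2
    have : n = 256 := Nat.eq_of_beq_eq_true h
    omega
  | cons b l ih =>
    intro n h k hk hk2 c3 hc
    have h' : ((allLT 16 fun c3 => entOK (Nat.add c0 (Nat.add (Nat.mul 16 n) (Nat.mul 4096 c3)))
      (Nat.land (Nat.shiftRight b (Nat.mul 48 c3)) 281474976710655)) && chk c0 l (n + 1)) = true := h
    rw [Bool.and_eq_true] at h'
    rcases Nat.eq_or_lt_of_le hk with h1 | h1
    · subst h1
      exact ⟨_, allLT_spec h'.1 c3 hc⟩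
    · exact ih (n + 1) h'.2 k h1 hk2 c3 hc

theorem chk0 : chk 1 tab0 0 = true := by decide +kernel

theorem chk1 : chk 3 tab1 0 = true := by decide +kernel

theorem chk2 : chk 5 tab2 0 = true := by decide +kernel

def chkW (l : List ℕ) (g : ℕ) : Bool :=
  l.all fun p => Nat.beq (ev (Nat.land p 65535) (Nat.land p 65535) 6 (Nat.shiftRight p 16) 33825) g

theorem chkW_tn : chkW tnw 22833 = true := by decide +kernel
theorem chkW_to1 : chkW tow1 5368 = true := by decide +kernel
theorem chkW_to2 : chkW tow2 18621 = true := by decide +kernel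
theorem chkW_to3 : chkW tow3 5064 = true := by decide +kernel

/-- pairs of generators of different types give the natural type -/
theorem pair_check : (inL tnw (ev 5368 18621 5 25461 33825) && (inL tnw (ev 5368 5064 5 27253 33825) &&
    inL tnw (ev 18621 5064 5 26485 33825))) = true := by decide +kernel

theorem inL_spec {l : List ℕ} {g : ℕ} (hl : chkW l g = true) {R : ℕ} (h : inL l R = true) :
    ∃ w, ev R R 6 w 33825 = g := by
  unfold inL at h
  rw [List.any_eq_true] at h
  obtain ⟨p, hp, h1⟩ := h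
  have h2 := List.all_eq_true.mp hl p hp
  rw [Nat.eq_of_beq_eq_true h1] at h2
  exact ⟨_, Nat.eq_of_beq_eq_true h2⟩

theorem tow_spec (j : ℕ) {R : ℕ} (h : inL (tow j) R = true) : ∃ w, ev R R 6 w 33825 = gen j := by
  unfold tow at h
  unfold gen
  cases h1 : Nat.beq j 1
  · rw [h1] at h
    simp only [cond_false] at h ⊢
    cases h2 : Nat.beq j 2
    · rw [h2] at h
      exact inL_spec chkW_to3 h
    · rw [h2] at h
      exact inL_spec chkW_to2 h
  · rw [h1] at h
    exact inL_spec chkW_to1 h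

/-- what the table says about `M` -/
theorem entOK_spec {M e : ℕ} (h : entOK M e = true) :
    (∃ a, 1 ≤ a ∧ a ≤ 15 ∧ ap M a = 0) ∨ (∃ k, 1 ≤ k ∧ k ≤ 4 ∧ mu M 63554 = mu (xp k) M) ∨
    (∃ w, inL tnw (ev M M 15 w 33825) = true) ∨
    (∃ j, 1 ≤ j ∧ j ≤ 3 ∧ pres j M = true ∧ ∃ w, inL (tow j) (ev M M 15 w 33825) = true) := by
  unfold entOK entOK2 at h
  generalize Nat.land e 7 = t at h
  generalize Nat.shiftRight e 3 = w at h
  cases h0 : Nat.beq t 0
  · rw [h0] at h
    simp only [cond_false] at h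
    cases h7 : Nat.beq t 7
    · rw [h7] at h
      simp only [cond_false] at h
      cases h6 : Nat.beq t 6
      · rw [h6] at h
        simp only [cond_false, Bool.and_eq_true] at h
        right; right; right
        refine ⟨t, ?_, Nat.le_of_ble_eq_true h.1, h.2.1, w, h.2.2⟩
        rcases Nat.eq_zero_or_pos t with h1 | h1
        · rw [h1] at h0
          exact absurd h0 (by decide)
        · exact h1
      · rw [h6] at h
        simp only [cond_true, Bool.and_eq_true] at h
        exact Or.inl ⟨w, Nat.le_of_ble_eq_true h.1, Nat.le_of_ble_eq_true h.2.1, Nat.eq_of_beq_eq_true h.2.2⟩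
    · rw [h7] at h
      simp only [cond_true, Bool.and_eq_true] at h
      exact Or.inr (Or.inl ⟨w, Nat.le_of_ble_eq_true h.1, Nat.le_of_ble_eq_true h.2.1,
        Nat.eq_of_beq_eq_true h.2.2⟩)
  · rw [h0] at h
    exact Or.inr (Or.inr (Or.inl ⟨w, h⟩))

theorem table {M : ℕ} (hM : M < 65536) (h : col M 0 = 1 ∨ col M 0 = 3 ∨ col M 0 = 5) :
    (∃ a, 1 ≤ a ∧ a ≤ 15 ∧ ap M a = 0) ∨ (∃ k, 1 ≤ k ∧ k ≤ 4 ∧ mu M 63554 = mu (xp k) M) ∨
    (∃ w, inL tnw (ev M M 15 w 33825) = true) ∨
    (∃ j, 1 ≤ j ∧ j ≤ 3 ∧ pres j M = true ∧ ∃ w, inL (tow j) (ev M M 15 w 33825) = true) := by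
  have e : M = col M 0 + (16 * (col M 1 + 16 * col M 2) + 4096 * col M 3) := by
    have h1 := eq_mk hM
    unfold mk at h1
    omega
  have h1 := col_lt M 1
  have h2 := col_lt M 2
  have h3 := col_lt M 3
  have key : ∃ e, entOK M e = true := by
    rcases h with h | h | h
    · rw [h] at e
      rw [e]
      exact chk_spec 1 tab0 0 chk0 _ (by omega) (by omega) _ h3
    · rw [h] at e
      rw [e]
      exact chk_spec 3 tab1 0 chk1 _ (by omega) (by omega) _ h3
    · rw [h] at e
      rw [e]
      exact chk_spec 5 tab2 0 chk2 _ (by omega) (by omega) _ h3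
  obtain ⟨e, he⟩ := key
  exact entOK_spec he

end Cfsg.Agent.GH.GL4
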