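import Cfsg.Agent.GH.Defs
import Cfsg.Agent.TwoGenCore.IsoMEleven

/-!
# GH: simple groups of 2-rank at most 2 are in the list `K2` (from the statement S0482)
-/

set_option autoImplicit false

open Cfsg Subgroup
open Cfsg.Agent.GH.Defs

namespace Cfsg.Agent.GH.KTwo

/-- The conclusion of S0482. -/
def Concl0482 (G : Type*) [Group G] : Prop :=
  (∃ (F : Type) (_ : Field F) (_ : Fintype F), Odd (Fintype.card F) ∧ 5 ≤ Fintype.card F ∧
        Nonempty (G ≃* Matrix.ProjectiveSpecialLinearGroup (Fin 2) F)) ∨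
      (∃ (F : Type) (_ : Field F) (_ : Fintype F), Odd (Fintype.card F) ∧
        Nonempty (G ≃* Matrix.ProjectiveSpecialLinearGroup (Fin 3) F)) ∨
      (∃ (F : Type) (_ : Field F) (_ : Fintype F) (q : ℕ), Fintype.card F = q ^ 2 ∧ Odd q ∧
        Nonempty (G ≃* Cfsg.PSU 3 F q)) ∨
      (∃ (F : Type) (_ : Field F) (_ : Fintype F), Fintype.card F = 16 ∧ Nonempty (G ≃* Cfsg.PSU 3 F 4)) ∨
      Nonempty (G ≃* alternatingGroup (Fin 7)) ∨
      Cfsg.IsM11 G

/-- From S0482 to `K2`. -/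
theorem k2 {G : Type*} [Group G] [Finite G] (h : Concl0482 G) : K2 G := by
  rcases h with h | h | h | h | h | h
  · exact Or.inl h
  · exact Or.inr (Or.inl h)
  · exact Or.inr (Or.inr (Or.inl h))
  · exact Or.inr (Or.inr (Or.inr (Or.inl h)))
  · exact Or.inr (Or.inr (Or.inr (Or.inr (Or.inl h))))
  · exact Or.inr (Or.inr (Or.inr (Or.inr (Or.inr (TwoGenCore.IsoMEleven.isoM11 h)))))

/-- `K4` for the simple groups of 2-rank at most 2. -/
theorem k4 {G : Type*} [Group G] [Finite G] (h : Concl0482 G) : K4 G := Or.inl (k2 h)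

end Cfsg.Agent.GH.KTwo
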