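import Cfsg.Agent.Intrinsic.Cen
import Cfsg.Agent.GH.Defs
import Cfsg.Agent.SignalizersComponents.CoprimeBasic

/-!
# `XSet`: invariant sets of involutions whose centralizers have exactly one 2-component

* `cenW X W = O^{2'}(C_X(W))`, `isComp_cenW`: a 2-subgroup `W` fixing (normalizing `X`, centralizing
  `X / O(X)`) a 2-component `X` of `H`: `cenW X W` is a 2-component of `H ∩ C(W)` covering `X / O(X)`.
* `eq_of_sup`: two 2-components of `H` covering the same `X / O(X)` are equal.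
* `KK y = L_{2'}(C(y))`; `XBase X`: `X` a conjugation invariant set of involutions, `KK y` is a 2-component
  (hence the only one) of `C(y)` for `y ∈ X`, `X` closed under `y ↦` involutions of `C(y)` fixing `KK y`;
  `XSet X N`: moreover `|KK y / O(KK y)| = N`.
* `XBase.cen_eq`: `y, t ∈ X` commuting and fixing each other: `cen (KK y) t = cen (KK t) y`, the common
  2-component.  `XSet.fixes_symm`: `t` fixes `KK y` iff `y` fixes `KK t`.
-/

set_option autoImplicit false
set_option linter.dupNamespace false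

open Cfsg Subgroup
open Cfsg.Agent.SignalizersComponents Cfsg.Agent.Lib
open Cfsg.Agent.SignalizersComponents.IntrinsicBasic
open Cfsg.Agent.SignalizersComponents.PLayerAut
open Cfsg.Agent.Intrinsic.Basic Cfsg.Agent.Intrinsic.Cen
open Cfsg.Agent.GH.Defs
open scoped commutatorElement

namespace Cfsg.Agent.GH.XSet

variable {G : Type*} [Group G]

/-! ### the elements fixing `K` -/

theorem fixes_one (K : Subgroup G) : Fixes 1 K := by
  rw [fixes_iff_conj]
  exact ⟨one_mem _, fun y _ => by simp⟩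

theorem fixes_mul {K : Subgroup G} {a b : G} (ha : Fixes a K) (hb : Fixes b K) :
    Fixes (a * b) K := by
  rw [fixes_iff_conj] at ha hb ⊢
  refine ⟨mul_mem ha.1 hb.1, fun y hy => ?_⟩
  have h1 := hb.2 y hy
  have hy' : b * y * b⁻¹ ∈ K := (mem_normalizer_iff.mp hb.1 y).mp hy
  have h2 := ha.2 _ hy'
  have h3 : y⁻¹ * (a * b * y * (a * b)⁻¹) =
      y⁻¹ * (b * y * b⁻¹) * ((b * y * b⁻¹)⁻¹ * (a * (b * y * b⁻¹) * a⁻¹)) := by group
  rw [h3]
  exact mul_mem h1 h2

theorem fixes_inv {K : Subgroup G} {a : G} (ha : Fixes a K) : Fixes a⁻¹ K := by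
  rw [fixes_iff_conj] at ha ⊢
  refine ⟨inv_mem ha.1, fun y hy => ?_⟩
  have hy' : a⁻¹ * y * a⁻¹⁻¹ ∈ K := (mem_normalizer_iff.mp (inv_mem ha.1) y).mp hy
  have h2 := inv_mem (ha.2 _ hy')
  have h3 : y⁻¹ * (a⁻¹ * y * a⁻¹⁻¹) =
      ((a⁻¹ * y * a⁻¹⁻¹)⁻¹ * (a * (a⁻¹ * y * a⁻¹⁻¹) * a⁻¹))⁻¹ := by group
  rw [h3]
  exact h2

/-- The subgroup of the elements fixing `K`. -/
def fixer (K : Subgroup G) : Subgroup G where
  carrier := {a | Fixes a K}
  one_mem' := fixes_one K
  mul_mem' := fixes_mul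
  inv_mem' := fixes_inv

theorem mem_fixer {K : Subgroup G} {a : G} : a ∈ fixer K ↔ Fixes a K := Iff.rfl

theorem fixer_le_normalizer (K : Subgroup G) : fixer K ≤ normalizer (K : Set G) := fun _ h => h.1

theorem core_le_fixer (K : Subgroup G) : core K ≤ fixer K := by
  intro c hc
  rw [mem_fixer, fixes_iff_conj]
  refine ⟨le_normalizer (core_le K hc), fun y hy => ?_⟩
  have h1 : y⁻¹ * (c * y * c⁻¹) = (y⁻¹ * c * y⁻¹⁻¹) * c⁻¹ := by group
  rw [h1]
  exact mul_mem (conj_mem_core (le_normalizer (K.inv_mem hy)) hc) (inv_mem hc)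

theorem fixes_of_comm {K : Subgroup G} {a : G} (h : ∀ y ∈ K, Commute a y) : Fixes a K := by
  rw [fixes_iff_conj]
  have h1 : ∀ y ∈ K, a * y * a⁻¹ = y := fun y hy => by
    rw [(h y hy).eq]; group
  refine ⟨?_, fun y hy => ?_⟩
  · rw [mem_normalizer_iff_cj]
    ext x
    rw [mem_cj]
    constructor
    · intro hx
      have h2 := h1 _ hx
      have h3 : a * (a⁻¹ * x * a) * a⁻¹ = x := by group
      rw [h3] at h2
      rw [← h2] at hx
      exact hx
    · intro hx
      have h2 : a⁻¹ * x * a = x := by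
        have h3 := h1 x hx
        calc a⁻¹ * x * a = a⁻¹ * (a * x * a⁻¹) * a := by rw [h3]
          _ = x := by group
      rwa [h2]
  · rw [h1 y hy, inv_mul_cancel]
    exact one_mem _

theorem centralizer_le_fixer (K : Subgroup G) : centralizer (K : Set G) ≤ fixer K := by
  intro a ha
  exact fixes_of_comm fun y hy => (mem_centralizer_iff.mp ha y hy).symm

/-! ### covering -/

section cover

variable [Finite G]

theorem sup_trans {J L X : Subgroup G} (h1 : J ⊔ core L = L) (h2 : L ⊔ core X = X) :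
    J ⊔ core X = X := by
  have hJ : J ≤ L := by rw [← h1]; exact le_sup_left
  have hL : L ≤ X := by rw [← h2]; exact le_sup_left
  refine le_antisymm (sup_le (hJ.trans hL) (core_le X)) ?_
  calc X = (J ⊔ core L) ⊔ core X := by rw [h1, h2]
    _ ≤ J ⊔ core X := sup_le (sup_le le_sup_left ((core_le_of_sup h2).trans le_sup_right))
        le_sup_right

/-- `J ≤ L ≤ X`, `J` covers `X / O(X)` and `L` covers: then `J` covers `L / O(L)`. -/
theorem sup_mid {J L X : Subgroup G} (hJL : J ≤ L) (h1 : J ⊔ core X = X) (h2 : L ⊔ core X = X) :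
    J ⊔ core L = L := by
  have hL : L ≤ X := by rw [← h2]; exact le_sup_left
  refine sup_of_exists hJL fun l hl => ?_
  obtain ⟨j, hj, hc⟩ := exists_mul_of_sup h1 (hL hl)
  refine ⟨j, hj, ?_⟩
  rw [core_of_sup h2]
  exact ⟨L.mul_mem (L.inv_mem (hJL hj)) hl, hc⟩

/-- Two 2-components of `H` covering the same `X / O(X)` are equal. -/
theorem eq_of_sup {H H' L L' X : Subgroup G} (hX : IsComp H' X) (hL : IsComp H L)
    (hL' : IsComp H L') (h1 : L ⊔ core X = X) (h2 : L' ⊔ core X = X) : L = L' := by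
  by_contra hne
  have hLX : L ≤ X := by rw [← h1]; exact le_sup_left
  have hLX' : L' ≤ X := by rw [← h2]; exact le_sup_left
  have h3 : L' ≤ fixer X := by
    intro a ha
    have h4 : Fixes a L := hL.fixes_of_mem hL' hne ha
    exact (fixes_iff_of_sup h1 h4.1 (le_normalizer (hLX' ha))).mp h4
  have h5 : X ≤ fixer X := by
    calc X = L' ⊔ core X := h2.symm
      _ ≤ fixer X := sup_le h3 (core_le_fixer X)
  exact hX.not_fixes fun a ha => h5 ha

omit [Finite G] in
theorem pElem_pElem (M : Subgroup G) :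
    PComponents.pElem 2 (PComponents.pElem 2 M) = PComponents.pElem 2 M := by
  refine le_antisymm (PComponents.pElem_le _) ((Subgroup.closure_le _).mpr ?_)
  rintro y ⟨hy, n, hn⟩
  exact PComponents.mem_pElem (n := n) (PComponents.mem_pElem (n := n) hy hn) hn

/-- If `M ≤ X` covers `X / O(X)`, `X` a 2-component, then `O^{2'}(M)` is a 2-component of `M` and
covers `X / O(X)`. -/
theorem isComp_pElem {H X M : Subgroup G} (hX : IsComp H X) (h : M ⊔ core X = X) :
    IsComp M (PComponents.pElem 2 M) ∧ PComponents.pElem 2 M ⊔ core X = X := by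
  have : Fact (Nat.Prime 2) := ⟨Nat.prime_two⟩
  have hMX : M ≤ X := by rw [← h]; exact le_sup_left
  have hsup : PComponents.pElem 2 M ⊔ core X = X := by
    refine le_antisymm (sup_le ((PComponents.pElem_le _).trans hMX) (core_le X)) ?_
    rw [← hX.pElem_eq]
    refine (Subgroup.closure_le _).mpr ?_
    rintro y ⟨hy, n, hn⟩
    rw [hX.pElem_eq]
    obtain ⟨m, hm, hc⟩ := exists_mul_of_sup h hy
    obtain ⟨a, r, hr, hmr⟩ := Nat.exists_eq_two_pow_mul_odd (n := orderOf m) (orderOf_pos m).ne'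
    obtain ⟨k, hk1, hk2⟩ := Nat.chineseRemainder (Nat.Coprime.pow_right n
      (Nat.coprime_two_right.mpr hr)) 0 1
    have hrk : r ∣ k := (Nat.modEq_zero_iff_dvd).mp hk1
    have hmk : (m ^ k) ^ 2 ^ a = 1 := by
      obtain ⟨j, rfl⟩ := hrk
      rw [← pow_mul]
      apply orderOf_dvd_iff_pow_eq_one.mp
      rw [hmr]
      exact ⟨j, by ring⟩
    have hyk : y ^ k = y := by
      have h1 : orderOf y ∣ 2 ^ n := orderOf_dvd_of_pow_eq_one hn
      have h2 : k ≡ 1 [MOD orderOf y] := hk2.of_dvd h1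
      calc y ^ k = y ^ 1 := pow_eq_pow_iff_modEq.mpr h2
        _ = y := pow_one y
    have hq : (m ^ k)⁻¹ * y ∈ core X := by
      have h1 : (QuotientGroup.mk' (oddCore ↥X)) ⟨m, hMX hm⟩ =
          (QuotientGroup.mk' (oddCore ↥X)) ⟨y, hy⟩ := mk_eq_mk_iff.mpr hc
      have h2 : (QuotientGroup.mk' (oddCore ↥X)) ⟨m ^ k, X.pow_mem (hMX hm) k⟩ =
          (QuotientGroup.mk' (oddCore ↥X)) ⟨y ^ k, X.pow_mem hy k⟩ := by
        have e1 : (⟨m ^ k, X.pow_mem (hMX hm) k⟩ : X) = (⟨m, hMX hm⟩ : X) ^ k := rfl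
        have e2 : (⟨y ^ k, X.pow_mem hy k⟩ : X) = (⟨y, hy⟩ : X) ^ k := rfl
        rw [e1, e2, map_pow, map_pow, h1]
      have h3 := mk_eq_mk_iff.mp h2
      change (m ^ k)⁻¹ * y ^ k ∈ core X at h3
      rwa [hyk] at h3
    have h4 : y = m ^ k * ((m ^ k)⁻¹ * y) := by group
    rw [h4]
    exact mul_mem (mem_sup_left (PComponents.mem_pElem (n := a) (M.pow_mem hm k) hmk))
      (mem_sup_right hq)
  refine ⟨?_, hsup⟩
  rw [isComp_iff]
  refine ⟨PComponents.pElem_le _, (PComponents.pElem_normal_subgroupOf M).isSubnormal, ?_,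
    pElem_pElem M⟩
  obtain ⟨e, -⟩ := exists_quotEquiv hsup
  exact isQuasisimple_of_equiv e.symm (isComp_iff.mp hX).2.2.1

end cover

/-! ### the 2-component of the centralizer of a 2-group -/

/-- `O^{2'}(C_X(W))` -/
def cenW (X W : Subgroup G) : Subgroup G := PComponents.pElem 2 (X ⊓ centralizer (W : Set G))

theorem cenW_le (X W : Subgroup G) : cenW X W ≤ X := (PComponents.pElem_le _).trans inf_le_left

theorem cenW_le_centralizer (X W : Subgroup G) : cenW X W ≤ centralizer (W : Set G) :=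
  (PComponents.pElem_le _).trans inf_le_right

section cenW

variable [Finite G]

/-- `W` a 2-group fixing `X`: `C_X(W)` covers `X / O(X)`. -/
theorem inf_centralizer_sup {X W : Subgroup G} (hW : IsPGroup 2 W) (hf : ∀ w ∈ W, Fixes w X) :
    (X ⊓ centralizer (W : Set G)) ⊔ core X = X := by
  have : Fact (Nat.Prime 2) := ⟨Nat.prime_two⟩
  refine sup_of_exists inf_le_left fun x hx => ?_
  obtain ⟨d, hd, hcomm⟩ := CoprimeBasic.exists_fixed_in_coset W hW (core X)
    ((Nat.coprime_comm.mp (coprime_card_core X)).symm |> fun h => by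
      intro h2
      have h3 := Nat.Coprime.eq_one_of_dvd (Nat.coprime_comm.mp h) h2
      omega)
    (fun a ha d hd => conj_mem_core (hf a ha).1 hd) x
    (fun a ha => (fixes_iff_conj.mp (hf a ha)).2 x hx)
  refine ⟨x * d, ⟨X.mul_mem hx (core_le X hd), ?_⟩, ?_⟩
  · exact mem_centralizer_iff.mpr hcomm
  · have h1 : (x * d)⁻¹ * x = d⁻¹ := by group
    rw [h1]
    exact inv_mem hd

theorem isComp_cenW {H X W : Subgroup G} (hX : IsComp H X) (hW : IsPGroup 2 W)
    (hf : ∀ w ∈ W, Fixes w X) :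
    IsComp (H ⊓ centralizer (W : Set G)) (cenW X W) ∧ cenW X W ⊔ core X = X := by
  obtain ⟨h1, h2⟩ := isComp_pElem hX (inf_centralizer_sup hW hf)
  refine ⟨?_, h2⟩
  refine h1.extend (inf_le_inf_right _ hX.le) ?_
  have h3 := hX.2.1.comap (inclusion (inf_le_left : H ⊓ centralizer (W : Set G) ≤ H))
  convert h3 using 1
  ext ⟨y, hy⟩
  simp only [mem_subgroupOf, mem_comap, mem_inf]
  exact ⟨fun h => h.1, fun h => ⟨h, hy.2⟩⟩

/-- `Y ∩ C(W)` as the centralizer in `Y` of `W`. -/
def centEquiv (Y W : Subgroup G) (hW : W ≤ Y) :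
    ↥(Y ⊓ centralizer (W : Set G)) ≃*
      ↥(centralizer ((W.subgroupOf Y : Subgroup ↥Y) : Set ↥Y)) where
  toFun m := ⟨⟨m, m.2.1⟩, by
    rw [mem_centralizer_iff]
    rintro ⟨w, hw⟩ hw'
    apply Subtype.ext
    exact mem_centralizer_iff.mp m.2.2 w hw'⟩
  invFun m := ⟨m, m.1.2, by
    change ((m : ↥Y) : G) ∈ centralizer (W : Set G)
    rw [mem_centralizer_iff]
    intro w hw
    have h1 := mem_centralizer_iff.mp m.2 ⟨w, hW hw⟩ hw
    exact congrArg Subtype.val h1⟩
  left_inv m := rfl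
  right_inv m := rfl
  map_mul' _ _ := rfl

/-- L-balance for a 2-subgroup `W ≤ H`. -/
theorem isComp_le_L2_of_le {H W J : Subgroup G} (hWH : W ≤ H) (hW : IsPGroup 2 W)
    (hJ : IsComp (H ⊓ centralizer (W : Set G)) J) : J ≤ L2 H := by
  have hT : IsPGroup 2 ↥(W.subgroupOf H) := hW.comap_of_injective H.subtype H.subtype_injective
  have h1 := Cfsg.Agent.S1301.result (X := ↥H) (W.subgroupOf H) hT
  have h2 := isPComponent_map_equiv 2 (centEquiv H W hWH) hJ.2
  intro a ha
  have ha' : (⟨a, hJ.le ha⟩ : ↥(H ⊓ centralizer (W : Set G))) ∈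
      J.subgroupOf (H ⊓ centralizer (W : Set G)) := ha
  have h3 : (centEquiv H W hWH) ⟨a, hJ.le ha⟩ ∈
      pLayer 2 ↥(centralizer ((W.subgroupOf H : Subgroup ↥H) : Set ↥H)) :=
    (le_sSup (show _ ∈ {K | IsPComponent 2 K} from h2)) ⟨_, ha', rfl⟩
  have h4 := h1 ⟨_, h3, rfl⟩
  exact ⟨⟨a, (hJ.le ha).1⟩, h4, rfl⟩

end cenW

/-! ### the sets `X` -/

/-- The 2-layer of the centralizer of `y`. -/
def KK (y : G) : Subgroup G := L2 (centralizer ({y} : Set G))

/-- A conjugation invariant set of involutions `y` such that `KK y` is a 2-component of `C(y)`, closed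
under passing to involutions of `C(y)` fixing `KK y`. -/
structure XBase (X : Set G) : Prop where
  inv : ∀ y ∈ X, orderOf y = 2
  comp : ∀ y ∈ X, IsComp (centralizer ({y} : Set G)) (KK y)
  conj : ∀ y ∈ X, ∀ g : G, g * y * g⁻¹ ∈ X
  closed : ∀ y ∈ X, ∀ u : G, orderOf u = 2 → Commute u y → Fixes u (KK y) → u ∈ X

/-- Moreover `|KK y / O(KK y)| = N` for all `y ∈ X`. -/
structure XSet (X : Set G) (N : ℕ) : Prop extends XBase X where
  card : ∀ y ∈ X, Nat.card (Bar (KK y)) = N

namespace XBase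

variable {X : Set G}

theorem sq (h : XBase X) {y : G} (hy : y ∈ X) : y * y = 1 := by
  rw [← pow_two, ← h.inv y hy, pow_orderOf_eq_one]

theorem ne_one (h : XBase X) {y : G} (hy : y ∈ X) : y ≠ 1 := by
  rintro rfl
  have := h.inv 1 hy
  simp at this

theorem comm_of_mem (h : XBase X) {y k : G} (hy : y ∈ X) (hk : k ∈ KK y) : Commute k y :=
  mem_centralizer_singleton_iff.mp ((h.comp y hy).le hk)

variable [Finite G]

/-- `KK y` is the only 2-component of `C(y)`. -/
theorem unique (h : XBase X) {y : G} (hy : y ∈ X) {M : Subgroup G}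
    (hM : IsComp (centralizer ({y} : Set G)) M) : M = KK y :=
  hM.eq_of_le (h.comp y hy) hM.le_L2

theorem cj_KK (h : XBase X) {y : G} (hy : y ∈ X) (g : G) : cj g (KK y) = KK (g * y * g⁻¹) := by
  have h1 := (h.comp y hy).cj g
  rw [cj_centralizer] at h1
  exact h.unique (h.conj y hy g) h1

theorem mem_normalizer (h : XBase X) {y g : G} (hy : y ∈ X) (hg : Commute g y) :
    g ∈ normalizer (KK y : Set G) := by
  rw [mem_normalizer_iff_cj, h.cj_KK hy]
  congr 1
  rw [hg.eq]
  group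

omit [Finite G] in
theorem fixes_self (h : XBase X) {y : G} (hy : y ∈ X) : Fixes y (KK y) :=
  fixes_of_comm fun _ hk => (h.comm_of_mem hy hk).symm

/-- Commuting elements fixing each other: the 2-components of `C(y) ∩ C(t)` in `KK y`, `KK t` agree. -/
theorem cen_le_cen (h : XBase X) {y t : G} (hy : y ∈ X) (ht : t ∈ X) (hyt : Commute y t)
    (hf : Fixes t (KK y)) : cen (KK y) t ≤ KK t := by
  have h1 := (isComp_cen (h.comp y hy) (mem_centralizer_singleton_iff.mpr hyt.symm.eq) (h.sq ht)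
    hf).1
  rw [inf_comm] at h1
  exact isComp_le_L2 (mem_centralizer_singleton_iff.mpr hyt.eq) (h.sq hy) h1

theorem cen_eq (h : XBase X) {y t : G} (hy : y ∈ X) (ht : t ∈ X) (hyt : Commute y t)
    (hf : Fixes t (KK y)) (hf' : Fixes y (KK t)) : cen (KK y) t = cen (KK t) y := by
  have key : ∀ {y t : G}, y ∈ X → t ∈ X → Commute y t → Fixes t (KK y) →
      cen (KK y) t ≤ cen (KK t) y := by
    intro y t hy ht hyt hf
    refine (Subgroup.closure_le _).mpr ?_
    rintro k ⟨⟨hk1, hk2⟩, n, hn⟩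
    have h1 : k ∈ cen (KK y) t := mem_cen hk1 (mem_centralizer_singleton_iff.mp hk2) hn
    exact mem_cen (h.cen_le_cen hy ht hyt hf h1) (h.comm_of_mem hy hk1).eq hn
  exact le_antisymm (key hy ht hyt hf) (key ht hy hyt.symm hf')

theorem cen_sup (h : XBase X) {y t : G} (hy : y ∈ X) (ht : t ∈ X) (hyt : Commute y t)
    (hf : Fixes t (KK y)) : cen (KK y) t ⊔ core (KK y) = KK y :=
  (isComp_cen (h.comp y hy) (mem_centralizer_singleton_iff.mpr hyt.symm.eq) (h.sq ht) hf).2

/-- A 2-component `L` (generated by 2-elements) covering `KK y` and centralized by `t` covers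
`KK t`. -/
theorem sup_of_commute (h : XBase X) {y t : G} (hy : y ∈ X) (ht : t ∈ X) (hyt : Commute y t)
    (hf : Fixes t (KK y)) (hf' : Fixes y (KK t)) {L : Subgroup G}
    (hL : PComponents.pElem 2 L = L) (hcov : L ⊔ core (KK y) = KK y)
    (hLt : L ≤ centralizer ({t} : Set G)) : L ⊔ core (KK t) = KK t := by
  have hLy : L ≤ KK y := by
    have h1 : L ≤ L ⊔ core (KK y) := le_sup_left
    rwa [hcov] at h1
  have h1 : L ≤ cen (KK y) t := by
    rw [← hL]
    exact PComponents.pElem_mono (le_inf hLy hLt)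
  have h2 := sup_mid h1 hcov (h.cen_sup hy ht hyt hf)
  refine sup_trans h2 ?_
  rw [h.cen_eq hy ht hyt hf hf']
  exact h.cen_sup ht hy hyt.symm hf'

/-! ### 2-groups `W` containing `y ∈ X` and fixing `KK y` -/

omit [Finite G] in
theorem centralizer_le {y : G} {W : Subgroup G} (hyW : y ∈ W) :
    centralizer (W : Set G) ≤ centralizer ({y} : Set G) :=
  Subgroup.centralizer_le (Set.singleton_subset_iff.mpr hyW)

/-- `cenW (KK y) W` is a 2-component of `C(W)` and covers `KK y / O(KK y)`. -/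
theorem isComp_cenW (h : XBase X) {y : G} (hy : y ∈ X) {W : Subgroup G} (hW : IsPGroup 2 W)
    (hyW : y ∈ W) (hf : ∀ w ∈ W, Fixes w (KK y)) :
    IsComp (centralizer (W : Set G)) (cenW (KK y) W) ∧ cenW (KK y) W ⊔ core (KK y) = KK y := by
  have h1 := XSet.isComp_cenW (h.comp y hy) hW hf
  rwa [inf_of_le_right (centralizer_le hyW)] at h1

/-- ... and covers `KK t / O(KK t)` for `t ∈ X ∩ W` commuting with `y`. -/
theorem cenW_sup (h : XBase X) {y : G} (hy : y ∈ X) {W : Subgroup G} (hW : IsPGroup 2 W)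
    (hf : ∀ w ∈ W, Fixes w (KK y)) {t : G} (ht : t ∈ X) (htW : t ∈ W) (hyt : Commute y t)
    (hf' : Fixes y (KK t)) : cenW (KK y) W ⊔ core (KK t) = KK t := by
  refine h.sup_of_commute hy ht hyt (hf t htW) hf' (pElem_pElem _)
    (XSet.isComp_cenW (h.comp y hy) hW hf).2 ?_
  exact (cenW_le_centralizer _ _).trans (centralizer_le htW)

/-- `cenW (KK y) W` is the only 2-component of `C(W)`, if `y ∈ Z(W)`. -/
theorem eq_cenW (h : XBase X) {y : G} (hy : y ∈ X) {W : Subgroup G} (hW : IsPGroup 2 W)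
    (hyW : y ∈ W) (hc : ∀ w ∈ W, Commute w y) (hf : ∀ w ∈ W, Fixes w (KK y)) {M : Subgroup G}
    (hM : IsComp (centralizer (W : Set G)) M) : M = cenW (KK y) W := by
  obtain ⟨h1, h2⟩ := h.isComp_cenW hy hW hyW hf
  have hWy : W ≤ centralizer ({y} : Set G) := fun w hw =>
    mem_centralizer_singleton_iff.mpr (hc w hw).eq
  have hMK : M ≤ KK y := by
    refine isComp_le_L2_of_le hWy hW ?_
    rwa [inf_of_le_right (centralizer_le hyW)]
  by_contra hne
  have h3 : M ≤ fixer (KK y) := by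
    intro a ha
    have h4 : Fixes a (cenW (KK y) W) := h1.fixes_of_mem hM (Ne.symm hne) ha
    exact (fixes_iff_of_sup h2 h4.1 (le_normalizer (hMK ha))).mp h4
  have h5 : M ≤ core (KK y) := by
    calc M = ⁅M, M⁆ := hM.perfect.symm
      _ ≤ core (KK y) := by
        rw [commutator_le]
        intro a ha b hb
        exact (h3 ha).2 b (hMK hb)
  exact hM.not_odd (odd_card_core (KK y)) h5

/-- **The common 2-component.**  `W` a commutative 2-group `≠ 1` all whose involutions are in `X`, fixing all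
`KK y`, `y ∈ X ∩ W`: `C(W)` has exactly one 2-component `L`, and `L` covers `KK y / O(KK y)` for all
`y ∈ X ∩ W`. -/
theorem exists_common (h : XBase X) {W : Subgroup G} (hW : IsPGroup 2 W)
    (hc : ∀ v ∈ W, ∀ w ∈ W, Commute v w) (hne : ∃ y ∈ X, y ∈ W)
    (hf : ∀ y ∈ X, y ∈ W → ∀ w ∈ W, Fixes w (KK y)) :
    ∃ L, IsComp (centralizer (W : Set G)) L ∧
      (∀ M, IsComp (centralizer (W : Set G)) M → M = L) ∧
      ∀ y ∈ X, y ∈ W → cenW (KK y) W = L ∧ L ≤ KK y ∧ L ⊔ core (KK y) = KK y := by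
  obtain ⟨y, hy, hyW⟩ := hne
  obtain ⟨h1, h2⟩ := h.isComp_cenW hy hW hyW (hf y hy hyW)
  refine ⟨cenW (KK y) W, h1, fun M hM => h.eq_cenW hy hW hyW (fun w hw => hc w hw y hyW)
    (hf y hy hyW) hM, fun t ht htW => ?_⟩
  obtain ⟨h3, h4⟩ := h.isComp_cenW ht hW htW (hf t ht htW)
  have h5 := h.eq_cenW hy hW hyW (fun w hw => hc w hw y hyW) (hf y hy hyW) h3
  refine ⟨h5, ?_, ?_⟩
  · rw [← h5]; exact cenW_le _ _
  · rw [← h5]; exact h4

end XBase

namespace XSet

variable {X : Set G} {N : ℕ} [Finite G]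

/-- `t` fixes `KK y` iff `y` fixes `KK t`. -/
theorem fixes_symm (h : XSet X N) {y t : G} (hy : y ∈ X) (ht : t ∈ X) (hyt : Commute y t)
    (hf : Fixes t (KK y)) : Fixes y (KK t) := by
  obtain ⟨J, hJ⟩ : ∃ J, J = cen (KK y) t := ⟨_, rfl⟩
  have hcomp := isComp_cen (h.comp y hy) (mem_centralizer_singleton_iff.mpr hyt.symm.eq)
    (h.toXBase.sq ht) hf
  rw [← hJ] at hcomp
  have hJt : J ≤ KK t := hJ ▸ h.toXBase.cen_le_cen hy ht hyt hf
  have hJy : J ≤ KK y := hJ ▸ cen_le _ _
  -- the orders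
  have hcard : Nat.card (Bar J) = N := by
    obtain ⟨e, -⟩ := exists_quotEquiv hcomp.2
    rw [← h.card y hy]
    exact Nat.card_congr e.toEquiv
  -- `J ∩ O(KK t) ≤ O(J)`
  have hcore : J ⊓ core (KK t) ≤ core J := by
    refine le_core inf_le_left ?_ (Odd.of_dvd_nat (odd_card_core (KK t)) (card_dvd_of_le inf_le_right))
    intro j hj
    have e2 : j ∈ normalizer (core (KK t) : Set G) := le_normalizer_core (KK t) (hJt hj)
    rw [mem_normalizer_iff_cj] at e2 ⊢
    rw [cj_inf, e2, cj_eq_self_of_mem hj]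
  let f : J →* Bar (KK t) := (QuotientGroup.mk' (oddCore ↥(KK t))).comp (inclusion hJt)
  have hker : f.ker ≤ oddCore ↥J := by
    intro j hj
    rw [MonoidHom.mem_ker] at hj
    have h1 : (inclusion hJt j) ∈ oddCore ↥(KK t) := (QuotientGroup.eq_one_iff _).mp hj
    have h2 : (j : G) ∈ core (KK t) := (mem_core_iff (hJt j.2)).mpr h1
    exact (mem_core_iff j.2).mp (hcore ⟨j.2, h2⟩)
  have hrange : f.range = ⊤ := by
    apply Subgroup.eq_top_of_card_eq
    apply le_antisymm (Subgroup.card_le_card_group _)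
    rw [h.card t ht, ← hcard]
    have h1 : Nat.card f.range = f.ker.index := by
      rw [Subgroup.index_ker]
    rw [h1]
    have h2 : (oddCore ↥J).index ∣ f.ker.index := Subgroup.index_dvd_of_le hker
    have h3 : Nat.card (Bar J) = (oddCore ↥J).index := rfl
    rw [h3]
    exact Nat.le_of_dvd (Nat.pos_of_ne_zero Subgroup.index_ne_zero_of_finite) h2
  have hsup : J ⊔ core (KK t) = KK t := by
    refine sup_of_exists hJt fun x hx => ?_
    have h1 : (QuotientGroup.mk' (oddCore ↥(KK t))) ⟨x, hx⟩ ∈ f.range := by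
      rw [hrange]; exact mem_top _
    obtain ⟨j, hj⟩ := h1
    exact ⟨j, j.2, mk_eq_mk_iff.mp hj⟩
  have hyJ : Fixes y J := fixes_of_comm fun k hk => (h.toXBase.comm_of_mem hy (hJy hk)).symm
  exact (fixes_iff_of_sup hsup hyJ.1 (h.toXBase.mem_normalizer ht hyt)).mp hyJ

theorem fixes_comm (h : XSet X N) {y t : G} (hy : y ∈ X) (ht : t ∈ X) (hyt : Commute y t) :
    Fixes t (KK y) ↔ Fixes y (KK t) :=
  ⟨h.fixes_symm hy ht hyt, h.fixes_symm ht hy hyt.symm⟩

end XSet

end Cfsg.Agent.GH.XSet
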