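import Cfsg.Agent.GH.L2AutFour

/-!
# 2-subgroups of `PGL(2,F)`: cyclic or dihedral; automorphisms in `PGL` normalizing a Sylow
2-subgroup of `L`
-/

set_option autoImplicit false

namespace Cfsg.Agent.GH.L2Aut

section gp

variable {G : Type*} [Group G]

/-- `S` is dihedral (or a four-group) with cyclic maximal subgroup `⟨d⟩` and involution `r` outside -/
structure Dih (S : Subgroup G) (d r : G) : Prop where
  d_mem : d ∈ S
  r_mem : r ∈ S
  d1 : d ≠ 1
  r_not : r ∉ Subgroup.zpowers d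
  rr : r * r = 1
  rd : r * d * r⁻¹ = d⁻¹
  cov : ∀ x ∈ S, x ∈ Subgroup.zpowers d ∨ ∃ k : ℤ, x = d ^ k * r

/-- a finite abelian 2-group with at most one involution is cyclic (element form) -/
theorem exists_zpowers [Finite G] (A : Subgroup G) (hA : IsPGroup 2 A)
    (hc : ∀ x ∈ A, ∀ y ∈ A, x * y = y * x) (z : G)
    (hu : ∀ x ∈ A, x * x = 1 → x = 1 ∨ x = z) : ∃ c ∈ A, ∀ x ∈ A, x ∈ Subgroup.zpowers c := by
  classical
  -- an element of maximal order
  obtain ⟨c, hcA, hmax⟩ : ∃ c ∈ A, ∀ x ∈ A, orderOf x ≤ orderOf c := by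
    obtain ⟨c, hc⟩ := Finite.exists_max (fun x : A => orderOf (x : G))
    exact ⟨c, c.2, fun x hx => hc ⟨x, hx⟩⟩
  refine ⟨c, hcA, ?_⟩
  have hpow : ∀ x ∈ A, ∃ n, orderOf x = 2 ^ n := by
    intro x hx
    obtain ⟨n, hn⟩ := (IsPGroup.iff_orderOf.1 hA) ⟨x, hx⟩
    exact ⟨n, by rw [← hn, Subgroup.orderOf_mk]⟩
  by_cases hc1 : c = 1
  · intro x hx
    have h1 := hmax x hx
    rw [hc1, orderOf_one] at h1
    have h2 : orderOf x = 1 := le_antisymm h1 (orderOf_pos x)
    rw [orderOf_eq_one_iff] at h2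
    rw [h2]; exact one_mem _
  -- the involution of ⟨c⟩
  obtain ⟨m, hm⟩ := hpow c hcA
  have hm0 : m ≠ 0 := by
    rintro rfl
    rw [pow_zero, orderOf_eq_one_iff] at hm
    exact hc1 hm
  obtain ⟨m, rfl⟩ := Nat.exists_eq_succ_of_ne_zero hm0
  have hw1 : c ^ 2 ^ m ≠ 1 := by
    intro h
    have h1 := Nat.le_of_dvd (pow_pos (by norm_num) _) (orderOf_dvd_of_pow_eq_one h)
    rw [hm] at h1
    exact absurd h1 (not_le.2 (Nat.pow_lt_pow_right (by norm_num) (Nat.lt_succ_self m)))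
  have hww : c ^ 2 ^ m * c ^ 2 ^ m = 1 := by
    rw [← pow_add, ← two_mul, ← pow_succ', ← hm, pow_orderOf_eq_one]
  have hz : z ∈ Subgroup.zpowers c := by
    rcases hu _ (pow_mem hcA _) hww with h | h
    · exact absurd h hw1
    · rw [← h]; exact Subgroup.pow_mem _ (Subgroup.mem_zpowers c) _
  have key : ∀ n, ∀ x ∈ A, orderOf x = 2 ^ n → x ∈ Subgroup.zpowers c := by
    intro n
    induction n with
    | zero =>
      intro x hx h
      rw [pow_zero, orderOf_eq_one_iff] at h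
      rw [h]; exact one_mem _
    | succ n ih =>
      intro x hx h
      have hx2 : orderOf (x * x) = 2 ^ n := by
        rw [← sq, orderOf_pow, h, pow_succ', Nat.gcd_mul_right_left, Nat.mul_div_cancel_left _ (by norm_num)]
      obtain ⟨k, hk⟩ := Subgroup.mem_zpowers_iff.1 (ih (x * x) (mul_mem hx hx) hx2)
      rcases Int.even_or_odd' k with ⟨l, hl | hl⟩
      · -- x c^{-l} is an involution
        have hcx : Commute x (c ^ l) := by
          have : Commute x c := hc x hx c hcA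
          exact this.zpow_right l
        have h3 : (x * (c ^ l)⁻¹) * (x * (c ^ l)⁻¹) = 1 := by
          have h4 : (x * (c ^ l)⁻¹) * (x * (c ^ l)⁻¹) = x * x * ((c ^ l)⁻¹ * (c ^ l)⁻¹) := by
            have h5 : Commute x (c ^ l)⁻¹ := hcx.inv_right
            rw [mul_assoc, ← mul_assoc (c ^ l)⁻¹, ← h5.eq]
            group
          rw [h4, ← hk, hl, two_mul, zpow_add]
          group
        have h4 : x * (c ^ l)⁻¹ ∈ Subgroup.zpowers c := by
          rcases hu _ (mul_mem hx (inv_mem (zpow_mem hcA l))) h3 with h | h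
          · rw [h]; exact one_mem _
          · rw [h]; exact hz
        have h5 := mul_mem h4 (Subgroup.zpow_mem _ (Subgroup.mem_zpowers c) l)
        rwa [inv_mul_cancel_right] at h5
      · -- x^2 generates ⟨c⟩, so the order of x is too large
        exfalso
        have h3 : c ^ k = x * x := hk
        have h4 : orderOf (c ^ k) = orderOf c := by
          have h5 : IsCoprime k (orderOf c : ℤ) := by
            rw [hm]
            push_cast
            apply IsCoprime.pow_right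
            refine ⟨1, -l, ?_⟩
            rw [hl]; ring
          rw [Int.isCoprime_iff_gcd_eq_one] at h5
          have h6 : Nat.Coprime (orderOf c) k.natAbs := by
            rw [Nat.coprime_comm]
            exact h5
          rcases Int.natAbs_eq k with h7 | h7
          · rw [h7, zpow_natCast]
            exact h6.orderOf_pow
          · rw [h7, zpow_neg, orderOf_inv, zpow_natCast]
            exact h6.orderOf_pow
        have h5 := hmax x hx
        rw [← h4, h3, hx2, h] at h5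
        exact absurd h5 (not_le.2 (Nat.pow_lt_pow_right (by norm_num) (Nat.lt_succ_self n)))
  intro x hx
  obtain ⟨n, hn⟩ := hpow x hx
  exact key n x hx hn

/-- odd powers generate -/
theorem zpowers_odd [Finite G] {c : G} (hc : ∃ n, c ^ 2 ^ n = 1) {k : ℤ} (hk : Odd k) :
    c ∈ Subgroup.zpowers (c ^ k) := by
  obtain ⟨n, hn⟩ := hc
  have h5 : IsCoprime k ((2 ^ n : ℕ) : ℤ) := by
    push_cast
    apply IsCoprime.pow_right
    obtain ⟨l, hl⟩ := hk
    refine ⟨1, -l, ?_⟩
    rw [hl]; ring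
  obtain ⟨u, v, huv⟩ := h5
  rw [Subgroup.mem_zpowers_iff]
  refine ⟨u, ?_⟩
  rw [← zpow_mul, mul_comm]
  have h6 : c ^ (u * k) = c ^ (u * k + v * ((2 ^ n : ℕ) : ℤ)) := by
    rw [zpow_add, mul_comm v, zpow_mul c ((2 ^ n : ℕ) : ℤ), zpow_natCast, hn, one_zpow, mul_one]
  rw [h6, huv, zpow_one]

namespace Dih

variable {S : Subgroup G} {d r : G}

theorem r1 (h : Dih S d r) : r ≠ 1 := fun h1 => h.r_not (by rw [h1]; exact one_mem _)

theorem rinv (h : Dih S d r) : r⁻¹ = r := inv_eq_of_mul_eq_one_left h.rr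

theorem r_pow (h : Dih S d r) (k : ℤ) : r * d ^ k * r⁻¹ = d ^ (-k) := by
  rw [← conj_zpow, h.rd, inv_zpow, zpow_neg]

theorem r_pow' (h : Dih S d r) (k : ℤ) : r * d ^ k = d ^ (-k) * r := by
  rw [← h.r_pow k, inv_mul_cancel_right]

theorem pow_r_sq (h : Dih S d r) (k : ℤ) : d ^ k * r * (d ^ k * r) = 1 := by
  rw [mul_assoc, ← mul_assoc r, h.r_pow', mul_assoc, h.rr, mul_one, ← zpow_add, add_neg_cancel,
    zpow_zero]

theorem pow_r_conj (h : Dih S d r) (k m : ℤ) :
    d ^ k * r * d ^ m * (d ^ k * r)⁻¹ = d ^ (-m) := by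
  rw [mul_inv_rev]
  have h1 : d ^ k * r * d ^ m * (r⁻¹ * (d ^ k)⁻¹) = d ^ k * (r * d ^ m * r⁻¹) * (d ^ k)⁻¹ := by group
  rw [h1, h.r_pow, ← zpow_add, ← zpow_neg, ← zpow_add]
  congr 1
  ring

/-- another reflection may be taken -/
theorem change (h : Dih S d r) (k : ℤ) : Dih S d (d ^ k * r) where
  d_mem := h.d_mem
  r_mem := mul_mem (zpow_mem h.d_mem k) h.r_mem
  d1 := h.d1
  r_not := fun h1 => h.r_not
    ((Subgroup.mul_mem_cancel_left _ (Subgroup.zpow_mem _ (Subgroup.mem_zpowers d) k)).1 h1)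
  rr := h.pow_r_sq k
  rd := by
    have := h.pow_r_conj k 1
    rwa [zpow_one, zpow_neg, zpow_one] at this
  cov := by
    intro x hx
    rcases h.cov x hx with h1 | ⟨m, h1⟩
    · exact Or.inl h1
    · right
      refine ⟨m - k, ?_⟩
      rw [h1, ← mul_assoc, ← zpow_add, sub_add_cancel]

theorem map {H : Type*} [Group H] (f : G →* H) (hf : Function.Injective f) (h : Dih S d r) :
    Dih (S.map f) (f d) (f r) where
  d_mem := Subgroup.mem_map_of_mem f h.d_mem
  r_mem := Subgroup.mem_map_of_mem f h.r_mem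
  d1 := fun h1 => h.d1 (hf (by rw [h1, map_one]))
  r_not := by
    rintro h1
    obtain ⟨k, hk⟩ := Subgroup.mem_zpowers_iff.1 h1
    rw [← map_zpow] at hk
    exact h.r_not (Subgroup.mem_zpowers_iff.2 ⟨k, hf hk⟩)
  rr := by rw [← map_mul, h.rr, map_one]
  rd := by rw [← map_inv, ← map_mul, ← map_mul, h.rd, map_inv]
  cov := by
    rintro _ ⟨x, hx, rfl⟩
    rcases h.cov x hx with h1 | ⟨m, h1⟩
    · left
      obtain ⟨k, hk⟩ := Subgroup.mem_zpowers_iff.1 h1
      exact Subgroup.mem_zpowers_iff.2 ⟨k, by rw [← map_zpow, hk]⟩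
    · exact Or.inr ⟨m, by rw [h1, map_mul, map_zpow]⟩

theorem comap {H : Type*} [Group H] (f : G →* H) (hf : Function.Injective f)
    (h : Dih (S.map f) (f d) (f r)) : Dih S d r where
  d_mem := (Subgroup.mem_map_iff_mem hf).1 h.d_mem
  r_mem := (Subgroup.mem_map_iff_mem hf).1 h.r_mem
  d1 := fun h1 => h.d1 (by rw [h1, map_one])
  r_not := by
    rintro h1
    obtain ⟨k, hk⟩ := Subgroup.mem_zpowers_iff.1 h1
    exact h.r_not (Subgroup.mem_zpowers_iff.2 ⟨k, by rw [← map_zpow, hk]⟩)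
  rr := hf (by rw [map_mul, h.rr, map_one])
  rd := hf (by rw [map_mul, map_mul, map_inv, h.rd, map_inv])
  cov := by
    intro x hx
    rcases h.cov (f x) (Subgroup.mem_map_of_mem f hx) with h1 | ⟨m, h1⟩
    · left
      obtain ⟨k, hk⟩ := Subgroup.mem_zpowers_iff.1 h1
      exact Subgroup.mem_zpowers_iff.2 ⟨k, hf (by rw [map_zpow, hk])⟩
    · exact Or.inr ⟨m, hf (by rw [h1, map_mul, map_zpow])⟩

/-- `|S| = 2 |d|` -/
theorem card [Finite G] (h : Dih S d r) : Nat.card S = 2 * orderOf d := by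
  have h1 : (Subgroup.zpowers d).relIndex S = 2 := by
    rw [Subgroup.relIndex, Subgroup.index_eq_two_iff]
    refine ⟨⟨r, h.r_mem⟩, ?_⟩
    rintro ⟨x, hx⟩
    rw [Subgroup.mem_subgroupOf, Subgroup.mem_subgroupOf]
    change Xor (x * r ∈ Subgroup.zpowers d) (x ∈ Subgroup.zpowers d)
    rcases h.cov x hx with h2 | ⟨k, h2⟩
    · right
      refine ⟨h2, fun h3 => h.r_not ((Subgroup.mul_mem_cancel_left _ h2).1 h3)⟩
    · left
      have h4 : x * r = d ^ k := by rw [h2, mul_assoc, h.rr, mul_one]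
      refine ⟨by rw [h4]; exact Subgroup.zpow_mem _ (Subgroup.mem_zpowers d) k, fun h3 => ?_⟩
      rw [h2] at h3
      exact h.r_not
        ((Subgroup.mul_mem_cancel_left _ (Subgroup.zpow_mem _ (Subgroup.mem_zpowers d) k)).1 h3)
  have h2 := Subgroup.card_mul_index ((Subgroup.zpowers d).subgroupOf S)
  have h3 : Nat.card ((Subgroup.zpowers d).subgroupOf S) = Nat.card (Subgroup.zpowers d) :=
    Nat.card_congr (Subgroup.subgroupOfEquivOfLe
      (by rw [Subgroup.zpowers_le]; exact h.d_mem)).toEquiv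
  rw [Subgroup.relIndex] at h1
  rw [← h2, h1, h3, Nat.card_zpowers, mul_comm]

/-- the central involution of `S` is a power of `d` -/
theorem exists_z [Finite G] (h : Dih S d r) (hS : IsPGroup 2 S) :
    ∃ n : ℕ, orderOf d = 2 ^ (n + 1) ∧ d ^ 2 ^ n * d ^ 2 ^ n = 1 ∧ d ^ 2 ^ n ≠ 1 := by
  obtain ⟨n, hn⟩ := (IsPGroup.iff_orderOf.1 hS) ⟨d, h.d_mem⟩
  rw [Subgroup.orderOf_mk] at hn
  rcases n with _ | n
  · rw [pow_zero, orderOf_eq_one_iff] at hn
    exact absurd hn h.d1
  · refine ⟨n, hn, ?_, ?_⟩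
    · rw [← pow_add, ← two_mul, ← pow_succ', ← hn, pow_orderOf_eq_one]
    · intro h1
      have h2 := Nat.le_of_dvd (pow_pos (by norm_num) _) (orderOf_dvd_of_pow_eq_one h1)
      rw [hn] at h2
      exact absurd h2 (not_le.2 (Nat.pow_lt_pow_right (by norm_num) (Nat.lt_succ_self n)))

end Dih

end gp

end Cfsg.Agent.GH.L2Aut
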