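import Cfsg.Agent.GH.L2Conj
import Cfsg.Agent.GH.L2One.AutSwap

/-!
# GH-L2: further facts on `Aut(L)`, `L ≅ L₂(q)` or `A₇`

* `sylow_coset`: Sylow's theorem in a coset: `S₀` a Sylow 2-subgroup of the normal subgroup `N`, `α`, `β` 2-elements in the
  same coset of `N`, `α` normalising `S₀`: some `N`-conjugate of `β` is in `S₀ α`;
* `AutPlus L p1 p2` : `four` (elements permuting four-groups), `split` (representatives of the cosets of `Inn`);
* `LData`: consequences of `AutData` and `AutPlus` (involutions outside `Inn`, their action on `S`).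
-/

set_option autoImplicit false
set_option linter.unusedSectionVars false

open Cfsg Subgroup
open Cfsg.Agent.Walter.SylowIn
open Cfsg.Agent.GH.L2Aut Cfsg.Agent.GH.L2One Cfsg.Agent.GH.L2Frame

namespace Cfsg.Agent.GH.L2AutPlus

/-- Sylow's theorem in a coset of a normal subgroup. -/
theorem sylow_coset {X : Type*} [Group X] [Finite X] {N S₀ : Subgroup X} [hN : N.Normal]
    (hS : SylIn 2 S₀ N) {α β : X} {m n : ℕ} (hα : α ^ 2 ^ m = 1)
    (hαS : α ∈ normalizer (S₀ : Set X)) (hβ : β ^ 2 ^ n = 1) (hβα : β * α⁻¹ ∈ N) :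
    ∃ y ∈ N, (∃ s ∈ S₀, y * β * y⁻¹ = s * α) ∧
      (β ∈ normalizer (S₀ : Set X) → ∀ s ∈ S₀, y * s * y⁻¹ ∈ S₀) := by
  have : Fact (Nat.Prime 2) := ⟨Nat.prime_two⟩
  let P1 : Subgroup X := S₀ ⊔ zpowers α
  let M : Subgroup X := P1 ⊔ N
  have hP1 : IsPGroup 2 P1 := by
    change IsPGroup 2 ↥(S₀ ⊔ zpowers α)
    rw [sup_comm]
    exact IsPGroup.to_sup_of_normal_right' (isPGroup_zpowers hα) hS.isPGroup
      (by rw [zpowers_le]; exact hαS)
  have hNn : P1 ≤ normalizer (N : Set X) := by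
    rw [normalizer_eq_top_iff.2 hN]; exact le_top
  have hinf : P1 ⊓ N = S₀ :=
    hS.eq_of_le (le_inf le_sup_left hS.le) inf_le_right (hP1.to_le inf_le_left)
  have hidx : ¬ 2 ∣ P1.relIndex M := by
    change ¬ 2 ∣ P1.relIndex (P1 ⊔ N)
    rw [← relIndex_sup hNn, hinf]
    exact hS.not_dvd
  have hP1M : SylIn 2 P1 M := sylIn_of le_sup_left hP1 hidx
  have hαM : α ∈ P1 := mem_sup_right (mem_zpowers α)
  have hβM : β ∈ M := by
    have h1 : β = (β * α⁻¹) * α := by group
    rw [h1]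
    exact M.mul_mem (mem_sup_right hβα) (mem_sup_left hαM)
  -- the key step, for a 2-subgroup `R` of `M`
  have key : ∀ R : Subgroup X, R ≤ M → IsPGroup 2 R → ∃ y ∈ N, ∀ x ∈ R, y * x * y⁻¹ ∈ P1 := by
    intro R hR hR2
    obtain ⟨g, hg, h1⟩ := hP1M.conj_le hR hR2
    obtain ⟨p, hp, y, hy, rfl⟩ := mem_sup_of_normal_right.1 hg
    refine ⟨y, hy, fun x hx => ?_⟩
    have h2 := P1.mul_mem (P1.mul_mem (P1.inv_mem hp) (h1 x hx)) hp
    have h3 : p⁻¹ * (p * y * x * (p * y)⁻¹) * p = y * x * y⁻¹ := by group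
    rwa [h3] at h2
  have fin : ∀ y ∈ N, y * β * y⁻¹ ∈ P1 → ∃ s ∈ S₀, y * β * y⁻¹ = s * α := by
    intro y hy h1
    refine ⟨y * β * y⁻¹ * α⁻¹, ?_, by group⟩
    rw [← hinf]
    refine ⟨P1.mul_mem h1 (P1.inv_mem hαM), ?_⟩
    have h2 : y * β * y⁻¹ * α⁻¹ = y * (β * y⁻¹ * β⁻¹) * (β * α⁻¹) := by group
    rw [h2]
    exact N.mul_mem (N.mul_mem hy (hN.conj_mem _ (N.inv_mem hy) β)) hβα
  by_cases hβS : β ∈ normalizer (S₀ : Set X)
  · have hR2 : IsPGroup 2 ↥(S₀ ⊔ zpowers β) := by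
      rw [sup_comm]
      exact IsPGroup.to_sup_of_normal_right' (isPGroup_zpowers hβ) hS.isPGroup
        (by rw [zpowers_le]; exact hβS)
    obtain ⟨y, hy, h1⟩ := key (S₀ ⊔ zpowers β) (sup_le (le_sup_left.trans le_sup_left)
      (by rw [zpowers_le]; exact hβM)) hR2
    refine ⟨y, hy, fin y hy (h1 β (mem_sup_right (mem_zpowers β))), fun _ s hs => ?_⟩
    rw [← hinf]
    exact ⟨h1 s (mem_sup_left hs), N.mul_mem (N.mul_mem hy (hS.le hs)) (N.inv_mem hy)⟩
  · obtain ⟨y, hy, h1⟩ := key (zpowers β) (by rw [zpowers_le]; exact hβM) (isPGroup_zpowers hβ)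
    exact ⟨y, hy, fin y hy (h1 β (mem_zpowers β)), fun h => absurd h hβS⟩

variable {L : Type*} [Group L]

theorem mul_conj (α : MulAut L) (y : L) : α * MulAut.conj y = MulAut.conj (α y) * α := by
  ext z
  simp only [MulAut.mul_apply, MulAut.conj_apply, map_mul, map_inv]

theorem conj_normal (α : MulAut L) (y : L) : α * MulAut.conj y * α⁻¹ = MulAut.conj (α y) := by
  rw [mul_conj, mul_inv_cancel_right]

instance inn_normal : (MulAut.conj : L →* MulAut L).range.Normal :=
  ⟨by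
    rintro _ ⟨y, rfl⟩ α
    exact ⟨α y, (conj_normal α y).symm⟩⟩

theorem finite_mulAut [Finite L] : Finite (MulAut L) :=
  Finite.of_injective (fun α : MulAut L => (α : L → L)) DFunLike.coe_injective

/-- `sylow_coset` in `Aut(L)`. -/
theorem aut_coset [Finite L] (hc : Function.Injective (MulAut.conj : L →* MulAut L))
    (S : Sylow 2 L) {α β : MulAut L} {m n : ℕ} (hα : α ^ 2 ^ m = 1)
    (hαS : ∀ s ∈ (S : Subgroup L), α s ∈ (S : Subgroup L)) (hβ : β ^ 2 ^ n = 1) {l : L}
    (hβα : β = MulAut.conj l * α) :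
    ∃ y : L, (∃ s ∈ (S : Subgroup L), MulAut.conj y * β * (MulAut.conj y)⁻¹ = MulAut.conj s * α) ∧
      ((∀ s ∈ (S : Subgroup L), β s ∈ (S : Subgroup L)) →
        ∀ s ∈ (S : Subgroup L), y * s * y⁻¹ ∈ (S : Subgroup L)) := by
  have : Fact (Nat.Prime 2) := ⟨Nat.prime_two⟩
  have : Finite (MulAut L) := finite_mulAut
  let N : Subgroup (MulAut L) := (MulAut.conj : L →* MulAut L).range
  let S₀ : Subgroup (MulAut L) := (S : Subgroup L).map (MulAut.conj : L →* MulAut L)
  have hS0 : ∀ {s : L}, MulAut.conj s ∈ S₀ ↔ s ∈ (S : Subgroup L) := by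
    intro s
    constructor
    · rintro ⟨t, ht, hts⟩
      rw [← hc hts]; exact ht
    · intro hs
      exact ⟨s, hs, rfl⟩
  have hS : SylIn 2 S₀ N := by
    refine sylIn_of (map_le_range _ _) (S.2.map _) ?_
    have h1 : S₀.relIndex N = (S : Subgroup L).index := by
      have h2 := relIndex_map_map_of_injective (S : Subgroup L) (⊤ : Subgroup L)
        (f := (MulAut.conj : L →* MulAut L)) hc
      rw [relIndex_top_right, ← MonoidHom.range_eq_map] at h2
      exact h2
    rw [h1]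
    exact S.not_dvd_index
  have hnorm : ∀ {γ : MulAut L}, (∀ s ∈ (S : Subgroup L), γ s ∈ (S : Subgroup L)) →
      γ ∈ normalizer (S₀ : Set (MulAut L)) := by
    intro γ hγ
    have h1 : ∀ x ∈ S₀, γ * x * γ⁻¹ ∈ S₀ := by
      rintro _ ⟨s, hs, rfl⟩
      rw [conj_normal]
      exact ⟨γ s, hγ s hs, rfl⟩
    have h2 : S₀.map (MulAut.conj γ).toMonoidHom = S₀ := by
      apply Subgroup.eq_of_le_of_card_ge
      · rintro _ ⟨x, hx, rfl⟩
        exact h1 x hx
      · rw [card_map_of_injective (f := (MulAut.conj γ).toMonoidHom) (MulAut.conj γ).injective]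
    rw [mem_normalizer_iff]
    intro x
    refine ⟨fun hx => h1 x hx, fun hx => ?_⟩
    rw [← h2] at hx
    obtain ⟨z, hz, hzx⟩ := hx
    have h3 : γ * z * γ⁻¹ = γ * x * γ⁻¹ := hzx
    have h4 : z = x := by
      have := mul_right_cancel h3
      exact mul_left_cancel this
    rw [← h4]; exact hz
  obtain ⟨_, ⟨y, rfl⟩, ⟨_, ⟨s, hs, rfl⟩, h1⟩, h2⟩ := sylow_coset hS hα (hnorm hαS) hβ
    (β := β) (by rw [hβα, mul_inv_cancel_right]; exact ⟨l, rfl⟩)
  refine ⟨y, ⟨s, hs, h1⟩, fun hβS t ht => ?_⟩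
  have h3 := h2 (hnorm hβS) _ (hS0.2 ht)
  rw [← map_inv, ← map_mul, ← map_mul] at h3
  exact hS0.1 h3

/-- Further facts: four-groups, representatives of the cosets of `Inn(L)`. -/
structure AutPlus {A : Type*} [Group A] (p1 : MulAut L →* ℤˣ) (p2 : MulAut L →* A) : Prop where
  four : ∀ a b : L, Four a b → ∃ y : L, y * a * y⁻¹ = b ∧ y * b * y⁻¹ = a * b
  split : ∀ α : MulAut L, p1 α = 1 → ∃ l : L, ∀ n : ℕ, p2 α ^ n = 1 → (MulAut.conj l * α) ^ n = 1
  /-- the image of `p2` is commutative -/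
  comm : ∀ α β : MulAut L, p2 α * p2 β = p2 β * p2 α
  /-- a field involution centralises a four-group and an element permuting it -/
  field_four : ∀ α : MulAut L, α * α = 1 → p2 α ≠ 1 → ∃ a b y : L, Four a b ∧ α a = a ∧ α b = b ∧
    α y = y ∧ y * a * y⁻¹ = b ∧ y * b * y⁻¹ = a * b

section consequences

variable {A : Type*} [Group A] {p1 : MulAut L →* ℤˣ} {p2 : MulAut L →* A} {d : ℕ} {r c : L}

theorem dih {S : Subgroup L} (E : AutData S d r c p1 p2) : AutSwap.Dih S d r c :=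
  ⟨E.d_ge, E.r_mem, E.c_mem, E.cc, E.crc, E.or_eq, E.c_not, E.S_form⟩

/-- `α` is inner. -/
def Inn (α : MulAut L) : Prop := ∃ l : L, α = MulAut.conj l

theorem inn_iff {S : Subgroup L} (E : AutData S d r c p1 p2) {α : MulAut L} :
    Inn α ↔ p1 α = 1 ∧ p2 α = 1 := by
  constructor
  · rintro ⟨l, rfl⟩
    exact ⟨E.inn1 l, E.inn2 l⟩
  · rintro ⟨h1, h2⟩
    exact E.ker α h1 h2

theorem units_mul {a b : ℤˣ} (ha : a ≠ 1) (hb : b ≠ 1) : a * b = 1 := by
  rcases Int.units_eq_one_or a with rfl | rfl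
  · exact absurd rfl ha
  · rcases Int.units_eq_one_or b with rfl | rfl
    · exact absurd rfl hb
    · rfl

theorem sq_hom {B : Type*} [Group B] (p : MulAut L →* B) {α : MulAut L} (h : α * α = 1) :
    p α * p α = 1 := by rw [← map_mul, h, map_one]

/-- Two commuting non-inner involutions have an inner product. -/
theorem outer_mul {S : Subgroup L} (E : AutData S d r c p1 p2) {α β : MulAut L} (hα : α * α = 1)
    (hβ : β * β = 1) (hc : α * β = β * α) (h1 : ¬ Inn α) (h2 : ¬ Inn β) : Inn (α * β) := by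
  rw [inn_iff E] at h1 h2 ⊢
  have key : ∀ {α β : MulAut L}, α * α = 1 → β * β = 1 → α * β = β * α → p2 α ≠ 1 →
      ¬ (p1 β = 1 ∧ p2 β = 1) → p1 α = 1 ∧ p1 β = 1 ∧ p2 β ≠ 1 := by
    intro α β hα hβ hc h3 h4
    have h5 : p1 β = 1 := E.field_o1 α hα h3 β (by rw [← hc, mul_inv_cancel_right])
    exact ⟨E.field_o1 α hα h3 α (by rw [mul_inv_cancel_right]), h5, fun h6 => h4 ⟨h5, h6⟩⟩
  rw [map_mul, map_mul]
  by_cases h3 : p2 α = 1
  · by_cases h4 : p2 β = 1
    · rw [h3, h4, mul_one]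
      exact ⟨units_mul (fun h5 => h1 ⟨h5, h3⟩) (fun h5 => h2 ⟨h5, h4⟩), rfl⟩
    · exact absurd h3 (key hβ hα hc.symm h4 h1).2.2
  · obtain ⟨h5, h6, h7⟩ := key hα hβ hc h3 h2
    have h8 := E.A_inv _ _ (sq_hom p2 hα) h3 (sq_hom p2 hβ) h7
    rw [h5, h6, ← h8, sq_hom p2 hα, mul_one]
    exact ⟨rfl, rfl⟩

theorem pow_of_sq {α : MulAut L} (h : α * α = 1) : α ^ 2 ^ 1 = 1 := by rw [pow_one, pow_two, h]

/-- a conjugate under `L` is in the same coset of `Inn(L)` -/
theorem conj_eq_mul (α : MulAut L) (l : L) :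
    MulAut.conj l * α * (MulAut.conj l)⁻¹ = MulAut.conj (l * α l⁻¹) * α := by
  rw [map_mul, mul_assoc, mul_assoc, ← mul_conj, map_inv]

/-- `α` a 2-element with `α S = S`, `β` in the same coset of `Inn`, `β² = 1`, `p2 β ≠ 1`: some `conj a * α`, `a ∈ S`,
has square 1 and is trivial on `S`. -/
theorem field_split [Finite L] (hc : Function.Injective (MulAut.conj : L →* MulAut L))
    {S : Sylow 2 L} (E : AutData (S : Subgroup L) d r c p1 p2) {α β : MulAut L} {m : ℕ}
    (hα : α ^ 2 ^ m = 1) (hαS : ∀ s ∈ (S : Subgroup L), α s ∈ (S : Subgroup L)) {l : L}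
    (hl : β = MulAut.conj l * α) (hβ : β * β = 1) (hβ2 : p2 β ≠ 1) :
    ∃ a ∈ (S : Subgroup L), (∀ s ∈ (S : Subgroup L), (MulAut.conj a * α) s = s) ∧
      (MulAut.conj a * α) * (MulAut.conj a * α) = 1 := by
  obtain ⟨l', hl'⟩ := E.field_cent β hβ hβ2
  obtain ⟨β', hβ'⟩ : ∃ β', β' = MulAut.conj l' * β * (MulAut.conj l')⁻¹ := ⟨_, rfl⟩
  rw [← hβ'] at hl'
  have hsq : β' * β' = 1 := by
    rw [hβ']
    calc _ = MulAut.conj l' * (β * β) * (MulAut.conj l')⁻¹ := by group
      _ = 1 := by rw [hβ]; group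
  obtain ⟨y, ⟨s, hs, h1⟩, h2⟩ := aut_coset hc S hα hαS (pow_of_sq hsq) (l := l' * β l'⁻¹ * l) (by
    calc β' = MulAut.conj (l' * β l'⁻¹) * β := by rw [hβ', conj_eq_mul]
      _ = MulAut.conj (l' * β l'⁻¹) * (MulAut.conj l * α) := by rw [← hl]
      _ = MulAut.conj (l' * β l'⁻¹ * l) * α := by
        rw [map_mul MulAut.conj (l' * β l'⁻¹) l, mul_assoc])
  have h3 := h2 (fun t ht => by rw [hl' t ht]; exact ht)
  refine ⟨s, hs, ?_, ?_⟩
  · -- `y` normalises `S`
    have h4 : ∀ t ∈ (S : Subgroup L), y⁻¹ * t * y ∈ (S : Subgroup L) := by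
      have h5 : (S : Subgroup L).map (MulAut.conj y).toMonoidHom = S := by
        apply Subgroup.eq_of_le_of_card_ge
        · rintro _ ⟨x, hx, rfl⟩
          exact h3 x hx
        · rw [card_map_of_injective (f := (MulAut.conj y).toMonoidHom) (MulAut.conj y).injective]
      intro t ht
      rw [← h5] at ht
      obtain ⟨x, hx, hxt⟩ := ht
      have h6 : y * x * y⁻¹ = t := hxt
      rw [← h6]
      have h7 : y⁻¹ * (y * x * y⁻¹) * y = x := by group
      rw [h7]; exact hx
    intro t ht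
    rw [← h1, MulAut.mul_apply, MulAut.mul_apply, ← map_inv, MulAut.conj_apply, MulAut.conj_apply,
      inv_inv, hl' _ (h4 t ht)]
    group
  · rw [← h1]
    calc _ = MulAut.conj y * (β' * β') * (MulAut.conj y)⁻¹ := by group
      _ = 1 := by rw [hsq]; group

theorem odd_gen {d : ℕ} {k : ℤ} (hk : Odd k) : ∃ a b : ℤ, a * k + b * 2 ^ d = 1 := by
  have h1 : IsCoprime k ((2 : ℤ) ^ d) := by
    apply IsCoprime.pow_right
    obtain ⟨j, hj⟩ := hk
    exact ⟨1, -j, by rw [hj]; ring⟩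
  exact h1

/-- change of the generator -/
theorem dih_odd {S : Subgroup L} (h : AutSwap.Dih S d r c) {k : ℤ} (hk : Odd k) :
    AutSwap.Dih S d (r ^ k) c := by
  obtain ⟨a, b, hab⟩ := odd_gen (d := d - 1) hk
  have hr : ∀ i : ℤ, (r ^ k) ^ (a * i) = r ^ i := by
    intro i
    have h1 : k * (a * i) = i + 2 ^ (d - 1) * (-(b * i)) := by linear_combination i * hab
    rw [← zpow_mul, h1, zpow_add, (h.rk_one _).2 (Dvd.intro _ rfl), mul_one]
  have hr1 : (r ^ k) ^ a = r := by
    have := hr 1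
    rwa [mul_one, zpow_one] at this
  refine ⟨h.d_ge, S.zpow_mem h.r_mem k, h.c_mem, h.cc, ?_, ?_, ?_, ?_⟩
  · rw [h.crk, zpow_neg]
  · rw [← h.or_eq]
    apply Nat.dvd_antisymm
    · exact orderOf_dvd_of_mem_zpowers (zpow_mem (mem_zpowers r) k)
    · apply orderOf_dvd_of_mem_zpowers
      have h2 : (r ^ k) ^ a ∈ zpowers (r ^ k) := zpow_mem (mem_zpowers (r ^ k)) a
      rwa [hr1] at h2
  · intro m hm
    rw [← zpow_mul] at hm
    exact h.c_not _ hm
  · intro g hg
    obtain ⟨i, hi | hi⟩ := h.form g hg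
    · exact ⟨a * i, Or.inl (by rw [hr, hi])⟩
    · exact ⟨a * i, Or.inr (by rw [hr, hi])⟩

theorem dih_two {S : Subgroup L} (h : AutSwap.Dih S 2 r c) {a b : L} (ha : a ∈ S) (hb : b ∈ S)
    (ha1 : a ≠ 1) (hb1 : b ≠ 1) (hab : a ≠ b) :
    AutSwap.Dih S 2 a b ∧ a * b = b * a ∧ a * a = 1 ∧ b * b = 1 := by
  classical
  have hrr : r * r = 1 := by
    have := pow_orderOf_eq_one r
    rw [h.or_eq] at this
    rwa [show 2 ^ (2 - 1) = 2 from rfl, pow_two] at this
  have hrk : ∀ k : ℤ, r ^ k = 1 ∨ r ^ k = r := by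
    intro k
    rcases Int.even_or_odd k with ⟨m, hm⟩ | ⟨m, hm⟩
    · left
      rw [hm, ← two_mul, zpow_mul, zpow_two, hrr, one_zpow]
    · right
      rw [hm, zpow_add, zpow_mul, zpow_two, hrr, one_zpow, one_mul, zpow_one]
  have hrc : r * c = c * r := by
    have h1 := h.crc
    rw [inv_eq_of_mul_eq_one_right hrr] at h1
    exact (mul_inv_eq_iff_eq_mul.1 h1).symm
  have hform : ∀ g ∈ S, g = 1 ∨ g = r ∨ g = c ∨ g = r * c := by
    intro g hg
    obtain ⟨k, hk | hk⟩ := h.form g hg <;> rcases hrk k with h1 | h1 <;> rw [h1] at hk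
    · exact Or.inl hk
    · exact Or.inr (Or.inl hk)
    · rw [one_mul] at hk
      exact Or.inr (Or.inr (Or.inl hk))
    · exact Or.inr (Or.inr (Or.inr hk))
  have hcomm : ∀ x ∈ S, ∀ y ∈ S, x * y = y * x := by
    have e1 : Commute r c := hrc
    intro x hx y hy
    change Commute x y
    rcases hform x hx with rfl | rfl | rfl | rfl <;> rcases hform y hy with rfl | rfl | rfl | rfl
    · exact Commute.one_left _
    · exact Commute.one_left _
    · exact Commute.one_left _
    · exact Commute.one_left _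
    · exact Commute.one_right _
    · exact Commute.refl _
    · exact e1
    · exact (Commute.refl _).mul_right e1
    · exact Commute.one_right _
    · exact e1.symm
    · exact Commute.refl _
    · exact e1.symm.mul_right (Commute.refl _)
    · exact Commute.one_right _
    · exact ((Commute.refl _).mul_right e1).symm
    · exact (e1.symm.mul_right (Commute.refl _)).symm
    · exact Commute.refl _
  have hsq : ∀ x ∈ S, x * x = 1 := by
    intro x hx
    rcases hform x hx with rfl | rfl | rfl | rfl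
    · exact mul_one 1
    · exact hrr
    · exact h.cc
    · have e1 : Commute r c := hrc
      rw [e1.symm.mul_mul_mul_comm, hrr, h.cc, mul_one]
  have hab' : a * b ≠ 1 := fun h1 => hab (by
    rw [← inv_eq_of_mul_eq_one_right (hsq b hb)]
    exact eq_inv_of_mul_eq_one_left h1)
  have hset : (({1, a, b, a * b} : Finset L) : Set L) = (S : Set L) := by
    apply Set.eq_of_subset_of_ncard_le
    · intro x hx
      simp only [Finset.coe_insert, Finset.coe_singleton, Set.mem_insert_iff,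
        Set.mem_singleton_iff] at hx
      rcases hx with rfl | rfl | rfl | rfl
      · exact S.one_mem
      · exact ha
      · exact hb
      · exact S.mul_mem ha hb
    · have e1 : (S : Set L) ⊆ (({1, r, c, r * c} : Finset L) : Set L) := by
        intro x hx
        simp only [Finset.coe_insert, Finset.coe_singleton, Set.mem_insert_iff,
          Set.mem_singleton_iff]
        exact hform x hx
      have e2 := Set.ncard_le_ncard e1 (Finset.finite_toSet _)
      rw [Set.ncard_coe_finset] at e2 ⊢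
      have e3 : ({1, r, c, r * c} : Finset L).card ≤ 4 := Finset.card_le_four
      have e4 : ({1, a, b, a * b} : Finset L).card = 4 :=
        Finset.card_eq_four.2 ⟨1, a, b, a * b, ha1.symm, hb1.symm, hab'.symm, hab,
          fun h1 => hb1 (left_eq_mul.1 h1), fun h1 => ha1 (right_eq_mul.1 h1), rfl⟩
      omega
    · exact (Set.toFinite ({1, r, c, r * c} : Set L)).subset (fun x hx => hform x hx)
  have hmem : ∀ g ∈ S, g = 1 ∨ g = a ∨ g = b ∨ g = a * b := by
    intro g hg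
    have h1 : g ∈ (S : Set L) := hg
    rw [← hset] at h1
    simpa using h1
  refine ⟨⟨le_rfl, ha, hb, hsq b hb, ?_, ?_, ?_, ?_⟩, hcomm a ha b hb, hsq a ha, hsq b hb⟩
  · rw [hcomm b hb a ha, mul_inv_cancel_right, inv_eq_of_mul_eq_one_right (hsq a ha)]
  · rw [show 2 ^ (2 - 1) = 2 from rfl]
    exact orderOf_eq_prime (by rw [pow_two]; exact hsq a ha) ha1
  · intro k hk
    rcases Int.even_or_odd k with ⟨m, hm⟩ | ⟨m, hm⟩
    · rw [hm, ← two_mul, zpow_mul, zpow_two, hsq a ha, one_zpow] at hk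
      exact hb1 hk
    · rw [hm, zpow_add, zpow_mul, zpow_two, hsq a ha, one_zpow, one_mul, zpow_one] at hk
      exact hab hk.symm
  · intro g hg
    rcases hmem g hg with rfl | rfl | rfl | rfl
    · exact ⟨0, Or.inl (zpow_zero a).symm⟩
    · exact ⟨1, Or.inl (zpow_one _).symm⟩
    · exact ⟨0, Or.inr (by rw [zpow_zero, one_mul])⟩
    · exact ⟨1, Or.inr (by rw [zpow_one])⟩

/-- Action of a non-inner involution on `S`. -/
theorem outer_type [Finite L] (hc : Function.Injective (MulAut.conj : L →* MulAut L))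
    {S : Sylow 2 L} (E : AutData (S : Subgroup L) d r c p1 p2) {α : MulAut L} (hα : α * α = 1)
    (hαS : ∀ s ∈ (S : Subgroup L), α s ∈ (S : Subgroup L)) (h1 : ¬ Inn α) :
    (p2 α ≠ 1 ∧ 3 ≤ d ∧ ∃ a ∈ (S : Subgroup L), ∃ b ∈ (S : Subgroup L), Four a b ∧ α a = a ∧ α b = b) ∨
    (p2 α = 1 ∧ p1 α ≠ 1 ∧ ∃ r' c', AutSwap.Dih (S : Subgroup L) d r' c' ∧ α r' = r'⁻¹ ∧
      α c' = c' * r') := by
  have hD := dih E
  by_cases h2 : p2 α = 1
  · have h3 : p1 α ≠ 1 := fun h3 => h1 ((inn_iff E).2 ⟨h3, h2⟩)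
    refine Or.inr ⟨h2, h3, ?_⟩
    rcases Nat.lt_or_ge 2 d with hd | hd
    · have hd3 : 3 ≤ d := hd
      obtain ⟨k, hk⟩ := AutSwap.exists_refl hD hd3 hαS
      obtain ⟨i, hi, hir⟩ := AutSwap.exists_odd hD hd3 hαS
      have hodd : Odd k := by
        rw [← Int.not_even_iff_odd]
        exact fun h => h3 ((E.swap hd3 α hαS k hk).2 h)
      -- `α² c = r^{ik + k} c`
      have h4 : r ^ (i * k + k) = 1 := by
        have h5 : α (α c) = c := by
          rw [← MulAut.mul_apply, hα, MulAut.one_apply]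
        rw [hk, map_mul, map_zpow, hir, hk, ← zpow_mul, ← mul_assoc, ← zpow_add] at h5
        exact mul_eq_right.1 h5
      rw [hD.rk_one] at h4
      have h5 : (2 : ℤ) ^ (d - 1) ∣ i + 1 := by
        have h6 : i * k + k = (i + 1) * k := by ring
        rw [h6] at h4
        obtain ⟨a, b, hab⟩ := odd_gen (d := d - 1) hodd
        have h7 : IsCoprime ((2 : ℤ) ^ (d - 1)) k := ⟨b, a, by rw [add_comm]; exact hab⟩
        exact h7.dvd_of_dvd_mul_right h4
      have h6 : α r = r⁻¹ := by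
        rw [hir]
        have h7 : r ^ (i + 1) = 1 := (hD.rk_one _).2 h5
        rw [zpow_add, zpow_one] at h7
        exact eq_inv_of_mul_eq_one_left h7
      refine ⟨r ^ (-k), c, dih_odd hD hodd.neg, by rw [map_zpow, h6, inv_zpow], ?_⟩
      rw [hk, hD.c_rk, neg_neg]
    · have hd2 : d = 2 := le_antisymm hd E.d_ge
      subst hd2
      have h4 := (E.small rfl α ⟨1, pow_of_sq hα⟩ hαS).2
      obtain ⟨s, hs, hsα⟩ : ∃ s ∈ (S : Subgroup L), α s ≠ s := by
        by_contra hcon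
        push Not at hcon
        exact h3 (h4.2 hcon)
      have hs1 : s ≠ 1 := by
        rintro rfl
        exact hsα (map_one α)
      have hs2 : α s ≠ 1 := fun h => hs1 (α.injective (by rw [h, map_one]))
      obtain ⟨hD1, hcom, hss, haa⟩ := dih_two hD hs (hαS s hs) hs1 hs2 (Ne.symm hsα)
      have hαα : α (α s) = s := by rw [← MulAut.mul_apply, hα, MulAut.one_apply]
      have h5 : s * α s ≠ 1 := by
        intro h
        exact hsα ((inv_eq_of_mul_eq_one_right h).symm.trans (inv_eq_of_mul_eq_one_right hss))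
      obtain ⟨hD2, -, h6, -⟩ := dih_two hD ((S : Subgroup L).mul_mem hs (hαS s hs)) hs h5 hs1
        (fun h => hs2 (mul_eq_left.1 h))
      refine ⟨s * α s, s, hD2, ?_, ?_⟩
      · rw [map_mul, hαα, ← hcom]
        exact (inv_eq_of_mul_eq_one_right h6).symm
      · rw [← mul_assoc, hss, one_mul]
  · have hd3 : 3 ≤ d := by
      by_contra hd
      have hd2 : d = 2 := by have := E.d_ge; omega
      exact h2 (E.small hd2 α ⟨1, pow_of_sq hα⟩ hαS).1
    refine Or.inl ⟨h2, hd3, ?_⟩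
    obtain ⟨a, ha, h3, h4⟩ := field_split hc E (pow_of_sq hα) hαS (l := 1) (β := α)
      (by rw [map_one, one_mul]) hα h2
    have h5 : ∀ s ∈ (S : Subgroup L), α s = a⁻¹ * s * a := by
      intro s hs
      have h6 := h3 s hs
      rw [MulAut.mul_apply, MulAut.conj_apply] at h6
      calc α s = a⁻¹ * (a * α s * a⁻¹) * a := by group
        _ = a⁻¹ * s * a := by rw [h6]
    have haa : a * a = 1 := by
      have h6 : α a = a := by rw [h5 a ha]; group
      have h7 : MulAut.conj a * α * (MulAut.conj a * α) = MulAut.conj (a * a) := by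
        calc MulAut.conj a * α * (MulAut.conj a * α) =
              MulAut.conj a * (α * MulAut.conj a) * α := by simp only [mul_assoc]
          _ = MulAut.conj a * (MulAut.conj a * α) * α := by rw [mul_conj, h6]
          _ = MulAut.conj a * MulAut.conj a * (α * α) := by simp only [mul_assoc]
          _ = MulAut.conj (a * a) := by rw [hα, mul_one, map_mul]
      rw [h7] at h4
      exact hc (by rw [h4, map_one])
    have hfix : ∀ s ∈ (S : Subgroup L), s * a = a * s → α s = s := by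
      intro s hs h6
      rw [h5 s hs, mul_assoc, h6, inv_mul_cancel_left]
    have hz := hD.z_mem
    by_cases h6 : c * a = a * c
    · exact ⟨_, hz, c, hD.c_mem, hD.four, hfix _ hz (hD.z_comm ha), hfix _ hD.c_mem h6⟩
    · have ha1 : a ≠ 1 := by
        rintro rfl
        exact h6 (by rw [mul_one, one_mul])
      exact ⟨_, hz, a, ha, ⟨hD.z_sq, haa, hD.z_ne, ha1, fun h7 => h6 (by
        rw [← h7]; exact (hD.z_comm hD.c_mem).symm), hD.z_comm ha⟩, hfix _ hz (hD.z_comm ha),
        hfix _ ha rfl⟩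

/-- noncentral involutions of `S` are reflections -/
theorem refl_of {S : Subgroup L} (h : AutSwap.Dih S d r c) {a : L} (ha : a ∈ S) (haa : a * a = 1)
    (hx : ∃ x ∈ S, x * a ≠ a * x) : ∃ k : ℤ, a = r ^ k * c := by
  obtain ⟨k, hk | hk⟩ := h.form a ha
  · exfalso
    obtain ⟨x, hx, hxa⟩ := hx
    apply hxa
    have e1 : r ^ (-k) = r ^ k := by
      rw [← hk, zpow_neg, ← hk]
      exact inv_eq_of_mul_eq_one_right haa
    have e2 : Commute (r ^ k) c := by
      change r ^ k * c = c * r ^ k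
      rw [h.c_rk, e1]
    change Commute x a
    rw [hk]
    obtain ⟨m, hm | hm⟩ := h.form x hx
    · rw [hm]
      exact ((Commute.refl r).zpow_left m).zpow_right k
    · rw [hm]
      exact Commute.mul_left (((Commute.refl r).zpow_left m).zpow_right k) e2.symm
  · exact ⟨k, hk⟩

/-- An automorphism fixing an `S`-class of noncentral involutions has `p1 = 1`. -/
theorem p1_of_class [Finite L] {S : Subgroup L} (E : AutData S d r c p1 p2) (hd : 3 ≤ d)
    {α : MulAut L} (hαS : ∀ s ∈ S, α s ∈ S) {a e : L} (ha : a ∈ S) (haa : a * a = 1)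
    (hx : ∃ x ∈ S, x * a ≠ a * x) (he : e ∈ S) (h : α a = e * a * e⁻¹) : p1 α = 1 := by
  have hD := dih E
  obtain ⟨k, hk⟩ := refl_of hD ha haa hx
  obtain ⟨j, hj⟩ := AutSwap.exists_refl hD hd hαS
  obtain ⟨i, hi, hir⟩ := AutSwap.exists_odd hD hd hαS
  rw [E.swap hd α hαS j hj]
  -- the class of `a`
  obtain ⟨l, hl⟩ : ∃ l : ℤ, Even (l - k) ∧ e * a * e⁻¹ = r ^ l * c := by
    obtain ⟨m, hm | hm⟩ := hD.form e he
    · refine ⟨m + k + m, ⟨m, by ring⟩, ?_⟩
      rw [hm, hk, ← mul_assoc, ← zpow_add, ← zpow_neg, mul_assoc, hD.c_rk, neg_neg, ← mul_assoc,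
        ← zpow_add]
    · refine ⟨m - k + m, ⟨m - k, by ring⟩, ?_⟩
      rw [hm, hk, mul_inv_rev, hD.c_inv, ← zpow_neg]
      calc r ^ m * c * (r ^ k * c) * (c * r ^ (-m)) = r ^ m * (c * r ^ k) * (c * c) * r ^ (-m) := by
            simp only [mul_assoc]
        _ = r ^ (m - k + m) * c := by
          rw [hD.cc, mul_one, hD.c_rk, mul_assoc, mul_assoc, hD.c_rk, neg_neg, ← mul_assoc,
            ← mul_assoc, ← zpow_add, ← zpow_add, sub_eq_add_neg]
  rw [hl.2, hk, map_mul, map_zpow, hir, hj, ← zpow_mul, ← mul_assoc, ← zpow_add] at h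
  have h1 := mul_right_cancel h
  have h2 : r ^ (i * k + j - l) = 1 := by rw [zpow_sub, h1, mul_inv_cancel]
  rw [hD.rk_one] at h2
  have h3 : (2 : ℤ) ∣ i * k + j - l := (dvd_pow_self 2 (by omega)).trans h2
  have h4 : Even (i * k + j - l) := even_iff_two_dvd.2 h3
  obtain ⟨i', hi'⟩ := hi
  obtain ⟨x, hx'⟩ := hl.1
  obtain ⟨y, hy⟩ := h4
  have e1 : j = (i * k + j - l) + (l - k) - (i - 1) * k := by ring
  refine ⟨y + x - i' * k, ?_⟩
  rw [e1, hy, hx', hi']
  ring

/-- A non-inner 2-automorphism with inner square fixing a class of noncentral involutions of `S` is, up to an element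
of `S`, an involutory automorphism centralising `S`. -/
theorem outer_field [Finite L] (hc : Function.Injective (MulAut.conj : L →* MulAut L))
    {S : Sylow 2 L} (E : AutData (S : Subgroup L) d r c p1 p2) (P : AutPlus p1 p2) (hd : 3 ≤ d)
    {α : MulAut L} {m : ℕ} (hα : α ^ 2 ^ m = 1) (hαS : ∀ s ∈ (S : Subgroup L), α s ∈ (S : Subgroup L))
    (h1 : ¬ Inn α) (h2 : Inn (α * α)) {a e : L} (ha : a ∈ (S : Subgroup L)) (haa : a * a = 1)
    (hx : ∃ x ∈ (S : Subgroup L), x * a ≠ a * x) (he : e ∈ (S : Subgroup L)) (h : α a = e * a * e⁻¹) :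
    ∃ b ∈ (S : Subgroup L), (∀ s ∈ (S : Subgroup L), (MulAut.conj b * α) s = s) ∧
      (MulAut.conj b * α) * (MulAut.conj b * α) = 1 := by
  have h3 := p1_of_class E hd hαS ha haa hx he h
  have h4 : p2 α ≠ 1 := fun h4 => h1 ((inn_iff E).2 ⟨h3, h4⟩)
  obtain ⟨l, hl⟩ := P.split α h3
  have h5 := hl 2 (by
    rw [pow_two, ← map_mul]
    exact ((inn_iff E).1 h2).2)
  rw [pow_two] at h5
  exact field_split hc E hα hαS rfl h5 (by rw [map_mul, E.inn2, one_mul]; exact h4)

end consequences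

end Cfsg.Agent.GH.L2AutPlus
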