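import Cfsg.Agent.GH.L2AutPlus
import Cfsg.Agent.GH.L2AutSyl

/-!
# GH-L2: field involutions centralising a Sylow 2-subgroup

* `field_rho`: `α² = 1`, `p2 α ≠ 1`, `α` trivial on `S`: some `y ∈ C_L(α)` permutes `z, v, zv`, `v ∈ S`.
* `field_lift`: `α` a 2-automorphism with `α S = S`, `p1 α = 1`: for some `s ∈ S` the element `conj s * α` has
  the order of `p2 α`.
-/

set_option autoImplicit false
set_option linter.unusedSectionVars false

open Cfsg Subgroup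
open Cfsg.Agent.Walter.SylowIn
open Cfsg.Agent.GH.L2Aut Cfsg.Agent.GH.L2One Cfsg.Agent.GH.L2Frame

namespace Cfsg.Agent.GH.L2AutPlus

variable {L : Type*} [Group L] {A : Type*} [Group A] {p1 : MulAut L →* ℤˣ} {p2 : MulAut L →* A}
  {d : ℕ} {r c : L}

/-- a four-group of `S` contains `z` -/
theorem z_mem_four {S : Subgroup L} (h : AutSwap.Dih S d r c) (hd : 3 ≤ d) {a b : L}
    (hF : Four a b) (ha : a ∈ S) (hb : b ∈ S) :
    a = r ^ (2 ^ (d - 2) : ℤ) ∨ b = r ^ (2 ^ (d - 2) : ℤ) ∨ a * b = r ^ (2 ^ (d - 2) : ℤ) := by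
  have key : ∀ k : ℤ, r ^ k * r ^ k = 1 → r ^ k ≠ 1 → r ^ k = r ^ (2 ^ (d - 2) : ℤ) := by
    intro k h1 h2
    apply h.eq_z hd (S.zpow_mem h.r_mem k) h2
    · rw [← zpow_add_one, ← zpow_one_add, add_comm]
    · rw [h.c_rk, zpow_neg, inv_eq_of_mul_eq_one_right h1]
  obtain ⟨k, hk | hk⟩ := h.form a ha
  · left
    rw [hk]
    exact key k (by rw [← hk]; exact hF.aa) (by rw [← hk]; exact hF.a1)
  · obtain ⟨m, hm | hm⟩ := h.form b hb
    · right; left
      rw [hm]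
      exact key m (by rw [← hm]; exact hF.bb) (by rw [← hm]; exact hF.b1)
    · right; right
      have e1 : a * b = r ^ (k - m) := by
        rw [hk, hm, mul_assoc, ← mul_assoc c, h.c_rk, mul_assoc (r ^ (-m)), h.cc, mul_one, ← zpow_add,
          sub_eq_add_neg]
      rw [e1]
      exact key _ (by rw [← e1]; exact hF.right.bb) (by rw [← e1]; exact hF.right.b1)

/-- the fixed subgroup of an automorphism -/
def fixSub (α : MulAut L) : Subgroup L where
  carrier := {l | α l = l}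
  one_mem' := map_one α
  mul_mem' := by
    intro a b ha hb
    change α (a * b) = a * b
    rw [map_mul, show α a = a from ha, show α b = b from hb]
  inv_mem' := by
    intro a ha
    change α a⁻¹ = a⁻¹
    rw [map_inv, show α a = a from ha]

theorem mem_fixSub {α : MulAut L} {l : L} : l ∈ fixSub α ↔ α l = l := Iff.rfl

/-- The field involution `α` centralises `S`: some element of `C_L(α)` permutes `z, v, zv`. -/
theorem field_rho [Finite L] {S : Sylow 2 L} (E : AutData (S : Subgroup L) d r c p1 p2)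
    (P : AutPlus p1 p2) {α : MulAut L} (hα : α * α = 1) (h2 : p2 α ≠ 1)
    (hS : ∀ s ∈ (S : Subgroup L), α s = s) :
    ∃ v ∈ (S : Subgroup L), ∃ y : L, v * v = 1 ∧ v ≠ 1 ∧ v ≠ r ^ (2 ^ (d - 2) : ℤ) ∧ α y = y ∧
      y * r ^ (2 ^ (d - 2) : ℤ) * y⁻¹ = v ∧ y * v * y⁻¹ = r ^ (2 ^ (d - 2) : ℤ) * v := by
  have : Fact (Nat.Prime 2) := ⟨Nat.prime_two⟩
  have hD := dih E
  have hd3 : 3 ≤ d := by
    by_contra hd
    have hd2 : d = 2 := by have := E.d_ge; omega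
    exact h2 (E.small hd2 α ⟨1, pow_of_sq hα⟩ (fun s hs => by rw [hS s hs]; exact hs)).1
  obtain ⟨a, b, y, hF, h3, h4, h5, h6, h7⟩ := P.field_four α hα h2
  have hSM : (S : Subgroup L) ≤ fixSub α := hS
  have hsyl : SylIn 2 (S : Subgroup L) (fixSub α) := sylIn_of_sylow S hSM
  have hab : hF.sub ≤ fixSub α := by
    rintro x (rfl | rfl | rfl | rfl)
    · exact one_mem _
    · exact h3
    · exact h4
    · exact (fixSub α).mul_mem h3 h4
  obtain ⟨g, hg, h8⟩ := hsyl.conj_le hab hF.sub_two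
  have hg' : α g = g := hg
  -- conjugates
  obtain ⟨a', ha'⟩ : ∃ a', a' = g * a * g⁻¹ := ⟨_, rfl⟩
  obtain ⟨b', hb'⟩ : ∃ b', b' = g * b * g⁻¹ := ⟨_, rfl⟩
  obtain ⟨y', hy'⟩ : ∃ y', y' = g * y * g⁻¹ := ⟨_, rfl⟩
  have haS : a' ∈ (S : Subgroup L) := by rw [ha']; exact h8 a (Or.inr (Or.inl rfl))
  have hbS : b' ∈ (S : Subgroup L) := by rw [hb']; exact h8 b (Or.inr (Or.inr (Or.inl rfl)))
  have hF' : Four a' b' := by rw [ha', hb']; exact hF.map (MulAut.conj g)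
  have hy : α y' = y' := by rw [hy', map_mul, map_mul, map_inv, hg', h5]
  have h9 : y' * a' * y'⁻¹ = b' := by
    rw [hy', ha', hb', ← h6]; group
  have h10 : y' * b' * y'⁻¹ = a' * b' := by
    have e1 : y' * b' * y'⁻¹ = g * (y * b * y⁻¹) * g⁻¹ := by rw [hy', hb']; group
    rw [e1, h7, ha', hb']; group
  have h11 : y' * (a' * b') * y'⁻¹ = a' := by
    have e1 : y' * (a' * b') * y'⁻¹ = (y' * a' * y'⁻¹) * (y' * b' * y'⁻¹) := by group
    rw [e1, h9, h10, hF'.comm, ← mul_assoc, hF'.bb, one_mul]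
  obtain ⟨z, hz⟩ : ∃ z, z = r ^ (2 ^ (d - 2) : ℤ) := ⟨_, rfl⟩
  rw [← hz]
  rcases z_mem_four hD hd3 hF' haS hbS with h12 | h12 | h12 <;> rw [← hz] at h12
  · rw [← h12]
    exact ⟨b', hbS, y', hF'.bb, hF'.b1, hF'.ne.symm, hy, h9, h10⟩
  · rw [← h12]
    refine ⟨a' * b', (S : Subgroup L).mul_mem haS hbS, y', hF'.right.bb, hF'.right.b1,
      fun h => hF'.a1 (mul_eq_right.1 h), hy, h10, ?_⟩
    rw [h11, hF'.comm, ← mul_assoc, hF'.bb, one_mul]
  · rw [← h12]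
    refine ⟨a', haS, y', hF'.aa, hF'.a1, fun h => hF'.b1 (left_eq_mul.1 h), hy, h11, ?_⟩
    rw [h9, hF'.comm, mul_assoc, hF'.aa, mul_one]

/-- An element of `S α` of the order of `p2 α`. -/
theorem field_lift [Finite L] (hc : Function.Injective (MulAut.conj : L →* MulAut L))
    {S : Sylow 2 L} (P : AutPlus p1 p2)
    {α : MulAut L} {m : ℕ} (hα : α ^ 2 ^ m = 1) (hαS : ∀ s ∈ (S : Subgroup L), α s ∈ (S : Subgroup L))
    (h1 : p1 α = 1) :
    ∃ s ∈ (S : Subgroup L), ∀ n : ℕ, p2 α ^ n = 1 → (MulAut.conj s * α) ^ n = 1 := by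
  obtain ⟨l, hl⟩ := P.split α h1
  obtain ⟨β, hβ⟩ : ∃ β, β = MulAut.conj l * α := ⟨_, rfl⟩
  have h2 : β ^ 2 ^ m = 1 := by
    rw [hβ]
    exact hl _ (by rw [← map_pow, hα, map_one])
  obtain ⟨y, ⟨s, hs, h3⟩, -⟩ := aut_coset hc S hα hαS h2 hβ
  refine ⟨s, hs, fun n hn => ?_⟩
  rw [← h3, conj_pow, hβ, hl n hn, mul_one, mul_inv_cancel]

end Cfsg.Agent.GH.L2AutPlus
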