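import Cfsg.Agent.GH.L2Pair

/-!
# GH-L2, (T4): 2-subgroups of `C(v)` have order at most 32
-/

set_option autoImplicit false

open Cfsg Subgroup
open Cfsg.Agent.SignalizersComponents Cfsg.Agent.Lib
open Cfsg.Agent.SignalizersComponents.IntrinsicBasic
open Cfsg.Agent.Intrinsic.Basic Cfsg.Agent.Intrinsic.Cen
open Cfsg.Agent.GH.Defs Cfsg.Agent.GH.Comp Cfsg.Agent.GH.L2Tri
open Cfsg.Agent.GH.XSet

namespace Cfsg.Agent.GH.L2Pair

variable {G : Type*} [Group G] [Finite G]

/-- `E ≤ P`, the product of two elements of `P - E` is in `E`: `|P| ≤ 2 |E|`. -/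
theorem card_le_two_mul {E P : Subgroup G}
    (h : ∀ a ∈ P, ∀ b ∈ P, a ∉ E → b ∉ E → a * b ∈ E) : Nat.card P ≤ 2 * Nat.card E := by
  classical
  by_cases hex : ∃ a ∈ P, a ∉ E
  · obtain ⟨a, ha, haE⟩ := hex
    let f : P → E × Bool := fun p =>
      if hp : (p : G) ∈ E then (⟨p, hp⟩, true) else (⟨a * p, h a ha p p.2 haE hp⟩, false)
    have hf : Function.Injective f := by
      intro p q hpq
      by_cases hp : (p : G) ∈ E
      · by_cases hq : (q : G) ∈ E
        · simp only [f, dif_pos hp, dif_pos hq, Prod.mk.injEq, Subtype.mk.injEq] at hpq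
          exact Subtype.ext hpq.1
        · simp [f, dif_pos hp, dif_neg hq] at hpq
      · by_cases hq : (q : G) ∈ E
        · simp [f, dif_neg hp, dif_pos hq] at hpq
        · simp only [f, dif_neg hp, dif_neg hq, Prod.mk.injEq, Subtype.mk.injEq] at hpq
          exact Subtype.ext (mul_left_cancel hpq.1)
    have h1 := Nat.card_le_card_of_injective f hf
    rw [Nat.card_prod] at h1
    simp at h1
    omega
  · push Not at hex
    have h1 : Nat.card P ≤ Nat.card E := Subgroup.card_le_of_le (show P ≤ E from hex)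
    omega

namespace Quad

variable {X : Set G} {V L U : Subgroup G} {ρ : G} {N : ℕ}

/-- **(L3)** `(T4)`: 2-subgroups of `C(v)`, `v ∈ V#`, have order at most 32. -/
theorem t4_card (h : XSet X N) (q : Quad X V L U ρ) (hr : PRankLE 2 4 G)
    (t4 : T4 (V ⊔ U) V U ρ) {v : G} (hv : v ∈ V) (hv1 : v ≠ 1) {T : Subgroup G}
    (hT : IsPGroup 2 T) (hTv : T ≤ centralizer ({v} : Set G)) : Nat.card T ≤ 32 := by
  have : Fact (Nat.Prime 2) := ⟨Nat.prime_two⟩
  obtain ⟨C, hC⟩ : ∃ C : Subgroup G, C = centralizer ({v} : Set G) := ⟨_, rfl⟩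
  have hEC : V ⊔ U ≤ C := by
    intro e he
    rw [hC, mem_centralizer_singleton_iff]
    exact q.commE e he v (mem_sup_left hv)
  have hE2 : IsPGroup 2 (V ⊔ U : Subgroup G) := by
    apply IsPGroup.of_card (n := 4)
    rw [q.cardE h]
    norm_num
  rw [← hC] at hTv
  have hE' : IsPGroup 2 ((V ⊔ U).subgroupOf C) :=
    hE2.of_equiv (subgroupOfEquivOfLe hEC).symm
  obtain ⟨P₀, hP₀⟩ := hE'.exists_le_sylow
  have hT' : IsPGroup 2 (T.subgroupOf C) := hT.of_equiv (subgroupOfEquivOfLe hTv).symm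
  obtain ⟨Q₀, hQ₀⟩ := hT'.exists_le_sylow
  have h1 : Nat.card T ≤ Nat.card (Q₀ : Subgroup C) := by
    rw [← Nat.card_congr (subgroupOfEquivOfLe hTv).toEquiv]
    exact Subgroup.card_le_of_le hQ₀
  have h2 : Nat.card (Q₀ : Subgroup C) = Nat.card (P₀ : Subgroup C) :=
    Nat.card_congr (Q₀.equiv P₀).toEquiv
  obtain ⟨P, hP⟩ : ∃ P : Subgroup G, P = (P₀ : Subgroup C).map C.subtype := ⟨_, rfl⟩
  have h3 : Nat.card P = Nat.card (P₀ : Subgroup C) := by
    rw [hP]
    exact card_map_of_injective C.subtype_injective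
  have hP2 : IsPGroup 2 P := hP ▸ P₀.isPGroup'.map _
  have hEP : V ⊔ U ≤ P := by
    intro e he
    rw [hP]
    exact ⟨⟨e, hEC he⟩, hP₀ he, rfl⟩
  have hPv : ∀ t ∈ P, t * v = v * t := by
    intro t ht
    rw [hP] at ht
    obtain ⟨y, -, rfl⟩ := ht
    have h4 : (y : G) ∈ centralizer ({v} : Set G) := hC ▸ y.2
    exact mem_centralizer_singleton_iff.mp h4
  have h5 := card_le_two_mul (q.t4_T h hr t4 hv hv1 hP2 hEP hPv).2
  rw [q.cardE h] at h5
  omega

end Quad

end Cfsg.Agent.GH.L2Pair
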