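import Cfsg.Agent.GH.L2Tri
import Cfsg.Agent.TwoFusion.DihedralFusion

/-!
# GH-L2: four-groups of groups with dihedral Sylow 2-subgroups

`F4 Y`: for every four-group `U` of `Y` the 2-elements of `C(U)` are in `U`, and some element of `N(U)`
acts on `U` without fixed points.

* `f4_of_dihedral`: `F4 X` for `X` finite with dihedral Sylow 2-subgroups (order at least 4) and no subgroup of
  index two.
* `F4.congr`: invariance under isomorphisms.
-/

set_option autoImplicit false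

open Subgroup
open Cfsg.Agent.TwoFusion.DihedralSylow Cfsg.Agent.TwoFusion.DihedralFusion
open Cfsg.Agent.SignalizersComponents.IntrinsicBasic (cj mem_cj conj_mem_cj cj_one cj_mul
  cj_inv_cj cj_cj_inv cj_injective cj_mono mem_normalizer_iff_cj)
open Cfsg.Agent.GH.L2Tri

namespace Cfsg.Agent.GH.L2FourFact

/-- The property of four-groups. -/
def F4 (Y : Type*) [Group Y] : Prop :=
  ∀ U : Subgroup Y, Four U → (∀ a : Y, (∀ u ∈ U, a * u = u * a) → ∀ n : ℕ, a ^ 2 ^ n = 1 → a ∈ U) ∧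
    ∃ y : Y, (∀ u ∈ U, y * u * y⁻¹ ∈ U) ∧ ∀ u ∈ U, u ≠ 1 → y * u * y⁻¹ ≠ u

theorem four_map {X Y : Type*} [Group X] [Group Y] {f : X →* Y} (hf : Function.Injective f)
    {U : Subgroup X} (h : Four U) : Four (U.map f) := by
  refine ⟨?_, ?_, ?_⟩
  · rintro _ ⟨a, ha, rfl⟩ _ ⟨b, hb, rfl⟩
    rw [← map_mul, ← map_mul, h.comm a ha b hb]
  · rintro _ ⟨a, ha, rfl⟩
    rw [← map_mul, h.sq a ha, map_one]
  · rw [card_map_of_injective hf]
    exact h.card

theorem F4.congr {X Y : Type*} [Group X] [Group Y] (e : X ≃* Y) (h : F4 X) : F4 Y := by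
  intro U hU
  obtain ⟨h1, y, h2, h3⟩ := h (U.map e.symm.toMonoidHom) (four_map e.symm.injective hU)
  have key : ∀ {a : Y}, a ∈ U → e.symm a ∈ U.map e.symm.toMonoidHom := fun ha => ⟨_, ha, rfl⟩
  have key' : ∀ {x : X}, x ∈ U.map e.symm.toMonoidHom → e x ∈ U := by
    rintro x ⟨a, ha, rfl⟩
    change e (e.symm a) ∈ U
    rwa [e.apply_symm_apply]
  refine ⟨?_, e y, ?_, ?_⟩
  · intro a ha n hn
    have h4 := h1 (e.symm a) (by
      rintro _ ⟨u, hu, rfl⟩
      change e.symm a * e.symm u = e.symm u * e.symm a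
      rw [← map_mul, ha u hu, map_mul]) n (by rw [← map_pow, hn, map_one])
    have h5 := key' h4
    rwa [e.apply_symm_apply] at h5
  · intro u hu
    have h4 := key' (h2 _ (key hu))
    rwa [map_mul, map_mul, map_inv, e.apply_symm_apply] at h4
  · intro u hu hu1 h4
    refine h3 _ (key hu) (fun h5 => hu1 (e.symm.injective (by rw [h5, map_one]))) ?_
    apply e.injective
    rw [map_mul, map_mul, map_inv, e.apply_symm_apply]
    exact h4

section dihedral

variable {X : Type*} [Group X] [Finite X] {m : ℕ} {r z : X}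

omit [Finite X] in
/-- a four-group of a dihedral group -/
theorem four_le {S : Subgroup X} (hD : DihData S m r z) {U : Subgroup X} (hU : Four U)
    (hUS : U ≤ S) : z ∈ U ∧ ∃ t ∈ U, t ∉ zpowers r := by
  obtain ⟨t, ht, htr⟩ : ∃ t ∈ U, t ∉ zpowers r := by
    by_contra hcon
    push Not at hcon
    obtain ⟨b, hb, hb1, hbz⟩ := hU.exists_ne' z
    rcases hD.eq_z b (hcon b hb) (hU.sq b hb) with h | h
    · exact hb1 h
    · exact hbz h
  refine ⟨?_, t, ht, htr⟩
  obtain ⟨b, hb, hb1, hbt⟩ := hU.exists_ne' t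
  by_cases hbr : b ∈ zpowers r
  · rcases hD.eq_z b hbr (hU.sq b hb) with h | h
    · exact absurd h hb1
    · rw [← h]; exact hb
  · have h1 := hD.refl_mul t (hUS ht) b (hUS hb) htr hbr
    have h2 := hU.sq _ (mul_mem ht hb)
    rcases hD.eq_z _ h1 h2 with h | h
    · exfalso
      apply hbt
      have h3 : t = b⁻¹ := eq_inv_of_mul_eq_one_left h
      rw [hU.inv hb] at h3
      exact h3.symm
    · rw [← h]; exact mul_mem ht hb

omit [Finite X] in
/-- four-groups of a dihedral group are self-centralizing -/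
theorem self_le {S : Subgroup X} (hD : DihData S m r z) {U : Subgroup X} (hU : Four U)
    (hUS : U ≤ S) {a : X} (ha : a ∈ S) (haU : ∀ u ∈ U, a * u = u * a) : a ∈ U := by
  obtain ⟨hz, t, ht, htr⟩ := four_le hD hU hUS
  have hat := haU t ht
  have ht2 := hU.sq t ht
  by_cases har : a ∈ zpowers r
  · have h1 : t * a ∉ zpowers r := fun h => htr (by
      have h2 := mul_mem h (inv_mem har)
      rwa [mul_inv_cancel_right] at h2)
    have h2 := hD.refl_sq _ (mul_mem (hUS ht) ha) h1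
    have h3 : t * a * (t * a) = a * a := by
      calc t * a * (t * a) = a * t * (t * a) := by rw [hat]
        _ = a * (t * t) * a := by group
        _ = a * a := by rw [ht2, mul_one]
    rw [h3] at h2
    rcases hD.eq_z a har h2 with h | h
    · rw [h]; exact U.one_mem
    · rw [h]; exact hz
  · have h1 := hD.refl_mul t (hUS ht) a ha htr har
    have h2 := hD.refl_sq a ha har
    have h3 : t * a * (t * a) = 1 := by
      calc t * a * (t * a) = a * t * (t * a) := by rw [hat]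
        _ = a * (t * t) * a := by group
        _ = 1 := by rw [ht2, mul_one, h2]
    have h4 : a = t * (t * a) := by rw [← mul_assoc, ht2, one_mul]
    rcases hD.eq_z _ h1 h3 with h | h
    · rw [h4, h, mul_one]; exact ht
    · rw [h4, h]; exact mul_mem ht hz

omit [Finite X] in
theorem isPGroup_four {U : Subgroup X} (hU : Four U) : IsPGroup 2 U := by
  rintro ⟨u, hu⟩
  refine ⟨1, ?_⟩
  apply Subtype.ext
  simpa [pow_two] using hU.sq u hu

omit [Finite X] in
theorem isPGroup_zpowers {a : X} {n : ℕ} (hn : a ^ 2 ^ n = 1) : IsPGroup 2 (zpowers a) := by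
  rintro ⟨_, k, rfl⟩
  refine ⟨n, ?_⟩
  apply Subtype.ext
  change (a ^ k) ^ (2 ^ n) = 1
  rw [← zpow_natCast, ← zpow_mul, mul_comm, zpow_mul, zpow_natCast, hn, one_zpow]

theorem self_of (S : Sylow 2 X) (hD : DihData (S : Subgroup X) m r z) {U : Subgroup X}
    (hU : Four U) {a : X} (haU : ∀ u ∈ U, a * u = u * a) {n : ℕ} (hn : a ^ 2 ^ n = 1) : a ∈ U := by
  have : Fact (Nat.Prime 2) := ⟨Nat.prime_two⟩
  have h1 : zpowers a ≤ normalizer (U : Set X) := by
    rw [zpowers_le, mem_normalizer_iff_cj]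
    ext x
    rw [mem_cj]
    constructor
    · intro hx
      have h2 := haU _ hx
      have h3 : x = a * (a⁻¹ * x * a) * a⁻¹ := by group
      rw [h3, h2, mul_inv_cancel_right]
      exact hx
    · intro hx
      rw [mul_assoc, ← haU x hx, inv_mul_cancel_left]
      exact hx
  have h2 : IsPGroup 2 (zpowers a ⊔ U : Subgroup X) :=
    (isPGroup_zpowers hn).to_sup_of_normal_right' (isPGroup_four hU) h1
  obtain ⟨g, -, hg⟩ := exists_conj_mem S ⊤ (zpowers a ⊔ U) le_top le_top h2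
  have h3 := self_le hD (hU.cj g) (by
    rintro _ ⟨u, hu, rfl⟩
    exact hg u (mem_sup_right hu)) (hg a (mem_sup_left (mem_zpowers a))) (by
    rintro _ ⟨u, hu, rfl⟩
    change g * a * g⁻¹ * (g * u * g⁻¹) = g * u * g⁻¹ * (g * a * g⁻¹)
    have e1 : g * a * g⁻¹ * (g * u * g⁻¹) = g * (a * u) * g⁻¹ := by group
    have e2 : g * u * g⁻¹ * (g * a * g⁻¹) = g * (u * a) * g⁻¹ := by group
    rw [e1, e2, haU u hu])
  rw [mem_cj] at h3
  have e : g⁻¹ * (g * a * g⁻¹) * g = a := by group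
  rwa [e] at h3

/-- `|S| ≥ 8`: for `u ∈ U#` there is an element of `N(U)` fixing `u` and moving the others. -/
theorem exists_swap (S : Sylow 2 X) (hD : DihData (S : Subgroup X) m r z) (h4 : 4 ∣ m)
    (hX : ∀ H : Subgroup X, H.index ≠ 2) {U : Subgroup X}
    (hU : Four U) {u : X} (hu : u ∈ U) (hu1 : u ≠ 1) :
    ∃ t : X, t * u * t⁻¹ = u ∧ ∀ w ∈ U, w ≠ 1 → w ≠ u → t * w * t⁻¹ = u * w := by
  have : Fact (Nat.Prime 2) := ⟨Nat.prime_two⟩
  obtain ⟨g, hg⟩ := isConj_iff.mp (isConj_z_of_no_index_two S hD hX u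
    ((orderOf_two_iff u).2 ⟨hU.sq u hu, hu1⟩))
  obtain ⟨c, hc, hcU⟩ := exists_conj_mem S (centralizer ({z} : Set X)) (cj g U) (by
    intro s hs
    exact mem_centralizer_singleton_iff.mpr (hD.z_comm s hs)) (by
    rintro _ ⟨w, hw, rfl⟩
    rw [mem_centralizer_singleton_iff, ← hg]
    change g * w * g⁻¹ * (g * u * g⁻¹) = g * u * g⁻¹ * (g * w * g⁻¹)
    have e1 : g * w * g⁻¹ * (g * u * g⁻¹) = g * (w * u) * g⁻¹ := by group
    have e2 : g * u * g⁻¹ * (g * w * g⁻¹) = g * (u * w) * g⁻¹ := by group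
    rw [e1, e2, hU.comm w hw u hu]) (isPGroup_four (hU.cj g))
  have hcz : c * z = z * c := mem_centralizer_singleton_iff.mp hc
  -- `k = c g`
  have hku : (c * g) * u * (c * g)⁻¹ = z := by
    have e : (c * g) * u * (c * g)⁻¹ = c * (g * u * g⁻¹) * c⁻¹ := by group
    rw [e, hg, hcz, mul_inv_cancel_right]
  have hUS : cj (c * g) U ≤ S := by
    rintro _ ⟨w, hw, rfl⟩
    have h1 := hcU _ (conj_mem_cj (g := g) hw)
    have e : c * (g * w * g⁻¹) * c⁻¹ = (c * g) * w * (c * g)⁻¹ := by group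
    rw [e] at h1
    exact h1
  have hU' := hU.cj (c * g)
  obtain ⟨hz, t, ht, htr⟩ := four_le hD hU' hUS
  obtain ⟨s, hs, hst⟩ := hD.swap h4 t (hUS ht) htr
  have hsz : s * z * s⁻¹ = z := by rw [hD.z_comm s hs, mul_inv_cancel_right]
  have ht1 : t ≠ 1 := fun h => htr (h ▸ one_mem _)
  have htz : t ≠ z := fun h => htr (h ▸ hD.z_mem)
  refine ⟨(c * g)⁻¹ * s * (c * g), ?_, ?_⟩
  · have e : (c * g)⁻¹ * s * (c * g) * u * ((c * g)⁻¹ * s * (c * g))⁻¹ =
        (c * g)⁻¹ * (s * ((c * g) * u * (c * g)⁻¹) * s⁻¹) * (c * g) := by group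
    rw [e, hku, hsz, ← hku]
    group
  · intro w hw hw1 hwu
    have hkw : (c * g) * w * (c * g)⁻¹ ∈ cj (c * g) U := conj_mem_cj hw
    have e : (c * g)⁻¹ * s * (c * g) * w * ((c * g)⁻¹ * s * (c * g))⁻¹ =
        (c * g)⁻¹ * (s * ((c * g) * w * (c * g)⁻¹) * s⁻¹) * (c * g) := by group
    have key : s * ((c * g) * w * (c * g)⁻¹) * s⁻¹ = z * ((c * g) * w * (c * g)⁻¹) := by
      rcases hU'.cases hz ht hD.z_ne ht1 (Ne.symm htz) hkw with h | h | h | h
      · exfalso
        apply hw1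
        have e : w = (c * g)⁻¹ * ((c * g) * w * (c * g)⁻¹) * (c * g) := by group
        rw [e, h]; group
      · exfalso
        apply hwu
        have e : w = (c * g)⁻¹ * ((c * g) * w * (c * g)⁻¹) * (c * g) := by group
        rw [e, h, ← hku]; group
      · rw [h]; exact hst
      · rw [h]
        have e : s * (z * t) * s⁻¹ = (s * z * s⁻¹) * (s * t * s⁻¹) := by group
        rw [e, hsz, hst]
    rw [e, key, ← hku]
    group

/-- `|S| = 4`: `N(U)` is transitive on `U#`. -/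
theorem exists_trans (S : Sylow 2 X) (hD : DihData (S : Subgroup X) 2 r z)
    (hX : ∀ H : Subgroup X, H.index ≠ 2) {U : Subgroup X}
    (hU : Four U) {u v : X} (hu : u ∈ U) (hu1 : u ≠ 1) (hv : v ∈ U) (hv1 : v ≠ 1) :
    ∃ t : X, t * u * t⁻¹ = v ∧ ∀ w ∈ U, t * w * t⁻¹ ∈ U := by
  have : Fact (Nat.Prime 2) := ⟨Nat.prime_two⟩
  have h1 := (isConj_z_of_no_index_two S hD hX u ((orderOf_two_iff u).2 ⟨hU.sq u hu, hu1⟩)).trans
    (isConj_z_of_no_index_two S hD hX v ((orderOf_two_iff v).2 ⟨hU.sq v hv, hv1⟩)).symm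
  obtain ⟨g, hg⟩ := isConj_iff.mp h1
  obtain ⟨P, hP⟩ := (isPGroup_four hU).exists_le_sylow
  have hPU : (P : Subgroup X) = U := by
    refine (Subgroup.eq_of_le_of_card_ge hP ?_).symm
    rw [hU.card, Nat.card_congr (P.equiv S).toEquiv, hD.card]
  obtain ⟨c, hc, hcU⟩ := exists_conj_mem P (centralizer ({v} : Set X)) (cj g U) (by
    rw [hPU]
    intro s hs
    exact mem_centralizer_singleton_iff.mpr (hU.comm s hs v hv)) (by
    rintro _ ⟨w, hw, rfl⟩
    rw [mem_centralizer_singleton_iff, ← hg]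
    change g * w * g⁻¹ * (g * u * g⁻¹) = g * u * g⁻¹ * (g * w * g⁻¹)
    have e1 : g * w * g⁻¹ * (g * u * g⁻¹) = g * (w * u) * g⁻¹ := by group
    have e2 : g * u * g⁻¹ * (g * w * g⁻¹) = g * (u * w) * g⁻¹ := by group
    rw [e1, e2, hU.comm w hw u hu]) (isPGroup_four (hU.cj g))
  have hcz : c * v = v * c := mem_centralizer_singleton_iff.mp hc
  refine ⟨c * g, ?_, ?_⟩
  · have e : (c * g) * u * (c * g)⁻¹ = c * (g * u * g⁻¹) * c⁻¹ := by group
    rw [e, hg, hcz, mul_inv_cancel_right]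
  · intro w hw
    have h2 := hcU _ (conj_mem_cj (g := g) hw)
    rw [hPU] at h2
    have e : c * (g * w * g⁻¹) * c⁻¹ = (c * g) * w * (c * g)⁻¹ := by group
    rwa [e] at h2

/-- **Four-groups in groups with dihedral Sylow 2-subgroups.** -/
theorem f4_of_dihedral (S : Sylow 2 X) {m : ℕ} (hm : 2 ≤ m)
    (e : (S : Subgroup X) ≃* DihedralGroup m) (hX : ∀ H : Subgroup X, H.index ≠ 2) : F4 X := by
  obtain ⟨hm2, r, z, hD⟩ := exists_data S m hm e
  intro U hU
  refine ⟨fun a ha n hn => self_of S hD hU ha hn, ?_⟩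
  obtain ⟨a, ha, ha1⟩ := hU.exists_ne
  obtain ⟨b, hb, hb1, hba⟩ := hU.exists_ne' a
  have hab1 : a * b ≠ 1 := by
    intro h
    apply hba
    have h1 : a = b⁻¹ := eq_inv_of_mul_eq_one_left h
    rw [hU.inv hb] at h1
    exact h1.symm
  have haba : a * b ≠ a := fun h => hb1 (mul_eq_left.mp h)
  have habb : a * b ≠ b := fun h => ha1 (mul_eq_right.mp h)
  -- a cyclic permutation `a → b → ab → a` is without fixed points
  have cyc : ∀ y : X, y * a * y⁻¹ = b → y * b * y⁻¹ = a * b →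
      ∃ y : X, (∀ u ∈ U, y * u * y⁻¹ ∈ U) ∧ ∀ u ∈ U, u ≠ 1 → y * u * y⁻¹ ≠ u := by
    intro y h1 h2
    have h3 : y * (a * b) * y⁻¹ = a := by
      have e1 : y * (a * b) * y⁻¹ = (y * a * y⁻¹) * (y * b * y⁻¹) := by group
      rw [e1, h1, h2, hU.comm a ha b hb, ← mul_assoc, hU.sq b hb, one_mul]
    refine ⟨y, ?_, ?_⟩
    · intro u hu
      rcases hU.cases ha hb ha1 hb1 (Ne.symm hba) hu with rfl | rfl | rfl | rfl
      · have e1 : y * 1 * y⁻¹ = 1 := by group
        rw [e1]; exact U.one_mem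
      · rw [h1]; exact hb
      · rw [h2]; exact mul_mem ha hb
      · rw [h3]; exact ha
    · intro u hu hu1
      rcases hU.cases ha hb ha1 hb1 (Ne.symm hba) hu with rfl | rfl | rfl | rfl
      · exact absurd rfl hu1
      · rw [h1]; exact hba
      · rw [h2]; exact habb
      · rw [h3]; exact haba.symm
  rcases hm2 with rfl | h4
  · -- `|S| = 4`
    obtain ⟨n, hn1, hn2⟩ := exists_trans S hD hX hU ha ha1 hb hb1
    have hinj : ∀ (n : X) {v w : X}, n * v * n⁻¹ = n * w * n⁻¹ → v = w := by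
      intro n v w h
      exact mul_left_cancel (mul_right_cancel h)
    have hne : ∀ (n : X) {v : X}, v ≠ 1 → n * v * n⁻¹ ≠ 1 := fun n v hv h => conj_ne_one n hv h
    rcases hU.cases ha hb ha1 hb1 (Ne.symm hba) (hn2 b hb) with h | h | h | h
    · exact absurd h (hne n hb1)
    · -- `n` swaps `a` and `b`
      obtain ⟨k, hk1, hk2⟩ := exists_trans S hD hX hU ha ha1 (mul_mem ha hb) hab1
      have hnab : n * (a * b) * n⁻¹ = a * b := by
        have e1 : n * (a * b) * n⁻¹ = (n * a * n⁻¹) * (n * b * n⁻¹) := by group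
        rw [e1, hn1, h, hU.comm b hb a ha]
      rcases hU.cases ha hb ha1 hb1 (Ne.symm hba) (hk2 _ (mul_mem ha hb)) with h' | h' | h' | h'
      · exact absurd h' (hne k hab1)
      · -- `k` swaps `a` and `ab`, fixes `b`: use `n k`... `a → ab → ab`, `b → b → a`
        have hkb : k * b * k⁻¹ = b := by
          have e1 : k * b * k⁻¹ = (k * a * k⁻¹)⁻¹ * (k * (a * b) * k⁻¹) := by group
          rw [e1, hk1, h', hU.inv (mul_mem ha hb), hU.comm a ha b hb, mul_assoc, hU.sq a ha, mul_one]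
        -- `y = k n` : `a → b → b`, `b → a → ab`
        refine cyc (k * n) ?_ ?_
        · have e1 : k * n * a * (k * n)⁻¹ = k * (n * a * n⁻¹) * k⁻¹ := by group
          rw [e1, hn1, hkb]
        · have e1 : k * n * b * (k * n)⁻¹ = k * (n * b * n⁻¹) * k⁻¹ := by group
          rw [e1, h, hk1]
      · -- `k: a → ab → b → a`; `k⁻¹` or `k²`
        have hkb : k * b * k⁻¹ = a := by
          have e1 : k * b * k⁻¹ = (k * a * k⁻¹)⁻¹ * (k * (a * b) * k⁻¹) := by group
          rw [e1, hk1, h', hU.inv (mul_mem ha hb), mul_assoc, hU.sq b hb, mul_one]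
        refine cyc (k * k) ?_ ?_
        · have e1 : k * k * a * (k * k)⁻¹ = k * (k * a * k⁻¹) * k⁻¹ := by group
          rw [e1, hk1, h']
        · have e1 : k * k * b * (k * k)⁻¹ = k * (k * b * k⁻¹) * k⁻¹ := by group
          rw [e1, hkb, hk1]
      · exfalso
        have h5 : k * (a * b) * k⁻¹ = k * a * k⁻¹ := by rw [h', hk1]
        exact haba (hinj k h5)
    · exfalso
      have h5 : n * b * n⁻¹ = n * a * n⁻¹ := by rw [h, hn1]
      exact hba (hinj n h5)
    · exact cyc n hn1 h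
  · -- `|S| ≥ 8`
    obtain ⟨s, hs1, hs2⟩ := exists_swap S hD h4 hX hU ha ha1
    obtain ⟨t, ht1, ht2⟩ := exists_swap S hD h4 hX hU hb hb1
    -- `s : a → a, b → ab, ab → b`; `t : b → b, a → ab, ab → a`
    have hsb := hs2 b hb hb1 hba
    have hta := ht2 a ha ha1 (Ne.symm hba)
    have hsab : s * (a * b) * s⁻¹ = b := by
      have e1 : s * (a * b) * s⁻¹ = (s * a * s⁻¹) * (s * b * s⁻¹) := by group
      rw [e1, hs1, hsb, ← mul_assoc, hU.sq a ha, one_mul]
    -- `y = s t` : `a → ab → b`, `b → b → ab`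
    refine cyc (s * t) ?_ ?_
    · have e1 : s * t * a * (s * t)⁻¹ = s * (t * a * t⁻¹) * s⁻¹ := by group
      rw [e1, hta, hU.comm b hb a ha, hsab]
    · have e1 : s * t * b * (s * t)⁻¹ = s * (t * b * t⁻¹) * s⁻¹ := by group
      rw [e1, ht1, hsb]

end dihedral

end Cfsg.Agent.GH.L2FourFact
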