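import Cfsg.Agent.Intrinsic.Basic
import Cfsg.Agent.Lib.NormalAbelian

/-!
# GH-L2, `m₂(Q) = 1`, `|Q| ≥ 4`: the abstract frame

`T` a 2-group, `Q`, `D` normal subgroups of `T` with trivial intersection, `x` the only involution of `Q`,
`x` is a square in `Q`, and elements of `T` centralizing `D` have their squares in `Q`.
Elements `g` normalizing `T` and moving `x`:

* `swap_mem` (A): `g x g⁻¹ ∈ D`;
* `swap` (B): if `D ∩ Z(T) = ⟨z⟩` then `g` swaps `x` and `z`, `D ∩ D^g = 1`;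
* `not_mem_sup` (C): involutions of `D^g` other than `x` are not in `QD`.
-/

set_option autoImplicit false

open Subgroup
open Cfsg.Agent.SignalizersComponents
open Cfsg.Agent.SignalizersComponents.IntrinsicBasic
open scoped commutatorElement

namespace Cfsg.Agent.GH.L2FourFrame

variable {G : Type*} [Group G]

/-- The 2-local frame of `C(x)`. -/
structure Frame (x : G) (T D Q : Subgroup G) : Prop where
  pgroup : IsPGroup 2 T
  QT : Q ≤ T
  DT : D ≤ T
  Qn : T ≤ normalizer (Q : Set G)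
  Dn : T ≤ normalizer (D : Set G)
  disj : Q ⊓ D = ⊥
  xQ : x ∈ Q
  x1 : x ≠ 1
  xx : x * x = 1
  uniq : ∀ y ∈ Q, y * y = 1 → y = 1 ∨ y = x
  four : ∃ q ∈ Q, q * q = x
  cent : ∀ t ∈ T, (∀ d ∈ D, t * d = d * t) → t * t ∈ Q

theorem exists_involution {P : Subgroup G} (hP : IsPGroup 2 P) {y : G} (hy : y ∈ P) (h1 : y ≠ 1) :
    ∃ n : ℕ, y ^ n * y ^ n = 1 ∧ y ^ n ≠ 1 := by
  obtain ⟨k, hk⟩ := hP ⟨y, hy⟩
  have hk' : y ^ 2 ^ k = 1 := by simpa using congrArg Subtype.val hk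
  obtain ⟨m, hm⟩ : ∃ m, y ^ 2 ^ m = 1 ∧ ∀ j, y ^ 2 ^ j = 1 → m ≤ j := by
    classical
    have hex : ∃ j, y ^ 2 ^ j = 1 := ⟨k, hk'⟩
    exact ⟨Nat.find hex, Nat.find_spec hex, fun j hj => Nat.find_min' hex hj⟩
  rcases m with _ | m
  · exact absurd (by simpa using hm.1) h1
  · refine ⟨2 ^ m, ?_, ?_⟩
    · rw [← pow_add, ← two_mul, ← pow_succ']
      exact hm.1
    · intro h
      have := hm.2 m h
      omega

theorem normal_center {T N : Subgroup G} [Finite G] (hT : IsPGroup 2 T) (hN : N ≤ T)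
    (hn : T ≤ normalizer (N : Set G)) (h1 : N ≠ ⊥) :
    ∃ y ∈ N, y ≠ 1 ∧ ∀ t ∈ T, t * y = y * t := by
  have : Fact (Nat.Prime 2) := ⟨Nat.prime_two⟩
  have h2 : (N.subgroupOf T).Normal := normal_subgroupOf_of_le_normalizer hn
  have h3 : N.subgroupOf T ≠ ⊥ := by
    intro h
    apply h1
    rw [eq_bot_iff]
    intro y hy
    have : (⟨y, hN hy⟩ : T) ∈ N.subgroupOf T := hy
    rw [h, mem_bot] at this
    exact mem_bot.2 (congrArg Subtype.val this)
  have : Group.IsNilpotent T := hT.isNilpotent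
  have h4 := Lib.NormalAbelian.normal_inf_center_ne_bot (N.subgroupOf T) h3
  obtain ⟨y, hy1⟩ := Subgroup.ne_bot_iff_exists_ne_one.1 h4
  have hy := mem_inf.1 y.2
  refine ⟨((y : T) : G), mem_subgroupOf.1 hy.1, ?_, ?_⟩
  · intro h
    apply hy1
    exact Subtype.ext (Subtype.ext h)
  · intro t ht
    have := mem_center_iff.1 hy.2 ⟨t, ht⟩
    exact congrArg Subtype.val this

namespace Frame

variable {x : G} {T D Q : Subgroup G}

/-- `Q` and `D` commute. -/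
theorem comm (F : Frame x T D Q) {q d : G} (hq : q ∈ Q) (hd : d ∈ D) : q * d = d * q := by
  have h1 : q * d * q⁻¹ * d⁻¹ ∈ Q ⊓ D := by
    refine mem_inf.2 ⟨?_, ?_⟩
    · have h2 : d * q⁻¹ * d⁻¹ ∈ Q := ((mem_normalizer_iff.1 (F.Qn (F.DT hd))) _).1 (inv_mem hq)
      have : q * d * q⁻¹ * d⁻¹ = q * (d * q⁻¹ * d⁻¹) := by group
      rw [this]
      exact mul_mem hq h2
    · have h2 : q * d * q⁻¹ ∈ D := ((mem_normalizer_iff.1 (F.Dn (F.QT hq))) _).1 hd
      exact mul_mem h2 (inv_mem hd)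
  rw [F.disj, mem_bot] at h1
  rw [mul_inv_eq_one, mul_inv_eq_iff_eq_mul] at h1
  exact h1

/-- `x` is central in `T`. -/
theorem x_central (F : Frame x T D Q) {t : G} (ht : t ∈ T) : t * x = x * t := by
  have h1 : t * x * t⁻¹ ∈ Q := ((mem_normalizer_iff.1 (F.Qn ht)) _).1 F.xQ
  have h2 : (t * x * t⁻¹) * (t * x * t⁻¹) = 1 := by
    have : (t * x * t⁻¹) * (t * x * t⁻¹) = t * (x * x) * t⁻¹ := by group
    rw [this, F.xx]; group
  rcases F.uniq _ h1 h2 with h | h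
  · exfalso
    apply F.x1
    have : x = t⁻¹ * (t * x * t⁻¹) * t := by group
    rw [this, h]; group
  · rw [mul_inv_eq_iff_eq_mul] at h
    exact h

/-- The conjugate frame. -/
theorem cj (F : Frame x T D Q) (g : G) : Frame (g * x * g⁻¹) (cj g T) (cj g D) (cj g Q) where
  pgroup := F.pgroup.map _
  QT := cj_mono F.QT
  DT := cj_mono F.DT
  Qn := by
    intro t ht
    rw [mem_normalizer_iff_cj, ← cj_mul]
    rw [mem_cj] at ht
    have h := F.Qn ht
    rw [mem_normalizer_iff_cj] at h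
    have : t * g = g * (g⁻¹ * t * g) := by group
    rw [this, cj_mul, h]
  Dn := by
    intro t ht
    rw [mem_normalizer_iff_cj, ← cj_mul]
    rw [mem_cj] at ht
    have h := F.Dn ht
    rw [mem_normalizer_iff_cj] at h
    have : t * g = g * (g⁻¹ * t * g) := by group
    rw [this, cj_mul, h]
  disj := by
    rw [eq_bot_iff]
    rintro y ⟨h1, h2⟩
    have h3 : g⁻¹ * y * g ∈ Q ⊓ D := ⟨mem_cj.1 h1, mem_cj.1 h2⟩
    rw [F.disj, mem_bot] at h3
    rw [mem_bot]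
    have : y = g * (g⁻¹ * y * g) * g⁻¹ := by group
    rw [this, h3]; group
  xQ := conj_mem_cj F.xQ
  x1 := by
    intro h
    apply F.x1
    have : x = g⁻¹ * (g * x * g⁻¹) * g := by group
    rw [this, h]; group
  xx := by
    have : (g * x * g⁻¹) * (g * x * g⁻¹) = g * (x * x) * g⁻¹ := by group
    rw [this, F.xx]; group
  uniq := by
    intro y hy h
    have h1 : (g⁻¹ * y * g) * (g⁻¹ * y * g) = 1 := by
      have : (g⁻¹ * y * g) * (g⁻¹ * y * g) = g⁻¹ * (y * y) * g := by group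
      rw [this, h]; group
    have h2 : y = g * (g⁻¹ * y * g) * g⁻¹ := by group
    rcases F.uniq _ (mem_cj.1 hy) h1 with h3 | h3
    · left; rw [h2, h3]; group
    · right; rw [h2, h3]
  four := by
    obtain ⟨q, hq, h⟩ := F.four
    refine ⟨g * q * g⁻¹, conj_mem_cj hq, ?_⟩
    have : (g * q * g⁻¹) * (g * q * g⁻¹) = g * (q * q) * g⁻¹ := by group
    rw [this, h]
  cent := by
    intro t ht h
    rw [mem_cj]
    have : g⁻¹ * (t * t) * g = (g⁻¹ * t * g) * (g⁻¹ * t * g) := by group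
    rw [this]
    refine F.cent _ (mem_cj.1 ht) fun d hd => ?_
    have h1 := h _ (conj_mem_cj (g := g) hd)
    have h2 : g⁻¹ * t * g * d = g⁻¹ * (t * (g * d * g⁻¹)) * g := by group
    rw [h2, h1]; group

/-- **(A)** If `g` normalizes `T` and moves `x` then `g x g⁻¹ ∈ D`. -/
theorem swap_mem (F : Frame x T D Q) {g : G} (hg : Cfsg.Agent.SignalizersComponents.IntrinsicBasic.cj g T = T)
    (hx : g * x * g⁻¹ ≠ x) : g * x * g⁻¹ ∈ D := by
  by_contra hD
  have F' := F.cj g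
  rw [hg] at F'
  have hdisj : IntrinsicBasic.cj g Q ⊓ D = ⊥ := by
    rw [eq_bot_iff]
    rintro y ⟨h1, h2⟩
    rw [mem_bot]
    by_contra hy
    obtain ⟨n, h3, h4⟩ := exists_involution F.pgroup (F.DT h2) hy
    rcases F'.uniq _ (pow_mem h1 n) h3 with h5 | h5
    · exact h4 h5
    · exact hD (h5 ▸ pow_mem h2 n)
  obtain ⟨q, hq, hqq⟩ := F'.four
  have hcomm : ∀ d ∈ D, q * d = d * q := by
    intro d hd
    have h1 : q * d * q⁻¹ * d⁻¹ ∈ IntrinsicBasic.cj g Q ⊓ D := by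
      refine mem_inf.2 ⟨?_, ?_⟩
      · have h2 : d * q⁻¹ * d⁻¹ ∈ IntrinsicBasic.cj g Q :=
          ((mem_normalizer_iff.1 (F'.Qn (F.DT hd))) _).1 (inv_mem hq)
        have : q * d * q⁻¹ * d⁻¹ = q * (d * q⁻¹ * d⁻¹) := by group
        rw [this]
        exact mul_mem hq h2
      · have h2 : q * d * q⁻¹ ∈ D := ((mem_normalizer_iff.1 (F.Dn (F'.QT hq))) _).1 hd
        exact mul_mem h2 (inv_mem hd)
    rw [hdisj, mem_bot, mul_inv_eq_one, mul_inv_eq_iff_eq_mul] at h1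
    exact h1
  have h1 := F.cent q (F'.QT hq) hcomm
  rw [hqq] at h1
  rcases F.uniq _ h1 F'.xx with h2 | h2
  · exact F'.x1 h2
  · exact hx h2

theorem x_notMem (F : Frame x T D Q) : x ∉ D := by
  intro h
  have : x ∈ Q ⊓ D := ⟨F.xQ, h⟩
  rw [F.disj, mem_bot] at this
  exact F.x1 this

/-- **(B)** If `D ∩ Z(T) ≤ ⟨z⟩` then `g` swaps `x` and `z`. -/
theorem swap (F : Frame x T D Q) {z : G}
    (hz : ∀ y ∈ D, (∀ t ∈ T, t * y = y * t) → y = 1 ∨ y = z) {g : G}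
    (hg : IntrinsicBasic.cj g T = T) (hx : g * x * g⁻¹ ≠ x) :
    g * x * g⁻¹ = z ∧ g * z * g⁻¹ = x := by
  have key : ∀ g : G, IntrinsicBasic.cj g T = T → g * x * g⁻¹ ≠ x → g * x * g⁻¹ = z := by
    intro g hg hx
    have F' := F.cj g
    rw [hg] at F'
    rcases hz _ (F.swap_mem hg hx) (fun t ht => F'.x_central ht) with h | h
    · exact absurd h F'.x1
    · exact h
  have h1 := key g hg hx
  refine ⟨h1, ?_⟩
  by_contra h2
  have h3 : g * z * g⁻¹ = g * g * x * (g * g)⁻¹ := by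
    rw [← h1]; group
  have h4 := key (g * g) (by rw [cj_mul, hg, hg]) (h3 ▸ h2)
  rw [← h3] at h4
  have h5 : g * z * g⁻¹ = g * x * g⁻¹ := by rw [h4, h1]
  have h6 : z = x := mul_left_cancel (mul_right_cancel h5)
  apply F.x_notMem
  have h7 := F.swap_mem hg hx
  rw [h1, h6] at h7
  exact h7

/-- **(B)** `D ∩ D^g = 1`. -/
theorem inf_eq_bot [Finite G] (F : Frame x T D Q) {z : G}
    (hz : ∀ y ∈ D, (∀ t ∈ T, t * y = y * t) → y = 1 ∨ y = z) {g : G}
    (hg : IntrinsicBasic.cj g T = T) (hx : g * x * g⁻¹ ≠ x) :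
    D ⊓ IntrinsicBasic.cj g D = ⊥ := by
  by_contra hne
  have F' := F.cj g
  rw [hg] at F'
  obtain ⟨h1, h2⟩ := F.swap hz hg hx
  obtain ⟨y, hy, hy3, hy4⟩ := normal_center (N := D ⊓ IntrinsicBasic.cj g D) F.pgroup
    (inf_le_left.trans F.DT) (fun t ht => by
      rw [mem_normalizer_iff_cj, Intrinsic.Basic.cj_inf]
      rw [mem_normalizer_iff_cj.1 (F.Dn ht), mem_normalizer_iff_cj.1 (F'.Dn ht)]) hne
  obtain ⟨hy1, hy2⟩ := mem_inf.1 hy
  rcases hz y hy1 hy4 with h | h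
  · exact hy3 h
  · rw [h, mem_cj] at hy2
    have h3 : g⁻¹ * z * g = x := by rw [← h1]; group
    rw [h3] at hy2
    exact F.x_notMem hy2

/-- `D` and `D^g` commute. -/
theorem comm_cj [Finite G] (F : Frame x T D Q) {z : G}
    (hz : ∀ y ∈ D, (∀ t ∈ T, t * y = y * t) → y = 1 ∨ y = z) {g : G}
    (hg : IntrinsicBasic.cj g T = T) (hx : g * x * g⁻¹ ≠ x) {a d : G}
    (ha : a ∈ IntrinsicBasic.cj g D) (hd : d ∈ D) : a * d = d * a := by
  have F' := F.cj g
  rw [hg] at F'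
  have h1 : a * d * a⁻¹ * d⁻¹ ∈ D ⊓ IntrinsicBasic.cj g D := by
    refine mem_inf.2 ⟨?_, ?_⟩
    · have h2 : a * d * a⁻¹ ∈ D := ((mem_normalizer_iff.1 (F.Dn (F'.DT ha))) _).1 hd
      exact mul_mem h2 (inv_mem hd)
    · have h2 : d * a⁻¹ * d⁻¹ ∈ IntrinsicBasic.cj g D :=
        ((mem_normalizer_iff.1 (F'.Dn (F.DT hd))) _).1 (inv_mem ha)
      have : a * d * a⁻¹ * d⁻¹ = a * (d * a⁻¹ * d⁻¹) := by group
      rw [this]
      exact mul_mem ha h2
  rw [F.inf_eq_bot hz hg hx, mem_bot, mul_inv_eq_one, mul_inv_eq_iff_eq_mul] at h1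
  exact h1

/-- Elements of `QD` with square one. -/
theorem sq_sup (F : Frame x T D Q) {y : G} (hy : y ∈ Q ⊔ D) (hyy : y * y = 1) :
    ∃ d ∈ D, d * d = 1 ∧ (y = d ∨ y = x * d) := by
  have hn : D ≤ normalizer (Q : Set G) := F.DT.trans F.Qn
  obtain ⟨d, hd, q, hq, rfl⟩ : ∃ d ∈ D, ∃ q ∈ Q, d * q = y := by
    have h : y ∈ ((D ⊔ Q : Subgroup G) : Set G) := by rw [sup_comm]; exact hy
    rw [Subgroup.coe_mul_of_left_le_normalizer_right D Q hn] at h
    exact Set.mem_mul.1 h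
  have hc := F.comm hq hd
  have h1 : (q * q) * (d * d) = 1 := by
    have : d * q * (d * q) = (q * q) * (d * d) := by
      calc d * q * (d * q) = (d * q) * d * q := by group
        _ = (q * d) * d * q := by rw [hc]
        _ = q * (d * (d * q)) := by group
        _ = q * (d * (q * d)) := by rw [hc]
        _ = q * ((d * q) * d) := by group
        _ = q * ((q * d) * d) := by rw [hc]
        _ = (q * q) * (d * d) := by group
    rw [← this, hyy]
  have h2 : q * q ∈ Q ⊓ D := mem_inf.2 ⟨mul_mem hq hq, by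
    rw [eq_inv_of_mul_eq_one_left h1]
    exact inv_mem (mul_mem hd hd)⟩
  rw [F.disj, mem_bot] at h2
  rw [h2, one_mul] at h1
  refine ⟨d, hd, h1, ?_⟩
  rcases F.uniq q hq h2 with h3 | h3
  · left; rw [h3, mul_one]
  · right; rw [← hc, h3]

/-- **(C)** The involutions of `D^g` different from `x` are not in `QD`. -/
theorem notMem_sup [Finite G] (F : Frame x T D Q) {z : G}
    (hz : ∀ y ∈ D, (∀ t ∈ T, t * y = y * t) → y = 1 ∨ y = z) {g : G}
    (hg : IntrinsicBasic.cj g T = T) (hx : g * x * g⁻¹ ≠ x) {y : G}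
    (hy : y ∈ IntrinsicBasic.cj g D) (hyy : y * y = 1) (hy1 : y ≠ 1) (hyx : y ≠ x) :
    y ∉ Q ⊔ D := by
  intro h
  have hbot := F.inf_eq_bot hz hg hx
  have key : ∀ a, a ∈ D → a ∈ IntrinsicBasic.cj g D → a = 1 := by
    intro a h1 h2
    have : a ∈ D ⊓ IntrinsicBasic.cj g D := ⟨h1, h2⟩
    rwa [hbot, mem_bot] at this
  obtain ⟨h1, h2⟩ := F.swap hz hg hx
  have hzD : z ∈ D := h1 ▸ F.swap_mem hg hx
  have hx' : x ∈ IntrinsicBasic.cj g D := by
    rw [← h2]; exact conj_mem_cj hzD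
  obtain ⟨d, hd, -, h3 | h3⟩ := F.sq_sup h hyy
  · exact hy1 (key y (h3 ▸ hd) hy)
  · have h4 : d ∈ IntrinsicBasic.cj g D := by
      have : d = x * y := by
        rw [h3, ← mul_assoc, F.xx, one_mul]
      rw [this]
      exact mul_mem hx' hy
    have h5 := key d hd h4
    rw [h5, mul_one] at h3
    exact hyx h3

/-- **(C)** `D^g` is not contained in `QD` as soon as `D` has an involution other than `z`. -/
theorem not_le_sup [Finite G] (F : Frame x T D Q) {z : G}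
    (hz : ∀ y ∈ D, (∀ t ∈ T, t * y = y * t) → y = 1 ∨ y = z)
    (hD : ∃ b ∈ D, b * b = 1 ∧ b ≠ 1 ∧ b ≠ z) {g : G}
    (hg : IntrinsicBasic.cj g T = T) (hx : g * x * g⁻¹ ≠ x) :
    ∃ y ∈ IntrinsicBasic.cj g D, y * y = 1 ∧ y ≠ 1 ∧ y ≠ x ∧ y ∉ Q ⊔ D ∧
      ∀ d ∈ D, y * d = d * y := by
  obtain ⟨b, hb, hbb, hb1, hbz⟩ := hD
  obtain ⟨h1, h2⟩ := F.swap hz hg hx
  have h3 : (g * b * g⁻¹) * (g * b * g⁻¹) = 1 := by
    have : (g * b * g⁻¹) * (g * b * g⁻¹) = g * (b * b) * g⁻¹ := by group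
    rw [this, hbb]; group
  have h4 : g * b * g⁻¹ ≠ 1 := by
    intro h
    apply hb1
    have : b = g⁻¹ * (g * b * g⁻¹) * g := by group
    rw [this, h]; group
  have h5 : g * b * g⁻¹ ≠ x := by
    intro h
    rw [← h2] at h
    exact hbz (mul_left_cancel (mul_right_cancel h))
  exact ⟨g * b * g⁻¹, conj_mem_cj hb, h3, h4, h5,
    F.notMem_sup hz hg hx (conj_mem_cj hb) h3 h4 h5,
    fun d hd => F.comm_cj hz hg hx (conj_mem_cj hb) hd⟩

end Frame

end Cfsg.Agent.GH.L2FourFrame
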