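import Cfsg.Agent.GH.L2T2Wr
import Cfsg.Agent.Walter.SylowIn
import Cfsg.Agent.Involutions.NormalFour

/-!
# GH-L2, case (T2): the growth from `N_S(E) = D₈ ≀ 2`

`Wd x a τ s`: `⟨x, a, τ⟩` dihedral of order 8 with centre `x`, `s` an involution, `⟨x, a, τ⟩` commutes with its
conjugate under `s`.

* `exists_entry`: if every 2-element centralizing `E = ⟨x, a, sxs, sas⟩` is in `E`, and a Sylow 2-subgroup
  of `C(x)` centralizes `z = sxs`, then there is `R ∋ a, τ, s` with `T = C_R(x)` Sylow in `C(x)`, `T` of index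
  two in `R`, `Ω₁(Z(T)) = {1, x, z, xz}` and `xz ∈ Z(R)`.
* `Entry.inf_eq_bot`: `Q ⊴ T`, `z ∉ Q`: `Q ∩ Qˢ = 1`.
* `small`: if moreover `x, a, c ∈ Q`, `ca = axc`, `|T| ≤ 8 |Q|`, then `R` is a Sylow 2-subgroup of `G` and
  isomorphic to `D₈ ≀ 2`.
-/

set_option autoImplicit false

open Subgroup

namespace Cfsg.Agent.GH.L2T2Grow

open Cfsg.Agent.Walter.SylowIn Cfsg.Agent.GH.L2T2Wr

variable {G : Type*} [Group G]

/-- A nontrivial normal subgroup of a 2-group contains a central involution. -/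
theorem exists_central [Finite G] {Q R : Subgroup G} (hQ : IsPGroup 2 Q) (hRQ : R ≤ Q)
    (hn : ∀ q ∈ Q, ∀ r ∈ R, q * r * q⁻¹ ∈ R) (hR : R ≠ ⊥) :
    ∃ f ∈ R, f ≠ 1 ∧ f * f = 1 ∧ ∀ q ∈ Q, q * f = f * q := by
  haveI : Fact (Nat.Prime 2) := ⟨Nat.prime_two⟩
  haveI hN : (R.subgroupOf Q).Normal := by
    refine ⟨fun y hy g => ?_⟩
    rw [mem_subgroupOf] at hy ⊢
    exact hn g g.2 y hy
  have hne : R.subgroupOf Q ≠ ⊥ := by
    intro hb
    apply hR
    rw [eq_bot_iff]
    intro x hx
    have : (⟨x, hRQ hx⟩ : Q) ∈ R.subgroupOf Q := hx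
    rw [hb, mem_bot] at this
    rw [mem_bot]
    exact congrArg Subtype.val this
  obtain ⟨z, hz, hzc, hz2⟩ := Cfsg.Agent.Involutions.NormalFour.exists_mem_center_of_normal hQ _ hne
  have hz2' : orderOf (z : G) = 2 := by rw [Subgroup.orderOf_coe]; exact hz2
  refine ⟨z, hz, ?_, ?_, fun q hq => ?_⟩
  · intro h
    rw [h] at hz2'
    simp at hz2'
  · rw [← pow_two, ← hz2', pow_orderOf_eq_one]
  · exact congrArg Subtype.val (mem_center_iff.1 hzc ⟨q, hq⟩)

/-- The four-group `{1, x, z, xz}`. -/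
def four (x z : G) (hx : x * x = 1) (hz : z * z = 1) (hxz : x * z = z * x) : Subgroup G where
  carrier := {g | g = 1 ∨ g = x ∨ g = z ∨ g = x * z}
  one_mem' := Or.inl rfl
  mul_mem' := by
    have e1 : x * (x * z) = z := by rw [← mul_assoc, hx, one_mul]
    have e2 : z * (x * z) = x := by rw [hxz, ← mul_assoc, hz, one_mul]
    have e3 : x * z * x = z := by rw [hxz, mul_assoc, hx, mul_one]
    have e4 : x * z * z = x := by rw [mul_assoc, hz, mul_one]
    have e5 : x * z * (x * z) = 1 := by rw [← mul_assoc, e3, hz]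
    rintro a b (rfl | rfl | rfl | rfl) (rfl | rfl | rfl | rfl) <;>
      simp [hx, hz, e1, e2, e3, e4, e5, hxz.symm]
  inv_mem' := by
    have hxi : x⁻¹ = x := inv_eq_of_mul_eq_one_left hx
    have hzi : z⁻¹ = z := inv_eq_of_mul_eq_one_left hz
    rintro a (rfl | rfl | rfl | rfl)
    · simp
    · simp [hxi]
    · simp [hzi]
    · right; right; right
      rw [mul_inv_rev, hxi, hzi, hxz]

theorem mem_four {x z g : G} {hx : x * x = 1} {hz : z * z = 1} {hxz : x * z = z * x} :
    g ∈ four x z hx hz hxz ↔ g = 1 ∨ g = x ∨ g = z ∨ g = x * z := Iff.rfl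

/-- `⟨x, a, τ⟩` is dihedral of order 8 and commutes with its conjugate under the involution `s`. -/
structure Wd (x a τ s : G) : Prop where
  xx : x * x = 1
  aa : a * a = 1
  tt : τ * τ = 1
  ss : s * s = 1
  xa : a * x = x * a
  xt : τ * x = x * τ
  ta : τ * a = a * x * τ
  cross : ∀ p, (p = x ∨ p = a ∨ p = τ) → ∀ q, (q = x ∨ q = a ∨ q = τ) →
    p * (s * q * s) = s * q * s * p
  one : x ≠ 1
  ne : s * x * s ≠ x

namespace Wd

variable {x a τ s : G}

theorem zz (w : Wd x a τ s) : s * x * s * (s * x * s) = 1 := by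
  calc s * x * s * (s * x * s) = s * x * (s * s) * x * s := by group
    _ = s * (x * x) * s := by rw [w.ss, mul_one]; group
    _ = 1 := by rw [w.xx, mul_one, w.ss]

theorem si (w : Wd x a τ s) : s⁻¹ = s := inv_eq_of_mul_eq_one_left w.ss

theorem xz (w : Wd x a τ s) : x * (s * x * s) = s * x * s * x :=
  w.cross x (Or.inl rfl) x (Or.inl rfl)

theorem szs (w : Wd x a τ s) : s * (s * x * s) * s = x := by
  calc s * (s * x * s) * s = (s * s) * x * (s * s) := by group
    _ = x := by rw [w.ss]; group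

/-- conjugation by `s` and back -/
theorem conj2 (w : Wd x a τ s) (g : G) : s * (s * g * s) * s = g := by
  calc s * (s * g * s) * s = (s * s) * g * (s * s) := by group
    _ = g := by rw [w.ss]; group

end Wd

/-- The output of the growth step. -/
structure Entry (x a τ s : G) (R T : Subgroup G) : Prop where
  wd : Wd x a τ s
  sylR : SylIn 2 R (normalizer ((centralizer ({x, s * x * s} : Set G) : Subgroup G) : Set G))
  sylT : SylIn 2 T (centralizer ({x} : Set G))
  le : T ≤ R
  mem_iff : ∀ r ∈ R, r ∈ T ↔ r * x = x * r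
  cz : ∀ t ∈ T, t * (s * x * s) = s * x * s * t
  xT : x ∈ T
  aT : a ∈ T
  tT : τ ∈ T
  sR : s ∈ R
  norm : ∀ r ∈ R, ∀ t ∈ T, r * t * r⁻¹ ∈ T
  omega : ∀ y ∈ T, y * y = 1 → (∀ t ∈ T, t * y = y * t) →
    y = 1 ∨ y = x ∨ y = s * x * s ∨ y = x * (s * x * s)
  cxz : ∀ r ∈ R, r * (x * (s * x * s)) = x * (s * x * s) * r

namespace Entry

variable {x a τ s : G} {R T : Subgroup G}

theorem cx (h : Entry x a τ s R T) : ∀ t ∈ T, t * x = x * t := fun t ht =>
  (h.mem_iff t (h.le ht)).1 ht

theorem zT (h : Entry x a τ s R T) : s * x * s ∈ T := by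
  have := h.norm s h.sR x h.xT
  rwa [h.wd.si] at this

theorem sT (h : Entry x a τ s R T) : s ∉ T := by
  intro hs
  have h1 := h.cx s hs
  apply h.wd.ne
  rw [h1, mul_assoc, h.wd.ss, mul_one]

/-- elements of `R - T` interchange `x` and `z` -/
theorem swap (h : Entry x a τ s R T) {r : G} (hr : r ∈ R) (hrT : r ∉ T) :
    r * x * r⁻¹ = s * x * s := by
  have h0 := h.wd
  set z := s * x * s with hz
  have h1 : r * x * r⁻¹ = 1 ∨ r * x * r⁻¹ = x ∨ r * x * r⁻¹ = z ∨ r * x * r⁻¹ = x * z := by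
    apply h.omega _ (h.norm r hr x h.xT)
    · calc r * x * r⁻¹ * (r * x * r⁻¹) = r * (x * x) * r⁻¹ := by group
        _ = 1 := by rw [h0.xx]; group
    · intro t ht
      have h2 := h.norm r⁻¹ (R.inv_mem hr) t ht
      have h3 := h.cx _ h2
      calc t * (r * x * r⁻¹) = r * (r⁻¹ * t * r⁻¹⁻¹ * x) * r⁻¹ := by group
        _ = r * (x * (r⁻¹ * t * r⁻¹⁻¹)) * r⁻¹ := by rw [h3]
        _ = r * x * r⁻¹ * t := by group
  rcases h1 with h1 | h1 | h1 | h1
  · exfalso
    apply h0.one
    calc x = r⁻¹ * (r * x * r⁻¹) * r := by group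
      _ = 1 := by rw [h1]; group
  · exfalso
    apply hrT
    rw [h.mem_iff r hr]
    calc r * x = r * x * r⁻¹ * r := by group
      _ = x * r := by rw [h1]
  · exact h1
  · exfalso
    have h2 : r * (x * z) * r⁻¹ = x * z := by
      rw [h.cxz r hr, mul_inv_cancel_right]
    have h3 : r * (x * z) * r⁻¹ = (r * x * r⁻¹) * (r * z * r⁻¹) := by group
    rw [h3, h1] at h2
    have h4 : r * z * r⁻¹ = 1 := by
      have : x * z * (r * z * r⁻¹) = x * z * 1 := by rw [h2, mul_one]
      exact mul_left_cancel this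
    have h5 : z = 1 := by
      calc z = r⁻¹ * (r * z * r⁻¹) * r := by group
        _ = 1 := by rw [h4]; group
    apply h0.one
    rw [← h0.szs, ← hz, h5, mul_one, h0.ss]

theorem swap' (h : Entry x a τ s R T) {r : G} (hr : r ∈ R) (hrT : r ∉ T) :
    r * (s * x * s) * r⁻¹ = x := by
  have h1 := h.swap (R.inv_mem hr) (fun h2 => hrT (by simpa using T.inv_mem h2))
  rw [← h1]
  group

theorem two (h : Entry x a τ s R T) : ∀ p ∈ R, ∀ q ∈ R, p ∉ T → q ∉ T → p * q ∈ T := by
  intro p hp q hq hpT hqT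
  rw [h.mem_iff _ (R.mul_mem hp hq)]
  have h1 := h.swap hq hqT
  have h2 := h.swap' hp hpT
  calc p * q * x = p * (q * x * q⁻¹) * p⁻¹ * (p * q) := by group
    _ = x * (p * q) := by rw [h1, h2]

theorem isPGroup (h : Entry x a τ s R T) : IsPGroup 2 T := h.sylT.isPGroup

/-- `Q ∩ Qˢ = 1` -/
theorem inf_eq_bot [Finite G] (h : Entry x a τ s R T) {Q : Subgroup G} (hQT : Q ≤ T)
    (hn : ∀ t ∈ T, ∀ q ∈ Q, t * q * t⁻¹ ∈ Q) (hxQ : x ∈ Q) (hzQ : s * x * s ∉ Q) :
    ∀ q ∈ Q, s * q * s ∈ Q → q = 1 := by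
  set M : Subgroup G := Q ⊓ Q.map (MulAut.conj s).toMonoidHom with hM
  have hmem : ∀ q, q ∈ M ↔ q ∈ Q ∧ s * q * s ∈ Q := by
    intro q
    rw [hM, mem_inf]
    constructor
    · rintro ⟨h1, y, hy, rfl⟩
      refine ⟨h1, ?_⟩
      have e : s * ((MulAut.conj s).toMonoidHom y) * s = y := by
        have : (MulAut.conj s).toMonoidHom y = s * y * s := by
          change s * y * s⁻¹ = _
          rw [h.wd.si]
        rw [this, h.wd.conj2]
      rwa [e]
    · rintro ⟨h1, h2⟩
      refine ⟨h1, s * q * s, h2, ?_⟩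
      change s * (s * q * s) * s⁻¹ = q
      rw [h.wd.si, h.wd.conj2]
  by_contra hcon
  push Not at hcon
  obtain ⟨q, hq, hq', hq1⟩ := hcon
  have hne : M ≠ ⊥ := by
    intro h1
    have : q ∈ M := (hmem q).2 ⟨hq, hq'⟩
    rw [h1, mem_bot] at this
    exact hq1 this
  obtain ⟨f, hf, hf1, hff, hfc⟩ := exists_central h.isPGroup (R := M)
    (fun q hq => hQT ((hmem q).1 hq).1) (fun t ht r hr => by
      rw [hmem] at hr ⊢
      refine ⟨hn t ht r hr.1, ?_⟩
      have h1 := h.norm s h.sR t ht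
      rw [h.wd.si] at h1
      have h2 := hn _ h1 _ hr.2
      have e : s * t * s * (s * r * s) * (s * t * s)⁻¹ = s * (t * r * t⁻¹) * s := by
        have e1 : (s * t * s)⁻¹ = s * t⁻¹ * s := by
          rw [mul_inv_rev, mul_inv_rev, h.wd.si]; group
        rw [e1]
        calc s * t * s * (s * r * s) * (s * t⁻¹ * s) = s * t * (s * s) * r * (s * s) * t⁻¹ * s := by
              group
          _ = s * (t * r * t⁻¹) * s := by rw [h.wd.ss]; group
      rwa [e] at h2) hne
  obtain ⟨hfQ, hfQ'⟩ := (hmem f).1 hf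
  rcases h.omega f (hQT hfQ) hff hfc with h1 | h1 | h1 | h1
  · exact hf1 h1
  · rw [h1] at hfQ'
    exact hzQ hfQ'
  · rw [h1] at hfQ
    exact hzQ hfQ
  · rw [h1] at hfQ
    exact hzQ ((Q.mul_mem_cancel_left hxQ).1 hfQ)

end Entry

/-- The choice of `T`: normalised by `s`. -/
theorem exists_entry [Finite G] {x a τ s : G} (w : Wd x a τ s)
    (h2 : IsPGroup 2 (closure ({x, a, τ, s} : Set G)))
    (hcen : ∀ p : G, p * x = x * p → p * a = a * p → p * (s * x * s) = s * x * s * p →
      p * (s * a * s) = s * a * s * p → p * p = 1 →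
      ∃ v, (v = 1 ∨ v = x ∨ v = a ∨ v = a * x) ∧ ∃ u, (u = 1 ∨ u = x ∨ u = a ∨ u = a * x) ∧
        p = v * (s * u * s))
    {T₀ : Subgroup G} (hT₀ : SylIn 2 T₀ (centralizer ({x} : Set G)))
    (hz₀ : ∀ t ∈ T₀, t * (s * x * s) = s * x * s * t) :
    ∃ R T : Subgroup G, Entry x a τ s R T := by
  have : Fact (Nat.Prime 2) := ⟨Nat.prime_two⟩
  set z := s * x * s with hz
  set C := centralizer ({x, z} : Set G) with hC
  have memC : ∀ g, g ∈ C ↔ g * x = x * g ∧ g * z = z * g := by
    intro g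
    rw [hC, mem_centralizer_iff]
    constructor
    · intro h
      exact ⟨(h x (Or.inl rfl)).symm, (h z (Or.inr rfl)).symm⟩
    · rintro ⟨h1, h2⟩ y (rfl | rfl)
      · exact h1.symm
      · exact h2.symm
  have hxz : x * z = z * x := w.xz
  have hsz : s * z * s = x := w.szs
  -- the generators normalise `C`
  have hCnorm : C ≤ normalizer (C : Set G) := le_normalizer
  have hsC : s ∈ normalizer (C : Set G) := by
    have key : ∀ g, g ∈ C → s * g * s⁻¹ ∈ C := by
      intro g hg
      rw [memC] at hg ⊢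
      rw [w.si]
      constructor
      · calc s * g * s * x = s * g * (s * x * s) * s := by
              calc s * g * s * x = s * g * s * x * (s * s) := by rw [w.ss, mul_one]
                _ = _ := by group
          _ = s * (g * z) * s := by rw [← hz]; group
          _ = s * (z * g) * s := by rw [hg.2]
          _ = (s * z * s) * (s * g * s) := by
              calc s * (z * g) * s = s * z * 1 * g * s := by group
                _ = s * z * (s * s) * g * s := by rw [w.ss]
                _ = _ := by group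
          _ = x * (s * g * s) := by rw [hsz]
      · calc s * g * s * z = s * g * (s * z * s) * s := by
              calc s * g * s * z = s * g * s * z * (s * s) := by rw [w.ss, mul_one]
                _ = _ := by group
          _ = s * (g * x) * s := by rw [hsz]; group
          _ = s * (x * g) * s := by rw [hg.1]
          _ = (s * x * s) * (s * g * s) := by
              calc s * (x * g) * s = s * x * 1 * g * s := by group
                _ = s * x * (s * s) * g * s := by rw [w.ss]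
                _ = _ := by group
          _ = z * (s * g * s) := by rw [← hz]
    rw [mem_normalizer_iff]
    intro g
    refine ⟨key g, fun hg => ?_⟩
    have h3 := key _ hg
    rw [w.si] at h3
    rwa [w.conj2] at h3
  have hxC : x ∈ C := (memC x).2 ⟨rfl, hxz⟩
  have haC : a ∈ C := (memC a).2 ⟨w.xa, w.cross a (Or.inr (Or.inl rfl)) x (Or.inl rfl)⟩
  have htC : τ ∈ C := (memC τ).2 ⟨w.xt, w.cross τ (Or.inr (Or.inr rfl)) x (Or.inl rfl)⟩
  have hle : closure ({x, a, τ, s} : Set G) ≤ normalizer (C : Set G) := by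
    rw [closure_le]
    rintro y (rfl | rfl | rfl | rfl)
    · exact hCnorm hxC
    · exact hCnorm haC
    · exact hCnorm htC
    · exact hsC
  obtain ⟨R, hR, hcR⟩ := exists_sylIn_ge hle h2
  have hxR : x ∈ R := hcR (subset_closure (Or.inl rfl))
  have haR : a ∈ R := hcR (subset_closure (Or.inr (Or.inl rfl)))
  have htR : τ ∈ R := hcR (subset_closure (Or.inr (Or.inr (Or.inl rfl))))
  have hsR : s ∈ R := hcR (subset_closure (Or.inr (Or.inr (Or.inr rfl))))
  have hTC : SylIn 2 (R ⊓ C) C := hR.inf hCnorm le_rfl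
  set T := R ⊓ C with hT
  have hCx : C ≤ centralizer ({x} : Set G) := by
    intro g hg
    rw [mem_centralizer_singleton_iff]
    exact ((memC g).1 hg).1
  have hT₀C : T₀ ≤ C := fun t ht =>
    (memC t).2 ⟨mem_centralizer_singleton_iff.1 (hT₀.le ht), hz₀ t ht⟩
  have hT₀C' : SylIn 2 T₀ C := hT₀.of_le hT₀C hCx
  have hTx : SylIn 2 T (centralizer ({x} : Set G)) :=
    sylIn_of_card_le hT₀ (inf_le_right.trans hCx) hTC.isPGroup (hT₀C'.card_eq hTC).le
  have hnorm : ∀ r ∈ R, ∀ t ∈ T, r * t * r⁻¹ ∈ T := by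
    intro r hr t ht
    exact ⟨R.mul_mem (R.mul_mem hr ht.1) (R.inv_mem hr),
      (mem_normalizer_iff.1 (hR.le hr) t).1 ht.2⟩
  have hxT : x ∈ T := ⟨hxR, hxC⟩
  have haT : a ∈ T := ⟨haR, haC⟩
  have htT : τ ∈ T := ⟨htR, htC⟩
  have hT1 : ∀ t ∈ T, t * x = x * t := fun t ht => ((memC t).1 ht.2).1
  have hT2 : ∀ t ∈ T, t * z = z * t := fun t ht => ((memC t).1 ht.2).2
  have hsc : ∀ t ∈ T, s * t * s ∈ T := fun t ht => by
    have := hnorm s hsR t ht
    rwa [w.si] at this
  have hzT : z ∈ T := hsc x hxT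
  -- `Ω₁(Z(T))`
  have hom : ∀ y ∈ T, y * y = 1 → (∀ t ∈ T, t * y = y * t) →
      y = 1 ∨ y = x ∨ y = z ∨ y = x * z := by
    intro y hy hyy hyc
    have hyc' : ∀ t ∈ T, y * t = t * y := fun t ht => (hyc t ht).symm
    obtain ⟨v, hv, u, hu, rfl⟩ := hcen y (hyc' x hxT) (hyc' a haT) (hyc' z hzT)
      (hyc' _ (hsc a haT)) hyy
    have hax : a ≠ a * x := fun h => w.one (by
      have : a * 1 = a * x := by rw [mul_one]; exact h
      exact (mul_left_cancel this).symm)
    -- the generators of `V` commute with the second factor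
    have cv : ∀ p, (p = x ∨ p = a ∨ p = τ) → ∀ u, (u = 1 ∨ u = x ∨ u = a ∨ u = a * x) →
        p * (s * u * s) = s * u * s * p := by
      intro p hp u hu
      rcases hu with rfl | rfl | rfl | rfl
      · rw [mul_one, w.ss, mul_one, one_mul]
      · exact w.cross p hp _ (Or.inl rfl)
      · exact w.cross p hp _ (Or.inr (Or.inl rfl))
      · have e : s * (a * x) * s = s * a * s * (s * x * s) := by
          calc s * (a * x) * s = s * a * 1 * x * s := by group
            _ = s * a * (s * s) * x * s := by rw [w.ss]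
            _ = _ := by group
        rw [e, ← mul_assoc, w.cross p hp a (Or.inr (Or.inl rfl)), mul_assoc,
          w.cross p hp x (Or.inl rfl), ← mul_assoc]
    have hv' : v = 1 ∨ v = x := by
      have h3 := hyc τ htT
      have h4 := cv τ (Or.inr (Or.inr rfl)) u hu
      have h5 : τ * v = v * τ := by
        have : τ * v * (s * u * s) = v * τ * (s * u * s) := by
          calc τ * v * (s * u * s) = τ * (v * (s * u * s)) := by group
            _ = v * (s * u * s) * τ := h3
            _ = v * (s * u * s * τ) := by group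
            _ = v * (τ * (s * u * s)) := by rw [h4]
            _ = v * τ * (s * u * s) := by group
        exact mul_right_cancel this
      rcases hv with h | h | h | h
      · exact Or.inl h
      · exact Or.inr h
      · exfalso
        rw [h, w.ta] at h5
        exact hax (mul_right_cancel h5).symm
      · exfalso
        rw [h, ← mul_assoc, w.ta] at h5
        apply hax
        have h6 : a * x * τ * x = a * τ := by
          calc a * x * τ * x = a * x * (τ * x) := by group
            _ = a * x * (x * τ) := by rw [w.xt]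
            _ = a * (x * x) * τ := by group
            _ = a * τ := by rw [w.xx, mul_one]
        rw [h6] at h5
        exact mul_right_cancel h5
    have hu' : u = 1 ∨ u = x := by
      have h3 := hyc _ (hsc τ htT)
      -- conjugate by `s`
      have h7 : τ * u = u * τ := by
        have hvc : s * τ * s * v = v * (s * τ * s) := by
          rcases hv' with h | h
          · rw [h]; group
          · rw [h]
            exact (w.cross x (Or.inl rfl) τ (Or.inr (Or.inr rfl))).symm
        have h8 : v * (s * (τ * u) * s) = v * (s * (u * τ) * s) := by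
          calc v * (s * (τ * u) * s) = v * (s * τ * 1 * u * s) := by group
            _ = v * (s * τ * (s * s) * u * s) := by rw [w.ss]
            _ = (v * (s * τ * s)) * (s * u * s) := by group
            _ = s * τ * s * v * (s * u * s) := by rw [hvc]
            _ = s * τ * s * (v * (s * u * s)) := by group
            _ = v * (s * u * s) * (s * τ * s) := h3
            _ = v * (s * u * (s * s) * τ * s) := by group
            _ = v * (s * (u * τ) * s) := by rw [w.ss]; group
        exact mul_left_cancel (mul_right_cancel (mul_left_cancel h8))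
      rcases hu with h | h | h | h
      · exact Or.inl h
      · exact Or.inr h
      · exfalso
        rw [h, w.ta] at h7
        exact hax (mul_right_cancel h7).symm
      · exfalso
        rw [h, ← mul_assoc, w.ta] at h7
        apply hax
        have h6 : a * x * τ * x = a * τ := by
          calc a * x * τ * x = a * x * (τ * x) := by group
            _ = a * x * (x * τ) := by rw [w.xt]
            _ = a * (x * x) * τ := by group
            _ = a * τ := by rw [w.xx, mul_one]
        rw [h6] at h7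
        exact mul_right_cancel h7
    rcases hv' with rfl | rfl <;> rcases hu' with rfl | rfl
    · left; rw [mul_one, w.ss, mul_one]
    · right; right; left; rw [one_mul]
    · right; left; rw [mul_one, w.ss, mul_one]
    · right; right; right; rfl
  have hzz : z * z = 1 := w.zz
  -- the four-group `W = {1, x, z, xz}` is normalised by `R`
  have hWn : ∀ r ∈ R, ∀ y ∈ four x z w.xx hzz hxz, r * y * r⁻¹ ∈ four x z w.xx hzz hxz := by
    intro r hr y hy
    have hyT : y ∈ T ∧ y * y = 1 ∧ ∀ t ∈ T, t * y = y * t := by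
      rcases hy with rfl | rfl | rfl | rfl
      · exact ⟨T.one_mem, by group, fun t _ => by group⟩
      · exact ⟨hxT, w.xx, hT1⟩
      · exact ⟨hzT, hzz, hT2⟩
      · refine ⟨T.mul_mem hxT hzT, ?_, fun t ht => ?_⟩
        · calc x * z * (x * z) = z * x * (x * z) := by rw [hxz]
            _ = z * (x * x) * z := by group
            _ = 1 := by rw [w.xx, mul_one, hzz]
        · rw [← mul_assoc, hT1 t ht, mul_assoc, hT2 t ht, ← mul_assoc]
    obtain ⟨h3, h4, h5⟩ := hyT
    apply hom _ (hnorm r hr y h3)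
    · calc r * y * r⁻¹ * (r * y * r⁻¹) = r * (y * y) * r⁻¹ := by group
        _ = 1 := by rw [h4]; group
    · intro t ht
      have h6 := h5 _ (hnorm r⁻¹ (R.inv_mem hr) t ht)
      calc t * (r * y * r⁻¹) = r * (r⁻¹ * t * r⁻¹⁻¹ * y) * r⁻¹ := by group
        _ = r * (y * (r⁻¹ * t * r⁻¹⁻¹)) * r⁻¹ := by rw [h6]
        _ = r * y * r⁻¹ * t := by group
  have hWR : four x z w.xx hzz hxz ≤ R := by
    rintro y (rfl | rfl | rfl | rfl)
    · exact R.one_mem
    · exact hxR
    · exact hzT.1
    · exact R.mul_mem hxR hzT.1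
  have hWne : four x z w.xx hzz hxz ≠ ⊥ := by
    intro h3
    have : x ∈ four x z w.xx hzz hxz := Or.inr (Or.inl rfl)
    rw [h3, mem_bot] at this
    exact w.one this
  obtain ⟨f, hf, hf1, -, hfc⟩ := exists_central hR.isPGroup hWR hWn hWne
  have hf3 : f = x * z := by
    have h3 := hfc s hsR
    rcases hf with h | h | h | h
    · exact absurd h hf1
    · exfalso
      rw [h] at h3
      apply w.ne
      rw [h3, mul_assoc, w.ss, mul_one]
    · exfalso
      rw [h] at h3
      apply w.ne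
      rw [← hz]
      calc z = s * s * z := by rw [w.ss, one_mul]
        _ = s * (s * z) := by group
        _ = s * (z * s) := by rw [h3]
        _ = s * z * s := by group
        _ = x := hsz
    · exact h
  have hcxz : ∀ r ∈ R, r * (x * z) = x * z * r := fun r hr => hf3 ▸ hfc r hr
  refine ⟨R, T, w, hR, hTx, inf_le_left, fun r hr => ?_, hT2, hxT, haT, htT, hsR, hnorm, hom,
    hcxz⟩
  constructor
  · exact hT1 r
  · intro h3
    refine ⟨hr, (memC r).2 ⟨h3, ?_⟩⟩
    have h4 := hcxz r hr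
    have h5 : x * (r * z) = x * (z * r) := by
      calc x * (r * z) = x * r * z := by group
        _ = r * x * z := by rw [h3]
        _ = r * (x * z) := by group
        _ = x * z * r := h4
        _ = x * (z * r) := by group
    exact mul_left_cancel h5

/-- If `N(R)` normalises `T` then `R` is a Sylow 2-subgroup. -/
theorem Entry.toSylow [Finite G] {x a τ s : G} {R T : Subgroup G} (h : Entry x a τ s R T)
    (hch : ∀ k ∈ normalizer (R : Set G), ∀ t ∈ T, k * t * k⁻¹ ∈ T) :
    ∃ S : Sylow 2 G, (S : Subgroup G) = R := by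
  have : Fact (Nat.Prime 2) := ⟨Nat.prime_two⟩
  refine h.sylR.toSylow fun k hk => ?_
  have h1 : ∀ k ∈ normalizer (R : Set G), ∀ y ∈ T, y * y = 1 → (∀ t ∈ T, t * y = y * t) →
      k * y * k⁻¹ = 1 ∨ k * y * k⁻¹ = x ∨ k * y * k⁻¹ = s * x * s ∨ k * y * k⁻¹ = x * (s * x * s) := by
    intro k hk y hy hyy hyc
    apply h.omega _ (hch k hk y hy)
    · calc k * y * k⁻¹ * (k * y * k⁻¹) = k * (y * y) * k⁻¹ := by group
        _ = 1 := by rw [hyy]; group
    · intro t ht
      have h6 := hyc _ (hch k⁻¹ (inv_mem hk) t ht)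
      calc t * (k * y * k⁻¹) = k * (k⁻¹ * t * k⁻¹⁻¹ * y) * k⁻¹ := by group
        _ = k * (y * (k⁻¹ * t * k⁻¹⁻¹)) * k⁻¹ := by rw [h6]
        _ = k * y * k⁻¹ * t := by group
  have h2 : ∀ k ∈ normalizer (R : Set G), ∀ g ∈ centralizer ({x, s * x * s} : Set G),
      k * g * k⁻¹ ∈ centralizer ({x, s * x * s} : Set G) := by
    intro k hk g hg
    rw [mem_centralizer_iff] at hg ⊢
    have hg1 : x * g = g * x := hg x (Or.inl rfl)
    have hg2 : s * x * s * g = g * (s * x * s) := hg _ (Or.inr rfl)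
    have h3 : ∀ y, (y = 1 ∨ y = x ∨ y = s * x * s ∨ y = x * (s * x * s)) → y * g = g * y := by
      rintro y (rfl | rfl | rfl | rfl)
      · group
      · exact hg1
      · exact hg2
      · rw [mul_assoc, hg2, ← mul_assoc, hg1, mul_assoc]
    have h4 : ∀ y ∈ T, y * y = 1 → (∀ t ∈ T, t * y = y * t) → y * (k * g * k⁻¹) = k * g * k⁻¹ * y := by
      intro y hy hyy hyc
      have h5 := h3 _ (h1 k⁻¹ (inv_mem hk) y hy hyy hyc)
      calc y * (k * g * k⁻¹) = k * (k⁻¹ * y * k⁻¹⁻¹ * g) * k⁻¹ := by group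
        _ = k * (g * (k⁻¹ * y * k⁻¹⁻¹)) * k⁻¹ := by rw [h5]
        _ = k * g * k⁻¹ * y := by group
    rintro y (rfl | rfl)
    · exact h4 _ h.xT h.wd.xx h.cx
    · exact h4 _ h.zT h.wd.zz h.cz
  rw [mem_normalizer_iff]
  intro g
  refine ⟨fun hg => h2 k hk g hg, fun hg => ?_⟩
  have h3 := h2 k⁻¹ (inv_mem hk) _ hg
  have e : k⁻¹ * (k * g * k⁻¹) * k⁻¹⁻¹ = g := by group
  rwa [e] at h3

/-- `Q × Qˢ = T`: internal wreath product. -/
theorem Entry.dat [Finite G] {x a τ s : G} {R T : Subgroup G} (h : Entry x a τ s R T)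
    {Q : Subgroup G} (hQT : Q ≤ T) (hn : ∀ t ∈ T, ∀ q ∈ Q, t * q * t⁻¹ ∈ Q) (hxQ : x ∈ Q)
    (hzQ : s * x * s ∉ Q) (hcard : Nat.card T ≤ Nat.card Q * Nat.card Q) :
    Dat R T Q (Q.map (MulAut.conj s).toMonoidHom) := by
  set Q' := Q.map (MulAut.conj s).toMonoidHom with hQ'
  have hmem : ∀ q, q ∈ Q' ↔ s * q * s ∈ Q := by
    intro q
    constructor
    · rintro ⟨y, hy, rfl⟩
      have e : s * ((MulAut.conj s).toMonoidHom y) * s = y := by
        have : (MulAut.conj s).toMonoidHom y = s * y * s := by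
          change s * y * s⁻¹ = _
          rw [h.wd.si]
        rw [this, h.wd.conj2]
      rwa [e]
    · intro h2
      refine ⟨s * q * s, h2, ?_⟩
      change s * (s * q * s) * s⁻¹ = q
      rw [h.wd.si, h.wd.conj2]
  have hsc : ∀ t ∈ T, s * t * s ∈ T := fun t ht => by
    have := h.norm s h.sR t ht
    rwa [h.wd.si] at this
  have hQT' : Q' ≤ T := fun q hq => by
    have h1 := hsc _ (hQT ((hmem q).1 hq))
    rwa [h.wd.conj2] at h1
  have hn' : ∀ t ∈ T, ∀ q ∈ Q', t * q * t⁻¹ ∈ Q' := by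
    intro t ht q hq
    rw [hmem] at hq ⊢
    have h2 := hn _ (hsc t ht) _ hq
    have e : s * t * s * (s * q * s) * (s * t * s)⁻¹ = s * (t * q * t⁻¹) * s := by
      have e1 : (s * t * s)⁻¹ = s * t⁻¹ * s := by
        rw [mul_inv_rev, mul_inv_rev, h.wd.si]; group
      rw [e1]
      calc s * t * s * (s * q * s) * (s * t⁻¹ * s) = s * t * (s * s) * q * (s * s) * t⁻¹ * s := by
            group
        _ = s * (t * q * t⁻¹) * s := by rw [h.wd.ss]; group
    rwa [e] at h2
  have hdis : ∀ q ∈ Q, q ∈ Q' → q = 1 := fun q hq hq' =>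
    h.inf_eq_bot hQT hn hxQ hzQ q hq ((hmem q).1 hq')
  have hcomm : ∀ p ∈ Q, ∀ q ∈ Q', p * q = q * p := by
    intro p hp q hq
    have h1 : p * q * p⁻¹ * q⁻¹ = 1 := by
      apply hdis
      · have h2 := hn q (hQT' hq) p⁻¹ (Q.inv_mem hp)
        have h3 := Q.mul_mem hp h2
        have e : p * (q * p⁻¹ * q⁻¹) = p * q * p⁻¹ * q⁻¹ := by group
        rwa [e] at h3
      · exact Q'.mul_mem (hn' p (hQT hp) q hq) (Q'.inv_mem hq)
    rw [mul_inv_eq_one] at h1
    exact mul_inv_eq_iff_eq_mul.1 h1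
  have hcQ' : Nat.card Q' = Nat.card Q := by
    rw [hQ', card_map_of_injective (MulAut.conj s).injective]
  have hdec : ∀ t ∈ T, ∃ p ∈ Q, ∃ q ∈ Q', t = p * q := by
    let f : ↥Q × ↥Q' → ↥T := fun p => ⟨p.1 * p.2, T.mul_mem (hQT p.1.2) (hQT' p.2.2)⟩
    have hf : Function.Injective f := by
      rintro ⟨⟨a, ha⟩, ⟨b, hb⟩⟩ ⟨⟨a', ha'⟩, ⟨b', hb'⟩⟩ hh
      have h1 : a * b = a' * b' := congrArg Subtype.val hh
      have h2 : a'⁻¹ * a = b' * b⁻¹ := by
        rw [eq_mul_inv_iff_mul_eq, mul_assoc, h1, inv_mul_cancel_left]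
      have h3 : a'⁻¹ * a = 1 := hdis _ (Q.mul_mem (Q.inv_mem ha') ha)
        (by rw [h2]; exact Q'.mul_mem hb' (Q'.inv_mem hb))
      have h4 : a = a' := (inv_mul_eq_one.1 h3).symm
      subst h4
      have h5 : b = b' := mul_left_cancel h1
      subst h5
      rfl
    have hbij : Function.Bijective f := by
      apply (Nat.bijective_iff_injective_and_card f).2
      refine ⟨hf, le_antisymm (Nat.card_le_card_of_injective f hf) ?_⟩
      rw [Nat.card_prod, hcQ']
      exact hcard
    intro t ht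
    obtain ⟨⟨p, q⟩, hpq⟩ := hbij.2 ⟨t, ht⟩
    exact ⟨p, p.2, q, q.2, (congrArg Subtype.val hpq).symm⟩
  refine ⟨h.le, h.two, hQT, hQT', hcomm, hdis, hdec, ?_, ?_⟩
  · intro y hy hyT p hp
    have h1 : y * s ∈ T := h.two y hy s h.sR hyT h.sT
    have h2 : s * p * s ∈ Q' := (hmem _).2 (by rwa [h.wd.conj2])
    have h3 := hn' _ h1 _ h2
    have e : y * s * (s * p * s) * (y * s)⁻¹ = y * p * y⁻¹ := by
      rw [mul_inv_rev, h.wd.si]
      calc y * s * (s * p * s) * (s * y⁻¹) = y * (s * s) * p * (s * s) * y⁻¹ := by group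
        _ = y * p * y⁻¹ := by rw [h.wd.ss]; group
    rwa [e] at h3
  · intro y hy hyT q hq
    have h1 : y * s ∈ T := h.two y hy s h.sR hyT h.sT
    have h2 : s * q * s ∈ Q := (hmem _).1 hq
    have h3 := hn _ h1 _ h2
    have e : y * s * (s * q * s) * (y * s)⁻¹ = y * q * y⁻¹ := by
      rw [mul_inv_rev, h.wd.si]
      calc y * s * (s * q * s) * (s * y⁻¹) = y * (s * s) * q * (s * s) * y⁻¹ := by group
        _ = y * q * y⁻¹ := by rw [h.wd.ss]; group
    rwa [e] at h3

/-- Case `|D| = 4` of (T2): the Sylow 2-subgroup of `G` is `D₈ ≀ 2`. -/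
theorem Entry.small [Finite G] {x a τ s : G} {R T : Subgroup G} (h : Entry x a τ s R T)
    {Q : Subgroup G} (hQT : Q ≤ T) (hn : ∀ t ∈ T, ∀ q ∈ Q, t * q * t⁻¹ ∈ Q) (hxQ : x ∈ Q)
    (haQ : a ∈ Q) (hzQ : s * x * s ∉ Q) {c : G} (hcQ : c ∈ Q) (hcc : c * c = 1)
    (hca : c * a = a * x * c) (hcard : Nat.card T ≤ 8 * Nat.card Q) :
    ∃ S : Sylow 2 G, (S : Subgroup G) = R ∧ PcTypes.IsType PcTypes.W8 ↥(S : Subgroup G) := by
  have : Fact (Nat.Prime 2) := ⟨Nat.prime_two⟩
  have hne : a ≠ a * x := fun h1 => h.wd.one (by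
    have : a * 1 = a * x := by rw [mul_one]; exact h1
    exact (mul_left_cancel this).symm)
  have hnc : c * a ≠ a * c := by
    intro h1
    rw [hca] at h1
    exact hne (mul_right_cancel h1).symm
  have hQ2 : IsPGroup 2 Q := h.isPGroup.to_le hQT
  -- `|Q| ≥ 8`
  obtain ⟨n, hn2⟩ := IsPGroup.iff_card.1 hQ2
  have hn3 : 3 ≤ n := by
    by_contra hlt
    have key : (∀ u v : Q, u * v = v * u) → False := fun hh =>
      hnc (congrArg Subtype.val (hh ⟨c, hcQ⟩ ⟨a, haQ⟩))
    have hn4 : n = 0 ∨ n = 1 ∨ n = 2 := by omega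
    rcases hn4 with rfl | rfl | rfl
    · rw [pow_zero] at hn2
      have h4 : Q = ⊥ := card_eq_one.1 hn2
      rw [h4, mem_bot] at hxQ
      exact h.wd.one hxQ
    · rw [pow_one] at hn2
      have h4 : IsCyclic Q := isCyclic_of_prime_card hn2
      have h5 := IsCyclic.isMulCommutative (α := Q)
      exact key fun u v => h5.is_comm.comm u v
    · have h5 := IsPGroup.commutative_of_card_eq_prime_sq hn2
      exact key fun u v => h5 u v
  have h8 : 8 ≤ Nat.card Q := by
    rw [hn2]
    calc 8 = 2 ^ 3 := by norm_num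
      _ ≤ 2 ^ n := Nat.pow_le_pow_right (by norm_num) hn3
  have d := h.dat hQT hn hxQ hzQ (hcard.trans (Nat.mul_le_mul_right _ h8))
  have hQ' : Nat.card (Q.map (MulAut.conj s).toMonoidHom : Subgroup G) = Nat.card Q :=
    card_map_of_injective (MulAut.conj s).injective
  have hQ8 : Nat.card Q = 8 := by
    have h1 := d.card_T
    rw [hQ'] at h1
    rw [h1] at hcard
    have h2 : Nat.card Q ≤ 8 := Nat.le_of_mul_le_mul_right hcard (by omega)
    omega
  obtain ⟨S, hS⟩ := h.toSylow (by
    intro k hk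
    exact d.char_T hxQ (fun r hr hrx => (h.mem_iff r hr).2 hrx) h.cx hxQ haQ h.wd.one
      (by rintro rfl; exact hnc (by group))
      (by rintro rfl; exact hnc (by rw [← h.cx c (hQT hcQ)]))
      (fun r => mem_normalizer_iff.1 hk r))
  refine ⟨S, hS, ?_⟩
  have h1 := isType_W8 d hQ8 h.sR h.sT h.wd.ss hcQ haQ (Q.mul_mem haQ hxQ) hcc h.wd.aa
    (by
      calc a * x * (a * x) = a * (x * a) * x := by group
        _ = a * (a * x) * x := by rw [h.wd.xa]
        _ = (a * a) * (x * x) := by group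
        _ = 1 := by rw [h.wd.aa, h.wd.xx, mul_one])
    (by
      calc a * (a * x) = a * (x * a) := by rw [h.wd.xa]
        _ = a * x * a := by group)
    hca hne
  have h2 : ∀ {A B : Subgroup G}, A = B → PcTypes.IsType PcTypes.W8 ↥B →
      PcTypes.IsType PcTypes.W8 ↥A := by
    rintro A B rfl hh
    exact hh
  exact h2 hS h1

end Cfsg.Agent.GH.L2T2Grow
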