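import Cfsg.Agent.GH.L2T2Type
import Cfsg.Agent.GH.L2.WrCycMain
import Cfsg.Agent.GH.C2GrowG

/-!
# GH-L2, case (T2): `S = N_S(E)` unless `N_S(E) = D₈ wr 2`

`Tri E V U ρ`, `T2 E V U`, every 2-element of `C_G(E)` lies in `E`, `G` without subgroups of index two.  Then for every
Sylow 2-subgroup `S` of `G` such that `S ∩ N(E)` is a Sylow 2-subgroup of `N(E)`: `S` is of type `A₈`
(`IsType W24`) or `S ∩ N(E)` is `D₈ wr 2` (`D8F`, `IsType W8`).
-/

set_option autoImplicit false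

open Subgroup
open Cfsg.Agent.SignalizersComponents.IntrinsicBasic (cj mem_cj conj_mem_cj cj_one cj_mul
  cj_inv_cj cj_cj_inv cj_injective cj_mono mem_normalizer_iff_cj)
open Cfsg.Agent.GH.L2Tri Cfsg.Agent.GH.L2T2Compl Cfsg.Agent.GH.L2T2Form Cfsg.Agent.GH.L2T2Type
open Cfsg.Agent.GH.L2 Cfsg.Agent.GH.Pc Cfsg.Agent.GH.PcTypes

namespace Cfsg.Agent.GH.L2T2Main

variable {G : Type*} [Group G] {E V U T : Subgroup G} {ρ : G}

/-- `E` is the only conjugate of `E` in `T`. -/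
def Uniq (T E : Subgroup G) : Prop := ∀ k : G, (∀ e ∈ E, k * e * k⁻¹ ∈ T) → ∀ e ∈ E, k * e * k⁻¹ ∈ E

/-- `|C_E(τ)| = 4` for `τ` normalizing `V` and `U` and nontrivial on both -/
theorem card_cent_fix [Finite G] (h : Tri E V U ρ) {τ : G} (hV : cj τ V = V) (hU : cj τ U = U)
    (nV : ¬ ∀ v ∈ V, τ * v * τ⁻¹ = v) (nU : ¬ ∀ u ∈ U, τ * u * τ⁻¹ = u) {n : ℕ} (hn : τ ^ 2 ^ n = 1) :
    Nat.card (E ⊓ centralizer ({τ} : Set G) : Subgroup G) = 4 := by
  obtain ⟨w, hw, hw1, hwf⟩ := fix_one h.fourV hV hn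
  obtain ⟨w', hw', hw1', hwf'⟩ := fix_one h.fourU hU hn
  have cV := card_cent_V h.fourV nV hw hw1 hwf
  have cU := card_cent_V h.fourU nU hw' hw1' hwf'
  have hcomm : ∀ x : G, x * τ = τ * x ↔ τ * x * τ⁻¹ = x := by
    intro x
    constructor
    · intro hx; rw [← hx]; group
    · intro hx
      calc x * τ = (τ * x * τ⁻¹) * τ := by rw [hx]
        _ = τ * x := by group
  let f : (V ⊓ centralizer ({τ} : Set G) : Subgroup G) × (U ⊓ centralizer ({τ} : Set G) : Subgroup G) →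
      (E ⊓ centralizer ({τ} : Set G) : Subgroup G) := fun p => ⟨p.1 * p.2, by
    have h1 := mem_inf.1 p.1.2
    have h2 := mem_inf.1 p.2.2
    exact mem_inf.2 ⟨mul_mem (h.VE h1.1) (h.UE h2.1), mul_mem h1.2 h2.2⟩⟩
  have hf : Function.Bijective f := by
    constructor
    · rintro ⟨a, b⟩ ⟨c, d⟩ hab
      have h1 : (a : G) * b = c * d := congrArg Subtype.val hab
      have h2 := uniq h (mem_inf.1 a.2).1 (mem_inf.1 c.2).1 (mem_inf.1 b.2).1 (mem_inf.1 d.2).1 h1
      exact Prod.ext (Subtype.ext h2.1) (Subtype.ext h2.2)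
    · rintro ⟨e, he⟩
      obtain ⟨he, hec⟩ := mem_inf.1 he
      rw [mem_centralizer_singleton_iff, hcomm] at hec
      obtain ⟨v, hv, u, hu, rfl⟩ := decomp h.cardE h.VE h.UE h.cardV h.cardU h.disj he
      rw [cm] at hec
      have h1 := uniq h (conj_mem hV hv) hv (conj_mem hU hu) hu hec
      refine ⟨(⟨v, mem_inf.2 ⟨hv, ?_⟩⟩, ⟨u, mem_inf.2 ⟨hu, ?_⟩⟩), rfl⟩
      · rw [mem_centralizer_singleton_iff, hcomm]; exact h1.1
      · rw [mem_centralizer_singleton_iff, hcomm]; exact h1.2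
  rw [← Nat.card_congr (Equiv.ofBijective f hf), Nat.card_prod, cV, cU]

/-- `C_E(e t) = C_E(t)` -/
theorem cent_mul (h : Tri E V U ρ) {e t x : G} (he : e ∈ E) (hx : x ∈ E) (hxc : x * (e * t) = (e * t) * x) :
    x * t = t * x := by
  have h1 : e * (x * t) = e * (t * x) := by
    calc e * (x * t) = (e * x) * t := by group
      _ = (x * e) * t := by rw [h.comm e he x hx]
      _ = x * (e * t) := by group
      _ = (e * t) * x := hxc
      _ = e * (t * x) := by group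
  exact mul_left_cancel h1

theorem card_le_double [Finite G] {A B : Subgroup G} (hAB : A ≤ B)
    (h : ∀ b ∈ B, ∀ c ∈ B, b ∉ A → c ∉ A → b * c ∈ A) : Nat.card B ≤ 2 * Nat.card A := by
  by_cases hBA : B ≤ A
  · rw [le_antisymm hAB hBA]; omega
  · obtain ⟨d, hd, hdA⟩ := SetLike.not_le_iff_exists.1 hBA
    rw [card_double hAB hd hdA fun b hb => by
      by_cases hbA : b ∈ A
      · exact Or.inl hbA
      · exact Or.inr (h b hb d hd hbA hdA)]

theorem card_F0 [Finite G] (h : Tri E V U ρ) {F : Subgroup G} (hFc : ∀ a ∈ F, ∀ b ∈ F, a * b = b * a) {e t : G}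
    (hf : e * t ∈ F) (he : e ∈ E) (hct : Nat.card (E ⊓ centralizer ({t} : Set G) : Subgroup G) = 4) :
    Nat.card (F ⊓ E : Subgroup G) ≤ 4 := by
  rw [← hct]
  refine card_le_of_le ?_
  intro x hx
  obtain ⟨hxF, hxE⟩ := mem_inf.1 hx
  refine mem_inf.2 ⟨hxE, ?_⟩
  rw [mem_centralizer_singleton_iff]
  exact cent_mul h he hxE (hFc x hxF _ hf)

/-- the subgroup `T ∩ N(V)` of index two -/
theorem swap_mul (h2 : T2 E V U) {a b : G} (ha : a ∈ normalizer (E : Set G)) (hb : b ∈ normalizer (E : Set G))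
    (ha' : cj a V ≠ V) (hb' : cj b V ≠ V) : cj (a * b) V = V := by
  have h3 := (h2.2 a ha).resolve_left fun h => ha' h.1
  have h4 := (h2.2 b hb).resolve_left fun h => hb' h.1
  rw [cj_mul, h4.1, h3.2]

theorem conj_abelian {k : G} (h : Tri E V U ρ) : ∀ a ∈ cj k E, ∀ b ∈ cj k E, a * b = b * a := by
  rintro _ ⟨a, ha, rfl⟩ _ ⟨b, hb, rfl⟩
  change (MulAut.conj k) a * (MulAut.conj k) b = (MulAut.conj k) b * (MulAut.conj k) a
  rw [← map_mul, ← map_mul, h.comm a ha b hb]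

theorem conj_sq {k : G} (h : Tri E V U ρ) : ∀ a ∈ cj k E, a * a = 1 := by
  rintro _ ⟨a, ha, rfl⟩
  change (MulAut.conj k) a * (MulAut.conj k) a = 1
  rw [← map_mul, h.sq a ha, map_one]

theorem card_conj {k : G} (h : Tri E V U ρ) : Nat.card (cj k E) = 16 := by
  rw [← h.cardE]
  exact card_map_of_injective (MulAut.conj k).injective

/-- `Z₂ wr Z₄`: `E` is the only `E₁₆`. -/
theorem uniq_z4F [Finite G] (h : Tri E V U ρ) (h2 : T2 E V U) (hT : IsPGroup 2 T)
    (hTN : T ≤ normalizer (E : Set G)) {s : G} (F : Z4F T E V U s) : Uniq T E := by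
  intro k hk
  by_contra hcon
  push Not at hcon
  obtain ⟨x0, hx0, hx0E⟩ := hcon
  set K := cj k E with hK
  have hKT : K ≤ T := by
    rintro _ ⟨e, he, rfl⟩
    exact hk e he
  have hsV : cj (s * s) V = V := by rw [cj_mul, F.sV, F.sU]
  have hsU : cj (s * s) U = U := by rw [cj_mul, F.sU, F.sV]
  have nU : ¬ ∀ u ∈ U, (s * s) * u * (s * s)⁻¹ = u := by
    intro h3
    apply F.nV
    intro v hv
    have h4 : s * v * s⁻¹ ∈ U := by rw [← F.sV]; exact conj_mem_cj hv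
    have h5 := h3 _ h4
    calc s * s * v * (s * s)⁻¹ = s⁻¹ * ((s * s) * (s * v * s⁻¹) * (s * s)⁻¹) * s := by group
      _ = s⁻¹ * (s * v * s⁻¹) * s := by rw [h5]
      _ = v := by group
  obtain ⟨n, hn⟩ := two_of_T hT (mul_mem F.ms F.ms)
  have hct := card_cent_fix h hsV hsU F.nV nU hn
  have hssE : s * s ∉ E := not_mem_E h h.VE F.nV
  have hsE : ∀ e ∈ E, s * e * s⁻¹ ∈ E := fun e he => norm_conj (hTN F.ms) he
  -- the elements of `K`
  have key : ∀ f ∈ K, f ∉ E → ∃ e ∈ E, f = e * (s * s) := by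
    intro f hf hfE
    have hff := conj_sq h f hf
    obtain ⟨e, he, h3 | h3 | h3 | h3⟩ := F.cov f (hKT hf)
    · exact absurd (h3 ▸ he) hfE
    · exact ⟨e, he, h3⟩
    · exfalso
      apply hssE
      rw [h3] at hff
      have e1 : s * s = (s * e * s⁻¹)⁻¹ * e⁻¹ * (e * s * (e * s)) := by
        simp [mul_assoc]
      rw [e1, hff, mul_one]
      exact mul_mem (inv_mem (hsE e he)) (inv_mem he)
    · exfalso
      apply hssE
      rw [h3] at hff
      have e1 : s * s = (s * (s * (s * e * s⁻¹) * s⁻¹) * s⁻¹)⁻¹ * e⁻¹ * (e * (s * s * s) * (e * (s * s * s))) *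
          (s * s * (s * s))⁻¹ := by
        simp [mul_assoc]
      rw [e1, hff, mul_one, F.s4, inv_one, mul_one]
      exact mul_mem (inv_mem (hsE _ (hsE _ (hsE e he)))) (inv_mem he)
  obtain ⟨e0, he0, hf0⟩ := key (k * x0 * k⁻¹) (conj_mem_cj hx0) hx0E
  have hf0K : e0 * (s * s) ∈ K := by rw [← hf0]; exact conj_mem_cj hx0
  have c0 : Nat.card (K ⊓ E : Subgroup G) ≤ 4 := card_F0 h (conj_abelian h) hf0K he0 hct
  have c1 : Nat.card K ≤ 2 * Nat.card (K ⊓ E : Subgroup G) := by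
    refine card_le_double inf_le_left ?_
    intro b hb c hc hbn hcn
    have hbE : b ∉ E := fun h3 => hbn (mem_inf.2 ⟨hb, h3⟩)
    have hcE : c ∉ E := fun h3 => hcn (mem_inf.2 ⟨hc, h3⟩)
    obtain ⟨e, he, rfl⟩ := key b hb hbE
    obtain ⟨e', he', rfl⟩ := key c hc hcE
    refine mem_inf.2 ⟨mul_mem hb hc, ?_⟩
    have e1 : e * (s * s) * (e' * (s * s)) = e * (s * (s * e' * s⁻¹) * s⁻¹) * (s * s * (s * s)) := by
      simp [mul_assoc]
    rw [e1, F.s4, mul_one]
    exact mul_mem he (hsE _ (hsE _ he'))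
  have c2 := card_conj (k := k) h
  rw [← hK] at c2
  omega

/-- `Z₂ wr V₄`: `E` is the only `E₁₆`. -/
theorem uniq_v4F [Finite G] (h : Tri E V U ρ) (h2 : T2 E V U) (hT : IsPGroup 2 T)
    (hTN : T ≤ normalizer (E : Set G)) {τ d : G} (F : V4F T E V U τ d) : Uniq T E := by
  intro k hk
  by_contra hcon
  push Not at hcon
  obtain ⟨x0, hx0, hx0E⟩ := hcon
  set K := cj k E with hK
  have hKT : K ≤ T := by
    rintro _ ⟨e, he, rfl⟩
    exact hk e he
  have hτU : cj τ U = U := h.stabV (hTN F.mt) F.tV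
  have nU : ¬ ∀ u ∈ U, τ * u * τ⁻¹ = u := by
    intro h3
    apply F.nV
    intro v hv
    have h4 : d * v * d⁻¹ ∈ U := by rw [← F.dV]; exact conj_mem_cj hv
    have h5 := h3 _ h4
    have h6 : τ * (d * v * d⁻¹) * τ⁻¹ = d * (τ * v * τ⁻¹) * d⁻¹ := by rw [← cc, ← cc, F.td]
    rw [h6] at h5
    exact mul_left_cancel (mul_right_cancel h5)
  obtain ⟨n, hn⟩ := two_of_T hT F.mt
  have ct := card_cent_fix h F.tV hτU F.nV nU hn
  have cd := card_cent h F.dV F.dU F.sd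
  have hτd : (τ * d) * (τ * d) = 1 := by
    calc τ * d * (τ * d) = τ * (d * τ) * d := by group
      _ = (τ * τ) * (d * d) := by rw [F.td]; group
      _ = 1 := by rw [F.st, F.sd, one_mul]
  have ctd := card_cent h (d := τ * d) (by rw [cj_mul, F.dV, hτU]) (by rw [cj_mul, F.dU, F.tV]) hτd
  have c2 := card_conj (k := k) h
  rw [← hK] at c2
  have hKc : ∀ a ∈ K, ∀ b ∈ K, a * b = b * a := conj_abelian h
  -- `|K ∩ E| ≤ 4`
  have c0 : Nat.card (K ⊓ E : Subgroup G) ≤ 4 := by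
    have hx0K : k * x0 * k⁻¹ ∈ K := conj_mem_cj hx0
    obtain ⟨e, he, h3 | h3 | h3 | h3⟩ := F.cov _ (hKT hx0K)
    · exact absurd (h3 ▸ he) hx0E
    · rw [h3] at hx0K; exact card_F0 h hKc hx0K he ct
    · rw [h3] at hx0K; exact card_F0 h hKc hx0K he cd
    · rw [h3] at hx0K; exact card_F0 h hKc hx0K he ctd
  let K1 : Subgroup G := K ⊓ normalizer (V : Set G)
  have hK1 : ∀ f ∈ K1, f ∈ E ∨ ∃ e ∈ E, f = e * τ := by
    intro f hf
    obtain ⟨hfK, hfV⟩ := mem_inf.1 hf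
    rw [mem_normalizer_iff_cj] at hfV
    obtain ⟨e, he, rfl | rfl | rfl | rfl⟩ := F.cov f (hKT hfK)
    · exact Or.inl he
    · exact Or.inr ⟨e, he, rfl⟩
    · exfalso
      rw [cj_mul, F.dV, cjE_fix h h.UE he] at hfV
      exact swap_ne h hfV.symm
    · exfalso
      rw [cj_mul, cj_mul, F.dV, hτU, cjE_fix h h.UE he] at hfV
      exact swap_ne h hfV.symm
  have hEN : E ≤ normalizer (V : Set G) := fun e he => mem_normalizer_iff_cj.2 (cjE_fix h h.VE he)
  have hle : (K ⊓ E : Subgroup G) ≤ K1 := fun x hx => mem_inf.2 ⟨(mem_inf.1 hx).1, hEN (mem_inf.1 hx).2⟩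
  have c3 : Nat.card K ≤ 2 * Nat.card K1 := by
    refine card_le_double inf_le_left ?_
    intro b hb c hc hbn hcn
    refine mem_inf.2 ⟨mul_mem hb hc, mem_normalizer_iff_cj.2 (swap_mul h2 (hTN (hKT hb)) (hTN (hKT hc)) ?_ ?_)⟩
    · exact fun h3 => hbn (mem_inf.2 ⟨hb, mem_normalizer_iff_cj.2 h3⟩)
    · exact fun h3 => hcn (mem_inf.2 ⟨hc, mem_normalizer_iff_cj.2 h3⟩)
  have c4 : Nat.card K1 ≤ 2 * Nat.card (K ⊓ E : Subgroup G) := by
    refine card_le_double hle ?_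
    intro b hb c hc hbn hcn
    have hbK := (mem_inf.1 hb).1
    have hcK := (mem_inf.1 hc).1
    have hbE : b ∉ E := fun h3 => hbn (mem_inf.2 ⟨hbK, h3⟩)
    have hcE : c ∉ E := fun h3 => hcn (mem_inf.2 ⟨hcK, h3⟩)
    obtain ⟨e, he, rfl⟩ := (hK1 b hb).resolve_left hbE
    obtain ⟨e', he', rfl⟩ := (hK1 c hc).resolve_left hcE
    refine mem_inf.2 ⟨mul_mem hbK hcK, ?_⟩
    have e1 : e * τ * (e' * τ) = e * (τ * e' * τ⁻¹) * (τ * τ) := by simp [mul_assoc]
    rw [e1, F.st, mul_one]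
    exact mul_mem he (norm_conj (hTN F.mt) he')
  -- an element of `K` in `E τ`
  obtain ⟨e1, he1, h1K⟩ : ∃ e ∈ E, e * τ ∈ K := by
    by_contra hno
    push Not at hno
    have h3 : K1 ≤ K ⊓ E := by
      intro f hf
      have hfK := (mem_inf.1 hf).1
      rcases hK1 f hf with h4 | ⟨e, he, rfl⟩
      · exact mem_inf.2 ⟨hfK, h4⟩
      · exact absurd hfK (hno e he)
    have := card_le_of_le h3
    omega
  -- an element of `K` outside `K1`
  obtain ⟨f2, hf2, hf2n⟩ : ∃ f ∈ K, f ∉ K1 := by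
    by_contra hno
    push Not at hno
    have := card_le_of_le (H := K) (K := K1) hno
    omega
  -- `K ∩ E` centralizes `τ` and `d`
  have hcτ : ∀ x ∈ (K ⊓ E : Subgroup G), x * τ = τ * x := by
    intro x hx
    obtain ⟨hxK, hxE⟩ := mem_inf.1 hx
    exact cent_mul h he1 hxE (hKc x hxK _ h1K)
  have hcd : ∀ x ∈ (K ⊓ E : Subgroup G), x * d = d * x := by
    intro x hx
    obtain ⟨hxK, hxE⟩ := mem_inf.1 hx
    obtain ⟨e, he, rfl | rfl | rfl | rfl⟩ := F.cov f2 (hKT hf2)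
    · exact absurd (hle (mem_inf.2 ⟨hf2, he⟩)) hf2n
    · exfalso
      apply hf2n
      refine mem_inf.2 ⟨hf2, mem_normalizer_iff_cj.2 ?_⟩
      rw [cj_mul, F.tV, cjE_fix h h.VE he]
    · exact cent_mul h he hxE (hKc x hxK _ hf2)
    · have h3 := cent_mul h he hxE (hKc x hxK _ hf2)
      have h4 := hcτ x hx
      have h5 : τ * (x * d) = τ * (d * x) := by
        calc τ * (x * d) = (τ * x) * d := by group
          _ = (x * τ) * d := by rw [h4]
          _ = x * (τ * d) := by group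
          _ = τ * d * x := h3
          _ = τ * (d * x) := by group
      exact mul_left_cancel h5
  -- so `|K ∩ E| ≤ 2`
  have c5 : Nat.card (K ⊓ E : Subgroup G) ≤ Nat.card (V ⊓ centralizer ({τ} : Set G) : Subgroup G) := by
    have hconj : ∀ {x y : G}, x * y = y * x → y * x * y⁻¹ = x := by
      intro x y hxy
      rw [← hxy]; group
    have hd : ∀ x ∈ (K ⊓ E : Subgroup G), ∃ v ∈ (V ⊓ centralizer ({τ} : Set G) : Subgroup G),
        x = v * (d * v * d⁻¹) := by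
      intro x hx
      obtain ⟨hxK, hxE⟩ := mem_inf.1 hx
      obtain ⟨v, hv, u, hu, hvu⟩ := decomp h.cardE h.VE h.UE h.cardV h.cardU h.disj hxE
      have hdv : d * v * d⁻¹ ∈ U := by rw [← F.dV]; exact conj_mem_cj hv
      have hdu : d * u * d⁻¹ ∈ V := by rw [← F.dU]; exact conj_mem_cj hu
      have h3 := hconj (hcd x hx)
      rw [hvu, cm] at h3
      have h4 : (d * u * d⁻¹) * (d * v * d⁻¹) = v * u := by
        rw [← h3]
        exact (h.comm _ (h.UE hdv) _ (h.VE hdu)).symm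
      have h5 := uniq h hdu hv hdv hu h4
      have h6 := hconj (hcτ x hx)
      rw [hvu, cm] at h6
      have h7 := uniq h (conj_mem F.tV hv) hv (conj_mem hτU hu) hu h6
      refine ⟨v, mem_inf.2 ⟨hv, ?_⟩, ?_⟩
      · rw [mem_centralizer_singleton_iff]
        calc v * τ = (τ * v * τ⁻¹) * τ := by rw [h7.1]
          _ = τ * v := by group
      · rw [h5.2]; exact hvu
    choose! g hg hg' using hd
    refine Nat.card_le_card_of_injective (fun x => ⟨g x, hg x x.2⟩ :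
      (K ⊓ E : Subgroup G) → (V ⊓ centralizer ({τ} : Set G) : Subgroup G)) ?_
    intro x y hxy
    have h3 : g x = g y := congrArg Subtype.val hxy
    apply Subtype.ext
    rw [hg' x x.2, hg' y y.2, h3]
  obtain ⟨w, hw, hw1, hwf⟩ := fix_one h.fourV F.tV hn
  rw [card_cent_V h.fourV F.nV hw hw1 hwf] at c5
  omega

/-- If `E` is unique in `T = S ∩ N(E)` then `T = S`. -/
theorem eq_of_uniq [Finite G] {S : Subgroup G} (hS : IsPGroup 2 S) (hES : E ≤ S)
    (hU : Uniq (S ⊓ normalizer (E : Set G)) E) : S ⊓ normalizer (E : Set G) = S := by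
  by_contra hne
  have hnle : ¬ S ≤ S ⊓ normalizer (E : Set G) := fun h => hne (le_antisymm inf_le_left h)
  obtain ⟨y, hy, hyn, hyN⟩ := C2GrowG.exists_mem_normalizer (A := S) (B := S ⊓ normalizer (E : Set G)) hS
    (hS.to_le inf_le_left) (inf_le_left.trans le_normalizer) hnle
  apply hyn
  refine mem_inf.2 ⟨hy, ?_⟩
  have h1 : ∀ e ∈ E, y * e * y⁻¹ ∈ E := by
    apply hU
    intro e he
    exact (mem_normalizer_iff.1 hyN e).1 (mem_inf.2 ⟨hES he, le_normalizer he⟩)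
  rw [mem_normalizer_iff_cj]
  have hle : cj y E ≤ E := by
    rintro _ ⟨e, he, rfl⟩
    exact h1 e he
  exact eq_of_le_of_card_ge hle (by
    rw [show Nat.card (cj y E) = Nat.card E from card_map_of_injective (MulAut.conj y).injective])

/-- There is a Sylow 2-subgroup `S` with `E ≤ S` and `S ∩ N(E)` Sylow in `N(E)`. -/
theorem exists_sylow [Finite G] (hE : IsPGroup 2 E) : ∃ S : Sylow 2 G, E ≤ S ∧
    ∀ Q : Subgroup G, IsPGroup 2 Q → (S : Subgroup G) ⊓ normalizer (E : Set G) ≤ Q →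
      Q ≤ normalizer (E : Set G) → Q ≤ (S : Subgroup G) ⊓ normalizer (E : Set G) := by
  let N : Subgroup G := normalizer (E : Set G)
  have hE' : IsPGroup 2 (E.subgroupOf N) := hE.comap_subtype
  obtain ⟨T, hT⟩ := hE'.exists_le_sylow
  have hT' : IsPGroup 2 ((T : Subgroup N).map N.subtype) := T.isPGroup'.map _
  obtain ⟨S, hS⟩ := hT'.exists_le_sylow
  have hTS : (T : Subgroup N).map N.subtype ≤ (S : Subgroup G) ⊓ N := le_inf hS (by
    rintro _ ⟨x, -, rfl⟩
    exact x.2)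
  refine ⟨S, fun e he => hS ⟨⟨e, le_normalizer he⟩, hT (mem_subgroupOf.2 he), rfl⟩, ?_⟩
  intro Q hQ hSQ hQN
  have h1 : (T : Subgroup N) ≤ Q.subgroupOf N := by
    intro x hx
    exact mem_subgroupOf.2 (hSQ (hTS ⟨x, hx, rfl⟩))
  have h2 : Q.subgroupOf N = T := T.is_maximal' (hQ.comap_subtype) h1
  intro x hx
  apply hTS
  have h3 : (⟨x, hQN hx⟩ : N) ∈ Q.subgroupOf N := mem_subgroupOf.2 hx
  rw [h2] at h3
  exact ⟨_, h3, rfl⟩

/-- **(T2), the normal form.** -/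
theorem main [Finite G] (hG : ∀ H : Subgroup G, H.index ≠ 2) (h : Tri E V U ρ) (h2 : T2 E V U)
    (hC : ∀ x ∈ centralizer (E : Set G), (∃ n, x ^ 2 ^ n = 1) → x ∈ E) (S : Sylow 2 G) (hES : E ≤ S)
    (hmax : ∀ Q : Subgroup G, IsPGroup 2 Q → (S : Subgroup G) ⊓ normalizer (E : Set G) ≤ Q →
      Q ≤ normalizer (E : Set G) → Q ≤ (S : Subgroup G) ⊓ normalizer (E : Set G)) :
    IsType W24 (S : Subgroup G) ∨
      (IsType W8 ((S : Subgroup G) ⊓ normalizer (E : Set G) : Subgroup G) ∧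
        ∃ τ₁ τ₂ d, D8F ((S : Subgroup G) ⊓ normalizer (E : Set G)) E V U τ₁ τ₂ d) := by
  have hT : IsPGroup 2 ((S : Subgroup G) ⊓ normalizer (E : Set G) : Subgroup G) := S.isPGroup'.to_le inf_le_left
  obtain ⟨B, D⟩ := exists_dat h h2 hC _ hT (le_inf hES le_normalizer) inf_le_right hmax
  rcases D.forms with ⟨d, F⟩ | ⟨s, F⟩ | ⟨τ, d, F⟩ | ⟨τ₁, τ₂, d, F⟩
  · exfalso
    have C := cfg_of_z2F h inf_le_right F
    have hU : Uniq ((S : Subgroup G) ⊓ normalizer (E : Set G)) E := fun k hk => C.unique hk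
    rw [eq_of_uniq S.isPGroup' hES hU] at C
    exact C.false_of_no_index_two S rfl hG
  · exfalso
    have C := cyc_of_z4F h h2 hT inf_le_right F
    have hU := uniq_z4F h h2 hT inf_le_right F
    rw [eq_of_uniq S.isPGroup' hES hU] at C
    exact C.false_of_no_index_two S rfl hG
  · left
    have hU := uniq_v4F h h2 hT inf_le_right F
    have h3 := isType_W24 h h2 inf_le_right F
    rwa [eq_of_uniq S.isPGroup' hES hU] at h3
  · exact Or.inr ⟨isType_W8 h h2 inf_le_right F, τ₁, τ₂, d, F⟩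

end Cfsg.Agent.GH.L2T2Main
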