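import Cfsg.Agent.GH.L2Pair
import Cfsg.Agent.GH.L2T2Main
import Cfsg.Agent.GH.L2T2Grow
import Cfsg.Agent.GH.Models.PSp43
import Cfsg.Agent.GH.Models.PSL43

/-!
# GH-L2, case (T2): `N_S(E) = D₈ ≀ 2` and its growth, on the `XSet` frame

* `exists_wd`: helper901's normal form `D8F` gives `Wd x a τ₁ d` with `V = {1, x, a, ax}`;
* `t2_entry`: (T2) implies: a Sylow 2-subgroup of `G` is of type `A₈` (`W24`), or there is
  `Entry x a τ s R T` (`GH/L2T2Grow.lean`) with `x, a ∈ V`, `sxs, sas ∈ U` (all `|D|`);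
* `t2_small`: if `|D| = 4` (and `C_T(D) = Q × D`), then `G` has a Sylow 2-subgroup of type `A₈` or `D₈ ≀ 2`.
-/

set_option autoImplicit false

open Cfsg Subgroup
open Cfsg.Agent.SignalizersComponents.IntrinsicBasic (cj mem_cj conj_mem_cj mem_normalizer_iff_cj)
open Cfsg.Agent.Intrinsic.Basic
open Cfsg.Agent.GH.Defs Cfsg.Agent.GH.L2Tri Cfsg.Agent.GH.L2T2Form Cfsg.Agent.GH.L2Pair
open Cfsg.Agent.GH.XSet Cfsg.Agent.GH.L2T2Grow Cfsg.Agent.GH.PcTypes
open Cfsg.Agent.Walter.SylowIn

namespace Cfsg.Agent.GH.L2T2End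

variable {G : Type*} [Group G] {E V U : Subgroup G} {ρ : G}

theorem exists_wd {T : Subgroup G} {τ₁ τ₂ d : G} (t : Tri E V U ρ) (F : D8F T E V U τ₁ τ₂ d) :
    ∃ x ∈ V, ∃ a ∈ V, Wd x a τ₁ d ∧ ∀ v ∈ V, v = 1 ∨ v = x ∨ v = a ∨ v = a * x := by
  have hdi : d⁻¹ = d := inv_eq_of_mul_eq_one_left F.sd
  have hti : τ₁⁻¹ = τ₁ := inv_eq_of_mul_eq_one_left F.s1
  obtain ⟨x, hx, hx1, hxf⟩ := fix_one t.fourV F.v1 (n := 1) (by rw [pow_one, pow_two]; exact F.s1)
  obtain ⟨a, ha, haf⟩ : ∃ a ∈ V, τ₁ * a * τ₁⁻¹ ≠ a := by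
    have := F.n1
    push Not at this
    exact this
  have ha1 : a ≠ 1 := by
    rintro rfl
    exact haf (by group)
  have hax : a ≠ x := by
    rintro rfl
    exact haf hxf
  have hcases : ∀ v ∈ V, v = 1 ∨ v = x ∨ v = a ∨ v = a * x := by
    intro v hv
    rcases t.fourV.cases ha hx ha1 hx1 hax hv with h | h | h | h
    · exact Or.inl h
    · exact Or.inr (Or.inr (Or.inl h))
    · exact Or.inr (Or.inl h)
    · exact Or.inr (Or.inr (Or.inr h))
  have hτa : τ₁ * a * τ₁⁻¹ ∈ V := by
    have h1 := conj_mem_cj (g := τ₁) ha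
    rwa [F.v1] at h1
  have hta : τ₁ * a * τ₁⁻¹ = a * x := by
    rcases hcases _ hτa with h | h | h | h
    · exfalso
      apply ha1
      calc a = τ₁⁻¹ * (τ₁ * a * τ₁⁻¹) * τ₁ := by group
        _ = 1 := by rw [h]; group
    · exfalso
      apply hax
      calc a = τ₁⁻¹ * (τ₁ * a * τ₁⁻¹) * τ₁ := by group
        _ = τ₁⁻¹ * (τ₁ * x * τ₁⁻¹) * τ₁ := by rw [h, hxf]
        _ = x := by group
    · exact absurd h haf
    · exact h
  -- `s v s ∈ U`
  have hdV : ∀ v ∈ V, d * v * d ∈ U := by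
    intro v hv
    have h1 := conj_mem_cj (g := d) hv
    rwa [F.dV, hdi] at h1
  have hd1 : d * τ₁ * d = τ₂ := by
    have := F.d1
    rwa [hdi] at this
  have cVU : ∀ v ∈ V, ∀ u ∈ U, v * u = u * v := fun v hv u hu =>
    t.comm v (t.VE hv) u (t.UE hu)
  have c1 : ∀ u ∈ U, τ₁ * u = u * τ₁ := fun u hu => by
    have := F.u1 u hu
    rwa [mul_inv_eq_iff_eq_mul] at this
  have c2 : ∀ v ∈ V, v * τ₂ = τ₂ * v := fun v hv => by
    have := F.v2 v hv
    rw [mul_inv_eq_iff_eq_mul] at this
    exact this.symm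
  refine ⟨x, hx, a, ha, ⟨t.fourV.sq x hx, t.fourV.sq a ha, F.s1, F.sd, t.fourV.comm a ha x hx, ?_,
    ?_, ?_, hx1, ?_⟩, hcases⟩
  · rwa [mul_inv_eq_iff_eq_mul] at hxf
  · rwa [mul_inv_eq_iff_eq_mul] at hta
  · have key : ∀ p, (p = x ∨ p = a ∨ p = τ₁) → (∀ u ∈ U, p * u = u * p) ∧ p * τ₂ = τ₂ * p := by
      rintro p (rfl | rfl | rfl)
      · exact ⟨cVU _ hx, c2 _ hx⟩
      · exact ⟨cVU _ ha, c2 _ ha⟩
      · exact ⟨c1, F.c12⟩
    intro p hp q hq
    obtain ⟨k1, k2⟩ := key p hp
    rcases hq with rfl | rfl | rfl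
    · exact k1 _ (hdV _ hx)
    · exact k1 _ (hdV _ ha)
    · rw [hd1]; exact k2
  · intro h
    have h1 := hdV x hx
    rw [h] at h1
    exact hx1 (t.disj x hx h1)

section

variable [Finite G] {X : Set G} {N : ℕ} {L : Subgroup G}

/-- (T2): type `A₈`, or the entry data of the growth. -/
theorem t2_entry (h : XSet X N) (q : Quad X V L U ρ) (hr : PRankLE 2 4 G)
    (hG : ∀ H : Subgroup G, H.index ≠ 2) (t2 : T2 (V ⊔ U) V U) :
    (∃ S : Sylow 2 G, IsType W24 (S : Subgroup G)) ∨
      ∃ x ∈ V, ∃ a ∈ V, ∃ τ s : G, (∀ v ∈ V, v = 1 ∨ v = x ∨ v = a ∨ v = a * x) ∧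
        (∀ v ∈ V, s * v * s ∈ U) ∧ (∀ u ∈ U, s * u * s ∈ V) ∧ (∀ u ∈ U, τ * u = u * τ) ∧
        ∃ R T : Subgroup G, Entry x a τ s R T := by
  have t := q.tri h
  have hmove : ∃ g ∈ normalizer ((V ⊔ U : Subgroup G) : Set G), cj g V ≠ V := by
    obtain ⟨g, hg, hgV, -⟩ := t2.1
    refine ⟨g, hg, fun hcon => ?_⟩
    obtain ⟨v, hv, hv1⟩ := t.fourV.exists_ne
    exact hv1 (t.disj v hv (by rw [← hgV, hcon]; exact hv))
  have hcE := q.cen_E h hr hmove
  have hE2 : IsPGroup 2 (V ⊔ U : Subgroup G) := by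
    rintro ⟨e, he⟩
    refine ⟨1, Subtype.ext ?_⟩
    rw [pow_one, pow_two]
    exact t.sq e he
  obtain ⟨S, hES, hmax⟩ := L2T2Main.exists_sylow hE2
  have hC : ∀ x ∈ centralizer ((V ⊔ U : Subgroup G) : Set G), (∃ n, x ^ 2 ^ n = 1) → x ∈ V ⊔ U := by
    rintro x hx ⟨n, hn⟩
    exact hcE x (fun e he => (mem_centralizer_iff.1 hx e he).symm) n hn
  rcases L2T2Main.main hG t t2 hC S hES hmax with h1 | ⟨-, τ₁, τ₂, d, F⟩
  · exact Or.inl ⟨S, h1⟩
  right
  obtain ⟨x, hx, a, ha, w, hVc⟩ := exists_wd t F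
  set P := (S : Subgroup G) ⊓ normalizer ((V ⊔ U : Subgroup G) : Set G) with hP
  have hP2 : IsPGroup 2 P := S.isPGroup'.to_le inf_le_left
  have hxP : x ∈ P := F.ET (t.VE hx)
  have haP : a ∈ P := F.ET (t.VE ha)
  have hcl : closure ({x, a, τ₁, d} : Set G) ≤ P := by
    rw [closure_le]
    rintro y (rfl | rfl | rfl | rfl)
    · exact hxP
    · exact haP
    · exact F.m1
    · exact F.md
  have hdi : d⁻¹ = d := w.si
  have hdV : ∀ v ∈ V, d * v * d ∈ U := by
    intro v hv
    have h1 := conj_mem_cj (g := d) hv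
    rwa [F.dV, hdi] at h1
  have hdU : ∀ u ∈ U, d * u * d ∈ V := by
    intro v hv
    have h1 := conj_mem_cj (g := d) hv
    rwa [F.dU, hdi] at h1
  have hd1 : d * τ₁ * d = τ₂ := by
    have := F.d1
    rwa [hdi] at this
  have hxX : x ∈ X := q.mem x hx w.one
  -- `hcen`
  have hcen : ∀ p : G, p * x = x * p → p * a = a * p → p * (d * x * d) = d * x * d * p →
      p * (d * a * d) = d * a * d * p → p * p = 1 →
      ∃ v, (v = 1 ∨ v = x ∨ v = a ∨ v = a * x) ∧ ∃ u, (u = 1 ∨ u = x ∨ u = a ∨ u = a * x) ∧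
        p = v * (d * u * d) := by
    intro p h1 h2 h3 h4 h5
    have hpV : ∀ v ∈ V, p * v = v * p := by
      intro v hv
      rcases hVc v hv with rfl | rfl | rfl | rfl
      · group
      · exact h1
      · exact h2
      · rw [← mul_assoc, h2, mul_assoc, h1, ← mul_assoc]
    have hpU : ∀ u ∈ U, p * u = u * p := by
      intro u hu
      have h6 : u = d * (d * u * d) * d := (w.conj2 u).symm
      have h7 : ∀ v, (v = 1 ∨ v = x ∨ v = a ∨ v = a * x) → p * (d * v * d) = d * v * d * p := by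
        rintro v (rfl | rfl | rfl | rfl)
        · rw [mul_one, w.ss]; group
        · exact h3
        · exact h4
        · have e : d * (a * x) * d = d * a * d * (d * x * d) := by
            calc d * (a * x) * d = d * a * 1 * x * d := by group
              _ = d * a * (d * d) * x * d := by rw [w.ss]
              _ = _ := by group
          rw [e, ← mul_assoc, h4, mul_assoc, h3, ← mul_assoc]
      rw [h6]
      exact h7 _ (hVc _ (hdU u hu))
    have h8 : p ∈ V ⊔ U := by
      apply hcE p _ 1 (by rw [pow_one, pow_two]; exact h5)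
      intro e he
      obtain ⟨v, hv, u, hu, rfl⟩ := q.mem_E.1 he
      rw [← mul_assoc, hpV v hv, mul_assoc, hpU u hu, ← mul_assoc]
    obtain ⟨v, hv, u, hu, rfl⟩ := q.mem_E.1 h8
    exact ⟨v, hVc v hv, d * u * d, hVc _ (hdU u hu), by rw [w.conj2]⟩
  -- the Sylow 2-subgroup `T₀` of `C(x)`
  have hEx : ∀ e ∈ V ⊔ U, e * x = x * e := fun e he => t.comm e he x (t.VE hx)
  have hR0 : IsPGroup 2 (P ⊓ centralizer ({x} : Set G) : Subgroup G) := hP2.to_le inf_le_left
  obtain ⟨T₀, hT₀, hRT⟩ := exists_sylIn_ge (p := 2) (inf_le_right : P ⊓ centralizer ({x} : Set G) ≤ _) hR0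
  have mT₀ : ∀ g ∈ P, g * x = x * g → g ∈ T₀ := fun g hg hgx =>
    hRT ⟨hg, mem_centralizer_singleton_iff.2 hgx⟩
  have hET₀ : ∀ e ∈ V ⊔ U, e ∈ T₀ := fun e he => mT₀ e (F.ET he) (hEx e he)
  have hτ₂T₀ : τ₂ ∈ T₀ := by
    apply mT₀ _ F.m2
    have := F.v2 x hx
    rwa [mul_inv_eq_iff_eq_mul] at this
  have hz₀ : ∀ g ∈ T₀, g * (d * x * d) = d * x * d * g := by
    have hzU : d * x * d ∈ U := hdV x hx
    have hMle : T₀ ⊓ KK x ≤ T₀ := inf_le_left
    have hMn : ∀ g ∈ T₀, ∀ m ∈ T₀ ⊓ KK x, g * m * g⁻¹ ∈ T₀ ⊓ KK x := by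
      intro g hg m hm
      refine ⟨T₀.mul_mem (T₀.mul_mem hg hm.1) (T₀.inv_mem hg), ?_⟩
      have h1 : g ∈ normalizer (KK x : Set G) := h.toXBase.mem_normalizer hxX
        (mem_centralizer_singleton_iff.1 (hT₀.le hg))
      exact (mem_normalizer_iff.1 h1 m).1 hm.2
    have hMne : T₀ ⊓ KK x ≠ ⊥ := by
      intro h1
      have h2 : d * x * d ∈ T₀ ⊓ KK x := ⟨hET₀ _ (t.UE hzU), q.le x hx w.one (q.UL hzU)⟩
      rw [h1, mem_bot] at h2
      apply w.one
      calc x = d * (d * x * d) * d := (w.conj2 x).symm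
        _ = 1 := by rw [h2, mul_one, w.ss]
    obtain ⟨f, hf, hf1, hff, hfc⟩ := exists_central hT₀.isPGroup hMle hMn hMne
    have hfE : f ∈ V ⊔ U := hcE f (fun e he => (hfc e (hET₀ e he)).symm) 1
      (by rw [pow_one, pow_two]; exact hff)
    have hfU : f ∈ U := (q.mem_U_iff h hx w.one hfE).2 hf.2
    have hfz : f = d * x * d := by
      have h1 : d * f * d ∈ V := hdU f hfU
      have h2 : τ₁ * (d * f * d) = d * f * d * τ₁ := by
        have h3 := hfc τ₂ hτ₂T₀
        rw [← hd1] at h3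
        have h4 : d * (d * τ₁ * d * f) * d = d * (f * (d * τ₁ * d)) * d := by rw [h3]
        calc τ₁ * (d * f * d) = 1 * τ₁ * d * f * d := by group
          _ = (d * d) * τ₁ * d * f * d := by rw [w.ss]
          _ = d * (d * τ₁ * d * f) * d := by group
          _ = d * (f * (d * τ₁ * d)) * d := h4
          _ = d * f * d * τ₁ * (d * d) := by group
          _ = d * f * d * τ₁ := by rw [w.ss, mul_one]
      have hax : a ≠ a * x := fun h => w.one (by
        have : a * 1 = a * x := by rw [mul_one]; exact h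
        exact (mul_left_cancel this).symm)
      rcases hVc _ h1 with h5 | h5 | h5 | h5
      · exfalso
        apply hf1
        calc f = d * (d * f * d) * d := (w.conj2 f).symm
          _ = 1 := by rw [h5, mul_one, w.ss]
      · calc f = d * (d * f * d) * d := (w.conj2 f).symm
          _ = d * x * d := by rw [h5]
      · exfalso
        rw [h5, w.ta] at h2
        exact hax (mul_right_cancel h2).symm
      · exfalso
        rw [h5, ← mul_assoc, w.ta] at h2
        apply hax
        have h6 : a * x * τ₁ * x = a * τ₁ := by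
          calc a * x * τ₁ * x = a * x * (τ₁ * x) := by group
            _ = a * x * (x * τ₁) := by rw [w.xt]
            _ = a * (x * x) * τ₁ := by group
            _ = a * τ₁ := by rw [w.xx, mul_one]
        rw [h6] at h2
        exact mul_right_cancel h2
    rw [← hfz]
    exact hfc
  obtain ⟨R, T, hE⟩ := exists_entry w (hP2.to_le hcl) hcen hT₀ hz₀
  exact ⟨x, hx, a, ha, τ₁, d, hVc, hdV, hdU, fun u hu => by
    have := F.u1 u hu
    rwa [mul_inv_eq_iff_eq_mul] at this, R, T, hE⟩

/-- (T2) with `|D| = 4`. -/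
theorem t2_small (h : XSet X N) (q : Quad X V L U ρ) (hr : PRankLE 2 4 G)
    (hG : ∀ H : Subgroup G, H.index ≠ 2) (t2 : T2 (V ⊔ U) V U)
    (hk : ∀ y ∈ X, ∀ T : Subgroup G, SylIn 2 T (centralizer ({y} : Set G)) →
      Nat.card (T ⊓ KK y : Subgroup G) = 4 ∧
      ∀ g ∈ T, (∀ d ∈ T ⊓ KK y, g * d = d * g) → ∃ d ∈ T ⊓ KK y, Fixes (g * d) (KK y)) :
    ∃ S : Sylow 2 G, TypeSp4 ↥(S : Subgroup G) ∨ TypeL4 ↥(S : Subgroup G) := by
  rcases t2_entry h q hr hG t2 with ⟨S, hS⟩ | ⟨x, hx, a, ha, τ, s, hVc, hsV, hsU, hτU, R, T, e⟩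
  · exact ⟨S, Or.inl (Models.PSp43.typeSp4 hS)⟩
  have w := e.wd
  have hxX : x ∈ X := q.mem x hx w.one
  obtain ⟨hk1, hk2⟩ := hk x hxX T e.sylT
  have hsc : ∀ g ∈ T, s * g * s ∈ T := fun g hg => by
    have := e.norm s e.sR g hg
    rwa [w.si] at this
  have hUT : U ≤ T := by
    intro u hu
    have h1 : s * u * s ∈ T := by
      rcases hVc _ (hsU u hu) with h | h | h | h
      · rw [h]; exact T.one_mem
      · rw [h]; exact e.xT
      · rw [h]; exact e.aT
      · rw [h]; exact T.mul_mem e.aT e.xT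
    have h2 := hsc _ h1
    rwa [w.conj2] at h2
  have hUD : U = T ⊓ KK x := by
    apply Subgroup.eq_of_le_of_card_ge
    · intro u hu
      exact ⟨hUT hu, q.le x hx w.one (q.UL hu)⟩
    · rw [hk1, q.fourU.card]
  rw [← hUD] at hk2
  have hzU : s * x * s ∈ U := hsV x hx
  have hbU : s * a * s ∈ U := hsV a ha
  -- `Q`
  set Q : Subgroup G := T ⊓ fixer (KK x) with hQ
  have hxQ : x ∈ Q := ⟨e.xT, h.toXBase.fixes_self hxX⟩
  have haQ : a ∈ Q := ⟨e.aT, q.fix x hx w.one a ha⟩
  have hzQ : s * x * s ∉ Q := by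
    intro h1
    have h2 := q.eq_one_of_fixes h hx w.one (q.le x hx w.one (q.UL hzU)) (n := 1)
      (by rw [pow_one, pow_two]; exact w.zz) h1.2
    apply w.one
    calc x = s * (s * x * s) * s := (w.conj2 x).symm
      _ = 1 := by rw [h2, mul_one, w.ss]
  have hn : ∀ g ∈ T, ∀ p ∈ Q, g * p * g⁻¹ ∈ Q := by
    intro g hg p hp
    refine ⟨T.mul_mem (T.mul_mem hg hp.1) (T.inv_mem hg), ?_⟩
    have h1 := (show Fixes p (KK x) from hp.2).cj g
    have h2 : g ∈ normalizer (KK x : Set G) := h.toXBase.mem_normalizer hxX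
      (mem_centralizer_singleton_iff.1 (e.sylT.le hg))
    rwa [mem_normalizer_iff_cj.1 h2] at h1
  obtain ⟨u, hu, hcf⟩ := hk2 τ e.tT hτU
  have hτu := hτU u hu
  have hcQ : τ * u ∈ Q := ⟨T.mul_mem e.tT (hUT hu), hcf⟩
  have hcc : τ * u * (τ * u) = 1 := by
    calc τ * u * (τ * u) = u * τ * (τ * u) := by rw [hτu]
      _ = u * (τ * τ) * u := by group
      _ = 1 := by rw [w.tt, mul_one, q.fourU.sq u hu]
  have hca : τ * u * a = a * x * (τ * u) := by
    calc τ * u * a = τ * (a * u) := by rw [mul_assoc, q.comm_VU ha hu]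
      _ = (τ * a) * u := by group
      _ = a * x * τ * u := by rw [w.ta]
      _ = a * x * (τ * u) := by group
  -- `|T| ≤ 8 |Q|`
  have hcard : Nat.card T ≤ 8 * Nat.card Q := by
    set C : Subgroup G := T ⊓ centralizer (U : Set G) with hC
    have memC : ∀ g, g ∈ C ↔ g ∈ T ∧ ∀ u ∈ U, g * u = u * g := by
      intro g
      rw [hC, mem_inf, mem_centralizer_iff]
      exact ⟨fun h => ⟨h.1, fun u hu => (h.2 u hu).symm⟩, fun h => ⟨h.1, fun u hu => (h.2 u hu).symm⟩⟩
    have h1 : Nat.card C ≤ Nat.card Q * Nat.card U := by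
      rw [← Nat.card_prod]
      have hch : ∀ g : C, ∃ u ∈ U, Fixes ((g : G) * u) (KK x) := fun g =>
        hk2 g ((memC g).1 g.2).1 ((memC g).1 g.2).2
      choose u hu hf using hch
      let f : C → Q × U := fun g => (⟨g * u g, T.mul_mem ((memC g).1 g.2).1 (hUT (hu g)), hf g⟩,
        ⟨u g, hu g⟩)
      apply Nat.card_le_card_of_injective f
      intro g g' hgg
      have h2 : (g : G) * u g = g' * u g' := congrArg (fun p => ((p.1 : Q) : G)) hgg
      have h3 : u g = u g' := congrArg (fun p => ((p.2 : U) : G)) hgg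
      rw [h3] at h2
      exact Subtype.ext (mul_right_cancel h2)
    have h2 : Nat.card T ≤ 2 * Nat.card C := by
      apply L2T2Main.card_le_double inf_le_left
      -- elements of `T - C` fix `z` and interchange `b` and `b z`
      have hUc : ∀ u ∈ U, u = 1 ∨ u = s * x * s ∨ u = s * a * s ∨ u = s * a * s * (s * x * s) := by
        intro u hu
        rcases hVc _ (hsU u hu) with h | h | h | h
        · left
          calc u = s * (s * u * s) * s := (w.conj2 u).symm
            _ = 1 := by rw [h, mul_one, w.ss]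
        · right; left
          calc u = s * (s * u * s) * s := (w.conj2 u).symm
            _ = s * x * s := by rw [h]
        · right; right; left
          calc u = s * (s * u * s) * s := (w.conj2 u).symm
            _ = s * a * s := by rw [h]
        · right; right; right
          calc u = s * (s * u * s) * s := (w.conj2 u).symm
            _ = s * (a * x) * s := by rw [h]
            _ = s * a * 1 * x * s := by group
            _ = s * a * (s * s) * x * s := by rw [w.ss]
            _ = s * a * s * (s * x * s) := by group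
      have hb : ∀ g ∈ T, g * (s * a * s) * g⁻¹ = s * a * s ∨
          g * (s * a * s) * g⁻¹ = s * a * s * (s * x * s) := by
        intro g hg
        have h3 : g * (s * a * s) * g⁻¹ ∈ U := by
          rw [hUD]
          refine ⟨T.mul_mem (T.mul_mem hg (hUT hbU)) (T.inv_mem hg), ?_⟩
          have h4 : g ∈ normalizer (KK x : Set G) := h.toXBase.mem_normalizer hxX
            (mem_centralizer_singleton_iff.1 (e.sylT.le hg))
          exact (mem_normalizer_iff.1 h4 _).1 (q.le x hx w.one (q.UL hbU))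
        have hz' : g * (s * x * s) * g⁻¹ = s * x * s := by
          rw [e.cz g hg, mul_inv_cancel_right]
        have inj : ∀ p p' : G, g * p * g⁻¹ = g * p' * g⁻¹ → p = p' := fun p p' hp =>
          mul_left_cancel (mul_right_cancel hp)
        have hax : a ≠ x := fun h => by
          have h5 := w.ta
          rw [h, w.xx, one_mul, w.xt] at h5
          have h6 : x * τ = 1 * τ := by rw [one_mul]; exact h5
          exact w.one (mul_right_cancel h6)
        have ha1 : a ≠ 1 := fun h => by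
          have h5 := w.ta
          rw [h, mul_one, one_mul] at h5
          have h6 : x * τ = 1 * τ := by rw [one_mul]; exact h5.symm
          exact w.one (mul_right_cancel h6)
        rcases hUc _ h3 with h4 | h4 | h4 | h4
        · exfalso
          apply ha1
          have h5 : s * a * s = 1 := by
            apply inj
            rw [h4]; group
          calc a = s * (s * a * s) * s := (w.conj2 a).symm
            _ = 1 := by rw [h5, mul_one, w.ss]
        · exfalso
          apply hax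
          have h5 : s * a * s = s * x * s := by
            apply inj
            rw [h4, hz']
          exact mul_left_cancel (mul_right_cancel h5)
        · exact Or.inl h4
        · exact Or.inr h4
      have hinU : ∀ g ∈ T, g ∉ C → g * (s * a * s) * g⁻¹ = s * a * s * (s * x * s) := by
        intro g hg hgC
        rcases hb g hg with h3 | h3
        · exfalso
          apply hgC
          rw [memC]
          refine ⟨hg, fun u hu => ?_⟩
          have h4 : g * (s * a * s) = s * a * s * g := by rwa [mul_inv_eq_iff_eq_mul] at h3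
          have h5 := e.cz g hg
          rcases hUc u hu with rfl | rfl | rfl | rfl
          · group
          · exact h5
          · exact h4
          · rw [← mul_assoc, h4, mul_assoc, h5, ← mul_assoc]
        · exact h3
      intro g hg g' hg' hgC hgC'
      have h3 := hinU g hg hgC
      have h4 := hinU g' hg' hgC'
      have hz' : g * (s * x * s) * g⁻¹ = s * x * s := by
        rw [e.cz g hg, mul_inv_cancel_right]
      have h5 : g * g' * (s * a * s) = s * a * s * (g * g') := by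
        calc g * g' * (s * a * s) = g * (g' * (s * a * s) * g'⁻¹) * g⁻¹ * (g * g') := by group
          _ = g * (s * a * s * (s * x * s)) * g⁻¹ * (g * g') := by rw [h4]
          _ = (g * (s * a * s) * g⁻¹) * (g * (s * x * s) * g⁻¹) * (g * g') := by group
          _ = s * a * s * ((s * x * s) * (s * x * s)) * (g * g') := by rw [h3, hz']; group
          _ = s * a * s * (g * g') := by rw [w.zz, mul_one]
      rw [memC]
      refine ⟨T.mul_mem hg hg', fun u hu => ?_⟩
      have h6 := e.cz (g * g') (T.mul_mem hg hg')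
      rcases hUc u hu with rfl | rfl | rfl | rfl
      · group
      · exact h6
      · exact h5
      · rw [← mul_assoc, h5, mul_assoc, h6, ← mul_assoc]
    rw [q.fourU.card] at h1
    omega
  have hQT : Q ≤ T := inf_le_left
  obtain ⟨S, -, hS⟩ := e.small hQT hn hxQ haQ hzQ hcQ hcc hca hcard
  exact ⟨S, Or.inr (Models.PSL43.typeL4 hS)⟩

end

end Cfsg.Agent.GH.L2T2End
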