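import Cfsg.Agent.GH.TOne.Final
import Cfsg.Agent.GH.TOne.Inst
import Cfsg.Agent.GH.L2T2End
import Cfsg.Agent.GH.L2One.SmallD
import Cfsg.Agent.GH.L2One.Inst
import Cfsg.Agent.GH.L2.CaseIIn
import Cfsg.Agent.GH.L2.CaseIPlug
import Cfsg.Agent.GH.L2Card

/-!
# GH-L2: leaf A (`m_2(Q) ≥ 2`)

From `Data X N` (helper743's instance of `Sys`) and the theorem of the (T1) world: a `Quad` of type (T2) or (T4);
(T2) gives `TypeSp4` or `TypeL4`.
-/

set_option autoImplicit false
set_option linter.unusedSectionVars false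

open Cfsg Subgroup
open Cfsg.Agent.SignalizersComponents Cfsg.Agent.Lib
open Cfsg.Agent.SignalizersComponents.IntrinsicBasic
open Cfsg.Agent.Intrinsic.Basic Cfsg.Agent.Intrinsic.Cen
open Cfsg.Agent.GH.Defs Cfsg.Agent.GH.Comp
open Cfsg.Agent.GH.XSet Cfsg.Agent.GH.L2Tri Cfsg.Agent.GH.L2Pair Cfsg.Agent.GH.L2Quad
open Cfsg.Agent.Walter.SylowIn
open Cfsg.Agent.GH.TOne (FF mem_FF Data Pair LemS RankFour Inv inv_of_orderOf)

namespace Cfsg.Agent.GH.L2GlueA

variable {G : Type*} [Group G] [Finite G]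

/-! ### simple groups -/

theorem commutator_top (h : Hyp G) : commutator G = ⊤ := by
  have := h.simple
  rcases (inferInstance : (commutator G).Normal).eq_bot_or_eq_top with h1 | h1
  · exfalso
    obtain ⟨a, b, hab⟩ := h.exists_not_comm
    apply hab
    have h2 : a * b * a⁻¹ * b⁻¹ ∈ commutator G := commutator_mem_commutator (mem_top a) (mem_top b)
    rw [h1, mem_bot] at h2
    calc a * b = a * b * a⁻¹ * b⁻¹ * (b * a) := by group
      _ = b * a := by rw [h2, one_mul]
  · exact h1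

theorem hom_eq_one (h : Hyp G) {A : Type*} [CommGroup A] (f : G →* A) (g : G) : f g = 1 := by
  have h1 : commutator G ≤ f.ker := Abelianization.commutator_subset_ker f
  rw [commutator_top h] at h1
  exact h1 (mem_top g)

theorem index_ne_two (h : Hyp G) (H : Subgroup G) : H.index ≠ 2 := by
  intro h2
  have hn : H.Normal := normal_of_index_eq_two h2
  have := h.simple
  rcases hn.eq_bot_or_eq_top with rfl | rfl
  · rw [Subgroup.index_bot] at h2
    have : IsCyclic G := isCyclic_of_prime_card (p := 2) (hp := ⟨Nat.prime_two⟩) h2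
    exact h.nonComm (IsCyclic.isMulCommutative (α := G))
  · rw [Subgroup.index_top] at h2
    omega

theorem rankFour (h : SectionalPRankLE 2 4 G) : RankFour G :=
  TwoFusion.SectionalRank.sectionalPRankLE_iff.mp h

theorem lemS [IsSimpleGroup G] (hna : ∃ a b : G, a * b ≠ b * a)
    (h1173 : oddCore G = ⊥ → ∀ (S : Sylow 2 G) (T : Subgroup G),
      IsStronglyClosed T (S : Subgroup G) →
      ((⨅ n : ℕ, derivedSeries ↥(centralizer (T : Set G)) n).map
        (centralizer (T : Set G)).subtype).Normal)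
    {X : Set G} {N : ℕ} (h : XSet X N) : LemS X FF := by
  intro Y hYX hne hconj hcl
  have hB : XBase Y := ⟨fun y hy => h.inv y (hYX hy), fun y hy => h.comp y (hYX hy), hconj,
    fun y hy u hu huy hf => hcl y hy u (mem_FF.2 ⟨hf, huy.eq⟩) (inv_of_orderOf hu)⟩
  obtain ⟨y, hy, t, ht, hyt, hno⟩ := LemmaS.lemmaS hna h1173 hB hne
  exact ⟨y, hy, t, ht, hyt.eq, fun hf => hno (mem_FF.1 hf).1⟩

/-! ### the pair -/

theorem isTop_congr {X Y : Type*} [Group X] [Group Y] (e : X ≃* Y) (h : IsTop X) : IsTop Y := by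
  rcases h with h | h
  · exact Or.inl (h.congr e)
  · exact Or.inr (h.congr e)

theorem four_of {V : Subgroup G} (hs : ∀ v ∈ V, v * v = 1) (hc : Nat.card V = 4) : Four V := by
  refine ⟨fun a ha b hb => ?_, hs, hc⟩
  have h1 := hs _ (V.mul_mem ha hb)
  have h2 := hs a ha
  have h3 := hs b hb
  calc a * b = a * (a * b * (a * b)) * b := by rw [h1, mul_one]
    _ = (a * a) * (b * a) * (b * b) := by group
    _ = b * a := by rw [h2, h3, one_mul, mul_one]

/-- A `Pair` gives a `Quad`. -/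
theorem exists_quad_of_pair {X : Set G} {N : ℕ} (h : Data X N)
    (hT : ∀ y ∈ X, IsTop (STop (KK y))) {V U : Subgroup G} {y : G} (p : Pair X KK FF V U y) :
    ∃ (L : Subgroup G) (ρ : G), Quad X V L U ρ := by
  have hV : Four V := four_of p.eV p.cV
  have hU : Four U := four_of p.eU p.cU
  obtain ⟨L, hL⟩ := exists_vpair h.toXSet hV p.yV p.yX (fun v hv => (mem_FF.1 (p.VF hv)).1)
  have hV2 : IsPGroup 2 V := L2FourFact.isPGroup_four hV
  have hLe : L = cenW (KK y) V := h.toXBase.eq_cenW p.yX hV2 p.yV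
    (fun w hw => (mem_FF.1 (p.VF hw)).2) (fun v hv => (mem_FF.1 (p.VF hv)).1) hL.comp
  have hUL : U ≤ L := by
    intro u hu
    rw [hLe]
    refine PComponents.mem_pElem (n := 1) ?_ ?_
    · exact ⟨p.UK hu, mem_centralizer_iff.mpr fun v hv => p.comm v hv u hu⟩
    · rw [pow_one, pow_two]
      exact p.eU u hu
  obtain ⟨ρ, q⟩ := exists_quad_top hL h.odd hT hU hUL
  exact ⟨L, ρ, q⟩

/-- **The (T1) theorem**: a quadruple of type (T2) or (T4). -/
theorem exists_t2_or_t4 (hG : Hyp G)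
    (h1173 : oddCore G = ⊥ → ∀ (S : Sylow 2 G) (T : Subgroup G),
      IsStronglyClosed T (S : Subgroup G) →
      ((⨅ n : ℕ, derivedSeries ↥(centralizer (T : Set G)) n).map
        (centralizer (T : Set G)).subtype).Normal)
    {X : Set G} {N : ℕ} (h : Data X N) (hT : ∀ y ∈ X, IsTop (STop (KK y))) (hne : X.Nonempty) :
    ∃ (V L U : Subgroup G) (ρ : G), Quad X V L U ρ ∧ (T2 (V ⊔ U) V U ∨ T4 (V ⊔ U) V U ρ) := by
  have := hG.simple
  obtain ⟨V, U, y, g, p, hg, hmove⟩ := TOne.exists_moved hG.exists_not_comm (h.sys hne)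
    (rankFour hG.rank4) (lemS hG.exists_not_comm h1173 h.toXSet) hne
  obtain ⟨L, ρ, q⟩ := exists_quad_of_pair h hT p
  refine ⟨V, L, U, ρ, q, ?_⟩
  rcases (q.tri h.toXSet).tri with h1 | h1 | h1
  · exfalso
    apply hmove
    have hgN : g ∈ normalizer ((V ⊔ U : Subgroup G) : Set G) := by
      rw [mem_normalizer_iff_cj]
      refine Subgroup.eq_of_le_of_card_ge ?_ ?_
      · rintro _ ⟨x, hx, rfl⟩
        exact hg x hx
      · rw [cj_def, card_map_of_injective (MulAut.conj g).injective]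
    obtain ⟨h2, h3⟩ := h1 g hgN
    constructor
    · intro v hv
      have h4 := conj_mem_cj (g := g) hv
      rwa [h2] at h4
    · intro u hu
      have h4 := conj_mem_cj (g := g) hu
      rwa [h3] at h4
  · exact Or.inl h1
  · exact Or.inr h1

/-! ### (T2) -/

theorem t2_large (hG : Hyp G) (ho : AllOdd G) {X : Set G} {N : ℕ} (h : Data X N)
    (hT : ∀ y ∈ X, IsTop (STop (KK y))) (h3 : 3 ≤ N.factorization 2) {V L U : Subgroup G} {ρ : G}
    (q : Quad X V L U ρ) (t2 : T2 (V ⊔ U) V U) :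
    ∃ S : Sylow 2 G, TypeSp4 ↥(S : Subgroup G) ∨ TypeL4 ↥(S : Subgroup G) := by
  rcases L2T2End.t2_entry h.toXSet q (Rank.pRankLE hG.rank4) (index_ne_two hG) t2 with
    ⟨S, hS⟩ | ⟨x, hx, a, ha, τ, s, hVc, hsV, hsU, hτU, R, T, e⟩
  · exact ⟨S, Or.inl (Models.PSp43.typeSp4 hS)⟩
  have w := e.wd
  have hxX : x ∈ X := q.mem x hx w.one
  have hR2 : IsPGroup 2 R := e.sylR.isPGroup
  obtain ⟨S, hS⟩ := hR2.exists_le_sylow
  have hF : L2Frame.Frame (centralizer ({x} : Set G)) (KK x) T :=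
    L2CaseD.frame h.toXBase h.odd hxX e.sylT
  have h8 : 8 ∣ Nat.card ↥(T ⊓ KK x) := by
    rw [TOne.card_D hF, h.card x hxX]
    exact pow_dvd_pow 2 h3
  have hz : s * x * s⁻¹ ∈ KK x := by
    rw [w.si]
    exact q.le x hx w.one (q.UL (hsV x hx))
  have hss : s * (s * x * s⁻¹) * s⁻¹ = x := by
    rw [w.si]
    exact w.szs
  obtain ⟨r, c, m, -, -, e1, e2⟩ := L2.CaseIIn.exists_entry hG ho h.toXBase hxX (hT x hxX) e.sylT
    h8 S (e.le.trans hS) (hS e.sR) (fun t ht => e.norm s e.sR t ht) hz hss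
  obtain ⟨N', R', hcore⟩ := e2.core
  exact ⟨S, Or.inr (L2.CaseIPlug.typeL4_of_entry S e1 hG.rank4 (commutator_top hG) hcore e2.conj_r
    e2.conj_rz e2.conj_rr e2.ne e2.sylx)⟩

theorem t2_type (hG : Hyp G) (ho : AllOdd G) {X : Set G} {N : ℕ} (h : Data X N)
    (hT : ∀ y ∈ X, IsTop (STop (KK y))) (hne : X.Nonempty) {V L U : Subgroup G} {ρ : G}
    (q : Quad X V L U ρ) (t2 : T2 (V ⊔ U) V U) :
    ∃ S : Sylow 2 G, TypeSp4 ↥(S : Subgroup G) ∨ TypeL4 ↥(S : Subgroup G) := by
  by_cases h3 : 3 ≤ N.factorization 2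
  · exact t2_large hG ho h hT h3 q t2
  · have h2 := (h.sys hne).two_le
    have h4 : N.factorization 2 = 2 := by omega
    have hN : N ≠ 0 := by
      rintro rfl
      rw [Nat.factorization_zero] at h4
      exact absurd h4 (by simp)
    refine L2T2End.t2_small h.toXSet q (Rank.pRankLE hG.rank4) (index_ne_two hG) t2 ?_
    refine L2One.small_facts h.toXSet h.odd (fun y hy => L2One.hasData_of_top (hT y hy)) ?_ ?_
    · have h5 := (Nat.prime_two.pow_dvd_iff_le_factorization hN (k := 2)).2 h4.ge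
      simpa using h5
    · intro h8
      have h5 := (Nat.prime_two.pow_dvd_iff_le_factorization hN (k := 3)).1 (by simpa using h8)
      omega

end Cfsg.Agent.GH.L2GlueA
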