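import Cfsg.Agent.GH.L2AutPlus
import Cfsg.Agent.GH.L2One.AutPslMain
import Cfsg.Agent.GH.L2One.A7
import Cfsg.Agent.GH.Defs
import Cfsg.Agent.GH.L2FourAlt

/-!
# GH-L2: `AutPlus` for `PSL(2,F)` and `A₇`

* `autPlus_psl`, `autPlus_a7`;
* `Good L`: `AutData` (for all Sylow 2-subgroups) and `AutPlus`;
* `good_of_isL2odd`, `good_of_isAlt`.
-/

set_option autoImplicit false

open Cfsg Subgroup
open Cfsg.Agent.GH.L2Aut Cfsg.Agent.GH.L2One

namespace Cfsg.Agent.GH.L2AutPlus

/-! ### transport -/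

theorem four_map {L L' : Type*} [Group L] [Group L'] {a b : L} (h : Four a b) (e : L ≃* L') :
    Four (e a) (e b) where
  aa := by rw [← map_mul, h.aa, map_one]
  bb := by rw [← map_mul, h.bb, map_one]
  a1 := fun h1 => h.a1 (e.injective (by rw [h1, map_one]))
  b1 := fun h1 => h.b1 (e.injective (by rw [h1, map_one]))
  ne := fun h1 => h.ne (e.injective h1)
  comm := by rw [← map_mul, h.comm, map_mul]

theorem AutPlus.map {L L' A : Type*} [Group L] [Group L'] [Group A] {p1 : MulAut L →* ℤˣ}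
    {p2 : MulAut L →* A} (P : AutPlus p1 p2) (e : L ≃* L') :
    AutPlus (p1.comp (MulAut.congr e.symm).toMonoidHom) (p2.comp (MulAut.congr e.symm).toMonoidHom) := by
  have hcong : ∀ (α : MulAut L') (y : L), MulAut.congr e.symm α y = e.symm (α (e y)) :=
    fun α y => rfl
  have hconj : ∀ l : L', MulAut.congr e.symm (MulAut.conj l) = MulAut.conj (e.symm l) := by
    intro l
    ext y
    rw [hcong]
    simp only [MulAut.conj_apply, map_mul, map_inv, MulEquiv.symm_apply_apply]
  have hinj : Function.Injective (MulAut.congr e.symm) := (MulAut.congr e.symm).injective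
  refine ⟨?_, ?_, fun α β => P.comm _ _, ?_⟩
  · intro a b h
    obtain ⟨y, h1, h2⟩ := P.four _ _ (four_map h e.symm)
    refine ⟨e y, e.symm.injective ?_, e.symm.injective ?_⟩
    · rw [map_mul, map_mul, map_inv, MulEquiv.symm_apply_apply, h1]
    · rw [map_mul, map_mul, map_inv, MulEquiv.symm_apply_apply, h2, map_mul]
  · intro α h
    obtain ⟨l, hl⟩ := P.split _ h
    refine ⟨e l, fun n hn => hinj ?_⟩
    have h1 := hl n hn
    rw [map_pow, map_mul, hconj, MulEquiv.symm_apply_apply, map_one]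
    exact h1
  · intro α h h1
    obtain ⟨a, b, y, h2, h3, h4, h5, h6, h7⟩ := P.field_four (MulAut.congr e.symm α)
      (by rw [← map_mul, h, map_one]) h1
    have hfix : ∀ {x : L}, MulAut.congr e.symm α x = x → α (e x) = e x := by
      intro x hx
      rw [hcong] at hx
      apply e.symm.injective
      rw [hx, MulEquiv.symm_apply_apply]
    exact ⟨e a, e b, e y, four_map h2 e, hfix h3, hfix h4, hfix h5,
      by rw [← map_inv, ← map_mul, ← map_mul, h6], by rw [← map_inv, ← map_mul, ← map_mul, h7, map_mul]⟩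

/-! ### `PSL(2,F)` -/

theorem autPlus_psl {F : Type*} [Field F] [Finite F] {L : Type*} [Group L] (R : L2Aut.Rep F L) :
    AutPlus R.o1 R.fld := by
  have hfin : Finite L := R.finite
  have hcyc : IsCyclic (F ≃+* F) := LieRecognition.FieldSemilinear.isCyclic_ringAut F
  refine ⟨?_, ?_, fun α β => ?_, ?_⟩
  · intro a b h
    obtain ⟨Φ, y, δ, -, -, -, -, -, -, h1, h2, -⟩ := R.exists_frame h
    exact ⟨y, h1, h2⟩
  · intro α h
    obtain ⟨g, hg⟩ := R.exists_eq α
    have h1 : R.o1 (R.gl g) = 1 := by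
      rw [hg, map_mul, R.o1_fa, mul_one] at h
      exact h
    obtain ⟨l, hl⟩ := R.mem_inn_iff.2 ⟨R.fld_gl g, h1⟩
    refine ⟨l⁻¹, fun n hn => ?_⟩
    have h2 : MulAut.conj l⁻¹ * α = R.fa (R.fld α) := by
      rw [map_inv, inv_mul_eq_iff_eq_mul, hl]
      exact hg
    rw [h2, ← map_pow, hn, map_one]
  · obtain ⟨g, hg⟩ := hcyc
    obtain ⟨i, hi⟩ := mem_zpowers_iff.1 (hg (R.fld α))
    obtain ⟨j, hj⟩ := mem_zpowers_iff.1 (hg (R.fld β))
    rw [← hi, ← hj, ← zpow_add, ← zpow_add, add_comm]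
  · intro α h h1
    obtain ⟨x, K, -, h2⟩ := L2AutField.exists_fInv R h h1
    obtain ⟨a, b, h3⟩ := R.exists_four
    obtain ⟨Φ, y, δ, -, h4, h5, h6, -, -, h7, h8, -, -, -, -, -, -, g, hg⟩ := R.exists_frame h3
    obtain ⟨γ, hγ⟩ : ∃ γ : MulAut L, γ = R.gl x * (R.gl g)⁻¹ := ⟨_, rfl⟩
    have h9 : α = γ * Φ (R.fld α) * γ⁻¹ := by
      rw [hg, hγ]
      nth_rw 1 [h2]
      group
    have hfix : ∀ {z : L}, Φ (R.fld α) z = z → α (γ z) = γ z := by
      intro z hz
      have e1 : α (γ z) = γ (Φ (R.fld α) z) := by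
        nth_rw 1 [h9]
        rw [MulAut.mul_apply, MulAut.mul_apply, MulAut.inv_apply_self]
      rw [e1, hz]
    exact ⟨γ a, γ b, γ y, h3.map γ, hfix (h4 _), hfix (h5 _), hfix (h6 _),
      by rw [← map_inv, ← map_mul, ← map_mul, h7], by rw [← map_inv, ← map_mul, ← map_mul, h8, map_mul]⟩

/-! ### `A₇` -/

theorem four_sub {Y : Type*} [Group Y] {a b : Y} (h : L2Aut.Four a b) : L2Tri.Four h.sub where
  comm := by
    have e1 : Commute a b := h.comm
    rintro x hx y hy
    change Commute x y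
    rcases hx with rfl | rfl | rfl | rfl <;> rcases hy with rfl | rfl | rfl | rfl
    · exact Commute.one_left _
    · exact Commute.one_left _
    · exact Commute.one_left _
    · exact Commute.one_left _
    · exact Commute.one_right _
    · exact Commute.refl _
    · exact e1
    · exact (Commute.refl _).mul_right e1
    · exact Commute.one_right _
    · exact e1.symm
    · exact Commute.refl _
    · exact e1.symm.mul_right (Commute.refl _)
    · exact Commute.one_right _
    · exact ((Commute.refl _).mul_right e1).symm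
    · exact (e1.symm.mul_right (Commute.refl _)).symm
    · exact Commute.refl _
  sq := by
    rintro x (rfl | rfl | rfl | rfl)
    · exact mul_one 1
    · exact h.aa
    · exact h.bb
    · exact h.right.bb
  card := by
    classical
    have e0 : a * b ≠ 1 := h.right.b1
    have e1 : ((h.sub : Subgroup Y) : Set Y) = (({1, a, b, a * b} : Finset Y) : Set Y) := by
      ext x
      simp only [Finset.coe_insert, Finset.coe_singleton, Set.mem_insert_iff,
        Set.mem_singleton_iff]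
      exact Iff.rfl
    change Set.ncard ((h.sub : Subgroup Y) : Set Y) = 4
    rw [e1, Set.ncard_coe_finset]
    exact Finset.card_eq_four.2 ⟨1, a, b, a * b, h.a1.symm, h.b1.symm, e0.symm, h.ne,
          fun h1 => h.b1 (left_eq_mul.1 h1), fun h1 => h.a1 (right_eq_mul.1 h1), rfl⟩

theorem four_of_f4 {Y : Type*} [Group Y] (h : L2FourFact.F4 Y) {a b : Y} (hF : L2Aut.Four a b) :
    ∃ y : Y, y * a * y⁻¹ = b ∧ y * b * y⁻¹ = a * b := by
  obtain ⟨-, y, h1, h2⟩ := h _ (four_sub hF)
  have ha : a ∈ hF.sub := Or.inr (Or.inl rfl)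
  have hb : b ∈ hF.sub := Or.inr (Or.inr (Or.inl rfl))
  have hab : a * b ∈ hF.sub := Or.inr (Or.inr (Or.inr rfl))
  have hne : ∀ {x : Y}, x ≠ 1 → y * x * y⁻¹ ≠ 1 := by
    intro x hx h3
    apply hx
    have h4 : x = y⁻¹ * (y * x * y⁻¹) * y := by group
    rw [h4, h3]; group
  have hmul : y * (a * b) * y⁻¹ = (y * a * y⁻¹) * (y * b * y⁻¹) := by group
  rcases h1 a ha with h3 | h3 | h3 | h3
  · exact absurd h3 (hne hF.a1)
  · exact absurd h3 (h2 a ha hF.a1)
  · refine ⟨y, h3, ?_⟩
    rcases h1 b hb with h4 | h4 | h4 | h4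
    · exact absurd h4 (hne hF.b1)
    · exact absurd (by rw [hmul, h3, h4, hF.comm]) (h2 _ hab hF.right.b1)
    · exact absurd h4 (h2 b hb hF.b1)
    · exact h4
  · have h5 : y * b * y⁻¹ = a := by
      rcases h1 b hb with h4 | h4 | h4 | h4
      · exact absurd h4 (hne hF.b1)
      · exact h4
      · exact absurd h4 (h2 b hb hF.b1)
      · exfalso
        apply hF.ne
        have h6 := h3.trans h4.symm
        exact mul_left_cancel (mul_right_cancel h6)
    refine ⟨y⁻¹, ?_, ?_⟩
    · rw [← h5]; group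
    · have h6 : y * (a * b) * y⁻¹ = b := by
        rw [hmul, h3, h5, mul_assoc, ← hF.comm, ← mul_assoc, hF.aa, one_mul]
      nth_rw 1 [← h6]
      group

section A7

open A7

/-- `(0 2)(1 3)` -/
def fa1 : Alt := ⟨ζ, by rw [Equiv.Perm.mem_alternatingGroup]; decide +kernel⟩
/-- `(0 1)(2 3)` -/
def fb1 : Alt := ⟨Equiv.swap 0 1 * Equiv.swap 2 3, by
  rw [Equiv.Perm.mem_alternatingGroup]; decide +kernel⟩
/-- `(1 3)(4 5)` -/
def fb2 : Alt := ⟨Equiv.swap 1 3 * Equiv.swap 4 5, by
  rw [Equiv.Perm.mem_alternatingGroup]; decide +kernel⟩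
/-- an element of order 3 commuting with `τ` -/
def fy1 : Alt := ⟨Equiv.swap 1 2 * Equiv.swap 1 3, by
  rw [Equiv.Perm.mem_alternatingGroup]; decide +kernel⟩
/-- `(0 1 4)(2 3 5)` -/
def fy2 : Alt := ⟨Equiv.swap 0 1 * Equiv.swap 1 4 * (Equiv.swap 2 3 * Equiv.swap 3 5), by
  rw [Equiv.Perm.mem_alternatingGroup]; decide +kernel⟩

theorem four1 : Four fa1 fb1 :=
  ⟨Subtype.ext (by decide +kernel), Subtype.ext (by decide +kernel),
    fun h => absurd (congrArg Subtype.val h) (by decide +kernel),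
    fun h => absurd (congrArg Subtype.val h) (by decide +kernel),
    fun h => absurd (congrArg Subtype.val h) (by decide +kernel), Subtype.ext (by decide +kernel)⟩

theorem four2 : Four fa1 fb2 :=
  ⟨Subtype.ext (by decide +kernel), Subtype.ext (by decide +kernel),
    fun h => absurd (congrArg Subtype.val h) (by decide +kernel),
    fun h => absurd (congrArg Subtype.val h) (by decide +kernel),
    fun h => absurd (congrArg Subtype.val h) (by decide +kernel), Subtype.ext (by decide +kernel)⟩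

theorem exists_four_comm {π : S7} (h : π = τ ∨ π = ζ * τ) : ∃ a b y : Alt, Four a b ∧
    π * a * π⁻¹ = a ∧ π * b * π⁻¹ = b ∧ π * y * π⁻¹ = y ∧ y * a * y⁻¹ = b ∧ y * b * y⁻¹ = a * b := by
  rcases h with rfl | rfl
  · exact ⟨fa1, fb1, fy1, four1, by decide +kernel, by decide +kernel, by decide +kernel,
      Subtype.ext (by decide +kernel), Subtype.ext (by decide +kernel)⟩
  · exact ⟨fa1, fb2, fy2, four2, by decide +kernel, by decide +kernel, by decide +kernel,
      Subtype.ext (by decide +kernel), Subtype.ext (by decide +kernel)⟩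

theorem autPlus_a7 {A : Type*} [Group A] {S : Subgroup Alt} {d : ℕ} {r c : Alt}
    {p1 : MulAut Alt →* ℤˣ} {p2 : MulAut Alt →* A} (E : AutData S d r c p1 p2) : AutPlus p1 p2 := by
  obtain ⟨ψ, hψ⟩ := exists_psi
  have hinn : ∀ {α : MulAut Alt}, Equiv.Perm.sign (ψ α) = 1 → ∃ l, α = MulAut.conj l := by
    intro α h
    refine ⟨⟨ψ α, Equiv.Perm.mem_alternatingGroup.2 h⟩, ?_⟩
    apply psi_injective hψ
    rw [psi_conj hψ]
  refine ⟨fun a b h => four_of_f4 L2FourAlt.f4_alt h, ?_, fun α β => ?_, ?_⟩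
  · intro α h1
    by_cases hs : Equiv.Perm.sign (ψ α) = 1
    · obtain ⟨l, hl⟩ := hinn hs
      refine ⟨l⁻¹, fun n _ => ?_⟩
      rw [hl, map_inv, inv_mul_cancel, one_pow]
    · have hs' : Equiv.Perm.sign (ψ α) = -1 := (Int.units_eq_one_or _).resolve_left hs
      have hl : Equiv.Perm.sign (τ * (ψ α)⁻¹) = 1 := by
        rw [map_mul, map_inv, hs', sign_τ]; rfl
      refine ⟨⟨τ * (ψ α)⁻¹, Equiv.Perm.mem_alternatingGroup.2 hl⟩, fun n hn => ?_⟩
      obtain ⟨β, hβ⟩ : ∃ β, β = MulAut.conj (⟨τ * (ψ α)⁻¹, Equiv.Perm.mem_alternatingGroup.2 hl⟩ : Alt) *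
        α := ⟨_, rfl⟩
      rw [← hβ]
      have h2 : ψ β = τ := by
        rw [hβ, map_mul, psi_conj hψ]
        change τ * (ψ α)⁻¹ * ψ α = τ
        group
      have h3 : β * β = 1 := by
        apply psi_injective hψ
        rw [map_mul, h2, map_one]
        decide +kernel
      have h4 : p2 α ≠ 1 := by
        intro h4
        obtain ⟨l, hl'⟩ := E.ker α h1 h4
        rw [hl', psi_conj hψ] at hs
        exact hs (Equiv.Perm.mem_alternatingGroup.1 l.2)
      have h5 : p2 β = p2 α := by rw [hβ, map_mul, E.inn2, one_mul]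
      have h6 : p2 α * p2 α = 1 := by rw [← h5, ← map_mul, h3, map_one]
      have h7 : Even n := by
        by_contra hodd
        rw [Nat.not_even_iff_odd] at hodd
        obtain ⟨m, hm⟩ := hodd
        rw [hm, pow_succ, pow_mul, pow_two, h6, one_pow, one_mul] at hn
        exact h4 hn
      obtain ⟨m, hm⟩ := h7
      rw [hm, ← two_mul, pow_mul, pow_two, h3, one_pow]
  · by_cases hα : Equiv.Perm.sign (ψ α) = 1
    · obtain ⟨l, hl⟩ := hinn hα
      rw [hl, E.inn2, one_mul, mul_one]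
    · by_cases hβ : Equiv.Perm.sign (ψ β) = 1
      · obtain ⟨l, hl⟩ := hinn hβ
        rw [hl, E.inn2, one_mul, mul_one]
      · have hα' : Equiv.Perm.sign (ψ α) = -1 := (Int.units_eq_one_or _).resolve_left hα
        have hβ' : Equiv.Perm.sign (ψ β) = -1 := (Int.units_eq_one_or _).resolve_left hβ
        obtain ⟨l, hl⟩ := hinn (α := α * β⁻¹) (by
          rw [map_mul, map_mul, map_inv, map_inv, hα', hβ']; rfl)
        have h1 : α = MulAut.conj l * β := by rw [← hl, inv_mul_cancel_right]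
        rw [h1, map_mul, E.inn2, one_mul]
  · intro α hα h
    have hs : Equiv.Perm.sign (ψ α) ≠ 1 := by
      intro hs
      obtain ⟨l, hl⟩ := hinn hs
      exact h (by rw [hl, E.inn2])
    obtain ⟨l, hl⟩ := conj_odd (by rw [← map_mul, hα, map_one]) hs
    obtain ⟨a, b, y, h1, h2, h3, h4, h5, h6⟩ := exists_four_comm hl
    have hfix : ∀ {z : Alt}, ((l : S7) * ψ α * (l : S7)⁻¹) * z * ((l : S7) * ψ α * (l : S7)⁻¹)⁻¹ = z →
        α (MulAut.conj l⁻¹ z) = MulAut.conj l⁻¹ z := by
      intro z hz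
      apply Subtype.ext
      rw [hψ]
      change ψ α * ((l : S7)⁻¹ * z * ((l : S7)⁻¹)⁻¹) * (ψ α)⁻¹ = (l : S7)⁻¹ * z * ((l : S7)⁻¹)⁻¹
      nth_rw 2 [← hz]
      group
    exact ⟨MulAut.conj l⁻¹ a, MulAut.conj l⁻¹ b, MulAut.conj l⁻¹ y, h1.map _, hfix h2, hfix h3, hfix h4,
      by rw [← map_inv, ← map_mul, ← map_mul, h5], by rw [← map_inv, ← map_mul, ← map_mul, h6, map_mul]⟩

end A7

/-! ### packaging -/

/-- All facts on `L` and `Aut(L)`. -/
def Good (L : Type*) [Group L] : Prop :=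
  ∃ (A : Type) (_ : Group A) (d : ℕ) (p1 : MulAut L →* ℤˣ) (p2 : MulAut L →* A),
    AutPlus p1 p2 ∧ ∀ P : Sylow 2 L, ∃ r c : L, AutData (P : Subgroup L) d r c p1 p2

theorem Good.of_one {L : Type*} [Group L] [Finite L] {A : Type} [Group A] {P : Sylow 2 L}
    {d : ℕ} {r c : L} {p1 : MulAut L →* ℤˣ} {p2 : MulAut L →* A}
    (F : AutData (P : Subgroup L) d r c p1 p2) (h : AutPlus p1 p2) : Good L :=
  ⟨A, inferInstance, d, p1, p2, h, fun P' => F.of_sylow P'⟩

theorem Good.congr {L M : Type*} [Group L] [Group M] (e : L ≃* M) (h : Good L) : Good M := by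
  obtain ⟨A, _, d, p1, p2, h1, h2⟩ := h
  refine ⟨A, inferInstance, d, _, _, h1.map e, fun P => ?_⟩
  obtain ⟨r, c, F⟩ := h2 (P.comapOfInjective e.toMonoidHom e.injective (by
    rw [MonoidHom.range_eq_top.mpr e.surjective]; exact le_top))
  have h3 := F.map e
  have h4 : (((P.comapOfInjective e.toMonoidHom e.injective (by
      rw [MonoidHom.range_eq_top.mpr e.surjective]; exact le_top) : Sylow 2 L) : Subgroup L)).map
      e.toMonoidHom = (P : Subgroup M) := by
    change ((P : Subgroup M).comap e.toMonoidHom).map e.toMonoidHom = _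
    exact Subgroup.map_comap_eq_self_of_surjective e.surjective _
  rw [h4] at h3
  exact ⟨e r, e c, h3⟩

theorem good_of_rep {F : Type} [Field F] [Finite F] {L : Type*} [Group L] (R : L2Aut.Rep F L) :
    Good L := by
  have hfin : Finite L := R.finite
  obtain ⟨d, r, c, h⟩ := AutPslMain.autData R (default : Sylow 2 L)
  exact Good.of_one h (autPlus_psl R)

theorem good_of_isL2odd {X : Type*} [Group X] (h : Defs.IsL2odd X) : Good X := by
  obtain ⟨F, i, j, h1, -, ⟨e⟩⟩ := h
  exact good_of_rep (L2Aut.Rep.ofEquiv (L2Aut.two_ne_zero_of_odd h1) e)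

theorem good_of_isAlt {X : Type*} [Group X] (h : Defs.IsAlt 7 X) : Good X := by
  obtain ⟨e⟩ := h
  obtain ⟨P, p1, p2, E⟩ := A7.exists_autData
  exact (Good.of_one E (autPlus_a7 E)).congr e.symm

end Cfsg.Agent.GH.L2AutPlus
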