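import Cfsg.Agent.GH.L2QTwo.InstPlus
import Cfsg.Agent.GH.L2QTwo.Simple
import Cfsg.Agent.GH.N2.Main
import Cfsg.Agent.GH.L2QTwo.MFWrap
import Cfsg.Agent.GH.NFour.Main
import Cfsg.Agent.GH.L2Main

/-!
# GH-L2, leaf C (`Q = ⟨x⟩`): the case split

All pieces with `T < S ∈ Syl_2(G)`, `D = T ∩ K`:
* `q1`: `|D| = 4`;
* `q2`: `|D| = 8`, `T = ⟨x⟩ × D`;
* `q4_of`: `|D| ≥ 8` and `T` contains a field involution: impossible, from the piece `MInF` (`x ~ xz`);
`leafC_of`: leaf C from `MInF`.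
-/

set_option autoImplicit false
set_option linter.unusedSectionVars false

open Cfsg Subgroup
open Cfsg.Agent.SignalizersComponents
open Cfsg.Agent.SignalizersComponents.IntrinsicBasic
open Cfsg.Agent.Intrinsic.Basic Cfsg.Agent.GH.Defs Cfsg.Agent.GH.Comp
open Cfsg.Agent.GH.L2Quad
open Cfsg.Agent.GH.L2Frame (fix mem_fix)
open Cfsg.Agent.Walter.SylowIn

namespace Cfsg.Agent.GH.L2LeafC

variable {G : Type*} [Group G] [Finite G]

/-- The situation of leaf C with `T < S`. -/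
structure Sit (x : G) (K T : Subgroup G) (S : Sylow 2 G) : Prop where
  hyp : Hyp G
  odd : AllOdd G
  comp : Comp2 x K
  top : IsTop (STop K)
  syl : SylIn 2 T (centralizer ({x} : Set G))
  q : ∀ q ∈ T ⊓ fix K, q = 1 ∨ q = x
  le : T ≤ S
  ne : T ≠ S

namespace Sit

variable {x : G} {K T : Subgroup G} {S : Sylow 2 G}

theorem norm (h : Sit x K T S) : centralizer ({x} : Set G) ≤ normalizer (K : Set G) :=
  L2FourOC.centralizer_le_normalizer h.hyp h.odd h.comp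

theorem frame (h : Sit x K T S) : L2Frame.Frame (centralizer ({x} : Set G)) K T :=
  ⟨h.comp.comp, h.odd x K h.comp, h.syl.le.trans h.norm, h.syl⟩

theorem good (h : Sit x K T S) : L2AutPlus.Good (STop K) := TOne.good_of_isTop h.top

theorem exists_frameX (h : Sit x K T S) :
    ∃ (A : Type) (_ : Group A) (d : ℕ) (r c : G) (o1 : G → ℤˣ) (o2 : G → A),
      L2QTwo.Frame x K T (T ⊓ K) d r c o1 o2 ∧ L2QTwo.FrameX x K T (T ⊓ K) o1 o2 :=
  L2QTwo.exists_frameX h.comp.inv h.frame h.norm h.good h.q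

end Sit

/-- (Q2.1): `|D| = 4` -/
theorem q1 {x : G} {K T : Subgroup G} {S : Sylow 2 G} (h : Sit x K T S)
    (h4 : Nat.card ↥(T ⊓ K) = 4) : ∃ S : Sylow 2 G, SType ↥(S : Subgroup G) := by
  have hsim := h.hyp.simple
  obtain ⟨hB, hS, k, -, hk, hk1, hk2⟩ := N2.exists_base_two h.comp.inv h.frame h.norm h.good h.q h4
  exact N2.sType (fun hc => h.hyp.nonComm ⟨⟨hc⟩⟩) hB hS hk hk1 hk2

/-- (Q2.2): `|D| = 8`, `T = ⟨x⟩ × D` -/
theorem q2 {x : G} {K T : Subgroup G} {S : Sylow 2 G} (h : Sit x K T S)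
    (h8 : Nat.card ↥(T ⊓ K) = 8) (h16 : Nat.card T = 16) :
    ∃ S : Sylow 2 G, SType ↥(S : Subgroup G) := by
  have hsim := h.hyp.simple
  obtain ⟨r, c, -, hc, -, -, h4, -, -, h5⟩ :=
    N2.exists_base_three h.comp.inv h.frame h.norm h.good h.q h8 h16
  obtain ⟨hB, hS, k, -, hk, hk1, hk2⟩ := h5 c h4 hc
  exact N2.sType (fun hc => h.hyp.nonComm ⟨⟨hc⟩⟩) hB hS hk hk1 hk2

/-- (M-in-f): `|D| ≥ 8`, `f` a field involution centralising `D`, `x ~ xz` -/
def MInF (G : Type*) [Group G] [Finite G] : Prop :=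
  ∀ (x : G) (K T : Subgroup G) (S : Sylow 2 G) (A : Type) [Group A] (d : ℕ) (r c : G)
    (o1 : G → ℤˣ) (o2 : G → A) (F : L2QTwo.Frame x K T (T ⊓ K) d r c o1 o2) (f s : G),
    Sit x K T S → L2QTwo.FrameX x K T (T ⊓ K) o1 o2 → 3 ≤ d → F.Fld f → s ∈ S → F.Out s →
    IsConj x (x * r ^ 2 ^ (d - 2)) → False

/-- (Q2.4): `|D| ≥ 8`, a field involution in `T` -/
theorem q4_of (hM : MInF G) {x : G} {K T : Subgroup G} {S : Sylow 2 G} {A : Type} [Group A] {d : ℕ}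
    {r c : G} {o1 : G → ℤˣ} {o2 : G → A} (h : Sit x K T S)
    (F : L2QTwo.Frame x K T (T ⊓ K) d r c o1 o2) (X : L2QTwo.FrameX x K T (T ⊓ K) o1 o2)
    (hd : 3 ≤ d) (hf : ∃ f ∈ T, f * f = 1 ∧ o2 f ≠ 1) : False := by
  obtain ⟨f, s, h1, h2, h3, h4⟩ := F.conj_xz_of_field hd S h.le h.ne hf X.comm
    (TwoFusion.SectionalRank.sectionalPRankLE_iff.mp h.hyp.rank4) (fun φ => L2GlueA.hom_eq_one h.hyp φ x)
  exact hM x K T S A d r c o1 o2 F f s h X hd h1 h2 h3 h4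

theorem exists_rho {A : Type*} [Group A] {x : G} {K T D : Subgroup G} {d : ℕ} {r c : G}
    {o1 : G → ℤˣ} {o2 : G → A} (F : L2QTwo.Frame x K T D d r c o1 o2)
    (X : L2QTwo.FrameX x K T D o1 o2) :
    ∃ ρ, x * ρ = ρ * x ∧ ρ * r ^ 2 ^ (d - 2) * ρ⁻¹ = c ∧ ρ * c * ρ⁻¹ = r ^ 2 ^ (d - 2) * c := by
  have hne : r ^ 2 ^ (d - 2) ≠ c := fun h => F.c_not ((2 : ℤ) ^ (d - 2)) (by rw [← h, F.zz])
  obtain ⟨ρ, -, h1, h2, h3⟩ := X.four _ F.z_mem _ F.c_mem F.z_sq F.z_ne F.cc F.c_ne hne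
    (F.z_comm F.c_mem)
  exact ⟨ρ, h1, h2, h3⟩

theorem card_T {A : Type*} [Group A] {x : G} {K T D : Subgroup G} {d : ℕ} {r c : G}
    {o1 : G → ℤˣ} {o2 : G → A} (F : L2QTwo.Frame x K T D d r c o1 o2)
    (h : ∀ t ∈ T, o1 t = 1 ∧ o2 t = 1) : Nat.card T = 2 * Nat.card D := by
  have h1 : (T : Set G) = (D : Set G) ∪ (fun e => x * e) '' (D : Set G) := by
    ext t
    constructor
    · intro ht
      obtain ⟨e, he, rfl | rfl⟩ := F.ker t ht (h t ht).1 (h t ht).2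
      · exact Or.inl he
      · exact Or.inr ⟨e, he, rfl⟩
    · rintro (ht | ⟨e, he, rfl⟩)
      · exact F.D_le ht
      · exact T.mul_mem F.x_mem (F.D_le he)
  have h2 : Disjoint (D : Set G) ((fun e => x * e) '' (D : Set G)) := by
    rw [Set.disjoint_left]
    rintro _ hy ⟨f, hf, rfl⟩
    exact F.xD_ne hf hy rfl
  have h3 : (T : Set G).ncard = Nat.card T := rfl
  have h4 : (D : Set G).ncard = Nat.card D := rfl
  rw [← h3, ← h4, h1, Set.ncard_union_eq h2 (Set.toFinite _) (Set.toFinite _),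
    Set.ncard_image_of_injective _ (mul_right_injective x), two_mul]

/-- **Leaf C** from (M-in-f). -/
theorem leafC_of (hG : Hyp G) (ho : AllOdd G) (hM : MInF G) : L2Main.LeafC G := by
  intro x K T hK hT hTs hQ
  have hsim := hG.simple
  obtain ⟨S, hTS⟩ := hTs.isPGroup.exists_le_sylow
  by_cases hne : T = S
  · obtain ⟨A, _, d, r, c, o1, o2, F⟩ := L2QTwo.exists_frame hK.inv
      ⟨hK.comp, ho x K hK, hTs.le.trans (L2FourOC.centralizer_le_normalizer hG ho hK), hTs⟩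
      (L2FourOC.centralizer_le_normalizer hG ho hK) (TOne.good_of_isTop hT) hQ
    exact ⟨S, Or.inl (F.comm_of_main S hne.symm
      (L2QTwo.Simple.exists_conj hsim hG.nonComm F)
      (L2QTwo.Simple.no_index_two hsim hG.nonComm))⟩
  · have hS : Sit x K T S := ⟨hG, ho, hK, hT, hTs, hQ, hTS, hne⟩
    obtain ⟨A, _, d, r, c, o1, o2, F, X⟩ := hS.exists_frameX
    have hcD := N2.cardD F
    by_cases hd : d = 2
    · exact q1 hS (by rw [hcD, hd]; norm_num)
    have hd3 : 3 ≤ d := by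
      have := F.d_ge
      omega
    by_cases hf : ∃ f ∈ T, f * f = 1 ∧ o2 f ≠ 1
    · exact absurd (q4_of hM hS F X hd3 hf) id
    · push Not at hf
      by_cases hcase : 4 ≤ d ∨ ∃ t ∈ T, o1 t ≠ 1 ∨ o2 t ≠ 1
      · exfalso
        exact NFour.Main.main F hd3 (fun y hy hyy => X.mixed y hy (Or.inr hyy))
          (fun y hy h5 h6 h7 => by
            obtain ⟨b, hb, h8, -⟩ := X.field_comm y hy h5 h6 h7
            exact ⟨b, hb, h8⟩)
          (exists_rho F X) hf hcase hTS hne (L2GlueA.commutator_top hG)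
      · push Not at hcase
        have hd' : d = 3 := by omega
        have h5 : Nat.card ↥(T ⊓ K) = 8 := by rw [hcD, hd']; norm_num
        refine q2 hS h5 ?_
        rw [card_T F hcase.2, h5]

end Cfsg.Agent.GH.L2LeafC
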