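import Mathlib
import Cfsg.Agent.SignalizersComponents.IntrinsicBasic

/-!
# GH-L2: the trichotomy

`E` elementary abelian of order 16, `V, U ≤ E` four-groups with `V ∩ U = 1`.
Hypothesis `stab`: every `g ∈ N(E)` mapping some `v ∈ V#` into `V` normalizes `V` and `U`.
`ρ ∈ N(E)` centralizes `V` and acts without fixed points on `U`.
Then one of `T1`, `T2`, `T4` holds (`tri`).
-/

set_option autoImplicit false

open Subgroup
open Cfsg.Agent.SignalizersComponents.IntrinsicBasic (cj mem_cj conj_mem_cj cj_one cj_mul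
  cj_inv_cj cj_cj_inv cj_injective cj_mono mem_normalizer_iff_cj)

namespace Cfsg.Agent.GH.L2Tri

variable {G : Type*} [Group G]

/-! ### four-groups -/

/-- `V` is a four-group. -/
structure Four (V : Subgroup G) : Prop where
  comm : ∀ a ∈ V, ∀ b ∈ V, a * b = b * a
  sq : ∀ a ∈ V, a * a = 1
  card : Nat.card V = 4

namespace Four

variable {V : Subgroup G} (h : Four V)

include h

theorem finite : Finite V := Nat.finite_of_card_ne_zero (by rw [h.card]; norm_num)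

theorem inv {a : G} (ha : a ∈ V) : a⁻¹ = a := inv_eq_of_mul_eq_one_left (h.sq a ha)

/-- the fourth element -/
theorem cases {a b : G} (ha : a ∈ V) (hb : b ∈ V) (ha1 : a ≠ 1) (hb1 : b ≠ 1) (hab : a ≠ b)
    {c : G} (hc : c ∈ V) : c = 1 ∨ c = a ∨ c = b ∨ c = a * b := by
  classical
  have := h.finite
  have hf : (V : Set G).Finite := Set.toFinite _
  have h1 : ({1, a, b, a * b} : Finset G) ⊆ hf.toFinset := by
    intro x hx
    rw [Set.Finite.mem_toFinset]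
    simp only [Finset.mem_insert, Finset.mem_singleton] at hx
    rcases hx with rfl | rfl | rfl | rfl
    · exact V.one_mem
    · exact ha
    · exact hb
    · exact V.mul_mem ha hb
  have h2 : ({1, a, b, a * b} : Finset G).card = 4 := by
    have e1 : (1 : G) ∉ ({a, b, a * b} : Finset G) := by
      simp only [Finset.mem_insert, Finset.mem_singleton, not_or]
      refine ⟨ha1.symm, hb1.symm, fun h3 => ?_⟩
      have h4 : a = b⁻¹ := eq_inv_of_mul_eq_one_left h3.symm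
      rw [h.inv hb] at h4
      exact hab h4
    have e2 : a ∉ ({b, a * b} : Finset G) := by
      simp only [Finset.mem_insert, Finset.mem_singleton, not_or]
      refine ⟨hab, fun h3 => hb1 ?_⟩
      exact mul_eq_left.mp h3.symm
    have e3 : b ∉ ({a * b} : Finset G) := by
      simp only [Finset.mem_singleton]
      intro h3
      exact ha1 (mul_eq_right.mp h3.symm)
    rw [Finset.card_insert_of_notMem e1, Finset.card_insert_of_notMem e2,
      Finset.card_insert_of_notMem e3, Finset.card_singleton]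
  have h3 : hf.toFinset.card = 4 := by
    rw [← h.card, ← Set.ncard_eq_toFinset_card (V : Set G) hf]
    rfl
  have h4 := Finset.eq_of_subset_of_card_le h1 (by rw [h2, h3])
  have h5 : c ∈ hf.toFinset := by rw [Set.Finite.mem_toFinset]; exact hc
  rw [← h4] at h5
  simpa using h5

theorem exists_ne : ∃ a ∈ V, a ≠ 1 := by
  by_contra hcon
  push Not at hcon
  have h1 : V = ⊥ := by
    rw [eq_bot_iff]
    intro a ha
    exact mem_bot.2 (hcon a ha)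
  have h2 := h.card
  rw [h1, card_bot] at h2
  norm_num at h2

theorem exists_ne' (a : G) : ∃ b ∈ V, b ≠ 1 ∧ b ≠ a := by
  have := h.finite
  by_contra hcon
  push Not at hcon
  have h2 : (V : Set G) ⊆ {1, a} := by
    intro z hz
    by_cases hz1 : z = 1
    · left; exact hz1
    · right; exact hcon z hz hz1
  have h3 : Nat.card V ≤ 2 := by
    have h5 : Nat.card V = Set.ncard (V : Set G) := rfl
    rw [h5]
    refine (Set.ncard_le_ncard h2 (Set.toFinite _)).trans ?_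
    exact (Set.ncard_insert_le _ _).trans (by rw [Set.ncard_singleton])
  have h4 := h.card
  omega

theorem eq_of_two {W : Subgroup G} (hW : Four W) {a b : G} (ha : a ∈ V) (hb : b ∈ V)
    (ha1 : a ≠ 1) (hb1 : b ≠ 1) (hab : a ≠ b) (haW : a ∈ W) (hbW : b ∈ W) : V = W := by
  ext c
  constructor
  · intro hc
    rcases h.cases ha hb ha1 hb1 hab hc with rfl | rfl | rfl | rfl
    · exact W.one_mem
    · exact haW
    · exact hbW
    · exact W.mul_mem haW hbW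
  · intro hc
    rcases hW.cases haW hbW ha1 hb1 hab hc with rfl | rfl | rfl | rfl
    · exact V.one_mem
    · exact ha
    · exact hb
    · exact V.mul_mem ha hb

theorem cj (g : G) : Four (cj g V) := by
  refine ⟨?_, ?_, ?_⟩
  · rintro _ ⟨a, ha, rfl⟩ _ ⟨b, hb, rfl⟩
    change (MulAut.conj g) a * (MulAut.conj g) b = (MulAut.conj g) b * (MulAut.conj g) a
    rw [← map_mul, ← map_mul, h.comm a ha b hb]
  · rintro _ ⟨a, ha, rfl⟩
    change (MulAut.conj g) a * (MulAut.conj g) a = 1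
    rw [← map_mul, h.sq a ha, map_one]
  · rw [← h.card]
    exact card_map_of_injective (MulAut.conj g).injective

/-- fixed point free action of `ρ` on the four-group: `ρ²u = u ρu` -/
theorem rho_sq {ρ : G} (hm : ∀ u ∈ V, ρ * u * ρ⁻¹ ∈ V)
    (hf : ∀ u ∈ V, u ≠ 1 → ρ * u * ρ⁻¹ ≠ u) {u : G} (hu : u ∈ V) :
    ρ * (ρ * u * ρ⁻¹) * ρ⁻¹ = u * (ρ * u * ρ⁻¹) := by
  rcases eq_or_ne u 1 with rfl | hu1
  · group
  have h1 := hm u hu
  have h1n : ρ * u * ρ⁻¹ ≠ 1 := by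
    intro h2
    apply hu1
    have e : u = ρ⁻¹ * (ρ * u * ρ⁻¹) * ρ := by group
    rw [e, h2]; group
  have h2 := hm _ h1
  rcases h.cases hu h1 hu1 h1n (hf u hu hu1).symm h2 with h3 | h3 | h3 | h3
  · exfalso
    apply h1n
    have e : ρ * u * ρ⁻¹ = ρ⁻¹ * (ρ * (ρ * u * ρ⁻¹) * ρ⁻¹) * ρ := by group
    rw [e, h3]; group
  · -- `u * ρu` would be fixed
    exfalso
    refine hf _ (V.mul_mem hu h1) ?_ ?_
    · intro h4
      have h5 : ρ * u * ρ⁻¹ = u⁻¹ := eq_inv_of_mul_eq_one_right h4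
      rw [h.inv hu] at h5
      exact hf u hu hu1 h5
    · have e : ρ * (u * (ρ * u * ρ⁻¹)) * ρ⁻¹ = (ρ * u * ρ⁻¹) * (ρ * (ρ * u * ρ⁻¹) * ρ⁻¹) := by group
      rw [e, h3, h.comm _ h1 _ hu]
  · exfalso
    exact hf _ h1 h1n h3
  · exact h3

/-- `ρ³ u = u` -/
theorem rho_cube {ρ : G} (hm : ∀ u ∈ V, ρ * u * ρ⁻¹ ∈ V)
    (hf : ∀ u ∈ V, u ≠ 1 → ρ * u * ρ⁻¹ ≠ u) {u : G} (hu : u ∈ V) :
    ρ * (ρ * (ρ * u * ρ⁻¹) * ρ⁻¹) * ρ⁻¹ = u := by
  have h1 := hm u hu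
  rw [h.rho_sq hm hf h1, h.rho_sq hm hf hu, h.comm _ h1 _ (V.mul_mem hu h1), mul_assoc,
    h.sq _ h1, mul_one]

end Four

/-- Two complementary four-groups in a group of order 16. -/
theorem decomp {E V W : Subgroup G} (hE : Nat.card E = 16) (hVE : V ≤ E) (hWE : W ≤ E)
    (hV : Nat.card V = 4) (hW : Nat.card W = 4) (hd : ∀ a ∈ V, a ∈ W → a = 1) {e : G}
    (he : e ∈ E) : ∃ v ∈ V, ∃ w ∈ W, e = v * w := by
  have hfin : Finite E := Nat.finite_of_card_ne_zero (by rw [hE]; norm_num)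
  have h1 : IsComplement' (V.subgroupOf E) (W.subgroupOf E) := by
    apply isComplement'_of_card_mul_and_disjoint
    · rw [Nat.card_congr (subgroupOfEquivOfLe hVE).toEquiv,
        Nat.card_congr (subgroupOfEquivOfLe hWE).toEquiv, hE, hV, hW]
    · rw [disjoint_iff, eq_bot_iff]
      rintro ⟨x, hx⟩ ⟨h2, h3⟩
      rw [mem_bot]
      exact Subtype.ext (hd x h2 h3)
  rw [isComplement'_def, isComplement_iff_existsUnique] at h1
  obtain ⟨⟨x, y⟩, hxy, -⟩ := h1 ⟨e, he⟩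
  refine ⟨x, x.2, y, y.2, ?_⟩
  exact (congrArg Subtype.val hxy).symm

/-! ### the configuration -/

/-- The configuration of the trichotomy. -/
structure Tri (E V U : Subgroup G) (ρ : G) : Prop where
  comm : ∀ a ∈ E, ∀ b ∈ E, a * b = b * a
  sq : ∀ a ∈ E, a * a = 1
  VE : V ≤ E
  UE : U ≤ E
  cardE : Nat.card E = 16
  cardV : Nat.card V = 4
  cardU : Nat.card U = 4
  disj : ∀ a ∈ V, a ∈ U → a = 1
  stab : ∀ g ∈ normalizer (E : Set G), ∀ v ∈ V, v ≠ 1 → g * v * g⁻¹ ∈ V → cj g V = V ∧ cj g U = U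
  norm : ρ ∈ normalizer (E : Set G)
  cen : ∀ v ∈ V, ρ * v * ρ⁻¹ = v
  map : ∀ u ∈ U, ρ * u * ρ⁻¹ ∈ U
  fpf : ∀ u ∈ U, u ≠ 1 → ρ * u * ρ⁻¹ ≠ u

/-- `(T1)`: all of `N(E)` normalizes `V` and `U`. -/
def T1 (E V U : Subgroup G) : Prop := ∀ g ∈ normalizer (E : Set G), cj g V = V ∧ cj g U = U

/-- `(T2)`: some element of `N(E)` swaps `V` and `U`, all elements fix or swap them. -/
def T2 (E V U : Subgroup G) : Prop :=
  (∃ g ∈ normalizer (E : Set G), cj g V = U ∧ cj g U = V) ∧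
    ∀ g ∈ normalizer (E : Set G), (cj g V = V ∧ cj g U = U) ∨ (cj g V = U ∧ cj g U = V)

/-- `(T4)`: `U` is normal in `N(E)`, `V` has four conjugates, which cover `E - U`. -/
structure T4 (E V U : Subgroup G) (ρ : G) : Prop where
  normU : ∀ g ∈ normalizer (E : Set G), cj g U = U
  move : ∃ h ∈ normalizer (E : Set G), cj h V ≠ V
  disj : ∀ g ∈ normalizer (E : Set G), ∀ a ∈ cj g V, a ∈ U → a = 1
  cover : ∀ h ∈ normalizer (E : Set G), cj h V ≠ V → ∀ v ∈ V, v ≠ 1 → ∀ u ∈ U, u ≠ 1 →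
    v * u ∈ cj h V ∨ v * u ∈ cj ρ (cj h V) ∨ v * u ∈ cj ρ (cj ρ (cj h V))
  orbit : ∀ h ∈ normalizer (E : Set G), cj h V ≠ V → ∀ g ∈ normalizer (E : Set G),
    cj g V = V ∨ cj g V = cj h V ∨ cj g V = cj ρ (cj h V) ∨ cj g V = cj ρ (cj ρ (cj h V))

namespace Tri

variable {E V U : Subgroup G} {ρ : G} (h : Tri E V U ρ)

include h

theorem fourV : Four V :=
  ⟨fun a ha b hb => h.comm a (h.VE ha) b (h.VE hb), fun a ha => h.sq a (h.VE ha), h.cardV⟩

theorem fourU : Four U :=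
  ⟨fun a ha b hb => h.comm a (h.UE ha) b (h.UE hb), fun a ha => h.sq a (h.UE ha), h.cardU⟩

omit h in
theorem cjE {g : G} (hg : g ∈ normalizer (E : Set G)) {W : Subgroup G} (hW : W ≤ E) :
    cj g W ≤ E := by
  have h1 := mem_normalizer_iff_cj.mp hg
  rw [← h1]
  exact cj_mono hW

/-- conjugates of `V` are TI -/
theorem ti {g k : G} (hg : g ∈ normalizer (E : Set G)) (hk : k ∈ normalizer (E : Set G)) {a : G}
    (ha : a ∈ cj g V) (hak : a ∈ cj k V) (ha1 : a ≠ 1) : cj g V = cj k V := by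
  have h1 := h.stab (g⁻¹ * k) (mul_mem (inv_mem hg) hk) (k⁻¹ * a * k) (mem_cj.mp hak) (by
    intro h2
    apply ha1
    have e : a = k * (k⁻¹ * a * k) * k⁻¹ := by group
    rw [e, h2]; group) (by
    have e : g⁻¹ * k * (k⁻¹ * a * k) * (g⁻¹ * k)⁻¹ = g⁻¹ * a * g := by group
    rw [e]
    exact mem_cj.mp ha)
  have h2 := congrArg (cj g) h1.1
  rw [← cj_mul, mul_inv_cancel_left] at h2
  exact h2.symm

theorem ti' {g : G} (hg : g ∈ normalizer (E : Set G)) (hne : cj g V ≠ V) {a : G} (ha : a ∈ V)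
    (hag : a ∈ cj g V) : a = 1 := by
  by_contra ha1
  apply hne
  have h1 := h.ti hg (one_mem _) hag (by rw [cj_one]; exact ha) ha1
  rwa [cj_one] at h1

theorem rho_V : cj ρ V = V := by
  obtain ⟨v, hv, hv1⟩ := h.fourV.exists_ne
  exact (h.stab ρ h.norm v hv hv1 (by rw [h.cen v hv]; exact hv)).1

theorem rho_U : cj ρ U = U := by
  obtain ⟨v, hv, hv1⟩ := h.fourV.exists_ne
  exact (h.stab ρ h.norm v hv hv1 (by rw [h.cen v hv]; exact hv)).2

omit h in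
theorem rho_ne_one {u : G} (hu1 : u ≠ 1) : ρ * u * ρ⁻¹ ≠ 1 := by
  intro h2
  apply hu1
  have e : u = ρ⁻¹ * (ρ * u * ρ⁻¹) * ρ := by group
  rw [e, h2]; group

/-- `ρ³` centralizes `E` -/
theorem rho_cube {e : G} (he : e ∈ E) : ρ * (ρ * (ρ * e * ρ⁻¹) * ρ⁻¹) * ρ⁻¹ = e := by
  obtain ⟨v, hv, u, hu, rfl⟩ := decomp h.cardE h.VE h.UE h.cardV h.cardU h.disj he
  have h1 := h.fourU.rho_cube h.map h.fpf hu
  have h2 := h.cen v hv
  have e : ρ * (ρ * (ρ * (v * u) * ρ⁻¹) * ρ⁻¹) * ρ⁻¹ =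
      (ρ * (ρ * (ρ * v * ρ⁻¹) * ρ⁻¹) * ρ⁻¹) * (ρ * (ρ * (ρ * u * ρ⁻¹) * ρ⁻¹) * ρ⁻¹) := by group
  rw [e, h1, h2, h2, h2]

theorem rho_cube_cj {W : Subgroup G} (hW : W ≤ E) : cj ρ (cj ρ (cj ρ W)) = W := by
  have key : ∀ W' : Subgroup G, W' ≤ E → W' ≤ cj ρ (cj ρ (cj ρ W')) := by
    intro W' hW' a ha
    have h1 := h.rho_cube (hW' ha)
    rw [← h1]
    exact conj_mem_cj (conj_mem_cj (conj_mem_cj ha))
  apply le_antisymm
  · rintro _ ⟨_, ⟨_, ⟨a, ha, rfl⟩, rfl⟩, rfl⟩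
    have h1 := h.rho_cube (hW ha)
    change ρ * (ρ * (ρ * a * ρ⁻¹) * ρ⁻¹) * ρ⁻¹ ∈ W
    rw [h1]; exact ha
  · exact key W hW

/-- for a conjugate `W ≠ V`: every `u` has a partner `v` with `v u ∈ W` -/
theorem exists_v {g : G} (hg : g ∈ normalizer (E : Set G)) (hne : cj g V ≠ V) {u : G}
    (hu : u ∈ U) : ∃ v ∈ V, v * u ∈ cj g V := by
  have h1 : ∀ a ∈ V, a ∈ cj g V → a = 1 := fun a ha hag => h.ti' hg hne ha hag
  obtain ⟨v, hv, w, hw, huw⟩ := decomp h.cardE h.VE (cjE hg h.VE) h.cardV (h.fourV.cj g).card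
    h1 (h.UE hu)
  refine ⟨v, hv, ?_⟩
  rw [huw, ← mul_assoc, h.fourV.sq v hv, one_mul]
  exact hw

/-- the key step: a conjugate `W ≠ V, U` is disjoint from `U` -/
theorem disjU {g : G} (hg : g ∈ normalizer (E : Set G)) (hne : cj g V ≠ V) (hneU : cj g V ≠ U)
    {u : G} (hu : u ∈ U) (huW : u ∈ cj g V) : u = 1 := by
  by_contra hu1
  set W := cj g V with hW
  have hWf : Four W := h.fourV.cj g
  have hu' := h.map u hu
  have hu'1 := rho_ne_one (ρ := ρ) hu1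
  have huu' : u ≠ ρ * u * ρ⁻¹ := (h.fpf u hu hu1).symm
  -- `ρu ∈ W` would give `W = U`
  have hkey : ρ * u * ρ⁻¹ ∉ W := by
    intro h1
    exact hneU (hWf.eq_of_two h.fourU huW h1 hu1 hu'1 huu' hu hu')
  obtain ⟨v', hv', hvW⟩ := h.exists_v hg hne hu'
  have hρW : cj ρ W = cj (ρ * g) V := by rw [hW, cj_mul]
  have hρg : ρ * g ∈ normalizer (E : Set G) := mul_mem h.norm hg
  -- `v' ρ²u ∈ W`
  have h1 : v' * (ρ * (ρ * u * ρ⁻¹) * ρ⁻¹) ∈ W := by
    rw [h.fourU.rho_sq h.map h.fpf hu, h.fourU.comm u hu _ hu', ← mul_assoc]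
    exact W.mul_mem hvW huW
  -- and `∈ ρW`
  have h2 : v' * (ρ * (ρ * u * ρ⁻¹) * ρ⁻¹) ∈ cj ρ W := by
    have h3 := conj_mem_cj (g := ρ) hvW
    have e : ρ * (v' * (ρ * u * ρ⁻¹)) * ρ⁻¹ = (ρ * v' * ρ⁻¹) * (ρ * (ρ * u * ρ⁻¹) * ρ⁻¹) := by group
    rwa [e, h.cen v' hv'] at h3
  have h3 : v' * (ρ * (ρ * u * ρ⁻¹) * ρ⁻¹) ≠ 1 := by
    intro h4
    have h5 : ρ * (ρ * u * ρ⁻¹) * ρ⁻¹ ∈ U := h.map _ hu'
    have h6 : v' = (ρ * (ρ * u * ρ⁻¹) * ρ⁻¹)⁻¹ := eq_inv_of_mul_eq_one_left h4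
    have h7 : v' = 1 := h.disj v' hv' (by rw [h6]; exact U.inv_mem h5)
    rw [h7, one_mul] at h4
    exact rho_ne_one (ρ := ρ) hu'1 h4
  have h4 : W = cj ρ W := by
    rw [hρW]
    exact h.ti hg hρg h1 (by rw [← hρW]; exact h2) h3
  apply hkey
  rw [h4]
  exact conj_mem_cj huW

/-- `W ≠ V, U`: for every `v ∈ V#` there is `u ∈ U#` with `v u ∈ W` -/
theorem exists_u {g : G} (hg : g ∈ normalizer (E : Set G)) (hne : cj g V ≠ V) (hneU : cj g V ≠ U)
    {v : G} (hv : v ∈ V) (hv1 : v ≠ 1) : ∃ u ∈ U, u ≠ 1 ∧ v * u ∈ cj g V := by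
  have h1 : ∀ a ∈ U, a ∈ cj g V → a = 1 := fun a ha hag => h.disjU hg hne hneU ha hag
  obtain ⟨u, hu, w, hw, huw⟩ := decomp h.cardE h.UE (cjE hg h.VE) h.cardU (h.fourV.cj g).card
    h1 (h.VE hv)
  refine ⟨u, hu, ?_, ?_⟩
  · rintro rfl
    rw [one_mul] at huw
    rw [← huw] at hw
    exact hv1 (h.ti' hg hne hv hw)
  · rw [h.comm v (h.VE hv) u (h.UE hu), huw, ← mul_assoc, h.fourU.sq u hu, one_mul]
    exact hw

/-- the elements of `U#` form a `ρ`-orbit -/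
theorem orbU {u u' : G} (hu : u ∈ U) (hu1 : u ≠ 1) (hu' : u' ∈ U) (hu'1 : u' ≠ 1) :
    u' = u ∨ u' = ρ * u * ρ⁻¹ ∨ u' = ρ * (ρ * u * ρ⁻¹) * ρ⁻¹ := by
  rcases h.fourU.cases hu (h.map u hu) hu1 (rho_ne_one (ρ := ρ) hu1) (h.fpf u hu hu1).symm hu' with
    h1 | h1 | h1 | h1
  · exact absurd h1 hu'1
  · exact Or.inl h1
  · exact Or.inr (Or.inl h1)
  · right; right
    rw [h.fourU.rho_sq h.map h.fpf hu, h1]

theorem cover {g : G} (hg : g ∈ normalizer (E : Set G)) (hne : cj g V ≠ V) (hneU : cj g V ≠ U)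
    {v u : G} (hv : v ∈ V) (hv1 : v ≠ 1) (hu : u ∈ U) (hu1 : u ≠ 1) :
    v * u ∈ cj g V ∨ v * u ∈ cj ρ (cj g V) ∨ v * u ∈ cj ρ (cj ρ (cj g V)) := by
  obtain ⟨u', hu', hu'1, hvu'⟩ := h.exists_u hg hne hneU hv hv1
  have h1 : v * (ρ * u' * ρ⁻¹) ∈ cj ρ (cj g V) := by
    have h3 := conj_mem_cj (g := ρ) hvu'
    have e : ρ * (v * u') * ρ⁻¹ = (ρ * v * ρ⁻¹) * (ρ * u' * ρ⁻¹) := by group
    rwa [e, h.cen v hv] at h3
  have h2 : v * (ρ * (ρ * u' * ρ⁻¹) * ρ⁻¹) ∈ cj ρ (cj ρ (cj g V)) := by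
    have h3 := conj_mem_cj (g := ρ) h1
    have e : ρ * (v * (ρ * u' * ρ⁻¹)) * ρ⁻¹ = (ρ * v * ρ⁻¹) * (ρ * (ρ * u' * ρ⁻¹) * ρ⁻¹) := by group
    rwa [e, h.cen v hv] at h3
  rcases h.orbU hu' hu'1 hu hu1 with rfl | rfl | rfl
  · exact Or.inl hvu'
  · exact Or.inr (Or.inl h1)
  · exact Or.inr (Or.inr h2)

theorem orbit {g : G} (hg : g ∈ normalizer (E : Set G)) (hne : cj g V ≠ V) (hneU : cj g V ≠ U)
    {k : G} (hk : k ∈ normalizer (E : Set G)) :
    cj k V = V ∨ cj k V = U ∨ cj k V = cj g V ∨ cj k V = cj ρ (cj g V) ∨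
      cj k V = cj ρ (cj ρ (cj g V)) := by
  by_cases h1 : cj k V = V
  · exact Or.inl h1
  by_cases h2 : cj k V = U
  · exact Or.inr (Or.inl h2)
  obtain ⟨v, hv, hv1⟩ := h.fourV.exists_ne
  obtain ⟨u, hu, hu1, hvu⟩ := h.exists_u hk h1 h2 hv hv1
  have hvu1 : v * u ≠ 1 := by
    intro h3
    have h4 : v = u⁻¹ := eq_inv_of_mul_eq_one_left h3
    exact hv1 (h.disj v hv (by rw [h4]; exact U.inv_mem hu))
  rcases h.cover hg hne hneU hv hv1 hu hu1 with h3 | h3 | h3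
  · exact Or.inr (Or.inr (Or.inl (h.ti hk hg hvu h3 hvu1)))
  · rw [← cj_mul] at h3 ⊢
    exact Or.inr (Or.inr (Or.inr (Or.inl (h.ti hk (mul_mem h.norm hg) hvu h3 hvu1))))
  · have e : cj ρ (cj ρ (cj g V)) = cj (ρ * ρ * g) V := by rw [cj_mul, cj_mul]
    rw [e] at h3 ⊢
    exact Or.inr (Or.inr (Or.inr (Or.inr
      (h.ti hk (mul_mem (mul_mem h.norm h.norm) hg) hvu h3 hvu1))))

/-- `ρ` moves every conjugate `W ≠ V, U` -/
theorem rho_move {g : G} (hg : g ∈ normalizer (E : Set G)) (hne : cj g V ≠ V)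
    (hneU : cj g V ≠ U) : cj ρ (cj g V) ≠ cj g V := by
  intro hcon
  obtain ⟨u, hu, hu1⟩ := h.fourU.exists_ne
  obtain ⟨v, hv, hvu⟩ := h.exists_v hg hne hu
  have h1 : v * (ρ * u * ρ⁻¹) ∈ cj g V := by
    have h3 := conj_mem_cj (g := ρ) hvu
    have e : ρ * (v * u) * ρ⁻¹ = (ρ * v * ρ⁻¹) * (ρ * u * ρ⁻¹) := by group
    rwa [e, h.cen v hv, hcon] at h3
  have h2 : u * (ρ * u * ρ⁻¹) ∈ cj g V := by
    have h3 := (cj g V).mul_mem ((cj g V).inv_mem hvu) h1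
    have e : (v * u)⁻¹ * (v * (ρ * u * ρ⁻¹)) = u⁻¹ * (ρ * u * ρ⁻¹) := by group
    rwa [e, h.fourU.inv hu] at h3
  have h3 := h.disjU hg hne hneU (U.mul_mem hu (h.map u hu)) h2
  have h4 : ρ * u * ρ⁻¹ = u⁻¹ := eq_inv_of_mul_eq_one_right h3
  rw [h.fourU.inv hu] at h4
  exact h.fpf u hu hu1 h4

theorem rho_move2 {g : G} (hg : g ∈ normalizer (E : Set G)) (hne : cj g V ≠ V)
    (hneU : cj g V ≠ U) : cj ρ (cj ρ (cj g V)) ≠ cj g V := by
  intro hcon
  apply h.rho_move hg hne hneU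
  have h1 := h.rho_cube_cj (cjE hg h.VE)
  rw [hcon] at h1
  exact h1

/-- If `g` normalizes `V` then it normalizes `U`. -/
theorem stabV {g : G} (hg : g ∈ normalizer (E : Set G)) (h1 : cj g V = V) : cj g U = U := by
  obtain ⟨v, hv, hv1⟩ := h.fourV.exists_ne
  exact (h.stab g hg v hv hv1 (by
    have h2 := conj_mem_cj (g := g) hv
    rwa [h1] at h2)).2

/-- If `V` and `U` are conjugate in `N(E)` then `(T2)` holds. -/
theorem t2_of_conj {s : G} (hs : s ∈ normalizer (E : Set G)) (hsV : cj s V = U) :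
    T2 E V U := by
  have hVU : V ≠ U := by
    intro h1
    obtain ⟨v, hv, hv1⟩ := h.fourV.exists_ne
    exact hv1 (h.disj v hv (h1 ▸ hv))
  have cjne : ∀ (g : G) {A B : Subgroup G}, A ≠ B → cj g A ≠ cj g B :=
    fun g A B hAB h1 => hAB (cj_injective g h1)
  -- `s` swaps
  have hsU : cj s U = V := by
    -- `ρ` fixes `cj s U`
    have h1 : cj (s⁻¹ * ρ * s) V = V := by
      rw [cj_mul, cj_mul, hsV, h.rho_U, ← hsV, cj_inv_cj]
    have h2 := h.stabV (mul_mem (mul_mem (inv_mem hs) h.norm) hs) h1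
    have h3 : cj ρ (cj s U) = cj s U := by
      have h4 := congrArg (cj s) h2
      rw [← cj_mul] at h4
      have e : s * (s⁻¹ * ρ * s) = ρ * s := by group
      rwa [e, cj_mul] at h4
    have h5 : cj s U = cj (s * s) V := by rw [cj_mul, hsV]
    rw [h5] at h3 ⊢
    by_contra h6
    refine h.rho_move (mul_mem hs hs) h6 ?_ h3
    rw [← h5, ← hsV]
    exact cjne s (by rw [hsV]; exact hVU.symm)
  refine ⟨⟨s, hs, hsV, hsU⟩, ?_⟩
  have swap_of : ∀ k ∈ normalizer (E : Set G), cj k U = V → cj k V = U := by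
    intro k hk hkU
    have h1 : cj (k * s) V = V := by rw [cj_mul, hsV, hkU]
    have h2 := h.stabV (mul_mem hk hs) h1
    rwa [cj_mul, hsU] at h2
  have swap_of' : ∀ k ∈ normalizer (E : Set G), cj k U = U → cj k V = V := by
    intro k hk hkU
    have h1 : cj (s⁻¹ * k * s) V = V := by
      rw [cj_mul, cj_mul, hsV, hkU, ← hsV, cj_inv_cj]
    have h2 := h.stabV (mul_mem (mul_mem (inv_mem hs) hk) hs) h1
    rw [cj_mul, cj_mul, hsU] at h2
    have h3 := congrArg (cj s) h2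
    rwa [cj_cj_inv, hsU] at h3
  intro g hg
  by_cases h1 : cj g V = V
  · exact Or.inl ⟨h1, h.stabV hg h1⟩
  by_cases h2 : cj g V = U
  · right
    refine ⟨h2, ?_⟩
    have h3 : cj (s⁻¹ * g) V = V := by rw [cj_mul, h2, ← hsV, cj_inv_cj]
    have h4 := h.stabV (mul_mem (inv_mem hs) hg) h3
    have h5 := congrArg (cj s) h4
    rw [← cj_mul, mul_inv_cancel_left, hsU] at h5
    exact h5
  exfalso
  -- `W* = cj g U`
  have hgU : cj g U = cj (g * s) V := by rw [cj_mul, hsV]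
  have hgUV : cj g U ≠ V := fun h3 => h2 (swap_of g hg h3)
  have hgUU : cj g U ≠ U := fun h3 => h1 (swap_of' g hg h3)
  have hgUW : cj g U ≠ cj g V := cjne g hVU.symm
  -- contradiction from `k` with `cj k U = V`, `k = g⁻¹ ρ^{-i} g`
  have final : ∀ r ∈ normalizer (E : Set G), cj g U = cj r (cj g V) →
      cj r (cj r (cj g V)) = cj g V := by
    intro r hr h3
    have h4 : cj (g⁻¹ * r * g) V = U := by
      rw [cj_mul, cj_mul, ← h3, cj_inv_cj]
    have hk : g⁻¹ * r * g ∈ normalizer (E : Set G) := mul_mem (mul_mem (inv_mem hg) hr) hg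
    -- `k` maps `V` to `U`; then it maps `U` to `V`
    have h5 : cj (g⁻¹ * r * g) U = V := by
      have h6 : cj (s⁻¹ * (g⁻¹ * r * g)) V = V := by rw [cj_mul, h4, ← hsV, cj_inv_cj]
      have h7 := h.stabV (mul_mem (inv_mem hs) hk) h6
      have h8 := congrArg (cj s) h7
      rw [← cj_mul, mul_inv_cancel_left, hsU] at h8
      exact h8
    have h6 := congrArg (cj g) h5
    rw [← cj_mul] at h6
    have e : g * (g⁻¹ * r * g) = r * g := by group
    rwa [e, cj_mul, h3] at h6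
  rcases h.orbit hg h1 h2 (mul_mem hg hs) with h3 | h3 | h3 | h3 | h3
  · rw [← hgU] at h3; exact hgUV h3
  · rw [← hgU] at h3; exact hgUU h3
  · rw [← hgU] at h3; exact hgUW h3
  · rw [← hgU] at h3
    exact h.rho_move2 hg h1 h2 (final ρ h.norm h3)
  · rw [← hgU, ← cj_mul] at h3
    have h4 := final (ρ * ρ) (mul_mem h.norm h.norm) h3
    rw [cj_mul, cj_mul, h.rho_cube_cj (cjE hg h.VE)] at h4
    exact h.rho_move hg h1 h2 h4

/-- **The trichotomy.** -/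
theorem tri : T1 E V U ∨ T2 E V U ∨ T4 E V U ρ := by
  by_cases h2 : ∃ s ∈ normalizer (E : Set G), cj s V = U
  · obtain ⟨s, hs, hsV⟩ := h2
    exact Or.inr (Or.inl (h.t2_of_conj hs hsV))
  push Not at h2
  by_cases h1 : ∀ g ∈ normalizer (E : Set G), cj g V = V
  · exact Or.inl fun g hg => ⟨h1 g hg, h.stabV hg (h1 g hg)⟩
  push Not at h1
  obtain ⟨g, hg, hgV⟩ := h1
  refine Or.inr (Or.inr ?_)
  have hcov := fun k (hk : k ∈ normalizer (E : Set G)) hkV v hv hv1 u hu hu1 =>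
    h.cover (v := v) (u := u) hk hkV (h2 k hk) hv hv1 hu hu1
  have hdisj : ∀ k ∈ normalizer (E : Set G), ∀ a ∈ cj k V, a ∈ U → a = 1 := by
    intro k hk a ha haU
    by_cases hkV : cj k V = V
    · rw [hkV] at ha
      exact h.disj a ha haU
    · exact h.disjU hk hkV (h2 k hk) haU ha
  -- an element of `E` outside `U` lies in a conjugate of `V`
  have hcov' : ∀ e ∈ E, e ∉ U → ∃ k ∈ normalizer (E : Set G), e ∈ cj k V := by
    intro e he heU
    obtain ⟨v, hv, u, hu, rfl⟩ := decomp h.cardE h.VE h.UE h.cardV h.cardU h.disj he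
    by_cases hv1 : v = 1
    · rw [hv1, one_mul] at heU
      exact absurd hu heU
    by_cases hu1 : u = 1
    · refine ⟨1, one_mem _, ?_⟩
      rw [cj_one, hu1, mul_one]
      exact hv
    rcases hcov g hg hgV v hv hv1 u hu hu1 with h3 | h3 | h3
    · exact ⟨g, hg, h3⟩
    · rw [← cj_mul] at h3
      exact ⟨_, mul_mem h.norm hg, h3⟩
    · have e : cj ρ (cj ρ (cj g V)) = cj (ρ * ρ * g) V := by rw [cj_mul, cj_mul]
      rw [e] at h3
      exact ⟨_, mul_mem (mul_mem h.norm h.norm) hg, h3⟩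
  have hle : ∀ k ∈ normalizer (E : Set G), cj k U ≤ U := by
    rintro k hk _ ⟨u, hu, rfl⟩
    change k * u * k⁻¹ ∈ U
    by_contra hcon
    obtain ⟨l, hl, h3⟩ := hcov' (k * u * k⁻¹) (cjE hk h.UE (conj_mem_cj hu)) hcon
    have h4 : u ∈ cj (k⁻¹ * l) V := by
      rw [cj_mul, mem_cj, inv_inv]
      exact h3
    have h5 := hdisj _ (mul_mem (inv_mem hk) hl) u h4 hu
    rw [h5] at hcon
    apply hcon
    have e : k * 1 * k⁻¹ = 1 := by group
    rw [e]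
    exact U.one_mem
  refine ⟨?_, ⟨g, hg, hgV⟩, hdisj, hcov, ?_⟩
  · intro k hk
    have := h.fourU.finite
    exact Subgroup.eq_of_le_of_card_ge (hle k hk) (by rw [h.cardU, (h.fourU.cj k).card])
  · intro l hl hlV k hk
    rcases h.orbit hl hlV (h2 l hl) hk with h3 | h3 | h3
    · exact Or.inl h3
    · exact absurd h3 (h2 k hk)
    · exact Or.inr h3

end Tri

/-! ### consequences of `(T4)` -/

namespace T4

variable {E V U : Subgroup G} {ρ : G} (t : T4 E V U ρ) (h : Tri E V U ρ)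

include h t

/-- Every product `v u` (`v ∈ V#`, `u ∈ U#`) lies in a conjugate of `V` different from `V`. -/
theorem exists_conj {v u : G} (hv : v ∈ V) (hv1 : v ≠ 1) (hu : u ∈ U) (hu1 : u ≠ 1) :
    ∃ k ∈ normalizer (E : Set G), cj k V ≠ V ∧ v * u ∈ cj k V := by
  obtain ⟨g, hg, hgV⟩ := t.move
  have key : ∀ k ∈ normalizer (E : Set G), v * u ∈ cj k V →
      ∃ k ∈ normalizer (E : Set G), cj k V ≠ V ∧ v * u ∈ cj k V := by
    intro k hk hvu
    refine ⟨k, hk, fun h1 => ?_, hvu⟩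
    rw [h1] at hvu
    have h2 := V.mul_mem (V.inv_mem hv) hvu
    rw [inv_mul_cancel_left] at h2
    exact hu1 (h.disj u h2 hu)
  rcases t.cover g hg hgV v hv hv1 u hu hu1 with h1 | h1 | h1
  · exact key g hg h1
  · rw [← cj_mul] at h1
    exact key _ (mul_mem h.norm hg) h1
  · have e : cj ρ (cj ρ (cj g V)) = cj (ρ * ρ * g) V := by rw [cj_mul, cj_mul]
    rw [e] at h1
    exact key _ (mul_mem (mul_mem h.norm h.norm) hg) h1

theorem ne_U {k : G} (hk : k ∈ normalizer (E : Set G)) : cj k V ≠ U := by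
  intro h1
  obtain ⟨u, hu, hu1⟩ := h.fourU.exists_ne
  exact hu1 (t.disj k hk u (by rw [h1]; exact hu) hu)

/-- every element of `E - U` lies in a conjugate of `V` -/
theorem exists_conj' {e : G} (he : e ∈ E) (heU : e ∉ U) :
    ∃ k ∈ normalizer (E : Set G), e ∈ cj k V := by
  obtain ⟨v, hv, u, hu, rfl⟩ := decomp h.cardE h.VE h.UE h.cardV h.cardU h.disj he
  by_cases hv1 : v = 1
  · rw [hv1, one_mul] at heU
    exact absurd hu heU
  by_cases hu1 : u = 1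
  · refine ⟨1, one_mem _, ?_⟩
    rw [cj_one, hu1, mul_one]
    exact hv
  obtain ⟨k, hk, -, h1⟩ := t.exists_conj h hv hv1 hu hu1
  exact ⟨k, hk, h1⟩

omit t in
/-- An element fixing some `v u` normalizes the conjugate of `V` containing it. -/
theorem fix_conj {g k a : G} (hg : g ∈ normalizer (E : Set G)) (hk : k ∈ normalizer (E : Set G))
    (ha : a ∈ cj k V) (ha1 : a ≠ 1) (hga : g * a * g⁻¹ = a) : cj g (cj k V) = cj k V := by
  rw [← cj_mul]
  refine h.ti (mul_mem hg hk) hk ?_ ha ha1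
  rw [cj_mul, mem_cj]
  have e : g⁻¹ * a * g = a := by
    rw [← hga]
    have : g⁻¹ * (g * a * g⁻¹) * g = a := by group
    rw [this, hga]
  rw [e]
  exact ha

/-- `g` centralizes `V` and some `u ∈ U#`: it centralizes `U`. -/
theorem cen_U {g : G} (hg : g ∈ normalizer (E : Set G)) (hgV : ∀ v ∈ V, g * v * g⁻¹ = v)
    {u₀ : G} (hu₀ : u₀ ∈ U) (hu₀1 : u₀ ≠ 1) (hgu : g * u₀ * g⁻¹ = u₀) :
    ∀ u ∈ U, g * u * g⁻¹ = u := by
  obtain ⟨v, hv, hv1⟩ := h.fourV.exists_ne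
  obtain ⟨k, hk, hkV, hvu⟩ := t.exists_conj h hv hv1 hu₀ hu₀1
  have hvu1 : v * u₀ ≠ 1 := by
    intro h3
    have h4 : v = u₀⁻¹ := eq_inv_of_mul_eq_one_left h3
    exact hv1 (h.disj v hv (by rw [h4]; exact U.inv_mem hu₀))
  have h1 := T4.fix_conj h hg hk hvu hvu1 (by
    have e : g * (v * u₀) * g⁻¹ = (g * v * g⁻¹) * (g * u₀ * g⁻¹) := by group
    rw [e, hgV v hv, hgu])
  intro u hu
  obtain ⟨v', hv', hvu'⟩ := h.exists_v hk hkV hu
  have h2 := conj_mem_cj (g := g) hvu'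
  have e : g * (v' * u) * g⁻¹ = (g * v' * g⁻¹) * (g * u * g⁻¹) := by group
  rw [h1, e, hgV v' hv'] at h2
  have h3 := (cj k V).mul_mem ((cj k V).inv_mem hvu') h2
  have e2 : (v' * u)⁻¹ * (v' * (g * u * g⁻¹)) = u⁻¹ * (g * u * g⁻¹) := by group
  rw [e2] at h3
  have hgu' : g * u * g⁻¹ ∈ U := by
    have h5 := conj_mem_cj (g := g) hu
    rwa [t.normU g hg] at h5
  have h4 := t.disj k hk _ h3 (U.mul_mem (U.inv_mem hu) hgu')
  exact (eq_of_inv_mul_eq_one h4).symm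

/-- `g` centralizes `U` and some `v ∈ V#`: it centralizes `V`. -/
theorem cen_V {g : G} (hg : g ∈ normalizer (E : Set G)) (hgU : ∀ u ∈ U, g * u * g⁻¹ = u)
    {v₀ : G} (hv₀ : v₀ ∈ V) (hv₀1 : v₀ ≠ 1) (hgv : g * v₀ * g⁻¹ = v₀) :
    ∀ v ∈ V, g * v * g⁻¹ = v := by
  obtain ⟨u, hu, hu1⟩ := h.fourU.exists_ne
  obtain ⟨k, hk, hkV, hvu⟩ := t.exists_conj h hv₀ hv₀1 hu hu1
  have hvu1 : v₀ * u ≠ 1 := by
    intro h3
    have h4 : v₀ = u⁻¹ := eq_inv_of_mul_eq_one_left h3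
    exact hv₀1 (h.disj v₀ hv₀ (by rw [h4]; exact U.inv_mem hu))
  have h1 := T4.fix_conj h hg hk hvu hvu1 (by
    have e : g * (v₀ * u) * g⁻¹ = (g * v₀ * g⁻¹) * (g * u * g⁻¹) := by group
    rw [e, hgv, hgU u hu])
  have hgV : cj g V = V := (h.stab g hg v₀ hv₀ hv₀1 (by rw [hgv]; exact hv₀)).1
  intro v hv
  by_cases hv1 : v = 1
  · rw [hv1]; group
  obtain ⟨u', hu', -, hvu'⟩ := h.exists_u hk hkV (t.ne_U h hk) hv hv1
  have h2 := conj_mem_cj (g := g) hvu'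
  have e : g * (v * u') * g⁻¹ = (g * v * g⁻¹) * (g * u' * g⁻¹) := by group
  rw [h1, e, hgU u' hu'] at h2
  have h3 := (cj k V).mul_mem h2 ((cj k V).inv_mem hvu')
  have e2 : g * v * g⁻¹ * u' * (v * u')⁻¹ = (g * v * g⁻¹) * v⁻¹ := by group
  rw [e2] at h3
  have hgv' : g * v * g⁻¹ ∈ V := by
    have h5 := conj_mem_cj (g := g) hv
    rwa [hgV] at h5
  have h4 := h.ti' hk hkV (V.mul_mem hgv' (V.inv_mem hv)) h3
  exact mul_inv_eq_one.mp h4

/-- The group of translations `O_2(A)`: for every conjugate `W` of `V` there is an element of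
`N(E)` centralizing `U` and `E / U` which maps `V` to `W`. -/
theorem exists_trans {g : G} (hg : g ∈ normalizer (E : Set G)) :
    ∃ s ∈ normalizer (E : Set G), (∀ u ∈ U, s * u * s⁻¹ = u) ∧
      (∀ e ∈ E, s * e * s⁻¹ * e⁻¹ ∈ U) ∧ cj s V = cj g V := by
  by_cases hgV : cj g V = V
  · refine ⟨1, one_mem _, fun u _ => by group, fun e _ => ?_, by rw [cj_one, hgV]⟩
    have e1 : 1 * e * 1⁻¹ * e⁻¹ = 1 := by group
    rw [e1]
    exact U.one_mem
  -- general facts on elements centralizing a conjugate of `V`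
  have hUn : ∀ k ∈ normalizer (E : Set G), ∀ u ∈ U, k * u * k⁻¹ ∈ U := by
    intro k hk u hu
    have h5 := conj_mem_cj (g := k) hu
    rwa [t.normU k hk] at h5
  have hquot : ∀ r ∈ normalizer (E : Set G), (∀ v ∈ V, r * v * r⁻¹ = v) → ∀ e ∈ E,
      r * e * r⁻¹ * e⁻¹ ∈ U := by
    intro r hr hrV e he
    obtain ⟨v, hv, u, hu, rfl⟩ := decomp h.cardE h.VE h.UE h.cardV h.cardU h.disj he
    have e1 : r * (v * u) * r⁻¹ * (v * u)⁻¹ = (r * v * r⁻¹) * (r * u * r⁻¹) * u⁻¹ * v⁻¹ := by group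
    have h1 := h.comm v (h.VE hv) _ (h.UE (U.mul_mem (hUn r hr u hu) (U.inv_mem hu)))
    rw [e1, hrV v hv]
    have e2 : v * (r * u * r⁻¹) * u⁻¹ * v⁻¹ = v * (r * u * r⁻¹ * u⁻¹) * v⁻¹ := by group
    rw [e2, h1, mul_inv_cancel_right]
    exact U.mul_mem (hUn r hr u hu) (U.inv_mem hu)
  -- composition of elements centralizing `E / U`
  have hcomp : ∀ r ∈ normalizer (E : Set G), ∀ r' ∈ normalizer (E : Set G),
      (∀ e ∈ E, r * e * r⁻¹ * e⁻¹ ∈ U) → (∀ e ∈ E, r' * e * r'⁻¹ * e⁻¹ ∈ U) →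
      ∀ e ∈ E, (r * r') * e * (r * r')⁻¹ * e⁻¹ ∈ U := by
    intro r hr r' hr' h1 h2 e he
    have h3 := h1 (r' * e * r'⁻¹) ((mem_normalizer_iff.mp hr' e).mp he)
    have h4 := U.mul_mem h3 (h2 e he)
    have e1 : r * (r' * e * r'⁻¹) * r⁻¹ * (r' * e * r'⁻¹)⁻¹ * (r' * e * r'⁻¹ * e⁻¹) =
        (r * r') * e * (r * r')⁻¹ * e⁻¹ := by group
    rwa [e1] at h4
  have hconjq : ∀ r ∈ normalizer (E : Set G), ∀ k ∈ normalizer (E : Set G),
      (∀ e ∈ E, r * e * r⁻¹ * e⁻¹ ∈ U) → ∀ e ∈ E, (k * r * k⁻¹) * e * (k * r * k⁻¹)⁻¹ * e⁻¹ ∈ U := by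
    intro r hr k hk h1 e he
    have h2 := h1 (k⁻¹ * e * k) (by
      have h3 := (mem_normalizer_iff.mp (inv_mem hk) e).mp he
      rwa [inv_inv] at h3)
    have h3 := hUn k hk _ h2
    have e1 : k * (r * (k⁻¹ * e * k) * r⁻¹ * (k⁻¹ * e * k)⁻¹) * k⁻¹ =
        (k * r * k⁻¹) * e * (k * r * k⁻¹)⁻¹ * e⁻¹ := by group
    rwa [e1] at h3
  have hinvq : ∀ r ∈ normalizer (E : Set G),
      (∀ e ∈ E, r * e * r⁻¹ * e⁻¹ ∈ U) → ∀ e ∈ E, r⁻¹ * e * r⁻¹⁻¹ * e⁻¹ ∈ U := by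
    intro r hr h1 e he
    have h2 := h1 (r⁻¹ * e * r) (by
      have h3 := (mem_normalizer_iff.mp (inv_mem hr) e).mp he
      rwa [inv_inv] at h3)
    have h3 := U.inv_mem h2
    have e1 : (r * (r⁻¹ * e * r) * r⁻¹ * (r⁻¹ * e * r)⁻¹)⁻¹ = r⁻¹ * e * r⁻¹⁻¹ * e⁻¹ := by group
    rwa [e1] at h3
  set σ : G := g * ρ * g⁻¹ with hσ
  have hσn : σ ∈ normalizer (E : Set G) := mul_mem (mul_mem hg h.norm) (inv_mem hg)
  have hρq := hquot ρ h.norm h.cen
  have hσq : ∀ e ∈ E, σ * e * σ⁻¹ * e⁻¹ ∈ U := hconjq ρ h.norm g hg hρq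
  -- `σ` moves `V`
  have hσV : cj σ V ≠ V := by
    intro h1
    have h2 : cj g⁻¹ V ≠ V := by
      intro h3
      apply hgV
      rw [← h3, cj_cj_inv, h3]
    refine h.rho_move (inv_mem hg) h2 (t.ne_U h (inv_mem hg)) ?_
    have h3 := congrArg (cj g⁻¹) h1
    rw [← cj_mul] at h3
    have e : g⁻¹ * σ = ρ * g⁻¹ := by rw [hσ]; group
    rwa [e, cj_mul] at h3
  -- `σ` acts on `U` as `ρ` or `ρ²`
  have hσU : (∀ u ∈ U, σ * u * σ⁻¹ = ρ * u * ρ⁻¹) ∨
      (∀ u ∈ U, σ * u * σ⁻¹ = ρ * (ρ * u * ρ⁻¹) * ρ⁻¹) := by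
    have hfpf : ∀ u ∈ U, u ≠ 1 → σ * u * σ⁻¹ ≠ u := by
      intro u hu hu1 h1
      have h2 : g⁻¹ * u * g ∈ U := by
        have h3 := hUn g⁻¹ (inv_mem hg) u hu
        rwa [inv_inv] at h3
      refine h.fpf _ h2 ?_ ?_
      · intro h3
        apply hu1
        have e : u = g * (g⁻¹ * u * g) * g⁻¹ := by group
        rw [e, h3]; group
      · have e : ρ * (g⁻¹ * u * g) * ρ⁻¹ = g⁻¹ * (σ * u * σ⁻¹) * g := by rw [hσ]; group
        rw [e, h1]
    have hσm : ∀ u ∈ U, σ * u * σ⁻¹ ∈ U := hUn σ hσn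
    obtain ⟨u, hu, hu1⟩ := h.fourU.exists_ne
    have h1 := h.orbU hu hu1 (hσm u hu) (Tri.rho_ne_one (ρ := σ) hu1)
    -- two maps on `U` with the square rule which agree at `u`
    rcases h1 with h1 | h1 | h1
    · exact absurd h1 (hfpf u hu hu1)
    · left
      intro w hw
      have h2 := h.fourU.rho_sq hσm hfpf hu
      have h3 := h.fourU.rho_sq h.map h.fpf hu
      by_cases hw1 : w = 1
      · rw [hw1]; group
      rcases h.orbU hu hu1 hw hw1 with rfl | rfl | rfl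
      · exact h1
      · rw [h1] at h2
        rw [h2, h3]
      · rw [h.rho_cube (h.UE hu)]
        have h4 := h.fourU.rho_cube hσm hfpf hu
        rw [h1] at h2 h4
        rwa [h2, ← h3] at h4
    · right
      intro w hw
      have h2 := h.fourU.rho_sq hσm hfpf hu
      have h3 := h.fourU.rho_sq h.map h.fpf hu
      by_cases hw1 : w = 1
      · rw [hw1]; group
      rcases h.orbU hu hu1 hw hw1 with rfl | rfl | rfl
      · exact h1
      · -- `σ ρu = u`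
        rw [h.rho_cube (h.UE hu)]
        have h5 : ρ * u * ρ⁻¹ = u * (σ * u * σ⁻¹) := by
          rw [h1, h3, ← mul_assoc, h.fourU.sq u hu, one_mul]
        have h6 : σ * (u * (σ * u * σ⁻¹)) * σ⁻¹ = (σ * u * σ⁻¹) * (σ * (σ * u * σ⁻¹) * σ⁻¹) := by
          group
        rw [h5, h6, h2, h.fourU.comm _ (hσm u hu) _ (U.mul_mem hu (hσm u hu)), mul_assoc,
          h.fourU.sq _ (hσm u hu), mul_one]
      · -- `σ ρ²u = ρ u`
        rw [h.rho_cube (h.UE hu), ← h1, h2, h1, h3, ← mul_assoc, h.fourU.sq u hu, one_mul]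
  -- the basic translation
  obtain ⟨s, hs, hsU, hsq, hsV⟩ : ∃ s ∈ normalizer (E : Set G), (∀ u ∈ U, s * u * s⁻¹ = u) ∧
      (∀ e ∈ E, s * e * s⁻¹ * e⁻¹ ∈ U) ∧ cj s V ≠ V := by
    rcases hσU with h1 | h1
    · refine ⟨ρ⁻¹ * σ, mul_mem (inv_mem h.norm) hσn, ?_,
        hcomp _ (inv_mem h.norm) _ hσn (hinvq ρ h.norm hρq) hσq, ?_⟩
      · intro u hu
        have e : ρ⁻¹ * σ * u * (ρ⁻¹ * σ)⁻¹ = ρ⁻¹ * (σ * u * σ⁻¹) * ρ := by group
        rw [e, h1 u hu]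
        group
      · intro h2
        apply hσV
        have h3 := congrArg (cj ρ) h2
        rwa [← cj_mul, mul_inv_cancel_left, h.rho_V] at h3
    · refine ⟨ρ * σ, mul_mem h.norm hσn, ?_, hcomp _ h.norm _ hσn hρq hσq, ?_⟩
      · intro u hu
        have e : ρ * σ * u * (ρ * σ)⁻¹ = ρ * (σ * u * σ⁻¹) * ρ⁻¹ := by group
        rw [e, h1 u hu, h.rho_cube (h.UE hu)]
      · intro h2
        apply hσV
        rw [cj_mul] at h2
        have h3 := congrArg (cj ρ⁻¹) h2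
        rw [cj_inv_cj] at h3
        have h4 := congrArg (cj ρ⁻¹) h.rho_V
        rw [cj_inv_cj] at h4
        rw [h3, ← h4]
  -- conjugates of `s` under `ρ`
  have hconj : ∀ r ∈ normalizer (E : Set G), cj r V = V → ∃ s' ∈ normalizer (E : Set G),
      (∀ u ∈ U, s' * u * s'⁻¹ = u) ∧ (∀ e ∈ E, s' * e * s'⁻¹ * e⁻¹ ∈ U) ∧
      cj s' V = cj r (cj s V) := by
    intro r hr hrV
    refine ⟨r * s * r⁻¹, mul_mem (mul_mem hr hs) (inv_mem hr), ?_, hconjq s hs r hr hsq, ?_⟩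
    · intro u hu
      have h2 : r⁻¹ * u * r ∈ U := by
        have h3 := hUn r⁻¹ (inv_mem hr) u hu
        rwa [inv_inv] at h3
      have e : r * s * r⁻¹ * u * (r * s * r⁻¹)⁻¹ = r * (s * (r⁻¹ * u * r) * s⁻¹) * r⁻¹ := by group
      rw [e, hsU _ h2]
      group
    · have h4 := congrArg (cj r⁻¹) hrV
      rw [cj_inv_cj] at h4
      rw [cj_mul, cj_mul, ← h4]
  rcases t.orbit s hs hsV g hg with h1 | h1 | h1 | h1
  · exact absurd h1 hgV
  · exact ⟨s, hs, hsU, hsq, h1.symm⟩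
  · obtain ⟨s', hs', h2, h3, h4⟩ := hconj ρ h.norm h.rho_V
    exact ⟨s', hs', h2, h3, by rw [h4, h1]⟩
  · obtain ⟨s', hs', h2, h3, h4⟩ := hconj (ρ * ρ) (mul_mem h.norm h.norm) (by
      rw [cj_mul, h.rho_V, h.rho_V])
    exact ⟨s', hs', h2, h3, by rw [h4, h1, cj_mul]⟩

end T4

end Cfsg.Agent.GH.L2Tri
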