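import Mathlib
import Cfsg.Agent.SylowSp4.ExtTransfer

/-!
# GH-L2, Lemma W

A group whose Sylow 2-subgroup is `E⟨d⟩`, `E` elementary abelian, `d` an involution with
`|E| = |C_E(d)|²`, `|C_E(d)| ≥ 4` (for `|E| = 16` this is `V₄ ≀ 2`), has a subgroup of index two.
-/

set_option autoImplicit false

open Subgroup

namespace Cfsg.Agent.GH.L2W

variable {G : Type*} [Group G] [Finite G]

/-- A 2-subgroup of an overgroup `N` of a Sylow 2-subgroup `S` is `N`-conjugate into `S`. -/
theorem conj_into (S : Sylow 2 G) {N : Subgroup G} (hSN : (S : Subgroup G) ≤ N) {R : Subgroup G}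
    (hRN : R ≤ N) (hR : IsPGroup 2 R) : ∃ n ∈ N, ∀ r ∈ R, n * r * n⁻¹ ∈ S := by
  have hR' : IsPGroup 2 (R.subgroupOf N) := hR.comap_subtype
  obtain ⟨P, hP⟩ := hR'.exists_le_sylow
  obtain ⟨n, hn⟩ := MulAction.exists_smul_eq N P (S.subtype hSN)
  refine ⟨n, n.2, fun r hr => ?_⟩
  have h1 : (⟨r, hRN hr⟩ : N) ∈ P := hP hr
  have h2 : n * ⟨r, hRN hr⟩ * n⁻¹ ∈ n • P := by
    rw [← SetLike.mem_coe, Sylow.coe_smul]
    exact Set.mem_smul_set.mpr ⟨_, h1, by simp [MulAut.conj_apply]⟩
  rw [hn] at h2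
  exact h2

omit [Finite G] in
theorem isPGroup_zpowers_of_sq {w : G} (hw : w * w = 1) : IsPGroup 2 (zpowers w) := by
  rintro ⟨_, n, rfl⟩
  refine ⟨1, ?_⟩
  apply Subtype.ext
  change (w ^ n) ^ (2 ^ 1) = 1
  rw [pow_one, ← zpow_natCast, ← zpow_mul, mul_comm, zpow_mul, zpow_natCast, pow_two, hw, one_zpow]

/-- `S ≤ C(Z)`, `w` an involution normalizing `Z`: `w` centralizes `Z`. -/
theorem mem_centralizer_of_sq (S : Sylow 2 G) {Z : Subgroup G}
    (hSZ : (S : Subgroup G) ≤ centralizer (Z : Set G)) {w : G} (hw : w * w = 1)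
    (hwZ : ∀ z ∈ Z, w * z * w⁻¹ ∈ Z) : ∀ z ∈ Z, w * z = z * w := by
  have hwN : w ∈ normalizer (Z : Set G) := by
    rw [mem_normalizer_iff]
    intro z
    refine ⟨hwZ z, fun h => ?_⟩
    have h1 := hwZ _ h
    have hw' : w⁻¹ = w := inv_eq_of_mul_eq_one_left hw
    rw [hw'] at h1
    have e : w * (w * z * w) * w = (w * w) * z * (w * w) := by group
    rw [e, hw, one_mul, mul_one] at h1
    exact h1
  have hCN : centralizer (Z : Set G) ≤ normalizer (Z : Set G) := by
    intro c hc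
    rw [mem_normalizer_iff]
    intro z
    constructor
    · intro hz
      rw [mem_centralizer_iff] at hc
      have h1 := hc z hz
      rw [← h1, mul_inv_cancel_right]
      exact hz
    · intro hz
      have h1 := (mem_centralizer_iff.mp (Subgroup.inv_mem _ hc)) _ hz
      have h2 : c * z * c⁻¹ = z := by
        have h3 : c⁻¹ * (c * z * c⁻¹) = z * c⁻¹ := by group
        have h4 : c * z * c⁻¹ * c⁻¹ = z * c⁻¹ := h1.trans h3
        exact mul_right_cancel h4
      rwa [h2] at hz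
  obtain ⟨n, hn, hnw⟩ := conj_into S (hSZ.trans hCN) (R := zpowers w)
    ((zpowers_le).2 hwN) (isPGroup_zpowers_of_sq hw)
  have h1 := hSZ (hnw w (mem_zpowers w))
  intro z hz
  rw [mem_centralizer_iff] at h1
  have h2 := h1 (n * z * n⁻¹) ((mem_normalizer_iff.mp hn z).mp hz)
  have h3 : n * (z * w) * n⁻¹ = n * (w * z) * n⁻¹ := by
    have e1 : n * z * n⁻¹ * (n * w * n⁻¹) = n * (z * w) * n⁻¹ := by group
    have e2 : n * w * n⁻¹ * (n * z * n⁻¹) = n * (w * z) * n⁻¹ := by group
    rw [← e1, ← e2]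
    exact h2
  exact (mul_left_cancel (mul_right_cancel h3)).symm

/-- **Lemma W.** -/
theorem lemmaW (S : Sylow 2 G) (E : Subgroup G) (hES : E ≤ S)
    (hidx : E.relIndex (S : Subgroup G) = 2) (hcomm : ∀ a ∈ E, ∀ b ∈ E, a * b = b * a)
    (hsq : ∀ a ∈ E, a * a = 1) (d : G) (hdS : d ∈ S) (hdE : d ∉ E) (hd2 : d * d = 1)
    (hcard : Nat.card E = Nat.card (E ⊓ centralizer ({d} : Set G) : Subgroup G) ^ 2)
    (h4 : 4 ≤ Nat.card (E ⊓ centralizer ({d} : Set G) : Subgroup G))
    (hG : ∀ f : G →* ℤˣ, f d = 1) : False := by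
  classical
  set Z : Subgroup G := E ⊓ centralizer ({d} : Set G) with hZdef
  have hd' : d⁻¹ = d := inv_eq_of_mul_eq_one_left hd2
  have hinvE : ∀ a ∈ E, a⁻¹ = a := fun a ha => inv_eq_of_mul_eq_one_left (hsq a ha)
  have hmemZ : ∀ z, z ∈ Z ↔ z ∈ E ∧ z * d = d * z := by
    intro z
    rw [hZdef, mem_inf, mem_centralizer_singleton_iff]
  have hidx' : (E.subgroupOf (S : Subgroup G)).index = 2 := hidx
  have hn : (E.subgroupOf (S : Subgroup G)).Normal := Subgroup.normal_of_index_eq_two hidx'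
  -- `S = E ∪ E d`
  have hcos : ∀ s ∈ S, s ∉ E → s * d ∈ E := by
    intro s hs hsE
    have h1 := Subgroup.mul_mem_iff_of_index_two hidx'
      (a := (⟨s, hs⟩ : (S : Subgroup G))) (b := ⟨d, hdS⟩)
    have h2 : (⟨s, hs⟩ : (S : Subgroup G)) ∉ E.subgroupOf (S : Subgroup G) := hsE
    have h3 : (⟨d, hdS⟩ : (S : Subgroup G)) ∉ E.subgroupOf (S : Subgroup G) := hdE
    exact h1.2 ⟨fun h => absurd h h2, fun h => absurd h h3⟩
  have hdconj : ∀ e ∈ E, d * e * d ∈ E := by
    intro e he
    have h := hn.conj_mem ⟨e, hES he⟩ he ⟨d, hdS⟩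
    have h1 : d * e * d⁻¹ ∈ E := h
    rwa [hd'] at h1
  -- `S` centralizes `Z`
  have hSZ : (S : Subgroup G) ≤ centralizer (Z : Set G) := by
    intro s hs
    rw [mem_centralizer_iff]
    intro z hz
    obtain ⟨hzE, hzd⟩ := (hmemZ z).1 hz
    by_cases hsE : s ∈ E
    · exact hcomm z hzE s hsE
    · have h1 := hcomm z hzE _ (hcos s hs hsE)
      have h2 : z * s * d = s * z * d := by
        rw [mul_assoc, h1, mul_assoc, mul_assoc, hzd]
      exact mul_right_cancel h2
  -- `F = C_S(d)`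
  set F : Subgroup G := (S : Subgroup G) ⊓ centralizer ({d} : Set G) with hFdef
  have hmemF : ∀ f, f ∈ F ↔ f ∈ S ∧ f * d = d * f := by
    intro f
    rw [hFdef, mem_inf, mem_centralizer_singleton_iff]
    rfl
  have hdF : d ∈ F := (hmemF d).2 ⟨hdS, rfl⟩
  have hZF : Z ≤ F := by
    intro z hz
    obtain ⟨h1, h2⟩ := (hmemZ z).1 hz
    exact (hmemF z).2 ⟨hES h1, h2⟩
  have hFcos : ∀ f ∈ F, f ∉ E → f * d ∈ Z := by
    intro f hf hfE
    obtain ⟨h1, h2⟩ := (hmemF f).1 hf
    refine (hmemZ _).2 ⟨hcos f h1 hfE, ?_⟩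
    rw [h2, mul_assoc, h2]
  have hFE : ∀ f ∈ F, f ∈ E → f ∈ Z := by
    intro f hf hfE
    exact (hmemZ _).2 ⟨hfE, ((hmemF f).1 hf).2⟩
  have hFcomm : ∀ a ∈ F, ∀ b ∈ F, a * b = b * a := by
    intro a ha b hb
    have hbd := ((hmemF b).1 hb).2
    have hbS := ((hmemF b).1 hb).1
    by_cases haE : a ∈ E
    · exact (mem_centralizer_iff.mp (hSZ hbS)) a (hFE a ha haE)
    · have h1 := (mem_centralizer_iff.mp (hSZ hbS)) _ (hFcos a ha haE)
      -- a d b = b a d
      have h2 : a * b * d = b * a * d := by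
        rw [mul_assoc, hbd, ← mul_assoc, h1, mul_assoc]
      exact mul_right_cancel h2
  have hFsq : ∀ a ∈ F, a * a = 1 := by
    intro a ha
    by_cases haE : a ∈ E
    · exact hsq a haE
    · have h1 := hFcos a ha haE
      have h2 := hsq _ ((hmemZ _).1 h1).1
      have h3 := ((hmemF a).1 ha).2
      have e : a * d * (a * d) = a * (d * a) * d := by group
      rw [e, ← h3] at h2
      have e2 : a * (a * d) * d = a * a * (d * d) := by group
      rwa [e2, hd2, mul_one] at h2
  have hFp : IsPGroup 2 F := by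
    rintro ⟨f, hf⟩
    refine ⟨1, ?_⟩
    apply Subtype.ext
    simpa [pow_two] using hFsq f hf
  -- `Z` has index two in `F`
  have hZFidx : (Z.subgroupOf F).index = 2 := by
    rw [Subgroup.index_eq_two_iff]
    refine ⟨⟨d, hdF⟩, ?_⟩
    rintro ⟨b, hb⟩
    by_cases hbE : b ∈ E
    · refine Or.inr ⟨hFE b hb hbE, ?_⟩
      intro h
      have h1 : b * d ∈ E := ((hmemZ _).1 (show b * d ∈ Z from h)).1
      have h2 := E.mul_mem (E.inv_mem hbE) h1
      rw [inv_mul_cancel_left] at h2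
      exact hdE h2
    · refine Or.inl ⟨hFcos b hb hbE, ?_⟩
      intro h
      exact hbE ((hmemZ _).1 (show b ∈ Z from h)).1
  have hFcard : Nat.card F = 2 * Nat.card Z := by
    have h1 := Subgroup.card_mul_index (Z.subgroupOf F)
    rw [hZFidx, Nat.card_congr (subgroupOfEquivOfLe hZF).toEquiv] at h1
    omega
  -- every element of `Z` is a commutator
  have hsurj : ∀ z ∈ Z, ∃ e ∈ E, e * d * e⁻¹ = z * d := by
    let φ : E →* G :=
      { toFun := fun e => e * (d * e * d)
        map_one' := by simp [hd2]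
        map_mul' := by
          intro a b
          have h1 := hcomm (d * a * d) (hdconj a a.2) b b.2
          have h2 : d * ((a : G) * b) * d = (d * a * d) * (d * b * d) := by
            have e : (d * a * d) * (d * b * d) = d * a * (d * d) * b * d := by group
            rw [e, hd2, mul_one]
            group
          simp only [Subgroup.coe_mul]
          rw [h2]
          calc (a : G) * b * (d * a * d * (d * b * d)) = a * (b * (d * a * d)) * (d * b * d) := by
                group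
            _ = a * (d * a * d * b) * (d * b * d) := by rw [h1]
            _ = a * (d * a * d) * (b * (d * b * d)) := by group }
    have hφ : ∀ e : E, φ e = e * (d * e * d) := fun e => rfl
    have hker : Nat.card φ.ker = Nat.card Z := by
      have h1 : φ.ker = Z.subgroupOf E := by
        ext e
        rw [MonoidHom.mem_ker, hφ, mem_subgroupOf, hmemZ]
        constructor
        · intro h
          refine ⟨e.2, ?_⟩
          have h2 := hinvE e e.2
          have h3 : d * (e : G) * d = (e : G)⁻¹ := (inv_eq_of_mul_eq_one_right h).symm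
          rw [h2] at h3
          have h4 : d * (e : G) * d * d = e * d := by rw [h3]
          rw [mul_assoc, hd2, mul_one] at h4
          exact h4.symm
        · rintro ⟨_, h⟩
          rw [← h, mul_assoc, hd2, mul_one, hsq e e.2]
      rw [h1, Nat.card_congr (subgroupOfEquivOfLe (inf_le_left : Z ≤ E)).toEquiv]
    have hrange : φ.range ≤ Z := by
      rintro _ ⟨e, rfl⟩
      rw [hφ, hmemZ]
      refine ⟨E.mul_mem e.2 (hdconj e e.2), ?_⟩
      have h1 := hcomm (d * e * d) (hdconj e e.2) e e.2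
      calc (e : G) * (d * e * d) * d = e * d * e * (d * d) := by group
        _ = d * (d * e * d * e) := by
            rw [hd2, mul_one]
            have : d * (d * e * d * e) = (d * d) * e * d * e := by group
            rw [this, hd2, one_mul]
        _ = d * (e * (d * e * d)) := by rw [h1]
    have hrange' : φ.range = Z := by
      apply Subgroup.eq_of_le_of_card_ge hrange
      have h1 := Subgroup.card_mul_index φ.ker
      rw [Subgroup.index_ker, hker, hcard, pow_two] at h1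
      have h2 : 0 < Nat.card Z := Nat.card_pos
      exact (Nat.eq_of_mul_eq_mul_left h2 h1).ge
    intro z hz
    rw [← hrange'] at hz
    obtain ⟨e, he⟩ := hz
    refine ⟨e, e.2, ?_⟩
    rw [← he, hφ, hinvE e e.2]
    have e1 : (e : G) * (d * e * d) * d = e * d * e * (d * d) := by group
    rw [e1, hd2, mul_one]
  -- `S` normalizes `F`
  have hSF : (S : Subgroup G) ≤ normalizer (F : Set G) := by
    have key : ∀ s ∈ S, ∀ f ∈ F, s * f * s⁻¹ ∈ F := by
      intro s hs f hf
      have hzs : ∀ z ∈ Z, s * z * s⁻¹ = z := by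
        intro z hz
        have h1 := (mem_centralizer_iff.mp (hSZ hs)) z hz
        rw [← h1, mul_inv_cancel_right]
      by_cases hfE : f ∈ E
      · have hfZ := hFE f hf hfE
        rw [hzs f hfZ]
        exact hf
      · -- f = z d
        have hfZ := hFcos f hf hfE
        have hs' : s * d * s⁻¹ ∈ F := by
          -- s = e or e d
          obtain ⟨e, he, hes⟩ : ∃ e ∈ E, s * d * s⁻¹ = e * d * e⁻¹ := by
            by_cases hsE : s ∈ E
            · exact ⟨s, hsE, rfl⟩
            · refine ⟨s * d, hcos s hs hsE, ?_⟩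
              group
          rw [hes]
          refine (hmemF _).2 ⟨?_, ?_⟩
          · exact (S : Subgroup G).mul_mem ((S : Subgroup G).mul_mem (hES he) hdS)
              ((S : Subgroup G).inv_mem (hES he))
          · rw [hinvE e he]
            have h1 := hcomm (d * e * d) (hdconj e he) e he
            calc e * d * e * d = e * (d * e * d) := by group
              _ = d * e * d * e := h1.symm
              _ = d * (e * d * e) := by group
        have e1 : s * f * s⁻¹ = (s * (f * d) * s⁻¹) * (s * d * s⁻¹) := by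
          have : (s * (f * d) * s⁻¹) * (s * d * s⁻¹) = s * f * (d * d) * s⁻¹ := by group
          rw [this, hd2, mul_one]
        rw [e1, hzs _ hfZ]
        exact F.mul_mem (hZF hfZ) hs'
    intro s hs
    rw [mem_normalizer_iff]
    intro f
    refine ⟨key s hs f, fun h => ?_⟩
    have h1 := key s⁻¹ ((S : Subgroup G).inv_mem hs) _ h
    have e : s⁻¹ * (s * f * s⁻¹) * s⁻¹⁻¹ = f := by group
    rwa [e] at h1
  -- extremal transfer
  obtain ⟨g, hgd, hgF⟩ := SylowSp4.ExtTransfer.exists_extremal S E hES hidx d hd2 hG F hFp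
    (fun r hr => ((hmemF r).1 hr).2)
  -- `F^g` is not contained in `E`
  obtain ⟨f₁, hf₁, hf₁E⟩ : ∃ f ∈ F, g * f * g⁻¹ ∉ E := by
    by_contra hcon
    push Not at hcon
    -- `E^{g⁻¹}` centralizes `F`
    let E' : Subgroup G := E.map (MulAut.conj g⁻¹).toMonoidHom
    have hE'C : E' ≤ centralizer (F : Set G) := by
      rintro _ ⟨e, he, rfl⟩
      rw [mem_centralizer_iff]
      intro f hf
      have h1 := hcomm _ (hcon f hf) e he
      change f * (g⁻¹ * e * g⁻¹⁻¹) = g⁻¹ * e * g⁻¹⁻¹ * f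
      have e1 : f * (g⁻¹ * e * g⁻¹⁻¹) = g⁻¹ * (g * f * g⁻¹ * e) * g := by group
      have e2 : g⁻¹ * e * g⁻¹⁻¹ * f = g⁻¹ * (e * (g * f * g⁻¹)) * g := by group
      rw [e1, e2, h1]
    have hCN : centralizer (F : Set G) ≤ normalizer (F : Set G) := by
      intro c hc
      rw [mem_normalizer_iff]
      intro z
      have hc1 := mem_centralizer_iff.mp hc
      have hc2 := mem_centralizer_iff.mp (Subgroup.inv_mem _ hc)
      constructor
      · intro hz
        rw [← hc1 z hz, mul_inv_cancel_right]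
        exact hz
      · intro hz
        have h1 := hc2 _ hz
        have h2 : c * z * c⁻¹ = z := by
          have h3 : c⁻¹ * (c * z * c⁻¹) = z * c⁻¹ := by group
          exact mul_right_cancel (h1.trans h3)
        rwa [h2] at hz
    have hEp : IsPGroup 2 E' := by
      apply IsPGroup.map
      exact S.2.to_le hES
    obtain ⟨n, hn, hnE⟩ := conj_into S hSF (hE'C.trans hCN) hEp
    have hle : E'.map (MulAut.conj n).toMonoidHom ≤ F := by
      rintro _ ⟨e, he, rfl⟩
      change n * e * n⁻¹ ∈ F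
      refine (hmemF _).2 ⟨hnE e he, ?_⟩
      have h1 := mem_centralizer_iff.mp (hE'C he)
      have h2 : n⁻¹ * d * n ∈ F := by
        have h3 := (mem_normalizer_iff.mp (Subgroup.inv_mem _ hn) d).mp hdF
        rwa [inv_inv] at h3
      have h3 := h1 _ h2
      have e1 : n * e * n⁻¹ * d = n * (e * (n⁻¹ * d * n)) * n⁻¹ := by group
      have e2 : d * (n * e * n⁻¹) = n * (n⁻¹ * d * n * e) * n⁻¹ := by group
      rw [e1, e2, h3]
    have h1 := card_le_of_le hle
    rw [card_map_of_injective (MulAut.conj n).injective,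
      card_map_of_injective (MulAut.conj g⁻¹).injective, hcard, hFcard] at h1
    nlinarith
  -- an element of `F^g - E` is in `Z d`
  have hf₁S : g * f₁ * g⁻¹ ∈ S := hgF f₁ hf₁
  set e₀ : G := g * f₁ * g⁻¹ * d with he₀
  have he₀E : e₀ ∈ E := hcos _ hf₁S hf₁E
  have hf₁eq : g * f₁ * g⁻¹ = e₀ * d := by
    have e : e₀ * d = g * f₁ * g⁻¹ * (d * d) := by rw [he₀]; group
    rw [e, hd2, mul_one]
  have hf₁sq : (e₀ * d) * (e₀ * d) = 1 := by
    rw [← hf₁eq]
    have e : g * f₁ * g⁻¹ * (g * f₁ * g⁻¹) = g * (f₁ * f₁) * g⁻¹ := by group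
    rw [e, hFsq f₁ hf₁, mul_one, mul_inv_cancel]
  have he₀Z : e₀ * d = d * e₀ := by
    have h1 : e₀ * d = (e₀ * d)⁻¹ := (inv_eq_of_mul_eq_one_left hf₁sq).symm
    rw [mul_inv_rev, hd', hinvE e₀ he₀E] at h1
    exact h1
  -- `F^g ≤ F`
  have hgFF : ∀ f ∈ F, g * f * g⁻¹ ∈ F := by
    intro f hf
    have hfS := hgF f hf
    refine (hmemF _).2 ⟨hfS, ?_⟩
    have hc : g * f * g⁻¹ * (e₀ * d) = e₀ * d * (g * f * g⁻¹) := by
      rw [← hf₁eq]
      have e1 : g * f * g⁻¹ * (g * f₁ * g⁻¹) = g * (f * f₁) * g⁻¹ := by group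
      have e2 : g * f₁ * g⁻¹ * (g * f * g⁻¹) = g * (f₁ * f) * g⁻¹ := by group
      rw [e1, e2, hFcomm f hf f₁ hf₁]
    by_cases hfE : g * f * g⁻¹ ∈ E
    · have h1 := hcomm _ hfE e₀ he₀E
      have h2 : e₀ * (g * f * g⁻¹ * d) = e₀ * (d * (g * f * g⁻¹)) := by
        rw [← mul_assoc, ← h1, mul_assoc, hc, mul_assoc]
      exact mul_left_cancel h2
    · have h0 := hcos _ hfS hfE
      have h1 := hcomm _ h0 e₀ he₀E
      -- (a d) e₀ = e₀ (a d), a (e₀ d) = e₀ d a, with a = f^g; e₀ d = d e₀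
      set a : G := g * f * g⁻¹ with ha
      have h2 : a * (d * e₀) = e₀ * (a * d) := by rw [← mul_assoc]; exact h1
      have h3 : a * (d * e₀) = e₀ * (d * a) := by
        rw [← he₀Z, hc, mul_assoc]
      rw [h2] at h3
      exact mul_left_cancel h3
  have hFmap : F.map (MulAut.conj g).toMonoidHom = F := by
    apply Subgroup.eq_of_le_of_card_ge
    · rintro _ ⟨f, hf, rfl⟩
      exact hgFF f hf
    · rw [card_map_of_injective (MulAut.conj g).injective]
  have hgFinv : ∀ f ∈ F, g⁻¹ * f * g ∈ F := by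
    intro f hf
    rw [← hFmap] at hf
    obtain ⟨f', hf', rfl⟩ := hf
    change g⁻¹ * (g * f' * g⁻¹) * g ∈ F
    have e : g⁻¹ * (g * f' * g⁻¹) * g = f' := by group
    rwa [e]
  -- `d' = d^g ∈ Z`
  have hd'Z : g * d * g⁻¹ ∈ Z := hFE _ (hgFF d hdF) hgd
  -- an element `z₀ ≠ 1` in `Z ∩ Z^g`
  obtain ⟨z₀, hz₀, hz₀Z, hz₀1⟩ : ∃ z ∈ Z, g⁻¹ * z * g ∈ Z ∧ z ≠ 1 := by
    by_contra hcon
    push Not at hcon
    -- every nontrivial element of `Z` is `d^g`
    have h1 : ∀ z ∈ Z, z ≠ 1 → z = g * d * g⁻¹ := by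
      intro z hz hz1
      have h2 : g⁻¹ * z * g ∉ Z := fun h => hz1 (hcon z hz h)
      have h3 : g⁻¹ * z * g ∉ E := fun h => h2 (hFE _ (hgFinv z (hZF hz)) h)
      have h4 := hFcos _ (hgFinv z (hZF hz)) h3
      have h5 : g⁻¹ * (z * (g * d * g⁻¹)) * g ∈ Z := by
        have e : g⁻¹ * (z * (g * d * g⁻¹)) * g = g⁻¹ * z * g * d := by group
        rwa [e]
      have h6 := hcon _ (Z.mul_mem hz hd'Z) h5
      have h7 := hsq _ ((hmemZ _).1 hd'Z).1
      have h8 : z = (g * d * g⁻¹)⁻¹ := eq_inv_of_mul_eq_one_left h6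
      rwa [hinvE _ ((hmemZ _).1 hd'Z).1] at h8
    have h2 : (Z : Set G) ⊆ {1, g * d * g⁻¹} := by
      intro z hz
      by_cases hz1 : z = 1
      · left; exact hz1
      · right; exact h1 z hz hz1
    have h3 : Nat.card Z ≤ 2 := by
      have h5 : Nat.card Z = Set.ncard (Z : Set G) := rfl
      rw [h5]
      refine (Set.ncard_le_ncard h2 (Set.toFinite _)).trans ?_
      exact (Set.ncard_insert_le _ _).trans (by rw [Set.ncard_singleton])
    omega
  obtain ⟨s, hs, hsd⟩ := hsurj _ hz₀Z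
  -- `w = s^g`
  set w : G := g * s * g⁻¹ with hw
  have hw2 : w * w = 1 := by
    have e : w * w = g * (s * s) * g⁻¹ := by rw [hw]; group
    rw [e, hsq s hs, mul_one, mul_inv_cancel]
  have hwconj : ∀ f ∈ F, w * f * w⁻¹ = f ∨ w * f * w⁻¹ = z₀ * f := by
    intro f hf
    have hf' := hgFinv f hf
    have e : w * f * w⁻¹ = g * (s * (g⁻¹ * f * g) * s⁻¹) * g⁻¹ := by rw [hw]; group
    by_cases hE' : g⁻¹ * f * g ∈ E
    · left
      rw [e, hcomm s hs _ hE']
      group
    · right
      have h1 := hFcos _ hf' hE'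
      have h2 : s * (g⁻¹ * f * g) * s⁻¹ = (g⁻¹ * f * g * d) * (s * d * s⁻¹) := by
        have h3 := hcomm s hs _ ((hmemZ _).1 h1).1
        have e1 : s * (g⁻¹ * f * g) * s⁻¹ = s * (g⁻¹ * f * g * d) * (d * s⁻¹) := by
          have : s * (g⁻¹ * f * g * d) * (d * s⁻¹) = s * (g⁻¹ * f * g) * (d * d) * s⁻¹ := by group
          rw [this, hd2, mul_one]
        rw [e1, h3]
        group
      rw [e, h2, hsd]
      have h4 := hcomm _ ((hmemZ _).1 h1).1 _ ((hmemZ _).1 hz₀Z).1
      have e2 : g⁻¹ * f * g * d * (g⁻¹ * z₀ * g * d) = g⁻¹ * f * g * d * (g⁻¹ * z₀ * g) * d := by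
        group
      rw [e2, h4]
      have e3 : g * (g⁻¹ * z₀ * g * (g⁻¹ * f * g * d) * d) * g⁻¹ = z₀ * f * g * (d * d) * g⁻¹ := by
        group
      rw [e3, hd2]
      group
  have hwZ : ∀ z ∈ Z, w * z * w⁻¹ ∈ Z := by
    intro z hz
    rcases hwconj z (hZF hz) with h | h
    · rw [h]; exact hz
    · rw [h]; exact Z.mul_mem hz₀ hz
  have hfin := mem_centralizer_of_sq S hSZ hw2 hwZ _ hd'Z
  -- `w` moves `d^g`
  have h1 : w * (g * d * g⁻¹) * w⁻¹ = z₀ * (g * d * g⁻¹) := by
    have e : w * (g * d * g⁻¹) * w⁻¹ = g * (s * d * s⁻¹) * g⁻¹ := by rw [hw]; group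
    rw [e, hsd]
    group
  rw [hfin, mul_inv_cancel_right] at h1
  exact hz₀1 (mul_eq_right.mp h1.symm)

end Cfsg.Agent.GH.L2W
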