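import Cfsg.Agent.GH.XSet
import Cfsg.Agent.GH.L2Tri
import Cfsg.Agent.GH.L2FourOC
import Cfsg.Agent.GH.L2W

/-!
# GH-L2: pairs `(V, U)`

* `xset_max`: the maximal 2-components give an `XSet`.
* `VPair X V L`: `V` a four-group, `V# ⊆ X`, the elements of `V` fix all `KK v`, `L` is the common
  2-component of `C(V)`.
* `Quad X V L U ρ`: moreover `U ≤ L` a four-group, `ρ ∈ L` acting on `U` without fixed points, and every
  2-element of `C_L(U)` is in `U`.  `Quad.tri : Tri (V ⊔ U) V U ρ`.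
* `Quad.cen_E` (L2): if `V` is not normal in `N(E)` then all 2-elements of `C(E)` are in `E`.
* `Quad.t4_Q`, `Quad.t4_D`, `Quad.t4_T` (L3).
-/

set_option autoImplicit false

open Cfsg Subgroup
open Cfsg.Agent.SignalizersComponents Cfsg.Agent.Lib
open Cfsg.Agent.SignalizersComponents.IntrinsicBasic
open Cfsg.Agent.Intrinsic.Basic Cfsg.Agent.Intrinsic.Cen
open Cfsg.Agent.GH.Defs Cfsg.Agent.GH.Comp Cfsg.Agent.GH.L2Tri
open Cfsg.Agent.GH.XSet
open scoped commutatorElement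

namespace Cfsg.Agent.GH.L2Pair

variable {G : Type*} [Group G] [Finite G]

/-! ### the `XSet` of the maximal 2-components -/

/-- The involutions whose centralizer has a 2-component of maximal order (mod core). -/
def maxSet (G : Type*) [Group G] : Set G := {y | ∃ K : Subgroup G, L2FourOC.Max2 y K}

theorem KK_eq (h : Hyp G) (ho : AllOdd G) {y : G} {K : Subgroup G} (hK : Comp2 y K) : KK y = K :=
  L2FourOC.L2_eq h ho hK

theorem xset_max (h : Hyp G) (ho : AllOdd G) {x : G} {K : Subgroup G}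
    (hK : L2FourOC.Max2 x K) : XSet (maxSet G) (Nat.card (Bar K)) := by
  refine ⟨⟨?_, ?_, ?_, ?_⟩, ?_⟩
  · rintro y ⟨M, hM⟩
    exact hM.comp2.inv
  · rintro y ⟨M, hM⟩
    rw [KK_eq h ho hM.comp2]
    exact hM.comp2.comp
  · rintro y ⟨M, hM⟩ g
    exact ⟨_, hM.cj g⟩
  · rintro y ⟨M, hM⟩ u hu hc hf
    rw [KK_eq h ho hM.comp2] at hf
    obtain ⟨L, hL, -⟩ := hM.pump h ho hu hc.eq hf
    exact ⟨L, hL⟩
  · rintro y ⟨M, hM⟩
    rw [KK_eq h ho hM.comp2]
    exact le_antisymm (hK.le y M hM.comp2) (hM.le x K hK.comp2)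

/-! ### four-groups `V` fixing `KK v` -/

/-- `V` a four-group, all of whose involutions are in `X` and fix each other, `L` the 2-component of
`C(V)`. -/
structure VPair (X : Set G) (V L : Subgroup G) : Prop where
  four : Four V
  mem : ∀ v ∈ V, v ≠ 1 → v ∈ X
  fix : ∀ v ∈ V, v ≠ 1 → ∀ w ∈ V, Fixes w (KK v)
  comp : IsComp (centralizer (V : Set G)) L
  uniq : ∀ M, IsComp (centralizer (V : Set G)) M → M = L
  le : ∀ v ∈ V, v ≠ 1 → L ≤ KK v
  sup : ∀ v ∈ V, v ≠ 1 → L ⊔ core (KK v) = KK v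

omit [Finite G] in
theorem orderOf_of_sq {w : G} (hw : w * w = 1) (h1 : w ≠ 1) : orderOf w = 2 :=
  orderOf_eq_prime (by rw [pow_two, hw]) h1

/-- Construction of a `VPair` from one element of `V`. -/
theorem exists_vpair {X : Set G} {N : ℕ} (h : XSet X N) {V : Subgroup G} (hV : Four V) {v₀ : G}
    (hv₀ : v₀ ∈ V) (hX : v₀ ∈ X) (hf : ∀ v ∈ V, Fixes v (KK v₀)) : ∃ L, VPair X V L := by
  have hv₀1 : v₀ ≠ 1 := h.toXBase.ne_one hX
  have hmem : ∀ v ∈ V, v ≠ 1 → v ∈ X := by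
    intro v hv hv1
    exact h.closed v₀ hX v (orderOf_of_sq (hV.sq v hv) hv1) (hV.comm v hv v₀ hv₀) (hf v hv)
  have hfix : ∀ v ∈ V, v ≠ 1 → ∀ w ∈ V, Fixes w (KK v) := by
    intro v hv hv1 w hw
    by_cases hvv₀ : v = v₀
    · rw [hvv₀]; exact hf w hw
    have h1 : Fixes v₀ (KK v) := h.fixes_symm hX (hmem v hv hv1) (hV.comm v₀ hv₀ v hv) (hf v hv)
    have h2 : Fixes v (KK v) := h.toXBase.fixes_self (hmem v hv hv1)
    rcases hV.cases hv hv₀ hv1 hv₀1 hvv₀ hw with rfl | rfl | rfl | rfl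
    · exact fixes_one _
    · exact h2
    · exact h1
    · exact fixes_mul h2 h1
  have hVp : IsPGroup 2 V := by
    rintro ⟨v, hv⟩
    refine ⟨1, ?_⟩
    apply Subtype.ext
    simpa [pow_two] using hV.sq v hv
  obtain ⟨L, h1, h2, h3⟩ := h.toXBase.exists_common hVp
    (fun a ha b hb => hV.comm a ha b hb) ⟨v₀, hX, hv₀⟩
    (fun y hy hyV w hw => hfix y hyV (h.toXBase.ne_one hy) w hw)
  exact ⟨L, hV, hmem, hfix, h1, h2, fun v hv hv1 => (h3 v (hmem v hv hv1) hv).2.1,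
    fun v hv hv1 => (h3 v (hmem v hv hv1) hv).2.2⟩

namespace VPair

variable {X : Set G} {V L : Subgroup G} (p : VPair X V L)

include p

omit [Finite G] in
/-- `L` is normal in `C(V)`. -/
theorem cen_le_normalizer : centralizer (V : Set G) ≤ normalizer (L : Set G) := by
  intro g hg
  rw [mem_normalizer_iff_cj]
  apply p.uniq
  have h1 := p.comp.cj g
  rwa [cj_eq_self_of_mem hg] at h1

omit [Finite G] in
/-- `N(V) ≤ N(L)` -/
theorem normalizer_le_normalizer : normalizer (V : Set G) ≤ normalizer (L : Set G) := by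
  intro g hg
  rw [mem_normalizer_iff_cj]
  apply p.uniq
  have h1 := p.comp.cj g
  have h2 : cj g (centralizer (V : Set G)) = centralizer (V : Set G) := by
    have h3 := mem_normalizer_iff_cj.mp hg
    ext x
    rw [mem_cj, mem_centralizer_iff, mem_centralizer_iff]
    constructor
    · intro h v hv
      rw [← h3] at hv
      have h4 := h (g⁻¹ * v * g) (mem_cj.mp hv)
      have h5 : g⁻¹ * (v * x) * g = g⁻¹ * (x * v) * g := by
        calc g⁻¹ * (v * x) * g = g⁻¹ * v * g * (g⁻¹ * x * g) := by group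
          _ = g⁻¹ * x * g * (g⁻¹ * v * g) := h4
          _ = g⁻¹ * (x * v) * g := by group
      exact mul_left_cancel (mul_right_cancel h5)
    · intro h v hv
      have h4 := h (g * v * g⁻¹) (by
        rw [← h3]
        exact conj_mem_cj hv)
      calc v * (g⁻¹ * x * g) = g⁻¹ * (g * v * g⁻¹ * x) * g := by group
        _ = g⁻¹ * (x * (g * v * g⁻¹)) * g := by rw [h4]
        _ = g⁻¹ * x * g * v := by group
  rwa [h2] at h1

omit [Finite G] in
theorem L_comm {l v : G} (hl : l ∈ L) (hv : v ∈ V) : l * v = v * l :=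
  (mem_centralizer_iff.mp (p.comp.le hl) v hv).symm

end VPair

/-! ### quadruples -/

/-- `(V, U)` with the element `ρ`. -/
structure Quad (X : Set G) (V L U : Subgroup G) (ρ : G) : Prop extends VPair X V L where
  odd : ∀ y ∈ X, ¬ EvenCenter (KK y)
  fourU : Four U
  UL : U ≤ L
  mem_L : ρ ∈ L
  map : ∀ u ∈ U, ρ * u * ρ⁻¹ ∈ U
  fpf : ∀ u ∈ U, u ≠ 1 → ρ * u * ρ⁻¹ ≠ u
  self : ∀ a ∈ L, (∀ u ∈ U, a * u = u * a) → ∀ n : ℕ, a ^ 2 ^ n = 1 → a ∈ U

namespace Quad

variable {X : Set G} {V L U : Subgroup G} {ρ : G} {N : ℕ}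

section

variable (h : XSet X N) (q : Quad X V L U ρ)

include q

omit [Finite G] in
theorem comm_VU {v u : G} (hv : v ∈ V) (hu : u ∈ U) : v * u = u * v :=
  (q.toVPair.L_comm (q.UL hu) hv).symm

omit [Finite G] in
theorem mem_E {e : G} : e ∈ V ⊔ U ↔ ∃ v ∈ V, ∃ u ∈ U, e = v * u := by
  constructor
  · intro he
    have h1 : U ≤ normalizer (V : Set G) := by
      intro u hu
      rw [mem_normalizer_iff_cj]
      ext x
      rw [mem_cj]
      constructor
      · intro hx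
        have h2 := q.comm_VU hx hu
        have h3 : x = u * (u⁻¹ * x * u) * u⁻¹ := by group
        rw [h3, ← h2]
        have h4 : u⁻¹ * x * u * u * u⁻¹ = u⁻¹ * x * u := by group
        rw [h4]
        exact hx
      · intro hx
        have h2 := q.comm_VU hx hu
        rw [mul_assoc, h2, inv_mul_cancel_left]
        exact hx
    rw [← SetLike.mem_coe, Subgroup.coe_mul_of_right_le_normalizer_left V U h1] at he
    obtain ⟨v, hv, u, hu, rfl⟩ := Set.mem_mul.mp he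
    exact ⟨v, hv, u, hu, rfl⟩
  · rintro ⟨v, hv, u, hu, rfl⟩
    exact mul_mem (mem_sup_left hv) (mem_sup_right hu)

include h

/-- an element of `U` (or any 2-element of `L`) fixing `KK v` is trivial -/
theorem eq_one_of_fixes {v a : G} (hv : v ∈ V) (hv1 : v ≠ 1) (ha : a ∈ KK v) {n : ℕ}
    (hn : a ^ 2 ^ n = 1) (hf : Fixes a (KK v)) : a = 1 := by
  refine eq_one_of_odd (h.comp v (q.mem v hv hv1)) (q.odd v (q.mem v hv hv1)) hf
    ⟨a, ha, ?_⟩ hn
  rw [inv_mul_cancel]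
  exact one_mem _

theorem disj {a : G} (haV : a ∈ V) (haU : a ∈ U) : a = 1 := by
  by_contra ha1
  exact ha1 (q.eq_one_of_fixes h haV ha1 (q.le a haV ha1 (q.UL haU)) (n := 1)
    (by rw [pow_one, pow_two]; exact q.four.sq a haV) (q.fix a haV ha1 a haV))

/-- `V = C_E(KK v / O)` -/
theorem mem_V_iff {v e : G} (hv : v ∈ V) (hv1 : v ≠ 1) (he : e ∈ V ⊔ U) :
    e ∈ V ↔ Fixes e (KK v) := by
  constructor
  · exact q.fix v hv hv1 e
  · intro hf
    obtain ⟨w, hw, u, hu, rfl⟩ := q.mem_E.mp he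
    have h1 : Fixes u (KK v) := by
      have h2 := fixes_mul (fixes_inv (q.fix v hv hv1 w hw)) hf
      rwa [inv_mul_cancel_left] at h2
    have h2 := q.eq_one_of_fixes h hv hv1 (q.le v hv hv1 (q.UL hu)) (n := 1)
      (by rw [pow_one, pow_two]; exact q.fourU.sq u hu) h1
    rw [h2, mul_one]
    exact hw

/-- `U = E ∩ KK v` -/
theorem mem_U_iff {v e : G} (hv : v ∈ V) (hv1 : v ≠ 1) (he : e ∈ V ⊔ U) :
    e ∈ U ↔ e ∈ KK v := by
  constructor
  · intro he
    exact q.le v hv hv1 (q.UL he)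
  · intro hf
    obtain ⟨w, hw, u, hu, rfl⟩ := q.mem_E.mp he
    have h1 : w ∈ KK v := by
      have h2 := mul_mem hf (inv_mem (q.le v hv hv1 (q.UL hu)))
      rwa [mul_inv_cancel_right] at h2
    have h2 := q.eq_one_of_fixes h hv hv1 h1 (n := 1)
      (by rw [pow_one, pow_two]; exact q.four.sq w hw) (q.fix v hv hv1 w hw)
    rw [h2, one_mul]
    exact hu

omit h [Finite G] in
theorem commE : ∀ a ∈ V ⊔ U, ∀ b ∈ V ⊔ U, a * b = b * a := by
  intro a ha b hb
  obtain ⟨v, hv, u, hu, rfl⟩ := q.mem_E.mp ha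
  obtain ⟨v', hv', u', hu', rfl⟩ := q.mem_E.mp hb
  calc v * u * (v' * u') = v * (u * v') * u' := by group
    _ = v * (v' * u) * u' := by rw [q.comm_VU hv' hu]
    _ = (v * v') * (u * u') := by group
    _ = (v' * v) * (u' * u) := by rw [q.four.comm v hv v' hv', q.fourU.comm u hu u' hu']
    _ = v' * (v * u') * u := by group
    _ = v' * (u' * v) * u := by rw [q.comm_VU hv hu']
    _ = v' * u' * (v * u) := by group

omit h [Finite G] in
theorem sqE : ∀ a ∈ V ⊔ U, a * a = 1 := by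
  intro a ha
  obtain ⟨v, hv, u, hu, rfl⟩ := q.mem_E.mp ha
  calc v * u * (v * u) = v * (u * v) * u := by group
    _ = v * (v * u) * u := by rw [q.comm_VU hv hu]
    _ = (v * v) * (u * u) := by group
    _ = 1 := by rw [q.four.sq v hv, q.fourU.sq u hu, one_mul]

theorem cardE : Nat.card (V ⊔ U : Subgroup G) = 16 := by
  let f : V × U → (V ⊔ U : Subgroup G) := fun p => ⟨p.1 * p.2, q.mem_E.mpr ⟨_, p.1.2, _, p.2.2, rfl⟩⟩
  have hf : Function.Bijective f := by
    constructor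
    · rintro ⟨⟨v, hv⟩, ⟨u, hu⟩⟩ ⟨⟨v', hv'⟩, ⟨u', hu'⟩⟩ he
      have h1 : v * u = v' * u' := congrArg Subtype.val he
      have h2 : v'⁻¹ * v = u' * u⁻¹ := by
        rw [inv_mul_eq_iff_eq_mul, ← mul_assoc, ← h1, mul_inv_cancel_right]
      have h3 := q.disj h (mul_mem (inv_mem hv') hv) (by rw [h2]; exact mul_mem hu' (inv_mem hu))
      have h4 : v = v' := (inv_mul_eq_one.mp h3).symm
      rw [h3] at h2
      have h5 : u' = u := mul_inv_eq_one.mp h2.symm
      subst h4 h5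
      rfl
    · rintro ⟨e, he⟩
      obtain ⟨v, hv, u, hu, rfl⟩ := q.mem_E.mp he
      exact ⟨(⟨v, hv⟩, ⟨u, hu⟩), rfl⟩
  rw [← Nat.card_congr (Equiv.ofBijective f hf), Nat.card_prod, q.four.card, q.fourU.card]

theorem stab {g : G} (hg : g ∈ normalizer ((V ⊔ U : Subgroup G) : Set G)) {v : G} (hv : v ∈ V)
    (hv1 : v ≠ 1) (hgv : g * v * g⁻¹ ∈ V) : cj g V = V ∧ cj g U = U := by
  have hgv1 : g * v * g⁻¹ ≠ 1 := by
    intro h1
    apply hv1
    have e : v = g⁻¹ * (g * v * g⁻¹) * g := by group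
    rw [e, h1]; group
  have hK : cj g (KK v) = KK (g * v * g⁻¹) := h.toXBase.cj_KK (q.mem v hv hv1) g
  have hgE : ∀ e ∈ V ⊔ U, g * e * g⁻¹ ∈ V ⊔ U := fun e he => (mem_normalizer_iff.mp hg e).mp he
  constructor
  · apply Subgroup.eq_of_le_of_card_ge
    · rintro _ ⟨w, hw, rfl⟩
      change g * w * g⁻¹ ∈ V
      rw [q.mem_V_iff h hgv hgv1 (hgE w (mem_sup_left hw)), ← hK]
      exact (q.fix v hv hv1 w hw).cj g
    · rw [q.four.card, (q.four.cj g).card]
  · apply Subgroup.eq_of_le_of_card_ge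
    · rintro _ ⟨u, hu, rfl⟩
      change g * u * g⁻¹ ∈ U
      rw [q.mem_U_iff h hgv hgv1 (hgE u (mem_sup_right hu)), ← hK]
      exact conj_mem_cj (q.le v hv hv1 (q.UL hu))
    · rw [q.fourU.card, (q.fourU.cj g).card]

/-- **The configuration of the trichotomy.** -/
theorem tri : Tri (V ⊔ U) V U ρ where
  comm := q.commE
  sq := q.sqE
  VE := le_sup_left
  UE := le_sup_right
  cardE := q.cardE h
  cardV := q.four.card
  cardU := q.fourU.card
  disj := fun a ha hb => q.disj h ha hb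
  stab := fun g hg v hv hv1 hgv => q.stab h hg hv hv1 hgv
  norm := by
    rw [mem_normalizer_iff_cj]
    have h1 : cj ρ V = V := by
      apply Subgroup.eq_of_le_of_card_ge
      · rintro _ ⟨w, hw, rfl⟩
        change ρ * w * ρ⁻¹ ∈ V
        rw [q.toVPair.L_comm q.mem_L hw, mul_inv_cancel_right]
        exact hw
      · rw [q.four.card, (q.four.cj ρ).card]
    have h2 : cj ρ U = U := by
      apply Subgroup.eq_of_le_of_card_ge
      · rintro _ ⟨w, hw, rfl⟩
        exact q.map w hw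
      · rw [q.fourU.card, (q.fourU.cj ρ).card]
    have h3 : cj ρ (V ⊔ U) = cj ρ V ⊔ cj ρ U := Subgroup.map_sup _ _ _
    rw [h3, h1, h2]
  cen := by
    intro v hv
    rw [q.toVPair.L_comm q.mem_L hv, mul_inv_cancel_right]
  map := q.map
  fpf := q.fpf

end

/-! ### (L2): `E` is self-centralizing -/

/-- an involution centralizing the elementary abelian `E` of order 16 is in `E` -/
theorem mem_of_comm {E : Subgroup G} (hr : PRankLE 2 4 G) (hE : Nat.card E = 16)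
    (hc : ∀ a ∈ E, ∀ b ∈ E, a * b = b * a) (hs : ∀ a ∈ E, a * a = 1) {t : G} (ht : t * t = 1)
    (htE : ∀ e ∈ E, t * e = e * t) : t ∈ E := by
  by_contra htn
  have ht' : t⁻¹ = t := inv_eq_of_mul_eq_one_left ht
  let F : Subgroup G :=
    { carrier := {x | x ∈ E ∨ ∃ e ∈ E, x = t * e}
      one_mem' := Or.inl E.one_mem
      mul_mem' := by
        rintro a b (ha | ⟨a, ha, rfl⟩) (hb | ⟨b, hb, rfl⟩)
        · exact Or.inl (E.mul_mem ha hb)
        · refine Or.inr ⟨_, E.mul_mem ha hb, ?_⟩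
          rw [← mul_assoc, ← htE a ha, mul_assoc]
        · refine Or.inr ⟨_, E.mul_mem ha hb, ?_⟩
          rw [mul_assoc]
        · left
          have h1 : t * a * (t * b) = a * b := by
            rw [htE a ha, mul_assoc, ← mul_assoc t, ht, one_mul]
          rw [h1]
          exact E.mul_mem ha hb
      inv_mem' := by
        rintro a (ha | ⟨a, ha, rfl⟩)
        · exact Or.inl (E.inv_mem ha)
        · refine Or.inr ⟨_, E.inv_mem ha, ?_⟩
          rw [mul_inv_rev, ht', htE _ (E.inv_mem ha)] }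
  have hF : ∀ x, x ∈ F ↔ x ∈ E ∨ ∃ e ∈ E, x = t * e := fun x => Iff.rfl
  have hEF : E ≤ F := fun x hx => (hF x).2 (Or.inl hx)
  have htF : t ∈ F := (hF t).2 (Or.inr ⟨1, E.one_mem, (mul_one t).symm⟩)
  have hcomm : ∀ a ∈ F, ∀ b ∈ F, a * b = b * a := by
    rintro a (ha | ⟨a, ha, rfl⟩) b (hb | ⟨b, hb, rfl⟩)
    · exact hc a ha b hb
    · rw [← mul_assoc, ← htE a ha, mul_assoc, hc a ha b hb, mul_assoc]
    · rw [mul_assoc, hc a ha b hb, ← mul_assoc, htE b hb, mul_assoc]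
    · have h1 : t * a * (t * b) = a * b := by
        rw [htE a ha, mul_assoc, ← mul_assoc t, ht, one_mul]
      have h2 : t * b * (t * a) = b * a := by
        rw [htE b hb, mul_assoc, ← mul_assoc t, ht, one_mul]
      rw [h1, h2, hc a ha b hb]
  have hsq : ∀ a ∈ F, a ^ 2 = 1 := by
    rintro a (ha | ⟨a, ha, rfl⟩)
    · rw [pow_two, hs a ha]
    · rw [pow_two]
      have h1 : t * a * (t * a) = a * a := by
        nth_rw 1 [htE a ha]
        rw [mul_assoc, ← mul_assoc t, ht, one_mul]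
      rw [h1, hs a ha]
  have h1 := hr F ⟨⟨fun a b => Subtype.ext (hcomm a a.2 b b.2)⟩⟩ hsq
  have h2 : E < F := lt_of_le_of_ne hEF fun he => htn (he ▸ htF)
  have h3 := Subgroup.card_mul_index (E.subgroupOf F)
  rw [Nat.card_congr (subgroupOfEquivOfLe hEF).toEquiv, hE] at h3
  have h4 : (E.subgroupOf F).index ≠ 1 := by
    intro h5
    rw [Subgroup.index_eq_one, subgroupOf_eq_top] at h5
    exact h2.not_ge h5
  have h5 : (E.subgroupOf F).index ≠ 0 := Subgroup.index_ne_zero_of_finite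
  have h6 : 2 ≤ (E.subgroupOf F).index := by omega
  have h7 : (2 : ℕ) ^ 4 = 16 := by norm_num
  rw [← h3, h7] at h1
  nlinarith

section

variable (h : XSet X N) (q : Quad X V L U ρ)

include h q

/-- A Sylow 2-subgroup `P` of `C(E)` (as a subgroup of `G`) is normalized by an element `l ∈ L` acting on
`E` as `ρ`. -/
theorem exists_l {E C P' : Subgroup G} (hE : E = V ⊔ U) (hC : C = centralizer (E : Set G))
    (P : Sylow 2 C) (hP' : P' = (P : Subgroup C).map C.subtype) :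
    ∃ l ∈ L, (∀ x ∈ P', l * x * l⁻¹ ∈ P') ∧ ∀ e ∈ E, l * e * l⁻¹ = ρ * e * ρ⁻¹ := by
  have t := q.tri h
  rw [← hE] at t
  have hP'C : P' ≤ C := hP' ▸ map_subtype_le _
  have hVE : V ≤ E := hE ▸ le_sup_left
  have hCV : C ≤ centralizer (V : Set G) := hC ▸ Subgroup.centralizer_le hVE
  have hP'L : P' ≤ normalizer (L : Set G) := (hP'C.trans hCV).trans q.cen_le_normalizer
  have hρC : cj ρ C = C := by
    have h1 := mem_normalizer_iff_cj.mp t.norm
    ext x
    rw [mem_cj, hC, mem_centralizer_iff, mem_centralizer_iff]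
    constructor
    · intro hx v hv
      rw [← h1] at hv
      have h4 := hx (ρ⁻¹ * v * ρ) (mem_cj.mp hv)
      have h5 : ρ⁻¹ * (v * x) * ρ = ρ⁻¹ * (x * v) * ρ := by
        calc ρ⁻¹ * (v * x) * ρ = ρ⁻¹ * v * ρ * (ρ⁻¹ * x * ρ) := by group
          _ = ρ⁻¹ * x * ρ * (ρ⁻¹ * v * ρ) := h4
          _ = ρ⁻¹ * (x * v) * ρ := by group
      exact mul_left_cancel (mul_right_cancel h5)
    · intro hx v hv
      have h4 := hx (ρ * v * ρ⁻¹) (by
        rw [← h1]
        exact conj_mem_cj hv)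
      calc v * (ρ⁻¹ * x * ρ) = ρ⁻¹ * (ρ * v * ρ⁻¹ * x) * ρ := by group
        _ = ρ⁻¹ * (x * (ρ * v * ρ⁻¹)) * ρ := by rw [h4]
        _ = ρ⁻¹ * x * ρ * v := by group
  -- the group `M = C ∩ L P'`
  have hPM : (P : Subgroup C) ≤ (L ⊔ P').subgroupOf C := by
    intro x hx
    rw [mem_subgroupOf]
    exact mem_sup_right (hP' ▸ ⟨x, hx, rfl⟩)
  have hRM : (cj ρ P').subgroupOf C ≤ (L ⊔ P').subgroupOf C := by
    rintro x hx
    rw [mem_subgroupOf] at hx ⊢
    obtain ⟨y, hy, hyx⟩ := hx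
    rw [← hyx]
    change ρ * y * ρ⁻¹ ∈ L ⊔ P'
    exact mul_mem (mul_mem (mem_sup_left q.mem_L) (mem_sup_right hy))
      (inv_mem (mem_sup_left q.mem_L))
  have hRp : IsPGroup 2 ((cj ρ P').subgroupOf C) := by
    have h1 : IsPGroup 2 P' := hP' ▸ P.2.map _
    have h2 : IsPGroup 2 (cj ρ P') := h1.map _
    exact h2.comap_subtype
  obtain ⟨n, hn, hnP⟩ := L2W.conj_into P hPM hRM hRp
  have hn1 : ∀ x ∈ P', (n : G) * ρ * x * ((n : G) * ρ)⁻¹ ∈ P' := by
    intro x hx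
    have h1 : ρ * x * ρ⁻¹ ∈ C := by
      rw [← hρC]
      exact conj_mem_cj (hP'C hx)
    have h2 := hnP ⟨ρ * x * ρ⁻¹, h1⟩ (conj_mem_cj hx)
    rw [hP']
    refine ⟨_, h2, ?_⟩
    change (n : G) * (ρ * x * ρ⁻¹) * (n : G)⁻¹ = _
    group
  -- `n ρ = l p₀`
  have hnρ : (n : G) * ρ ∈ L ⊔ P' := mul_mem hn (mem_sup_left q.mem_L)
  rw [← SetLike.mem_coe, Subgroup.coe_mul_of_right_le_normalizer_left L P' hP'L] at hnρ
  obtain ⟨l, hl, p₀, hp₀, hlp⟩ := Set.mem_mul.mp hnρ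
  have hl' : l = (n : G) * ρ * p₀⁻¹ := by rw [← hlp, mul_inv_cancel_right]
  refine ⟨l, hl, ?_, ?_⟩
  · intro x hx
    have h1 := hn1 _ (mul_mem (mul_mem (inv_mem hp₀) hx) hp₀)
    have e : l * x * l⁻¹ = (n : G) * ρ * (p₀⁻¹ * x * p₀) * ((n : G) * ρ)⁻¹ := by
      rw [hl']; group
    rw [e]
    exact h1
  · intro e he
    have h1 : p₀⁻¹ * e * p₀ = e := by
      have h2 := mem_centralizer_iff.mp (hC ▸ hP'C hp₀) e he
      rw [mul_assoc, h2, inv_mul_cancel_left]
    have h2 : ρ * e * ρ⁻¹ ∈ E := (mem_normalizer_iff.mp t.norm e).mp he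
    have h3 : (n : G) * (ρ * e * ρ⁻¹) * (n : G)⁻¹ = ρ * e * ρ⁻¹ := by
      have h4 := mem_centralizer_iff.mp (hC.le n.2) _ h2
      rw [← h4, mul_inv_cancel_right]
    have e1 : l * e * l⁻¹ = (n : G) * (ρ * (p₀⁻¹ * e * p₀) * ρ⁻¹) * (n : G)⁻¹ := by
      rw [hl']; group
    rw [e1, h1, h3]

/-- **(L2)** If `V` is not normal in `N(E)` then the 2-elements of `C(E)` are in `E`. -/
theorem cen_E (hr : PRankLE 2 4 G)
    (hmove : ∃ g ∈ normalizer ((V ⊔ U : Subgroup G) : Set G), cj g V ≠ V) :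
    ∀ a : G, (∀ e ∈ V ⊔ U, a * e = e * a) → ∀ n : ℕ, a ^ 2 ^ n = 1 → a ∈ V ⊔ U := by
  classical
  have t := q.tri h
  obtain ⟨E, hE⟩ : ∃ E : Subgroup G, E = V ⊔ U := ⟨_, rfl⟩
  rw [← hE] at t hmove ⊢
  obtain ⟨C, hC⟩ : ∃ C : Subgroup G, C = centralizer (E : Set G) := ⟨_, rfl⟩
  obtain ⟨P⟩ : Nonempty (Sylow 2 C) := inferInstance
  obtain ⟨P', hP'⟩ : ∃ P' : Subgroup G, P' = (P : Subgroup C).map C.subtype := ⟨_, rfl⟩
  obtain ⟨l, hl, hlP, hlE⟩ := q.exists_l h hE hC P hP'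
  have hP'C : P' ≤ C := hP' ▸ map_subtype_le _
  have hVE : V ≤ E := hE ▸ le_sup_left
  have hUE : U ≤ E := hE ▸ le_sup_right
  have hPcomm : ∀ x ∈ P', ∀ e ∈ E, x * e = e * x := fun x hx e he =>
    (mem_centralizer_iff.mp (hC ▸ hP'C hx) e he).symm
  have hPp : IsPGroup 2 P' := hP' ▸ P.2.map _
  have hP2 : ∀ x ∈ P', ∃ k : ℕ, x ^ 2 ^ k = 1 := by
    intro x hx
    obtain ⟨k, hk⟩ := hPp ⟨x, hx⟩
    exact ⟨k, congrArg Subtype.val hk⟩
  -- `E ≤ P'`
  have hEC : E ≤ C := by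
    intro e he
    rw [hC, mem_centralizer_iff]
    intro b hb
    exact t.comm b hb e he
  have hEP : E ≤ P' := by
    have h1 : (E.subgroupOf C).Normal := by
      refine ⟨fun e he c => ?_⟩
      rw [mem_subgroupOf] at he ⊢
      have h2 := mem_centralizer_iff.mp (hC.le c.2) _ he
      change (c : G) * e * (c : G)⁻¹ ∈ E
      rw [← h2, mul_inv_cancel_right]
      exact he
    have h2 : IsPGroup 2 (E.subgroupOf C) := by
      rintro ⟨x, hx⟩
      refine ⟨1, ?_⟩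
      rw [mem_subgroupOf] at hx
      apply Subtype.ext
      apply Subtype.ext
      simpa [pow_two] using t.sq _ hx
    have h3 : IsPGroup 2 ((P : Subgroup C) ⊔ E.subgroupOf C : Subgroup C) :=
      P.2.to_sup_of_normal_right h2
    have h4 := P.3 h3 le_sup_left
    intro e he
    rw [hP']
    refine ⟨⟨e, hEC he⟩, ?_, rfl⟩
    have h5 : (⟨e, hEC he⟩ : C) ∈ (P : Subgroup C) ⊔ E.subgroupOf C := mem_sup_right he
    rw [h4] at h5
    exact h5
  have hP'V : ∀ x ∈ P', x ∈ normalizer (L : Set G) := fun x hx =>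
    q.cen_le_normalizer (Subgroup.centralizer_le hVE (hC ▸ hP'C hx))
  -- `[l, x] ∈ U`
  have hcU : ∀ x ∈ P', l * x * l⁻¹ * x⁻¹ ∈ U := by
    intro x hx
    have h1 : l * x * l⁻¹ * x⁻¹ ∈ P' := mul_mem (hlP x hx) (inv_mem hx)
    obtain ⟨k, hk⟩ := hP2 _ h1
    refine q.self _ ?_ ?_ k hk
    · have h2 : x * l⁻¹ * x⁻¹ ∈ L := (mem_normalizer_iff.mp (hP'V x hx) _).mp (inv_mem hl)
      have e : l * x * l⁻¹ * x⁻¹ = l * (x * l⁻¹ * x⁻¹) := by group
      rw [e]
      exact mul_mem hl h2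
    · intro u hu
      exact hPcomm _ h1 u (hUE hu)
  -- decomposition `P' = U × C_{P'}(l)`
  have hdec : ∀ x ∈ P', ∃ u ∈ U, l * (u * x) * l⁻¹ = u * x := by
    intro x hx
    have hw := hcU x hx
    set w : G := l * x * l⁻¹ * x⁻¹ with hwdef
    -- `u = ρ w ρ⁻¹`
    refine ⟨ρ * w * ρ⁻¹, q.map w hw, ?_⟩
    have h1 : l * (ρ * w * ρ⁻¹) * l⁻¹ = w * (ρ * w * ρ⁻¹) := by
      rw [hlE _ (hUE (q.map w hw)), q.fourU.rho_sq q.map q.fpf hw]
    have h2 : l * x * l⁻¹ = w * x := by rw [hwdef]; group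
    have e : l * (ρ * w * ρ⁻¹ * x) * l⁻¹ = (l * (ρ * w * ρ⁻¹) * l⁻¹) * (l * x * l⁻¹) := by group
    rw [e, h1, h2]
    have h3 := q.fourU.comm w hw _ (q.map w hw)
    calc w * (ρ * w * ρ⁻¹) * (w * x) = (ρ * w * ρ⁻¹ * w) * (w * x) := by rw [h3]
      _ = ρ * w * ρ⁻¹ * (w * w) * x := by group
      _ = ρ * w * ρ⁻¹ * x := by rw [q.fourU.sq w hw, mul_one]
  -- involutions of `P'` commuting with `l` are in `V`
  have hinv : ∀ x ∈ P', x * x = 1 → l * x * l⁻¹ = x → x ∈ V := by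
    intro x hx hx2 hxl
    have h1 := mem_of_comm hr t.cardE t.comm t.sq hx2 (hPcomm x hx)
    obtain ⟨v, hv, u, hu, rfl⟩ := q.mem_E.mp (hE ▸ h1)
    rw [hlE _ h1] at hxl
    have h2 : ρ * (v * u) * ρ⁻¹ = (ρ * v * ρ⁻¹) * (ρ * u * ρ⁻¹) := by group
    rw [h2, t.cen v hv] at hxl
    have h3 := mul_left_cancel hxl
    by_cases hu1 : u = 1
    · rw [hu1, mul_one]; exact hv
    · exact absurd h3 (q.fpf u hu hu1)
  -- main step
  have hPE : P' ≤ E := by
    by_contra hcon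
    obtain ⟨x₀, hx₀, hx₀E⟩ := SetLike.not_le_iff_exists.mp hcon
    obtain ⟨u₀, hu₀, hz⟩ := hdec x₀ hx₀
    set z := u₀ * x₀ with hzdef
    have hzP : z ∈ P' := mul_mem (hEP (hUE hu₀)) hx₀
    have hz2 : z * z ≠ 1 := by
      intro h1
      have h2 := mem_of_comm hr t.cardE t.comm t.sq h1 (hPcomm z hzP)
      apply hx₀E
      have h3 := E.mul_mem (E.inv_mem (hUE hu₀)) h2
      rwa [hzdef, inv_mul_cancel_left] at h3
    -- the largest `m` with a nontrivial `2^m`-th power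
    let Pr : ℕ → Prop := fun k => ∃ x ∈ P', x ^ 2 ^ k ≠ 1
    obtain ⟨K, hK⟩ : ∃ K : ℕ, ∀ k, Pr k → k ≤ K := by
      obtain ⟨K, hK⟩ := IsPGroup.iff_card.mp hPp
      refine ⟨K, ?_⟩
      rintro k ⟨x, hx, hxk⟩
      by_contra hlt
      push Not at hlt
      apply hxk
      have h1 : orderOf x ∣ 2 ^ K := by
        rw [← hK]
        exact Subgroup.orderOf_dvd_natCard P' hx
      exact orderOf_dvd_iff_pow_eq_one.mp (h1.trans (pow_dvd_pow 2 hlt.le))
    have h1P : Pr 1 := ⟨z, hzP, by rw [pow_one, pow_two]; exact hz2⟩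
    obtain ⟨m, hm1, hPm, hmmax⟩ : ∃ m, 1 ≤ m ∧ Pr m ∧ ∀ k, Pr k → k ≤ m := by
      classical
      refine ⟨Nat.findGreatest Pr K, Nat.le_findGreatest (hK 1 h1P) h1P,
        Nat.findGreatest_spec (hK 1 h1P) h1P, fun k hk => Nat.le_findGreatest (hK k hk) hk⟩
    have hmm : ∀ x ∈ P', x ^ 2 ^ (m + 1) = 1 := by
      intro x hx
      by_contra hx1
      have := hmmax (m + 1) ⟨x, hx, hx1⟩
      omega
    have hpowV : ∀ x ∈ P', x ^ 2 ^ m ∈ V := by
      intro x hx
      obtain ⟨u, hu, hux⟩ := hdec x hx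
      have huxP : u * x ∈ P' := mul_mem (hEP (hUE hu)) hx
      have hcomm : Commute u x := (hPcomm x hx u (hUE hu)).symm
      have h2 : (u * x) ^ 2 ^ m = x ^ 2 ^ m := by
        rw [hcomm.mul_pow]
        obtain ⟨m', rfl⟩ : ∃ m', m = m' + 1 := ⟨m - 1, by omega⟩
        have h3 : u ^ 2 ^ (m' + 1) = 1 := by
          rw [pow_succ, mul_comm, pow_mul, pow_two, q.fourU.sq u hu, one_pow]
        rw [h3, one_mul]
      rw [← h2]
      apply hinv
      · exact pow_mem huxP _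
      · rw [← pow_two, ← pow_mul, ← pow_succ]
        exact hmm _ huxP
      · have h3 : l * (u * x) ^ 2 ^ m * l⁻¹ = (l * (u * x) * l⁻¹) ^ 2 ^ m := by
          rw [conj_pow]
        rw [h3, hux]
    obtain ⟨x, hx, hxm⟩ := hPm
    obtain ⟨g, hg, hgV⟩ := hmove
    apply hgV
    -- a conjugate
    have hgC : ∀ y ∈ C, g * y * g⁻¹ ∈ C := by
      intro y hy
      rw [hC, mem_centralizer_iff] at hy ⊢
      intro e he
      have h1 : g⁻¹ * e * g ∈ E := by
        have h2 := (mem_normalizer_iff.mp (inv_mem hg) e).mp he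
        rwa [inv_inv] at h2
      have h2 := hy _ h1
      calc e * (g * y * g⁻¹) = g * (g⁻¹ * e * g * y) * g⁻¹ := by group
        _ = g * (y * (g⁻¹ * e * g)) * g⁻¹ := by rw [h2]
        _ = g * y * g⁻¹ * e := by group
    have hRp : IsPGroup 2 ((cj g P').subgroupOf C) := by
      have h2 : IsPGroup 2 (cj g P') := hPp.map _
      exact h2.comap_subtype
    obtain ⟨n, -, hnP⟩ := L2W.conj_into P (le_top : (P : Subgroup C) ≤ ⊤) (le_top) hRp
    have h1 := hnP ⟨g * x * g⁻¹, hgC x (hP'C hx)⟩ (conj_mem_cj hx)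
    have h2 : (n : G) * (g * x * g⁻¹) * (n : G)⁻¹ ∈ P' := hP' ▸ ⟨_, h1, rfl⟩
    have h3 := hpowV _ h2
    have h4 : g * (x ^ 2 ^ m) * g⁻¹ ∈ E :=
      (mem_normalizer_iff.mp hg _).mp (hVE (hpowV x hx))
    have h5 : ((n : G) * (g * x * g⁻¹) * (n : G)⁻¹) ^ 2 ^ m = g * (x ^ 2 ^ m) * g⁻¹ := by
      rw [conj_pow, conj_pow]
      have h6 := mem_centralizer_iff.mp (hC.le n.2) _ h4
      rw [← h6, mul_inv_cancel_right]
    rw [h5] at h3
    exact (t.stab g hg _ (hpowV x hx) hxm h3).1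
  -- conclusion
  intro a ha n hn
  have haC : a ∈ C := by
    rw [hC, mem_centralizer_iff]
    intro e he
    exact (ha e he).symm
  have hRp : IsPGroup 2 ((zpowers a).subgroupOf C) := by
    have h2 : IsPGroup 2 (zpowers a) := by
      rw [IsPGroup.iff_card]
      have h3 : Nat.card (zpowers a) ∣ 2 ^ n := by
        rw [Nat.card_zpowers]
        exact orderOf_dvd_of_pow_eq_one hn
      exact ((Nat.dvd_prime_pow Nat.prime_two).mp h3).imp fun k hk => hk.2
    exact h2.comap_subtype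
  obtain ⟨c, -, hcP⟩ := L2W.conj_into P (le_top : (P : Subgroup C) ≤ ⊤) (le_top) hRp
  have h1 := hcP ⟨a, haC⟩ (mem_zpowers a)
  have h2 : (c : G) * a * (c : G)⁻¹ ∈ E := hPE (hP' ▸ ⟨_, h1, rfl⟩)
  have h3 := mem_centralizer_iff.mp (hC.le c.2) _ h2
  have h4 : a = (c : G)⁻¹ * ((c : G) * a * (c : G)⁻¹) * c := by group
  rw [h4, mul_assoc, h3, inv_mul_cancel_left]
  exact h2

end

/-! ### (L3): the structure of `C(v)` in case `(T4)` -/

omit [Finite G] in
/-- A 2-subgroup `R` of `L` is `L`-conjugate into every subgroup `M` of odd index. -/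
theorem conj_into_odd {L M R : Subgroup G} (hodd : Odd (M.relIndex L)) (hR : IsPGroup 2 R)
    (hRL : R ≤ L) : ∃ l ∈ L, ∀ r ∈ R, l⁻¹ * r * l ∈ M := by
  have : Fact (Nat.Prime 2) := ⟨Nat.prime_two⟩
  have hR' : IsPGroup 2 (R.subgroupOf L) := hR.comap_subtype
  have h1 : ¬ 2 ∣ Nat.card (L ⧸ M.subgroupOf L) := by
    intro h2
    have h3 : Odd (Nat.card (L ⧸ M.subgroupOf L)) := hodd
    exact (Nat.not_even_iff_odd.mpr h3) (even_iff_two_dvd.mpr h2)
  obtain ⟨x, hx⟩ := hR'.nonempty_fixed_point_of_prime_not_dvd_card _ h1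
  obtain ⟨l, rfl⟩ := QuotientGroup.mk_surjective x
  refine ⟨l, l.2, fun r hr => ?_⟩
  have h2 := hx ⟨⟨r, hRL hr⟩, mem_subgroupOf.mpr hr⟩
  have h3 : ((⟨r, hRL hr⟩ * l : L) : L ⧸ M.subgroupOf L) = (l : L ⧸ M.subgroupOf L) := h2
  have h4 := QuotientGroup.eq.mp h3.symm
  rw [mem_subgroupOf] at h4
  have h5 : (l : G)⁻¹ * r * l = (l : G)⁻¹ * (r * l) := by group
  rw [h5]
  exact h4

/-- `M` covers `L / O(L)`: it has odd index. -/
theorem odd_relIndex {M L : Subgroup G} (hs : M ⊔ core L = L) : Odd (M.relIndex L) := by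
  have hML : M ≤ L := by rw [← hs]; exact le_sup_left
  let f : M →* Bar L := (QuotientGroup.mk' (oddCore ↥L)).comp (inclusion hML)
  have hf : Function.Surjective f := by
    intro y
    obtain ⟨⟨x, hx⟩, rfl⟩ := QuotientGroup.mk'_surjective _ y
    obtain ⟨j, hj, hc⟩ := exists_mul_of_sup hs hx
    exact ⟨⟨j, hj⟩, mk_eq_mk_iff.mpr hc⟩
  have h1 : Nat.card M = Nat.card f.ker * Nat.card (Bar L) := by
    rw [← Subgroup.card_mul_index f.ker, Subgroup.index_ker, MonoidHom.range_eq_top.mpr hf,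
      Subgroup.card_top]
  have h2 : Nat.card L = Nat.card (oddCore ↥L) * Nat.card (Bar L) :=
    (Subgroup.card_mul_index (oddCore ↥L)).symm
  have h3 : Nat.card M * M.relIndex L = Nat.card L := by
    have h4 := Subgroup.card_mul_index (M.subgroupOf L)
    rwa [Nat.card_congr (subgroupOfEquivOfLe hML).toEquiv] at h4
  rw [h1, h2] at h3
  have h5 : 0 < Nat.card (Bar L) := Nat.card_pos
  have h6 : Nat.card f.ker * M.relIndex L = Nat.card (oddCore ↥L) := by
    apply Nat.eq_of_mul_eq_mul_right h5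
    rw [← h3]
    ring
  have h7 : Odd (Nat.card (oddCore ↥L)) := Nat.coprime_two_right.1 (Cores.pPrimeCore_coprime 2)
  exact h7.of_dvd_nat (Dvd.intro_left _ h6)

omit [Finite G] in
/-- A 2-element normalizing a four-group fixes one of its involutions. -/
theorem _root_.Cfsg.Agent.GH.L2Tri.Four.exists_fixed {V : Subgroup G} (hV : Four V) {t : G}
    (ht : ∀ v ∈ V, t * v * t⁻¹ ∈ V) {n : ℕ} (hn : t ^ 2 ^ n = 1) :
    ∃ v ∈ V, v ≠ 1 ∧ t * v * t⁻¹ = v := by
  by_contra hcon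
  push Not at hcon
  have h1 : ∀ v ∈ V, (t ^ 3) * v = v * t ^ 3 := by
    intro v hv
    have h2 := hV.rho_cube ht hcon hv
    have e : t * (t * (t * v * t⁻¹) * t⁻¹) * t⁻¹ = (t ^ 3) * v * (t ^ 3)⁻¹ := by
      rw [pow_succ, pow_two]
      group
    rw [e, mul_inv_eq_iff_eq_mul] at h2
    exact h2
  have h2 : Nat.Coprime 3 (orderOf t) := by
    have h3 : orderOf t ∣ 2 ^ n := orderOf_dvd_of_pow_eq_one hn
    exact Nat.Coprime.coprime_dvd_right h3 (Nat.Coprime.pow_right n (by norm_num))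
  obtain ⟨m, hm⟩ := exists_pow_eq_self_of_coprime h2
  obtain ⟨v, hv, hv1⟩ := hV.exists_ne
  apply hcon v hv hv1
  have h3 : Commute (t ^ 3) v := h1 v hv
  have h4 := h3.pow_left m
  rw [hm] at h4
  rw [h4.eq, mul_inv_cancel_right]

section

variable (h : XSet X N) (q : Quad X V L U ρ)

include h q

/-- **(L3)** `(T4)`: a 2-group `R ≥ V` centralizing `v ∈ V#` and fixing `KK v` is `V`. -/
theorem t4_Q (hr : PRankLE 2 4 G) (t4 : T4 (V ⊔ U) V U ρ) {v : G} (hv : v ∈ V) (hv1 : v ≠ 1)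
    {R : Subgroup G} (hR : IsPGroup 2 R) (hVR : V ≤ R) (hRv : ∀ r ∈ R, r * v = v * r)
    (hRf : ∀ r ∈ R, Fixes r (KK v)) : R = V := by
  have : Fact (Nat.Prime 2) := ⟨Nat.prime_two⟩
  have tt := q.tri h
  by_contra hne
  have hlt : V < R := lt_of_le_of_ne hVR (Ne.symm hne)
  -- an element of `R - V` normalizing `V`
  obtain ⟨t, ht, htV, htN⟩ : ∃ t ∈ R, t ∉ V ∧ t ∈ normalizer (V : Set G) := by
    have h1 : V.subgroupOf R ≠ ⊤ := by
      intro h2
      rw [subgroupOf_eq_top] at h2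
      exact hlt.not_ge h2
    have hfin : Finite R := inferInstance
    have h2 : Group.IsNilpotent R := hR.isNilpotent
    have h3 := Group.normalizerCondition_of_isNilpotent (G := R)
    have h4 := h3 (V.subgroupOf R) (lt_top_iff_ne_top.mpr h1)
    obtain ⟨t, ht, htn⟩ := SetLike.exists_of_lt h4
    refine ⟨t, t.2, fun h5 => htn (mem_subgroupOf.mpr h5), ?_⟩
    rw [mem_normalizer_iff] at ht ⊢
    intro x
    constructor
    · intro hx
      exact (ht ⟨x, hVR hx⟩).mp hx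
    · intro hx
      have h5 : (t : G)⁻¹ * ((t : G) * x * (t : G)⁻¹) * t ∈ R :=
        mul_mem (mul_mem (inv_mem t.2) (hVR hx)) t.2
      have h6 : (t : G)⁻¹ * ((t : G) * x * (t : G)⁻¹) * t = x := by group
      rw [h6] at h5
      exact (ht ⟨x, h5⟩).mpr hx
  obtain ⟨n, hn⟩ : ∃ n : ℕ, t ^ 2 ^ n = 1 := by
    obtain ⟨n, hn⟩ := hR ⟨t, ht⟩
    exact ⟨n, congrArg Subtype.val hn⟩
  have htL : t ∈ normalizer (L : Set G) := q.toVPair.normalizer_le_normalizer htN
  have hfL : Fixes t L := (fixes_iff_of_sup (q.sup v hv hv1) htL (hRf t ht).1).mpr (hRf t ht)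
  -- `C_L(t)` covers
  have hWp : IsPGroup 2 (zpowers t) := hR.to_le ((zpowers_le).mpr ht)
  have hcov := inf_centralizer_sup (X := L) hWp (by
    intro w hw
    obtain ⟨k, rfl⟩ := mem_zpowers_iff.mp hw
    exact (fixer L).zpow_mem hfL k)
  obtain ⟨l, hl, hlU⟩ := conj_into_odd (odd_relIndex hcov) (R := U) (by
    rintro ⟨u, hu⟩
    refine ⟨1, ?_⟩
    apply Subtype.ext
    simpa [pow_two] using q.fourU.sq u hu) q.UL
  -- `t' = l t l⁻¹` centralizes `U`
  set t' : G := l * t * l⁻¹ with ht'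
  have hU' : ∀ u ∈ U, t' * u * t'⁻¹ = u := by
    intro u hu
    have h1 := mem_centralizer_iff.mp (hlU u hu).2 t (mem_zpowers t)
    have e : t' * u * t'⁻¹ = l * (t * (l⁻¹ * u * l)) * t⁻¹ * l⁻¹ := by rw [ht']; group
    rw [e, h1]
    group
  have hl' : ∀ w ∈ V, l⁻¹ * w * l = w := by
    intro w hw
    have h1 := q.toVPair.L_comm (inv_mem hl) hw
    rw [h1, inv_mul_cancel_right]
  have hlV : ∀ w ∈ V, l * w * l⁻¹ = w := by
    intro w hw
    rw [q.toVPair.L_comm hl hw, mul_inv_cancel_right]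
  have ht'V : ∀ w ∈ V, t' * w * t'⁻¹ = t * w * t⁻¹ := by
    intro w hw
    have e : t' * w * t'⁻¹ = l * (t * (l⁻¹ * w * l) * t⁻¹) * l⁻¹ := by rw [ht']; group
    rw [e, hl' w hw]
    exact hlV _ ((mem_normalizer_iff.mp htN w).mp hw)
  have ht'N : t' ∈ normalizer ((V ⊔ U : Subgroup G) : Set G) := by
    rw [mem_normalizer_iff_cj]
    have h3 : cj t' (V ⊔ U) = cj t' V ⊔ cj t' U := Subgroup.map_sup _ _ _
    rw [h3]
    congr 1
    · apply Subgroup.eq_of_le_of_card_ge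
      · rintro _ ⟨w, hw, rfl⟩
        change t' * w * t'⁻¹ ∈ V
        rw [ht'V w hw]
        exact (mem_normalizer_iff.mp htN w).mp hw
      · rw [q.four.card, (q.four.cj t').card]
    · apply Subgroup.eq_of_le_of_card_ge
      · rintro _ ⟨w, hw, rfl⟩
        change t' * w * t'⁻¹ ∈ U
        rw [hU' w hw]
        exact hw
      · rw [q.fourU.card, (q.fourU.cj t').card]
  have h5 : t' * v * t'⁻¹ = v := by
    rw [ht'V v hv, hRv t ht, mul_inv_cancel_right]
  have h6 := t4.cen_V tt ht'N hU' hv hv1 h5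
  obtain ⟨g, hg, hgV⟩ := t4.move
  have h7 : t' ∈ V ⊔ U := by
    refine q.cen_E h hr ⟨g, hg, hgV⟩ t' ?_ n ?_
    · intro e he
      obtain ⟨w, hw, u, hu, rfl⟩ := q.mem_E.mp he
      have e1 : t' * (w * u) * t'⁻¹ = (t' * w * t'⁻¹) * (t' * u * t'⁻¹) := by group
      rw [h6 w hw, hU' u hu] at e1
      rw [← e1, inv_mul_cancel_right]
      rw [e1]
    · rw [ht', conj_pow, hn]; group
  have h8 : Fixes t' (KK v) := by
    have h9 := (hRf t ht).cj l
    have h10 : cj l (KK v) = KK v := cj_eq_self_of_mem (q.le v hv hv1 hl)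
    rwa [h10] at h9
  have h9 := (q.mem_V_iff h hv hv1 h7).mpr h8
  apply htV
  have e : t = l⁻¹ * t' * l := by rw [ht']; group
  rw [e, hl' _ h9]
  exact h9

/-- **(L3)** `(T4)`: `U` is a Sylow 2-subgroup of `L`. -/
theorem t4_D (t4 : T4 (V ⊔ U) V U ρ)
    {R : Subgroup G} (hR : IsPGroup 2 R) (hUR : U ≤ R) (hRL : R ≤ L) : R = U := by
  have : Fact (Nat.Prime 2) := ⟨Nat.prime_two⟩
  have tt := q.tri h
  by_contra hne
  have hlt : U < R := lt_of_le_of_ne hUR (Ne.symm hne)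
  obtain ⟨t, ht, htV, htN⟩ : ∃ t ∈ R, t ∉ U ∧ t ∈ normalizer (U : Set G) := by
    have h1 : U.subgroupOf R ≠ ⊤ := by
      intro h2
      rw [subgroupOf_eq_top] at h2
      exact hlt.not_ge h2
    have hfin : Finite R := inferInstance
    have h2 : Group.IsNilpotent R := hR.isNilpotent
    have h3 := Group.normalizerCondition_of_isNilpotent (G := R)
    have h4 := h3 (U.subgroupOf R) (lt_top_iff_ne_top.mpr h1)
    obtain ⟨t, ht, htn⟩ := SetLike.exists_of_lt h4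
    refine ⟨t, t.2, fun h5 => htn (mem_subgroupOf.mpr h5), ?_⟩
    rw [mem_normalizer_iff] at ht ⊢
    intro x
    constructor
    · intro hx
      exact (ht ⟨x, hUR hx⟩).mp hx
    · intro hx
      have h5 : (t : G)⁻¹ * ((t : G) * x * (t : G)⁻¹) * t ∈ R :=
        mul_mem (mul_mem (inv_mem t.2) (hUR hx)) t.2
      have h6 : (t : G)⁻¹ * ((t : G) * x * (t : G)⁻¹) * t = x := by group
      rw [h6] at h5
      exact (ht ⟨x, h5⟩).mpr hx
  obtain ⟨n, hn⟩ : ∃ n : ℕ, t ^ 2 ^ n = 1 := by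
    obtain ⟨n, hn⟩ := hR ⟨t, ht⟩
    exact ⟨n, congrArg Subtype.val hn⟩
  have hVt : ∀ w ∈ V, t * w * t⁻¹ = w := by
    intro w hw
    rw [q.toVPair.L_comm (hRL ht) hw, mul_inv_cancel_right]
  have htU : ∀ u ∈ U, t * u * t⁻¹ ∈ U := fun u hu => (mem_normalizer_iff.mp htN u).mp hu
  have htN' : t ∈ normalizer ((V ⊔ U : Subgroup G) : Set G) := by
    rw [mem_normalizer_iff_cj]
    have h3 : cj t (V ⊔ U) = cj t V ⊔ cj t U := Subgroup.map_sup _ _ _
    rw [h3]
    congr 1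
    · apply Subgroup.eq_of_le_of_card_ge
      · rintro _ ⟨w, hw, rfl⟩
        change t * w * t⁻¹ ∈ V
        rw [hVt w hw]
        exact hw
      · rw [q.four.card, (q.four.cj t).card]
    · exact mem_normalizer_iff_cj.mp htN
  obtain ⟨u₀, hu₀, hu₀1, hfix⟩ := q.fourU.exists_fixed htU hn
  have h1 := t4.cen_U tt htN' hVt hu₀ hu₀1 hfix
  exact htV (q.self t (hRL ht) (fun u hu => mul_inv_eq_iff_eq_mul.mp (h1 u hu)) n hn)

/-- **(L3)** `(T4)`: `U` is a Sylow 2-subgroup of `KK v`. -/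
theorem t4_KK (t4 : T4 (V ⊔ U) V U ρ) {v : G} (hv : v ∈ V) (hv1 : v ≠ 1)
    {R : Subgroup G} (hR : IsPGroup 2 R) (hUR : U ≤ R) (hRL : R ≤ KK v) : R = U := by
  have : Fact (Nat.Prime 2) := ⟨Nat.prime_two⟩
  -- `R` is conjugate into `L`
  obtain ⟨k, hk, hkR⟩ := conj_into_odd (odd_relIndex (q.sup v hv hv1)) hR hRL
  let R₁ : Subgroup G := cj k⁻¹ R
  have hR₁L : R₁ ≤ L := by
    rintro _ ⟨r, hr', rfl⟩
    have h1 := hkR r hr'
    change k⁻¹ * r * k⁻¹⁻¹ ∈ L
    rwa [inv_inv]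
  have hR₁p : IsPGroup 2 R₁ := hR.map _
  -- Sylow subgroups of `L` have order four
  have hUp : IsPGroup 2 U := by
    rintro ⟨u, hu⟩
    refine ⟨1, ?_⟩
    apply Subtype.ext
    simpa [pow_two] using q.fourU.sq u hu
  obtain ⟨P, hP⟩ := (hUp.comap_subtype : IsPGroup 2 (U.subgroupOf L)).exists_le_sylow
  have hPU : (P : Subgroup L).map L.subtype = U := by
    apply q.t4_D h t4 (P.2.map _)
    · intro u hu
      exact ⟨⟨u, q.UL hu⟩, hP (mem_subgroupOf.mpr hu), rfl⟩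
    · exact map_subtype_le _
  obtain ⟨c, -, hc⟩ := L2W.conj_into P (le_top : (P : Subgroup L) ≤ ⊤) (le_top)
    (hR₁p.comap_subtype : IsPGroup 2 (R₁.subgroupOf L))
  have h1 : cj (c : G) R₁ ≤ U := by
    rintro _ ⟨r, hr', rfl⟩
    have h2 := hc ⟨r, hR₁L hr'⟩ (mem_subgroupOf.mpr hr')
    rw [← hPU]
    exact ⟨_, h2, rfl⟩
  have h2 : Nat.card R ≤ Nat.card U := by
    have h3 := card_le_of_le h1
    have h4 : Nat.card (cj (c : G) R₁) = Nat.card R₁ :=
      card_map_of_injective (MulAut.conj (c : G)).injective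
    have h5 : Nat.card R₁ = Nat.card R := card_map_of_injective (MulAut.conj k⁻¹).injective
    rw [h4, h5] at h3
    exact h3
  exact (Subgroup.eq_of_le_of_card_ge hUR h2).symm

/-- **(L3)** `(T4)`: a 2-group `T ≥ E` centralizing `v ∈ V#` normalizes `V` and `U`, and `|T : E| ≤ 2`. -/
theorem t4_T (hr : PRankLE 2 4 G) (t4 : T4 (V ⊔ U) V U ρ) {v : G} (hv : v ∈ V) (hv1 : v ≠ 1)
    {T : Subgroup G} (hT : IsPGroup 2 T) (hET : V ⊔ U ≤ T) (hTv : ∀ t ∈ T, t * v = v * t) :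
    (∀ t ∈ T, cj t V = V ∧ cj t U = U) ∧
      ∀ a ∈ T, ∀ b ∈ T, a ∉ V ⊔ U → b ∉ V ⊔ U → a * b ∈ V ⊔ U := by
  have : Fact (Nat.Prime 2) := ⟨Nat.prime_two⟩
  have tt := q.tri h
  have hvX := q.mem v hv hv1
  have hTN : ∀ t ∈ T, t ∈ normalizer (KK v : Set G) := fun t ht =>
    h.toXBase.mem_normalizer hvX (hTv t ht)
  -- `T` normalizes `V = T ∩ fixer`
  have hQ : T ⊓ fixer (KK v) = V := by
    apply q.t4_Q h hr t4 hv hv1 (hT.to_le inf_le_left)
    · intro w hw
      exact ⟨hET (mem_sup_left hw), q.fix v hv hv1 w hw⟩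
    · intro r hr'
      exact hTv r hr'.1
    · intro r hr'
      exact hr'.2
  have hD : T ⊓ KK v = U := by
    apply q.t4_KK h t4 hv hv1 (hT.to_le inf_le_left)
    · intro w hw
      exact ⟨hET (mem_sup_right hw), q.le v hv hv1 (q.UL hw)⟩
    · exact inf_le_right
  have hnorm : ∀ t ∈ T, cj t V = V ∧ cj t U = U := by
    intro t ht
    have h1 : cj t (KK v) = KK v := mem_normalizer_iff_cj.mp (hTN t ht)
    constructor
    · apply Subgroup.eq_of_le_of_card_ge
      · rintro _ ⟨w, hw, rfl⟩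
        rw [← hQ] at hw
        have h2 : t * w * t⁻¹ ∈ T ⊓ fixer (KK v) := by
          refine ⟨T.mul_mem (T.mul_mem ht hw.1) (T.inv_mem ht), ?_⟩
          have h3 : Fixes w (KK v) := hw.2
          have h4 := h3.cj t
          rw [h1] at h4
          exact h4
        rw [hQ] at h2
        exact h2
      · rw [q.four.card, (q.four.cj t).card]
    · apply Subgroup.eq_of_le_of_card_ge
      · rintro _ ⟨w, hw, rfl⟩
        rw [← hD] at hw
        have h2 : t * w * t⁻¹ ∈ T ⊓ KK v := by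
          refine ⟨T.mul_mem (T.mul_mem ht hw.1) (T.inv_mem ht), ?_⟩
          have h4 := conj_mem_cj (g := t) hw.2
          rw [h1] at h4
          exact h4
        rw [hD] at h2
        exact h2
      · rw [q.fourU.card, (q.fourU.cj t).card]
  refine ⟨hnorm, ?_⟩
  -- elements of `T` centralizing `V` are in `E`
  have hcenV : ∀ t ∈ T, (∀ w ∈ V, t * w * t⁻¹ = w) → t ∈ V ⊔ U := by
    intro t ht htV
    obtain ⟨n, hn⟩ : ∃ n : ℕ, t ^ 2 ^ n = 1 := by
      obtain ⟨n, hn⟩ := hT ⟨t, ht⟩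
      exact ⟨n, congrArg Subtype.val hn⟩
    have htU : ∀ u ∈ U, t * u * t⁻¹ ∈ U := by
      intro u hu
      have h2 := conj_mem_cj (g := t) hu
      rwa [(hnorm t ht).2] at h2
    have htN : t ∈ normalizer ((V ⊔ U : Subgroup G) : Set G) := by
      rw [mem_normalizer_iff_cj]
      have h3 : cj t (V ⊔ U) = cj t V ⊔ cj t U := Subgroup.map_sup _ _ _
      rw [h3, (hnorm t ht).1, (hnorm t ht).2]
    obtain ⟨u₀, hu₀, hu₀1, hfix⟩ := q.fourU.exists_fixed htU hn
    have h1 := t4.cen_U tt htN htV hu₀ hu₀1 hfix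
    obtain ⟨g, hg, hgV⟩ := t4.move
    refine q.cen_E h hr ⟨g, hg, hgV⟩ t ?_ n hn
    intro e he
    obtain ⟨w, hw, u, hu, rfl⟩ := q.mem_E.mp he
    have e1 : t * (w * u) * t⁻¹ = (t * w * t⁻¹) * (t * u * t⁻¹) := by group
    rw [htV w hw, h1 u hu] at e1
    exact mul_inv_eq_iff_eq_mul.mp e1
  -- an element of `T - E` maps `w ∈ V - ⟨v⟩` to `v w`
  have hout : ∀ t ∈ T, t ∉ V ⊔ U → ∀ w ∈ V, w ≠ 1 → w ≠ v → t * w * t⁻¹ = v * w := by
    intro t ht htE w hw hw1 hwv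
    have h1 : t * w * t⁻¹ ∈ V := by
      have h2 := conj_mem_cj (g := t) hw
      rwa [(hnorm t ht).1] at h2
    have htv : t * v * t⁻¹ = v := by rw [hTv t ht, mul_inv_cancel_right]
    rcases q.four.cases hv hw hv1 hw1 (Ne.symm hwv) h1 with h2 | h2 | h2 | h2
    · exfalso
      apply hw1
      have e : w = t⁻¹ * (t * w * t⁻¹) * t := by group
      rw [e, h2]; group
    · exfalso
      apply hwv
      have e : w = t⁻¹ * (t * w * t⁻¹) * t := by group
      rw [e, h2]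
      have e2 : v = t⁻¹ * (t * v * t⁻¹) * t := by group
      rw [htv] at e2
      exact e2.symm
    · exfalso
      apply htE
      apply hcenV t ht
      intro x hx
      rcases q.four.cases hv hw hv1 hw1 (Ne.symm hwv) hx with rfl | rfl | rfl | rfl
      · group
      · exact htv
      · exact h2
      · have e : t * (v * w) * t⁻¹ = (t * v * t⁻¹) * (t * w * t⁻¹) := by group
        rw [e, htv, h2]
    · exact h2
  intro a ha b hb haE hbE
  apply hcenV _ (mul_mem ha hb)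
  have hav : a * v * a⁻¹ = v := by rw [hTv a ha, mul_inv_cancel_right]
  have hbv : b * v * b⁻¹ = v := by rw [hTv b hb, mul_inv_cancel_right]
  intro w hw
  by_cases hw1 : w = 1
  · rw [hw1]; group
  by_cases hwv : w = v
  · rw [hwv]
    have e : a * b * v * (a * b)⁻¹ = a * (b * v * b⁻¹) * a⁻¹ := by group
    rw [e, hbv, hav]
  · have e : a * b * w * (a * b)⁻¹ = a * (b * w * b⁻¹) * a⁻¹ := by group
    rw [e, hout b hb hbE w hw hw1 hwv]
    have e2 : a * (v * w) * a⁻¹ = (a * v * a⁻¹) * (a * w * a⁻¹) := by group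
    rw [e2, hav, hout a ha haE w hw hw1 hwv, ← mul_assoc, q.four.sq v hv, one_mul]

end

end Quad

end Cfsg.Agent.GH.L2Pair
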