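import Mathlib

/-!
# GH-L2, case (T2): splitting over a normal 2-subgroup

`E` is an abelian normal 2-subgroup of the finite group `G`, every 2-element of `C_G(E)` lies in `E`, `M` is a
normal subgroup with `C_G(E) ≤ M`, `M / C_G(E)` of exponent three and `C_E(M) = 1`.
Then every Sylow 2-subgroup of `G` splits over `E` (Frattini argument for a Sylow 3-subgroup of `M`).
-/

set_option autoImplicit false

open Subgroup

namespace Cfsg.Agent.GH.L2T2Split

variable {G : Type*} [Group G] [Finite G]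

/-- A subgroup of odd index contains a Sylow 2-subgroup. -/
theorem exists_sylow_le {W : Subgroup G} (hW : ¬ 2 ∣ W.index) : ∃ T : Sylow 2 G, (T : Subgroup G) ≤ W := by
  obtain ⟨T⟩ := (inferInstance : Nonempty (Sylow 2 W))
  have h1 : IsPGroup 2 ((T : Subgroup W).map W.subtype) := T.isPGroup'.map _
  have h2 : ((T : Subgroup W).map W.subtype).index = (T : Subgroup W).index * W.index := by
    rw [index_map_subtype]
  have h3 : ¬ 2 ∣ ((T : Subgroup W).map W.subtype).index := by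
    rw [h2]
    intro h
    rcases (Nat.Prime.dvd_mul Nat.prime_two).1 h with h | h
    · exact T.not_dvd_index h
    · exact hW h
  refine ⟨h1.toSylow h3, ?_⟩
  rw [IsPGroup.toSylow_coe]
  rintro _ ⟨x, -, rfl⟩
  exact x.2

/-- `|G : W| = |C : C ∩ W|` if `G = C W`, `C` normal. -/
theorem index_eq {C W : Subgroup G} [C.Normal] (h : C ⊔ W = ⊤) : W.index = W.relIndex C := by
  have h1 : C.relIndex W = C.index := by
    rw [← relIndex_sup_left W C, h, relIndex_top_right]
  have h2 : (C ⊓ W).relIndex W * W.index = (C ⊓ W).index := relIndex_mul_index inf_le_right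
  have h3 : (C ⊓ W).relIndex C * C.index = (C ⊓ W).index := relIndex_mul_index inf_le_left
  rw [inf_relIndex_right, h1] at h2
  rw [inf_relIndex_left] at h3
  have h4 : C.index ≠ 0 := index_ne_zero_of_finite
  have h5 : C.index * W.index = C.index * W.relIndex C := by rw [h2, ← h3, mul_comm]
  exact Nat.eq_of_mul_eq_mul_left (Nat.pos_of_ne_zero h4) h5

/-- If every 2-element of `C` lies in `E` (normal, 2-group), then `|C : E|` is odd. -/
theorem relIndex_odd {E C : Subgroup G} [E.Normal] (hE : IsPGroup 2 E)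
    (hC : ∀ x ∈ C, (∃ n, x ^ 2 ^ n = 1) → x ∈ E) : ¬ 2 ∣ E.relIndex C := by
  intro h
  have hn : (E.subgroupOf C).Normal := inferInstance
  have h1 : 2 ∣ Nat.card (C ⧸ E.subgroupOf C) := h
  obtain ⟨q, hq⟩ := exists_prime_orderOf_dvd_card' 2 h1
  obtain ⟨x, rfl⟩ := QuotientGroup.mk_surjective q
  have h2 : ((x ^ 2 : C) : C ⧸ E.subgroupOf C) = 1 := by
    rw [QuotientGroup.mk_pow, ← hq]
    exact pow_orderOf_eq_one _
  rw [QuotientGroup.eq_one_iff, mem_subgroupOf] at h2
  obtain ⟨n, hn⟩ := hE ⟨_, h2⟩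
  have h3 : (x : G) ^ 2 ^ (n + 1) = 1 := by
    have := congrArg Subtype.val hn
    rw [pow_succ', pow_mul]
    simpa using this
  have h4 := hC _ x.2 ⟨_, h3⟩
  have h5 : (x : C ⧸ E.subgroupOf C) = 1 := by
    rw [QuotientGroup.eq_one_iff, mem_subgroupOf]
    exact h4
  rw [h5, orderOf_one] at hq
  norm_num at hq

/-- The splitting. -/
theorem split {E M : Subgroup G} [E.Normal] [M.Normal] (hE : IsPGroup 2 E)
    (hC : ∀ x ∈ centralizer (E : Set G), (∃ n, x ^ 2 ^ n = 1) → x ∈ E)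
    (hCM : centralizer (E : Set G) ≤ M) (h3 : ∀ m ∈ M, m ^ 3 ∈ centralizer (E : Set G))
    (hfix : ∀ e ∈ E, (∀ m ∈ M, m * e = e * m) → e = 1) (T : Sylow 2 G) :
    ∃ B : Subgroup G, B ≤ T ∧ (∀ b ∈ B, b ∈ E → b = 1) ∧ ∀ t ∈ (T : Subgroup G), ∃ e ∈ E, ∃ b ∈ B, t = e * b := by
  classical
  set C : Subgroup G := centralizer (E : Set G) with hCdef
  have hCn : C.Normal := normal_centralizer
  obtain ⟨R⟩ := (inferInstance : Nonempty (Sylow 3 M))
  -- `M = C R`
  have hM : (C.subgroupOf M) ⊔ (R : Subgroup M) = ⊤ := by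
    have hn : (C.subgroupOf M).Normal := inferInstance
    have hp : IsPGroup 3 (M ⧸ C.subgroupOf M) := by
      intro q
      obtain ⟨m, rfl⟩ := QuotientGroup.mk_surjective q
      refine ⟨1, ?_⟩
      rw [← QuotientGroup.mk_pow, QuotientGroup.eq_one_iff, mem_subgroupOf]
      simpa using h3 m m.2
    obtain ⟨n, hn⟩ := (IsPGroup.iff_card (p := 3)).1 hp
    have h1 : ((C.subgroupOf M) ⊔ (R : Subgroup M)).index ∣ (C.subgroupOf M).index := index_dvd_of_le le_sup_left
    have h2 : ((C.subgroupOf M) ⊔ (R : Subgroup M)).index ∣ (R : Subgroup M).index := index_dvd_of_le le_sup_right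
    have h3' : (C.subgroupOf M).index = 3 ^ n := hn
    rw [h3'] at h1
    obtain ⟨k, -, hk⟩ := (Nat.dvd_prime_pow Nat.prime_three).1 h1
    rcases k with _ | k
    · rw [pow_zero] at hk
      exact index_eq_one.1 hk
    · exfalso
      rw [hk] at h2
      exact R.not_dvd_index ((dvd_pow_self 3 (Nat.succ_ne_zero k)).trans h2)
  let R' : Subgroup G := (R : Subgroup M).map M.subtype
  have hR' : IsPGroup 3 R' := R.isPGroup'.map _
  have hMle : M ≤ C ⊔ R' := by
    intro m hm
    have h1 : (⟨m, hm⟩ : M) ∈ (C.subgroupOf M) ⊔ (R : Subgroup M) := by rw [hM]; trivial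
    have h2 : M.subtype ⟨m, hm⟩ ∈ ((C.subgroupOf M) ⊔ (R : Subgroup M)).map M.subtype := mem_map_of_mem _ h1
    rw [Subgroup.map_sup] at h2
    exact (sup_le_sup_right (map_subgroupOf_eq_of_le hCM).le R') h2
  have hfixR : ∀ e ∈ E, (∀ r ∈ R', r * e = e * r) → e = 1 := by
    intro e he h
    apply hfix e he
    intro m hm
    have h1 : C ⊔ R' ≤ centralizer ({e} : Set G) := by
      rw [sup_le_iff]
      constructor
      · intro c hc
        rw [mem_centralizer_singleton_iff]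
        exact (mem_centralizer_iff.1 hc e he).symm
      · intro r hr
        rw [mem_centralizer_singleton_iff]
        exact h r hr
    exact mem_centralizer_singleton_iff.1 (h1 (hMle hm))
  let Y : Subgroup G := normalizer (R' : Set G)
  have hYM : Y ⊔ M = ⊤ := R.normalizer_sup_eq_top
  have hR'Y : R' ≤ Y := le_normalizer
  have hCY : C ⊔ Y = ⊤ := by
    rw [eq_top_iff, ← hYM, sup_le_iff]
    exact ⟨le_sup_right, hMle.trans (sup_le_sup_left hR'Y C)⟩
  have hEY : ∀ y ∈ Y, y ∈ E → y = 1 := by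
    intro e he heE
    apply hfixR e heE
    intro r hr
    have h1 : e * r * e⁻¹ * r⁻¹ ∈ R' := R'.mul_mem ((mem_normalizer_iff.1 he r).1 hr) (R'.inv_mem hr)
    have h2 : e * r * e⁻¹ * r⁻¹ ∈ E := by
      have h3 : r * e⁻¹ * r⁻¹ ∈ E := Normal.conj_mem inferInstance _ (E.inv_mem heE) r
      have h4 : e * r * e⁻¹ * r⁻¹ = e * (r * e⁻¹ * r⁻¹) := by group
      rw [h4]
      exact E.mul_mem heE h3
    have hd : Disjoint E R' := IsPGroup.disjoint_of_ne 2 3 (by norm_num) E R' hE hR'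
    have h3 : e * r * e⁻¹ * r⁻¹ = 1 := by
      have h4 : e * r * e⁻¹ * r⁻¹ ∈ E ⊓ R' := ⟨h2, h1⟩
      rw [hd.eq_bot] at h4
      exact mem_bot.1 h4
    have h5 : e * r = r * e := by
      calc e * r = (e * r * e⁻¹ * r⁻¹) * (r * e) := by group
        _ = r * e := by rw [h3, one_mul]
    exact h5.symm
  -- a Sylow subgroup in `E Y`
  have hWodd : ¬ 2 ∣ (E ⊔ Y).index := by
    have hle : C ⊔ (E ⊔ Y) = ⊤ := by
      rw [eq_top_iff, ← hCY]
      exact sup_le_sup_left le_sup_right C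
    rw [index_eq hle]
    intro h
    exact relIndex_odd hE hC (h.trans (relIndex_dvd_of_le_left C le_sup_left))
  obtain ⟨T1, hT1⟩ := exists_sylow_le hWodd
  have hET1 : E ≤ T1 := by
    obtain ⟨Q, hQ⟩ := hE.exists_le_sylow
    obtain ⟨g, hg⟩ := MulAction.exists_smul_eq G Q T1
    intro e he
    rw [← hg, Sylow.coe_subgroup_smul]
    have h1 : g⁻¹ * e * g ∈ E := by
      have := Normal.conj_mem (inferInstance : E.Normal) e he g⁻¹
      simpa using this
    have h2 := smul_mem_pointwise_smul _ (MulAut.conj g) _ (hQ h1)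
    have h3 : MulAut.conj g • (g⁻¹ * e * g) = e := by
      change g * (g⁻¹ * e * g) * g⁻¹ = e
      group
    rw [h3] at h2
    exact h2
  obtain ⟨g, hg⟩ := MulAction.exists_smul_eq G T1 T
  have hmem : ∀ x, x ∈ (T : Subgroup G) ↔ g⁻¹ * x * g ∈ (T1 : Subgroup G) := by
    intro x
    rw [← hg, Sylow.coe_subgroup_smul, mem_pointwise_smul_iff_inv_smul_mem]
    have h1 : (MulAut.conj g)⁻¹ • x = g⁻¹ * x * g := by
      rw [← map_inv]
      change g⁻¹ * x * g⁻¹⁻¹ = _
      rw [inv_inv]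
    rw [h1]
  refine ⟨(Y ⊓ T1).map (MulAut.conj g).toMonoidHom, ?_, ?_, ?_⟩
  · rintro _ ⟨y, hy, rfl⟩
    rw [hmem]
    have h1 : g⁻¹ * ((MulAut.conj g).toMonoidHom y) * g = y := by
      change g⁻¹ * (g * y * g⁻¹) * g = y
      group
    rw [h1]
    exact hy.2
  · rintro _ ⟨y, hy, rfl⟩ hE'
    have h1 : y ∈ E := by
      have h2 : y = g⁻¹ * ((MulAut.conj g).toMonoidHom y) * g⁻¹⁻¹ := by
        change y = g⁻¹ * (g * y * g⁻¹) * g⁻¹⁻¹
        group
      rw [h2]
      exact Normal.conj_mem inferInstance _ hE' g⁻¹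
    rw [hEY y hy.1 h1, map_one]
  · intro t ht
    have h1 := (hmem t).1 ht
    have h2 : g⁻¹ * t * g ∈ ((E ⊔ Y : Subgroup G) : Set G) := hT1 h1
    rw [normal_mul] at h2
    obtain ⟨e, he, y, hy, hey⟩ := h2
    have he' : e ∈ E := he
    have hy' : y ∈ Y := hy
    have hey' : e * y = g⁻¹ * t * g := hey
    refine ⟨g * e * g⁻¹, Normal.conj_mem inferInstance _ he' g, (MulAut.conj g).toMonoidHom y,
      mem_map_of_mem _ ⟨hy', ?_⟩, ?_⟩
    · have h3 : y = e⁻¹ * (g⁻¹ * t * g) := by rw [← hey']; group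
      rw [h3]
      exact mul_mem ((T1 : Subgroup G).inv_mem (hET1 he')) h1
    · change t = g * e * g⁻¹ * (g * y * g⁻¹)
      calc t = g * (g⁻¹ * t * g) * g⁻¹ := by group
        _ = g * (e * y) * g⁻¹ := by rw [hey']
        _ = _ := by group

end Cfsg.Agent.GH.L2T2Split
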