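import Cfsg.Agent.GH.L2Tri
import Cfsg.Agent.GH.L2T2Split

/-!
# GH-L2, case (T2): a complement to `E` in `N_S(E)`

`Tri E V U ρ`, `T2 E V U`, every 2-element of `C_G(E)` lies in `E`.  The elements of `N(E)` inducing even permutations
on `V#` and on `U#` form a normal subgroup `M` of `N(E)` with `M / C(E)` of exponent three and `C_E(M) = 1`; so
(`L2T2Split.split`) every Sylow 2-subgroup of `N(E)` splits over `E`.
-/

set_option autoImplicit false

open Subgroup
open Cfsg.Agent.SignalizersComponents.IntrinsicBasic (cj mem_cj conj_mem_cj cj_one cj_mul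
  cj_inv_cj cj_cj_inv cj_injective cj_mono mem_normalizer_iff_cj)
open Cfsg.Agent.GH.L2Tri

namespace Cfsg.Agent.GH.L2T2Compl

variable {G : Type*} [Group G]

/-- `g` induces the identity or a fixed point free permutation on `V#`. -/
def Rot (g : G) (V : Subgroup G) : Prop :=
  (∀ v ∈ V, g * v * g⁻¹ = v) ∨ ∀ v ∈ V, v ≠ 1 → g * v * g⁻¹ ≠ v

theorem conj_ne_one {g v : G} (hv : v ≠ 1) : g * v * g⁻¹ ≠ 1 := by
  intro h
  apply hv
  have e : v = g⁻¹ * (g * v * g⁻¹) * g := by group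
  rw [e, h]; group

theorem conj_mem {g v : G} {V : Subgroup G} (hg : cj g V = V) (hv : v ∈ V) : g * v * g⁻¹ ∈ V := by
  have := conj_mem_cj (g := g) hv
  rwa [hg] at this

theorem cj_inv {g : G} {V W : Subgroup G} (hg : cj g V = W) : cj g⁻¹ W = V := by
  rw [← hg, cj_inv_cj]

/-- an automorphism of a four-group fixing two elements is trivial -/
theorem fix_of_two {V : Subgroup G} (h : Four V) {g a b : G} (ha : a ∈ V) (hb : b ∈ V) (ha1 : a ≠ 1) (hb1 : b ≠ 1)
    (hab : a ≠ b) (h1 : g * a * g⁻¹ = a) (h2 : g * b * g⁻¹ = b) : ∀ v ∈ V, g * v * g⁻¹ = v := by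
  intro v hv
  rcases h.cases ha hb ha1 hb1 hab hv with rfl | rfl | rfl | rfl
  · group
  · exact h1
  · exact h2
  · have e : g * (a * b) * g⁻¹ = (g * a * g⁻¹) * (g * b * g⁻¹) := by group
    rw [e, h1, h2]

theorem Rot.mul {V : Subgroup G} (hV : Four V) {g h : G} (hg : cj g V = V) (hh : cj h V = V) (h1 : Rot g V)
    (h2 : Rot h V) : Rot (g * h) V := by
  by_cases hx : ∃ x ∈ V, x ≠ 1 ∧ (g * h) * x * (g * h)⁻¹ = x
  · left
    obtain ⟨x, hx, hx1, hxx⟩ := hx
    rcases h2 with h2 | h2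
    · rcases h1 with h1 | h1
      · intro v hv
        have e : (g * h) * v * (g * h)⁻¹ = g * (h * v * h⁻¹) * g⁻¹ := by group
        rw [e, h2 v hv, h1 v hv]
      · exfalso
        apply h1 x hx hx1
        have e : (g * h) * x * (g * h)⁻¹ = g * (h * x * h⁻¹) * g⁻¹ := by group
        rw [e, h2 x hx] at hxx
        exact hxx
    · set w := h * x * h⁻¹ with hw
      have hwV : w ∈ V := conj_mem hh hx
      have hw1 : w ≠ 1 := conj_ne_one hx1
      have hxw : w ≠ x := h2 x hx hx1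
      have hgw : g * w * g⁻¹ = x := by
        rw [← hxx, hw]; group
      rcases h1 with h1 | h1
      · exact absurd ((h1 w hwV).symm.trans hgw) hxw
      · have a1 : h * w * h⁻¹ = x * w := hV.rho_sq (fun u hu => conj_mem hh hu) h2 hx
        have a2 : g * x * g⁻¹ = w * x := by
          have := hV.rho_sq (fun u hu => conj_mem hg hu) h1 hwV
          rwa [hgw] at this
        refine fix_of_two hV hx hwV hx1 hw1 hxw.symm hxx ?_
        have e : (g * h) * w * (g * h)⁻¹ = g * (h * w * h⁻¹) * g⁻¹ := by group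
        rw [e, a1]
        have e2 : g * (x * w) * g⁻¹ = (g * x * g⁻¹) * (g * w * g⁻¹) := by group
        rw [e2, a2, hgw, mul_assoc, hV.sq x hx, mul_one]
  · right
    intro v hv hv1 h3
    exact hx ⟨v, hv, hv1, h3⟩

theorem Rot.inv {V : Subgroup G} {g : G} (hg : cj g V = V) (h : Rot g V) : Rot g⁻¹ V := by
  rcases h with h | h
  · left
    intro v hv
    have := h v hv
    calc g⁻¹ * v * g⁻¹⁻¹ = g⁻¹ * (g * v * g⁻¹) * g⁻¹⁻¹ := by rw [this]
      _ = v := by group
  · right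
    intro v hv hv1 h2
    apply h v hv hv1
    calc g * v * g⁻¹ = g * (g⁻¹ * v * g⁻¹⁻¹) * g⁻¹ := by rw [h2]
      _ = v := by group

theorem Rot.conj {W : Subgroup G} {g : G} (n : G) (h : Rot g W) : Rot (n * g * n⁻¹) (cj n W) := by
  rcases h with h | h
  · left
    rintro _ ⟨v, hv, rfl⟩
    change n * g * n⁻¹ * (n * v * n⁻¹) * (n * g * n⁻¹)⁻¹ = n * v * n⁻¹
    have e : n * g * n⁻¹ * (n * v * n⁻¹) * (n * g * n⁻¹)⁻¹ = n * (g * v * g⁻¹) * n⁻¹ := by group
    rw [e, h v hv]
  · right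
    rintro _ ⟨v, hv, rfl⟩ hv1 h2
    change n * g * n⁻¹ * (n * v * n⁻¹) * (n * g * n⁻¹)⁻¹ = n * v * n⁻¹ at h2
    have e : n * g * n⁻¹ * (n * v * n⁻¹) * (n * g * n⁻¹)⁻¹ = n * (g * v * g⁻¹) * n⁻¹ := by group
    rw [e] at h2
    refine h v hv ?_ ?_
    · rintro rfl
      apply hv1
      change n * 1 * n⁻¹ = 1
      group
    · exact mul_left_cancel (mul_right_cancel h2)

theorem Rot.cube {V : Subgroup G} (hV : Four V) {g : G} (hg : cj g V = V) (h : Rot g V) {v : G} (hv : v ∈ V) :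
    g * (g * (g * v * g⁻¹) * g⁻¹) * g⁻¹ = v := by
  rcases h with h | h
  · rw [h v hv, h v hv, h v hv]
  · exact hV.rho_cube (fun u hu => conj_mem hg hu) h hv

variable {E V U : Subgroup G} {ρ : G}

/-- even permutations on both sides -/
structure Ev (V U : Subgroup G) (g : G) : Prop where
  fV : cj g V = V
  fU : cj g U = U
  rV : Rot g V
  rU : Rot g U

/-- the subgroup `M` of `N(E)` -/
def EvSub (h : Tri E V U ρ) : Subgroup ↥(normalizer (E : Set G)) where
  carrier := {g | Ev V U g}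
  one_mem' := by
    refine ⟨cj_one V, cj_one U, Or.inl fun v _ => ?_, Or.inl fun v _ => ?_⟩ <;> simp
  mul_mem' := by
    intro a b ha hb
    have ha' : Ev V U a := ha
    have hb' : Ev V U b := hb
    refine ⟨?_, ?_, ha'.rV.mul h.fourV ha'.fV hb'.fV hb'.rV, ha'.rU.mul h.fourU ha'.fU hb'.fU hb'.rU⟩
    · change cj (a * b : G) V = V
      rw [cj_mul, hb'.fV, ha'.fV]
    · change cj (a * b : G) U = U
      rw [cj_mul, hb'.fU, ha'.fU]
  inv_mem' := by
    intro a ha
    have ha' : Ev V U a := ha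
    exact ⟨cj_inv ha'.fV, cj_inv ha'.fU, ha'.rV.inv ha'.fV, ha'.rU.inv ha'.fU⟩

theorem mem_EvSub (h : Tri E V U ρ) {g : ↥(normalizer (E : Set G))} : g ∈ EvSub h ↔ Ev V U g := Iff.rfl

theorem evSub_normal (h : Tri E V U ρ) (h2 : T2 E V U) : (EvSub h).Normal := by
  refine ⟨fun g hg n => ?_⟩
  have hg' : Ev V U g := hg
  rw [mem_EvSub]
  change Ev V U ((n : G) * g * (n : G)⁻¹)
  rcases h2.2 n n.2 with ⟨h3, h4⟩ | ⟨h3, h4⟩
  · refine ⟨?_, ?_, ?_, ?_⟩
    · rw [cj_mul, cj_mul, cj_inv h3, hg'.fV, h3]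
    · rw [cj_mul, cj_mul, cj_inv h4, hg'.fU, h4]
    · have := hg'.rV.conj (n : G)
      rwa [h3] at this
    · have := hg'.rU.conj (n : G)
      rwa [h4] at this
  · refine ⟨?_, ?_, ?_, ?_⟩
    · rw [cj_mul, cj_mul, cj_inv h4, hg'.fU, h4]
    · rw [cj_mul, cj_mul, cj_inv h3, hg'.fV, h3]
    · have := hg'.rU.conj (n : G)
      rwa [h4] at this
    · have := hg'.rV.conj (n : G)
      rwa [h3] at this

theorem ev_rho (h : Tri E V U ρ) : Ev V U ρ :=
  ⟨h.rho_V, h.rho_U, Or.inl h.cen, Or.inr h.fpf⟩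

/-- **The complement.** -/
theorem exists_compl [Finite G] (h : Tri E V U ρ) (h2 : T2 E V U)
    (hC : ∀ x ∈ centralizer (E : Set G), (∃ n, x ^ 2 ^ n = 1) → x ∈ E) (T : Subgroup G)
    (hT : IsPGroup 2 T) (hTN : T ≤ normalizer (E : Set G))
    (hmax : ∀ Q : Subgroup G, IsPGroup 2 Q → T ≤ Q → Q ≤ normalizer (E : Set G) → Q ≤ T) :
    ∃ B : Subgroup G, B ≤ T ∧ (∀ b ∈ B, b ∈ E → b = 1) ∧ ∀ t ∈ T, ∃ e ∈ E, ∃ b ∈ B, t = e * b := by
  classical
  let N : Subgroup G := normalizer (E : Set G)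
  have hEN : E ≤ N := le_normalizer
  let E' : Subgroup N := E.subgroupOf N
  have hE'n : E'.Normal := normal_in_normalizer
  have hM'n : (EvSub h).Normal := evSub_normal h h2
  have hEp : IsPGroup 2 E := by
    intro x
    refine ⟨1, ?_⟩
    apply Subtype.ext
    rw [pow_one, pow_two]
    exact h.sq x x.2
  have hE'p : IsPGroup 2 E' := hEp.comap_subtype
  have hcen : ∀ x : N, x ∈ centralizer (E' : Set N) → (x : G) ∈ centralizer (E : Set G) := by
    intro x hx
    rw [mem_centralizer_iff] at hx ⊢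
    intro e he
    exact congrArg Subtype.val (hx ⟨e, hEN he⟩ he)
  -- the Sylow subgroup `T` as a Sylow subgroup of `N`
  obtain ⟨T1, hT1⟩ : ∃ T1 : Sylow 2 N, (T1 : Subgroup N).map N.subtype = T := by
    have hT' : IsPGroup 2 (T.subgroupOf N) := hT.comap_subtype
    obtain ⟨T1, hT1⟩ := hT'.exists_le_sylow
    refine ⟨T1, le_antisymm (hmax _ (T1.isPGroup'.map _) ?_ ?_) ?_⟩
    · intro t ht
      exact ⟨⟨t, hTN ht⟩, hT1 (mem_subgroupOf.2 ht), rfl⟩
    · rintro _ ⟨x, -, rfl⟩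
      exact x.2
    · intro t ht
      exact ⟨⟨t, hTN ht⟩, hT1 (mem_subgroupOf.2 ht), rfl⟩
  obtain ⟨s, hs, hsV, hsU⟩ := h2.1
  obtain ⟨B, hB1, hB2, hB3⟩ := L2T2Split.split (E := E') (M := EvSub h) hE'p (by
      intro x hx hn
      obtain ⟨n, hn⟩ := hn
      exact hC x (hcen x hx) ⟨n, by rw [← SubmonoidClass.coe_pow, hn]; rfl⟩) (by
      intro x hx
      have hx' := hcen x hx
      rw [mem_centralizer_iff] at hx'
      have key : ∀ W : Subgroup G, W ≤ E → ∀ v ∈ W, (x : G) * v * (x : G)⁻¹ = v := by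
        intro W hW v hv
        rw [← hx' v (hW hv)]; group
      have key2 : ∀ W : Subgroup G, W ≤ E → cj (x : G) W = W := by
        intro W hW
        ext v
        rw [mem_cj]
        constructor
        · intro hv
          have := key W hW _ hv
          have e : (x : G) * ((x : G)⁻¹ * v * (x : G)) * (x : G)⁻¹ = v := by group
          rw [e] at this
          rw [this]; exact hv
        · intro hv
          have := key W hW _ hv
          have e : (x : G)⁻¹ * v * (x : G) = v := by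
            calc (x : G)⁻¹ * v * (x : G) = (x : G)⁻¹ * ((x : G) * v * (x : G)⁻¹) * (x : G) := by rw [this]
              _ = v := by group
          rw [e]; exact hv
      exact ⟨key2 V h.VE, key2 U h.UE, Or.inl (key V h.VE), Or.inl (key U h.UE)⟩) (by
      intro m hm
      have hm' : Ev V U m := hm
      rw [mem_centralizer_iff]
      intro e he
      have he' : (e : G) ∈ E := he
      obtain ⟨v, hv, u, hu, heq⟩ := decomp h.cardE h.VE h.UE h.cardV h.cardU h.disj he'
      have h3 := hm'.rV.cube h.fourV hm'.fV hv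
      have h4 := hm'.rU.cube h.fourU hm'.fU hu
      have h5 : (m : G) * ((m : G) * ((m : G) * (e : G) * (m : G)⁻¹) * (m : G)⁻¹) * (m : G)⁻¹ = e := by
        rw [heq]
        calc _ = ((m : G) * ((m : G) * ((m : G) * v * (m : G)⁻¹) * (m : G)⁻¹) * (m : G)⁻¹) *
              ((m : G) * ((m : G) * ((m : G) * u * (m : G)⁻¹) * (m : G)⁻¹) * (m : G)⁻¹) := by group
          _ = v * u := by rw [h3, h4]
      apply Subtype.ext
      change (e : G) * ((m ^ 3 : N) : G) = ((m ^ 3 : N) : G) * e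
      have h6 : ((m ^ 3 : N) : G) = (m : G) * (m : G) * (m : G) := by
        rw [SubmonoidClass.coe_pow, pow_succ, pow_two]
      rw [h6]
      calc (e : G) * ((m : G) * (m : G) * (m : G)) =
            ((m : G) * ((m : G) * ((m : G) * (e : G) * (m : G)⁻¹) * (m : G)⁻¹) * (m : G)⁻¹) *
              ((m : G) * (m : G) * (m : G)) := by rw [h5]
        _ = (m : G) * (m : G) * (m : G) * e := by group) (by
      intro e he hfix
      have he' : (e : G) ∈ E := he
      obtain ⟨v, hv, u, hu, heq⟩ := decomp h.cardE h.VE h.UE h.cardV h.cardU h.disj he'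
      have hρ : (ρ : G) * e * ρ⁻¹ = e := by
        have := congrArg Subtype.val (hfix ⟨ρ, h.norm⟩ (ev_rho h))
        change ρ * (e : G) = e * ρ at this
        rw [this]; group
      have hρ' : (s * ρ * s⁻¹) * e * (s * ρ * s⁻¹)⁻¹ = e := by
        have hmem : (⟨s, hs⟩ : N) * ⟨ρ, h.norm⟩ * (⟨s, hs⟩ : N)⁻¹ ∈ EvSub h :=
          hM'n.conj_mem _ (ev_rho h) ⟨s, hs⟩
        have := congrArg Subtype.val (hfix _ hmem)
        change (s * ρ * s⁻¹) * (e : G) = e * (s * ρ * s⁻¹) at this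
        rw [this]; group
      -- `u = 1`
      have hu1 : u = 1 := by
        by_contra hu1
        apply h.fpf u hu hu1
        rw [heq] at hρ
        have e1 : ρ * (v * u) * ρ⁻¹ = (ρ * v * ρ⁻¹) * (ρ * u * ρ⁻¹) := by group
        rw [e1, h.cen v hv] at hρ
        exact mul_left_cancel hρ
      have hv1 : v = 1 := by
        by_contra hv1
        rw [hu1, mul_one] at heq
        rw [heq] at hρ'
        have h3 : s⁻¹ * v * s ∈ U := by
          rw [← mem_cj, hsU]; exact hv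
        have h4 : s⁻¹ * v * s ≠ 1 := by
          intro h5
          apply hv1
          have e : v = s * (s⁻¹ * v * s) * s⁻¹ := by group
          rw [e, h5]; group
        apply h.fpf _ h3 h4
        have h5 : ρ * (s⁻¹ * v * s) * ρ⁻¹ = s⁻¹ * ((s * ρ * s⁻¹) * v * (s * ρ * s⁻¹)⁻¹) * s := by group
        rw [h5, hρ']
      apply Subtype.ext
      rw [heq, hu1, hv1]
      simp) T1
  refine ⟨B.map N.subtype, ?_, ?_, ?_⟩
  · rw [← hT1]
    exact map_mono hB1
  · rintro _ ⟨b, hb, rfl⟩ hbE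
    rw [hB2 b hb hbE, map_one]
  · intro t ht
    rw [← hT1] at ht
    obtain ⟨t', ht', rfl⟩ := ht
    obtain ⟨e, he, b, hb, heb⟩ := hB3 t' ht'
    exact ⟨e, he, b, ⟨b, hb, rfl⟩, by rw [heb]; rfl⟩

end Cfsg.Agent.GH.L2T2Compl
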