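import Cfsg.Agent.GH.L2T2Main
import Cfsg.Agent.GH.L2T2Grow

/-!
# GH-L2, case (T2): from the normal form `D8F` to the growth data `Wd`
-/

set_option autoImplicit false

open Subgroup
open Cfsg.Agent.SignalizersComponents.IntrinsicBasic (cj mem_cj conj_mem_cj cj_one cj_mul
  cj_inv_cj cj_cj_inv cj_injective cj_mono mem_normalizer_iff_cj)
open Cfsg.Agent.GH.L2Tri Cfsg.Agent.GH.L2T2Compl Cfsg.Agent.GH.L2T2Form Cfsg.Agent.GH.L2T2Type
open Cfsg.Agent.GH.L2T2Grow

namespace Cfsg.Agent.GH.L2T2Conv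

variable {G : Type*} [Group G] {E V U T : Subgroup G} {ρ : G}

/-- `D8F` gives the data of helper88's growth theorem `L2T2Grow.exists_entry`, with `τ = τ₁`, `s = d`. -/
theorem exists_wd [Finite G] (h : Tri E V U ρ) (hT : IsPGroup 2 T)
    (hC : ∀ x ∈ centralizer (E : Set G), (∃ n, x ^ 2 ^ n = 1) → x ∈ E) {τ₁ τ₂ d : G}
    (F : D8F T E V U τ₁ τ₂ d) :
    ∃ x ∈ V, ∃ a ∈ V, x ≠ 1 ∧ a ≠ 1 ∧ a ≠ x ∧ d * x * d ∈ U ∧ d * a * d ∈ U ∧ Wd x a τ₁ d ∧
      IsPGroup 2 (closure ({x, a, τ₁, d} : Set G)) ∧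
      (∀ v ∈ V, v = 1 ∨ v = x ∨ v = a ∨ v = a * x) ∧
      (∀ u ∈ U, ∃ v ∈ V, u = d * v * d) ∧
      ∀ p : G, p * x = x * p → p * a = a * p → p * (d * x * d) = d * x * d * p →
        p * (d * a * d) = d * a * d * p → p * p = 1 →
        ∃ v, (v = 1 ∨ v = x ∨ v = a ∨ v = a * x) ∧ ∃ u, (u = 1 ∨ u = x ∨ u = a ∨ u = a * x) ∧
          p = v * (d * u * d) := by
  obtain ⟨n, hn⟩ := two_of_T hT F.m1
  obtain ⟨x, hx, hx1, hxf⟩ := fix_one h.fourV F.v1 hn
  obtain ⟨a, ha, ha1, hax⟩ := h.fourV.exists_ne' x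
  have hact := act_of_fix h.fourV F.v1 hx hx1 hxf F.n1 ha ha1 hax
  have hd' : d⁻¹ = d := inv_of_sq F.sd
  have hdU : ∀ v ∈ V, d * v * d ∈ U := by
    intro v hv
    have h1 : d * v * d⁻¹ ∈ cj d V := conj_mem_cj hv
    rwa [F.dV, hd'] at h1
  have hdV : ∀ u ∈ U, d * u * d ∈ V := by
    intro u hu
    have h1 : d * u * d⁻¹ ∈ cj d U := conj_mem_cj hu
    rwa [F.dU, hd'] at h1
  have hcVU : ∀ v ∈ V, ∀ u ∈ U, v * u = u * v := fun v hv u hu => h.comm v (h.VE hv) u (h.UE hu)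
  have hcV : ∀ v ∈ V, ∀ v' ∈ V, v * v' = v' * v := fun v hv u hu => h.comm v (h.VE hv) u (h.VE hu)
  have hd2 : d * τ₁ * d = τ₂ := by
    have := F.d1
    rwa [hd'] at this
  have h1U : ∀ u ∈ U, τ₁ * u = u * τ₁ := by
    intro u hu
    calc τ₁ * u = (τ₁ * u * τ₁⁻¹) * τ₁ := by group
      _ = u * τ₁ := by rw [F.u1 u hu]
  have h2V : ∀ v ∈ V, v * τ₂ = τ₂ * v := by
    intro v hv
    calc v * τ₂ = (τ₂ * v * τ₂⁻¹) * τ₂ := by rw [F.v2 v hv]
      _ = τ₂ * v := by group
  have hall : ∀ v ∈ V, v = 1 ∨ v = x ∨ v = a ∨ v = a * x := by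
    intro v hv
    rcases h.fourV.cases ha hx ha1 hx1 hax hv with h1 | h1 | h1 | h1
    · exact Or.inl h1
    · exact Or.inr (Or.inr (Or.inl h1))
    · exact Or.inr (Or.inl h1)
    · exact Or.inr (Or.inr (Or.inr h1))
  have hsurj : ∀ u ∈ U, ∃ v ∈ V, u = d * v * d := by
    intro u hu
    refine ⟨d * u * d, hdV u hu, ?_⟩
    calc u = (d * d) * u * (d * d) := by rw [F.sd]; group
      _ = d * (d * u * d) * d := by group
  refine ⟨x, hx, a, ha, hx1, ha1, hax, hdU x hx, hdU a ha, ?_, ?_, hall, hsurj, ?_⟩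
  · refine ⟨h.sq x (h.VE hx), h.sq a (h.VE ha), F.s1, F.sd, hcV a ha x hx, ?_, ?_, ?_, hx1, ?_⟩
    · calc τ₁ * x = (τ₁ * x * τ₁⁻¹) * τ₁ := by group
        _ = x * τ₁ := by rw [hxf]
    · calc τ₁ * a = (τ₁ * a * τ₁⁻¹) * τ₁ := by group
        _ = x * a * τ₁ := by rw [hact]
        _ = a * x * τ₁ := by rw [hcV x hx a ha]
    · rintro p (rfl | rfl | rfl) q (rfl | rfl | rfl)
      · exact hcVU _ hx _ (hdU _ hx)
      · exact hcVU _ hx _ (hdU _ ha)
      · rw [hd2]; exact h2V _ hx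
      · exact hcVU _ ha _ (hdU _ hx)
      · exact hcVU _ ha _ (hdU _ ha)
      · rw [hd2]; exact h2V _ ha
      · exact h1U _ (hdU _ hx)
      · exact h1U _ (hdU _ ha)
      · rw [hd2]; exact F.c12
    · intro h1
      exact hx1 (h.disj x hx (h1 ▸ hdU x hx))
  · refine hT.to_le ?_
    rw [closure_le]
    rintro y (rfl | rfl | rfl | rfl)
    · exact F.ET (h.VE hx)
    · exact F.ET (h.VE ha)
    · exact F.m1
    · exact F.md
  · intro p h1 h2 h3 h4 h5
    have hpE : p ∈ E := by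
      apply hC p _ ⟨1, by rw [pow_one, pow_two]; exact h5⟩
      rw [mem_centralizer_iff]
      intro e he
      obtain ⟨v, hv, u, hu, rfl⟩ := decomp h.cardE h.VE h.UE h.cardV h.cardU h.disj he
      have hpv : p * v = v * p := by
        rcases hall v hv with rfl | rfl | rfl | rfl
        · simp
        · exact h1
        · exact h2
        · calc p * (a * x) = (p * a) * x := by group
            _ = a * (p * x) := by rw [h2]; group
            _ = a * x * p := by rw [h1]; group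
      have hpu : p * u = u * p := by
        obtain ⟨w, hw, rfl⟩ := hsurj u hu
        rcases hall w hw with rfl | rfl | rfl | rfl
        · rw [mul_one, F.sd]; simp
        · exact h3
        · exact h4
        · have e1 : d * (a * x) * d = (d * a * d) * (d * x * d) := by
            calc d * (a * x) * d = d * a * 1 * x * d := by group
              _ = d * a * (d * d) * x * d := by rw [F.sd]
              _ = _ := by group
          rw [e1]
          calc p * ((d * a * d) * (d * x * d)) = (p * (d * a * d)) * (d * x * d) := by group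
            _ = (d * a * d) * (p * (d * x * d)) := by rw [h4]; group
            _ = (d * a * d) * (d * x * d) * p := by rw [h3]; group
      calc v * u * p = v * (u * p) := by group
        _ = (v * p) * u := by rw [← hpu]; group
        _ = p * (v * u) := by rw [← hpv]; group
    obtain ⟨v, hv, u, hu, rfl⟩ := decomp h.cardE h.VE h.UE h.cardV h.cardU h.disj hpE
    obtain ⟨w, hw, rfl⟩ := hsurj u hu
    exact ⟨v, hall v hv, w, hall w hw, rfl⟩

end Cfsg.Agent.GH.L2T2Conv
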