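import Cfsg.Agent.GH.L2T2Compl
import Cfsg.Agent.GH.L2.WrCyc
import Cfsg.Agent.GH.PcTypes

/-!
# GH-L2, case (T2): the normal form of `N_S(E)`

`T` is a Sylow 2-subgroup of `N_G(E)`; `T = E B` with a complement `B` (`L2T2Compl.exists_compl`).  Then `T` is one of
`V₄ wr 2` (`WrFour.Cfg`), `Z₂ wr Z₄` (`WrCyc.Cyc`), `Z₂ wr V₄` (`V4F`, type `A₈`), `D₈ wr 2` (`D8F`).
-/

set_option autoImplicit false

open Subgroup
open Cfsg.Agent.SignalizersComponents.IntrinsicBasic (cj mem_cj conj_mem_cj cj_one cj_mul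
  cj_inv_cj cj_cj_inv cj_injective cj_mono mem_normalizer_iff_cj)
open Cfsg.Agent.GH.L2Tri Cfsg.Agent.GH.L2T2Compl
open Cfsg.Agent.GH.L2

namespace Cfsg.Agent.GH.L2T2Form

variable {G : Type*} [Group G]

/-! ### elements of 2-power order acting on four-groups -/

theorem cc (b c w : G) : (b * c) * w * (b * c)⁻¹ = b * (c * w * c⁻¹) * b⁻¹ := by group

theorem cm (b v w : G) : b * (v * w) * b⁻¹ = (b * v * b⁻¹) * (b * w * b⁻¹) := by group

theorem fix_one {W : Subgroup G} (hW : Four W) {b : G} (hb : cj b W = W) {n : ℕ} (hn : b ^ 2 ^ n = 1) :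
    ∃ w ∈ W, w ≠ 1 ∧ b * w * b⁻¹ = w := by
  by_contra hcon
  push Not at hcon
  have hr : Rot b W := Or.inr hcon
  have h3 : ∀ w ∈ W, b ^ 3 * w * (b ^ 3)⁻¹ = w := by
    intro w hw
    have := hr.cube hW hb hw
    calc b ^ 3 * w * (b ^ 3)⁻¹ = b * (b * (b * w * b⁻¹) * b⁻¹) * b⁻¹ := by
          rw [pow_succ, pow_two]; group
      _ = w := this
  have hcop : Nat.Coprime 3 (orderOf b) := by
    have h4 : orderOf b ∣ 2 ^ n := orderOf_dvd_of_pow_eq_one hn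
    exact Nat.Coprime.coprime_dvd_right h4 (Nat.Coprime.pow_right n (by norm_num))
  obtain ⟨m, hm⟩ := exists_pow_eq_self_of_coprime hcop
  obtain ⟨w, hw, hw1⟩ := hW.exists_ne
  have h5 : Commute (b ^ 3) w := by
    have := h3 w hw
    change b ^ 3 * w = w * b ^ 3
    calc b ^ 3 * w = (b ^ 3 * w * (b ^ 3)⁻¹) * b ^ 3 := by group
      _ = w * b ^ 3 := by rw [this]
  have h6 : Commute ((b ^ 3) ^ m) w := h5.pow_left m
  rw [hm] at h6
  apply hcon w hw hw1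
  rw [h6.eq]; group

/-- an element fixing a point and not trivial: the action -/
theorem act_of_fix {W : Subgroup G} (hW : Four W) {b : G} (hb : cj b W = W) {w0 : G} (hw0 : w0 ∈ W) (h1 : w0 ≠ 1)
    (hf : b * w0 * b⁻¹ = w0) (hn : ¬ ∀ w ∈ W, b * w * b⁻¹ = w) {w : G} (hw : w ∈ W) (hw1 : w ≠ 1) (hw2 : w ≠ w0) :
    b * w * b⁻¹ = w0 * w := by
  rcases hW.cases hw0 hw h1 hw1 hw2.symm (conj_mem hb hw) with h | h | h | h
  · exact absurd h (conj_ne_one hw1)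
  · exfalso
    apply hw2
    rw [← hf] at h
    exact mul_left_cancel (mul_right_cancel h)
  · exact absurd (fix_of_two hW hw0 hw h1 hw1 hw2.symm hf h) hn
  · exact h

theorem sq_trivial {W : Subgroup G} (hW : Four W) {b : G} (hb : cj b W = W) {w0 : G} (hw0 : w0 ∈ W) (h1 : w0 ≠ 1)
    (hf : b * w0 * b⁻¹ = w0) : ∀ w ∈ W, (b * b) * w * (b * b)⁻¹ = w := by
  by_cases hn : ∀ w ∈ W, b * w * b⁻¹ = w
  · intro w hw
    have e : (b * b) * w * (b * b)⁻¹ = b * (b * w * b⁻¹) * b⁻¹ := by group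
    rw [e, hn w hw, hn w hw]
  · obtain ⟨w, hw, hw1, hw2⟩ := hW.exists_ne' w0
    have h3 := act_of_fix hW hb hw0 h1 hf hn hw hw1 hw2
    refine fix_of_two hW hw0 hw h1 hw1 hw2.symm ?_ ?_
    · have e : (b * b) * w0 * (b * b)⁻¹ = b * (b * w0 * b⁻¹) * b⁻¹ := by group
      rw [e, hf, hf]
    · have e : (b * b) * w * (b * b)⁻¹ = b * (b * w * b⁻¹) * b⁻¹ := by group
      have e2 : b * (w0 * w) * b⁻¹ = (b * w0 * b⁻¹) * (b * w * b⁻¹) := by group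
      rw [e, h3, e2, hf, h3, ← mul_assoc, hW.sq w0 hw0, one_mul]

/-- two nontrivial 2-elements whose product is a 2-element agree on the four-group -/
theorem mul_trivial {W : Subgroup G} (hW : Four W) {b c : G} (hb : cj b W = W) (hc : cj c W = W) {k m n : ℕ}
    (hk : b ^ 2 ^ k = 1) (hm : c ^ 2 ^ m = 1) (hn : (b * c) ^ 2 ^ n = 1) (hbn : ¬ ∀ w ∈ W, b * w * b⁻¹ = w)
    (hcn : ¬ ∀ w ∈ W, c * w * c⁻¹ = w) : ∀ w ∈ W, (b * c) * w * (b * c)⁻¹ = w := by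
  have hbc : cj (b * c) W = W := by rw [cj_mul, hc, hb]
  obtain ⟨w2, hw2, hw21, hf⟩ := fix_one hW hbc hn
  obtain ⟨w0, hw0, hw01, hf0⟩ := fix_one hW hb hk
  obtain ⟨w1, hw1, hw11, hf1⟩ := fix_one hW hc hm
  have hbb := sq_trivial hW hb hw0 hw01 hf0
  have hcc := sq_trivial hW hc hw1 hw11 hf1
  have hbb' : ∀ w ∈ W, b * (b * w * b⁻¹) * b⁻¹ = w := fun w hw => by rw [← cc]; exact hbb w hw
  have hcc' : ∀ w ∈ W, c * (c * w * c⁻¹) * c⁻¹ = w := fun w hw => by rw [← cc]; exact hcc w hw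
  -- `c w2 = b w2`
  have e1 : b * (c * w2 * c⁻¹) * b⁻¹ = w2 := by rw [← cc]; exact hf
  have h1 : c * w2 * c⁻¹ = b * w2 * b⁻¹ := by
    have := hbb' _ (conj_mem hc hw2)
    rw [e1] at this
    exact this.symm
  by_cases hb2 : b * w2 * b⁻¹ = w2
  · obtain ⟨w, hw, hw1', hw2'⟩ := hW.exists_ne' w2
    have h3 := act_of_fix hW hb hw2 hw21 hb2 hbn hw hw1' hw2'
    have h4 := act_of_fix hW hc hw2 hw21 (h1.trans hb2) hcn hw hw1' hw2'
    refine fix_of_two hW hw2 hw hw21 hw1' hw2'.symm hf ?_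
    have e : (b * c) * w * (b * c)⁻¹ = b * (c * w * c⁻¹) * b⁻¹ := by group
    have e2 : b * (w2 * w) * b⁻¹ = (b * w2 * b⁻¹) * (b * w * b⁻¹) := by group
    rw [e, h4, e2, hb2, h3, ← mul_assoc, hW.sq w2 hw2, one_mul]
  · refine fix_of_two hW hw2 (conj_mem hb hw2) hw21 (conj_ne_one hw21) (Ne.symm hb2) hf ?_
    rw [cc]
    conv_lhs => rw [← h1, hcc' w2 hw2]

/-! ### the data -/

variable {E V U : Subgroup G} {ρ : G}

/-- `T` is a Sylow 2-subgroup of `N_G(E)`, `B` a complement to `E` in `T`. -/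
structure Dat (E V U : Subgroup G) (ρ : G) (T B : Subgroup G) : Prop where
  tri : Tri E V U ρ
  t2 : T2 E V U
  hC : ∀ x ∈ centralizer (E : Set G), (∃ n, x ^ 2 ^ n = 1) → x ∈ E
  ET : E ≤ T
  pT : IsPGroup 2 T
  TN : T ≤ normalizer (E : Set G)
  max : ∀ Q : Subgroup G, IsPGroup 2 Q → T ≤ Q → Q ≤ normalizer (E : Set G) → Q ≤ T
  BT : B ≤ T
  BE : ∀ b ∈ B, b ∈ E → b = 1
  cov : ∀ t ∈ T, ∃ e ∈ E, ∃ b ∈ B, t = e * b

theorem exists_dat [Finite G] (h : Tri E V U ρ) (h2 : T2 E V U)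
    (hC : ∀ x ∈ centralizer (E : Set G), (∃ n, x ^ 2 ^ n = 1) → x ∈ E) (T : Subgroup G)
    (hT : IsPGroup 2 T) (hET : E ≤ T) (hTN : T ≤ normalizer (E : Set G))
    (hmax : ∀ Q : Subgroup G, IsPGroup 2 Q → T ≤ Q → Q ≤ normalizer (E : Set G) → Q ≤ T) :
    ∃ B, Dat E V U ρ T B := by
  obtain ⟨B, h3, h4, h5⟩ := exists_compl h h2 hC T hT hTN hmax
  exact ⟨B, h, h2, hC, hET, hT, hTN, hmax, h3, h4, h5⟩

namespace Dat

variable {T B : Subgroup G} (D : Dat E V U ρ T B)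
include D

theorem two {t : G} (ht : t ∈ T) : ∃ n, t ^ 2 ^ n = 1 := by
  obtain ⟨n, hn⟩ := D.pT ⟨t, ht⟩
  exact ⟨n, by simpa using congrArg Subtype.val hn⟩

theorem decompE {e : G} (he : e ∈ E) : ∃ v ∈ V, ∃ u ∈ U, e = v * u :=
  decomp D.tri.cardE D.tri.VE D.tri.UE D.tri.cardV D.tri.cardU D.tri.disj he

/-- an element of `B` acting trivially on `V` and `U` is trivial -/
theorem eq_one {b : G} (hb : b ∈ B) (h1 : ∀ v ∈ V, b * v * b⁻¹ = v) (h2 : ∀ u ∈ U, b * u * b⁻¹ = u) : b = 1 := by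
  apply D.BE b hb
  apply D.hC b _ (D.two (D.BT hb))
  rw [mem_centralizer_iff]
  intro e he
  obtain ⟨v, hv, u, hu, rfl⟩ := D.decompE he
  have h3 : b * (v * u) * b⁻¹ = v * u := by rw [cm, h1 v hv, h2 u hu]
  calc v * u * b = (b * (v * u) * b⁻¹) * b := by rw [h3]
    _ = b * (v * u) := by group

theorem fix_or_swap {t : G} (ht : t ∈ T) : (cj t V = V ∧ cj t U = U) ∨ (cj t V = U ∧ cj t U = V) :=
  D.t2.2 t (D.TN ht)

theorem sq {b : G} (hb : b ∈ B) (hV : cj b V = V) : b * b = 1 := by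
  have hU : cj b U = U := D.tri.stabV (D.TN (D.BT hb)) hV
  obtain ⟨n, hn⟩ := D.two (D.BT hb)
  obtain ⟨w, hw, hw1, hwf⟩ := fix_one D.tri.fourV hV hn
  obtain ⟨w', hw', hw1', hwf'⟩ := fix_one D.tri.fourU hU hn
  exact D.eq_one (mul_mem hb hb) (sq_trivial D.tri.fourV hV hw hw1 hwf)
    (sq_trivial D.tri.fourU hU hw' hw1' hwf')

theorem ne_VU : V ≠ U := by
  intro h1
  obtain ⟨v, hv, hv1⟩ := D.tri.fourV.exists_ne
  exact hv1 (D.tri.disj v hv (h1 ▸ hv))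

theorem cjE_fix {e : G} (he : e ∈ E) : cj e V = V := by
  ext x
  rw [mem_cj]
  have key : ∀ y, y ∈ E → e⁻¹ * y * e = y := by
    intro y hy
    rw [mul_assoc, ← D.tri.comm e he y hy]; group
  constructor
  · intro hx
    have h1 : e⁻¹ * x * e ∈ E := D.tri.VE hx
    have h2 : x ∈ E := by
      have : x = e * (e⁻¹ * x * e) * e⁻¹ := by group
      rw [this]
      exact mul_mem (mul_mem he h1) (inv_mem he)
    rwa [key x h2] at hx
  · intro hx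
    rw [key x (D.tri.VE hx)]; exact hx

/-- some element of `B` swaps `V` and `U` -/
theorem exists_swap [Finite G] : ∃ d ∈ B, cj d V = U ∧ cj d U = V := by
  by_contra hcon
  push Not at hcon
  have hB : ∀ b ∈ B, cj b V = V := by
    intro b hb
    rcases D.fix_or_swap (D.BT hb) with h | h
    · exact h.1
    · exact absurd h.2 (hcon b hb h.1)
  have hT : ∀ t ∈ T, cj t V = V := by
    intro t ht
    obtain ⟨e, he, b, hb, rfl⟩ := D.cov t ht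
    rw [cj_mul, hB b hb, D.cjE_fix he]
  -- the swapping element `s` normalizes modulo ...
  obtain ⟨s, hs, hsV, hsU⟩ := D.t2.1
  let N : Subgroup G := normalizer (E : Set G)
  let N0 : Subgroup N := (normalizer (V : Set G)).subgroupOf N
  have hidx : N0.index = 2 := by
    rw [index_eq_two_iff]
    refine ⟨⟨s, hs⟩, fun b => ?_⟩
    have hmem : ∀ x : N, x ∈ N0 ↔ cj (x : G) V = V := by
      intro x
      rw [mem_subgroupOf, mem_normalizer_iff_cj]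
    rw [hmem, hmem]
    change Xor (cj ((b : G) * s) V = V) (cj (b : G) V = V)
    rw [cj_mul, hsV]
    rcases D.t2.2 b b.2 with ⟨h1, h2⟩ | ⟨h1, h2⟩
    · rw [h1, h2]
      exact Or.inr ⟨rfl, fun h => D.ne_VU h.symm⟩
    · rw [h1, h2]
      exact Or.inl ⟨rfl, fun h => D.ne_VU h.symm⟩
  have hT' : IsPGroup 2 (T.subgroupOf N) := D.pT.comap_subtype
  obtain ⟨T1, hT1⟩ := hT'.exists_le_sylow
  have h1 : (T1 : Subgroup N) ≤ N0 := by
    intro x hx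
    rw [mem_subgroupOf, mem_normalizer_iff_cj]
    apply hT
    apply D.max ((T1 : Subgroup N).map N.subtype) (T1.isPGroup'.map _)
    · intro t ht
      exact ⟨⟨t, D.TN ht⟩, hT1 (mem_subgroupOf.2 ht), rfl⟩
    · rintro _ ⟨y, -, rfl⟩
      exact y.2
    · exact ⟨x, hx, rfl⟩
  have h2 : N0.index ∣ (T1 : Subgroup N).index := index_dvd_of_le h1
  rw [hidx] at h2
  exact T1.not_dvd_index h2

theorem ntr {b : G} (hb : b ∈ B) (h1 : b ≠ 1) : (¬ ∀ v ∈ V, b * v * b⁻¹ = v) ∨ ¬ ∀ u ∈ U, b * u * b⁻¹ = u := by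
  by_contra hcon
  push Not at hcon
  exact h1 (D.eq_one hb hcon.1 hcon.2)

end Dat

/-! ### the four forms -/

/-- `T = E⟨d⟩`, `d` swaps `V` and `U`: `V₄ wr 2`. -/
structure Z2F (T E V U : Subgroup G) (d : G) : Prop where
  ET : E ≤ T
  md : d ∈ T
  sd : d * d = 1
  dV : cj d V = U
  dU : cj d U = V
  cov : ∀ t ∈ T, ∃ e ∈ E, t = e ∨ t = e * d

/-- `T = E⟨τ, d⟩`: `Z₂ wr V₄`. -/
structure V4F (T E V U : Subgroup G) (τ d : G) : Prop where
  ET : E ≤ T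
  mt : τ ∈ T
  md : d ∈ T
  st : τ * τ = 1
  sd : d * d = 1
  td : d * τ = τ * d
  dV : cj d V = U
  dU : cj d U = V
  tV : cj τ V = V
  nV : ¬ ∀ v ∈ V, τ * v * τ⁻¹ = v
  cov : ∀ t ∈ T, ∃ e ∈ E, t = e ∨ t = e * τ ∨ t = e * d ∨ t = e * (τ * d)

/-- `T = E⟨s⟩`, `s` of order 4: `Z₂ wr Z₄`. -/
structure Z4F (T E V U : Subgroup G) (s : G) : Prop where
  ET : E ≤ T
  ms : s ∈ T
  s4 : s * s * (s * s) = 1
  sV : cj s V = U
  sU : cj s U = V
  nV : ¬ ∀ v ∈ V, (s * s) * v * (s * s)⁻¹ = v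
  cov : ∀ t ∈ T, ∃ e ∈ E, t = e ∨ t = e * (s * s) ∨ t = e * s ∨ t = e * (s * s * s)

/-- `T = E⟨τ₁, τ₂, d⟩`: `D₈ wr 2`. -/
structure D8F (T E V U : Subgroup G) (τ₁ τ₂ d : G) : Prop where
  ET : E ≤ T
  m1 : τ₁ ∈ T
  m2 : τ₂ ∈ T
  md : d ∈ T
  s1 : τ₁ * τ₁ = 1
  s2 : τ₂ * τ₂ = 1
  sd : d * d = 1
  c12 : τ₁ * τ₂ = τ₂ * τ₁
  d1 : d * τ₁ * d⁻¹ = τ₂
  dV : cj d V = U
  dU : cj d U = V
  v1 : cj τ₁ V = V
  n1 : ¬ ∀ v ∈ V, τ₁ * v * τ₁⁻¹ = v
  u1 : ∀ u ∈ U, τ₁ * u * τ₁⁻¹ = u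
  u2 : cj τ₂ U = U
  n2 : ¬ ∀ u ∈ U, τ₂ * u * τ₂⁻¹ = u
  v2 : ∀ v ∈ V, τ₂ * v * τ₂⁻¹ = v
  cov : ∀ t ∈ T, ∃ e ∈ E, (t = e ∨ t = e * τ₁ ∨ t = e * τ₂ ∨ t = e * (τ₁ * τ₂)) ∨
    (t = e * d ∨ t = e * (τ₁ * d) ∨ t = e * (τ₂ * d) ∨ t = e * (τ₁ * τ₂ * d))

namespace Dat

variable {T B : Subgroup G} (D : Dat E V U ρ T B)
include D

/-- every `t ∈ T` is `e b` or `e b d` with `b ∈ B` fixing `V` -/
theorem cov_of {d : G} (hd : d ∈ B) (hdV : cj d V = U) (hdU : cj d U = V) {t : G} (ht : t ∈ T) :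
    ∃ e ∈ E, ∃ b ∈ B, cj b V = V ∧ (t = e * b ∨ t = e * (b * d)) := by
  obtain ⟨e, he, b, hb, rfl⟩ := D.cov t ht
  rcases D.fix_or_swap (D.BT hb) with h | h
  · exact ⟨e, he, b, hb, h.1, Or.inl rfl⟩
  · refine ⟨e, he, b * d⁻¹, mul_mem hb (inv_mem hd), ?_, Or.inr (by group)⟩
    rw [cj_mul, cj_inv hdU, h.2]

theorem sq_fix {d : G} (hd : d ∈ B) (hdV : cj d V = U) (hdU : cj d U = V) : cj (d * d) V = V := by
  rw [cj_mul, hdV, hdU]

/-- if only the identity of `B` fixes `V` -/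
theorem z2F {d : G} (hd : d ∈ B) (hdV : cj d V = U) (hdU : cj d U = V)
    (h : ∀ b ∈ B, cj b V = V → b = 1) : Z2F T E V U d := by
  refine ⟨D.ET, D.BT hd, h _ (mul_mem hd hd) (D.sq_fix hd hdV hdU), hdV, hdU, ?_⟩
  intro t ht
  obtain ⟨e, he, b, hb, hbV, h1⟩ := D.cov_of hd hdV hdU ht
  rw [h b hb hbV, mul_one, one_mul] at h1
  exact ⟨e, he, h1⟩

/-- two elements of `B` fixing `V`, nontrivial on `V`: the product is trivial on `V` -/
theorem mul_V {b c : G} (hb : b ∈ B) (hc : c ∈ B) (hbV : cj b V = V) (hcV : cj c V = V)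
    (hbn : ¬ ∀ v ∈ V, b * v * b⁻¹ = v) (hcn : ¬ ∀ v ∈ V, c * v * c⁻¹ = v) :
    ∀ v ∈ V, (b * c) * v * (b * c)⁻¹ = v := by
  obtain ⟨k, hk⟩ := D.two (D.BT hb)
  obtain ⟨m, hm⟩ := D.two (D.BT hc)
  obtain ⟨n, hn⟩ := D.two (D.BT (mul_mem hb hc))
  exact mul_trivial D.tri.fourV hbV hcV hk hm hn hbn hcn

theorem mul_U {b c : G} (hb : b ∈ B) (hc : c ∈ B) (hbV : cj b V = V) (hcV : cj c V = V)
    (hbn : ¬ ∀ v ∈ U, b * v * b⁻¹ = v) (hcn : ¬ ∀ v ∈ U, c * v * c⁻¹ = v) :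
    ∀ v ∈ U, (b * c) * v * (b * c)⁻¹ = v := by
  obtain ⟨k, hk⟩ := D.two (D.BT hb)
  obtain ⟨m, hm⟩ := D.two (D.BT hc)
  obtain ⟨n, hn⟩ := D.two (D.BT (mul_mem hb hc))
  exact mul_trivial D.tri.fourU (D.tri.stabV (D.TN (D.BT hb)) hbV) (D.tri.stabV (D.TN (D.BT hc)) hcV)
    hk hm hn hbn hcn

/-- the case where no nontrivial element of `B` fixing `V` is trivial on `V` -/
theorem z4F_or_v4F {d τ : G} (hd : d ∈ B) (hdV : cj d V = U) (hdU : cj d U = V) (ht : τ ∈ B) (htV : cj τ V = V)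
    (ht1 : τ ≠ 1) (h : ∀ b ∈ B, cj b V = V → (∀ v ∈ V, b * v * b⁻¹ = v) → b = 1) :
    V4F T E V U τ d ∨ Z4F T E V U d := by
  have hn : ¬ ∀ v ∈ V, τ * v * τ⁻¹ = v := fun h1 => ht1 (h τ ht htV h1)
  have htt := D.sq ht htV
  have htinv : τ⁻¹ = τ := inv_eq_of_mul_eq_one_left htt
  have key : ∀ b ∈ B, cj b V = V → b = 1 ∨ b = τ := by
    intro b hb hbV
    by_cases hbn : ∀ v ∈ V, b * v * b⁻¹ = v
    · exact Or.inl (h b hb hbV hbn)
    · right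
      have h1 := D.mul_V hb ht hbV htV hbn hn
      have h2 := h _ (mul_mem hb ht) (by rw [cj_mul, htV, hbV]) h1
      rw [← htinv]
      exact eq_inv_of_mul_eq_one_left h2
  have hdd := D.sq_fix hd hdV hdU
  rcases key _ (mul_mem hd hd) hdd with h1 | h1
  · left
    have hdt : d * τ * d⁻¹ = τ := by
      rcases key (d * τ * d⁻¹) (mul_mem (mul_mem hd ht) (inv_mem hd)) (by
        rw [cj_mul, cj_mul, cj_inv hdU, D.tri.stabV (D.TN (D.BT ht)) htV, hdU]) with h2 | h2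
      · exact absurd h2 (conj_ne_one ht1)
      · exact h2
    refine ⟨D.ET, D.BT ht, D.BT hd, htt, h1, ?_, hdV, hdU, htV, hn, ?_⟩
    · calc d * τ = (d * τ * d⁻¹) * d := by group
        _ = τ * d := by rw [hdt]
    · intro t ht'
      obtain ⟨e, he, b, hb, hbV, h3⟩ := D.cov_of hd hdV hdU ht'
      refine ⟨e, he, ?_⟩
      rcases key b hb hbV with rfl | rfl
      · rw [mul_one, one_mul] at h3
        rcases h3 with h3 | h3
        · exact Or.inl h3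
        · exact Or.inr (Or.inr (Or.inl h3))
      · rcases h3 with h3 | h3
        · exact Or.inr (Or.inl h3)
        · exact Or.inr (Or.inr (Or.inr h3))
  · right
    refine ⟨D.ET, D.BT hd, by rw [h1]; exact htt, hdV, hdU, by rw [h1]; exact hn, ?_⟩
    intro t ht'
    obtain ⟨e, he, b, hb, hbV, h3⟩ := D.cov_of hd hdV hdU ht'
    refine ⟨e, he, ?_⟩
    rcases key b hb hbV with rfl | rfl
    · rw [mul_one, one_mul] at h3
      rcases h3 with h3 | h3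
      · exact Or.inl h3
      · exact Or.inr (Or.inr (Or.inl h3))
    · rw [h1]
      rcases h3 with h3 | h3
      · exact Or.inr (Or.inl h3)
      · exact Or.inr (Or.inr (Or.inr h3))

/-- the case where a nontrivial element of `B` is trivial on `U` -/
theorem d8F {d τ : G} (hd : d ∈ B) (hdV : cj d V = U) (hdU : cj d U = V) (ht : τ ∈ B) (htV : cj τ V = V)
    (ht1 : τ ≠ 1) (htU : ∀ u ∈ U, τ * u * τ⁻¹ = u) : ∃ d', D8F T E V U τ (d * τ * d⁻¹) d' := by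
  have hn : ¬ ∀ v ∈ V, τ * v * τ⁻¹ = v := fun h1 => ht1 (D.eq_one ht h1 htU)
  have htt := D.sq ht htV
  have htinv : τ⁻¹ = τ := inv_eq_of_mul_eq_one_left htt
  have htU' : cj τ U = U := D.tri.stabV (D.TN (D.BT ht)) htV
  set σ := d * τ * d⁻¹ with hσ
  have hσB : σ ∈ B := mul_mem (mul_mem hd ht) (inv_mem hd)
  have hσV : cj σ V = V := by rw [hσ, cj_mul, cj_mul, cj_inv hdU, htU', hdU]
  have hσU : cj σ U = U := D.tri.stabV (D.TN (D.BT hσB)) hσV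
  have hσσ := D.sq hσB hσV
  have hσinv : σ⁻¹ = σ := inv_eq_of_mul_eq_one_left hσσ
  have hσ1 : σ ≠ 1 := conj_ne_one ht1
  have hσtr : ∀ v ∈ V, σ * v * σ⁻¹ = v := by
    intro v hv
    have h1 : d⁻¹ * v * d ∈ U := by rw [← mem_cj, hdU]; exact hv
    have h2 := htU _ h1
    calc σ * v * σ⁻¹ = d * (τ * (d⁻¹ * v * d) * τ⁻¹) * d⁻¹ := by rw [hσ]; group
      _ = d * (d⁻¹ * v * d) * d⁻¹ := by rw [h2]
      _ = v := by group
  have hσn : ¬ ∀ u ∈ U, σ * u * σ⁻¹ = u := fun h1 => hσ1 (D.eq_one hσB hσtr h1)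
  have hcomm : τ * σ = σ * τ := by
    have h1 := D.sq (mul_mem ht hσB) (by rw [cj_mul, hσV, htV])
    calc τ * σ = τ * σ * (σ * τ * (τ * σ)) := by
          have : σ * τ * (τ * σ) = 1 := by
            calc σ * τ * (τ * σ) = σ * (τ * τ) * σ := by group
              _ = 1 := by rw [htt, mul_one, hσσ]
          rw [this, mul_one]
      _ = τ * (σ * σ) * τ * (τ * σ) := by group
      _ = τ * τ * (τ * σ) := by rw [hσσ, mul_one]
      _ = τ * σ := by rw [htt, one_mul]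
      _ = (σ * τ)⁻¹ := by rw [mul_inv_rev, htinv, hσinv]
      _ = σ * τ := by
          rw [inv_eq_iff_mul_eq_one]
          exact D.sq (mul_mem hσB ht) (by rw [cj_mul, htV, hσV])
  have key : ∀ b ∈ B, cj b V = V → (b = 1 ∨ b = τ) ∨ (b = σ ∨ b = τ * σ) := by
    intro b hb hbV
    -- reduce to `c` trivial on `V`
    obtain ⟨c, hc, hcV, hctr, hbc⟩ : ∃ c ∈ B, cj c V = V ∧ (∀ v ∈ V, c * v * c⁻¹ = v) ∧ (b = c ∨ b = τ * c) := by
      by_cases hbn : ∀ v ∈ V, b * v * b⁻¹ = v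
      · exact ⟨b, hb, hbV, hbn, Or.inl rfl⟩
      · refine ⟨τ * b, mul_mem ht hb, by rw [cj_mul, hbV, htV], D.mul_V ht hb htV hbV hn hbn, Or.inr ?_⟩
        rw [← mul_assoc, htt, one_mul]
    have hc2 : c = 1 ∨ c = σ := by
      by_cases hcn : ∀ u ∈ U, c * u * c⁻¹ = u
      · exact Or.inl (D.eq_one hc hctr hcn)
      · right
        have h1 := D.mul_U hc hσB hcV hσV hcn hσn
        have h2 : ∀ v ∈ V, (c * σ) * v * (c * σ)⁻¹ = v := by
          intro v hv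
          rw [cc, hσtr v hv, hctr v hv]
        have h3 := D.eq_one (mul_mem hc hσB) h2 h1
        rw [← hσinv]
        exact eq_inv_of_mul_eq_one_left h3
    rcases hc2 with rfl | rfl
    · rcases hbc with rfl | rfl
      · exact Or.inl (Or.inl rfl)
      · exact Or.inl (Or.inr (mul_one _))
    · rcases hbc with rfl | rfl
      · exact Or.inr (Or.inl rfl)
      · exact Or.inr (Or.inr rfl)
  -- the covering for an arbitrary swapping element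
  have hcov : ∀ d' ∈ B, cj d' V = U → cj d' U = V → ∀ t ∈ T, ∃ e ∈ E,
      (t = e ∨ t = e * τ ∨ t = e * σ ∨ t = e * (τ * σ)) ∨
        (t = e * d' ∨ t = e * (τ * d') ∨ t = e * (σ * d') ∨ t = e * (τ * σ * d')) := by
    intro d' hd' hd'V hd'U t ht'
    obtain ⟨e, he, b, hb, hbV, h3⟩ := D.cov_of hd' hd'V hd'U ht'
    refine ⟨e, he, ?_⟩
    rcases h3 with h3 | h3
    · left
      rcases key b hb hbV with (rfl | rfl) | (rfl | rfl)
      · rw [mul_one] at h3; exact Or.inl h3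
      · exact Or.inr (Or.inl h3)
      · exact Or.inr (Or.inr (Or.inl h3))
      · exact Or.inr (Or.inr (Or.inr h3))
    · right
      rcases key b hb hbV with (rfl | rfl) | (rfl | rfl)
      · rw [one_mul] at h3; exact Or.inl h3
      · exact Or.inr (Or.inl h3)
      · exact Or.inr (Or.inr (Or.inl h3))
      · exact Or.inr (Or.inr (Or.inr h3))
  -- `σ` is trivial on `V`, `τ` is not: `σ ≠ τ`
  have hne : σ ≠ τ := fun h1 => hn (by rw [← h1]; exact hσtr)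
  have hdd := D.sq_fix hd hdV hdU
  have hcd : d * (d * d) * d⁻¹ = d * d := by group
  rcases key _ (mul_mem hd hd) hdd with (h1 | h1) | (h1 | h1)
  · exact ⟨d, D.ET, D.BT ht, D.BT hσB, D.BT hd, htt, hσσ, h1, hcomm, rfl, hdV, hdU, htV, hn, htU, hσU, hσn, hσtr,
      hcov d hd hdV hdU⟩
  · exfalso
    rw [h1] at hcd
    exact hne hcd
  · exfalso
    rw [h1] at hcd
    apply hne
    -- `d σ d⁻¹ = σ = d τ d⁻¹`
    have h2 : d * σ * d⁻¹ = d * τ * d⁻¹ := hcd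
    exact mul_left_cancel (mul_right_cancel h2)
  · refine ⟨d * τ, D.ET, D.BT ht, D.BT hσB, D.BT (mul_mem hd ht), htt, hσσ, ?_, hcomm, ?_, ?_, ?_, htV, hn, htU, hσU,
      hσn, hσtr, ?_⟩
    · calc d * τ * (d * τ) = (d * τ * d⁻¹) * (d * d) * τ := by group
        _ = σ * (τ * σ) * τ := by rw [h1]
        _ = σ * (σ * τ) * τ := by rw [hcomm]
        _ = (σ * σ) * (τ * τ) := by group
        _ = 1 := by rw [hσσ, htt, one_mul]
    · rw [hσ]; group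
    · rw [cj_mul, htV, hdV]
    · rw [cj_mul, htU', hdU]
    · exact hcov _ (mul_mem hd ht) (by rw [cj_mul, htV, hdV]) (by rw [cj_mul, htU', hdU])

/-- **The normal form.** -/
theorem forms [Finite G] : (∃ d, Z2F T E V U d) ∨ (∃ s, Z4F T E V U s) ∨ (∃ τ d, V4F T E V U τ d) ∨
    ∃ τ₁ τ₂ d, D8F T E V U τ₁ τ₂ d := by
  obtain ⟨d, hd, hdV, hdU⟩ := D.exists_swap
  by_cases hA : ∀ b ∈ B, cj b V = V → b = 1
  · exact Or.inl ⟨d, D.z2F hd hdV hdU hA⟩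
  by_cases hC : ∀ b ∈ B, cj b V = V → (∀ v ∈ V, b * v * b⁻¹ = v) → b = 1
  · push Not at hA
    obtain ⟨τ, ht, htV, ht1⟩ := hA
    rcases D.z4F_or_v4F hd hdV hdU ht htV ht1 hC with h | h
    · exact Or.inr (Or.inr (Or.inl ⟨τ, d, h⟩))
    · exact Or.inr (Or.inl ⟨d, h⟩)
  · push Not at hC
    obtain ⟨b, hb, hbV, hbtr, hb1⟩ := hC
    -- `τ = d b d⁻¹` is trivial on `U`
    obtain ⟨d', h⟩ := D.d8F hd hdV hdU (τ := d * b * d⁻¹) (mul_mem (mul_mem hd hb) (inv_mem hd)) (by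
        rw [cj_mul, cj_mul, cj_inv hdU, D.tri.stabV (D.TN (D.BT hb)) hbV, hdU]) (conj_ne_one hb1) (by
        intro u hu
        have h1 : d⁻¹ * u * d ∈ V := by rw [← mem_cj, hdV]; exact hu
        have h2 := hbtr _ h1
        calc (d * b * d⁻¹) * u * (d * b * d⁻¹)⁻¹ = d * (b * (d⁻¹ * u * d) * b⁻¹) * d⁻¹ := by group
          _ = d * (d⁻¹ * u * d) * d⁻¹ := by rw [h2]
          _ = u := by group)
    exact Or.inr (Or.inr (Or.inr ⟨_, _, d', h⟩))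

end Dat

end Cfsg.Agent.GH.L2T2Form
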