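import Cfsg.Agent.GH.L2T2Form

/-!
# GH-L2, case (T2): the types of `N_S(E)`

`Z2F → WrFour.Cfg`, `Z4F → WrCyc.Cyc`, `V4F → IsType W24`, `D8F → IsType W8`.
-/

set_option autoImplicit false

open Subgroup
open Cfsg.Agent.SignalizersComponents.IntrinsicBasic (cj mem_cj conj_mem_cj cj_one cj_mul
  cj_inv_cj cj_cj_inv cj_injective cj_mono mem_normalizer_iff_cj)
open Cfsg.Agent.GH.L2Tri Cfsg.Agent.GH.L2T2Compl Cfsg.Agent.GH.L2T2Form
open Cfsg.Agent.GH.L2 Cfsg.Agent.GH.Pc Cfsg.Agent.GH.PcTypes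

namespace Cfsg.Agent.GH.L2T2Type

variable {G : Type*} [Group G] {E V U T : Subgroup G} {ρ : G}

theorem inv_of_sq {x : G} (h : x * x = 1) : x⁻¹ = x := inv_eq_of_mul_eq_one_left h

/-- uniqueness of the decomposition -/
theorem uniq (h : Tri E V U ρ) {v v' u u' : G} (hv : v ∈ V) (hv' : v' ∈ V) (hu : u ∈ U) (hu' : u' ∈ U)
    (he : v * u = v' * u') : v = v' ∧ u = u' := by
  have h1 : v'⁻¹ * v = u' * u⁻¹ := by
    calc v'⁻¹ * v = v'⁻¹ * (v * u) * u⁻¹ := by group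
      _ = v'⁻¹ * (v' * u') * u⁻¹ := by rw [he]
      _ = u' * u⁻¹ := by group
  have h2 := h.disj (v'⁻¹ * v) (mul_mem (inv_mem hv') hv) (by rw [h1]; exact mul_mem hu' (inv_mem hu))
  refine ⟨(inv_mul_eq_one.1 h2).symm, ?_⟩
  rw [h2] at h1
  exact (mul_inv_eq_one.1 h1.symm).symm

/-- the fixed points of a swapping element: `|C_E(d)| = 4` if `d * d` is trivial on `E`. -/
theorem card_cent [Finite G] (h : Tri E V U ρ) {d : G} (dV : cj d V = U) (dU : cj d U = V) (hd : d * d = 1) :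
    Nat.card (E ⊓ centralizer ({d} : Set G) : Subgroup G) = 4 := by
  have hdd : ∀ x : G, d * (d * x * d⁻¹) * d⁻¹ = x := by
    intro x
    rw [← cc, hd]; group
  have hmV : ∀ v ∈ V, d * v * d⁻¹ ∈ U := fun v hv => by rw [← dV]; exact conj_mem_cj hv
  have hmU : ∀ u ∈ U, d * u * d⁻¹ ∈ V := fun u hu => by rw [← dU]; exact conj_mem_cj hu
  let f : V → (E ⊓ centralizer ({d} : Set G) : Subgroup G) := fun v => ⟨v * (d * v * d⁻¹), by
    refine mem_inf.2 ⟨mul_mem (h.VE v.2) (h.UE (hmV v v.2)), ?_⟩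
    rw [mem_centralizer_singleton_iff]
    have h1 : d * (v * (d * v * d⁻¹)) * d⁻¹ = v * (d * v * d⁻¹) := by
      rw [cm, hdd]
      exact h.comm _ (h.UE (hmV v v.2)) _ (h.VE v.2)
    calc v * (d * v * d⁻¹) * d = (d * (v * (d * v * d⁻¹)) * d⁻¹) * d := by rw [h1]
      _ = d * (v * (d * v * d⁻¹)) := by group⟩
  rw [← h.cardV]
  refine (Nat.card_congr (Equiv.ofBijective f ⟨?_, ?_⟩)).symm
  · intro v v' hvv
    have h1 : (v : G) * (d * v * d⁻¹) = v' * (d * v' * d⁻¹) := congrArg Subtype.val hvv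
    exact Subtype.ext (uniq h v.2 v'.2 (hmV v v.2) (hmV v' v'.2) h1).1
  · rintro ⟨e, he⟩
    obtain ⟨he, hed⟩ := mem_inf.1 he
    rw [mem_centralizer_singleton_iff] at hed
    obtain ⟨v, hv, u, hu, rfl⟩ := decomp h.cardE h.VE h.UE h.cardV h.cardU h.disj he
    have h1 : d * (v * u) * d⁻¹ = v * u := by rw [← hed]; group
    have h2 : (d * u * d⁻¹) * (d * v * d⁻¹) = v * u := by
      rw [← h1, cm]
      exact (h.comm _ (h.UE (hmV v hv)) _ (h.VE (hmU u hu))).symm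
    have h3 := uniq h (hmU u hu) hv (hmV v hv) hu h2
    refine ⟨⟨v, hv⟩, Subtype.ext ?_⟩
    change v * (d * v * d⁻¹) = v * u
    rw [h3.2]

theorem swap_not_mem (h : Tri E V U ρ) {d : G} (dV : cj d V = U) : d ∉ E := by
  intro hd
  obtain ⟨v, hv, hv1⟩ := h.fourV.exists_ne
  apply hv1
  apply h.disj v hv
  rw [← dV, mem_cj]
  have h1 : d⁻¹ * v * d = v := by
    rw [mul_assoc, h.comm v (h.VE hv) d hd]; group
  rw [h1]; exact hv

theorem norm_conj {d e : G} (hd : d ∈ normalizer (E : Set G)) (he : e ∈ E) : d * e * d⁻¹ ∈ E :=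
  (mem_normalizer_iff.1 hd e).1 he

/-- `V₄ wr 2` -/
theorem cfg_of_z2F [Finite G] (h : Tri E V U ρ) (hTN : T ≤ normalizer (E : Set G)) {d : G} (F : Z2F T E V U d) :
    WrFour.Cfg T E d where
  le := F.ET
  card := h.cardE
  sq := h.sq
  mem := F.md
  nmem := swap_not_mem h F.dV
  dd := F.sd
  cent := card_cent h F.dV F.dU F.sd
  cov := by
    intro t ht
    obtain ⟨e, he, rfl | rfl⟩ := F.cov t ht
    · exact Or.inl he
    · right
      have e1 : d * (e * d) = d * e * d⁻¹ * (d * d) := by group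
      rw [e1, F.sd, mul_one]
      exact norm_conj (hTN F.md) he

/-- transitivity on pairs -/
theorem transU (h : Tri E V U ρ) {u u' : G} (hu : u ∈ U) (hu' : u' ∈ U) (hu1 : u ≠ 1) (hu1' : u' ≠ 1) :
    ∃ n ∈ normalizer (E : Set G), (∀ v ∈ V, n * v * n⁻¹ = v) ∧ n * u * n⁻¹ = u' := by
  rcases h.orbU hu hu1 hu' hu1' with h1 | h1 | h1
  · exact ⟨1, one_mem _, fun v _ => by group, by rw [h1]; group⟩
  · exact ⟨ρ, h.norm, h.cen, h1.symm⟩
  · refine ⟨ρ * ρ, mul_mem h.norm h.norm, fun v hv => ?_, ?_⟩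
    · rw [cc, h.cen v hv, h.cen v hv]
    · rw [cc, h1]

theorem transV (h : Tri E V U ρ) {s : G} (hs : s ∈ normalizer (E : Set G)) (sV : cj s V = U) (sU : cj s U = V)
    {v v' : G} (hv : v ∈ V) (hv' : v' ∈ V) (hv1 : v ≠ 1) (hv1' : v' ≠ 1) :
    ∃ n ∈ normalizer (E : Set G), (∀ u ∈ U, n * u * n⁻¹ = u) ∧ n * v * n⁻¹ = v' := by
  have h1 : s⁻¹ * v * s ∈ U := by rw [← mem_cj, sU]; exact hv
  have h2 : s⁻¹ * v' * s ∈ U := by rw [← mem_cj, sU]; exact hv'
  have ne : ∀ x : G, x ≠ 1 → s⁻¹ * x * s ≠ 1 := by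
    intro x hx h3
    apply hx
    have e : x = s * (s⁻¹ * x * s) * s⁻¹ := by group
    rw [e, h3]; group
  obtain ⟨n, hn, hnV, hnu⟩ := transU h h1 h2 (ne v hv1) (ne v' hv1')
  refine ⟨s * n * s⁻¹, mul_mem (mul_mem hs hn) (inv_mem hs), ?_, ?_⟩
  · intro u hu
    have h3 : s⁻¹ * u * s ∈ V := by rw [← mem_cj, sV]; exact hu
    calc s * n * s⁻¹ * u * (s * n * s⁻¹)⁻¹ = s * (n * (s⁻¹ * u * s) * n⁻¹) * s⁻¹ := by group
      _ = s * (s⁻¹ * u * s) * s⁻¹ := by rw [hnV _ h3]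
      _ = u := by group
  · calc s * n * s⁻¹ * v * (s * n * s⁻¹)⁻¹ = s * (n * (s⁻¹ * v * s) * n⁻¹) * s⁻¹ := by group
      _ = s * (s⁻¹ * v' * s) * s⁻¹ := by rw [hnu]
      _ = v' := by group

/-- `|C_V(τ)| = 2` for a nontrivial 2-element `τ` normalizing `V` -/
theorem card_cent_V [Finite G] {V : Subgroup G} (hV : Four V) {τ : G} (hn : ¬ ∀ v ∈ V, τ * v * τ⁻¹ = v) {w : G}
    (hw : w ∈ V) (hw1 : w ≠ 1) (hwf : τ * w * τ⁻¹ = w) :
    Nat.card (V ⊓ centralizer ({τ} : Set G) : Subgroup G) = 2 := by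
  have h1 : Nat.card (V ⊓ centralizer ({τ} : Set G) : Subgroup G) ∣ 4 := by
    rw [← hV.card]
    exact card_dvd_of_le inf_le_left
  have h2 : Nat.card (V ⊓ centralizer ({τ} : Set G) : Subgroup G) ≠ 1 := by
    intro h3
    rw [card_eq_one, eq_bot_iff] at h3
    apply hw1
    rw [← mem_bot]
    apply h3
    refine mem_inf.2 ⟨hw, ?_⟩
    rw [mem_centralizer_singleton_iff]
    calc w * τ = (τ * w * τ⁻¹) * τ := by rw [hwf]
      _ = τ * w := by group
  have h4 : Nat.card (V ⊓ centralizer ({τ} : Set G) : Subgroup G) ≠ 4 := by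
    intro h3
    apply hn
    intro v hv
    have h5 : (V ⊓ centralizer ({τ} : Set G) : Subgroup G) = V := by
      apply eq_of_le_of_card_ge inf_le_left
      rw [h3, hV.card]
    have h6 : v ∈ (V ⊓ centralizer ({τ} : Set G) : Subgroup G) := by rw [h5]; exact hv
    have h7 := mem_centralizer_singleton_iff.1 (mem_inf.1 h6).2
    rw [← h7]; group
  have h5 := (Nat.dvd_prime_pow Nat.prime_two (m := 2)).1 (by simpa using h1)
  obtain ⟨k, hk, hk'⟩ := h5
  interval_cases k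
  · exact absurd hk' h2
  · simpa using hk'
  · exact absurd hk' h4

theorem two_of_T [Finite G] (hT : IsPGroup 2 T) {t : G} (ht : t ∈ T) : ∃ n, t ^ 2 ^ n = 1 := by
  obtain ⟨n, hn⟩ := hT ⟨t, ht⟩
  exact ⟨n, by simpa using congrArg Subtype.val hn⟩

/-- `Z₂ wr Z₄` -/
theorem cyc_of_z4F [Finite G] (h : Tri E V U ρ) (h2 : T2 E V U) (hT : IsPGroup 2 T)
    (hTN : T ≤ normalizer (E : Set G)) {s : G} (F : Z4F T E V U s) : WrCyc.Cyc T E V U s where
  memE := by
    intro x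
    constructor
    · exact fun hx => decomp h.cardE h.VE h.UE h.cardV h.cardU h.disj hx
    · rintro ⟨v, hv, u, hu, rfl⟩
      exact mul_mem (h.VE hv) (h.UE hu)
  cardE := h.cardE
  sqV := fun v hv => h.sq v (h.VE hv)
  sqU := fun u hu => h.sq u (h.UE hu)
  comm := fun v hv u hu => h.comm v (h.VE hv) u (h.UE hu)
  disj := h.disj
  E_le := F.ET
  s_mem := F.ms
  sV := fun v hv => by rw [← F.sV]; exact conj_mem_cj hv
  sU := fun u hu => by rw [← F.sU]; exact conj_mem_cj hu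
  s4 := F.s4
  cardCV := by
    obtain ⟨n, hn⟩ := two_of_T hT (mul_mem F.ms F.ms)
    obtain ⟨w, hw, hw1, hwf⟩ := fix_one h.fourV (b := s * s) (by rw [cj_mul, F.sV, F.sU]) hn
    exact card_cent_V h.fourV F.nV hw hw1 hwf
  cov := by
    intro t ht
    have hsE : ∀ e ∈ E, s * e * s⁻¹ ∈ E := fun e he => norm_conj (hTN F.ms) he
    obtain ⟨e, he, rfl | rfl | rfl | rfl⟩ := F.cov t ht
    · exact Or.inl (Or.inl he)
    · refine Or.inl (Or.inr ?_)
      have e1 : s * s * (e * (s * s)) = s * (s * e * s⁻¹) * s⁻¹ * (s * s * (s * s)) := by simp [mul_assoc]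
      rw [e1, F.s4, mul_one]
      exact hsE _ (hsE _ he)
    · refine Or.inr (Or.inr ?_)
      have e1 : s * (s * s * (e * s)) = s * (s * (s * e * s⁻¹) * s⁻¹) * s⁻¹ * (s * s * (s * s)) := by simp [mul_assoc]
      rw [e1, F.s4, mul_one]
      exact hsE _ (hsE _ (hsE _ he))
    · refine Or.inr (Or.inl ?_)
      have e1 : s * (e * (s * s * s)) = s * e * s⁻¹ * (s * s * (s * s)) := by simp [mul_assoc]
      rw [e1, F.s4, mul_one]
      exact hsE _ he
  part := by
    intro n hn v hv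
    have hnE : n ∈ normalizer (E : Set G) := by
      rw [mem_normalizer_iff_cj]
      have hle : cj n E ≤ E := by
        rintro _ ⟨e, he, rfl⟩
        exact hn e he
      exact eq_of_le_of_card_ge hle (by
        rw [show Nat.card (cj n E) = Nat.card E from card_map_of_injective (MulAut.conj n).injective])
    rcases h2.2 n hnE with ⟨h3, h4⟩ | ⟨h3, h4⟩
    · rcases hv with hv | hv
      · left; rw [← h3]; exact conj_mem_cj hv
      · right; rw [← h4]; exact conj_mem_cj hv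
    · rcases hv with hv | hv
      · right; rw [← h3]; exact conj_mem_cj hv
      · left; rw [← h4]; exact conj_mem_cj hv
  trans := by
    intro v hv v' hv' u hu u' hu' hv1 hv1' hu1 hu1'
    obtain ⟨n, hn, hnV, hnu⟩ := transU h hu hu' hu1 hu1'
    obtain ⟨m, hm, hmU, hmv⟩ := transV h (hTN F.ms) F.sV F.sU hv hv' hv1 hv1'
    refine ⟨n * m, fun e he => ?_, ?_, ?_⟩
    · exact norm_conj (mul_mem hn hm) he
    · rw [cc, hmv, hnV v' hv']
    · rw [cc, hmU u hu, hnu]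

/-! ### orders -/

theorem card_double [Finite G] {A B : Subgroup G} (hAB : A ≤ B) {d : G} (hd : d ∈ B) (hdA : d ∉ A)
    (hcov : ∀ b ∈ B, b ∈ A ∨ b * d ∈ A) : Nat.card B = 2 * Nat.card A := by
  have h1 : (A.subgroupOf B).index = 2 := by
    rw [index_eq_two_iff]
    refine ⟨⟨d, hd⟩, fun b => ?_⟩
    rw [mem_subgroupOf, mem_subgroupOf]
    change Xor ((b : G) * d ∈ A) ((b : G) ∈ A)
    by_cases hb : (b : G) ∈ A
    · exact Or.inr ⟨hb, fun h => hdA ((mul_mem_cancel_left hb).1 h)⟩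
    · exact Or.inl ⟨(hcov b b.2).resolve_left hb, hb⟩
  have h2 := (A.subgroupOf B).card_mul_index
  rw [h1, Nat.card_congr (subgroupOfEquivOfLe hAB).toEquiv] at h2
  rw [← h2, mul_comm]

theorem le_of_two {V K : Subgroup G} (hV : Four V) {a b : G} (ha : a ∈ V) (hb : b ∈ V) (ha1 : a ≠ 1) (hb1 : b ≠ 1)
    (hab : a ≠ b) (haK : a ∈ K) (hbK : b ∈ K) : V ≤ K := by
  intro c hc
  rcases hV.cases ha hb ha1 hb1 hab hc with rfl | rfl | rfl | rfl
  · exact one_mem _
  · exact haK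
  · exact hbK
  · exact mul_mem haK hbK

theorem E_le (h : Tri E V U ρ) {K : Subgroup G} (hV : V ≤ K) (hU : U ≤ K) : E ≤ K := by
  intro e he
  obtain ⟨v, hv, u, hu, rfl⟩ := decomp h.cardE h.VE h.UE h.cardV h.cardU h.disj he
  exact mul_mem (hV hv) (hU hu)

/-- the elements of `T` normalizing `V` have index two -/
theorem card_T0 [Finite G] (h : Tri E V U ρ) (h2 : T2 E V U) (hTN : T ≤ normalizer (E : Set G)) {d : G} (hd : d ∈ T)
    (dV : cj d V = U) (dU : cj d U = V) :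
    Nat.card T = 2 * Nat.card (T ⊓ normalizer (V : Set G) : Subgroup G) := by
  have hne : V ≠ U := by
    intro h1
    obtain ⟨v, hv, hv1⟩ := h.fourV.exists_ne
    exact hv1 (h.disj v hv (h1 ▸ hv))
  refine card_double inf_le_left hd ?_ ?_
  · intro h3
    have h4 := mem_normalizer_iff_cj.1 (mem_inf.1 h3).2
    rw [dV] at h4
    exact hne h4.symm
  · intro b hb
    rcases h2.2 b (hTN hb) with ⟨h3, h4⟩ | ⟨h3, h4⟩
    · exact Or.inl (mem_inf.2 ⟨hb, mem_normalizer_iff_cj.2 h3⟩)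
    · refine Or.inr (mem_inf.2 ⟨mul_mem hb hd, mem_normalizer_iff_cj.2 ?_⟩)
      rw [cj_mul, dV, h4]

theorem not_mem_E (h : Tri E V U ρ) {W : Subgroup G} (hW : W ≤ E) {τ : G} (hn : ¬ ∀ v ∈ W, τ * v * τ⁻¹ = v) :
    τ ∉ E := by
  intro h1
  apply hn
  intro v hv
  rw [h.comm τ h1 v (hW hv)]; group

theorem cjE_fix (h : Tri E V U ρ) {W : Subgroup G} (hW : W ≤ E) {e : G} (he : e ∈ E) : cj e W = W := by
  ext x
  rw [mem_cj]
  have key : ∀ y, y ∈ E → e⁻¹ * y * e = y := by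
    intro y hy
    rw [mul_assoc, ← h.comm e he y hy]; group
  constructor
  · intro hx
    have h1 : e⁻¹ * x * e ∈ E := hW hx
    have h2 : x ∈ E := by
      have : x = e * (e⁻¹ * x * e) * e⁻¹ := by group
      rw [this]
      exact mul_mem (mul_mem he h1) (inv_mem he)
    rwa [key x h2] at hx
  · intro hx
    rw [key x (hW hx)]; exact hx

theorem swap_ne (h : Tri E V U ρ) : V ≠ U := by
  intro h1
  obtain ⟨v, hv, hv1⟩ := h.fourV.exists_ne
  exact hv1 (h.disj v hv (h1 ▸ hv))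

theorem card_v4F [Finite G] (h : Tri E V U ρ) (h2 : T2 E V U) (hTN : T ≤ normalizer (E : Set G)) {τ d : G}
    (F : V4F T E V U τ d) : Nat.card T = 2 ^ 6 := by
  rw [card_T0 h h2 hTN F.md F.dV F.dU]
  have h3 : Nat.card (T ⊓ normalizer (V : Set G) : Subgroup G) = 2 * Nat.card E := by
    refine card_double (d := τ) ?_ (mem_inf.2 ⟨F.mt, mem_normalizer_iff_cj.2 F.tV⟩) (not_mem_E h h.VE F.nV) ?_
    · intro e he
      exact mem_inf.2 ⟨F.ET he, mem_normalizer_iff_cj.2 (cjE_fix h h.VE he)⟩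
    · intro b hb
      obtain ⟨hbT, hbV⟩ := mem_inf.1 hb
      rw [mem_normalizer_iff_cj] at hbV
      obtain ⟨e, he, rfl | rfl | rfl | rfl⟩ := F.cov b hbT
      · exact Or.inl he
      · right
        rw [mul_assoc, F.st, mul_one]; exact he
      · exfalso
        rw [cj_mul, F.dV, cjE_fix h h.UE he] at hbV
        exact swap_ne h hbV.symm
      · exfalso
        have h4 : cj τ U = U := h.stabV (hTN F.mt) F.tV
        rw [cj_mul, cj_mul, F.dV, h4, cjE_fix h h.UE he] at hbV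
        exact swap_ne h hbV.symm
  rw [h3, h.cardE]
  norm_num

theorem card_d8F [Finite G] (h : Tri E V U ρ) (h2 : T2 E V U) (hTN : T ≤ normalizer (E : Set G)) {τ₁ τ₂ d : G}
    (F : D8F T E V U τ₁ τ₂ d) : Nat.card T = 2 ^ 7 := by
  rw [card_T0 h h2 hTN F.md F.dV F.dU]
  have hU1 : cj τ₁ U = U := h.stabV (hTN F.m1) F.v1
  have hV2 : cj τ₂ V = V := by
    rcases h2.2 τ₂ (hTN F.m2) with h3 | h3
    · exact h3.1
    · exact absurd (F.u2.symm.trans h3.2) (swap_ne h).symm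
  have hT0 : ∀ b ∈ (T ⊓ normalizer (V : Set G) : Subgroup G), ∃ e ∈ E, b = e ∨ b = e * τ₁ ∨ b = e * τ₂ ∨
      b = e * (τ₁ * τ₂) := by
    intro b hb
    obtain ⟨hbT, hbV⟩ := mem_inf.1 hb
    rw [mem_normalizer_iff_cj] at hbV
    obtain ⟨e, he, h3 | h3⟩ := F.cov b hbT
    · exact ⟨e, he, h3⟩
    · exfalso
      rcases h3 with rfl | rfl | rfl | rfl
      · rw [cj_mul, F.dV, cjE_fix h h.UE he] at hbV
        exact swap_ne h hbV.symm
      · rw [cj_mul, cj_mul, F.dV, hU1, cjE_fix h h.UE he] at hbV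
        exact swap_ne h hbV.symm
      · rw [cj_mul, cj_mul, F.dV, F.u2, cjE_fix h h.UE he] at hbV
        exact swap_ne h hbV.symm
      · rw [cj_mul, cj_mul, cj_mul, F.dV, F.u2, hU1, cjE_fix h h.UE he] at hbV
        exact swap_ne h hbV.symm
  have hcen : ∀ x : G, x ∈ centralizer (V : Set G) ↔ ∀ v ∈ V, x * v * x⁻¹ = v := by
    intro x
    rw [mem_centralizer_iff]
    constructor
    · intro h3 v hv
      rw [← h3 v hv]; group
    · intro h3 v hv
      calc v * x = (x * v * x⁻¹) * x := by rw [h3 v hv]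
        _ = x * v := by group
  have hEc : ∀ e ∈ E, ∀ v ∈ V, e * v * e⁻¹ = v := by
    intro e he v hv
    rw [h.comm e he v (h.VE hv)]; group
  have h3 : Nat.card (T ⊓ normalizer (V : Set G) : Subgroup G) =
      2 * Nat.card (T ⊓ centralizer (V : Set G) : Subgroup G) := by
    refine card_double (d := τ₁) ?_ (mem_inf.2 ⟨F.m1, mem_normalizer_iff_cj.2 F.v1⟩) ?_ ?_
    · intro x hx
      obtain ⟨hxT, hxV⟩ := mem_inf.1 hx
      refine mem_inf.2 ⟨hxT, centralizer_le_normalizer _ hxV⟩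
    · intro h4
      exact F.n1 ((hcen _).1 (mem_inf.1 h4).2)
    · intro b hb
      have hbT := (mem_inf.1 hb).1
      obtain ⟨e, he, rfl | rfl | rfl | rfl⟩ := hT0 b hb
      · exact Or.inl (mem_inf.2 ⟨hbT, (hcen _).2 (hEc _ he)⟩)
      · right
        rw [mul_assoc, F.s1, mul_one]
        exact mem_inf.2 ⟨F.ET he, (hcen _).2 (hEc _ he)⟩
      · left
        refine mem_inf.2 ⟨hbT, (hcen _).2 fun v hv => ?_⟩
        rw [cc, F.v2 v hv, hEc e he v hv]
      · right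
        have e1 : e * (τ₁ * τ₂) * τ₁ = e * τ₂ := by
          rw [F.c12]
          calc e * (τ₂ * τ₁) * τ₁ = e * τ₂ * (τ₁ * τ₁) := by group
            _ = e * τ₂ := by rw [F.s1, mul_one]
        rw [e1]
        refine mem_inf.2 ⟨mul_mem (F.ET he) F.m2, (hcen _).2 fun v hv => ?_⟩
        rw [cc, F.v2 v hv, hEc e he v hv]
  have h5 : Nat.card (T ⊓ centralizer (V : Set G) : Subgroup G) = 2 * Nat.card E := by
    refine card_double (d := τ₂) ?_ (mem_inf.2 ⟨F.m2, (hcen _).2 F.v2⟩) (not_mem_E h h.UE F.n2) ?_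
    · intro e he
      exact mem_inf.2 ⟨F.ET he, (hcen _).2 (hEc e he)⟩
    · intro b hb
      obtain ⟨hbT, hbC⟩ := mem_inf.1 hb
      have hbC' := (hcen _).1 hbC
      obtain ⟨e, he, rfl | rfl | rfl | rfl⟩ := hT0 b (mem_inf.2 ⟨hbT, centralizer_le_normalizer _ hbC⟩)
      · exact Or.inl he
      · exfalso
        apply F.n1
        intro v hv
        have h6 := hbC' v hv
        rw [cc] at h6
        rwa [hEc e he _ (by have := conj_mem_cj (g := τ₁) hv; rwa [F.v1] at this)] at h6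
      · right
        rw [mul_assoc, F.s2, mul_one]; exact he
      · exfalso
        apply F.n1
        intro v hv
        have h6 := hbC' v hv
        rw [cc, cc, F.v2 v hv] at h6
        rwa [hEc e he _ (by have := conj_mem_cj (g := τ₁) hv; rwa [F.v1] at this)] at h6
  rw [h3, h5, h.cardE]
  norm_num

/-! ### the types -/

/-- an element of `V` moved by `τ` generates `V` together with its conjugate -/
theorem exists_gen {V : Subgroup G} (hV : Four V) {τ : G} (hτ : cj τ V = V) (hn : ¬ ∀ v ∈ V, τ * v * τ⁻¹ = v) :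
    ∃ v ∈ V, v ≠ 1 ∧ τ * v * τ⁻¹ ∈ V ∧ τ * v * τ⁻¹ ≠ 1 ∧ v ≠ τ * v * τ⁻¹ := by
  push Not at hn
  obtain ⟨v, hv, hv1⟩ := hn
  have h1 : v ≠ 1 := by
    rintro rfl
    apply hv1; group
  exact ⟨v, hv, h1, conj_mem hτ hv, conj_ne_one h1, hv1.symm⟩

theorem gen_V {V K : Subgroup G} (hV : Four V) {τ v : G} (hv : v ∈ V) (hτv : τ * v * τ⁻¹ ∈ V) (hv1 : v ≠ 1)
    (hne : v ≠ τ * v * τ⁻¹) (h1 : v ∈ K) (h2 : τ * v * τ⁻¹ ∈ K) : V ≤ K :=
  le_of_two hV hv hτv hv1 (conj_ne_one hv1) hne h1 h2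

/-- the relation `x y = (x y x⁻¹) x` in the form used by `Sat` -/
theorem mv {x y z : G} (h : x * y * x⁻¹ = z) : x * y = z * x := by
  rw [← h]; group

theorem o {x y z : G} (h : x * y = z * x) : x * y = z * 1 * x := by
  rw [mul_one]; exact h

/-- `Z₂ wr V₄` -/
theorem isType_W24 [Finite G] (h : Tri E V U ρ) (h2 : T2 E V U) (hTN : T ≤ normalizer (E : Set G)) {τ d : G}
    (F : V4F T E V U τ d) : IsType W24 T := by
  obtain ⟨v, hv, hv1, hτv, hτv1, hne⟩ := exists_gen h.fourV F.tV F.nV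
  have hτ' := inv_of_sq F.st
  have hd' := inv_of_sq F.sd
  have hdV : ∀ x ∈ V, d * x * d⁻¹ ∈ U := fun x hx => by rw [← F.dV]; exact conj_mem_cj hx
  -- the four basis elements
  set e0 := v with he0
  set e1 := τ * v * τ⁻¹ with he1
  set e2 := d * v * d⁻¹ with he2
  set e3 := d * (τ * v * τ⁻¹) * d⁻¹ with he3
  have m0 : e0 ∈ E := h.VE hv
  have m1 : e1 ∈ E := h.VE hτv
  have m2 : e2 ∈ E := h.UE (hdV _ hv)
  have m3 : e3 ∈ E := h.UE (hdV _ hτv)
  have hττ : ∀ x : G, τ * (τ * x * τ⁻¹) * τ⁻¹ = x := fun x => by rw [← cc, F.st]; group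
  have hddx : ∀ x : G, d * (d * x * d⁻¹) * d⁻¹ = x := fun x => by rw [← cc, F.sd]; group
  have hcom : ∀ x : G, τ * (d * x * d⁻¹) * τ⁻¹ = d * (τ * x * τ⁻¹) * d⁻¹ := fun x => by
    rw [← cc, ← cc, F.td]
  have a0 : τ * e0 = e1 * τ := mv rfl
  have a1 : τ * e1 = e0 * τ := mv (hττ v)
  have a2 : τ * e2 = e3 * τ := mv (hcom v)
  have a3 : τ * e3 = e2 * τ := mv (by rw [he3, hcom, hττ])
  have b0 : d * e0 = e2 * d := mv rfl
  have b1 : d * e1 = e3 * d := mv rfl
  have b2 : d * e2 = e0 * d := mv (hddx v)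
  have b3 : d * e3 = e1 * d := mv (hddx _)
  let x : Fin 6 → G := ![τ, d, e0, e1, e2, e3]
  have hsat : Sat W24 x := by
    refine ⟨fun i => ?_, fun i j hij => ?_⟩
    · fin_cases i
      · exact F.st
      · exact F.sd
      · exact h.sq _ m0
      · exact h.sq _ m1
      · exact h.sq _ m2
      · exact h.sq _ m3
    · fin_cases i <;> fin_cases j <;> first
        | exact absurd hij (by decide)
        | exact o F.td.symm
        | exact o a0
        | exact o a1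
        | exact o a2
        | exact o a3
        | exact o b0
        | exact o b1
        | exact o b2
        | exact o b3
        | exact o (h.comm _ m0 _ m1)
        | exact o (h.comm _ m0 _ m2)
        | exact o (h.comm _ m0 _ m3)
        | exact o (h.comm _ m1 _ m2)
        | exact o (h.comm _ m1 _ m3)
        | exact o (h.comm _ m2 _ m3)
  have hx : ∀ i, x i ∈ T := by
    intro i
    fin_cases i
    · exact F.mt
    · exact F.md
    · exact F.ET m0
    · exact F.ET m1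
    · exact F.ET m2
    · exact F.ET m3
  refine isType_of_closure hsat T (le_antisymm ?_ ?_) (card_v4F h h2 hTN F)
  · rw [closure_le]
    rintro _ ⟨i, rfl⟩
    exact hx i
  · have hin : ∀ i, x i ∈ closure (Set.range x) := fun i => subset_closure ⟨i, rfl⟩
    have hEK : E ≤ closure (Set.range x) := by
      refine E_le h (gen_V h.fourV hv hτv hv1 hne (hin 2) (hin 3)) ?_
      have c1 : e2 ≠ 1 := conj_ne_one hv1
      have c2 : e3 ≠ 1 := conj_ne_one hτv1
      have c3 : e2 ≠ e3 := fun h3 => hne (mul_left_cancel (mul_right_cancel h3))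
      exact le_of_two h.fourU (hdV _ hv) (hdV _ hτv) c1 c2 c3 (hin 4) (hin 5)
    have hτK : τ ∈ closure (Set.range x) := hin 0
    have hdK : d ∈ closure (Set.range x) := hin 1
    intro t ht
    obtain ⟨e, he, rfl | rfl | rfl | rfl⟩ := F.cov t ht
    · exact hEK he
    · exact mul_mem (hEK he) hτK
    · exact mul_mem (hEK he) hdK
    · exact mul_mem (hEK he) (mul_mem hτK hdK)

/-- `D₈ wr 2` -/
theorem isType_W8 [Finite G] (h : Tri E V U ρ) (h2 : T2 E V U) (hTN : T ≤ normalizer (E : Set G)) {τ₁ τ₂ d : G}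
    (F : D8F T E V U τ₁ τ₂ d) : IsType W8 T := by
  obtain ⟨v, hv, hv1, hτv, hτv1, hne⟩ := exists_gen h.fourV F.v1 F.n1
  have hdV : ∀ x ∈ V, d * x * d⁻¹ ∈ U := fun x hx => by rw [← F.dV]; exact conj_mem_cj hx
  have hd' := inv_of_sq F.sd
  have hd2 : d * τ₂ * d⁻¹ = τ₁ := by
    rw [← F.d1, ← cc, F.sd]; group
  -- `e₁ = v`, `e₃ = τ₁ v τ₁⁻¹`, `e₂ = d v d⁻¹`, `e₄ = d e₃ d⁻¹`
  set e1 := v with he1
  set e3 := τ₁ * v * τ₁⁻¹ with he3
  set e2 := d * v * d⁻¹ with he2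
  set e4 := d * (τ₁ * v * τ₁⁻¹) * d⁻¹ with he4
  set b := τ₂ * d * τ₂⁻¹ with hb
  have m1 : e1 ∈ E := h.VE hv
  have m3 : e3 ∈ E := h.VE hτv
  have m2 : e2 ∈ E := h.UE (hdV _ hv)
  have m4 : e4 ∈ E := h.UE (hdV _ hτv)
  have hττ1 : ∀ x : G, τ₁ * (τ₁ * x * τ₁⁻¹) * τ₁⁻¹ = x := fun x => by rw [← cc, F.s1]; group
  have hττ2 : ∀ x : G, τ₂ * (τ₂ * x * τ₂⁻¹) * τ₂⁻¹ = x := fun x => by rw [← cc, F.s2]; group
  have hddx : ∀ x : G, d * (d * x * d⁻¹) * d⁻¹ = x := fun x => by rw [← cc, F.sd]; group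
  have h2d : ∀ x : G, τ₂ * (d * x * d⁻¹) * τ₂⁻¹ = d * (τ₁ * x * τ₁⁻¹) * d⁻¹ := fun x => by
    rw [← F.d1]; group
  -- conjugation by `τ₂`
  have t1 : τ₂ * e1 * τ₂⁻¹ = e1 := F.v2 _ hv
  have t3 : τ₂ * e3 * τ₂⁻¹ = e3 := F.v2 _ hτv
  have t2 : τ₂ * e2 * τ₂⁻¹ = e4 := h2d v
  have t4 : τ₂ * e4 * τ₂⁻¹ = e2 := by rw [he4, h2d, hττ1]
  have tinv : τ₂⁻¹ = τ₂ := inv_of_sq F.s2
  have t1' : τ₂⁻¹ * e1 * τ₂ = e1 := by
    have := t1; rw [tinv] at this ⊢; exact this
  have t3' : τ₂⁻¹ * e3 * τ₂ = e3 := by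
    have := t3; rw [tinv] at this ⊢; exact this
  have t2' : τ₂⁻¹ * e2 * τ₂ = e4 := by
    have := t2; rw [tinv] at this ⊢; exact this
  have t4' : τ₂⁻¹ * e4 * τ₂ = e2 := by
    have := t4; rw [tinv] at this ⊢; exact this
  -- conjugation by `d`
  have d1 : d * e1 * d⁻¹ = e2 := rfl
  have d3 : d * e3 * d⁻¹ = e4 := rfl
  have d2 : d * e2 * d⁻¹ = e1 := hddx v
  have d4 : d * e4 * d⁻¹ = e3 := hddx _
  -- conjugation by `b`
  have hbx : ∀ x : G, b * x * b⁻¹ = τ₂ * (d * (τ₂⁻¹ * x * τ₂) * d⁻¹) * τ₂⁻¹ := fun x => by rw [hb]; group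
  have b1 : b * e1 * b⁻¹ = e4 := by rw [hbx, t1', d1, t2]
  have b4 : b * e4 * b⁻¹ = e1 := by rw [hbx, t4', d2, t1]
  have b2 : b * e2 * b⁻¹ = e3 := by rw [hbx, t2', d4, t3]
  have b3 : b * e3 * b⁻¹ = e2 := by rw [hbx, t3', d3, t4]
  have hbb : b * b = 1 := by
    calc b * b = τ₂ * (d * d) * τ₂⁻¹ := by rw [hb]; group
      _ = 1 := by rw [F.sd]; group
  have td : τ₂ * d = b * τ₂ := mv rfl
  have tb : τ₂ * b = d * τ₂ := mv (by rw [hb]; exact hττ2 d)
  have hb' : b = d * (τ₁ * τ₂) := by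
    rw [hb, tinv]
    calc τ₂ * d * τ₂ = d * (d * τ₂ * d⁻¹) * τ₂ := by
          have e : d * (d * τ₂ * d⁻¹) * τ₂ = (d * d) * τ₂ * d⁻¹ * τ₂ := by group
          rw [e, F.sd, one_mul, hd']
      _ = d * τ₁ * τ₂ := by rw [hd2]
      _ = d * (τ₁ * τ₂) := by group
  have db : d * b = b * d := by
    have e1' : d * b = τ₁ * τ₂ := by rw [hb', ← mul_assoc, F.sd, one_mul]
    have e2' : b * d = (d * τ₁ * d⁻¹) * (d * τ₂ * d⁻¹) := by
      rw [hb']
      calc d * (τ₁ * τ₂) * d = d * (τ₁ * τ₂) * d⁻¹ := by rw [hd']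
        _ = _ := by group
    rw [e1', e2', F.d1, hd2, F.c12]
  let x : Fin 7 → G := ![τ₂, d, b, e1, e2, e3, e4]
  have hsat : Sat W8 x := by
    refine ⟨fun i => ?_, fun i j hij => ?_⟩
    · fin_cases i
      · exact F.s2
      · exact F.sd
      · exact hbb
      · exact h.sq _ m1
      · exact h.sq _ m2
      · exact h.sq _ m3
      · exact h.sq _ m4
    · fin_cases i <;> fin_cases j <;> first
        | exact absurd hij (by decide)
        | exact o td
        | exact o tb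
        | exact o db
        | exact o (mv t1)
        | exact o (mv t2)
        | exact o (mv t3)
        | exact o (mv t4)
        | exact o (mv d1)
        | exact o (mv d2)
        | exact o (mv d3)
        | exact o (mv d4)
        | exact o (mv b1)
        | exact o (mv b2)
        | exact o (mv b3)
        | exact o (mv b4)
        | exact o (h.comm _ m1 _ m2)
        | exact o (h.comm _ m1 _ m3)
        | exact o (h.comm _ m1 _ m4)
        | exact o (h.comm _ m2 _ m3)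
        | exact o (h.comm _ m2 _ m4)
        | exact o (h.comm _ m3 _ m4)
  have hbT : b ∈ T := mul_mem (mul_mem F.m2 F.md) (inv_mem F.m2)
  have hx : ∀ i, x i ∈ T := by
    intro i
    fin_cases i
    · exact F.m2
    · exact F.md
    · exact hbT
    · exact F.ET m1
    · exact F.ET m2
    · exact F.ET m3
    · exact F.ET m4
  refine isType_of_closure hsat T (le_antisymm ?_ ?_) (card_d8F h h2 hTN F)
  · rw [closure_le]
    rintro _ ⟨i, rfl⟩
    exact hx i
  · have hin : ∀ i, x i ∈ closure (Set.range x) := fun i => subset_closure ⟨i, rfl⟩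
    have hEK : E ≤ closure (Set.range x) := by
      refine E_le h (gen_V h.fourV hv hτv hv1 hne (hin 3) (hin 5)) ?_
      have c1 : e2 ≠ 1 := conj_ne_one hv1
      have c2 : e4 ≠ 1 := conj_ne_one hτv1
      have c3 : e2 ≠ e4 := fun h3 => hne (mul_left_cancel (mul_right_cancel h3))
      exact le_of_two h.fourU (hdV _ hv) (hdV _ hτv) c1 c2 c3 (hin 4) (hin 6)
    have h2K : τ₂ ∈ closure (Set.range x) := hin 0
    have hdK : d ∈ closure (Set.range x) := hin 1
    have h1K : τ₁ ∈ closure (Set.range x) := by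
      rw [← hd2]
      exact mul_mem (mul_mem hdK h2K) (inv_mem hdK)
    intro t ht
    obtain ⟨e, he, (rfl | rfl | rfl | rfl) | (rfl | rfl | rfl | rfl)⟩ := F.cov t ht
    · exact hEK he
    · exact mul_mem (hEK he) h1K
    · exact mul_mem (hEK he) h2K
    · exact mul_mem (hEK he) (mul_mem h1K h2K)
    · exact mul_mem (hEK he) hdK
    · exact mul_mem (hEK he) (mul_mem h1K hdK)
    · exact mul_mem (hEK he) (mul_mem h2K hdK)
    · exact mul_mem (hEK he) (mul_mem (mul_mem h1K h2K) hdK)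

end Cfsg.Agent.GH.L2T2Type
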