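import Cfsg.Agent.GH.C2SylPerm

/-!
# GH-L2 (T2): internal wreath products `Q ≀ 2`

* `Dat R T Q Q'`: `T = Q × Q'` of index two in `R`, the elements of `R - T` swap `Q` and `Q'`;
* `Dat.char_T`: if `1 ≠ x ∈ Z(Q)`, `T = C_R(x)`, `|Q| > 2`, then `T` is invariant under all automorphisms of
  `R` (here: under all elements of `N(R)`);
* `isType_W8`: if `Q` is dihedral of order 8 and `R = T⟨s⟩` with `s² = 1`, then `R` is of type `W8`.
-/

set_option autoImplicit false

open Subgroup

namespace Cfsg.Agent.GH.L2T2Wr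

variable {G : Type*} [Group G]

/-- `T = Q × Q'` has index two in `R`, the elements of `R - T` swap `Q` and `Q'`. -/
structure Dat (R T Q Q' : Subgroup G) : Prop where
  le : T ≤ R
  two : ∀ a ∈ R, ∀ b ∈ R, a ∉ T → b ∉ T → a * b ∈ T
  QT : Q ≤ T
  QT' : Q' ≤ T
  comm : ∀ a ∈ Q, ∀ b ∈ Q', a * b = b * a
  disj : ∀ a ∈ Q, a ∈ Q' → a = 1
  dec : ∀ t ∈ T, ∃ a ∈ Q, ∃ b ∈ Q', t = a * b
  swap : ∀ y ∈ R, y ∉ T → ∀ a ∈ Q, y * a * y⁻¹ ∈ Q'
  swap' : ∀ y ∈ R, y ∉ T → ∀ b ∈ Q', y * b * y⁻¹ ∈ Q

namespace Dat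

variable {R T Q Q' : Subgroup G}

theorem unique (d : Dat R T Q Q') {a b a' b' : G} (ha : a ∈ Q) (hb : b ∈ Q') (ha' : a' ∈ Q)
    (hb' : b' ∈ Q') (h : a * b = a' * b') : a = a' ∧ b = b' := by
  have h1 : a'⁻¹ * a = b' * b⁻¹ := by
    rw [eq_mul_inv_iff_mul_eq, mul_assoc, h, inv_mul_cancel_left]
  have h2 : a'⁻¹ * a = 1 := d.disj _ (Q.mul_mem (Q.inv_mem ha') ha)
    (by rw [h1]; exact Q'.mul_mem hb' (Q'.inv_mem hb))
  have h3 : a = a' := (inv_mul_eq_one.1 h2).symm
  refine ⟨h3, ?_⟩
  rw [h3] at h
  exact mul_left_cancel h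

theorem char_T [Finite G] (d : Dat R T Q Q') {x : G} (hx : x ∈ Q)
    (hcx : ∀ r ∈ R, r * x = x * r → r ∈ T) (hxT : ∀ t ∈ T, t * x = x * t) {a₀ b₀ : G}
    (ha₀ : a₀ ∈ Q) (hb₀ : b₀ ∈ Q) (ha1 : a₀ ≠ 1) (hb1 : b₀ ≠ 1) (hab : a₀ ≠ b₀) {k : G}
    (hk : ∀ r, r ∈ R ↔ k * r * k⁻¹ ∈ R) : ∀ t ∈ T, k * t * k⁻¹ ∈ T := by
  by_contra hcon
  push Not at hcon
  obtain ⟨t₀, ht₀, hy⟩ := hcon
  set y := k * t₀ * k⁻¹ with hydef
  have hyR : y ∈ R := (hk t₀).1 (d.le ht₀)
  have hyi : y⁻¹ ∈ R := R.inv_mem hyR
  have hyiT : y⁻¹ ∉ T := fun h => hy (by simpa using T.inv_mem h)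
  set r := k * x * k⁻¹ with hrdef
  have hrR : r ∈ R := (hk x).1 (d.le (d.QT hx))
  have hk' : ∀ g, g ∈ R → k⁻¹ * g * k ∈ R := by
    intro g hg
    rw [hk]
    have : k * (k⁻¹ * g * k) * k⁻¹ = g := by group
    rwa [this]
  -- `P g : k⁻¹ g k ∈ T`, equivalently `g` commutes with `r`
  have hP : ∀ g ∈ R, (g * r = r * g ↔ k⁻¹ * g * k ∈ T) := by
    intro g hg
    constructor
    · intro h
      apply hcx _ (hk' g hg)
      have e1 : k⁻¹ * g * k * x = k⁻¹ * (g * r) * k := by rw [hrdef]; group
      have e2 : x * (k⁻¹ * g * k) = k⁻¹ * (r * g) * k := by rw [hrdef]; group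
      rw [e1, e2, h]
    · intro h
      have h1 := hxT _ h
      have e1 : g * r = k * (k⁻¹ * g * k * x) * k⁻¹ := by rw [hrdef]; group
      have e2 : r * g = k * (x * (k⁻¹ * g * k)) * k⁻¹ := by rw [hrdef]; group
      rw [e1, e2, h1]
  have idx : ∀ g ∈ R, ∀ h ∈ R, g * r ≠ r * g → h * r ≠ r * h → (g * h) * r = r * (g * h) := by
    intro g hg h hh h1 h2
    rw [hP _ (R.mul_mem hg hh)]
    rw [Ne, hP g hg] at h1
    rw [Ne, hP h hh] at h2
    have h3 := d.two _ (hk' g hg) _ (hk' h hh) h1 h2
    have e : k⁻¹ * (g * h) * k = k⁻¹ * g * k * (k⁻¹ * h * k) := by group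
    rwa [e]
  have hyr : y * r = r * y := by
    rw [hP y hyR, hydef]
    have e : k⁻¹ * (k * t₀ * k⁻¹) * k = t₀ := by group
    rwa [e]
  by_cases hr : r ∈ T
  · obtain ⟨a, ha, b, hb, hrab⟩ := d.dec r hr
    have h1 : y * b * y⁻¹ ∈ Q := d.swap' y hyR hy b hb
    have h2 : y * a * y⁻¹ ∈ Q' := d.swap y hyR hy a ha
    have h3 : (y * b * y⁻¹) * (y * a * y⁻¹) = a * b := by
      rw [← hrab]
      have e : (y * b * y⁻¹) * (y * a * y⁻¹) = y * (b * a) * y⁻¹ := by group
      rw [e, ← d.comm a ha b hb, ← hrab, hyr]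
      group
    obtain ⟨h4, h5⟩ := d.unique h1 h2 ha hb h3
    by_cases hc : ∀ q ∈ Q, q * a = a * q
    · -- `a` is central, so `b` is central, so `r` is central
      have hcb : ∀ q ∈ Q', q * b = b * q := by
        intro q hq
        have h6 : y⁻¹ * q * y⁻¹⁻¹ ∈ Q := d.swap' y⁻¹ hyi hyiT q hq
        have h7 := hc _ h6
        have e1 : q * b = y * (y⁻¹ * q * y⁻¹⁻¹ * a) * y⁻¹ := by
          rw [← h5]; group
        have e2 : b * q = y * (a * (y⁻¹ * q * y⁻¹⁻¹)) * y⁻¹ := by
          rw [← h5]; group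
        rw [e1, e2, h7]
      have hcr : ∀ t ∈ T, k⁻¹ * t * k ∈ T := by
        intro t ht
        rw [← hP t (d.le ht)]
        obtain ⟨q, hq, q', hq', rfl⟩ := d.dec t ht
        rw [hrab]
        calc q * q' * (a * b) = q * (q' * a) * b := by group
          _ = q * (a * q') * b := by rw [d.comm a ha q' hq']
          _ = (q * a) * (q' * b) := by group
          _ = (a * q) * (b * q') := by rw [hc q hq, hcb q' hq']
          _ = a * (q * b) * q' := by group
          _ = a * (b * q) * q' := by rw [d.comm q hq b hb]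
          _ = a * b * (q * q') := by group
      apply hy
      -- the conjugate of `T` is contained in `T`, so equal
      have h6 : T.map (MulAut.conj k⁻¹).toMonoidHom ≤ T := by
        rintro _ ⟨t, ht, rfl⟩
        have h7 := hcr t ht
        simpa using h7
      have h7 : T.map (MulAut.conj k⁻¹).toMonoidHom = T :=
        eq_of_le_of_card_ge h6 (by
          rw [card_map_of_injective (MulAut.conj k⁻¹).injective])
      have h8 : t₀ ∈ T.map (MulAut.conj k⁻¹).toMonoidHom := by rw [h7]; exact ht₀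
      obtain ⟨t, ht, h9⟩ := h8
      have h10 : k⁻¹ * t * k = t₀ := by simpa using h9
      rw [hydef, ← h10]
      have e : k * (k⁻¹ * t * k) * k⁻¹ = t := by group
      rwa [e]
    · push Not at hc
      obtain ⟨q, hq, hqa⟩ := hc
      have hq1 : y * q * y⁻¹ ∈ Q' := d.swap y hyR hy q hq
      set q' := y * q * y⁻¹ with hq'def
      have hqR : q ∈ R := d.le (d.QT hq)
      have hqR' : q' ∈ R := d.le (d.QT' hq1)
      have n1 : q * r ≠ r * q := by
        intro h
        apply hqa
        rw [hrab] at h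
        have h6 : q * a * b = a * q * b := by
          rw [mul_assoc q a b, h, mul_assoc a b q, ← d.comm q hq b hb, ← mul_assoc]
        exact mul_right_cancel h6
      have n2 : q' * r ≠ r * q' := by
        intro h
        apply n1
        have h6 : y * q * y⁻¹ * (y * r * y⁻¹) = y * r * y⁻¹ * (y * q * y⁻¹) := by
          have e : y * r * y⁻¹ = r := by rw [hyr]; group
          rw [e]
          exact h
        have h7 : y * (q * r) * y⁻¹ = y * (r * q) * y⁻¹ := by
          calc y * (q * r) * y⁻¹ = y * q * y⁻¹ * (y * r * y⁻¹) := by group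
            _ = y * r * y⁻¹ * (y * q * y⁻¹) := h6
            _ = y * (r * q) * y⁻¹ := by group
        exact mul_left_cancel (mul_right_cancel h7)
      have h6 := idx q hqR q' hqR' n1 n2
      rw [hrab] at h6
      have h7 : (q * a) * (q' * b) = (a * q) * (b * q') := by
        calc (q * a) * (q' * b) = q * (a * q') * b := by group
          _ = q * (q' * a) * b := by rw [d.comm a ha q' hq1]
          _ = q * q' * (a * b) := by group
          _ = a * b * (q * q') := h6
          _ = a * (b * q) * q' := by group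
          _ = a * (q * b) * q' := by rw [d.comm q hq b hb]
          _ = (a * q) * (b * q') := by group
      exact hqa (d.unique (Q.mul_mem hq ha) (Q'.mul_mem hq1 hb) (Q.mul_mem ha hq)
        (Q'.mul_mem hb hq1) h7).1
  · have hn : ∀ q ∈ Q, q ≠ 1 → q * r ≠ r * q := by
      intro q hq hq1 h
      apply hq1
      apply d.disj q hq
      have h1 := d.swap r hrR hr q hq
      have e : r * q * r⁻¹ = q := by rw [← h]; group
      rwa [e] at h1
    have hi : a₀⁻¹ ∈ Q := Q.inv_mem ha₀
    have h1 := idx a₀⁻¹ (d.le (d.QT hi)) b₀ (d.le (d.QT hb₀)) (hn _ hi (inv_ne_one.2 ha1))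
      (hn _ hb₀ hb1)
    refine hn (a₀⁻¹ * b₀) (Q.mul_mem hi hb₀) ?_ h1
    intro h2
    exact hab (inv_mul_eq_one.1 h2)

theorem card_T (d : Dat R T Q Q') : Nat.card T = Nat.card Q * Nat.card Q' := by
  rw [← Nat.card_prod]
  let f : ↥Q × ↥Q' → ↥T := fun p => ⟨p.1 * p.2, T.mul_mem (d.QT p.1.2) (d.QT' p.2.2)⟩
  refine (Nat.card_congr (Equiv.ofBijective f ⟨?_, ?_⟩)).symm
  · rintro ⟨⟨a, ha⟩, ⟨b, hb⟩⟩ ⟨⟨a', ha'⟩, ⟨b', hb'⟩⟩ h
    have h1 : a * b = a' * b' := congrArg Subtype.val h
    obtain ⟨h2, h3⟩ := d.unique ha hb ha' hb' h1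
    subst h2 h3
    rfl
  · rintro ⟨t, ht⟩
    obtain ⟨a, ha, b, hb, h⟩ := d.dec t ht
    exact ⟨(⟨a, ha⟩, ⟨b, hb⟩), Subtype.ext h.symm⟩

theorem card_R (d : Dat R T Q Q') {s : G} (hs : s ∈ R) (hsT : s ∉ T) :
    Nat.card R = 2 * Nat.card T := by
  have h1 : (T.subgroupOf R).index = 2 := by
    rw [Subgroup.index_eq_two_iff]
    refine ⟨⟨s, hs⟩, fun b => ?_⟩
    rw [mem_subgroupOf, mem_subgroupOf]
    by_cases hb : (b : G) ∈ T
    · refine Or.inr ⟨hb, fun h => hsT ?_⟩
      exact (T.mul_mem_cancel_left hb).1 h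
    · exact Or.inl ⟨d.two _ b.2 _ hs hb hsT, hb⟩
  have h2 := (T.subgroupOf R).card_mul_index
  rw [h1, Nat.card_congr (subgroupOfEquivOfLe d.le).toEquiv] at h2
  omega

end Dat

/-- A nonabelian subgroup of a group of order 8 is the whole group. -/
theorem eq_of_noncomm {Q Q₀ : Subgroup G} (hQ : Nat.card Q = 8) (hle : Q₀ ≤ Q) {a b : G}
    (ha : a ∈ Q₀) (hb : b ∈ Q₀) (hab : a * b ≠ b * a) : Q₀ = Q := by
  have hfin : Finite Q := Nat.finite_of_card_ne_zero (by rw [hQ]; norm_num)
  apply eq_of_le_of_card_ge hle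
  rw [hQ]
  have h1 : Nat.card Q₀ ∣ 8 := hQ ▸ card_dvd_of_le hle
  have h2 : Nat.card Q₀ ∈ Nat.divisors 8 := Nat.mem_divisors.2 ⟨h1, by norm_num⟩
  have h3 : Nat.divisors 8 = {1, 2, 4, 8} := by decide
  rw [h3] at h2
  simp only [Finset.mem_insert, Finset.mem_singleton] at h2
  have key : (∀ u v : Q₀, u * v = v * u) → False := fun h =>
    hab (congrArg Subtype.val (h ⟨a, ha⟩ ⟨b, hb⟩))
  rcases h2 with h2 | h2 | h2 | h2
  · exfalso
    have h4 : Q₀ = ⊥ := card_eq_one.1 h2
    rw [h4] at ha hb
    rw [mem_bot.1 ha, mem_bot.1 hb] at hab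
    exact hab rfl
  · exfalso
    have : Fact (Nat.Prime 2) := ⟨Nat.prime_two⟩
    have h4 : IsCyclic Q₀ := isCyclic_of_prime_card h2
    have h5 := IsCyclic.isMulCommutative (α := Q₀)
    exact key fun u v => h5.is_comm.comm u v
  · exfalso
    have : Fact (Nat.Prime 2) := ⟨Nat.prime_two⟩
    have h4 : Nat.card Q₀ = 2 ^ 2 := by rw [h2]; norm_num
    have h5 := IsPGroup.commutative_of_card_eq_prime_sq h4
    exact key fun u v => h5 u v
  · exact h2.ge

theorem isType_W8 {R T Q Q' : Subgroup G} (d : Dat R T Q Q') (hQ : Nat.card Q = 8)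
    {s c e f : G} (hs : s ∈ R) (hsT : s ∉ T) (hss : s * s = 1) (hc : c ∈ Q) (he : e ∈ Q)
    (hf : f ∈ Q) (hcc : c * c = 1) (hee : e * e = 1) (hff : f * f = 1) (hef : e * f = f * e)
    (hce : c * e = f * c) (hne : e ≠ f) : PcTypes.IsType PcTypes.W8 R := by
  have hsi : s⁻¹ = s := inv_eq_of_mul_eq_one_left hss
  have hcf : c * f = e * c := by
    calc c * f = c * (f * c) * c := by rw [mul_assoc, mul_assoc, hcc, mul_one]
      _ = c * (c * e) * c := by rw [hce]
      _ = (c * c) * e * c := by group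
      _ = e * c := by rw [hcc, one_mul]
  have h1 : ∀ a ∈ Q, s * a * s ∈ Q' := fun a ha => by
    have := d.swap s hs hsT a ha
    rwa [hsi] at this
  have hss' : ∀ w : G, s * (s * w) = w := fun w => by rw [← mul_assoc, hss, one_mul]
  have hcc' : ∀ w : G, c * (c * w) = w := fun w => by rw [← mul_assoc, hcc, one_mul]
  have cm : ∀ a ∈ Q, ∀ b ∈ Q, a * (s * b * s) = s * b * s * a := fun a ha b hb =>
    d.comm a ha _ (h1 b hb)
  have sq1 : ∀ a : G, a * a = 1 → (s * a * s) * (s * a * s) = 1 := fun a ha => by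
    calc (s * a * s) * (s * a * s) = s * a * (s * s) * a * s := by group
      _ = s * (a * a) * s := by rw [hss, mul_one]; group
      _ = 1 := by rw [ha, mul_one, hss]
  have cc : c * (s * c * s) = s * c * s * c := cm c hc c hc
  have ce' : c * (s * e * s) = s * e * s * c := cm c hc e he
  have cf' : c * (s * f * s) = s * f * s * c := cm c hc f hf
  have sat := C2Syl.sat_W8 (t := c) (a := s) (b := c * s * c) (e₁ := s * e * s) (e₂ := e)
    (e₃ := s * f * s) (e₄ := f) hcc hss
    (by
      calc c * s * c * (c * s * c) = c * s * (c * c) * s * c := by group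
        _ = c * (s * s) * c := by rw [hcc, mul_one]; group
        _ = 1 := by rw [hss, mul_one, hcc])
    (by
      calc s * (c * s * c) = s * c * s * c := by group
        _ = c * (s * c * s) := cc.symm
        _ = c * s * c * s := by group)
    (sq1 e hee) hee (sq1 f hff) hff
    ((cm e he e he).symm)
    (by
      calc s * e * s * (s * f * s) = s * e * (s * s) * f * s := by group
        _ = s * (e * f) * s := by rw [hss, mul_one]; group
        _ = s * (f * e) * s := by rw [hef]
        _ = s * f * (s * s) * e * s := by rw [hss, mul_one]; group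
        _ = s * f * s * (s * e * s) := by group)
    ((cm f hf e he).symm) (cm e he f hf) hef ((cm f hf f hf).symm)
    (by
      calc s * (s * e * s) = (s * s) * e * s := by group
        _ = e * s := by rw [hss, one_mul])
    (by
      calc s * e = s * e * (s * s) := by rw [hss, mul_one]
        _ = s * e * s * s := by group)
    (by
      calc s * (s * f * s) = (s * s) * f * s := by group
        _ = f * s := by rw [hss, one_mul])
    (by
      calc s * f = s * f * (s * s) := by rw [hss, mul_one]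
        _ = s * f * s * s := by group)
    (by
      calc c * s * c * (s * e * s) = c * s * (c * (s * e * s)) := by group
        _ = c * s * (s * e * s * c) := by rw [ce']
        _ = c * (s * s) * e * s * c := by group
        _ = (c * e) * s * c := by rw [hss, mul_one]
        _ = f * (c * s * c) := by rw [hce]; group)
    (by
      calc c * s * c * e = c * s * (c * e) := by group
        _ = c * s * (f * c) := by rw [hce]
        _ = c * (s * f * 1) * c := by group
        _ = c * (s * f * (s * s)) * c := by rw [hss]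
        _ = c * (s * f * s) * s * c := by group
        _ = s * f * s * c * s * c := by rw [cf']
        _ = s * f * s * (c * s * c) := by group)
    (by
      calc c * s * c * (s * f * s) = c * s * (c * (s * f * s)) := by group
        _ = c * s * (s * f * s * c) := by rw [cf']
        _ = c * (s * s) * f * s * c := by group
        _ = (c * f) * s * c := by rw [hss, mul_one]
        _ = e * (c * s * c) := by rw [hcf]; group)
    (by
      calc c * s * c * f = c * s * (c * f) := by group
        _ = c * s * (e * c) := by rw [hcf]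
        _ = c * (s * e * 1) * c := by group
        _ = c * (s * e * (s * s)) * c := by rw [hss]
        _ = c * (s * e * s) * s * c := by group
        _ = s * e * s * c * s * c := by rw [ce']
        _ = s * e * s * (c * s * c) := by group)
    (by
      calc c * s = c * s * (c * c) := by rw [hcc, mul_one]
        _ = c * s * c * c := by group)
    (by
      calc c * (c * s * c) = (c * c) * s * c := by group
        _ = s * c := by rw [hcc, one_mul])
    ce' hce cf' hcf
  refine PcTypes.isType_of_closure sat R ?_ ?_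
  · apply le_antisymm
    · rw [closure_le]
      rintro _ ⟨i, rfl⟩
      have hQR : Q ≤ R := d.QT.trans d.le
      fin_cases i
      · exact hQR hc
      · exact hs
      · exact R.mul_mem (R.mul_mem (hQR hc) hs) (hQR hc)
      · exact R.mul_mem (R.mul_mem hs (hQR he)) hs
      · exact hQR he
      · exact R.mul_mem (R.mul_mem hs (hQR hf)) hs
      · exact hQR hf
    · set C := closure (Set.range ![c, s, c * s * c, s * e * s, e, s * f * s, f]) with hC
      have mem : ∀ i, (![c, s, c * s * c, s * e * s, e, s * f * s, f] : Fin 7 → G) i ∈ C :=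
        fun i => subset_closure ⟨i, rfl⟩
      have m0 : c ∈ C := mem 0
      have m1 : s ∈ C := mem 1
      have m4 : e ∈ C := mem 4
      have m6 : f ∈ C := mem 6
      have hQC : Q ≤ C := by
        have h2 : C ⊓ Q = Q := by
          refine eq_of_noncomm hQ inf_le_right (a := c) (b := e) ⟨m0, hc⟩ ⟨m4, he⟩ ?_
          rw [hce]
          intro h3
          exact hne (mul_right_cancel h3).symm
        rw [← h2]
        exact inf_le_left
      have hQC' : Q' ≤ C := by
        intro b hb
        have h2 := d.swap' s hs hsT b hb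
        rw [hsi] at h2
        have h3 : b = s * (s * b * s) * s := by
          calc b = (s * s) * b * (s * s) := by rw [hss]; group
            _ = s * (s * b * s) * s := by group
        rw [h3]
        exact C.mul_mem (C.mul_mem m1 (hQC h2)) m1
      have hTC : T ≤ C := by
        intro t ht
        obtain ⟨a, ha, b, hb, rfl⟩ := d.dec t ht
        exact C.mul_mem (hQC ha) (hQC' hb)
      intro r hr
      by_cases hrT : r ∈ T
      · exact hTC hrT
      · have h2 := d.two s hs r hr hsT hrT
        have h3 : r = s * (s * r) := (hss' r).symm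
        rw [h3]
        exact C.mul_mem m1 (hTC h2)
  · rw [d.card_R hs hsT, d.card_T]
    have h2 : Nat.card Q' = Nat.card Q := by
      have hbij : Function.Bijective (fun a : Q => (⟨s * a * s, h1 a a.2⟩ : Q')) := by
        constructor
        · intro a b hab
          have h3 : s * (a : G) * s = s * b * s := congrArg Subtype.val hab
          exact Subtype.ext (mul_left_cancel (mul_right_cancel h3))
        · intro b
          have h2 := d.swap' s hs hsT b b.2
          rw [hsi] at h2
          refine ⟨⟨_, h2⟩, Subtype.ext ?_⟩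
          calc s * (s * (b : G) * s) * s = (s * s) * b * (s * s) := by group
            _ = b := by rw [hss]; group
      exact (Nat.card_congr (Equiv.ofBijective _ hbij)).symm
    rw [h2, hQ]
    norm_num

end Cfsg.Agent.GH.L2T2Wr
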