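import Cfsg.Agent.Involutions.BaerSuzuki

/-!
# GH-Q, scenario A: the end of (A2)

`B = W1 × W2` is a Sylow 2-subgroup of `C(a)` and of `C(b)`, `a`, `b` conjugate, `Z(W1) = {1, a}`,
`Z(W2) = {1, b}`, `a` not conjugate to `a b`, and every element of `N(B)` swapping `a` and `b` swaps `W1`
and `W2`.  Then a Sylow 2-subgroup of `G` is `B ⟨t⟩` with `t` an involution swapping `W1` and `W2`.
-/

set_option autoImplicit false

open Subgroup

namespace Cfsg.Agent.GH.QA.Wreath

variable {G : Type*} [Group G]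

/-- A 2-subgroup of `C` is conjugate in `C` into a 2-subgroup of odd index in `C`. -/
theorem exists_conj_le [Finite G] {C S X : Subgroup G} (hX : X ≤ C) (hSp : IsPGroup 2 S)
    (hXp : IsPGroup 2 X) (hidx : ¬ 2 ∣ S.relIndex C) : ∃ c ∈ C, ∀ x ∈ X, c * x * c⁻¹ ∈ S := by
  have hS' : IsPGroup 2 (S.subgroupOf C) := hSp.comap_of_injective C.subtype Subtype.val_injective
  have hX' : IsPGroup 2 (X.subgroupOf C) := hXp.comap_of_injective C.subtype Subtype.val_injective
  obtain ⟨Q, hQ⟩ := hX'.exists_le_sylow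
  obtain ⟨c, hc⟩ := MulAction.exists_smul_eq C Q (hS'.toSylow hidx)
  refine ⟨c, c.2, ?_⟩
  intro y hy
  have h1 : (⟨y, hX hy⟩ : C) ∈ (Q : Subgroup C) := hQ (Subgroup.mem_subgroupOf.2 hy)
  have h2 : c * ⟨y, hX hy⟩ * c⁻¹ ∈ ((c • Q : Sylow 2 C) : Subgroup C) := by
    have : c * ⟨y, hX hy⟩ * c⁻¹ = (MulAut.conj c) • (⟨y, hX hy⟩ : C) := rfl
    rw [this]
    exact Subgroup.smul_mem_pointwise_smul _ _ _ h1
  rw [hc] at h2
  exact Subgroup.mem_subgroupOf.1 h2

/-- A 2-element of `C` normalising a 2-subgroup of odd index in `C` lies in it. -/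
theorem mem_of_normalizer [Finite G] {C B : Subgroup G} (hBC : B ≤ C) (hB : IsPGroup 2 B)
    (hidx : ¬ 2 ∣ B.relIndex C) {x : G} (hx : x ∈ C) (hxp : IsPGroup 2 (zpowers x))
    (hxN : x ∈ normalizer (B : Set G)) : x ∈ B := by
  have h1 : IsPGroup 2 (zpowers x ⊔ B : Subgroup G) :=
    hxp.to_sup_of_normal_right' hB (by rwa [zpowers_le])
  have h2 : zpowers x ⊔ B ≤ C := sup_le (by rwa [zpowers_le]) hBC
  obtain ⟨c, -, hc⟩ := exists_conj_le h2 hB h1 hidx
  have h3 : (zpowers x ⊔ B).map (MulAut.conj c).toMonoidHom ≤ B := by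
    rintro _ ⟨y, hy, rfl⟩
    exact hc y hy
  have h4 : Nat.card (zpowers x ⊔ B : Subgroup G) ≤ Nat.card B := by
    rw [Nat.card_congr ((zpowers x ⊔ B).equivMapOfInjective (MulAut.conj c).toMonoidHom
      (MulAut.conj c).injective).toEquiv]
    exact Subgroup.card_le_of_le h3
  have h5 : B = zpowers x ⊔ B := Subgroup.eq_of_le_of_card_ge le_sup_right h4
  rw [h5]
  exact mem_sup_left (mem_zpowers x)

/-- an odd power of `n` generating a 2-group -/
theorem exists_odd_pow [Finite G] (n : G) : ∃ m : ℕ, Odd m ∧ IsPGroup 2 (zpowers (n ^ m)) := by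
  obtain ⟨k, m, hm, hkm⟩ := Nat.exists_eq_two_pow_mul_odd (orderOf_pos n).ne'
  refine ⟨m, hm, IsPGroup.of_card (n := k) ?_⟩
  rw [Nat.card_zpowers, orderOf_pow' _ (by rcases hm with ⟨j, rfl⟩; omega), hkm]
  rw [Nat.gcd_eq_right (Dvd.intro_left _ rfl)]
  exact Nat.mul_div_cancel _ (by rcases hm with ⟨j, rfl⟩; omega)

theorem mem_normalizer_of_forall [Finite G] {B : Subgroup G} {c : G}
    (h : ∀ x ∈ B, c * x * c⁻¹ ∈ B) : c ∈ normalizer (B : Set G) := by
  rw [mem_normalizer_iff_map_conj_eq]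
  apply Subgroup.eq_of_le_of_card_ge
  · rintro _ ⟨x, hx, rfl⟩
    exact h x hx
  · exact (Nat.card_congr (B.equivMapOfInjective (MulAut.conj c).toMonoidHom
      (MulAut.conj c).injective).toEquiv).le

theorem isPGroup_zpowers_of_mem {P : Subgroup G} (hP : IsPGroup 2 P) {x : G} (hx : x ∈ P) :
    IsPGroup 2 (zpowers x) := hP.to_le (by rwa [zpowers_le])

theorem wreath_end [Finite G] {a b g : G} {B W1 W2 : Subgroup G} (hB : IsPGroup 2 B)
    (hBa : ∀ x ∈ B, x * a = a * x) (hBb : ∀ x ∈ B, x * b = b * x)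
    (hia : ¬ 2 ∣ B.relIndex (centralizer {a})) (hg : b = g * a * g⁻¹) (hne : a ≠ b)
    (hsup : W1 ⊔ W2 = B) (hinf : W1 ⊓ W2 = ⊥) (hcomm : ∀ x ∈ W1, ∀ y ∈ W2, x * y = y * x)
    (ha : a ∈ W1) (hb : b ∈ W2)
    (hz1 : ∀ x ∈ W1, (∀ w ∈ W1, x * w = w * x) → x = 1 ∨ x = a)
    (hz2 : ∀ x ∈ W2, (∀ w ∈ W2, x * w = w * x) → x = 1 ∨ x = b)
    (hw : ∃ w ∈ W1, w ≠ 1 ∧ w ≠ a) (hy : ¬ IsConj a (a * b))
    (hsw : ∀ t, t * a * t⁻¹ = b → t * b * t⁻¹ = a → t ∈ normalizer (B : Set G) →
      W1.map (MulAut.conj t).toMonoidHom = W2 ∧ W2.map (MulAut.conj t).toMonoidHom = W1) :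
    ∃ (S : Sylow 2 G) (t : G), t * t = 1 ∧ t ∈ S ∧ t ∉ B ∧ (S : Subgroup G) = B ⊔ zpowers t ∧
      W1.map (MulAut.conj t).toMonoidHom = W2 := by
  have h1B : W1 ≤ B := hsup ▸ le_sup_left
  have h2B : W2 ≤ B := hsup ▸ le_sup_right
  have haB := h1B ha
  have hbB := h2B hb
  have hBC : B ≤ centralizer {a} := fun x hx => mem_centralizer_singleton_iff.2 (hBa x hx)
  have ha1 : a ≠ 1 := by
    rintro rfl
    exact hne (by rw [hg]; group)
  have hb1 : b ≠ 1 := by
    rintro rfl
    apply ha1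
    have : a = g⁻¹ * 1 * g := by rw [hg]; group
    rw [this]; group
  have hdisj : ∀ x ∈ W1, x ∈ W2 → x = 1 := fun x h1 h2 => by
    have : x ∈ W1 ⊓ W2 := ⟨h1, h2⟩
    rwa [hinf, mem_bot] at this
  -- decomposition
  have hdec : ∀ x ∈ B, ∃ p ∈ W1, ∃ q ∈ W2, x = p * q := by
    let K : Subgroup G :=
      { carrier := {x | ∃ p ∈ W1, ∃ q ∈ W2, x = p * q}
        one_mem' := ⟨1, one_mem _, 1, one_mem _, (mul_one 1).symm⟩
        mul_mem' := by
          rintro _ _ ⟨p, hp, q, hq, rfl⟩ ⟨p', hp', q', hq', rfl⟩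
          refine ⟨p * p', mul_mem hp hp', q * q', mul_mem hq hq', ?_⟩
          calc p * q * (p' * q') = p * (q * p') * q' := by group
            _ = p * (p' * q) * q' := by rw [hcomm p' hp' q hq]
            _ = _ := by group
        inv_mem' := by
          rintro _ ⟨p, hp, q, hq, rfl⟩
          refine ⟨p⁻¹, inv_mem hp, q⁻¹, inv_mem hq, ?_⟩
          rw [hcomm p hp q hq, mul_inv_rev] }
    have hK : B ≤ K := by
      rw [← hsup, sup_le_iff]
      exact ⟨fun x hx => ⟨x, hx, 1, one_mem _, (mul_one x).symm⟩,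
        fun x hx => ⟨1, one_mem _, x, hx, (one_mul x).symm⟩⟩
    exact fun x hx => hK hx
  -- uniqueness
  have huniq : ∀ p ∈ W1, ∀ q ∈ W2, ∀ p' ∈ W1, ∀ q' ∈ W2, p * q = p' * q' → p = p' ∧ q = q' := by
    intro p hp q hq p' hp' q' hq' h
    have h1 : p'⁻¹ * p = q' * q⁻¹ := by
      rw [inv_mul_eq_iff_eq_mul, ← mul_assoc, ← h]; group
    have h2 : p'⁻¹ * p = 1 := hdisj _ (mul_mem (inv_mem hp') hp)
      (h1 ▸ mul_mem hq' (inv_mem hq))
    have h3 : p = p' := (inv_mul_eq_one.1 h2).symm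
    subst h3
    exact ⟨rfl, mul_left_cancel h⟩
  -- the centre of `B`
  have hcen : ∀ p ∈ W1, ∀ q ∈ W2, (∀ w ∈ W1, (p * q) * w = w * (p * q)) →
      (∀ w ∈ W2, (p * q) * w = w * (p * q)) → (p = 1 ∨ p = a) ∧ (q = 1 ∨ q = b) := by
    intro p hp q hq h1 h2
    constructor
    · apply hz1 p hp
      intro w hw'
      have h3 := h1 w hw'
      have h4 : p * w * q = w * p * q := by
        calc p * w * q = p * (w * q) := by group
          _ = p * (q * w) := by rw [hcomm w hw' q hq]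
          _ = (p * q) * w := by group
          _ = w * (p * q) := h3
          _ = w * p * q := by group
      exact mul_right_cancel h4
    · apply hz2 q hq
      intro w hw'
      have h3 := h2 w hw'
      have h4 : p * (q * w) = p * (w * q) := by
        calc p * (q * w) = (p * q) * w := by group
          _ = w * (p * q) := h3
          _ = (w * p) * q := by group
          _ = (p * w) * q := by rw [hcomm p hp w hw']
          _ = _ := by group
      exact mul_left_cancel h4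
  have haa : a * a = 1 := by
    rcases hz1 (a * a) (mul_mem ha ha) (fun w hw' => by
      have := hBa w (h1B hw')
      rw [mul_assoc, ← this, ← mul_assoc, ← this, mul_assoc]) with h | h
    · exact h
    · exact absurd (mul_left_cancel (h.trans (mul_one a).symm)) ha1
  have hbb : b * b = 1 := by
    rcases hz2 (b * b) (mul_mem hb hb) (fun w hw' => by
      have := hBb w (h2B hw')
      rw [mul_assoc, ← this, ← mul_assoc, ← this, mul_assoc]) with h | h
    · exact h
    · exact absurd (mul_left_cancel (h.trans (mul_one b).symm)) hb1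
  have hab : a * b = b * a := hcomm a ha b hb
  have hya : a * b ≠ 1 := fun h => hne (by
    have : a = b⁻¹ := eq_inv_of_mul_eq_one_left h
    rw [this]; exact inv_eq_of_mul_eq_one_left hbb)
  -- an element `n` of `N(B)` with `a ^ n = b`
  obtain ⟨n, hnN, hna⟩ : ∃ n ∈ normalizer (B : Set G), n * a * n⁻¹ = b := by
    have hX : (B.map (MulAut.conj g⁻¹).toMonoidHom) ≤ centralizer {a} := by
      rintro _ ⟨x, hx, rfl⟩
      rw [mem_centralizer_singleton_iff]
      show g⁻¹ * x * g⁻¹⁻¹ * a = a * (g⁻¹ * x * g⁻¹⁻¹)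
      have := hBb x hx
      rw [hg] at this
      calc g⁻¹ * x * g⁻¹⁻¹ * a = g⁻¹ * (x * (g * a * g⁻¹)) * g := by group
        _ = g⁻¹ * ((g * a * g⁻¹) * x) * g := by rw [this]
        _ = _ := by group
    obtain ⟨c, hc, hcB⟩ := exists_conj_le hX hB (hB.map _) hia
    refine ⟨g * c⁻¹, ?_, ?_⟩
    · have h1 : ∀ x ∈ B, (c * g⁻¹) * x * (c * g⁻¹)⁻¹ ∈ B := by
        intro x hx
        have := hcB _ (mem_map_of_mem _ hx)
        have h2 : (c * g⁻¹) * x * (c * g⁻¹)⁻¹ = c * ((MulAut.conj g⁻¹).toMonoidHom x) * c⁻¹ := by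
          show _ = c * (g⁻¹ * x * g⁻¹⁻¹) * c⁻¹
          group
        rw [h2]; exact this
      have h3 : (c * g⁻¹) ∈ normalizer (B : Set G) := mem_normalizer_of_forall h1
      have h4 : g * c⁻¹ = (c * g⁻¹)⁻¹ := by group
      rw [h4]
      exact inv_mem h3
    · have h1 : c * a = a * c := mem_centralizer_singleton_iff.1 hc
      calc g * c⁻¹ * a * (g * c⁻¹)⁻¹ = g * (c⁻¹ * (a * c)) * g⁻¹ := by group
        _ = g * (c⁻¹ * (c * a)) * g⁻¹ := by rw [h1]
        _ = g * a * g⁻¹ := by group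
        _ = b := hg.symm
  have hconjmem : ∀ v ∈ normalizer (B : Set G), ∀ x ∈ B, v * x * v⁻¹ ∈ B := fun v hv x hx =>
    (mem_normalizer_iff.1 hv x).1 hx
  have hZ : ∀ v ∈ normalizer (B : Set G), ∀ x ∈ B, (∀ w ∈ B, x * w = w * x) →
      ∀ w ∈ B, (v * x * v⁻¹) * w = w * (v * x * v⁻¹) := by
    intro v hv x hx hxc w hw'
    have h1 : v⁻¹ * w * v ∈ B := by
      have := hconjmem _ (inv_mem hv) w hw'
      rwa [inv_inv] at this
    have h2 := hxc _ h1
    calc (v * x * v⁻¹) * w = v * (x * (v⁻¹ * w * v)) * v⁻¹ := by group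
      _ = v * ((v⁻¹ * w * v) * x) * v⁻¹ := by rw [h2]
      _ = _ := by group
  have hIsA : ∀ v : G, v * a * v⁻¹ ≠ a * b := fun v hv => hy (isConj_iff.2 ⟨v, hv⟩)
  have hnb : n * b * n⁻¹ = a := by
    obtain ⟨p, hp, q, hq, hpq⟩ := hdec _ (hconjmem n hnN b hbB)
    have h1 := hZ n hnN b hbB (fun w hw' => (hBb w hw').symm)
    rw [hpq] at h1
    obtain ⟨h2 | h2, h3 | h3⟩ := hcen p hp q hq (fun w hw' => h1 w (h1B hw'))
      (fun w hw' => h1 w (h2B hw')) <;> subst h2 <;> subst h3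
    · rw [mul_one, conj_eq_one_iff] at hpq
      exact absurd hpq hb1
    · rw [one_mul] at hpq
      exfalso
      apply hne
      have : n * q * n⁻¹ = n * a * n⁻¹ := by rw [hpq, hna]
      exact (mul_left_cancel (mul_right_cancel this)).symm
    · rw [hpq, mul_one]
    · exfalso
      apply hIsA (n * g)
      rw [← hpq]
      calc n * g * p * (n * g)⁻¹ = n * (g * p * g⁻¹) * n⁻¹ := by group
        _ = _ := by rw [← hg]
  obtain ⟨m, hm, hmp⟩ := exists_odd_pow n
  obtain ⟨j, rfl⟩ := hm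
  set t₀ : G := n ^ (2 * j + 1) with ht₀
  have hcomA : Commute (n * n) a := by
    show n * n * a = a * (n * n)
    calc n * n * a = n * (n * a * n⁻¹) * n := by group
      _ = n * b * n⁻¹ * n * n := by rw [hna]; group
      _ = _ := by rw [hnb]; group
  have hcomB : Commute (n * n) b := by
    show n * n * b = b * (n * n)
    calc n * n * b = n * (n * b * n⁻¹) * n := by group
      _ = n * a * n⁻¹ * n * n := by rw [hnb]; group
      _ = _ := by rw [hna]; group
  have ht₀' : t₀ = (n * n) ^ j * n := by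
    rw [ht₀, pow_succ, pow_mul, sq]
  have ht₀N : t₀ ∈ normalizer (B : Set G) := pow_mem hnN _
  have ht₀a : t₀ * a * t₀⁻¹ = b := by
    have := (hcomB.pow_left j).eq
    calc t₀ * a * t₀⁻¹ = (n * n) ^ j * (n * a * n⁻¹) * ((n * n) ^ j)⁻¹ := by rw [ht₀']; group
      _ = (n * n) ^ j * b * ((n * n) ^ j)⁻¹ := by rw [hna]
      _ = b := by rw [this]; group
  have ht₀b : t₀ * b * t₀⁻¹ = a := by
    have := (hcomA.pow_left j).eq
    calc t₀ * b * t₀⁻¹ = (n * n) ^ j * (n * b * n⁻¹) * ((n * n) ^ j)⁻¹ := by rw [ht₀']; group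
      _ = (n * n) ^ j * a * ((n * n) ^ j)⁻¹ := by rw [hnb]
      _ = a := by rw [this]; group
  have ht₀2 : t₀ * t₀ ∈ B := by
    apply mem_of_normalizer hBC hB hia _ _ (mul_mem ht₀N ht₀N)
    · rw [mem_centralizer_singleton_iff]
      calc t₀ * t₀ * a = t₀ * (t₀ * a * t₀⁻¹) * t₀ := by group
        _ = t₀ * b * t₀⁻¹ * t₀ * t₀ := by rw [ht₀a]; group
        _ = _ := by rw [ht₀b]; group
    · exact isPGroup_zpowers_of_mem hmp (mul_mem (mem_zpowers t₀) (mem_zpowers t₀))
  obtain ⟨x, hx, y, hy', hxy⟩ := hdec _ ht₀2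
  obtain ⟨hs1, hs2⟩ := hsw t₀ ht₀a ht₀b ht₀N
  have hm1 : ∀ v ∈ W1, t₀ * v * t₀⁻¹ ∈ W2 := fun v hv => hs1 ▸ mem_map_of_mem _ hv
  have hm2 : ∀ v ∈ W2, t₀ * v * t₀⁻¹ ∈ W1 := fun v hv => hs2 ▸ mem_map_of_mem _ hv
  have hxy2 : t₀ * y * t₀⁻¹ = x ∧ t₀ * x * t₀⁻¹ = y := by
    apply huniq _ (hm2 y hy') _ (hm1 x hx) _ hx _ hy'
    calc t₀ * y * t₀⁻¹ * (t₀ * x * t₀⁻¹) = t₀ * (y * x) * t₀⁻¹ := by group
      _ = t₀ * (t₀ * t₀) * t₀⁻¹ := by rw [← hcomm x hx y hy', hxy]
      _ = x * y := by rw [← hxy]; group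
  set t : G := t₀ * x⁻¹ with ht
  have hxB := h1B hx
  have htt : t * t = 1 := by
    calc t * t = (t₀ * x * t₀⁻¹)⁻¹ * (t₀ * t₀) * x⁻¹ := by rw [ht]; group
      _ = y⁻¹ * (x * y) * x⁻¹ := by rw [hxy2.2, hxy]
      _ = y⁻¹ * (y * x) * x⁻¹ := by rw [hcomm x hx y hy']
      _ = 1 := by group
  have htinv : t⁻¹ = t := inv_eq_of_mul_eq_one_left htt
  have htN : t ∈ normalizer (B : Set G) :=
    mul_mem ht₀N (inv_mem (le_normalizer hxB))
  have hta : t * a * t⁻¹ = b := by
    have := hBa _ (inv_mem hxB)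
    calc t * a * t⁻¹ = t₀ * (x⁻¹ * a) * x * t₀⁻¹ := by rw [ht]; group
      _ = t₀ * a * t₀⁻¹ := by rw [this]; group
      _ = b := ht₀a
  have htb : t * b * t⁻¹ = a := by
    have := hBb _ (inv_mem hxB)
    calc t * b * t⁻¹ = t₀ * (x⁻¹ * b) * x * t₀⁻¹ := by rw [ht]; group
      _ = t₀ * b * t₀⁻¹ := by rw [this]; group
      _ = a := ht₀b
  have htB : t ∉ B := by
    intro h
    apply hne
    rw [← hta, hBa t h, mul_inv_cancel_right]
  obtain ⟨hS1, hS2⟩ := hsw t hta htb htN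
  -- the 2-group `B⟨t⟩`
  set S₁ : Subgroup G := B ⊔ zpowers t with hS₁
  have htp : IsPGroup 2 (zpowers t) := by
    intro v
    refine ⟨1, Subtype.ext ?_⟩
    obtain ⟨k, hk⟩ := mem_zpowers_iff.1 v.2
    show (v : G) ^ 2 ^ 1 = 1
    rw [← hk, pow_one, sq, ← zpow_add, ← two_mul, zpow_mul]
    rw [zpow_two, htt, one_zpow]
  have hS₁p : IsPGroup 2 S₁ := hB.to_sup_of_normal_left' htp (by rwa [zpowers_le])
  have htS : t ∈ S₁ := mem_sup_right (mem_zpowers t)
  have hBS : B ≤ S₁ := le_sup_left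
  have hS₁c : ∀ s ∈ S₁, s ∈ B ∨ s * t ∈ B := by
    let K : Subgroup G :=
      { carrier := {s | s ∈ B ∨ s * t ∈ B}
        one_mem' := Or.inl (one_mem _)
        mul_mem' := by
          rintro p q (hp | hp) (hq | hq)
          · exact Or.inl (mul_mem hp hq)
          · exact Or.inr (by rw [mul_assoc]; exact mul_mem hp hq)
          · right
            have : p * q * t = (p * t) * (t * q * t⁻¹) := by
              calc p * q * t = p * 1 * q * t := by group
                _ = p * (t * t) * q * t⁻¹ := by rw [htt, htinv]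
                _ = _ := by group
            rw [this]
            exact mul_mem hp (hconjmem t htN q hq)
          · left
            have : p * q = (p * t) * (t * (q * t) * t⁻¹) := by
              calc p * q = p * 1 * q := by group
                _ = p * (t * t) * q := by rw [htt]
                _ = _ := by group
            rw [this]
            exact mul_mem hp (hconjmem t htN _ hq)
        inv_mem' := by
          rintro p (hp | hp)
          · exact Or.inl (inv_mem hp)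
          · right
            have : p⁻¹ * t = t * (p * t)⁻¹ * t⁻¹ := by
              calc p⁻¹ * t = p⁻¹ * t⁻¹ := by rw [htinv]
                _ = _ := by group
            rw [this]
            exact hconjmem t htN _ (inv_mem hp) }
    have hK : S₁ ≤ K := by
      rw [hS₁, sup_le_iff, zpowers_le]
      exact ⟨fun x hx => Or.inl hx, Or.inr (by rw [htt]; exact one_mem _)⟩
    exact fun s hs => hK hs
  have hS₁a : ∀ s ∈ S₁, s * a = a * s → s ∈ B := by
    intro s hs hsa
    rcases hS₁c s hs with h | h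
    · exact h
    · exfalso
      have h1 := hBa _ h
      apply hne
      have h2 : s * (t * a) = s * (a * t) := by
        calc s * (t * a) = (s * t) * a := by group
          _ = a * (s * t) := h1
          _ = (a * s) * t := by group
          _ = (s * a) * t := by rw [hsa]
          _ = _ := by group
      rw [← hta, mul_left_cancel h2, mul_inv_cancel_right]
  have hS₁ab : ∀ s ∈ S₁, (s * a * s⁻¹ = a ∧ s * b * s⁻¹ = b) ∨
      (s * a * s⁻¹ = b ∧ s * b * s⁻¹ = a) := by
    intro s hs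
    rcases hS₁c s hs with h | h
    · left
      rw [hBa s h, hBb s h]
      constructor <;> group
    · right
      have h1 := hBa _ h
      have h2 := hBb _ h
      have h3 : s = (s * t) * t := by rw [mul_assoc, htt, mul_one]
      constructor
      · calc s * a * s⁻¹ = (s * t) * (t * a * t⁻¹) * (s * t)⁻¹ := by
              nth_rewrite 1 2 [h3]; group
          _ = (s * t) * b * (s * t)⁻¹ := by rw [hta]
          _ = b := by rw [h2]; group
      · calc s * b * s⁻¹ = (s * t) * (t * b * t⁻¹) * (s * t)⁻¹ := by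
              nth_rewrite 1 2 [h3]; group
          _ = (s * t) * a * (s * t)⁻¹ := by rw [htb]
          _ = a := by rw [h1]; group
  obtain ⟨P, hP⟩ := hS₁p.exists_le_sylow
  refine ⟨P, t, htt, hP htS, htB, ?_, hS1⟩
  -- `S₁` is a Sylow subgroup
  by_contra hPS
  obtain ⟨u, huP, huS, huN⟩ := Cfsg.Agent.Involutions.BaerSuzuki.exists_mem_normalizer_of_lt
    P.isPGroup' (lt_of_le_of_ne hP (Ne.symm hPS))
  have huS' : ∀ v ∈ normalizer (S₁ : Set G), ∀ x ∈ S₁, v * x * v⁻¹ ∈ S₁ := fun v hv x hx =>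
    (mem_normalizer_iff.1 hv x).1 hx
  -- elements of `N_P(S₁)` centralising `a` lie in `B`
  have hcl : ∀ v ∈ (P : Subgroup G), v ∈ normalizer (S₁ : Set G) → v * a * v⁻¹ = a → v ∈ B := by
    intro v hv hvN hva
    have hva' : v * a = a * v := by
      rw [← mul_inv_eq_iff_eq_mul]; exact hva
    apply mem_of_normalizer hBC hB hia (mem_centralizer_singleton_iff.2 hva')
      (isPGroup_zpowers_of_mem P.isPGroup' hv)
    apply mem_normalizer_of_forall
    intro w hw'
    apply hS₁a _ (huS' v hvN w (hBS hw'))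
    have := hBa w hw'
    calc v * w * v⁻¹ * a = v * w * v⁻¹ * (v * a * v⁻¹) := by rw [hva]
      _ = v * (w * a) * v⁻¹ := by group
      _ = v * (a * w) * v⁻¹ := by rw [this]
      _ = (v * a * v⁻¹) * (v * w * v⁻¹) := by group
      _ = _ := by rw [hva]
  set c : G := u * a * u⁻¹ with hc
  set d : G := u * b * u⁻¹ with hd
  have hcS : c ∈ S₁ := huS' u huN a (hBS haB)
  have hdS : d ∈ S₁ := huS' u huN b (hBS hbB)
  have hcc : c * c = 1 := by
    calc c * c = u * (a * a) * u⁻¹ := by rw [hc]; group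
      _ = 1 := by rw [haa]; group
  have hcinv : c⁻¹ = c := inv_eq_of_mul_eq_one_left hcc
  have hcd : c * d = u * (a * b) * u⁻¹ := by rw [hc, hd]; group
  have hcd' : d * c = c * d := by
    calc d * c = u * (b * a) * u⁻¹ := by rw [hc, hd]; group
      _ = c * d := by rw [← hab, hcd]
  have huinv : ∀ s ∈ S₁, u⁻¹ * s * u ∈ S₁ := by
    intro s hs
    have := huS' _ (inv_mem huN) s hs
    rwa [inv_inv] at this
  -- conjugates of `c` under `S₁`
  have hScd : ∀ s ∈ S₁, s * c * s⁻¹ = c ∨ s * c * s⁻¹ = d := by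
    intro s hs
    have h1 : s * c * s⁻¹ = u * ((u⁻¹ * s * u) * a * (u⁻¹ * s * u)⁻¹) * u⁻¹ := by
      rw [hc]; group
    rcases hS₁ab _ (huinv s hs) with h | h
    · left; rw [h1, h.1]
    · right; rw [h1, h.1]
  -- `a b` is fixed by `S₁`, so is its conjugate
  have hyS : ∀ s ∈ S₁, s * (a * b) = (a * b) * s := by
    intro s hs
    rw [← mul_inv_eq_iff_eq_mul]
    calc s * (a * b) * s⁻¹ = (s * a * s⁻¹) * (s * b * s⁻¹) := by group
      _ = a * b := by
        rcases hS₁ab s hs with h | h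
        · rw [h.1, h.2]
        · rw [h.1, h.2, hab]
  have hy'S : ∀ s ∈ S₁, (c * d) * s = s * (c * d) := by
    intro s hs
    have := hyS _ (huinv s hs)
    calc (c * d) * s = u * ((a * b) * (u⁻¹ * s * u)) * u⁻¹ := by rw [hcd]; group
      _ = u * ((u⁻¹ * s * u) * (a * b)) * u⁻¹ := by rw [this]
      _ = _ := by rw [hcd]; group
  have hcdB : c * d ∈ B := hS₁a _ (mul_mem hcS hdS) (hy'S a (hBS haB))
  have hcdy : c * d = a * b := by
    obtain ⟨p, hp, q, hq, hpq⟩ := hdec _ hcdB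
    have h1 := hy'S
    rw [hpq] at h1
    have h4 := h1 t htS
    rw [hpq]
    obtain ⟨h2 | h2, h3 | h3⟩ := hcen p hp q hq (fun w hw' => h1 w (hBS (h1B hw')))
      (fun w hw' => h1 w (hBS (h2B hw'))) <;> rw [h2, h3] at hpq h4 ⊢
    · exfalso
      rw [mul_one, hcd, conj_eq_one_iff] at hpq
      exact hya hpq
    · exfalso
      rw [one_mul] at h4
      apply hne
      rw [← htb, ← h4, mul_inv_cancel_right]
    · exfalso
      rw [mul_one] at h4
      apply hne
      rw [← hta, ← h4, mul_inv_cancel_right]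
  have hbW1 : a * b ∉ W1 := by
    intro h
    have : b ∈ W1 := by
      have := mul_mem (inv_mem ha) h
      rwa [inv_mul_cancel_left] at this
    exact hb1 (hdisj b this hb)
  have haW2 : a * b ∉ W2 := by
    intro h
    have : a ∈ W2 := by
      have := mul_mem h (inv_mem hb)
      rwa [mul_inv_cancel_right] at this
    exact ha1 (hdisj a ha this)
  -- commutators with `c`
  have hcomc : ∀ s ∈ S₁, s * c * s⁻¹ * c⁻¹ = 1 ∨ s * c * s⁻¹ * c⁻¹ = a * b := by
    intro s hs
    rcases hScd s hs with h | h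
    · left; rw [h, mul_inv_cancel]
    · right; rw [h, hcinv, hcd', hcdy]
  rcases hS₁c c hcS with hcB | hcB
  · -- `c ∈ B`
    obtain ⟨p, hp, q, hq, hpq⟩ := hdec _ hcB
    have h1 : ∀ w ∈ W1, (p * q) * w = w * (p * q) := by
      intro w hw'
      have h2 := hcomc w (hBS (h1B hw'))
      have h3 : w * c * w⁻¹ * c⁻¹ ∈ W1 := by
        have h4 : w * c * w⁻¹ * c⁻¹ = w * p * (w⁻¹ * p⁻¹) := by
          have h5 := hcomm _ (mul_mem (inv_mem hw') (inv_mem hp)) q hq
          calc w * c * w⁻¹ * c⁻¹ = w * p * (q * w⁻¹) * q⁻¹ * p⁻¹ := by rw [hpq]; group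
            _ = w * p * (w⁻¹ * q) * q⁻¹ * p⁻¹ := by rw [hcomm _ (inv_mem hw') q hq]
            _ = _ := by group
        rw [h4]
        exact mul_mem (mul_mem hw' hp) (mul_mem (inv_mem hw') (inv_mem hp))
      rcases h2 with h2 | h2
      · rw [hpq] at h2
        have h5 := mul_inv_eq_one.1 h2
        rw [mul_inv_eq_iff_eq_mul] at h5
        exact h5.symm
      · exact absurd (h2 ▸ h3) hbW1
    have h1' : ∀ w ∈ W2, (p * q) * w = w * (p * q) := by
      intro w hw'
      have h2 := hcomc w (hBS (h2B hw'))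
      have h3 : w * c * w⁻¹ * c⁻¹ ∈ W2 := by
        have h4 : w * c * w⁻¹ * c⁻¹ = w * q * (w⁻¹ * q⁻¹) := by
          have h6 := hcomm p hp w hw'
          have h5 := hcomm p hp _ (mul_mem (mul_mem hq (inv_mem hw')) (inv_mem hq))
          calc w * c * w⁻¹ * c⁻¹ = (w * p) * (q * w⁻¹ * q⁻¹) * p⁻¹ := by rw [hpq]; group
            _ = w * (p * (q * w⁻¹ * q⁻¹)) * p⁻¹ := by group
            _ = w * ((q * w⁻¹ * q⁻¹) * p) * p⁻¹ := by rw [h5]
            _ = _ := by group
        rw [h4]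
        exact mul_mem (mul_mem hw' hq) (mul_mem (inv_mem hw') (inv_mem hq))
      rcases h2 with h2 | h2
      · rw [hpq] at h2
        have h5 := mul_inv_eq_one.1 h2
        rw [mul_inv_eq_iff_eq_mul] at h5
        exact h5.symm
      · exact absurd (h2 ▸ h3) haW2
    have hcab : c = a ∨ c = b := by
      obtain ⟨h2 | h2, h3 | h3⟩ := hcen p hp q hq h1 h1' <;> rw [h2, h3] at hpq
      · exfalso
        rw [mul_one, hc, conj_eq_one_iff] at hpq
        exact ha1 hpq
      · right; rw [hpq, one_mul]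
      · left; rw [hpq, mul_one]
      · exact absurd hpq (hIsA u)
    rcases hcab with h | h
    · exact huS (hBS (hcl u huP huN h))
    · have h2 : t * u ∈ B := by
        apply hcl _ (mul_mem (hP htS) huP) (mul_mem (le_normalizer htS) huN)
        calc t * u * a * (t * u)⁻¹ = t * c * t⁻¹ := by rw [hc]; group
          _ = a := by rw [h, htb]
      apply huS
      have h3 : u = t⁻¹ * (t * u) := by group
      rw [h3]
      exact mul_mem (inv_mem htS) (hBS h2)
  · -- `c ∉ B`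
    obtain ⟨w, hw1, hw2, hw3⟩ := hw
    have hcW : c * w⁻¹ * c⁻¹ ∈ W2 := by
      obtain ⟨p, hp, q, hq, hpq⟩ := hdec _ hcB
      have h0 : c = p * q * t := by rw [← hpq, mul_assoc, htt, mul_one]
      have h1 : t * w⁻¹ * t⁻¹ ∈ W2 := hS1 ▸ mem_map_of_mem _ (inv_mem hw1)
      have h2 : c * w⁻¹ * c⁻¹ = q * (t * w⁻¹ * t⁻¹) * q⁻¹ := by
        have h3 := hcomm p hp _ (mul_mem (mul_mem hq h1) (inv_mem hq))
        calc c * w⁻¹ * c⁻¹ = (p * (q * (t * w⁻¹ * t⁻¹) * q⁻¹)) * p⁻¹ := by rw [h0]; group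
          _ = ((q * (t * w⁻¹ * t⁻¹) * q⁻¹) * p) * p⁻¹ := by rw [h3]
          _ = _ := by group
      rw [h2]
      exact mul_mem (mul_mem hq h1) (inv_mem hq)
    have h4 : w * c * w⁻¹ * c⁻¹ = w * (c * w⁻¹ * c⁻¹) := by group
    rcases hcomc w (hBS (h1B hw1)) with h | h
    · rw [h4] at h
      have h5 : w = (c * w⁻¹ * c⁻¹)⁻¹ := eq_inv_of_mul_eq_one_left h
      exact hw2 (hdisj w hw1 (h5 ▸ inv_mem hcW))
    · rw [h4] at h
      exact hw3 (huniq _ hw1 _ hcW _ ha _ hb h).1

end Cfsg.Agent.GH.QA.Wreath
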