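import Mathlib

/-!
# Project GH, branch GH-L3 (W): the wreathed case `4 wr 2`

`WrIn K a b t ρ`: elements of a subgroup `K` generating a Sylow 2-subgroup `⟨a, b, t⟩ = 4 wr 2` of `K`, and an
element `ρ` with `⟨ρ, t⟩ = S₃` acting on `⟨a, b⟩`; `N_K(⟨a, b⟩) = ⟨a, b⟩⟨ρ, t⟩`, `C_K(⟨a, b⟩) = ⟨a, b⟩`,
`t` is conjugate in `K` to `a²b²`.  (This is the situation in `PSU₃(3)`.)

`Frame x T a b t τ ρ`: the situation in `C_G(x)`, `T` a Sylow 2-subgroup of it.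
-/

set_option autoImplicit false

namespace Cfsg.Agent.GH.WDefs

open Subgroup

/-- The subgroup `A₀ = ⟨a, b⟩`. -/
def A0 {X : Type*} [Group X] (a b : X) : Subgroup X := closure {a, b}

/-- The subgroup `P₀ = ⟨a, b, t⟩`. -/
def P0 {X : Type*} [Group X] (a b t : X) : Subgroup X := closure {a, b, t}

/-- `⟨a, b, t⟩ = 4 wr 2` is a Sylow 2-subgroup of `K`, etc. -/
structure WrIn {X : Type*} [Group X] (K : Subgroup X) (a b t ρ : X) : Prop where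
  aK : a ∈ K
  bK : b ∈ K
  tK : t ∈ K
  ρK : ρ ∈ K
  a4 : a ^ 4 = 1
  ab : a * b = b * a
  indep : ∀ i j : ℕ, a ^ i * b ^ j = 1 → 4 ∣ i ∧ 4 ∣ j
  tt : t * t = 1
  ta : t * a * t⁻¹ = b
  ρa : ρ * a * ρ⁻¹ = b
  ρb : ρ * b * ρ⁻¹ = (a * b)⁻¹
  tρ : t * ρ * t⁻¹ = ρ⁻¹
  cent : ∀ g ∈ K, g * a = a * g → g * b = b * g → g ∈ A0 a b
  norm : ∀ g ∈ K, g * a * g⁻¹ ∈ A0 a b → g * b * g⁻¹ ∈ A0 a b → ∃ u ∈ A0 a b,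
    g = u ∨ g = u * ρ ∨ g = u * ρ⁻¹ ∨ g = u * t ∨ g = u * ρ * t ∨ g = u * ρ⁻¹ * t
  syl : ∀ Q : Subgroup X, Q ≤ K → IsPGroup 2 Q → Nat.card Q ≤ 32
  fus : ∃ k ∈ K, k * t * k⁻¹ = a ^ 2 * b ^ 2

/-- The frame: `T = ⟨a, b, t⟩ : ⟨τ⟩` is a Sylow 2-subgroup of `C_G(x)`, `x ∈ ⟨τ⟩`. -/
structure Frame {G : Type*} [Group G] (x : G) (T : Subgroup G) (a b t τ ρ : G) : Prop where
  x1 : x ≠ 1
  xx : x * x = 1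
  pT : IsPGroup 2 T
  Tx : ∀ g ∈ T, g * x = x * g
  syl : ∀ Q : Subgroup G, IsPGroup 2 Q → (∀ q ∈ Q, q * x = x * q) → Nat.card Q ≤ Nat.card T
  a4 : a ^ 4 = 1
  ab : a * b = b * a
  indep : ∀ i j : ℕ, a ^ i * b ^ j = 1 → 4 ∣ i ∧ 4 ∣ j
  tt : t * t = 1
  ta : t * a * t⁻¹ = b
  tA : t ∉ A0 a b
  τt : τ * t = t * τ
  τa : (τ * a * τ⁻¹ = a ∧ τ * b * τ⁻¹ = b) ∨ (τ * a * τ⁻¹ = a⁻¹ ∧ τ * b * τ⁻¹ = b⁻¹)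
  memT : ∀ g : G, g ∈ T ↔ ∃ p ∈ P0 a b t, ∃ n : ℕ, g = p * τ ^ n
  triv : ∀ n : ℕ, τ ^ n ∈ P0 a b t → τ ^ n = 1
  xτ : ∃ n : ℕ, x = τ ^ n
  ρx : ρ * x = x * ρ
  ρτ : ρ * τ = τ * ρ
  ρa : ρ * a * ρ⁻¹ = b
  ρb : ρ * b * ρ⁻¹ = (a * b)⁻¹
  fus : ∀ u ∈ P0 a b t, u * u = 1 → u ≠ 1 → ∃ k : G, k * x = x * k ∧ k * u * k⁻¹ = a ^ 2 * b ^ 2

end Cfsg.Agent.GH.WDefs
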