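import Mathlib
import Cfsg.Agent.GH.WDefs

/-!
# Normal forms in `⟨a, b, t⟩ = 4 wr 2`
-/

set_option autoImplicit false

namespace Cfsg.Agent.GH.WNorm

open Subgroup Cfsg.Agent.GH.WDefs

/-- The relations of `4 wr 2`. -/
structure Rel {X : Type*} [Group X] (a b t : X) : Prop where
  a4 : a ^ 4 = 1
  ab : a * b = b * a
  indep : ∀ i j : ℕ, a ^ i * b ^ j = 1 → 4 ∣ i ∧ 4 ∣ j
  tt : t * t = 1
  ta : t * a * t⁻¹ = b

theorem _root_.Cfsg.Agent.GH.WDefs.WrIn.rel {X : Type*} [Group X] {K : Subgroup X} {a b t ρ : X}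
    (h : WrIn K a b t ρ) : Rel a b t := ⟨h.a4, h.ab, h.indep, h.tt, h.ta⟩

theorem _root_.Cfsg.Agent.GH.WDefs.Frame.rel {G : Type*} [Group G] {x : G} {T : Subgroup G}
    {a b t τ ρ : G} (h : Frame x T a b t τ ρ) : Rel a b t := ⟨h.a4, h.ab, h.indep, h.tt, h.ta⟩

/-- The element `aⁱ bʲ`. -/
def E {X : Type*} [Group X] (a b : X) (i j : ZMod 4) : X := a ^ i.val * b ^ j.val

variable {X : Type*} [Group X] {a b t : X}

theorem pow_val_add {x : X} (hx : x ^ 4 = 1) (i k : ZMod 4) :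
    x ^ (i + k).val = x ^ i.val * x ^ k.val := by
  rw [ZMod.val_add, ← pow_eq_pow_mod _ hx, pow_add]

theorem Rel.ti (h : Rel a b t) : t⁻¹ = t := inv_eq_of_mul_eq_one_right h.tt

theorem Rel.tb (h : Rel a b t) : t * b * t⁻¹ = a := by
  rw [← h.ta, h.ti]
  calc t * (t * a * t) * t = (t * t) * a * (t * t) := by group
    _ = a := by rw [h.tt]; group

theorem Rel.b4 (h : Rel a b t) : b ^ 4 = 1 := by
  rw [← h.ta, conj_pow, h.a4, mul_one, mul_inv_cancel]

theorem Rel.E_mul (h : Rel a b t) (i j k l : ZMod 4) :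
    E a b i j * E a b k l = E a b (i + k) (j + l) := by
  unfold E
  rw [pow_val_add h.a4, pow_val_add h.b4]
  have h1 : b ^ j.val * a ^ k.val = a ^ k.val * b ^ j.val :=
    ((show Commute b a from h.ab.symm).pow_pow _ _).eq
  calc a ^ i.val * b ^ j.val * (a ^ k.val * b ^ l.val)
      = a ^ i.val * (b ^ j.val * a ^ k.val) * b ^ l.val := by simp only [mul_assoc]
    _ = a ^ i.val * a ^ k.val * (b ^ j.val * b ^ l.val) := by rw [h1]; simp only [mul_assoc]

@[simp] theorem E_zero : E a b 0 0 = 1 := by simp [E]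

theorem Rel.E_inv (h : Rel a b t) (i j : ZMod 4) : (E a b i j)⁻¹ = E a b (-i) (-j) := by
  apply inv_eq_of_mul_eq_one_right
  rw [h.E_mul, add_neg_cancel, add_neg_cancel, E_zero]

theorem E_one_zero : E a b 1 0 = a := by
  have h1 : (1 : ZMod 4).val = 1 := rfl
  have h0 : (0 : ZMod 4).val = 0 := rfl
  simp [E, h1, h0]

theorem E_zero_one : E a b 0 1 = b := by
  have h1 : (1 : ZMod 4).val = 1 := rfl
  have h0 : (0 : ZMod 4).val = 0 := rfl
  simp [E, h1, h0]

theorem Rel.E_neg_one_zero (h : Rel a b t) : E a b (-1) 0 = a⁻¹ := by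
  have := h.E_inv 1 0
  rw [E_one_zero, neg_zero] at this
  exact this.symm

theorem Rel.E_zero_neg_one (h : Rel a b t) : E a b 0 (-1) = b⁻¹ := by
  have := h.E_inv 0 1
  rw [E_zero_one, neg_zero] at this
  exact this.symm

theorem Rel.E_comm (h : Rel a b t) (i j k l : ZMod 4) :
    E a b i j * E a b k l = E a b k l * E a b i j := by
  rw [h.E_mul, h.E_mul, add_comm i k, add_comm j l]

theorem E_mem (i j : ZMod 4) : E a b i j ∈ A0 a b :=
  mul_mem (pow_mem (subset_closure (by simp)) _) (pow_mem (subset_closure (by simp)) _)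

theorem Rel.mem_A0 (h : Rel a b t) {g : X} : g ∈ A0 a b ↔ ∃ i j : ZMod 4, g = E a b i j := by
  constructor
  · intro hg
    let S : Subgroup X :=
      { carrier := {g | ∃ i j : ZMod 4, g = E a b i j}
        one_mem' := ⟨0, 0, E_zero.symm⟩
        mul_mem' := by
          rintro _ _ ⟨i, j, rfl⟩ ⟨k, l, rfl⟩
          exact ⟨i + k, j + l, h.E_mul i j k l⟩
        inv_mem' := by
          rintro _ ⟨i, j, rfl⟩
          exact ⟨-i, -j, h.E_inv i j⟩ }
    have hS : A0 a b ≤ S := by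
      unfold A0
      rw [closure_le]
      rintro x (rfl | rfl)
      · exact ⟨1, 0, E_one_zero.symm⟩
      · exact ⟨0, 1, E_zero_one.symm⟩
    exact hS hg
  · rintro ⟨i, j, rfl⟩
    exact E_mem i j

theorem Rel.E_inj (h : Rel a b t) {i j k l : ZMod 4} (he : E a b i j = E a b k l) :
    i = k ∧ j = l := by
  have h1 : E a b (i - k) (j - l) = 1 := by
    rw [sub_eq_add_neg, sub_eq_add_neg, ← h.E_mul, ← h.E_inv, he, mul_inv_cancel]
  have h2 := h.indep _ _ h1
  have key : ∀ m : ZMod 4, 4 ∣ m.val → m = 0 := by decide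
  exact ⟨sub_eq_zero.mp (key _ h2.1), sub_eq_zero.mp (key _ h2.2)⟩

theorem Rel.E_pow (h : Rel a b t) (i j : ZMod 4) (n : ℕ) :
    (E a b i j) ^ n = E a b (n * i) (n * j) := by
  induction n with
  | zero => simp
  | succ n ih =>
    rw [pow_succ, ih, h.E_mul]
    congr 1 <;> push_cast <;> ring

/-- Conjugation of `aⁱ bʲ`. -/
theorem Rel.conj_E (h : Rel a b t) {g : X} {p q r s : ZMod 4} (ha : g * a * g⁻¹ = E a b p q)
    (hb : g * b * g⁻¹ = E a b r s) (i j : ZMod 4) :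
    g * E a b i j * g⁻¹ = E a b (i * p + j * r) (i * q + j * s) := by
  have h1 : g * E a b i j * g⁻¹ = (g * a * g⁻¹) ^ i.val * (g * b * g⁻¹) ^ j.val := by
    unfold E
    rw [conj_pow, conj_pow]
    group
  have h2 : ∀ m : ZMod 4, ((m.val : ℕ) : ZMod 4) = m := by decide
  rw [h1, ha, hb, h.E_pow, h.E_pow, h.E_mul, h2, h2]

theorem Rel.t_E (h : Rel a b t) (i j : ZMod 4) : t * E a b i j * t⁻¹ = E a b j i := by
  rw [h.conj_E (p := 0) (q := 1) (r := 1) (s := 0) (by rw [h.ta, E_zero_one])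
    (by rw [h.tb, E_one_zero])]
  congr 1 <;> ring

theorem Rel.tE (h : Rel a b t) (i j : ZMod 4) : t * E a b i j = E a b j i * t := by
  rw [← h.t_E i j, inv_mul_cancel_right]

theorem Rel.t_not_mem (h : Rel a b t) : t ∉ A0 a b := by
  intro ht
  obtain ⟨i, j, hij⟩ := h.mem_A0.mp ht
  have h1 : t * E a b 1 0 = E a b 1 0 * t := by
    rw [hij]
    exact h.E_comm _ _ _ _
  rw [h.tE] at h1
  have h2 := h.E_inj (mul_right_cancel h1)
  revert h2
  decide

theorem A0_le_P0 : A0 a b ≤ P0 a b t := by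
  unfold A0 P0
  apply Subgroup.closure_mono
  rintro x (rfl | rfl)
  · simp
  · simp

theorem t_mem_P0 : t ∈ P0 a b t := subset_closure (by simp)

theorem a_mem_A0 : a ∈ A0 a b := subset_closure (by simp)

theorem b_mem_A0 : b ∈ A0 a b := subset_closure (by simp)

theorem Rel.mem_P0 (h : Rel a b t) {g : X} :
    g ∈ P0 a b t ↔ ∃ i j : ZMod 4, g = E a b i j ∨ g = E a b i j * t := by
  constructor
  · intro hg
    let S : Subgroup X :=
      { carrier := {g | ∃ i j : ZMod 4, g = E a b i j ∨ g = E a b i j * t}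
        one_mem' := ⟨0, 0, Or.inl E_zero.symm⟩
        mul_mem' := by
          rintro _ _ ⟨i, j, rfl | rfl⟩ ⟨k, l, rfl | rfl⟩
          · exact ⟨i + k, j + l, Or.inl (h.E_mul i j k l)⟩
          · exact ⟨i + k, j + l, Or.inr (by rw [← h.E_mul i j k l, mul_assoc])⟩
          · exact ⟨i + l, j + k, Or.inr (by rw [mul_assoc, h.tE, ← mul_assoc, h.E_mul])⟩
          · refine ⟨i + l, j + k, Or.inl ?_⟩
            rw [mul_assoc, ← mul_assoc t, h.tE, mul_assoc, h.tt, mul_one, h.E_mul]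
        inv_mem' := by
          rintro _ ⟨i, j, rfl | rfl⟩
          · exact ⟨-i, -j, Or.inl (h.E_inv i j)⟩
          · refine ⟨-j, -i, Or.inr ?_⟩
            rw [mul_inv_rev, h.ti, h.E_inv]
            exact h.tE _ _ }
    have hS : P0 a b t ≤ S := by
      unfold P0
      rw [closure_le]
      rintro x (rfl | rfl | rfl)
      · exact ⟨1, 0, Or.inl E_one_zero.symm⟩
      · exact ⟨0, 1, Or.inl E_zero_one.symm⟩
      · exact ⟨0, 0, Or.inr (by rw [E_zero, one_mul])⟩
    exact hS hg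
  · rintro ⟨i, j, rfl | rfl⟩
    · exact A0_le_P0 (E_mem i j)
    · exact mul_mem (A0_le_P0 (E_mem i j)) t_mem_P0

theorem Rel.Et_ne (h : Rel a b t) (i j k l : ZMod 4) : E a b i j * t ≠ E a b k l := by
  intro he
  apply h.t_not_mem
  have h1 : t = (E a b i j)⁻¹ * E a b k l := by
    rw [← he]
    group
  rw [h1]
  exact mul_mem (inv_mem (E_mem _ _)) (E_mem _ _)

theorem Rel.Et_sq (h : Rel a b t) (i j : ZMod 4) :
    E a b i j * t * (E a b i j * t) = E a b (i + j) (i + j) := by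
  rw [mul_assoc, ← mul_assoc t, h.tE, mul_assoc, h.tt, mul_one, h.E_mul, add_comm j i]

/-- `|⟨a, b, t⟩| ≥ 32`. -/
theorem Rel.card_P0 [Finite X] (h : Rel a b t) : 32 ≤ Nat.card (P0 a b t) := by
  let f : (ZMod 4 × ZMod 4) × Bool → P0 a b t := fun p =>
    ⟨bif p.2 then E a b p.1.1 p.1.2 * t else E a b p.1.1 p.1.2, by
      rcases p with ⟨⟨i, j⟩, _ | _⟩
      · exact h.mem_P0.mpr ⟨i, j, Or.inl rfl⟩
      · exact h.mem_P0.mpr ⟨i, j, Or.inr rfl⟩⟩
  have hf : Function.Injective f := by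
    rintro ⟨⟨i, j⟩, _ | _⟩ ⟨⟨k, l⟩, _ | _⟩ hpq
    · have h1 : E a b i j = E a b k l := congrArg Subtype.val hpq
      obtain ⟨rfl, rfl⟩ := h.E_inj h1
      rfl
    · have h1 : E a b i j = E a b k l * t := congrArg Subtype.val hpq
      exact absurd h1.symm (h.Et_ne _ _ _ _)
    · have h1 : E a b i j * t = E a b k l := congrArg Subtype.val hpq
      exact absurd h1 (h.Et_ne _ _ _ _)
    · have h1 : E a b i j * t = E a b k l * t := congrArg Subtype.val hpq
      obtain ⟨rfl, rfl⟩ := h.E_inj (mul_right_cancel h1)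
      rfl
  have h1 := Nat.card_le_card_of_injective f hf
  have h2 : Nat.card ((ZMod 4 × ZMod 4) × Bool) = 32 := by
    simp
  omega

theorem Rel.conj_mem_A0 (h : Rel a b t) {g u : X} (hg : g ∈ P0 a b t) (hu : u ∈ A0 a b) :
    g * u * g⁻¹ ∈ A0 a b := by
  obtain ⟨k, l, rfl⟩ := h.mem_A0.mp hu
  obtain ⟨i, j, rfl | rfl⟩ := h.mem_P0.mp hg
  · rw [h.E_comm, mul_inv_cancel_right]
    exact E_mem _ _
  · have h1 : E a b i j * t * E a b k l * (E a b i j * t)⁻¹ = E a b l k := by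
      rw [mul_assoc (E a b i j), h.tE, ← mul_assoc, h.E_comm]
      group
    rw [h1]
    exact E_mem _ _

end Cfsg.Agent.GH.WNorm
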