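import Mathlib
import Cfsg.Agent.GH.WNorm

/-!
# A 2-group normalising `K` and containing the Sylow subgroup `⟨a, b, t⟩ = 4 wr 2` of `K`
-/

set_option autoImplicit false

namespace Cfsg.Agent.GH.WQuot

open Subgroup Cfsg.Agent.GH.WDefs Cfsg.Agent.GH.WNorm

variable {X : Type*} [Group X] {K T : Subgroup X} {a b t ρ : X}

/-! ### the element `ρ` -/

theorem ρ_E (h : WrIn K a b t ρ) (i j : ZMod 4) : ρ * E a b i j * ρ⁻¹ = E a b (-j) (i - j) := by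
  have hr := h.rel
  rw [hr.conj_E (p := 0) (q := 1) (r := -1) (s := -1) (by rw [h.ρa, E_zero_one])]
  · congr 1 <;> ring
  · rw [h.ρb, ← hr.E_inv]
    congr 1
    unfold E
    have h1 : (1 : ZMod 4).val = 1 := rfl
    rw [h1, pow_one, pow_one]

theorem ρ'_E (h : WrIn K a b t ρ) (i j : ZMod 4) : ρ⁻¹ * E a b i j * ρ = E a b (j - i) (-i) := by
  have h1 := ρ_E h (j - i) (-i)
  have h2 : E a b (- -i) (j - i - -i) = E a b i j := by
    congr 1 <;> ring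
  rw [h2] at h1
  rw [← h1]
  group

theorem ρ_not_mem (h : WrIn K a b t ρ) : ρ ∉ A0 a b := by
  intro hρ
  obtain ⟨i, j, hij⟩ := h.rel.mem_A0.mp hρ
  have h1 := ρ_E h 1 0
  rw [hij, h.rel.E_comm i j 1 0, mul_inv_cancel_right] at h1
  have h2 := h.rel.E_inj h1
  revert h2
  decide

theorem eq_one_of_comm (h : WrIn K a b t ρ) {u : X} (hu : u ∈ A0 a b) (hc : ρ * u = u * ρ) :
    u = 1 := by
  obtain ⟨i, j, rfl⟩ := h.rel.mem_A0.mp hu
  have h1 := ρ_E h i j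
  rw [hc, mul_inv_cancel_right] at h1
  have h2 := h.rel.E_inj h1
  have key : ∀ i j : ZMod 4, i = -j ∧ j = i - j → i = 0 ∧ j = 0 := by decide
  obtain ⟨rfl, rfl⟩ := key i j h2
  exact E_zero

theorem ρ3 (h : WrIn K a b t ρ) : ρ * ρ * ρ = 1 := by
  have h1 : ∀ i j, ρ * ρ * ρ * E a b i j = E a b i j * (ρ * ρ * ρ) := by
    intro i j
    have e1 := ρ_E h i j
    have e2 := ρ_E h (-j) (i - j)
    have e3 := ρ_E h (-(i - j)) (-j - (i - j))
    have e4 : E a b (-(-j - (i - j))) (-(i - j) - (-j - (i - j))) = E a b i j := by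
      congr 1 <;> ring
    have e5 : ρ * ρ * ρ * E a b i j = ρ * (ρ * (ρ * E a b i j * ρ⁻¹) * ρ⁻¹) * ρ⁻¹ * (ρ * ρ * ρ) := by
      group
    rw [e5, e1, e2, e3, e4]
  refine eq_one_of_comm h (h.cent _ ?_ ?_ ?_) (by group)
  · exact mul_mem (mul_mem h.ρK h.ρK) h.ρK
  · have := h1 1 0
    rwa [E_one_zero] at this
  · have := h1 0 1
    rwa [E_zero_one] at this

theorem tρ' (h : WrIn K a b t ρ) : t * ρ = ρ⁻¹ * t := by
  rw [← h.tρ]
  group

theorem tρ'' (h : WrIn K a b t ρ) : t * ρ⁻¹ = ρ * t := by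
  have h1 : t * ρ⁻¹ * t⁻¹ = ρ := by
    have := congrArg (fun x => x⁻¹) h.tρ
    simp only [mul_inv_rev, inv_inv] at this
    rw [← mul_assoc] at this
    exact this
  exact mul_inv_eq_iff_eq_mul.mp h1

/-! ### conjugation by elements of `T` -/

theorem inf_eq [Finite X] (h : WrIn K a b t ρ) (pT : IsPGroup 2 T) (aT : a ∈ T) (tT : t ∈ T) :
    T ⊓ K = P0 a b t := by
  symm
  apply eq_of_le_of_card_ge
  · unfold P0
    rw [closure_le]
    have hb : b ∈ T := by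
      rw [← h.ta]
      exact T.mul_mem (T.mul_mem tT aT) (T.inv_mem tT)
    rintro x (rfl | rfl | rfl)
    · exact ⟨aT, h.aK⟩
    · exact ⟨hb, h.bK⟩
    · exact ⟨tT, h.tK⟩
  · exact (h.syl _ inf_le_right (pT.to_le inf_le_left)).trans h.rel.card_P0

/-- The situation in `X = C(x)/O(C(x))`. -/
structure QHyp (K T : Subgroup X) (a b t ρ : X) : Prop where
  wr : WrIn K a b t ρ
  nK : K.Normal
  pT : IsPGroup 2 T
  aT : a ∈ T
  tT : t ∈ T

section main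

variable [Finite X] (q : QHyp K T a b t ρ)

include q

theorem P0_le : P0 a b t ≤ T := by
  rw [← inf_eq q.wr q.pT q.aT q.tT]
  exact inf_le_left

theorem conj_P0 {g u : X} (hg : g ∈ T) (hu : u ∈ P0 a b t) : g * u * g⁻¹ ∈ P0 a b t := by
  have := q.nK
  rw [← inf_eq q.wr q.pT q.aT q.tT] at hu ⊢
  exact ⟨T.mul_mem (T.mul_mem hg hu.1) (T.inv_mem hg), this.conj_mem u hu.2 g⟩

theorem conj_a {g : X} (hg : g ∈ T) : g * a * g⁻¹ ∈ A0 a b := by
  have hr := q.wr.rel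
  obtain ⟨i, j, h1 | h1⟩ := hr.mem_P0.mp (conj_P0 q hg (A0_le_P0 a_mem_A0))
  · rw [h1]
    exact E_mem i j
  · exfalso
    have h2 : g * (a * a) * g⁻¹ = E a b (i + j) (i + j) := by
      rw [← hr.Et_sq, ← h1]
      group
    have h3 : ∀ u ∈ P0 a b t, E a b (i + j) (i + j) * u = u * E a b (i + j) (i + j) := by
      intro u hu
      obtain ⟨k, l, rfl | rfl⟩ := hr.mem_P0.mp hu
      · exact hr.E_comm _ _ _ _
      · rw [← mul_assoc, hr.E_comm _ _ k l, mul_assoc, mul_assoc, hr.tE]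
    have h4 := h3 _ (conj_P0 q hg t_mem_P0)
    rw [← h2] at h4
    have h5 : (a * a) * t = t * (a * a) := by
      have h6 : g * (a * a * t) * g⁻¹ = g * (t * (a * a)) * g⁻¹ := by
        calc g * (a * a * t) * g⁻¹ = g * (a * a) * g⁻¹ * (g * t * g⁻¹) := by group
          _ = g * t * g⁻¹ * (g * (a * a) * g⁻¹) := h4
          _ = g * (t * (a * a)) * g⁻¹ := by group
      exact mul_left_cancel (mul_right_cancel h6)
    have h6 : a * a = E a b 2 0 := by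
      have h7 : (2 : ZMod 4).val = 2 := rfl
      have h8 : (0 : ZMod 4).val = 0 := rfl
      rw [E, h7, h8, pow_zero, mul_one, pow_two]
    rw [h6, hr.tE] at h5
    have h7 := hr.E_inj (mul_right_cancel h5)
    revert h7
    decide

theorem conj_b {g : X} (hg : g ∈ T) : g * b * g⁻¹ ∈ A0 a b := by
  have hr := q.wr.rel
  have h1 : g * b * g⁻¹ = (g * t * g⁻¹) * (g * a * g⁻¹) * (g * t * g⁻¹)⁻¹ := by
    rw [← hr.ta]
    group
  rw [h1]
  exact hr.conj_mem_A0 (conj_P0 q hg t_mem_P0) (conj_a q hg)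

theorem conj_A0 {g u : X} (hg : g ∈ T) (hu : u ∈ A0 a b) : g * u * g⁻¹ ∈ A0 a b := by
  have h : A0 a b ≤ (A0 a b).comap (MulAut.conj g).toMonoidHom := by
    conv_lhs => unfold A0
    rw [closure_le]
    rintro x (rfl | rfl)
    · exact conj_a q hg
    · exact conj_b q hg
  exact h hu

theorem conj_t {g : X} (hg : g ∈ T) : ∃ i j : ZMod 4, g * t * g⁻¹ = E a b i j * t := by
  have hr := q.wr.rel
  obtain ⟨i, j, h1 | h1⟩ := hr.mem_P0.mp (conj_P0 q hg t_mem_P0)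
  · exfalso
    apply hr.t_not_mem
    have h2 := conj_A0 q (T.inv_mem hg) (u := g * t * g⁻¹) (by rw [h1]; exact E_mem i j)
    have h3 : g⁻¹ * (g * t * g⁻¹) * g⁻¹⁻¹ = t := by group
    rwa [h3] at h2
  · exact ⟨i, j, h1⟩

omit [Finite X] in
theorem ρ_A0 {u : X} (hu : u ∈ A0 a b) : ρ * u * ρ⁻¹ ∈ A0 a b := by
  obtain ⟨i, j, rfl⟩ := q.wr.rel.mem_A0.mp hu
  rw [ρ_E q.wr]
  exact E_mem _ _

omit [Finite X] in
theorem ρ'_A0 {u : X} (hu : u ∈ A0 a b) : ρ⁻¹ * u * ρ ∈ A0 a b := by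
  obtain ⟨i, j, rfl⟩ := q.wr.rel.mem_A0.mp hu
  rw [ρ'_E q.wr]
  exact E_mem _ _

omit [Finite X] in
theorem t_A0 {u : X} (hu : u ∈ A0 a b) : t * u * t⁻¹ ∈ A0 a b := by
  obtain ⟨i, j, rfl⟩ := q.wr.rel.mem_A0.mp hu
  rw [q.wr.rel.t_E]
  exact E_mem _ _

theorem conj_ρ {g : X} (hg : g ∈ T) :
    ∃ u ∈ A0 a b, g * ρ * g⁻¹ = u * ρ ∨ g * ρ * g⁻¹ = u * ρ⁻¹ := by
  have := q.nK
  have w := q.wr
  have hr := w.rel
  have key : ∀ u ∈ A0 a b, (g * ρ * g⁻¹) * u * (g * ρ * g⁻¹)⁻¹ ∈ A0 a b := by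
    intro u hu
    have h1 : (g * ρ * g⁻¹) * u * (g * ρ * g⁻¹)⁻¹ =
        g * (ρ * (g⁻¹ * u * g⁻¹⁻¹) * ρ⁻¹) * g⁻¹ := by group
    rw [h1]
    exact conj_A0 q hg (ρ_A0 q (conj_A0 q (T.inv_mem hg) hu))
  obtain ⟨u, hu, h1⟩ := w.norm _ (this.conj_mem ρ w.ρK g) (key a a_mem_A0) (key b b_mem_A0)
  have h3 := ρ3 w
  -- the square is not in `A0`
  have hsq : (g * ρ * g⁻¹) * (g * ρ * g⁻¹) ∉ A0 a b := by
    intro h2
    have h4 := conj_A0 q (T.inv_mem hg) h2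
    have h5 : g⁻¹ * (g * ρ * g⁻¹ * (g * ρ * g⁻¹)) * g⁻¹⁻¹ = ρ⁻¹ := by
      rw [eq_inv_iff_mul_eq_one, ← h3]
      group
    rw [h5] at h4
    exact ρ_not_mem w (by simpa using inv_mem h4)
  rcases h1 with h1 | h1 | h1 | h1 | h1 | h1
  · exfalso
    apply hsq
    rw [h1]
    exact mul_mem hu hu
  · exact ⟨u, hu, Or.inl h1⟩
  · exact ⟨u, hu, Or.inr h1⟩
  · exfalso
    apply hsq
    have h2 : u * t * (u * t) = u * (t * u * t⁻¹) := by
      rw [hr.ti]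
      calc u * t * (u * t) = u * (t * u * t) := by group
        _ = _ := rfl
    rw [h1, h2]
    exact mul_mem hu (t_A0 q hu)
  · exfalso
    apply hsq
    have h2 : u * ρ * t * (u * ρ * t) = u * (ρ * (t * u * t⁻¹) * ρ⁻¹) := by
      calc u * ρ * t * (u * ρ * t) = u * ρ * (t * u * t⁻¹) * (t * ρ * t) := by group
        _ = u * ρ * (t * u * t⁻¹) * (t * ρ * t⁻¹) := by rw [hr.ti]
        _ = u * (ρ * (t * u * t⁻¹) * ρ⁻¹) := by rw [w.tρ]; group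
    rw [h1, h2]
    exact mul_mem hu (ρ_A0 q (t_A0 q hu))
  · exfalso
    apply hsq
    have h2 : u * ρ⁻¹ * t * (u * ρ⁻¹ * t) = u * (ρ⁻¹ * (t * u * t⁻¹) * ρ) := by
      calc u * ρ⁻¹ * t * (u * ρ⁻¹ * t) = u * ρ⁻¹ * (t * u * t⁻¹) * (t * ρ⁻¹ * t) := by group
        _ = u * ρ⁻¹ * (t * u * t⁻¹) * (ρ * t * t) := by rw [tρ'' w]
        _ = u * ρ⁻¹ * (t * u * t⁻¹) * (ρ * (t * t)) := by group
        _ = u * (ρ⁻¹ * (t * u * t⁻¹) * ρ) := by rw [hr.tt]; group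
    rw [h1, h2]
    exact mul_mem hu (ρ'_A0 q (t_A0 q hu))

/-- action of an element of `T` with `ρ ↦ uρ` -/
theorem act {g : X} (hg : g ∈ T) {u : X} (hu : u ∈ A0 a b) (hgρ : g * ρ * g⁻¹ = u * ρ) :
    (g * a * g⁻¹ = a ∧ g * b * g⁻¹ = b) ∨ (g * a * g⁻¹ = a⁻¹ ∧ g * b * g⁻¹ = b⁻¹) := by
  have w := q.wr
  have hr := w.rel
  obtain ⟨m, n, hm⟩ := hr.mem_A0.mp (conj_a q hg)
  obtain ⟨c, d, hcd⟩ := conj_t q hg
  have h1 : g * b * g⁻¹ = E a b n m := by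
    have h2 : g * b * g⁻¹ = (g * t * g⁻¹) * (g * a * g⁻¹) * (g * t * g⁻¹)⁻¹ := by
      rw [← hr.ta]
      group
    rw [h2, hcd, hm, mul_inv_rev, ← mul_assoc, mul_assoc (E a b c d) t, mul_assoc (E a b c d),
      hr.t_E, hr.E_comm, mul_inv_cancel_right]
  have h2 : g * b * g⁻¹ = E a b (-n) (m - n) := by
    have h3 : g * b * g⁻¹ = (g * ρ * g⁻¹) * (g * a * g⁻¹) * (g * ρ * g⁻¹)⁻¹ := by
      rw [← w.ρa]
      group
    obtain ⟨c', d', rfl⟩ := hr.mem_A0.mp hu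
    rw [h3, hgρ, hm, mul_inv_rev, ← mul_assoc, mul_assoc (E a b c' d') ρ,
      mul_assoc (E a b c' d'), ρ_E w, hr.E_comm, mul_inv_cancel_right]
  have h3 := hr.E_inj (h1.symm.trans h2)
  have h4 : m ≠ 0 ∧ m ≠ 2 ∨ n ≠ 0 := by
    by_contra hcon
    push Not at hcon
    obtain ⟨h5, h6⟩ := hcon
    have h7 : m + m = 0 := by
      by_cases h8 : m = 0
      · rw [h8]; rfl
      · rw [h5 h8]; rfl
    have h9 : (g * a * g⁻¹) * (g * a * g⁻¹) = 1 := by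
      rw [hm, h6, hr.E_mul, h7, add_zero, E_zero]
    have h10 : a * a = 1 := by
      have : g * (a * a) * g⁻¹ = 1 := by
        rw [← h9]
        group
      rwa [conj_eq_one_iff] at this
    have h11 := hr.indep 2 0 (by rw [pow_zero, mul_one, pow_two, h10])
    have := h11.1
    omega
  have key : ∀ m n : ZMod 4, n = -n ∧ m = m - n → (m ≠ 0 ∧ m ≠ 2 ∨ n ≠ 0) →
      n = 0 ∧ (m = 1 ∨ m = -1) := by decide
  obtain ⟨rfl, h5⟩ := key m n h3 h4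
  rcases h5 with rfl | rfl
  · left
    rw [hm, h1]
    exact ⟨E_one_zero, E_zero_one⟩
  · right
    rw [hm, h1]
    have e1 : E a b (-1) 0 = a⁻¹ := by
      have := hr.E_inv 1 0
      rw [E_one_zero, neg_zero] at this
      exact this.symm
    have e2 : E a b 0 (-1) = b⁻¹ := by
      have := hr.E_inv 0 1
      rw [E_zero_one, neg_zero] at this
      exact this.symm
    exact ⟨e1, e2⟩

/-- The group `Y = C_T(⟨t, ρ⟩)`. -/
def Y (T : Subgroup X) (t ρ : X) : Subgroup X := T ⊓ centralizer {t, ρ}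

omit [Finite X] q in
theorem mem_Y {y : X} : y ∈ Y T t ρ ↔ y ∈ T ∧ y * t = t * y ∧ y * ρ = ρ * y := by
  unfold Y
  rw [mem_inf, mem_centralizer_iff]
  constructor
  · rintro ⟨h1, h2⟩
    exact ⟨h1, (h2 t (by simp)).symm, (h2 ρ (by simp)).symm⟩
  · rintro ⟨h1, h2, h3⟩
    refine ⟨h1, ?_⟩
    rintro x (rfl | rfl)
    · exact h2.symm
    · exact h3.symm

/-- correction of an element with `ρ ↦ uρ` -/
theorem correct {g : X} (hg : g ∈ T) {u : X} (hu : u ∈ A0 a b) (hgρ : g * ρ * g⁻¹ = u * ρ) :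
    ∃ w ∈ A0 a b, w * g ∈ Y T t ρ := by
  have w := q.wr
  have hr := w.rel
  have hAT : A0 a b ≤ T := A0_le_P0.trans (P0_le q)
  obtain ⟨m, n, hmn⟩ := conj_t q hg
  -- `m + n = 0`
  have h1 : m + n = 0 := by
    have h2 : (g * t * g⁻¹) * (g * t * g⁻¹) = 1 := by
      calc (g * t * g⁻¹) * (g * t * g⁻¹) = g * (t * t) * g⁻¹ := by group
        _ = 1 := by rw [hr.tt]; group
    rw [hmn, hr.Et_sq] at h2
    have h3 := hr.E_inj (h2.trans E_zero.symm)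
    exact h3.1
  -- first correction
  obtain ⟨k, l, rfl⟩ := hr.mem_A0.mp hu
  have ht1 : (E a b (-m) 0 * g) * t * (E a b (-m) 0 * g)⁻¹ = t := by
    have h2 : (E a b (-m) 0 * g) * t * (E a b (-m) 0 * g)⁻¹ =
        E a b (-m) 0 * (g * t * g⁻¹) * (E a b (-m) 0)⁻¹ := by group
    rw [h2, hmn, hr.E_inv, mul_assoc, mul_assoc, hr.tE, ← mul_assoc, ← mul_assoc, hr.E_mul,
      hr.E_mul]
    have h3 : -m + m + -0 = 0 := by ring
    have h4 : 0 + n + - -m = 0 := by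
      rw [neg_neg, zero_add, add_comm]
      exact h1
    rw [h3, h4, E_zero, one_mul]
  have hρ1 : (E a b (-m) 0 * g) * ρ * (E a b (-m) 0 * g)⁻¹ = E a b (k - m) (l + m) * ρ := by
    have h2 : (E a b (-m) 0 * g) * ρ * (E a b (-m) 0 * g)⁻¹ =
        E a b (-m) 0 * (g * ρ * g⁻¹) * (E a b (-m) 0)⁻¹ := by group
    have h3 : ρ * E a b (- -m) (-0) = E a b (- -0) (- -m - -0) * ρ := by
      rw [← ρ_E w, inv_mul_cancel_right]
    rw [h2, hgρ, hr.E_inv, mul_assoc, mul_assoc, h3, ← mul_assoc, ← mul_assoc, hr.E_mul, hr.E_mul]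
    congr 2 <;> ring
  set k' := k - m with hk'
  set l' := l + m with hl'
  set g' := E a b (-m) 0 * g with hg'
  have hkl : k' = l' + l' := by
    have h2 : t * (g' * ρ * g'⁻¹) * t⁻¹ = (g' * ρ * g'⁻¹)⁻¹ := by
      have h3 : g' * t = t * g' := by
        rw [mul_inv_eq_iff_eq_mul] at ht1
        exact ht1
      have h4 : g'⁻¹ * t⁻¹ = t⁻¹ * g'⁻¹ := by
        rw [← mul_inv_rev, ← mul_inv_rev, h3]
      calc t * (g' * ρ * g'⁻¹) * t⁻¹ = (t * g') * ρ * (g'⁻¹ * t⁻¹) := by group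
        _ = (g' * t) * ρ * (t⁻¹ * g'⁻¹) := by rw [h3, h4]
        _ = g' * (t * ρ * t⁻¹) * g'⁻¹ := by group
        _ = g' * ρ⁻¹ * g'⁻¹ := by rw [w.tρ]
        _ = (g' * ρ * g'⁻¹)⁻¹ := by group
    rw [hρ1, mul_inv_rev, hr.E_inv] at h2
    have h3 : t * (E a b k' l' * ρ) * t⁻¹ = E a b l' k' * ρ⁻¹ := by
      calc t * (E a b k' l' * ρ) * t⁻¹ = (t * E a b k' l' * t⁻¹) * (t * ρ * t⁻¹) := by group
        _ = _ := by rw [hr.t_E, w.tρ]
    have h4 : ρ⁻¹ * E a b (-k') (-l') = E a b (-l' - -k') (- -k') * ρ⁻¹ := by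
      rw [← ρ'_E w]
      group
    rw [h3, h4] at h2
    have h5 := hr.E_inj (mul_right_cancel h2)
    have key : ∀ k l : ZMod 4, l = -l - -k ∧ k = - -k → k = l + l := by decide
    exact key _ _ h5
  have hT' : g' ∈ T := T.mul_mem (hAT (E_mem _ _)) hg
  refine ⟨E a b (-l') (-l') * E a b (-m) 0, mul_mem (E_mem _ _) (E_mem _ _), ?_⟩
  rw [mem_Y, mul_assoc, ← hg']
  clear_value g' k' l'
  refine ⟨T.mul_mem (hAT (E_mem _ _)) hT', ?_, ?_⟩
  · have h3 : g' * t = t * g' := by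
      rw [mul_inv_eq_iff_eq_mul] at ht1
      exact ht1
    rw [mul_assoc, h3, ← mul_assoc, ← mul_assoc, hr.tE]
  · have h3 : g' * ρ = E a b k' l' * ρ * g' := by
      rw [← hρ1]
      group
    have h4 : ρ * E a b (-l') (-l') = E a b (- -l') (-l' - -l') * ρ := by
      rw [← ρ_E w, inv_mul_cancel_right]
    rw [← mul_assoc ρ, h4, mul_assoc, h3, ← mul_assoc, ← mul_assoc, hr.E_mul, hkl]
    congr 3 <;> ring

/-- `T = P0 Y`. -/
theorem decomp {g : X} (hg : g ∈ T) : ∃ p ∈ P0 a b t, ∃ y ∈ Y T t ρ, g = p * y := by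
  have w := q.wr
  obtain ⟨u, hu, h1 | h1⟩ := conj_ρ q hg
  · obtain ⟨v, hv, h2⟩ := correct q hg hu h1
    exact ⟨v⁻¹, A0_le_P0 (inv_mem hv), _, h2, by group⟩
  · have h2 : (g * t) * ρ * (g * t)⁻¹ = (ρ * u⁻¹ * ρ⁻¹) * ρ := by
      calc (g * t) * ρ * (g * t)⁻¹ = g * (t * ρ * t⁻¹) * g⁻¹ := by group
        _ = g * ρ⁻¹ * g⁻¹ := by rw [w.tρ]
        _ = (g * ρ * g⁻¹)⁻¹ := by group
        _ = (u * ρ⁻¹)⁻¹ := by rw [h1]
        _ = _ := by group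
    obtain ⟨v, hv, h3⟩ := correct q (T.mul_mem hg q.tT) (ρ_A0 q (inv_mem hu)) h2
    refine ⟨v⁻¹ * t, mul_mem (A0_le_P0 (inv_mem hv)) t_mem_P0, _, h3, ?_⟩
    have h4 := (mem_Y.mp h3).2.1
    have h5 : v⁻¹ * t * (v * (g * t)) = v⁻¹ * (v * (g * t) * t) := by
      rw [h4]
      group
    rw [h5]
    calc g = v⁻¹ * (v * (g * 1)) := by group
      _ = v⁻¹ * (v * (g * (t * t))) := by rw [w.tt]
      _ = _ := by group

omit [Finite X] in
/-- `P0 ∩ Y = 1`. -/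
theorem inf_Y {p : X} (hp : p ∈ P0 a b t) (hy : p ∈ Y T t ρ) : p = 1 := by
  have w := q.wr
  have hr := w.rel
  have hc := (mem_Y.mp hy).2.2
  obtain ⟨i, j, rfl | rfl⟩ := hr.mem_P0.mp hp
  · exact eq_one_of_comm w (E_mem i j) hc.symm
  · exfalso
    apply ρ_not_mem w
    have h1 : E a b i j * ρ⁻¹ = ρ * E a b i j := by
      have h2 : E a b i j * t * ρ = E a b i j * ρ⁻¹ * t := by
        rw [mul_assoc, tρ' w, mul_assoc]
      rw [h2, ← mul_assoc] at hc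
      exact mul_right_cancel hc
    have h3 : ρ * ρ = (ρ * E a b i j * ρ⁻¹)⁻¹ * E a b i j := by
      rw [← h1, mul_inv_rev, mul_inv_rev, inv_inv]
      group
    have h4 : ρ * ρ ∈ A0 a b := by
      rw [h3]
      exact mul_mem (inv_mem (ρ_A0 q (E_mem i j))) (E_mem i j)
    have h5 : ρ = (ρ * ρ)⁻¹ := by
      rw [eq_inv_iff_mul_eq_one, ← mul_assoc]
      exact ρ3 w
    rw [h5]
    exact inv_mem h4

/-- action of `Y` -/
theorem act_Y {y : X} (hy : y ∈ Y T t ρ) :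
    (y * a * y⁻¹ = a ∧ y * b * y⁻¹ = b) ∨ (y * a * y⁻¹ = a⁻¹ ∧ y * b * y⁻¹ = b⁻¹) := by
  obtain ⟨h1, h2, h3⟩ := mem_Y.mp hy
  refine act q h1 (one_mem _) ?_
  rw [h3, one_mul, mul_inv_cancel_right]

end main

end Cfsg.Agent.GH.WQuot
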