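import Mathlib
import Cfsg.Agent.GH.WQuot
import Cfsg.Agent.TwoFusion.SectionalRank

/-!
# `C_T(⟨t, ρ⟩)` is cyclic when the sectional 2-rank is at most 4
-/

set_option autoImplicit false

namespace Cfsg.Agent.GH.WRank

open Subgroup Cfsg.Agent.GH.WDefs Cfsg.Agent.GH.WNorm Cfsg.Agent.GH.WQuot
open Cfsg.Agent.TwoFusion.SectionalRank

/-! ### 2-groups -/

theorem exists_index_two {Y : Type*} [Group Y] [Finite Y] (hY : IsPGroup 2 Y) {H : Subgroup Y}
    (hH : H ≠ ⊤) : ∃ M : Subgroup Y, H ≤ M ∧ M.index = 2 := by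
  have hp : Fact (Nat.Prime 2) := ⟨Nat.prime_two⟩
  obtain ⟨m, hm⟩ := hY.exists_card_eq
  obtain ⟨n, hn⟩ := (hY.to_subgroup H).exists_card_eq
  have hlt : n < m := by
    have h1 : Nat.card H < Nat.card Y := by
      refine lt_of_le_of_ne (Subgroup.card_le_card_group H) ?_
      intro h
      exact hH (Subgroup.eq_top_of_card_eq H h)
    rw [hm, hn] at h1
    exact (Nat.pow_lt_pow_iff_right (by norm_num)).mp h1
  obtain ⟨M, hM, hle⟩ := Sylow.exists_subgroup_card_pow_prime_le (G := Y) 2 (n := n) (m := m - 1)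
    (by rw [hm]; exact pow_dvd_pow 2 (by omega)) H hn (by omega)
  refine ⟨M, hle, ?_⟩
  have h1 := M.card_mul_index
  rw [hM, hm] at h1
  have h2 : (2 : ℕ) ^ m = 2 ^ (m - 1) * 2 := by
    rw [← pow_succ]
    congr 1
    omega
  rw [h2] at h1
  exact Nat.eq_of_mul_eq_mul_left (by positivity) h1

theorem comm_mem_of_index_two {Y : Type*} [Group Y] {M : Subgroup Y} (hM : M.index = 2) (g h : Y) :
    g * h * g⁻¹ * h⁻¹ ∈ M := by
  simp only [mul_mem_iff_of_index_two hM, inv_mem_iff]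
  tauto

theorem exists_four {Y : Type*} [Group Y] [Finite Y] (hY : IsPGroup 2 Y) (hc : ¬ IsCyclic Y) :
    ∃ N : Subgroup Y, (∀ g h, g * h * g⁻¹ * h⁻¹ ∈ N) ∧ (∀ g, g ^ 2 ∈ N) ∧
      4 * Nat.card N ≤ Nat.card Y := by
  obtain ⟨M, -, hM⟩ := exists_index_two hY (H := ⊥) (by
    intro h
    apply hc
    have : Subsingleton Y := by
      rw [← Subgroup.subsingleton_iff]
      exact subsingleton_of_bot_eq_top h
    infer_instance)
  obtain ⟨y, hy⟩ : ∃ y : Y, y ∉ M := by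
    by_contra hcon
    push Not at hcon
    have h1 : M = ⊤ := by
      rw [eq_top_iff]
      exact fun x _ => hcon x
    rw [h1, index_top] at hM
    omega
  obtain ⟨M', hM', h2⟩ := exists_index_two hY (H := zpowers y) (by
    intro h
    apply hc
    exact ⟨y, fun x => (show x ∈ zpowers y by rw [h]; exact mem_top x)⟩)
  have hne : ¬ M' ≤ M := fun h => hy (h (hM' (mem_zpowers y)))
  refine ⟨M ⊓ M', fun g h => ⟨comm_mem_of_index_two hM g h, comm_mem_of_index_two h2 g h⟩,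
    fun g => ⟨sq_mem_of_index_two hM g, sq_mem_of_index_two h2 g⟩, ?_⟩
  have h3 := M'.card_mul_index
  have h4 : 2 * Nat.card (M ⊓ M' : Subgroup Y) ≤ Nat.card M' := by
    have h5 := card_eq_relIndex_mul M' (M ⊓ M') inf_le_right
    have h6 : (M ⊓ M').relIndex M' ≠ 1 := by
      intro h
      rw [relIndex_eq_one] at h
      exact hne (h.trans inf_le_left)
    have h7 : (M ⊓ M').relIndex M' ≠ 0 := by
      intro h
      rw [h, zero_mul] at h5
      exact Nat.card_pos.ne' h5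
    rw [h5]
    exact Nat.mul_le_mul_right _ (by omega)
  rw [h2] at h3
  omega

/-! ### the section -/

variable {X : Type*} [Group X] {K T : Subgroup X} {a b t ρ : X}

/-- `D = 4 ∘ Q₈`, generated by `ab`, `a²`, `t`. -/
def D (h : Rel a b t) : Subgroup X where
  carrier := {g | ∃ i j : ZMod 4, (i + j = 0 ∨ i + j = 2) ∧ (g = E a b i j ∨ g = E a b i j * t)}
  one_mem' := ⟨0, 0, Or.inl rfl, Or.inl E_zero.symm⟩
  mul_mem' := by
    have key : ∀ i j k l : ZMod 4, (i + j = 0 ∨ i + j = 2) → (k + l = 0 ∨ k + l = 2) →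
        (i + k + (j + l) = 0 ∨ i + k + (j + l) = 2) ∧
          (i + l + (j + k) = 0 ∨ i + l + (j + k) = 2) := by decide
    rintro _ _ ⟨i, j, hij, rfl | rfl⟩ ⟨k, l, hkl, rfl | rfl⟩
    · exact ⟨i + k, j + l, (key i j k l hij hkl).1, Or.inl (h.E_mul i j k l)⟩
    · exact ⟨i + k, j + l, (key i j k l hij hkl).1,
        Or.inr (by rw [← h.E_mul i j k l, mul_assoc])⟩
    · exact ⟨i + l, j + k, (key i j k l hij hkl).2,
        Or.inr (by rw [mul_assoc, h.tE, ← mul_assoc, h.E_mul])⟩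
    · refine ⟨i + l, j + k, (key i j k l hij hkl).2, Or.inl ?_⟩
      rw [mul_assoc, ← mul_assoc t, h.tE, mul_assoc, h.tt, mul_one, h.E_mul]
  inv_mem' := by
    have key : ∀ i j : ZMod 4, (i + j = 0 ∨ i + j = 2) →
        (-i + -j = 0 ∨ -i + -j = 2) ∧ (-j + -i = 0 ∨ -j + -i = 2) := by decide
    rintro _ ⟨i, j, hij, rfl | rfl⟩
    · exact ⟨-i, -j, (key i j hij).1, Or.inl (h.E_inv i j)⟩
    · refine ⟨-j, -i, (key i j hij).2, Or.inr ?_⟩
      rw [mul_inv_rev, h.ti, h.E_inv]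
      exact h.tE _ _

theorem D_le (h : Rel a b t) : D h ≤ P0 a b t := by
  rintro _ ⟨i, j, -, rfl | rfl⟩
  · exact A0_le_P0 (E_mem i j)
  · exact mul_mem (A0_le_P0 (E_mem i j)) t_mem_P0

/-- `z = a²b²` -/
abbrev zz (a b : X) : X := E a b 2 2

theorem zz_sq (h : Rel a b t) : zz a b * zz a b = 1 := by
  rw [h.E_mul]
  exact E_zero

theorem zz_comm (h : Rel a b t) {u : X} (hu : u ∈ P0 a b t) : zz a b * u = u * zz a b := by
  obtain ⟨k, l, rfl | rfl⟩ := h.mem_P0.mp hu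
  · exact h.E_comm _ _ _ _
  · rw [← mul_assoc, h.E_comm _ _ k l, mul_assoc, mul_assoc, h.tE]

/-- commutators of elements of `D` -/
theorem D_comm (h : Rel a b t) {g g' : X} (hg : g ∈ D h) (hg' : g' ∈ D h) :
    g * g' * g⁻¹ * g'⁻¹ = 1 ∨ g * g' * g⁻¹ * g'⁻¹ = zz a b := by
  have aux : ∀ i j : ZMod 4, (i + j = 0 ∨ i + j = 2) →
      (E a b (i - j) (j - i) = 1 ∨ E a b (i - j) (j - i) = zz a b) := by
    intro i j hij
    have key : ∀ i j : ZMod 4, (i + j = 0 ∨ i + j = 2) →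
      (i - j = 0 ∧ j - i = 0) ∨ (i - j = 2 ∧ j - i = 2) := by decide
    rcases key i j hij with ⟨h1, h2⟩ | ⟨h1, h2⟩
    · left; rw [h1, h2, E_zero]
    · right; rw [h1, h2]
  -- `[t, E]`
  have ct : ∀ i j : ZMod 4, E a b i j * t * (E a b i j)⁻¹ = E a b (i - j) (j - i) * t := by
    intro i j
    rw [h.E_inv, mul_assoc, h.tE, ← mul_assoc, h.E_mul, ← sub_eq_add_neg, ← sub_eq_add_neg]
  have ct' : ∀ i j : ZMod 4, t * E a b i j * t⁻¹ * (E a b i j)⁻¹ = E a b (j - i) (i - j) := by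
    intro i j
    rw [h.t_E, h.E_inv, h.E_mul, ← sub_eq_add_neg, ← sub_eq_add_neg]
  obtain ⟨i, j, hij, rfl | rfl⟩ := hg <;> obtain ⟨k, l, hkl, rfl | rfl⟩ := hg'
  · left
    rw [h.E_comm, mul_inv_cancel_right, mul_inv_cancel]
  · have h1 : E a b i j * (E a b k l * t) * (E a b i j)⁻¹ * (E a b k l * t)⁻¹ =
        E a b (i - j) (j - i) := by
      rw [← mul_assoc, h.E_comm i j k l, mul_assoc (E a b k l), mul_assoc (E a b k l), ct]
      calc E a b k l * (E a b (i - j) (j - i) * t) * (E a b k l * t)⁻¹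
          = E a b k l * E a b (i - j) (j - i) * (E a b k l)⁻¹ := by group
        _ = _ := by rw [h.E_comm, mul_inv_cancel_right]
    rw [h1]
    exact aux i j hij
  · have h1 : E a b i j * t * E a b k l * (E a b i j * t)⁻¹ * (E a b k l)⁻¹ =
        E a b (l - k) (k - l) := by
      rw [mul_inv_rev, ← ct' k l]
      have h2 : E a b i j * (t * E a b k l * t⁻¹) * (E a b i j)⁻¹ = t * E a b k l * t⁻¹ := by
        rw [h.t_E, h.E_comm, mul_inv_cancel_right]
      rw [← h2]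
      group
    rw [h1]
    refine aux l k ?_
    rwa [add_comm]
  · have h1 : E a b i j * t * (E a b k l * t) * (E a b i j * t)⁻¹ * (E a b k l * t)⁻¹ =
        E a b (i + l - j - k) (j + k - i - l) := by
      have h2 : E a b i j * t * (E a b k l * t) = E a b (i + l) (j + k) := by
        rw [mul_assoc, ← mul_assoc t, h.tE, mul_assoc, h.tt, mul_one, h.E_mul]
      have h3 : (E a b i j * t)⁻¹ * (E a b k l * t)⁻¹ = (E a b k l * t * (E a b i j * t))⁻¹ := by
        group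
      have h4 : E a b k l * t * (E a b i j * t) = E a b (k + j) (l + i) := by
        rw [mul_assoc, ← mul_assoc t, h.tE, mul_assoc, h.tt, mul_one, h.E_mul]
      rw [mul_assoc _ (E a b i j * t)⁻¹, h3, h2, h4, h.E_inv, h.E_mul]
      congr 1 <;> ring
    rw [h1]
    have key : ∀ i j k l : ZMod 4, (i + j = 0 ∨ i + j = 2) → (k + l = 0 ∨ k + l = 2) →
      (i + l - j - k = 0 ∧ j + k - i - l = 0) ∨ (i + l - j - k = 2 ∧ j + k - i - l = 2) := by decide
    rcases key i j k l hij hkl with ⟨h5, h6⟩ | ⟨h5, h6⟩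
    · left; rw [h5, h6, E_zero]
    · right; rw [h5, h6]

/-- squares of elements of `D` -/
theorem D_sq (h : Rel a b t) {g : X} (hg : g ∈ D h) : g * g = 1 ∨ g * g = zz a b := by
  obtain ⟨i, j, hij, rfl | rfl⟩ := hg
  · rw [h.E_mul]
    have key : ∀ i j : ZMod 4, (i + j = 0 ∨ i + j = 2) →
      (i + i = 0 ∧ j + j = 0) ∨ (i + i = 2 ∧ j + j = 2) := by decide
    rcases key i j hij with ⟨h5, h6⟩ | ⟨h5, h6⟩
    · left; rw [h5, h6, E_zero]
    · right; rw [h5, h6]
  · rw [h.Et_sq]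
    rcases hij with h5 | h5
    · left; rw [h5, E_zero]
    · right; rw [h5]

theorem card_D [Finite X] (h : Rel a b t) : 16 ≤ Nat.card (D h) := by
  let f : (Fin 8) × Bool → D h := fun p =>
    ⟨bif p.2 then E a b (![0, 1, 2, 3, 0, 2, 1, 3] p.1) (![0, 1, 2, 3, 2, 0, 3, 1] p.1) * t else
      E a b (![0, 1, 2, 3, 0, 2, 1, 3] p.1) (![0, 1, 2, 3, 2, 0, 3, 1] p.1), by
      have key : ∀ p : Fin 8,
          (![0, 1, 2, 3, 0, 2, 1, 3] p + ![0, 1, 2, 3, 2, 0, 3, 1] p : ZMod 4) = 0 ∨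
          (![0, 1, 2, 3, 0, 2, 1, 3] p + ![0, 1, 2, 3, 2, 0, 3, 1] p : ZMod 4) = 2 := by decide
      rcases p with ⟨i, _ | _⟩
      · exact ⟨_, _, key i, Or.inl rfl⟩
      · exact ⟨_, _, key i, Or.inr rfl⟩⟩
  have key : ∀ i j : Fin 8,
      ((![0, 1, 2, 3, 0, 2, 1, 3] i : ZMod 4) = ![0, 1, 2, 3, 0, 2, 1, 3] j ∧
      (![0, 1, 2, 3, 2, 0, 3, 1] i : ZMod 4) = ![0, 1, 2, 3, 2, 0, 3, 1] j) → i = j := by decide
  have hf : Function.Injective f := by
    rintro ⟨i, _ | _⟩ ⟨j, _ | _⟩ hpq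
    · have h1 := h.E_inj (congrArg Subtype.val hpq)
      rw [key i j h1]
    · exact absurd (congrArg Subtype.val hpq).symm (h.Et_ne _ _ _ _)
    · exact absurd (congrArg Subtype.val hpq) (h.Et_ne _ _ _ _)
    · have h1 := h.E_inj (mul_right_cancel (congrArg Subtype.val hpq))
      rw [key i j h1]
  have h1 := Nat.card_le_card_of_injective f hf
  have h2 : Nat.card (Fin 8 × Bool) = 16 := by simp
  omega

section main

variable [Finite X] (q : QHyp K T a b t ρ)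

include q

/-- `Y` centralises `D` modulo `⟨z⟩` -/
theorem Y_comm_D {y g : X} (hy : y ∈ Y T t ρ) (hg : g ∈ D q.wr.rel) :
    y * g * y⁻¹ * g⁻¹ = 1 ∨ y * g * y⁻¹ * g⁻¹ = zz a b := by
  have hr := q.wr.rel
  have hyt := (mem_Y.mp hy).2.1
  have hE : ∀ i j : ZMod 4, (i + j = 0 ∨ i + j = 2) →
      y * E a b i j * y⁻¹ * (E a b i j)⁻¹ = 1 ∨ y * E a b i j * y⁻¹ * (E a b i j)⁻¹ = zz a b := by
    intro i j hij
    rcases act_Y q hy with ⟨h1, h2⟩ | ⟨h1, h2⟩
    · left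
      rw [hr.conj_E (p := 1) (q := 0) (r := 0) (s := 1) (by rw [h1, E_one_zero])
        (by rw [h2, E_zero_one])]
      have e : E a b (i * 1 + j * 0) (i * 0 + j * 1) = E a b i j := by congr 1 <;> ring
      rw [e, mul_inv_cancel]
    · rw [hr.conj_E (p := -1) (q := 0) (r := 0) (s := -1)
        (by rw [h1, hr.E_neg_one_zero]) (by rw [h2, hr.E_zero_neg_one]), hr.E_inv, hr.E_mul]
      have key : ∀ i j : ZMod 4, (i + j = 0 ∨ i + j = 2) →
        (i * -1 + j * 0 + -i = 0 ∧ i * 0 + j * -1 + -j = 0) ∨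
        (i * -1 + j * 0 + -i = 2 ∧ i * 0 + j * -1 + -j = 2) := by decide
      rcases key i j hij with ⟨h5, h6⟩ | ⟨h5, h6⟩
      · left; rw [h5, h6, E_zero]
      · right; rw [h5, h6]
  obtain ⟨i, j, hij, rfl | rfl⟩ := hg
  · exact hE i j hij
  · have h1 : y * (E a b i j * t) * y⁻¹ * (E a b i j * t)⁻¹ =
        y * E a b i j * y⁻¹ * (E a b i j)⁻¹ := by
      have h2 : t * y⁻¹ = y⁻¹ * t := by
        rw [eq_inv_mul_iff_mul_eq, ← mul_assoc, hyt, mul_inv_cancel_right]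
      calc y * (E a b i j * t) * y⁻¹ * (E a b i j * t)⁻¹
          = y * E a b i j * (t * y⁻¹) * t⁻¹ * (E a b i j)⁻¹ := by group
        _ = _ := by rw [h2]; group
    rw [h1]
    exact hE i j hij

/-- `Y` is cyclic. -/
theorem isCyclic_Y (hX : SectionalPRankLE 2 4 X) : IsCyclic (Y T t ρ) := by
  by_contra hc
  have hr := q.wr.rel
  have hpY : IsPGroup 2 (Y T t ρ) := q.pT.to_le inf_le_left
  obtain ⟨N, hN1, hN2, hN3⟩ := exists_four hpY hc
  have hzP : zz a b ∈ P0 a b t := A0_le_P0 (E_mem _ _)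
  -- `z` is central in `T`
  have hzY : ∀ y ∈ Y T t ρ, zz a b * y = y * zz a b := by
    intro y hy
    have h1 : y * zz a b * y⁻¹ = zz a b := by
      rcases act_Y q hy with ⟨h1, h2⟩ | ⟨h1, h2⟩
      · rw [hr.conj_E (p := 1) (q := 0) (r := 0) (s := 1) (by rw [h1, E_one_zero])
          (by rw [h2, E_zero_one])]
        rfl
      · rw [hr.conj_E (p := -1) (q := 0) (r := 0) (s := -1)
          (by rw [h1, hr.E_neg_one_zero]) (by rw [h2, hr.E_zero_neg_one])]
        rfl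
    exact (mul_inv_eq_iff_eq_mul.mp h1).symm
  have hDY : ∀ y ∈ Y T t ρ, ∀ g ∈ D hr, y * g * y⁻¹ ∈ D hr := by
    intro y hy g hg
    have hz : zz a b ∈ D hr := ⟨2, 2, Or.inl (by decide), Or.inl rfl⟩
    rcases Y_comm_D q hy hg with h1 | h1
    · rw [mul_inv_eq_one.mp h1]
      exact hg
    · rw [mul_inv_eq_iff_eq_mul.mp h1]
      exact (D hr).mul_mem hz hg
  -- the big group
  let B : Subgroup X :=
    { carrier := {g | ∃ d ∈ D hr, ∃ y ∈ Y T t ρ, g = d * y}
      one_mem' := ⟨1, one_mem _, 1, one_mem _, by rw [mul_one]⟩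
      mul_mem' := by
        rintro _ _ ⟨d, hd, y, hy, rfl⟩ ⟨d', hd', y', hy', rfl⟩
        exact ⟨d * (y * d' * y⁻¹), mul_mem hd (hDY y hy d' hd'), y * y', mul_mem hy hy', by group⟩
      inv_mem' := by
        rintro _ ⟨d, hd, y, hy, rfl⟩
        refine ⟨y⁻¹ * d⁻¹ * y⁻¹⁻¹, hDY _ (inv_mem hy) _ (inv_mem hd), y⁻¹, inv_mem hy, by group⟩ }
  let S : Subgroup X :=
    { carrier := {g | ∃ c, (c = 1 ∨ c = zz a b) ∧ ∃ n : N, g = c * ((n : Y T t ρ) : X)}
      one_mem' := ⟨1, Or.inl rfl, 1, by simp⟩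
      mul_mem' := by
        rintro _ _ ⟨c, hc, n, rfl⟩ ⟨c', hc', n', rfl⟩
        have h1 : ((n : Y T t ρ) : X) * c' = c' * ((n : Y T t ρ) : X) := by
          rcases hc' with rfl | rfl
          · rw [mul_one, one_mul]
          · exact (hzY _ (n : Y T t ρ).2).symm
        refine ⟨c * c', ?_, n * n', ?_⟩
        · rcases hc with rfl | rfl <;> rcases hc' with rfl | rfl
          · left; rw [mul_one]
          · right; rw [one_mul]
          · right; rw [mul_one]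
          · left; exact zz_sq hr
        · push_cast
          calc c * ((n : Y T t ρ) : X) * (c' * ((n' : Y T t ρ) : X))
              = c * (((n : Y T t ρ) : X) * c') * ((n' : Y T t ρ) : X) := by group
            _ = _ := by rw [h1]; group
      inv_mem' := by
        rintro _ ⟨c, hc, n, rfl⟩
        have h1 : ((n : Y T t ρ) : X)⁻¹ * c⁻¹ = c⁻¹ * ((n : Y T t ρ) : X)⁻¹ := by
          rcases hc with rfl | rfl
          · rw [inv_one, mul_one, one_mul]
          · rw [← mul_inv_rev, ← mul_inv_rev, hzY _ (n : Y T t ρ).2]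
        refine ⟨c⁻¹, ?_, n⁻¹, ?_⟩
        · rcases hc with rfl | rfl
          · left; exact inv_one
          · right; exact inv_eq_of_mul_eq_one_right (zz_sq hr)
        · rw [mul_inv_rev, h1]
          rfl }
  have hSZ : ∀ c, (c = 1 ∨ c = zz a b) → c ∈ S := fun c hc => ⟨c, hc, 1, by simp⟩
  have hSN : ∀ n : N, ((n : Y T t ρ) : X) ∈ S := fun n => ⟨1, Or.inl rfl, n, by rw [one_mul]⟩
  have hYD : ∀ y ∈ Y T t ρ, ∀ g ∈ D hr, ∃ c ∈ S, (c = 1 ∨ c = zz a b) ∧ y * g = c * g * y := by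
    intro y hy g hg
    refine ⟨y * g * y⁻¹ * g⁻¹, hSZ _ (Y_comm_D q hy hg), Y_comm_D q hy hg, by group⟩
  have hnorm : ∀ n : N, ∀ g ∈ D hr, g * ((n : Y T t ρ) : X)⁻¹ * g⁻¹ ∈ S := by
    intro n g hg
    obtain ⟨c, hc, -, h1⟩ := hYD _ (n : Y T t ρ).2 g hg
    have hcc : c = ((n : Y T t ρ) : X) * g * ((n : Y T t ρ) : X)⁻¹ * g⁻¹ := by
      rw [h1]
      group
    have h2 : g * ((n : Y T t ρ) : X)⁻¹ * g⁻¹ = ((n : Y T t ρ) : X)⁻¹ * c := by
      rw [hcc]
      group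
    rw [h2]
    exact mul_mem (inv_mem (hSN n)) hc
  -- commutation modulo `S`
  have hcomm : ∀ g ∈ B, ∀ g' ∈ B, g * g' * g⁻¹ * g'⁻¹ ∈ S := by
    rintro _ ⟨d, hd, y, hy, rfl⟩ _ ⟨d', hd', y', hy', rfl⟩
    obtain ⟨c1, hc1, hz1, e1⟩ := hYD y hy d' hd'
    obtain ⟨c2, hc2, hz2, e2⟩ := hYD y' hy' d hd
    have h3 := D_comm hr hd' hd
    set c3 := d' * d * d'⁻¹ * d⁻¹ with hc3
    have hc3' : c3 ∈ S := hSZ _ h3
    have e3 : d' * d = c3 * (d * d') := by rw [hc3]; group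
    have hzD : ∀ c, (c = 1 ∨ c = zz a b) → ∀ g ∈ D hr, c * g = g * c := by
      rintro c (rfl | rfl) g hg
      · rw [one_mul, mul_one]
      · exact zz_comm hr (D_le hr hg)
    let n : N := ⟨_, hN1 ⟨y', hy'⟩ ⟨y, hy⟩⟩
    have e4 : y' * y = ((n : Y T t ρ) : X) * (y * y') := by
      change y' * y = y' * y * y'⁻¹ * y⁻¹ * (y * y')
      group
    have e5 : d * y * (d' * y') = c1 * (d * d') * (y * y') := by
      calc d * y * (d' * y') = d * (y * d') * y' := by group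
        _ = (d * c1) * d' * y * y' := by rw [e1]; group
        _ = _ := by rw [← hzD c1 hz1 d hd]; group
    have e6 : d' * y' * (d * y) = c2 * c3 * (d * d') * ((n : Y T t ρ) : X) * (y * y') := by
      calc d' * y' * (d * y) = d' * (y' * d) * y := by group
        _ = (d' * c2) * d * (y' * y) := by rw [e2]; group
        _ = c2 * (d' * d) * (y' * y) := by rw [← hzD c2 hz2 d' hd']; group
        _ = _ := by rw [e3, e4]; group
    have e7 : d * y * (d' * y') * (d * y)⁻¹ * (d' * y')⁻¹ =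
        c1 * (d * d' * ((n : Y T t ρ) : X)⁻¹ * (d * d')⁻¹) * c3⁻¹ * c2⁻¹ := by
      calc d * y * (d' * y') * (d * y)⁻¹ * (d' * y')⁻¹
          = (d * y * (d' * y')) * (d' * y' * (d * y))⁻¹ := by group
        _ = _ := by rw [e5, e6]; group
    rw [e7]
    exact mul_mem (mul_mem (mul_mem hc1 (hnorm n _ (mul_mem hd hd'))) (inv_mem hc3')) (inv_mem hc2)
  have hsec : ElemSection 2 B S := by
    refine ⟨?_, hcomm, ?_⟩
    · rintro _ ⟨c, hc, n, rfl⟩
      refine ⟨c, ?_, _, (n : Y T t ρ).2, rfl⟩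
      rcases hc with rfl | rfl
      · exact one_mem _
      · exact ⟨2, 2, Or.inl (by decide), Or.inl rfl⟩
    · rintro _ ⟨d, hd, y, hy, rfl⟩
      obtain ⟨c1, hc1, hz1, e1⟩ := hYD y hy d hd
      have h1 : (d * y) ^ 2 = (d * c1 * d⁻¹) * (d * d) * (y * y) := by
        calc (d * y) ^ 2 = d * (y * d) * y := by rw [pow_two]; group
          _ = _ := by rw [e1]; group
      have h2 : d * c1 * d⁻¹ = c1 := by
        rcases hz1 with rfl | rfl
        · group
        · rw [← zz_comm hr (D_le hr hd), mul_inv_cancel_right]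
      rw [h1, h2]
      refine mul_mem (mul_mem hc1 (hSZ _ (D_sq hr hd))) ?_
      have h3 := hSN ⟨_, hN2 ⟨y, hy⟩⟩
      have h4 : ((((⟨_, hN2 ⟨y, hy⟩⟩ : N) : Y T t ρ) : X)) = y * y := by
        change y ^ 2 = y * y
        exact pow_two y
      rwa [h4] at h3
  rw [sectionalPRankLE_iff] at hX
  have hcard := hX B S hsec
  have hB : Nat.card (D hr) * Nat.card (Y T t ρ) ≤ Nat.card B := by
    rw [← Nat.card_prod]
    refine Nat.card_le_card_of_injective
      (fun p : D hr × Y T t ρ => (⟨p.1 * p.2, p.1, p.1.2, p.2, p.2.2, rfl⟩ : B)) ?_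
    rintro ⟨d, y⟩ ⟨d', y'⟩ h
    have h1 : (d : X) * y = d' * y' := congrArg Subtype.val h
    have h2 : (d' : X)⁻¹ * d = y' * (y : X)⁻¹ := by
      rw [eq_mul_inv_iff_mul_eq, mul_assoc, h1]
      group
    have h3 : (d' : X)⁻¹ * d = 1 := by
      refine inf_Y q (D_le hr (mul_mem (inv_mem d'.2) d.2)) ?_
      rw [h2]
      exact mul_mem y'.2 (inv_mem y.2)
    have h4 : (y' : X) * (y : X)⁻¹ = 1 := by rw [← h2, h3]
    have h5 : d' = d := Subtype.ext (inv_mul_eq_one.mp h3)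
    have h6 : y' = y := Subtype.ext (mul_inv_eq_one.mp h4)
    rw [h5, h6]
  have hS : Nat.card S ≤ 2 * Nat.card N := by
    have h1 : Nat.card S ≤ Nat.card (Bool × N) := by
      refine Nat.card_le_card_of_surjective (fun p : Bool × N =>
        (⟨bif p.1 then ((p.2 : Y T t ρ) : X) else zz a b * ((p.2 : Y T t ρ) : X), ?_⟩ : S)) ?_
      · rcases p with ⟨_ | _, n⟩
        · exact mul_mem (hSZ _ (Or.inr rfl)) (hSN n)
        · exact hSN n
      · rintro ⟨_, c, hc, n, rfl⟩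
        rcases hc with rfl | rfl
        · exact ⟨(true, n), Subtype.ext (one_mul _).symm⟩
        · exact ⟨(false, n), rfl⟩
    have h2 : Nat.card Bool = 2 := by simp
    rwa [Nat.card_prod, h2] at h1
  have h16 := card_D (X := X) hr
  have hpos : 0 < Nat.card N := Nat.card_pos
  have h1 : 16 * Nat.card (Y T t ρ) ≤ Nat.card B := (Nat.mul_le_mul_right _ h16).trans hB
  have h2 : 2 ^ 4 * Nat.card S ≤ 2 ^ 4 * (2 * Nat.card N) := Nat.mul_le_mul_left _ hS
  omega

end main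

end Cfsg.Agent.GH.WRank
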