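import Mathlib
import Cfsg.Agent.GH.WRank
import Cfsg.Agent.GH.WLift

/-!
# From the configuration in `C(x) / O(C(x))` to the frame in `C(x)`
-/

set_option autoImplicit false

namespace Cfsg.Agent.GH.WFrame

open Subgroup Cfsg.Agent.GH.WDefs Cfsg.Agent.GH.WNorm Cfsg.Agent.GH.WQuot Cfsg.Agent.GH.WRank
open Cfsg.Agent.GH.WLift

/-! ### the quotient -/

section quot

variable {X : Type*} [Group X] {K T : Subgroup X} {a b t ρ : X}

theorem E_two : E a b 2 2 = a ^ 2 * b ^ 2 := rfl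

/-- All involutions of `P₀` are conjugate. -/
theorem fusX (h : WrIn K a b t ρ) {u : X} (hu : u ∈ P0 a b t) (huu : u * u = 1) (hu1 : u ≠ 1) :
    ∃ k : X, k * u * k⁻¹ = a ^ 2 * b ^ 2 := by
  have hr := h.rel
  rw [← E_two]
  obtain ⟨i, j, rfl | rfl⟩ := hr.mem_P0.mp hu
  · rw [hr.E_mul] at huu
    have h1 := hr.E_inj (huu.trans E_zero.symm)
    have h2 : ¬ (i = 0 ∧ j = 0) := by
      rintro ⟨rfl, rfl⟩
      exact hu1 E_zero
    have key : ∀ i j : ZMod 4, (i + i = 0 ∧ j + j = 0) → ¬ (i = 0 ∧ j = 0) →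
        (i = 2 ∧ j = 0) ∨ (i = 0 ∧ j = 2) ∨ (i = 2 ∧ j = 2) := by decide
    rcases key i j h1 h2 with ⟨rfl, rfl⟩ | ⟨rfl, rfl⟩ | ⟨rfl, rfl⟩
    · refine ⟨ρ * ρ, ?_⟩
      have e : ρ * ρ * E a b 2 0 * (ρ * ρ)⁻¹ = ρ * (ρ * E a b 2 0 * ρ⁻¹) * ρ⁻¹ := by group
      rw [e, ρ_E h, ρ_E h]
      rfl
    · refine ⟨ρ, ?_⟩
      rw [ρ_E h]
      rfl
    · exact ⟨1, by group⟩
  · rw [hr.Et_sq] at huu
    have h1 := (hr.E_inj (huu.trans E_zero.symm)).1
    obtain ⟨k, -, hk⟩ := h.fus
    refine ⟨k * (E a b i 0)⁻¹, ?_⟩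
    have h2 : E a b i j * t = E a b i 0 * t * (E a b i 0)⁻¹ := by
      rw [hr.E_inv, mul_assoc, hr.tE, ← mul_assoc, hr.E_mul]
      congr 2
      · ring
      · rw [zero_add]
        exact eq_neg_of_add_eq_zero_right h1
    rw [h2]
    have e : k * (E a b i 0)⁻¹ * (E a b i 0 * t * (E a b i 0)⁻¹) * (k * (E a b i 0)⁻¹)⁻¹ =
        k * t * k⁻¹ := by group
    rw [e, hk]
    rfl

/-- The generator `τ`. -/
theorem exists_τ [Finite X] (q : QHyp K T a b t ρ) (hX : SectionalPRankLE 2 4 X) :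
    ∃ τ ∈ Y T t ρ, (∀ y ∈ Y T t ρ, ∃ n : ℕ, y = τ ^ n) ∧
      (∀ g : X, g ∈ T → ∃ p ∈ P0 a b t, ∃ n : ℕ, g = p * τ ^ n) ∧
      (∀ n : ℕ, τ ^ n ∈ P0 a b t → τ ^ n = 1) := by
  obtain ⟨⟨τ, hτ⟩, hgen⟩ := isCyclic_Y q hX
  have h1 : ∀ y ∈ Y T t ρ, ∃ n : ℕ, y = τ ^ n := by
    intro y hy
    have h2 := mem_powers_iff_mem_zpowers.mpr (hgen ⟨y, hy⟩)
    obtain ⟨n, hn⟩ := h2
    exact ⟨n, (congrArg Subtype.val hn).symm⟩
  refine ⟨τ, hτ, h1, ?_, ?_⟩
  · intro g hg
    obtain ⟨p, hp, y, hy, rfl⟩ := decomp q hg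
    obtain ⟨n, rfl⟩ := h1 y hy
    exact ⟨p, hp, n, rfl⟩
  · intro n hn
    exact inf_Y q hn (pow_mem hτ n)

end quot

/-! ### lifting -/

theorem frame_of_quot {C : Type*} [Group C] [Finite C] {N : Subgroup C} [N.Normal]
    (hN : Odd (Nat.card N)) {x : C} (hx1 : x ≠ 1) (hxx : x * x = 1) (hxc : ∀ g : C, g * x = x * g)
    {K' T' : Subgroup (C ⧸ N)} {a' b' t' ρ' : C ⧸ N} (q : QHyp K' T' a' b' t' ρ')
    (hsyl : ∀ Q : Subgroup (C ⧸ N), IsPGroup 2 Q → Nat.card Q ≤ Nat.card T')
    (hC : SectionalPRankLE 2 4 C) :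
    ∃ (T : Subgroup C) (a b t τ ρ : C), Frame x T a b t τ ρ := by
  let mk := QuotientGroup.mk' N
  have w := q.wr
  obtain ⟨τ', hτ', hY, hdec, htriv⟩ := exists_τ q (Rank.of_quotient hC N)
  obtain ⟨T, hT, hTm⟩ := exists_lift hN q.pT
  have inj : ∀ {y z : C}, y ∈ T → z ∈ T → mk y = mk z → y = z := fun hy hz h =>
    injOn hN hT hy hz h
  have lift : ∀ y' ∈ T', ∃ y ∈ T, mk y = y' := by
    intro y' hy'
    rw [← hTm] at hy'
    obtain ⟨y, hy, h⟩ := hy'
    exact ⟨y, hy, h⟩
  have hsylC : ∀ Q : Subgroup C, IsPGroup 2 Q → Nat.card Q ≤ Nat.card T := by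
    intro Q hQ
    rw [← card_map hN hQ, ← card_map hN hT, hTm]
    exact hsyl _ (hQ.map _)
  obtain ⟨a, haT, ha⟩ := lift a' q.aT
  obtain ⟨t, htT, ht⟩ := lift t' q.tT
  obtain ⟨τ, hτT, hτ⟩ := lift τ' (mem_Y.mp hτ').1
  have hbT' : b' ∈ T' := by
    rw [← w.ta]
    exact mul_mem (mul_mem q.tT q.aT) (inv_mem q.tT)
  obtain ⟨b, hbT, hb⟩ := lift b' hbT'
  -- the centre
  have hxT : x ∈ T := by
    have hz : (zpowers x).Normal := by
      constructor
      rintro _ ⟨n, rfl⟩ g
      have h1 : g * x ^ n * g⁻¹ = x ^ n := by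
        have h2 : Commute g (x ^ n) := (show Commute g x from hxc g).zpow_right n
        rw [h2.eq, mul_inv_cancel_right]
      change g * x ^ n * g⁻¹ ∈ zpowers x
      rw [h1]
      exact zpow_mem (mem_zpowers x) n
    have hz2 : IsPGroup 2 (zpowers x) := by
      rintro ⟨_, n, rfl⟩
      refine ⟨1, Subtype.ext ?_⟩
      change (x ^ n) ^ 2 ^ 1 = 1
      rw [pow_one, ← zpow_natCast, ← zpow_mul, mul_comm, zpow_mul]
      have h3 : x ^ ((2 : ℕ) : ℤ) = 1 := by rw [zpow_natCast, pow_two, hxx]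
      rw [h3, one_zpow]
    have h1 : IsPGroup 2 (T ⊔ zpowers x : Subgroup C) := hT.to_sup_of_normal_right hz2
    have h2 : T = T ⊔ zpowers x := eq_of_le_of_card_ge le_sup_left (hsylC _ h1)
    rw [h2]
    exact mem_sup_right (mem_zpowers x)
  -- the relations
  have e_ab : a * b = b * a := inj (mul_mem haT hbT) (mul_mem hbT haT) (by
    rw [map_mul, map_mul, ha, hb, w.ab])
  have e_a4 : a ^ 4 = 1 := inj (pow_mem haT 4) (one_mem _) (by rw [map_pow, ha, w.a4, map_one])
  have e_tt : t * t = 1 := inj (mul_mem htT htT) (one_mem _) (by rw [map_mul, ht, w.tt, map_one])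
  have e_ta : t * a * t⁻¹ = b := inj (mul_mem (mul_mem htT haT) (inv_mem htT)) hbT (by
    rw [map_mul, map_mul, map_inv, ht, ha, hb, w.ta])
  have e_indep : ∀ i j : ℕ, a ^ i * b ^ j = 1 → 4 ∣ i ∧ 4 ∣ j := by
    intro i j hij
    apply w.indep
    rw [← ha, ← hb, ← map_pow, ← map_pow, ← map_mul, hij, map_one]
  have hr : Rel a b t := ⟨e_a4, e_ab, e_indep, e_tt, e_ta⟩
  have e_τt : τ * t = t * τ := inj (mul_mem hτT htT) (mul_mem htT hτT) (by
    rw [map_mul, map_mul, hτ, ht, (mem_Y.mp hτ').2.1])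
  have hP : (P0 a b t).map mk = P0 a' b' t' := by
    unfold P0
    rw [MonoidHom.map_closure, Set.image_insert_eq, Set.image_insert_eq, Set.image_singleton, ha,
      hb, ht]
  have hPT : P0 a b t ≤ T := by
    unfold P0
    rw [closure_le]
    rintro y (rfl | rfl | rfl)
    · exact haT
    · exact hbT
    · exact htT
  -- the element `ρ`
  let U : Subgroup C := closure {a, b, τ}
  have hUT : U ≤ T := by
    rw [closure_le]
    rintro y (rfl | rfl | rfl)
    · exact haT
    · exact hbT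
    · exact hτT
  have hU2 : IsPGroup 2 U := hT.to_le hUT
  have haU : a ∈ U := subset_closure (by simp)
  have hbU : b ∈ U := subset_closure (by simp)
  have hτU : τ ∈ U := subset_closure (by simp)
  have hUS : U ≤ ((U.map mk).comap ((MulAut.conj ρ').toMonoidHom.comp mk)) := by
    rw [closure_le]
    rintro y (rfl | rfl | rfl)
    · refine ⟨b, hbU, ?_⟩
      change mk b = ρ' * mk y * ρ'⁻¹
      rw [ha, hb, w.ρa]
    · refine ⟨(a * y)⁻¹, inv_mem (mul_mem haU hbU), ?_⟩
      change mk (a * y)⁻¹ = ρ' * mk y * ρ'⁻¹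
      rw [map_inv, map_mul, ha, hb, w.ρb]
    · refine ⟨y, hτU, ?_⟩
      change mk y = ρ' * mk y * ρ'⁻¹
      rw [hτ, ← (mem_Y.mp hτ').2.2, mul_inv_cancel_right]
  obtain ⟨ρ, hρ, hρU⟩ := exists_normalizer_lift hN hU2 (q := ρ') (by
    intro u hu
    obtain ⟨v, hv, h1⟩ := hUS hu
    exact ⟨v, hv, h1.symm⟩)
  have hρ' : mk ρ = ρ' := hρ
  have e_ρa : ρ * a * ρ⁻¹ = b := inj (hUT (hρU a haU)) hbT (by
    rw [map_mul, map_mul, map_inv, hρ', ha, hb, w.ρa])
  have e_ρb : ρ * b * ρ⁻¹ = (a * b)⁻¹ := inj (hUT (hρU b hbU)) (inv_mem (mul_mem haT hbT)) (by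
    rw [map_mul, map_mul, map_inv, map_inv, map_mul, hρ', ha, hb, w.ρb])
  have e_ρτ : ρ * τ = τ * ρ := by
    have h1 : ρ * τ * ρ⁻¹ = τ := inj (hUT (hρU τ hτU)) hτT (by
      rw [map_mul, map_mul, map_inv, hρ', hτ, ← (mem_Y.mp hτ').2.2, mul_inv_cancel_right])
    exact mul_inv_eq_iff_eq_mul.mp h1
  refine ⟨T, a, b, t, τ, ρ, ?_⟩
  exact
    { x1 := hx1
      xx := hxx
      pT := hT
      Tx := fun g _ => hxc g
      syl := fun Q hQ _ => hsylC Q hQ
      a4 := e_a4
      ab := e_ab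
      indep := e_indep
      tt := e_tt
      ta := e_ta
      tA := hr.t_not_mem
      τt := e_τt
      τa := by
        rcases act_Y q hτ' with ⟨h1, h2⟩ | ⟨h1, h2⟩
        · left
          exact ⟨inj (mul_mem (mul_mem hτT haT) (inv_mem hτT)) haT (by
              rw [map_mul, map_mul, map_inv, hτ, ha, h1]),
            inj (mul_mem (mul_mem hτT hbT) (inv_mem hτT)) hbT (by
              rw [map_mul, map_mul, map_inv, hτ, hb, h2])⟩
        · right
          exact ⟨inj (mul_mem (mul_mem hτT haT) (inv_mem hτT)) (inv_mem haT) (by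
              rw [map_mul, map_mul, map_inv, map_inv, hτ, ha, h1]),
            inj (mul_mem (mul_mem hτT hbT) (inv_mem hτT)) (inv_mem hbT) (by
              rw [map_mul, map_mul, map_inv, map_inv, hτ, hb, h2])⟩
      memT := by
        intro g
        constructor
        · intro hg
          obtain ⟨p', hp', n, h1⟩ := hdec (mk g) (by rw [← hTm]; exact ⟨g, hg, rfl⟩)
          rw [← hP] at hp'
          obtain ⟨p, hp, rfl⟩ := hp'
          refine ⟨p, hp, n, ?_⟩
          exact inj hg (mul_mem (hPT hp) (pow_mem hτT n)) (by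
            rw [h1, map_mul, map_pow, hτ])
        · rintro ⟨p, hp, n, rfl⟩
          exact mul_mem (hPT hp) (pow_mem hτT n)
      triv := by
        intro n hn
        have h1 : mk (τ ^ n) ∈ P0 a' b' t' := by
          rw [← hP]
          exact ⟨_, hn, rfl⟩
        rw [map_pow, hτ] at h1
        have h2 := htriv n h1
        exact inj (pow_mem hτT n) (one_mem _) (by rw [map_pow, hτ, h2, map_one])
      xτ := by
        have h1 : mk x ∈ Y T' t' ρ' := by
          rw [mem_Y]
          have h2 : ∀ y : C ⧸ N, mk x * y = y * mk x := by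
            intro y
            obtain ⟨y, rfl⟩ := QuotientGroup.mk'_surjective N y
            change mk x * mk y = mk y * mk x
            rw [← map_mul, ← map_mul, hxc]
          refine ⟨?_, h2 _, h2 _⟩
          rw [← hTm]
          exact ⟨x, hxT, rfl⟩
        obtain ⟨n, hn⟩ := hY _ h1
        exact ⟨n, inj hxT (pow_mem hτT n) (by rw [hn, map_pow, hτ])⟩
      ρx := hxc ρ
      ρτ := e_ρτ
      ρa := e_ρa
      ρb := e_ρb
      fus := by
        intro u hu huu hu1
        have h1 : mk u ∈ P0 a' b' t' := by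
          rw [← hP]
          exact ⟨_, hu, rfl⟩
        have h2 : mk u * mk u = 1 := by rw [← map_mul, huu, map_one]
        have h3 : mk u ≠ 1 := by
          intro h
          exact hu1 (inj (hPT hu) (one_mem _) (by rw [h, map_one]))
        obtain ⟨k', hk'⟩ := fusX w h1 h2 h3
        obtain ⟨k, rfl⟩ := QuotientGroup.mk'_surjective N k'
        have h4 : (a ^ 2 * b ^ 2) * (a ^ 2 * b ^ 2) = 1 := by
          have := zz_sq hr
          exact this
        have h5 : (k * u * k⁻¹) * (k * u * k⁻¹) = 1 := by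
          calc (k * u * k⁻¹) * (k * u * k⁻¹) = k * (u * u) * k⁻¹ := by group
            _ = 1 := by rw [huu]; group
        obtain ⟨o, ho, h6⟩ := Intrinsic.OddQuot.conj_of_mk_eq hN h5 h4 (by
          change mk (k * u * k⁻¹) = mk (a ^ 2 * b ^ 2)
          rw [map_mul, map_mul, map_inv, map_mul, map_pow, map_pow, ha, hb]
          exact hk')
        refine ⟨o * k, hxc _, ?_⟩
        rw [← h6]
        group }

/-- From the centralizer to the group. -/
theorem frame_of_centralizer {G : Type*} [Group G] {x : G} {H : Subgroup G}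
    (hH : ∀ g : G, g ∈ H ↔ g * x = x * g) {T : Subgroup H} {x' a b t τ ρ : H}
    (hx : (x' : G) = x) (f : Frame x' T a b t τ ρ) :
    Frame x (T.map H.subtype) (a : G) b t τ ρ := by
  have hxc : ∀ g : H, (g : G) * x = x * g := fun g => (hH g).mp g.2
  have hP : (P0 a b t).map H.subtype = P0 (a : G) b t := by
    unfold P0
    rw [MonoidHom.map_closure, Set.image_insert_eq, Set.image_insert_eq, Set.image_singleton]
    rfl
  have hA : (A0 a b).map H.subtype = A0 (a : G) b := by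
    unfold A0
    rw [MonoidHom.map_closure, Set.image_insert_eq, Set.image_singleton]
    rfl
  have mP : ∀ g : H, (g : G) ∈ P0 (a : G) b t ↔ g ∈ P0 a b t := by
    intro g
    rw [← hP]
    constructor
    · rintro ⟨y, hy, h⟩
      rwa [← Subtype.ext (show (y : G) = g from h)]
    · intro hg
      exact ⟨g, hg, rfl⟩
  have mA : ∀ g : H, (g : G) ∈ A0 (a : G) b ↔ g ∈ A0 a b := by
    intro g
    rw [← hA]
    constructor
    · rintro ⟨y, hy, h⟩
      rwa [← Subtype.ext (show (y : G) = g from h)]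
    · intro hg
      exact ⟨g, hg, rfl⟩
  have cv : ∀ {g g' : H}, g = g' → (g : G) = g' := fun h => congrArg Subtype.val h
  exact
    { x1 := by
        intro h
        exact f.x1 (Subtype.ext (hx.trans h))
      xx := by
        rw [← hx]
        exact cv f.xx
      pT := f.pT.map _
      Tx := by
        rintro _ ⟨g, -, rfl⟩
        exact hxc g
      syl := by
        intro Q hQ hQx
        have hle : Q ≤ H := fun g hg => (hH g).mpr (hQx g hg)
        have h1 : Nat.card (Q.subgroupOf H) = Nat.card Q :=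
          Nat.card_congr (subgroupOfEquivOfLe hle).toEquiv
        have h2 : Nat.card (T.map H.subtype) = Nat.card T :=
          Nat.card_congr (T.equivMapOfInjective H.subtype H.subtype_injective).symm.toEquiv
        rw [← h1, h2]
        refine f.syl _ (hQ.comap_subtype) ?_
        intro g _
        apply Subtype.ext
        change (g : G) * x' = x' * g
        rw [hx]
        exact hxc g
      a4 := cv f.a4
      ab := cv f.ab
      indep := fun i j hij => f.indep i j (Subtype.ext hij)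
      tt := cv f.tt
      ta := cv f.ta
      tA := fun h => f.tA ((mA t).mp h)
      τt := cv f.τt
      τa := by
        rcases f.τa with ⟨h1, h2⟩ | ⟨h1, h2⟩
        · exact Or.inl ⟨cv h1, cv h2⟩
        · exact Or.inr ⟨cv h1, cv h2⟩
      memT := by
        intro g
        constructor
        · rintro ⟨g, hg, rfl⟩
          obtain ⟨p, hp, n, rfl⟩ := (f.memT g).mp hg
          exact ⟨p, (mP p).mpr hp, n, rfl⟩
        · rintro ⟨p, hp, n, rfl⟩
          rw [← hP] at hp
          obtain ⟨p, hp, rfl⟩ := hp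
          exact ⟨p * τ ^ n, (f.memT _).mpr ⟨p, hp, n, rfl⟩, rfl⟩
      triv := by
        intro n hn
        exact cv (f.triv n ((mP (τ ^ n)).mp hn))
      xτ := by
        obtain ⟨n, hn⟩ := f.xτ
        exact ⟨n, by rw [← hx]; exact cv hn⟩
      ρx := hxc ρ
      ρτ := cv f.ρτ
      ρa := cv f.ρa
      ρb := cv f.ρb
      fus := by
        intro u hu huu hu1
        rw [← hP] at hu
        obtain ⟨u, hu, rfl⟩ := hu
        obtain ⟨k, -, hk⟩ := f.fus u hu (Subtype.ext huu) (fun h => hu1 (cv h))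
        exact ⟨k, hxc k, cv hk⟩ }

end Cfsg.Agent.GH.WFrame
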