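import Mathlib
import Cfsg.Agent.Classification.RTwo.UThreeThree
import Cfsg.Agent.S0278
import Cfsg.Agent.GH.WDefs

/-!
# The data `WrIn` in `SU₃(3)`
-/

set_option autoImplicit false

namespace Cfsg.Agent.GH.WModel

open Subgroup Cfsg.Agent.GH.WDefs
open Cfsg.Agent.Classification.RTwo.UThreeThree

/-- `diag(-1, i, i)` -/
def mA : Matrix (Fin 3) (Fin 3) K9 := !![⟨2, 0⟩, ⟨0, 0⟩, ⟨0, 0⟩; ⟨0, 0⟩, ⟨0, 1⟩, ⟨0, 0⟩; ⟨0, 0⟩, ⟨0, 0⟩, ⟨0, 1⟩]
/-- `diag(i, -1, i)` -/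
def mB : Matrix (Fin 3) (Fin 3) K9 := !![⟨0, 1⟩, ⟨0, 0⟩, ⟨0, 0⟩; ⟨0, 0⟩, ⟨2, 0⟩, ⟨0, 0⟩; ⟨0, 0⟩, ⟨0, 0⟩, ⟨0, 1⟩]
/-- minus the transposition -/
def mT : Matrix (Fin 3) (Fin 3) K9 := !![⟨0, 0⟩, ⟨2, 0⟩, ⟨0, 0⟩; ⟨2, 0⟩, ⟨0, 0⟩, ⟨0, 0⟩; ⟨0, 0⟩, ⟨0, 0⟩, ⟨2, 0⟩]
/-- the cyclic shift -/
def mR : Matrix (Fin 3) (Fin 3) K9 := !![⟨0, 0⟩, ⟨0, 0⟩, ⟨1, 0⟩; ⟨1, 0⟩, ⟨0, 0⟩, ⟨0, 0⟩; ⟨0, 0⟩, ⟨1, 0⟩, ⟨0, 0⟩]
/-- an element conjugating `t` to `z` -/
def mK : Matrix (Fin 3) (Fin 3) K9 := !![⟨1, 1⟩, ⟨1, 1⟩, ⟨0, 0⟩; ⟨0, 0⟩, ⟨0, 0⟩, ⟨0, 2⟩; ⟨1, 1⟩, ⟨2, 2⟩, ⟨0, 0⟩]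

theorem gA : IsGood mA := by decide +kernel
theorem gB : IsGood mB := by decide +kernel
theorem gT : IsGood mT := by decide +kernel
theorem gR : IsGood mR := by decide +kernel
theorem gK : IsGood mK := by decide +kernel

/-- `a` -/
def a : Cfsg.SU 3 K9 3 := gA.su
/-- `b` -/
def b : Cfsg.SU 3 K9 3 := gB.su
/-- `t` -/
def t : Cfsg.SU 3 K9 3 := gT.su
/-- `ρ` -/
def ρ : Cfsg.SU 3 K9 3 := gR.su
/-- `k` -/
def k : Cfsg.SU 3 K9 3 := gK.su

theorem a4 : a ^ 4 = 1 := by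
  apply su_ext
  change mA ^ 4 = 1
  decide +kernel

theorem ab : a * b = b * a := by
  apply su_ext
  change mA * mB = mB * mA
  decide +kernel

theorem tt : t * t = 1 := by
  apply su_ext
  change mT * mT = 1
  decide +kernel

theorem ta : t * a * t⁻¹ = b := by
  rw [mul_inv_eq_iff_eq_mul]
  apply su_ext
  change mT * mA = mB * mT
  decide +kernel

theorem ρa : ρ * a * ρ⁻¹ = b := by
  rw [mul_inv_eq_iff_eq_mul]
  apply su_ext
  change mR * mA = mB * mR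
  decide +kernel

theorem ρb : ρ * b * ρ⁻¹ = (a * b)⁻¹ := by
  rw [mul_inv_eq_iff_eq_mul, eq_inv_mul_iff_mul_eq]
  apply su_ext
  change (mA * mB) * (mR * mB) = mR
  decide +kernel

theorem tρ : t * ρ * t⁻¹ = ρ⁻¹ := by
  rw [eq_inv_iff_mul_eq_one, inv_eq_of_mul_eq_one_right tt]
  apply su_ext
  change mT * mR * mT * mR = 1
  decide +kernel

theorem fus : k * t * k⁻¹ = a ^ 2 * b ^ 2 := by
  rw [mul_inv_eq_iff_eq_mul]
  apply su_ext
  change mK * mT = mA ^ 2 * mB ^ 2 * mK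
  decide +kernel

theorem indep_aux : ∀ i j : Fin 4, mA ^ (i : ℕ) * mB ^ (j : ℕ) = 1 → i = 0 ∧ j = 0 := by
  decide +kernel

theorem b4 : b ^ 4 = 1 := by
  apply su_ext
  change mB ^ 4 = 1
  decide +kernel

theorem indep (i j : ℕ) (h : a ^ i * b ^ j = 1) : 4 ∣ i ∧ 4 ∣ j := by
  have h1 : a ^ (i % 4) * b ^ (j % 4) = 1 := by
    rw [← h]
    nth_rewrite 2 [← Nat.div_add_mod i 4]
    nth_rewrite 2 [← Nat.div_add_mod j 4]
    rw [pow_add, pow_add, pow_mul, pow_mul, a4, b4, one_pow, one_pow, one_mul, one_mul]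
  have h2 : mA ^ (i % 4) * mB ^ (j % 4) = 1 := congrArg (fun x : Cfsg.SU 3 K9 3 => mt x) h1
  have h3 := indep_aux ⟨i % 4, Nat.mod_lt _ (by norm_num)⟩ ⟨j % 4, Nat.mod_lt _ (by norm_num)⟩ h2
  have h4 : i % 4 = 0 := congrArg Fin.val h3.1
  have h5 : j % 4 = 0 := congrArg Fin.val h3.2
  exact ⟨Nat.dvd_of_mod_eq_zero h4, Nat.dvd_of_mod_eq_zero h5⟩

/-- membership in `⟨a, b⟩` -/
theorem mem_A0 {X : Type*} [Group X] {a b : X} (i j : ℕ) : a ^ i * b ^ j ∈ A0 a b :=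
  mul_mem (pow_mem (subset_closure (by simp)) _) (pow_mem (subset_closure (by simp)) _)

theorem quart : ∀ r s : ZMod 3, (⟨r, s⟩ : K9) * (⟨r, s⟩ * ⟨r, s⟩ * ⟨r, s⟩) = 1 →
    (r = 1 ∧ s = 0) ∨ (r = 2 ∧ s = 0) ∨ (r = 0 ∧ s = 1) ∨ (r = 0 ∧ s = 2) := by
  decide +kernel

/-- diagonal matrix -/
def dg (x y z : K9) : Matrix (Fin 3) (Fin 3) K9 := !![x, 0, 0; 0, y, 0; 0, 0, z]

/-- fourth roots of unity -/
def rt : Fin 4 → K9
  | 0 => ⟨1, 0⟩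
  | 1 => ⟨0, 1⟩
  | 2 => ⟨2, 0⟩
  | 3 => ⟨0, 2⟩

theorem exists_rt {x : K9} (h : x * (x * x * x) = 1) : ∃ m, x = rt m := by
  obtain ⟨r, s⟩ := x
  rcases quart r s h with ⟨rfl, rfl⟩ | ⟨rfl, rfl⟩ | ⟨rfl, rfl⟩ | ⟨rfl, rfl⟩
  · exact ⟨0, rfl⟩
  · exact ⟨2, rfl⟩
  · exact ⟨1, rfl⟩
  · exact ⟨3, rfl⟩

theorem diag_aux : ∀ m n p : Fin 4, rt m * rt n * rt p = 1 →
    ∃ i j : Fin 4, dg (rt m) (rt n) (rt p) = mA ^ (i : ℕ) * mB ^ (j : ℕ) := by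
  decide +kernel

/-- a diagonal element of `SU₃(3)` is in `⟨a, b⟩` -/
theorem mem_of_diag {g : Cfsg.SU 3 K9 3} (h : ∀ i j, i ≠ j → mt g i j = 0) : g ∈ A0 a b := by
  have hg : (mt g).transpose * (mt g).map (LieClassical.GUOrder.frob card_k9') = 1 :=
    (LieClassical.GUOrder.mul_map_eq_one_iff card_k9' (mt g)).1 g.2
  have h1 : ∀ i, mt g i i * (mt g i i * mt g i i * mt g i i) = 1 := by
    intro i
    have h2 := congrFun (congrFun hg i) i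
    rw [Matrix.mul_apply, Matrix.one_apply_eq, Finset.sum_eq_single i] at h2
    · simpa only [Matrix.transpose_apply, Matrix.map_apply, LieClassical.GUOrder.frob_apply,
        pow_succ, pow_zero, one_mul] using h2
    · intro j _ hj
      rw [Matrix.transpose_apply, h j i hj, zero_mul]
    · intro hi
      exact absurd (Finset.mem_univ i) hi
  have hd : mt g 0 0 * mt g 1 1 * mt g 2 2 = 1 := by
    have h3 : (mt g).det = 1 := g.1.2
    rw [Matrix.det_fin_three, h 0 1 (by decide), h 0 2 (by decide), h 1 2 (by decide)] at h3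
    simpa using h3
  obtain ⟨m, hm⟩ := exists_rt (h1 0)
  obtain ⟨n, hn⟩ := exists_rt (h1 1)
  obtain ⟨p, hp⟩ := exists_rt (h1 2)
  rw [hm, hn, hp] at hd
  obtain ⟨i, j, hij⟩ := diag_aux m n p hd
  have h4 : g = a ^ (i : ℕ) * b ^ (j : ℕ) := by
    apply su_ext
    change mt g = mA ^ (i : ℕ) * mB ^ (j : ℕ)
    rw [← hij, ← hm, ← hn, ← hp]
    refine Matrix.ext fun r s => ?_
    fin_cases r <;> fin_cases s <;> first | rfl | exact h _ _ (by decide)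
  rw [h4]
  exact mem_A0 _ _

theorem mt_mul_a (g : Cfsg.SU 3 K9 3) (i j : Fin 3) :
    (mt g * mA) i j = mt g i j * mA j j ∧ (mt g * mB) i j = mt g i j * mB j j := by
  have h0 : (⟨0, 0⟩ : K9) = 0 := rfl
  constructor <;> rw [Matrix.mul_apply, Fin.sum_univ_three] <;> fin_cases j <;>
    simp [mA, mB, h0]

theorem mul_diag {M D : Matrix (Fin 3) (Fin 3) K9} (hD : ∀ i j, i ≠ j → D i j = 0) (i j : Fin 3) :
    (D * M) i j = D i i * M i j := by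
  rw [Matrix.mul_apply, Finset.sum_eq_single i]
  · intro k _ hk
    rw [hD i k hk.symm, zero_mul]
  · intro hi
    exact absurd (Finset.mem_univ i) hi

theorem diag_A (i j : Fin 3) (h : i ≠ j) : mA i j = 0 := by
  fin_cases i <;> fin_cases j <;> first | exact absurd rfl h | rfl
theorem diag_B (i j : Fin 3) (h : i ≠ j) : mB i j = 0 := by
  fin_cases i <;> fin_cases j <;> first | exact absurd rfl h | rfl

theorem pair_ne : ∀ i j : Fin 3, i ≠ j → mA i i ≠ mA j j ∨ mB i i ≠ mB j j := by decide +kernel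

theorem cent {g : Cfsg.SU 3 K9 3} (ha : g * a = a * g) (hb : g * b = b * g) : g ∈ A0 a b := by
  apply mem_of_diag
  intro i j hij
  have h1 : mt g * mA = mA * mt g := congrArg (fun x : Cfsg.SU 3 K9 3 => mt x) ha
  have h2 : mt g * mB = mB * mt g := congrArg (fun x : Cfsg.SU 3 K9 3 => mt x) hb
  have h3 := congrFun (congrFun h1 i) j
  have h4 := congrFun (congrFun h2 i) j
  rw [(mt_mul_a g i j).1, mul_diag diag_A] at h3
  rw [(mt_mul_a g i j).2, mul_diag diag_B] at h4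
  by_contra hne
  rcases pair_ne i j hij with h | h
  · apply h
    rw [mul_comm] at h3
    exact (mul_right_cancel₀ hne h3).symm
  · apply h
    rw [mul_comm] at h4
    exact (mul_right_cancel₀ hne h4).symm

/-- elements of `⟨a, b⟩` are diagonal -/
def dsub : Subgroup (Cfsg.SU 3 K9 3) where
  carrier := {g | (∀ i j, i ≠ j → mt g i j = 0) ∧ ∀ i j, i ≠ j → mt g⁻¹ i j = 0}
  mul_mem' := by
    rintro x y ⟨hx, hx'⟩ ⟨hy, hy'⟩
    refine ⟨fun i j hij => ?_, fun i j hij => ?_⟩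
    · change (mt x * mt y) i j = 0
      rw [mul_diag hx, hy i j hij, mul_zero]
    · rw [_root_.mul_inv_rev]
      change (mt y⁻¹ * mt x⁻¹) i j = 0
      rw [mul_diag hy', hx' i j hij, mul_zero]
  one_mem' := by
    have h : ∀ i j : Fin 3, i ≠ j → (1 : Matrix (Fin 3) (Fin 3) K9) i j = 0 := fun i j hij =>
      Matrix.one_apply_ne hij
    refine ⟨h, ?_⟩
    rw [inv_one]
    exact h
  inv_mem' := by
    rintro x ⟨hx, hx'⟩
    exact ⟨hx', by rw [inv_inv]; exact hx⟩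

theorem a_mem : a ∈ dsub := by
  refine ⟨diag_A, ?_⟩
  have h : a⁻¹ = a * a * a := by
    rw [inv_eq_iff_mul_eq_one, ← a4]
    simp only [pow_succ, pow_zero, one_mul, mul_assoc]
  rw [h]
  change ∀ i j : Fin 3, i ≠ j → (mA * mA * mA) i j = 0
  decide +kernel

theorem b_mem : b ∈ dsub := by
  refine ⟨diag_B, ?_⟩
  have h : b⁻¹ = b * b * b := by
    rw [inv_eq_iff_mul_eq_one, ← b4]
    simp only [pow_succ, pow_zero, one_mul, mul_assoc]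
  rw [h]
  change ∀ i j : Fin 3, i ≠ j → (mB * mB * mB) i j = 0
  decide +kernel

theorem diag_of_mem {g : Cfsg.SU 3 K9 3} (hg : g ∈ A0 a b) : ∀ i j, i ≠ j → mt g i j = 0 := by
  have h : A0 a b ≤ dsub := by
    unfold A0
    rw [closure_le]
    rintro x (rfl | rfl)
    · exact a_mem
    · exact b_mem
  exact (h hg).1

theorem prod_ne (M : Matrix (Fin 3) (Fin 3) K9) (h : M.det ≠ 0) :
    (M 0 0 ≠ 0 ∧ M 1 1 ≠ 0 ∧ M 2 2 ≠ 0) ∨ (M 0 0 ≠ 0 ∧ M 1 2 ≠ 0 ∧ M 2 1 ≠ 0) ∨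
    (M 0 1 ≠ 0 ∧ M 1 0 ≠ 0 ∧ M 2 2 ≠ 0) ∨ (M 0 1 ≠ 0 ∧ M 1 2 ≠ 0 ∧ M 2 0 ≠ 0) ∨
    (M 0 2 ≠ 0 ∧ M 1 0 ≠ 0 ∧ M 2 1 ≠ 0) ∨ (M 0 2 ≠ 0 ∧ M 1 1 ≠ 0 ∧ M 2 0 ≠ 0) := by
  by_contra hcon
  apply h
  simp only [← mul_ne_zero_iff, not_or, not_not] at hcon
  obtain ⟨h1, h2, h3, h4, h5, h6⟩ := hcon
  rw [Matrix.det_fin_three]
  linear_combination h1 - h2 - h3 + h4 + h5 - h6

/-- the diagonal entries of the conjugates -/
theorem conj_diag {g u v : Cfsg.SU 3 K9 3} (hu : g * a = u * g) (hv : g * b = v * g)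
    (hu' : ∀ i j, i ≠ j → mt u i j = 0) (hv' : ∀ i j, i ≠ j → mt v i j = 0)
    {i j : Fin 3} (hij : mt g i j ≠ 0) : mt u i i = mA j j ∧ mt v i i = mB j j := by
  have h1 : mt g * mA = mt u * mt g := congrArg (fun x : Cfsg.SU 3 K9 3 => mt x) hu
  have h2 : mt g * mB = mt v * mt g := congrArg (fun x : Cfsg.SU 3 K9 3 => mt x) hv
  have h3 := congrFun (congrFun h1 i) j
  have h4 := congrFun (congrFun h2 i) j
  rw [(mt_mul_a g i j).1, mul_diag hu'] at h3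
  rw [(mt_mul_a g i j).2, mul_diag hv'] at h4
  rw [mul_comm] at h3 h4
  exact ⟨(mul_right_cancel₀ hij h3).symm, (mul_right_cancel₀ hij h4).symm⟩

theorem diag_ext {u v : Cfsg.SU 3 K9 3} (hu : ∀ i j, i ≠ j → mt u i j = 0)
    (hv : ∀ i j, i ≠ j → mt v i j = 0) (h0 : mt u 0 0 = mt v 0 0) (h1 : mt u 1 1 = mt v 1 1)
    (h2 : mt u 2 2 = mt v 2 2) : u = v := by
  apply su_ext
  refine Matrix.ext fun i j => ?_
  by_cases hij : i = j
  · subst hij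
    fin_cases i
    · exact h0
    · exact h1
    · exact h2
  · exact (hu i j hij).trans (hv i j hij).symm

/-- `(ab)⁻¹` -/
def mC : Matrix (Fin 3) (Fin 3) K9 := !![⟨0, 1⟩, ⟨0, 0⟩, ⟨0, 0⟩; ⟨0, 0⟩, ⟨0, 1⟩, ⟨0, 0⟩; ⟨0, 0⟩, ⟨0, 0⟩, ⟨2, 0⟩]

theorem gC : IsGood mC := by decide +kernel

theorem C_eq : (a * b)⁻¹ = gC.su := by
  apply inv_eq_of_mul_eq_one_right
  apply su_ext
  change mA * mB * mC = 1
  decide +kernel

theorem diag_C (i j : Fin 3) (h : i ≠ j) : mC i j = 0 := by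
  fin_cases i <;> fin_cases j <;> first | exact absurd rfl h | rfl

theorem mt_a : mt a = mA := rfl
theorem mt_b : mt b = mB := rfl
theorem mt_c : mt gC.su = mC := rfl

theorem ents : (mA 1 1 = mA 2 2 ∧ mB 0 0 = mB 2 2 ∧ mC 0 0 = mC 1 1) ∧
    (mA 0 0 = mB 1 1 ∧ mA 0 0 = mC 2 2 ∧ mA 1 1 = mB 0 0 ∧ mA 1 1 = mC 0 0) := by
  decide +kernel

/-- The pair of conjugates of `(a, b)`. -/
theorem pair_cases {g : Cfsg.SU 3 K9 3} (ha : g * a * g⁻¹ ∈ A0 a b) (hb : g * b * g⁻¹ ∈ A0 a b) :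
    (g * a * g⁻¹ = a ∧ g * b * g⁻¹ = b) ∨ (g * a * g⁻¹ = a ∧ g * b * g⁻¹ = (a * b)⁻¹) ∨
    (g * a * g⁻¹ = b ∧ g * b * g⁻¹ = a) ∨ (g * a * g⁻¹ = b ∧ g * b * g⁻¹ = (a * b)⁻¹) ∨
    (g * a * g⁻¹ = (a * b)⁻¹ ∧ g * b * g⁻¹ = a) ∨
    (g * a * g⁻¹ = (a * b)⁻¹ ∧ g * b * g⁻¹ = b) := by
  have hu' := diag_of_mem ha
  have hv' := diag_of_mem hb
  have hdet : (mt g).det ≠ 0 := by
    rw [show (mt g).det = 1 from g.1.2]
    exact one_ne_zero
  have key : ∀ {i j : Fin 3}, mt g i j ≠ 0 →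
      mt (g * a * g⁻¹) i i = mA j j ∧ mt (g * b * g⁻¹) i i = mB j j := fun {i j} hij =>
    conj_diag (by group) (by group) hu' hv' hij
  rw [C_eq]
  generalize g * a * g⁻¹ = u at *
  generalize g * b * g⁻¹ = v at *
  have da : ∀ i j, i ≠ j → mt a i j = 0 := by rw [mt_a]; exact diag_A
  have db : ∀ i j, i ≠ j → mt b i j = 0 := by rw [mt_b]; exact diag_B
  have dc : ∀ i j, i ≠ j → mt gC.su i j = 0 := by rw [mt_c]; exact diag_C
  obtain ⟨⟨e1, e2, e3⟩, e4, e5, e6, e7⟩ := ents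
  rcases prod_ne _ hdet with ⟨h0, h1, h2⟩ | ⟨h0, h1, h2⟩ | ⟨h0, h1, h2⟩ | ⟨h0, h1, h2⟩ |
    ⟨h0, h1, h2⟩ | ⟨h0, h1, h2⟩
  · left
    constructor
    · apply diag_ext hu' da
      · rw [(key h0).1, mt_a]
      · rw [(key h1).1, mt_a]
      · rw [(key h2).1, mt_a]
    · apply diag_ext hv' db
      · rw [(key h0).2, mt_b]
      · rw [(key h1).2, mt_b]
      · rw [(key h2).2, mt_b]
  · right; left
    constructor
    · apply diag_ext hu' da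
      · rw [(key h0).1, mt_a]
      · rw [(key h1).1, mt_a, e1]
      · rw [(key h2).1, mt_a, e1]
    · apply diag_ext hv' dc
      · rw [(key h0).2, mt_c, ← e6, e7]
      · rw [(key h1).2, mt_c, ← e3, ← e2, ← e6, e7]
      · rw [(key h2).2, mt_c, ← e4, e5]
  · right; right; left
    constructor
    · apply diag_ext hu' db
      · rw [(key h0).1, mt_b, e6]
      · rw [(key h1).1, mt_b, e4]
      · rw [(key h2).1, mt_b, ← e1, e6, e2]
    · apply diag_ext hv' da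
      · rw [(key h0).2, mt_a, e4]
      · rw [(key h1).2, mt_a, e6]
      · rw [(key h2).2, mt_a, ← e1, e6, e2]
  · right; right; right; right; left
    constructor
    · apply diag_ext hu' dc
      · rw [(key h0).1, mt_c, e7]
      · rw [(key h1).1, mt_c, ← e1, e7, e3]
      · rw [(key h2).1, mt_c, e5]
    · apply diag_ext hv' da
      · rw [(key h0).2, mt_a, e4]
      · rw [(key h1).2, mt_a, ← e2, e6]
      · rw [(key h2).2, mt_a, ← e1, e6]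
  · right; right; right; left
    constructor
    · apply diag_ext hu' db
      · rw [(key h0).1, mt_b, ← e1, e6]
      · rw [(key h1).1, mt_b, e4]
      · rw [(key h2).1, mt_b, e6, e2]
    · apply diag_ext hv' dc
      · rw [(key h0).2, mt_c, ← e2, ← e6, e7]
      · rw [(key h1).2, mt_c, ← e3, ← e6, e7]
      · rw [(key h2).2, mt_c, ← e4, e5]
  · right; right; right; right; right
    constructor
    · apply diag_ext hu' dc
      · rw [(key h0).1, mt_c, ← e1, e7]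
      · rw [(key h1).1, mt_c, ← e3, e7]
      · rw [(key h2).1, mt_c, e5]
    · apply diag_ext hv' db
      · rw [(key h0).2, mt_b, e2]
      · rw [(key h1).2, mt_b]
      · rw [(key h2).2, mt_b, e2]

section norm

variable {X : Type*} [Group X] {a b : X}

theorem a_mem_A0 : a ∈ A0 a b := subset_closure (by simp)
theorem b_mem_A0 : b ∈ A0 a b := subset_closure (by simp)

theorem conj_mem_A0 {s w : X} (ha : s * a * s⁻¹ ∈ A0 a b) (hb : s * b * s⁻¹ ∈ A0 a b)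
    (hw : w ∈ A0 a b) : s * w * s⁻¹ ∈ A0 a b := by
  have h : A0 a b ≤ (A0 a b).comap (MulAut.conj s).toMonoidHom := by
    conv_lhs => unfold A0
    rw [closure_le]
    rintro x (rfl | rfl)
    · exact ha
    · exact hb
  exact h hw

theorem exists_of_conj_eq (hc : ∀ g : X, g * a = a * g → g * b = b * g → g ∈ A0 a b) {g s : X}
    (ha : g * a * g⁻¹ = s * a * s⁻¹) (hb : g * b * g⁻¹ = s * b * s⁻¹)
    (ha' : s * a * s⁻¹ ∈ A0 a b) (hb' : s * b * s⁻¹ ∈ A0 a b) : ∃ u ∈ A0 a b, g = u * s := by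
  have key : ∀ y : X, g * y * g⁻¹ = s * y * s⁻¹ → s⁻¹ * g * y = y * (s⁻¹ * g) := by
    intro y hy
    have h1 : g * y = s * y * s⁻¹ * g := by
      rw [← hy]
      group
    calc s⁻¹ * g * y = s⁻¹ * (g * y) := by group
      _ = s⁻¹ * (s * y * s⁻¹ * g) := by rw [h1]
      _ = y * (s⁻¹ * g) := by group
  refine ⟨s * (s⁻¹ * g) * s⁻¹, conj_mem_A0 ha' hb' (hc _ (key a ha) (key b hb)), ?_⟩
  group

end norm

theorem norm {g : Cfsg.SU 3 K9 3} (hga : g * a * g⁻¹ ∈ A0 a b) (hgb : g * b * g⁻¹ ∈ A0 a b) :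
    ∃ u ∈ A0 a b, g = u ∨ g = u * ρ ∨ g = u * ρ⁻¹ ∨ g = u * t ∨ g = u * ρ * t ∨
      g = u * ρ⁻¹ * t := by
  have hc : ∀ g : Cfsg.SU 3 K9 3, g * a = a * g → g * b = b * g → g ∈ A0 a b := fun g => cent
  have r1 := ρa
  have r2 := ρb
  have ti : t⁻¹ = t := inv_eq_of_mul_eq_one_right tt
  have t1 := ta
  have t2 : t * b * t⁻¹ = a := by
    rw [← t1, ti]
    calc t * (t * a * t) * t = (t * t) * a * (t * t) := by group
      _ = a := by rw [tt]; group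
  have r3 : ρ⁻¹ * b * ρ⁻¹⁻¹ = a := by
    rw [← r1]
    group
  have r4 : ρ⁻¹ * a * ρ⁻¹⁻¹ = (a * b)⁻¹ := by
    have h1 : ρ⁻¹ * (a * b)⁻¹ * ρ = b := by
      rw [← r2]
      group
    have h2 : ρ⁻¹ * b * ρ = a := by
      rw [inv_inv] at r3
      exact r3
    rw [inv_inv]
    have h3 : (ρ⁻¹ * (a * b)⁻¹ * ρ) * (ρ⁻¹ * (b * a) * ρ) = 1 := by
      rw [← ab]
      group
    have h4 : ρ⁻¹ * (b * a) * ρ = (ρ⁻¹ * b * ρ) * (ρ⁻¹ * a * ρ) := by group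
    rw [h4, h1, h2] at h3
    rw [ab]
    rw [← mul_assoc] at h3
    exact eq_inv_of_mul_eq_one_right h3
  have rt1 : (ρ * t) * a * (ρ * t)⁻¹ = (a * b)⁻¹ := by
    rw [← r2, ← t1]
    group
  have rt2 : (ρ * t) * b * (ρ * t)⁻¹ = b := by
    have : (ρ * t) * b * (ρ * t)⁻¹ = ρ * (t * b * t⁻¹) * ρ⁻¹ := by group
    rw [this, t2, r1]
  have st1 : (ρ⁻¹ * t) * a * (ρ⁻¹ * t)⁻¹ = a := by
    have : (ρ⁻¹ * t) * a * (ρ⁻¹ * t)⁻¹ = ρ⁻¹ * (t * a * t⁻¹) * ρ⁻¹⁻¹ := by group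
    rw [this, t1, r3]
  have st2 : (ρ⁻¹ * t) * b * (ρ⁻¹ * t)⁻¹ = (a * b)⁻¹ := by
    have : (ρ⁻¹ * t) * b * (ρ⁻¹ * t)⁻¹ = ρ⁻¹ * (t * b * t⁻¹) * ρ⁻¹⁻¹ := by group
    rw [this, t2, r4]
  have mc : (a * b)⁻¹ ∈ A0 a b := inv_mem (mul_mem a_mem_A0 b_mem_A0)
  have ma : a ∈ A0 a b := a_mem_A0
  have mb : b ∈ A0 a b := b_mem_A0
  rcases pair_cases hga hgb with ⟨h1, h2⟩ | ⟨h1, h2⟩ | ⟨h1, h2⟩ | ⟨h1, h2⟩ | ⟨h1, h2⟩ | ⟨h1, h2⟩
  · refine ⟨g, hc g ?_ ?_, Or.inl rfl⟩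
    · rw [mul_inv_eq_iff_eq_mul] at h1; exact h1
    · rw [mul_inv_eq_iff_eq_mul] at h2; exact h2
  · obtain ⟨u, hu, h3⟩ := exists_of_conj_eq hc (h1.trans st1.symm) (h2.trans st2.symm)
      (by rw [st1]; exact ma) (by rw [st2]; exact mc)
    exact ⟨u, hu, Or.inr (Or.inr (Or.inr (Or.inr (Or.inr (by rw [h3, mul_assoc])))))⟩
  · obtain ⟨u, hu, h3⟩ := exists_of_conj_eq hc (h1.trans t1.symm) (h2.trans t2.symm)
      (by rw [t1]; exact mb) (by rw [t2]; exact ma)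
    exact ⟨u, hu, Or.inr (Or.inr (Or.inr (Or.inl h3)))⟩
  · obtain ⟨u, hu, h3⟩ := exists_of_conj_eq hc (h1.trans r1.symm) (h2.trans r2.symm)
      (by rw [r1]; exact mb) (by rw [r2]; exact mc)
    exact ⟨u, hu, Or.inr (Or.inl h3)⟩
  · obtain ⟨u, hu, h3⟩ := exists_of_conj_eq hc (h1.trans r4.symm) (h2.trans r3.symm)
      (by rw [r4]; exact mc) (by rw [r3]; exact ma)
    exact ⟨u, hu, Or.inr (Or.inr (Or.inl h3))⟩
  · obtain ⟨u, hu, h3⟩ := exists_of_conj_eq hc (h1.trans rt1.symm) (h2.trans rt2.symm)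
      (by rw [rt1]; exact mc) (by rw [rt2]; exact mb)
    exact ⟨u, hu, Or.inr (Or.inr (Or.inr (Or.inr (Or.inl (by rw [h3, mul_assoc])))))⟩

theorem card_SU : Nat.card (Cfsg.SU 3 K9 3) = 6048 := by
  have h := Cfsg.Agent.S0278.result (F := K9) (q := 3) card_k9' 3 (by norm_num)
  have h2 : (∏ i ∈ Finset.range 3, (if Even i then 3 ^ (i + 1) + 1 else 3 ^ (i + 1) - 1)) =
      4 * 8 * 28 := by
    decide
  rw [h2] at h
  norm_num at h
  omega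

theorem syl (Q : Subgroup (Cfsg.SU 3 K9 3)) (hQ : IsPGroup 2 Q) : Nat.card Q ≤ 32 := by
  have hfin : Finite (Cfsg.SU 3 K9 3) := Nat.finite_of_card_ne_zero (by rw [card_SU]; norm_num)
  obtain ⟨n, hn⟩ := hQ.exists_card_eq
  have h1 : Nat.card Q ∣ 6048 := card_SU ▸ card_subgroup_dvd_card Q
  rw [hn] at h1 ⊢
  have h2 : n ≤ 5 := by
    by_contra h3
    have h4 : 2 ^ 6 ∣ 6048 := (pow_dvd_pow 2 (by omega)).trans h1
    norm_num at h4
  calc 2 ^ n ≤ 2 ^ 5 := Nat.pow_le_pow_right (by norm_num) h2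
    _ = 32 := by norm_num

/-- The data in `SU₃(3)`. -/
theorem wr : WrIn (⊤ : Subgroup (Cfsg.SU 3 K9 3)) a b t ρ where
  aK := mem_top _
  bK := mem_top _
  tK := mem_top _
  ρK := mem_top _
  a4 := a4
  ab := ab
  indep := indep
  tt := tt
  ta := ta
  ρa := ρa
  ρb := ρb
  tρ := tρ
  cent := fun _ _ => cent
  norm := fun _ _ => norm
  syl := fun Q _ => syl Q
  fus := ⟨k, mem_top _, fus⟩

/-- Transport by an isomorphism onto a subgroup. -/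
theorem wr_map {L X : Type*} [Group L] [Group X] (f : L →* X) (hf : Function.Injective f)
    {a b t ρ : L} (h : WrIn (⊤ : Subgroup L) a b t ρ) : WrIn f.range (f a) (f b) (f t) (f ρ) := by
  have hA : (A0 a b).map f = A0 (f a) (f b) := by
    unfold A0
    rw [MonoidHom.map_closure, Set.image_pair]
  have hA' : ∀ g : L, f g ∈ A0 (f a) (f b) ↔ g ∈ A0 a b := by
    intro g
    rw [← hA]
    constructor
    · rintro ⟨y, hy, hyg⟩
      rwa [hf hyg] at hy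
    · intro hg
      exact ⟨g, hg, rfl⟩
  refine ⟨⟨a, rfl⟩, ⟨b, rfl⟩, ⟨t, rfl⟩, ⟨ρ, rfl⟩, ?_, ?_, ?_, ?_, ?_, ?_, ?_, ?_, ?_, ?_, ?_, ?_⟩
  · rw [← map_pow, h.a4, map_one]
  · rw [← map_mul, h.ab, map_mul]
  · intro i j hij
    rw [← map_pow, ← map_pow, ← map_mul, ← map_one f] at hij
    exact h.indep i j (hf hij)
  · rw [← map_mul, h.tt, map_one]
  · rw [← map_inv, ← map_mul, ← map_mul, h.ta]
  · rw [← map_inv, ← map_mul, ← map_mul, h.ρa]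
  · rw [← map_inv, ← map_mul, ← map_mul, h.ρb, map_inv, map_mul]
  · rw [← map_inv, ← map_mul, ← map_mul, h.tρ, map_inv]
  · rintro _ ⟨g, rfl⟩ h1 h2
    rw [hA']
    rw [← map_mul, ← map_mul] at h1 h2
    exact h.cent g (mem_top _) (hf h1) (hf h2)
  · rintro _ ⟨g, rfl⟩ h1 h2
    rw [← map_inv, ← map_mul, ← map_mul, hA'] at h1 h2
    obtain ⟨u, hu, h3⟩ := h.norm g (mem_top _) h1 h2
    refine ⟨f u, (hA' u).mpr hu, ?_⟩
    simp only [← map_inv, ← map_mul]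
    rcases h3 with h3 | h3 | h3 | h3 | h3 | h3 <;> rw [h3] <;> simp
  · intro Q hQ hp
    have h1 : Nat.card Q = Nat.card (Q.comap f) := by
      rw [← Subgroup.card_map_of_injective hf, Subgroup.map_comap_eq_self hQ]
    rw [h1]
    refine h.syl _ le_top ?_
    exact hp.comap_of_injective f hf
  · obtain ⟨k, -, hk⟩ := h.fus
    refine ⟨f k, ⟨k, rfl⟩, ?_⟩
    rw [← map_inv, ← map_mul, ← map_mul, hk, map_mul, map_pow, map_pow]

end Cfsg.Agent.GH.WModel
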