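import Mathlib
import Cfsg.Agent.GH.WFrame
import Cfsg.Agent.GH.WModel
import Cfsg.Agent.GH.Comp

/-!
# GH-L3 (W): the frame from a 2-component `K`, `K / O(K) = PSU₃(3)`
-/

set_option autoImplicit false

namespace Cfsg.Agent.GH.WComp

open Subgroup Cfsg.Agent.GH.WDefs Cfsg.Agent.GH.WNorm Cfsg.Agent.GH.WQuot Cfsg.Agent.GH.WRank
open Cfsg.Agent.GH.WFrame Cfsg.Agent.GH.Defs Cfsg.Agent.GH.Comp Cfsg.Agent.GH.Rank
open Cfsg.Agent.Intrinsic.Basic Cfsg.Agent.TwoFusion.SectionalRank
open Cfsg.Agent.SignalizersComponents.IntrinsicBasic (cj)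

/-! ### the rank of `4 wr 2` -/

theorem three_le {X : Type*} [Group X] [Finite X] {a b t : X} (h : WNorm.Rel a b t) :
    3 ≤ srank 2 X := by
  by_contra hlt
  have h2 : SectionalPRankLE 2 2 X := (srank_le_iff (by norm_num)).mp (by omega)
  rw [sectionalPRankLE_iff] at h2
  have hz2 : zz a b * zz a b = 1 := zz_sq h
  have hz : ∀ c, c ∈ zpowers (zz a b) ↔ c = 1 ∨ c = zz a b := by
    intro c
    constructor
    · rintro ⟨n, rfl⟩
      rcases Int.even_or_odd' n with ⟨m, rfl | rfl⟩
      · left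
        change zz a b ^ (2 * m) = 1
        rw [zpow_mul, show (2 : ℤ) = ((2 : ℕ) : ℤ) by norm_num, zpow_natCast, pow_two, hz2, one_zpow]
      · right
        change zz a b ^ (2 * m + 1) = zz a b
        rw [zpow_add, zpow_mul, show (2 : ℤ) = ((2 : ℕ) : ℤ) by norm_num, zpow_natCast, pow_two, hz2,
          one_zpow, one_mul, zpow_one]
    · rintro (rfl | rfl)
      · exact one_mem _
      · exact mem_zpowers _
  have h3 := h2 (D h) (zpowers (zz a b))
    { le := by
        rw [zpowers_le]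
        exact ⟨2, 2, Or.inl (by decide), Or.inl rfl⟩
      comm := fun g hg g' hg' => (hz _).mpr (D_comm h hg hg')
      pow := fun g hg => by
        rw [pow_two]
        exact (hz _).mpr (D_sq h hg) }
  have h4 := card_D h
  have h5 : Nat.card (zpowers (zz a b)) ≤ 2 := by
    rw [Nat.card_zpowers]
    exact Nat.le_of_dvd (by norm_num) (orderOf_dvd_of_pow_eq_one (by rw [pow_two, hz2]))
  omega

/-! ### the 2-component -/

section comp

variable {G : Type*} [Group G] [Finite G]

theorem center_bar_eq_bot {K : Subgroup G} (hodd : ¬ EvenCenter K) : center (Bar K) = ⊥ := by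
  have h1 : Odd (Nat.card (center (Bar K))) := Nat.not_even_iff_odd.mp hodd
  have h2 : center (Bar K) ≤ oddCore (Bar K) :=
    Lib.Cores.le_pPrimeCore inferInstance (Nat.coprime_two_right.mpr h1)
  rw [eq_bot_iff]
  refine h2.trans ?_
  exact (Lib.Cores.pPrimeCore_quotient_pPrimeCore (G := K) 2).le

/-- `K/O(K) → K/O(K)/Z` is an isomorphism. -/
noncomputable def barEquivTop {K : Subgroup G} (hodd : ¬ EvenCenter K) : Bar K ≃* STop K :=
  ((QuotientGroup.quotientMulEquivOfEq (center_bar_eq_bot hodd)).trans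
    QuotientGroup.quotientBot).symm

theorem three_le_srank {K : Subgroup G} (hodd : ¬ EvenCenter K) {L : Type*} [Group L]
    (e : L ≃* Bar K) {a b t : L} (h : WNorm.Rel a b t) : 3 ≤ srank 2 K := by
  have : Finite L := Finite.of_equiv _ e.symm.toEquiv
  have h1 := three_le h
  rwa [srank_congr (by norm_num) (e.trans (barEquivTop hodd)), srank_top hodd] at h1

/-- `K` is normal in `C(x)`. -/
theorem normal_of_three_le (h : Hyp G) {x : G} {K : Subgroup G} (c : Comp2 x K)
    (hodd : ¬ EvenCenter K) (h3 : 3 ≤ srank 2 K) {g : G} (hg : g ∈ centralizer ({x} : Set G)) :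
    g ∈ normalizer (K : Set G) := by
  rw [SignalizersComponents.IntrinsicBasic.mem_normalizer_iff_cj]
  by_contra hne
  have hcj := c.comp.cj g
  have hH : cj g (centralizer ({x} : Set G)) = centralizer ({x} : Set G) := by
    rw [← SignalizersComponents.IntrinsicBasic.mem_normalizer_iff_cj]
    exact le_normalizer hg
  rw [hH] at hcj
  have h4 := srank_add_le c.comp hodd hcj.le (fun d hd => c.comp.fixes_of_mem hcj (Ne.symm hne) hd)
  have h5 : srank 2 (cj g K) = srank 2 K :=
    (srank_congr (by norm_num) (K.equivMapOfInjective (MulAut.conj g).toMonoidHom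
      (MulAut.conj g).injective)).symm
  have h6 : srank 2 (centralizer ({x} : Set G)) ≤ 4 :=
    (srank_subgroup_le (by norm_num) _).trans ((srank_le_iff (by norm_num)).2 h.rank4)
  omega

/-- The map `K / O(K) → C(x) / O(C(x))`. -/
theorem exists_hom {x : G} {K : Subgroup G} (c : Comp2 x K) :
    ∃ f : Bar K →* (↥(centralizer ({x} : Set G)) ⧸ oddCore ↥(centralizer ({x} : Set G))),
      Function.Injective f ∧ ∀ k : K, f (QuotientGroup.mk' (oddCore K) k) =
        QuotientGroup.mk' (oddCore ↥(centralizer ({x} : Set G))) ⟨k, c.comp.le k.2⟩ := by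
  set H := centralizer ({x} : Set G) with hH
  let f0 : K →* H ⧸ oddCore H := (QuotientGroup.mk' (oddCore H)).comp (inclusion c.comp.le)
  have hker : ∀ k : K, f0 k = 1 ↔ k ∈ oddCore K := by
    intro k
    have h1 : f0 k = 1 ↔ (k : G) ∈ core H := by
      rw [mem_core_iff (c.comp.le k.2)]
      exact QuotientGroup.eq_one_iff _
    rw [h1]
    have h2 : (k : G) ∈ core K ↔ k ∈ oddCore K := mem_core_iff k.2
    rw [← h2, c.comp.core_eq]
    exact ⟨fun h => ⟨k.2, h⟩, fun h => h.2⟩
  refine ⟨QuotientGroup.lift (oddCore K) f0 (fun k hk => (hker k).mpr hk), ?_, fun k => rfl⟩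
  rw [injective_iff_map_eq_one]
  intro y hy
  obtain ⟨k, rfl⟩ := QuotientGroup.mk_surjective y
  exact (QuotientGroup.eq_one_iff k).mpr ((hker k).mp hy)

/-- `P₀` is a 2-group. -/
theorem isPGroup_P0 {X : Type*} [Group X] {a b t : X} (h : WNorm.Rel a b t) :
    IsPGroup 2 (P0 a b t) := by
  rintro ⟨g, hg⟩
  refine ⟨3, Subtype.ext ?_⟩
  change g ^ 2 ^ 3 = 1
  have key : ∀ i j : ZMod 4, E a b i j ^ 4 = 1 := by
    intro i j
    rw [h.E_pow]
    have h4 : ((4 : ℕ) : ZMod 4) = 0 := by decide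
    rw [h4, zero_mul, zero_mul, E_zero]
  obtain ⟨i, j, rfl | rfl⟩ := h.mem_P0.mp hg
  · rw [show 2 ^ 3 = 4 * 2 by norm_num, pow_mul, key, one_pow]
  · rw [show 2 ^ 3 = 2 * 4 by norm_num, pow_mul, pow_two, h.Et_sq, key]

/-- **The frame.** -/
theorem exists_frame_of_equiv (h : Hyp G) {x : G} {K : Subgroup G} (c : Comp2 x K)
    (hodd : ¬ EvenCenter K) {L : Type*} [Group L] (e : L ≃* Bar K) {a b t ρ : L}
    (w : WrIn (⊤ : Subgroup L) a b t ρ) :
    ∃ (T : Subgroup G) (a b t τ ρ : G), Frame x T a b t τ ρ := by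
  have h3 := three_le_srank hodd e w.rel
  set H := centralizer ({x} : Set G) with hH
  have hN : Odd (Nat.card (oddCore H)) := Nat.coprime_two_right.mp (Lib.Cores.pPrimeCore_coprime 2)
  obtain ⟨f, hf, hfk⟩ := exists_hom c
  let φ : L →* H ⧸ oddCore H := f.comp e.toMonoidHom
  have hφ : Function.Injective φ := hf.comp e.injective
  have w' := WModel.wr_map φ hφ w
  -- the image is normal
  have hnorm : φ.range.Normal := by
    constructor
    rintro _ ⟨l, rfl⟩ y
    obtain ⟨k, hk⟩ := QuotientGroup.mk'_surjective (oddCore K) (e l)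
    obtain ⟨g, rfl⟩ := QuotientGroup.mk'_surjective (oddCore H) y
    have hg := normal_of_three_le h c hodd h3 g.2
    have hkg : (g : G) * k * (g : G)⁻¹ ∈ K := (mem_normalizer_iff.mp hg _).mp k.2
    refine ⟨e.symm (QuotientGroup.mk' (oddCore K) ⟨_, hkg⟩), ?_⟩
    change f (e (e.symm (QuotientGroup.mk' (oddCore K) ⟨_, hkg⟩))) = _ * f (e l) * _
    rw [e.apply_symm_apply, hfk, ← hk, hfk, ← map_inv, ← map_mul, ← map_mul]
    rfl
  obtain ⟨T', hT'⟩ := (isPGroup_P0 w'.rel).exists_le_sylow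
  have q : QHyp φ.range (T' : Subgroup (H ⧸ oddCore H)) (φ a) (φ b) (φ t) (φ ρ) :=
    ⟨w', hnorm, T'.2, hT' (A0_le_P0 a_mem_A0), hT' t_mem_P0⟩
  have hx : x ∈ H := mem_centralizer_singleton_iff.mpr rfl
  have hx2 : x * x = 1 := by
    rw [← pow_two, ← c.inv, pow_orderOf_eq_one]
  have hx1 : x ≠ 1 := by
    rintro rfl
    have := c.inv
    simp at this
  have hmem : ∀ g : G, g ∈ H ↔ g * x = x * g := fun g => mem_centralizer_singleton_iff
  obtain ⟨T, a1, b1, t1, τ, ρ1, fr⟩ := frame_of_quot hN (x := (⟨x, hx⟩ : H))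
    (fun he => hx1 (congrArg Subtype.val he)) (Subtype.ext hx2)
    (fun g => Subtype.ext ((hmem g).mp g.2)) q (by
      intro Q hQ
      obtain ⟨Q', hQ'⟩ := hQ.exists_le_sylow
      have hp : Fact (Nat.Prime 2) := ⟨Nat.prime_two⟩
      calc Nat.card Q ≤ Nat.card Q' := Nat.card_le_card_of_injective _ (inclusion_injective hQ')
        _ = Nat.card T' := by rw [Q'.card_eq_multiplicity, T'.card_eq_multiplicity])
    (Rank.of_subgroup h.rank4 H)
  exact ⟨_, _, _, _, _, _, frame_of_centralizer hmem rfl fr⟩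

open Cfsg.Agent.Classification.RTwo.UThreeThree in
/-- **GH-L3 (W), step 0.** -/
theorem exists_frame (h : Hyp G) {x : G} {K : Subgroup G} (c : Comp2 x K) (hodd : ¬ EvenCenter K)
    {F : Type*} [Field F] [Fintype F] (hF : Fintype.card F = 9) (e : STop K ≃* Cfsg.PSU 3 F 3) :
    ∃ (T : Subgroup G) (a b t τ ρ : G), Frame x T a b t τ ρ := by
  have hcard : Fintype.card F = Fintype.card K9 := by rw [hF, card_k9]
  let e1 : F ≃+* K9 := FiniteField.ringEquivOfCardEq hcard
  let e2 : STop K ≃* Cfsg.SU 3 K9 3 :=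
    (e.trans (psuEquiv hF)).trans (LieClassical.FieldTransfer.suCongr 3 3 e1)
  exact exists_frame_of_equiv h c hodd ((barEquivTop hodd).trans e2).symm WModel.wr

end comp

end Cfsg.Agent.GH.WComp
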