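import Cfsg.Agent.GH.WConv
import Cfsg.Agent.GH.WComp

/-!
# Project GH, branch GH-L3 (W): `K / O(K) = PSU₃(3)` is impossible
-/

set_option autoImplicit false

namespace Cfsg.Agent.GH.WFinal

open Cfsg.Agent.GH.Defs

/-- **GH-L3 (W)**: no involution centraliser has a 2-component `K` with odd centre and `K / O(K) = PSU₃(3)`. -/
theorem false_of_u33 {G : Type*} [Group G] [Finite G] (h : Hyp G) {x : G} {K : Subgroup G} (c : Comp2 x K)
    (hodd : ¬ EvenCenter K) {F : Type*} [Field F] [Fintype F] (hF : Fintype.card F = 9)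
    (e : STop K ≃* Cfsg.PSU 3 F 3) : False := by
  obtain ⟨T, a, b, t, τ, ρ, fr⟩ := WComp.exists_frame h c hodd hF e
  exact WConv.false_of_hyp h fr

end Cfsg.Agent.GH.WFinal
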