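import Cfsg.Agent.GH.L2FourOC
import Cfsg.Agent.Walter.ProductComp
import Cfsg.Agent.SignalizersComponents.CoprimeBasic
import Cfsg.Agent.SignalizersComponents.QsBasic

/-!
# GH: lifting a component of the centralizer of an inner involution

* `lift_comp` : `f : K → X` onto with kernel of odd order, `z ∈ K` an involution, `L` a quasisimple
  normal subgroup of `C_X(f z)` with `O(L) = 1`, `f z ∈ L`: there is a 2-component `J` of `K ∩ C(z)`
  with `z ∈ J`.
* `false_of_comp` : `AllOdd G`, `K` a 2-component of `C(x)`, `z` an involution of `K`: no 2-component of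
  `K ∩ C(z)` contains `z`.
* `false_of_top` : hence `K / O(K)` has no involution `t` such that `C(t)` has a component containing `t`.
-/

set_option autoImplicit false

open Cfsg Subgroup
open scoped commutatorElement
open Cfsg.Agent.SignalizersComponents Cfsg.Agent.Lib
open Cfsg.Agent.SignalizersComponents.IntrinsicBasic
open Cfsg.Agent.Intrinsic.Basic Cfsg.Agent.Intrinsic.Cen
open Cfsg.Agent.GH.Defs Cfsg.Agent.GH.Rank Cfsg.Agent.GH.Comp Cfsg.Agent.GH.L2FourOC

namespace Cfsg.Agent.GH.LiftComp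

variable {G : Type*} [Group G] [Finite G]

/-- Lifting a normal quasisimple subgroup of the centralizer of an inner involution. -/
theorem lift_comp {K : Subgroup G} {X : Type*} [Group X] [Finite X] (f : K →* X)
    (hf : Function.Surjective f) (hker : Odd (Nat.card f.ker)) {z : G} (hzK : z ∈ K)
    (hzz : z * z = 1) (L : Subgroup X)
    (hLn : ∀ g : X, g * f ⟨z, hzK⟩ = f ⟨z, hzK⟩ * g → ∀ l ∈ L, g * l * g⁻¹ ∈ L)
    (hLc : ∀ l ∈ L, l * f ⟨z, hzK⟩ = f ⟨z, hzK⟩ * l) (hLq : IsQuasisimple L)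
    (hLo : pPrimeCore 2 L = ⊥) (hzL : f ⟨z, hzK⟩ ∈ L) :
    ∃ J, IsComp (K ⊓ centralizer ({z} : Set G)) J ∧ z ∈ J := by
  have hp : Fact (Nat.Prime 2) := ⟨Nat.prime_two⟩
  set M : Subgroup G := (L.comap f).map K.subtype ⊓ centralizer ({z} : Set G) with hM
  have hMmem : ∀ (k : G) (hk : k ∈ K), k ∈ M ↔ f ⟨k, hk⟩ ∈ L ∧ k * z = z * k := by
    intro k hk
    constructor
    · rintro ⟨⟨k', hk', h1⟩, h2⟩
      refine ⟨?_, mem_centralizer_singleton_iff.mp h2⟩
      have h3 : k' = ⟨k, hk⟩ := Subtype.ext h1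
      rw [← h3]
      exact hk'
    · rintro ⟨h1, h2⟩
      exact ⟨⟨⟨k, hk⟩, h1, rfl⟩, mem_centralizer_singleton_iff.mpr h2⟩
  have hMK : M ≤ K := inf_le_left.trans (map_subtype_le _)
  have hMle : M ≤ K ⊓ centralizer ({z} : Set G) := le_inf hMK inf_le_right
  have hzM : z ∈ M := (hMmem z hzK).2 ⟨hzL, rfl⟩
  -- the map `M → L`
  let φ : M →* L := (f.comp (inclusion hMK)).codRestrict L (fun m =>
    ((hMmem m (hMK m.2)).1 m.2).1)
  have hφs : Function.Surjective φ := by
    rintro ⟨l, hl⟩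
    obtain ⟨k, rfl⟩ := hf l
    have hk0 : f ⟨z, hzK⟩ * f k * (f ⟨z, hzK⟩)⁻¹ = f k := by
      rw [← hLc _ hl, mul_inv_cancel_right]
    -- fixed points in the coset
    have hD : ¬ 2 ∣ Nat.card f.ker := fun h =>
      (Nat.not_even_iff_odd.2 hker) (even_iff_two_dvd.2 h)
    obtain ⟨d, hd, hfix⟩ := CoprimeBasic.exists_fixed_in_coset_of_pow (p := 2) (⟨z, hzK⟩ : K) 1
      (by
        apply Subtype.ext
        change z ^ 2 ^ 1 = 1
        rw [pow_one, pow_two, hzz]) f.ker hD
      (fun d hd => (inferInstance : f.ker.Normal).conj_mem d hd _) k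
      (by
        rw [MonoidHom.mem_ker, map_mul, map_mul, map_mul, map_inv, map_inv, hk0,
          inv_mul_cancel])
    have h1 : f (k * d) = f k := by
      rw [map_mul, (MonoidHom.mem_ker).1 hd, mul_one]
    have h2 : ((k * d : K) : G) ∈ M := by
      refine (hMmem _ (k * d).2).2 ⟨?_, ?_⟩
      · change f (k * d) ∈ L
        rw [h1]
        exact hl
      · have := congrArg Subtype.val hfix
        exact this.symm
    refine ⟨⟨_, h2⟩, ?_⟩
    apply Subtype.ext
    change f (k * d) = f k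
    exact h1
  have hφk : φ.ker ≤ pPrimeCore 2 M := by
    refine le_sSup ⟨inferInstance, Nat.coprime_two_right.2 ?_⟩
    have h1 : (φ.ker.map (inclusion hMK)) ≤ f.ker := by
      rintro _ ⟨m, hm, rfl⟩
      exact congrArg Subtype.val hm
    have h2 : Nat.card φ.ker = Nat.card (φ.ker.map (inclusion hMK)) :=
      (card_map_of_injective (inclusion_injective hMK)).symm
    rw [h2]
    exact hker.of_dvd_nat (card_dvd_of_le h1)
  have hcomp : IsComponent (⊤ : Subgroup L) := by
    refine ⟨Subgroup.IsSubnormal.top, ?_⟩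
    exact QsBasic.isQuasisimple_of_mulEquiv topEquiv.symm hLq
  have h1 := Cfsg.Agent.Walter.ProductComp.isPComponent_pElem φ hφk hLo hcomp (by
    intro l _
    exact MonoidHom.mem_range.2 (hφs l))
  refine ⟨_, (isComp_of_subtype h1).extend hMle ?_, ?_⟩
  · apply Subgroup.Normal.isSubnormal
    constructor
    rintro ⟨m, hm1, hm2⟩ hm ⟨g, hg1, hg2⟩
    rw [mem_subgroupOf] at hm ⊢
    have hgz : g * z = z * g := mem_centralizer_singleton_iff.mp hg2
    change g * m * g⁻¹ ∈ M
    have hm' : m ∈ M := hm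
    rw [hMmem m hm1] at hm'
    refine (hMmem _ (K.mul_mem (K.mul_mem hg1 hm1) (K.inv_mem hg1))).2 ⟨?_, ?_⟩
    · have h3 : f ⟨g * m * g⁻¹, K.mul_mem (K.mul_mem hg1 hm1) (K.inv_mem hg1)⟩ =
          f ⟨g, hg1⟩ * f ⟨m, hm1⟩ * (f ⟨g, hg1⟩)⁻¹ := by
        rw [← map_inv, ← map_mul, ← map_mul]
        rfl
      rw [h3]
      refine hLn _ ?_ _ hm'.1
      rw [← map_mul, ← map_mul]
      congr 1
      exact Subtype.ext hgz
    · have h4 : Commute g z := hgz
      have h5 : Commute m z := hm'.2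
      exact (h4.mul_left h5).mul_left h4.inv_left
  · refine ⟨⟨z, hzM⟩, ?_, rfl⟩
    refine PComponents.mem_pElem (n := 1) ?_ ?_
    · exact mem_comap.2 (mem_top _)
    · apply Subtype.ext
      change z ^ 2 ^ 1 = 1
      rw [pow_one, pow_two, hzz]

/-- An odd world has no such 2-components. -/
theorem false_of_comp (h : Hyp G) (ho : AllOdd G) {x z : G} {K J : Subgroup G} (c : Comp2 x K)
    (hzz : z * z = 1) (hJ : IsComp (K ⊓ centralizer ({z} : Set G)) J) (hzJ : z ∈ J)
    (hz1 : z ≠ 1) : False := by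
  have hz : orderOf z = 2 := orderOf_eq_prime (by rw [pow_two, hzz]) hz1
  have hzK : z ∈ K := (hJ.le hzJ).1
  have hzx : z * x = x * z := mem_centralizer_singleton_iff.mp (c.comp.le hzK)
  have hJ2 : IsComp (centralizer ({x} : Set G) ⊓ centralizer ({z} : Set G)) J := by
    refine hJ.extend (inf_le_inf_right _ c.comp.le) ?_
    have h3 := c.comp.2.1.comap
      (inclusion (inf_le_left : centralizer ({x} : Set G) ⊓ centralizer ({z} : Set G) ≤ _))
    convert h3 using 1
    ext ⟨y, hy⟩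
    simp only [mem_subgroupOf, mem_comap, mem_inf]
    exact ⟨fun h => h.1, fun h => ⟨h, hy.2⟩⟩
  rw [inf_comm] at hJ2
  have hxC : x ∈ centralizer ({z} : Set G) := mem_centralizer_singleton_iff.mpr hzx.symm
  have h2 : J ≤ L2 (centralizer ({z} : Set G)) := isComp_le_L2 hxC (Comp2.sq c) hJ2
  have h3 : L2 (centralizer ({z} : Set G)) ≠ ⊥ := by
    intro h4
    rw [h4, le_bot_iff] at h2
    exact hJ2.ne_bot h2
  obtain ⟨M, hM⟩ := exists_comp2_of_L2_ne_bot hz h3
  have h5 : z ∈ M := by
    rw [← L2_eq h ho hM]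
    exact h2 hzJ
  exact ho z M hM (evenCenter_of_mem hM h5)

/-- `X` has an involution `t` and a quasisimple normal subgroup `L` of `C(t)`, `O(L) = 1`, containing
`t`. -/
def HasInner (X : Type*) [Group X] : Prop :=
  ∃ (t : X) (L : Subgroup X), t * t = 1 ∧ t ≠ 1 ∧ t ∈ L ∧
    (∀ g : X, g * t = t * g → ∀ l ∈ L, g * l * g⁻¹ ∈ L) ∧ (∀ l ∈ L, l * t = t * l) ∧
    IsQuasisimple L ∧ pPrimeCore 2 L = ⊥

theorem HasInner.congr {X Y : Type*} [Group X] [Group Y] (e : X ≃* Y) (h : HasInner X) :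
    HasInner Y := by
  obtain ⟨t, L, h1, h2, h3, h4, h5, h6, h7⟩ := h
  refine ⟨e t, L.map e.toMonoidHom, ?_, ?_, ⟨t, h3, rfl⟩, ?_, ?_, ?_, ?_⟩
  · rw [← map_mul, h1, map_one]
  · intro h
    exact h2 (e.injective (by rw [h, map_one]))
  · rintro g hg _ ⟨l, hl, rfl⟩
    obtain ⟨g, rfl⟩ := e.surjective g
    rw [← map_mul, ← map_mul] at hg
    refine ⟨g * l * g⁻¹, h4 g (e.injective hg) l hl, ?_⟩
    simp
  · rintro _ ⟨l, hl, rfl⟩
    change e l * e t = e t * e l
    rw [← map_mul, ← map_mul, h5 l hl]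
  · exact QsBasic.isQuasisimple_of_mulEquiv (L.equivMapOfInjective e.toMonoidHom e.injective) h6
  · have e2 := L.equivMapOfInjective e.toMonoidHom e.injective
    have h8 := Cores.map_equiv_pPrimeCore e2 2
    rw [← h8, h7, Subgroup.map_bot]

theorem false_of_top (h : Hyp G) (ho : AllOdd G) {x : G} {K : Subgroup G} (c : Comp2 x K)
    (hX : HasInner (STop K)) : False := by
  obtain ⟨t, L, h1, h2, h3, h4, h5, h6, h7⟩ := hX
  have hkerodd : Odd (Nat.card (topMap K).ker) := by
    have e1 : Nat.card K = Nat.card (STop K) * Nat.card (topMap K).ker := by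
      have := Subgroup.card_eq_card_quotient_mul_card_subgroup (topMap K).ker
      rw [Nat.card_congr
        (QuotientGroup.quotientKerEquivOfSurjective _ (topMap_surjective K)).toEquiv] at this
      exact this
    have e2 : Nat.card K = Nat.card (Bar K) * Nat.card (oddCore ↥K) :=
      Subgroup.card_eq_card_quotient_mul_card_subgroup _
    have e3 : Nat.card (Bar K) = Nat.card (STop K) * Nat.card (center (Bar K)) :=
      Subgroup.card_eq_card_quotient_mul_card_subgroup _
    have e4 : Nat.card (topMap K).ker = Nat.card (center (Bar K)) * Nat.card (oddCore ↥K) := by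
      have h0 : 0 < Nat.card (STop K) := Nat.card_pos
      apply Nat.eq_of_mul_eq_mul_left h0
      rw [← e1, e2, e3]
      ring
    rw [e4]
    refine (center_card_odd (ho x K c)).mul ?_
    exact Nat.coprime_two_right.1 (Cores.pPrimeCore_coprime (G := K) 2)
  -- lift `t`
  obtain ⟨k, hk⟩ := topMap_surjective K t
  have hkerodd' := hkerodd
  obtain ⟨m, hm⟩ : ∃ m, Nat.card (topMap K).ker = 2 * m + 1 := hkerodd'
  have hkk : (topMap K) (k * k) = 1 := by rw [map_mul, hk, h1]
  have hpow : (k * k) ^ (2 * m + 1) = 1 := by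
    have := pow_card_eq_one' (x := (⟨k * k, (MonoidHom.mem_ker).2 hkk⟩ : (topMap K).ker))
    rw [hm] at this
    exact congrArg Subtype.val this
  set z : K := k ^ (2 * m + 1) with hz
  have hzz : z * z = 1 := by
    rw [hz, ← pow_add, ← hpow, ← pow_two, ← pow_mul]
    congr 1
    ring
  have hzt : topMap K z = t := by
    rw [hz, map_pow, hk, pow_succ, pow_mul, pow_two, h1, one_pow, one_mul]
  have hz1 : (z : G) ≠ 1 := by
    intro h
    apply h2
    have : z = 1 := Subtype.ext h
    rw [← hzt, this, map_one]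
  have hzt' : topMap K ⟨(z : G), z.2⟩ = t := hzt
  obtain ⟨J, hJ, hzJ⟩ := lift_comp (topMap K) (topMap_surjective K) hkerodd z.2
    (congrArg Subtype.val hzz) L (by rw [hzt']; exact h4) (by rw [hzt']; exact h5) h6 h7
    (by rw [hzt']; exact h3)
  exact false_of_comp h ho c (congrArg Subtype.val hzz) hJ hzJ hz1

end Cfsg.Agent.GH.LiftComp
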