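import Cfsg.Agent.ClassificationK.GTwoSylow
import Cfsg.Agent.S1059
import Cfsg.Agent.GH.LowRankCrit
import Cfsg.Agent.GH.Defs

/-!
# Groups with Sylow 2-subgroups of type `G₂(q)`: the sectional 2-rank is at least 4  (GH-0, S0500)
-/

set_option autoImplicit false

namespace Cfsg.Agent.GH.LowRankGTwo

open Cfsg Subgroup Cfsg.Agent.GH.Rank Cfsg.Agent.GH.LowRankCrit

theorem sylow_model {S : Type*} [Group S] (h : Defs.TypeG2 S) :
    ∃ k : ℕ, 1 ≤ k ∧ Nonempty (Cfsg.Agent.ClassificationK.GTwoModel.T (2 * 2 ^ k) ≃* S) := by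
  obtain ⟨F, _, _, hF, P, ⟨e⟩⟩ := h
  obtain ⟨k, hk, ⟨f⟩⟩ := Cfsg.Agent.ClassificationK.GTwoSylow.exists_equiv hF
    (Cfsg.Agent.S1059.result (F := F) rfl) P
  exact ⟨k, hk, ⟨f.trans e.symm⟩⟩

theorem typeG2 {S : Type*} [Group S] (h : Defs.TypeG2 S) : ¬ SectionalPRankLE 2 3 S := by
  obtain ⟨k, hk, ⟨f⟩⟩ := sylow_model h
  obtain ⟨l, rfl⟩ : ∃ l, k = l + 1 := ⟨k - 1, by omega⟩
  have : NeZero (2 * 2 ^ (l + 1)) := ⟨by positivity⟩
  have : Finite S := Finite.of_equiv _ f.toEquiv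
  exact fun h => model (m := 2 * 2 ^ (l + 1)) (k := 2 ^ l) Nat.one_le_two_pow (by ring)
    (of_equiv h f.symm)

/-- groups with Sylow 2-subgroups of type `G₂(q)` (`G₂(q)`, `³D₄(q)`, `M₁₂`) -/
theorem allG2 {X : Type*} [Group X] [Finite X] (h : Defs.AllG2 X) : ¬ SectionalPRankLE 2 3 X := by
  obtain ⟨P⟩ : Nonempty (Sylow 2 X) := inferInstance
  exact fun h' => typeG2 (h P) (of_subgroup h' (P : Subgroup X))

end Cfsg.Agent.GH.LowRankGTwo
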