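import Cfsg.Agent.GH.LowRankD4
import Cfsg.Agent.GH.Defs

/-!
# Lower rank bounds for the members of Lie type of the list `K4`  (GH-0, S0500)
-/

set_option autoImplicit false

namespace Cfsg.Agent.GH.LowRankLieList

open Cfsg Cfsg.Agent.GH.Rank Cfsg.Agent.GH.Defs Cfsg.Agent.GH.LowRankLie Cfsg.Agent.GH.LowRankD4

variable {X : Type*} [Group X] [Finite X]

theorem not_three_of_isSp4odd (h : IsSp4odd X) : ¬ SectionalPRankLE 2 3 X := by
  obtain ⟨F, _, _, hF, ⟨e⟩⟩ := h
  exact fun h3 => psp_four_not_three (two_ne_zero_of_odd hF) (of_equiv h3 e)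

theorem not_three_of_isL4odd (h : IsL4odd X) : ¬ SectionalPRankLE 2 3 X := by
  obtain ⟨F, _, _, hF, -, ⟨e⟩⟩ := h
  exact fun h3 => psl_four_not_three (two_ne_zero_of_odd hF) (of_equiv h3 e)

theorem not_three_of_isU4odd (h : IsU4odd X) : ¬ SectionalPRankLE 2 3 X := by
  obtain ⟨F, _, _, q, hF, hq, -, ⟨e⟩⟩ := h
  exact fun h3 => psu_four_not_three hq (two_ne_zero_of_odd (by rw [hF]; exact hq.pow)) (of_equiv h3 e)

theorem not_three_of_isL5odd (h : IsL5odd X) : ¬ SectionalPRankLE 2 3 X := by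
  obtain ⟨F, _, _, hF, ⟨e⟩⟩ := h
  exact fun h3 => psl_five_not_three (two_ne_zero_of_odd (by rw [Nat.odd_iff]; omega)) (of_equiv h3 e)

theorem not_three_of_isU5odd (h : IsU5odd X) : ¬ SectionalPRankLE 2 3 X := by
  obtain ⟨F, _, _, q, hF, hq, ⟨e⟩⟩ := h
  have hq' : Odd q := by rw [Nat.odd_iff]; omega
  exact fun h3 => psu_five_not_three hq' (two_ne_zero_of_odd (by rw [hF]; exact hq'.pow)) (of_equiv h3 e)

theorem not_three_of_isG2odd (h : IsG2odd X) : ¬ SectionalPRankLE 2 3 X := by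
  obtain ⟨F, _, _, hF, ⟨e⟩⟩ := h
  exact fun h3 => g_two_not_three (two_ne_zero_of_odd hF) (of_equiv h3 e)

theorem not_three_of_isD4odd (h : IsD4odd X) : ¬ SectionalPRankLE 2 3 X := by
  obtain ⟨K, _, _, q, hq, hK, ⟨e⟩⟩ := h
  exact fun h3 => tw_not_three hq hK (of_equiv h3 e)

/-- The members of Lie type (odd characteristic, rank at least two, other than `L₃`, `U₃`) of `K4` have
sectional 2-rank at least four. -/
theorem not_three (h : IsSp4odd X ∨ IsL4odd X ∨ IsU4odd X ∨ IsL5odd X ∨ IsU5odd X ∨ IsG2odd X ∨ IsD4odd X) :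
    ¬ SectionalPRankLE 2 3 X := by
  rcases h with h | h | h | h | h | h | h
  · exact not_three_of_isSp4odd h
  · exact not_three_of_isL4odd h
  · exact not_three_of_isU4odd h
  · exact not_three_of_isL5odd h
  · exact not_three_of_isU5odd h
  · exact not_three_of_isG2odd h
  · exact not_three_of_isD4odd h

end Cfsg.Agent.GH.LowRankLieList
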