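import Mathlib
import Cfsg.Agent.SporadicRecognition.CosetCertHyp
import Cfsg.Agent.GH.MTwCertAll

/-!
# 2.M12: the bound for the order of the group generated by `a, b, z` satisfying the relators
-/

set_option autoImplicit false

namespace Cfsg.Agent.GH.MTwBound

open Cfsg.Agent.SporadicRecognition.CosetCert Cfsg.Agent.SporadicRecognition.CosetCertHyp
open Cfsg.Agent.GH.MTwCertData
open Subgroup

variable {X : Type*} [Group X]

/-- the letters `a, b, b⁻¹, z` -/
def lt (a b z : X) : ℕ → X
  | 0 => a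
  | 1 => b
  | 2 => b⁻¹
  | 3 => z
  | _ => 1

/-- value of a word -/
def ew (a b z : X) (w : List ℕ) : X := ev (lt a b z) w

theorem ew_nil (a b z : X) : ew a b z [] = 1 := rfl
theorem ew_cons (a b z : X) (x : ℕ) (w : List ℕ) : ew a b z (x :: w) = lt a b z x * ew a b z w :=
  ev_cons _ _ _
theorem ew_append (a b z : X) (u v : List ℕ) : ew a b z (u ++ v) = ew a b z u * ew a b z v :=
  ev_append _ _ _

theorem map_lt {Y : Type*} [Group Y] (f : X →* Y) (a b z : X) (x : ℕ) :
    f (lt a b z x) = lt (f a) (f b) (f z) x := by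
  unfold lt
  split <;> simp

theorem map_ew {Y : Type*} [Group Y] (f : X →* Y) (a b z : X) (w : List ℕ) :
    f (ew a b z w) = ew (f a) (f b) (f z) w := by
  induction w with
  | nil => simp [ew_nil]
  | cons x w ih => rw [ew_cons, ew_cons, map_mul, ih, map_lt]

/-- the relations -/
structure Rels (a b z : X) : Prop where
  ha : a * a = 1
  hz : z * z = 1
  hrel : ∀ r ∈ rels, ew a b z r = 1

variable {a b z : X}

theorem Rels.comm_a (h : Rels a b z) : z * a = a * z := by
  have h1 := h.hrel [3,0,3,0] (by decide)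
  simp only [ew_cons, ew_nil, lt, mul_one] at h1
  have h2 : (z * a) * (z * a) = 1 := by rw [mul_assoc]; exact h1
  have h3 : z * a = (z * a)⁻¹ := eq_inv_of_mul_eq_one_left h2
  rw [mul_inv_rev] at h3
  rw [h3, inv_eq_of_mul_eq_one_left h.ha, inv_eq_of_mul_eq_one_left h.hz]

theorem Rels.comm_b (h : Rels a b z) : z * b = b * z := by
  have h1 := h.hrel [3,1,3,2] (by decide)
  simp only [ew_cons, ew_nil, lt, mul_one] at h1
  have h2 : (z * b) * (z * b⁻¹) = 1 := by rw [mul_assoc]; exact h1
  have h3 : z * b = (z * b⁻¹)⁻¹ := eq_inv_of_mul_eq_one_left h2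
  rw [mul_inv_rev, inv_inv] at h3
  rw [h3, inv_eq_of_mul_eq_one_left h.hz]

theorem Rels.pow11 (h : Rels a b z) : (a * b) ^ 11 = 1 := by
  have h1 := h.hrel [0,1,0,1,0,1,0,1,0,1,0,1,0,1,0,1,0,1,0,1,0,1] (by decide)
  simp only [ew_cons, ew_nil, lt, mul_one] at h1
  simp only [pow_succ, pow_zero, one_mul, mul_assoc]
  exact h1

theorem Rels.b3 (h : Rels a b z) : b ^ 3 = 1 := by
  have h1 := h.hrel [1,1,1] (by decide)
  simp only [ew_cons, ew_nil, lt, mul_one] at h1
  simp only [pow_succ, pow_zero, one_mul, mul_assoc]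
  exact h1

theorem Rels.z_eq (h : Rels a b z) : z = ((a * b * a * b * a * b⁻¹) ^ 6)⁻¹ := by
  have h1 := h.hrel [0,1,0,1,0,2,0,1,0,1,0,2,0,1,0,1,0,2,0,1,0,1,0,2,0,1,0,1,0,2,0,1,0,1,0,2,3]
    (by decide)
  simp only [ew_cons, ew_nil, lt, mul_one] at h1
  apply eq_inv_of_mul_eq_one_right
  simp only [pow_succ, pow_zero, one_mul, mul_assoc]
  exact h1

theorem Rels.hyp (h : Rels a b z) : Hyp C (closure {a * b, z}) (lt a b z) := by
  refine hyp_of_checks _ _ C rels subw rfl ?_ h.hrel ?_ (by decide +kernel)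
  · intro x hx
    have hx' : x < 4 := hx
    interval_cases x
    · exact ⟨show (0 : ℕ) < 4 by norm_num, h.ha⟩
    · exact ⟨show (2 : ℕ) < 4 by norm_num, mul_inv_cancel b⟩
    · exact ⟨show (1 : ℕ) < 4 by norm_num, inv_mul_cancel b⟩
    · exact ⟨show (3 : ℕ) < 4 by norm_num, h.hz⟩
  · intro s hs
    have : s = [0, 1] ∨ s = [3] := by simpa [subw] using hs
    rcases this with rfl | rfl
    · have : ev (lt a b z) [0, 1] = a * b := by simp [ev_cons, ev_nil, lt]
      rw [this]; exact subset_closure (by simp)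
    · have : ev (lt a b z) [3] = z := by simp [ev_cons, ev_nil, lt]
      rw [this]; exact subset_closure (by simp)

theorem Rels.comm_ab (h : Rels a b z) : Commute (a * b) z := by
  have h1 : Commute z a := h.comm_a
  have h2 : Commute z b := h.comm_b
  exact (h1.mul_right h2).symm

theorem Rels.sub_le (h : Rels a b z) : closure {a * b, z} ≤ zpowers ((a * b) * z) := by
  rw [closure_le]
  have h1 : ((a * b) * z) ^ 11 = z := by
    rw [h.comm_ab.mul_pow, h.pow11, one_mul, show 11 = 2 * 5 + 1 by norm_num, pow_add, pow_mul,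
      pow_two, h.hz, one_pow, one_mul, pow_one]
  have h2 : ((a * b) * z) ^ 12 = a * b := by
    rw [h.comm_ab.mul_pow, show 12 = 11 + 1 by norm_num, pow_add, h.pow11, one_mul, pow_one,
      show 11 + 1 = 2 * 6 by norm_num, pow_mul, pow_two, h.hz, one_pow, mul_one]
  rintro x hx
  have : x = a * b ∨ x = z := by simpa using hx
  rcases this with rfl | rfl
  · have := zpowers (a * b * z) |>.pow_mem (mem_zpowers _) 12
    rwa [h2] at this
  · have := zpowers (a * b * x) |>.pow_mem (mem_zpowers _) 11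
    rwa [h1] at this

theorem Rels.card_sub_le (h : Rels a b z) {n : ℕ} (hn : 0 < n) (hp : ((a * b) * z) ^ n = 1) :
    Finite (closure {a * b, z}) ∧ Nat.card (closure {a * b, z}) ≤ n := by
  have h1 : IsOfFinOrder ((a * b) * z) := isOfFinOrder_iff_pow_eq_one.mpr ⟨n, hn, hp⟩
  have h2 : Finite (zpowers ((a * b) * z)) := finite_zpowers.mpr h1
  have h3 : Nat.card (zpowers ((a * b) * z)) ≤ n := by
    rw [Nat.card_zpowers]
    exact Nat.le_of_dvd hn (orderOf_dvd_of_pow_eq_one hp)
  have h4 : Finite (closure {a * b, z}) :=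
    Set.Finite.subset (s := (zpowers ((a * b) * z) : Set X)) (Set.toFinite _) h.sub_le
  exact ⟨h4, (Subgroup.card_le_of_le h.sub_le).trans h3⟩

theorem Rels.closure_le (_h : Rels a b z) :
    closure {a, b} ≤ closure (lt a b z '' {x | x < C.k}) := by
  rw [Subgroup.closure_le]
  intro x hx
  have : x = a ∨ x = b := by simpa using hx
  rcases this with rfl | rfl
  · exact subset_closure ⟨0, show (0 : ℕ) < 4 by norm_num, rfl⟩
  · exact subset_closure ⟨1, show (1 : ℕ) < 4 by norm_num, rfl⟩

/-- the order bound -/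
theorem Rels.card_le (h : Rels a b z) {n : ℕ} (hn : 0 < n) (hp : ((a * b) * z) ^ n = 1) :
    Finite (closure {a, b}) ∧ Nat.card (closure {a, b}) ≤ 8640 * n := by
  obtain ⟨h1, h2⟩ := h.card_sub_le hn hp
  obtain ⟨h3, h4⟩ := card_closure_le C (closure {a * b, z}) (lt a b z) h.hyp MTwCertAll.part
  have h5 : Finite (closure {a, b}) :=
    Set.Finite.subset (s := (closure (lt a b z '' {x | x < C.k}) : Set X)) (Set.toFinite _)
      h.closure_le
  exact ⟨h5, (Subgroup.card_le_of_le h.closure_le).trans (h4.trans (Nat.mul_le_mul_left _ h2))⟩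

theorem Rels.card_le_one (h : Rels a b 1) :
    Finite (closure {a, b}) ∧ Nat.card (closure {a, b}) ≤ 95040 :=
  h.card_le (n := 11) (by norm_num) (by rw [mul_one]; exact h.pow11)

theorem Rels.card_le_two (h : Rels a b z) :
    Finite (closure {a, b}) ∧ Nat.card (closure {a, b}) ≤ 190080 := by
  refine h.card_le (n := 22) (by norm_num) ?_
  rw [h.comm_ab.mul_pow, show 22 = 11 * 2 by norm_num, pow_mul, h.pow11, one_pow, one_mul, mul_comm 11 2,
    pow_mul, pow_two, h.hz, one_pow]

theorem Rels.z_mem (h : Rels a b z) : z ∈ closure {a, b} := by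
  rw [h.z_eq]
  have ha : a ∈ closure {a, b} := subset_closure (by simp)
  have hb : b ∈ closure {a, b} := subset_closure (by simp)
  exact inv_mem (pow_mem (mul_mem (mul_mem (mul_mem (mul_mem (mul_mem ha hb) ha) hb) ha)
    (inv_mem hb)) _)

end Cfsg.Agent.GH.MTwBound
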