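import Mathlib

/-!
# Permutations of 48 points packed in natural numbers
-/

set_option autoImplicit false

namespace Cfsg.Agent.GH.MTwCode

/-- digit `i` (base 64) -/
noncomputable def app (c i : ℕ) : ℕ := Nat.land (Nat.shiftRight c (Nat.mul 6 i)) 63

/-- the number with digits `f 0, …, f (n-1)` -/
noncomputable def build (f : ℕ → ℕ) (n : ℕ) : ℕ :=
  Nat.rec (motive := fun _ => ℕ) 0 (fun n ih => Nat.add ih (Nat.shiftLeft (f n) (Nat.mul 6 n))) n

/-- composition -/
noncomputable def comp (c d : ℕ) : ℕ := build (fun i => app c (app d i)) 48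

/-- evaluate `f` at a forced argument -/
noncomputable def force {α : Type} (n : ℕ) (f : ℕ → α) : α :=
  Nat.rec (motive := fun _ => α) (f 0) (fun m _ => f (Nat.succ m)) n

theorem force_eq {α : Type} (n : ℕ) (f : ℕ → α) : force n f = f n := by
  cases n <;> rfl

theorem app_eq (c i : ℕ) : app c i = c / 64 ^ i % 64 := by
  have h1 : app c i = (c >>> (6 * i)) &&& (2 ^ 6 - 1) := rfl
  rw [h1, Nat.and_two_pow_sub_one_eq_mod, Nat.shiftRight_eq_div_pow, pow_mul,
    show (2 : ℕ) ^ 6 = 64 by norm_num]

theorem app_lt (c i : ℕ) : app c i < 64 := by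
  rw [app_eq]; exact Nat.mod_lt _ (by norm_num)

theorem build_succ (f : ℕ → ℕ) (n : ℕ) : build f (n + 1) = build f n + f n * 64 ^ n := by
  have h1 : build f (n + 1) = build f n + (f n) <<< (6 * n) := rfl
  rw [h1, Nat.shiftLeft_eq, pow_mul, show (2 : ℕ) ^ 6 = 64 by norm_num]

theorem build_lt (f : ℕ → ℕ) (hf : ∀ i, f i < 64) (n : ℕ) : build f n < 64 ^ n := by
  induction n with
  | zero => exact Nat.one_pos
  | succ n ih =>
    rw [build_succ, pow_succ]
    have := hf n
    have h2 : f n * 64 ^ n ≤ 63 * 64 ^ n := Nat.mul_le_mul_right _ (by omega)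
    omega

theorem app_build (f : ℕ → ℕ) (hf : ∀ i, f i < 64) (n i : ℕ) (hi : i < n) :
    app (build f n) i = f i := by
  rw [app_eq]
  induction n with
  | zero => omega
  | succ n ih =>
    rw [build_succ]
    rcases Nat.lt_succ_iff_lt_or_eq.mp hi with h | h
    · have h1 : f n * 64 ^ n = 64 ^ i * (f n * 64 ^ (n - i)) := by
        rw [mul_left_comm, ← pow_add]
        congr 2
        omega
      rw [h1, Nat.add_mul_div_left _ _ (by positivity)]
      have h2 : f n * 64 ^ (n - i) = 64 * (f n * 64 ^ (n - i - 1)) := by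
        rw [mul_left_comm, ← pow_succ']
        congr 2
        omega
      rw [h2, Nat.add_mul_mod_self_left]
      exact ih h
    · subst h
      rw [Nat.add_mul_div_right _ _ (by positivity), Nat.div_eq_of_lt (build_lt f hf i), zero_add]
      exact Nat.mod_eq_of_lt (hf i)

theorem build_congr {f g : ℕ → ℕ} (n : ℕ) (h : ∀ i, i < n → f i = g i) : build f n = build g n := by
  induction n with
  | zero => rfl
  | succ n ih =>
    rw [build_succ, build_succ, ih (fun i hi => h i (by omega)), h n (by omega)]

abbrev Pm := Equiv.Perm (Fin 48)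

/-- value of a permutation on a natural number -/
def val (σ : Pm) (i : ℕ) : ℕ := if h : i < 48 then (σ ⟨i, h⟩ : ℕ) else 0

theorem val_lt (σ : Pm) (i : ℕ) : val σ i < 64 := by
  unfold val
  split_ifs
  · have := (σ ⟨i, by assumption⟩).2
    omega
  · norm_num

/-- the code of a permutation -/
noncomputable def code (σ : Pm) : ℕ := build (val σ) 48

theorem app_code (σ : Pm) (i : Fin 48) : app (code σ) i = σ i := by
  rw [code, app_build _ (val_lt σ) _ _ i.2, val, dif_pos i.2]

theorem app_code' (σ : Pm) (i : ℕ) (hi : i < 48) : app (code σ) i = val σ i :=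
  app_build _ (val_lt σ) _ _ hi

theorem code_inj {σ τ : Pm} (h : code σ = code τ) : σ = τ := by
  ext i
  rw [← app_code, h, app_code]

theorem code_mul (σ τ : Pm) : code (σ * τ) = comp (code σ) (code τ) := by
  refine build_congr 48 fun i hi => ?_
  show val (σ * τ) i = app (code σ) (app (code τ) i)
  have h1 : app (code τ) i = (τ ⟨i, hi⟩ : ℕ) := app_code τ ⟨i, hi⟩
  rw [h1, app_code, val, dif_pos hi]
  rfl

/-- check that `c` is a permutation with inverse `d` -/
noncomputable def chk (c d : ℕ) : Bool :=
  (List.range 48).all fun i => Nat.blt (app c i) 48 && Nat.blt (app d i) 48 &&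
    Nat.beq (app d (app c i)) i && Nat.beq (app c (app d i)) i

theorem chk_spec {c d : ℕ} (h : chk c d = true) (i : ℕ) (hi : i < 48) :
    app c i < 48 ∧ app d i < 48 ∧ app d (app c i) = i ∧ app c (app d i) = i := by
  have h1 := List.all_eq_true.mp h i (by simpa using hi)
  simp only [Bool.and_eq_true] at h1
  obtain ⟨⟨⟨h2, h3⟩, h4⟩, h5⟩ := h1
  exact ⟨Nat.le_of_ble_eq_true h2, Nat.le_of_ble_eq_true h3, Nat.eq_of_beq_eq_true h4,
    Nat.eq_of_beq_eq_true h5⟩

/-- the permutation with code `c` -/
noncomputable def mk (c d : ℕ) (h : chk c d = true) : Pm where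
  toFun i := ⟨app c i, (chk_spec h i i.2).1⟩
  invFun i := ⟨app d i, (chk_spec h i i.2).2.1⟩
  left_inv i := Fin.ext (chk_spec h i i.2).2.2.1
  right_inv i := Fin.ext (chk_spec h i i.2).2.2.2

theorem code_mk {c d : ℕ} (h : chk c d = true) (h' : Nat.beq (build (app c) 48) c = true) :
    code (mk c d h) = c := by
  conv_rhs => rw [← Nat.eq_of_beq_eq_true h']
  refine build_congr 48 fun i hi => ?_
  rw [val, dif_pos hi]
  rfl

theorem code_mk_inv {c d : ℕ} (h : chk c d = true) (h' : Nat.beq (build (app d) 48) d = true) :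
    code (mk c d h)⁻¹ = d := by
  conv_rhs => rw [← Nat.eq_of_beq_eq_true h']
  refine build_congr 48 fun i hi => ?_
  rw [val, dif_pos hi]
  rfl

/-- the code of the identity -/
noncomputable def one : ℕ := build (fun i => i) 48

theorem code_one : code (1 : Pm) = one := by
  refine build_congr 48 fun i hi => ?_
  rw [val, dif_pos hi]
  rfl

/-- product of a list of codes -/
noncomputable def prodC (l : List ℕ) : ℕ :=
  List.rec (motive := fun _ => ℕ) one (fun c _ ih => force ih fun x => comp c x) l

theorem prodC_cons (c : ℕ) (l : List ℕ) : prodC (c :: l) = comp c (prodC l) := by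
  show force (prodC l) (fun x => comp c x) = _
  rw [force_eq]

theorem code_prod (l : List Pm) : code l.prod = prodC (l.map code) := by
  induction l with
  | nil => simpa [prodC] using code_one
  | cons σ l ih => rw [List.prod_cons, List.map_cons, prodC_cons, code_mul, ih]

attribute [irreducible] build comp app code

end Cfsg.Agent.GH.MTwCode
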