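import Mathlib
import Cfsg.Prelude.Def_Classical
import Cfsg.Agent.GH.Rank
import Cfsg.Agent.GH.RankLie

/-!
# Lower bounds `r ≥ 4`: alternating groups, `PSL(3,4)`  (GH-0, S0500)
-/

set_option autoImplicit false
set_option maxHeartbeats 400000

namespace Cfsg.Agent.GH.RankLowEl

open Cfsg Cfsg.Agent.GH.Rank

/-- An injective homomorphism from an elementary abelian group of order `16`. -/
theorem not_three_of_hom {E G : Type*} [CommGroup E] [Group G] [Finite G] (f : E →* G)
    (hf : Function.Injective f) (hE : ∀ e : E, e ^ 2 = 1) (hc : 16 ≤ Nat.card E) :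
    ¬ SectionalPRankLE 2 3 G := by
  intro h
  have h1 := card_le_of_homs h f (MonoidHom.id E) Function.surjective_id (fun m hm => by
    have h2 : f m = f 1 := by rw [hm, map_one]
    exact hf h2) hE
  norm_num at h1
  omega

/-! ### alternating groups -/

/-- the embedding of eight points -/
def emb (n : ℕ) (h : 8 ≤ n) : Fin 4 ⊕ Fin 4 ↪ Fin n :=
  (finSumFinEquiv (m := 4) (n := 4)).toEmbedding.trans (Fin.castLEEmb h)

/-- `V × V → S_n` -/
noncomputable def homS (n : ℕ) (h : 8 ≤ n) : (ℤˣ × ℤˣ) × (ℤˣ × ℤˣ) →* Equiv.Perm (Fin n) :=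
  (Equiv.Perm.viaEmbeddingHom (emb n h)).comp ((Equiv.Perm.sumCongrHom (Fin 4) (Fin 4)).comp
    (MonoidHom.prodMap RankLie.tau4 RankLie.tau4))

theorem sign_homS (n : ℕ) (h : 8 ≤ n) (x : (ℤˣ × ℤˣ) × (ℤˣ × ℤˣ)) :
    Equiv.Perm.sign (homS n h x) = 1 := by
  classical
  have h1 : homS n h x = Equiv.Perm.viaEmbedding
      (Equiv.Perm.sumCongr (RankLie.tau4 x.1) (RankLie.tau4 x.2)) (emb n h) := rfl
  rw [h1]
  unfold Equiv.Perm.viaEmbedding
  rw [Equiv.Perm.sign_extendDomain, Equiv.Perm.sign_sumCongr]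
  have h2 : ∀ σ, Equiv.Perm.sign (RankLie.tau4 σ) = 1 := RankLie.tab4.sign
  rw [h2, h2, one_mul]

theorem tau4_injective : Function.Injective RankLie.tau4 := by
  rw [injective_iff_map_eq_one]
  have h : ∀ σ : ℤˣ × ℤˣ, RankLie.tau4 σ = 1 → σ = 1 := by decide
  exact h

/-- `V × V → A_n` -/
noncomputable def homA (n : ℕ) (h : 8 ≤ n) : (ℤˣ × ℤˣ) × (ℤˣ × ℤˣ) →* alternatingGroup (Fin n) :=
  (homS n h).codRestrict (alternatingGroup (Fin n)) (fun x =>
    Equiv.Perm.mem_alternatingGroup.2 (sign_homS n h x))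

theorem homA_injective (n : ℕ) (h : 8 ≤ n) : Function.Injective (homA n h) := by
  have h1 : Function.Injective (homS n h) := by
    refine (Equiv.Perm.viaEmbeddingHom_injective _).comp ((Equiv.Perm.sumCongrHom_injective).comp ?_)
    intro x y hxy
    have h2 := Prod.ext_iff.1 hxy
    exact Prod.ext (tau4_injective h2.1) (tau4_injective h2.2)
  intro x y hxy
  exact h1 (congrArg Subtype.val hxy)

theorem alt_low {n : ℕ} (h : 8 ≤ n) : ¬ SectionalPRankLE 2 3 (alternatingGroup (Fin n)) := by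
  refine not_three_of_hom (homA n h) (homA_injective n h) ?_ ?_
  · decide
  · rw [Nat.card_eq_fintype_card]
    decide

/-! ### `PSL(3,4)` -/

section L34

variable {F : Type*} [Field F] [Finite F]

/-- the root elements -/
def up (a b : F) : Matrix.SpecialLinearGroup (Fin 3) F :=
  ⟨!![1, 0, a; 0, 1, b; 0, 0, 1], by simp [Matrix.det_fin_three]⟩

theorem coe_up (a b : F) : ((up a b : Matrix.SpecialLinearGroup (Fin 3) F) :
    Matrix (Fin 3) (Fin 3) F) = !![1, 0, a; 0, 1, b; 0, 0, 1] := rfl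

theorem up_mul (a b c d : F) : up a b * up c d = up (a + c) (b + d) := by
  apply Subtype.ext
  rw [Matrix.SpecialLinearGroup.coe_mul, coe_up, coe_up, coe_up]
  ext i j
  fin_cases i <;> fin_cases j <;> simp [Matrix.mul_apply, Fin.sum_univ_three, add_comm]

/-- the hom into `PSL₃` -/
def homU : Multiplicative (F × F) →* Matrix.ProjectiveSpecialLinearGroup (Fin 3) F :=
  (QuotientGroup.mk' (Subgroup.center (Matrix.SpecialLinearGroup (Fin 3) F))).comp
    (MonoidHom.mk' (fun v => up (Multiplicative.toAdd v).1 (Multiplicative.toAdd v).2) (by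
      intro v w
      rw [up_mul]
      rfl))

theorem homU_injective : Function.Injective (homU (F := F)) := by
  rw [injective_iff_map_eq_one]
  intro v hv
  obtain ⟨⟨a, b⟩, rfl⟩ := Multiplicative.ofAdd.surjective v
  have h1 : up a b ∈ Subgroup.center (Matrix.SpecialLinearGroup (Fin 3) F) :=
    (QuotientGroup.eq_one_iff _).1 hv
  obtain ⟨r, -, hr⟩ := Matrix.SpecialLinearGroup.mem_center_iff.1 h1
  rw [coe_up] at hr
  have e1 := congrFun (congrFun hr 0) 2
  have e2 := congrFun (congrFun hr 1) 2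
  simp [Matrix.scalar_apply, Matrix.diagonal] at e1 e2
  have h2 : (a, b) = (0 : F × F) := Prod.ext e1.symm e2.symm
  rw [h2]
  rfl

theorem psl_three_low (h4 : Nat.card F = 4) :
    ¬ SectionalPRankLE 2 3 (Matrix.ProjectiveSpecialLinearGroup (Fin 3) F) := by
  have h2 : (2 : F) = 0 := by
    have := Fintype.ofFinite F
    have h5 : ((4 : ℕ) : F) = 0 := by
      rw [← h4, Nat.card_eq_fintype_card]
      exact FiniteField.cast_card_eq_zero F
    have h6 : (2 : F) * 2 = 0 := by
      push_cast at h5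
      linear_combination h5
    rcases mul_eq_zero.1 h6 with h | h <;> exact h
  refine not_three_of_hom homU homU_injective ?_ ?_
  · intro e
    obtain ⟨⟨a, b⟩, rfl⟩ := Multiplicative.ofAdd.surjective e
    rw [← ofAdd_nsmul]
    have h3 : (2 : ℕ) • ((a, b) : F × F) = 0 := by
      refine Prod.ext ?_ ?_ <;> simp [two_mul, ← two_mul, h2, nsmul_eq_mul]
    rw [h3]
    rfl
  · have h3 : Nat.card (Multiplicative (F × F)) = Nat.card (F × F) := rfl
    rw [h3, Nat.card_prod, h4]

end L34

end Cfsg.Agent.GH.RankLowEl
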