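import Mathlib
import Cfsg.Prelude.Def_Classical
import Cfsg.Agent.GH.Rank
import Cfsg.Agent.GH.RankLie

/-!
# Lower bounds `r ≥ 4` for `PSL(4,q)`, `PSL(5,q)`, `PSU(4,q)`, `PSU(5,q)`, `q` odd  (GH-0, S0500)

The section is `2^{1+4} / Z(2^{1+4})`, with `2^{1+4}` the group of signed permutation matrices generated
by `diag(1,1,-1,-1)`, `diag(1,-1,1,-1)` and the normal four-subgroup of the symmetric group of degree
four.
-/

set_option autoImplicit false
set_option maxHeartbeats 400000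

namespace Cfsg.Agent.GH.RankLowMat

open Cfsg Cfsg.Agent.GH.Rank Cfsg.Agent.GH.RankLie

/-- The action of `V = ℤˣ × ℤˣ` on `ℤ³`. -/
def actF (σ : ℤˣ × ℤˣ) (v : ℤ × ℤ × ℤ) : ℤ × ℤ × ℤ :=
  (v.1 + (if σ.1 = 1 then 0 else v.2.1) + (if σ.2 = 1 then 0 else v.2.2),
    (σ.1 : ℤ) * v.2.1, (σ.2 : ℤ) * v.2.2)

theorem actF_one (v : ℤ × ℤ × ℤ) : actF 1 v = v := by
  simp [actF]

theorem actF_mul (σ τ : ℤˣ × ℤˣ) (v : ℤ × ℤ × ℤ) : actF (σ * τ) v = actF σ (actF τ v) := by
  obtain ⟨a, b, c⟩ := v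
  obtain ⟨s1, s2⟩ := σ
  obtain ⟨t1, t2⟩ := τ
  rcases Int.units_eq_one_or s1 with rfl | rfl <;> rcases Int.units_eq_one_or s2 with rfl | rfl <;>
    rcases Int.units_eq_one_or t1 with rfl | rfl <;> rcases Int.units_eq_one_or t2 with rfl | rfl <;>
    refine Prod.ext ?_ (Prod.ext ?_ ?_) <;> simp [actF] <;> ring

theorem actF_add (σ : ℤˣ × ℤˣ) (v w : ℤ × ℤ × ℤ) : actF σ (v + w) = actF σ v + actF σ w := by
  obtain ⟨a, b, c⟩ := v
  obtain ⟨a', b', c'⟩ := w
  obtain ⟨s1, s2⟩ := σ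
  rcases Int.units_eq_one_or s1 with rfl | rfl <;> rcases Int.units_eq_one_or s2 with rfl | rfl <;>
    refine Prod.ext ?_ (Prod.ext ?_ ?_) <;> simp [actF] <;> ring

/-- The action as a homomorphism. -/
def act : ℤˣ × ℤˣ →* MulAut (Multiplicative (ℤ × ℤ × ℤ)) where
  toFun σ :=
    { toFun := fun v => Multiplicative.ofAdd (actF σ (Multiplicative.toAdd v))
      invFun := fun v => Multiplicative.ofAdd (actF σ⁻¹ (Multiplicative.toAdd v))
      left_inv := by
        intro v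
        show Multiplicative.ofAdd (actF σ⁻¹ (Multiplicative.toAdd (Multiplicative.ofAdd
          (actF σ (Multiplicative.toAdd v))))) = v
        rw [toAdd_ofAdd, ← actF_mul, inv_mul_cancel, actF_one, ofAdd_toAdd]
      right_inv := by
        intro v
        show Multiplicative.ofAdd (actF σ (Multiplicative.toAdd (Multiplicative.ofAdd
          (actF σ⁻¹ (Multiplicative.toAdd v))))) = v
        rw [toAdd_ofAdd, ← actF_mul, mul_inv_cancel, actF_one, ofAdd_toAdd]
      map_mul' := by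
        intro v w
        rw [toAdd_mul, actF_add, ofAdd_add] }
  map_one' := by
    refine MulEquiv.ext fun v => ?_
    show Multiplicative.ofAdd (actF 1 (Multiplicative.toAdd v)) = v
    rw [actF_one, ofAdd_toAdd]
  map_mul' σ τ := by
    refine MulEquiv.ext fun v => ?_
    show Multiplicative.ofAdd (actF (σ * τ) (Multiplicative.toAdd v)) =
      Multiplicative.ofAdd (actF σ (Multiplicative.toAdd (Multiplicative.ofAdd
        (actF τ (Multiplicative.toAdd v)))))
    rw [actF_mul, toAdd_ofAdd]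

theorem act_apply (σ : ℤˣ × ℤˣ) (v : Multiplicative (ℤ × ℤ × ℤ)) :
    Multiplicative.toAdd (act σ v) = actF σ (Multiplicative.toAdd v) := rfl

/-- The group `M`. -/
abbrev M : Type := Multiplicative (ℤ × ℤ × ℤ) ⋊[act] (ℤˣ × ℤˣ)

/-- Its elementary abelian quotient of order `16`. -/
abbrev E : Type := Multiplicative (ZMod 2 × ZMod 2) × (ℤˣ × ℤˣ)

theorem card_E : Nat.card E = 16 := by
  rw [Nat.card_eq_fintype_card]
  rfl

theorem sq_E (e : E) : e ^ 2 = 1 := by
  revert e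
  decide

/-- Reduction modulo two and the centre. -/
def red : M →* E := MonoidHom.mk' (fun m => (Multiplicative.ofAdd
    (((Multiplicative.toAdd m.left).2.1 : ZMod 2), ((Multiplicative.toAdd m.left).2.2 : ZMod 2)),
      m.right)) (by
  intro m m'
  refine Prod.ext ?_ rfl
  apply Multiplicative.toAdd.injective
  rw [SemidirectProduct.mul_left]
  rcases Int.units_eq_one_or m.right.1 with h1 | h1 <;>
    rcases Int.units_eq_one_or m.right.2 with h2 | h2 <;>
    simp [act_apply, actF, h1, h2])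

theorem red_surjective : Function.Surjective red := by
  rintro ⟨v, σ⟩
  obtain ⟨⟨a, b⟩, rfl⟩ := Multiplicative.ofAdd.surjective v
  refine ⟨⟨Multiplicative.ofAdd ((0 : ℤ), (a.val : ℤ), (b.val : ℤ)), σ⟩, ?_⟩
  refine Prod.ext ?_ rfl
  apply Multiplicative.toAdd.injective
  simp [red]

theorem red_eq_one {m : M} (ha : (2 : ℤ) ∣ (Multiplicative.toAdd m.left).2.1)
    (hb : (2 : ℤ) ∣ (Multiplicative.toAdd m.left).2.2) (hr : m.right = 1) : red m = 1 := by
  refine Prod.ext ?_ hr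
  apply Multiplicative.toAdd.injective
  have h : ∀ z : ℤ, (2 : ℤ) ∣ z → ((z : ZMod 2)) = 0 := fun z hz =>
    (ZMod.intCast_zmod_eq_zero_iff_dvd z 2).2 (by exact_mod_cast hz)
  exact Prod.ext (h _ ha) (h _ hb)

section Rep

variable {n : ℕ} {K : Type*} [Field K]

/-- Tables. -/
structure Tab (n : ℕ) where
  s : Fin 3 → Fin n → ℤ
  τ : ℤˣ × ℤˣ →* Equiv.Perm (Fin n)
  h1 : ∀ σ i, s 0 i = s 0 ((τ σ)⁻¹ i)
  h2 : ∀ (σ : ℤˣ × ℤˣ) (i : Fin n), (if σ.1 = 1 then 0 else s 0 i) + (σ.1 : ℤ) * s 1 i = s 1 ((τ σ)⁻¹ i)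
  h3 : ∀ (σ : ℤˣ × ℤˣ) (i : Fin n), (if σ.2 = 1 then 0 else s 0 i) + (σ.2 : ℤ) * s 2 i = s 2 ((τ σ)⁻¹ i)
  sum : ∀ k, (2 : ℤ) ∣ ∑ i, s k i
  sign : ∀ σ, Equiv.Perm.sign (τ σ) = 1

/-- The exponent of the `i`-th diagonal entry. -/
def Tab.ex (T : Tab n) (v : Multiplicative (ℤ × ℤ × ℤ)) (i : Fin n) : ℤ :=
  (Multiplicative.toAdd v).1 * T.s 0 i + (Multiplicative.toAdd v).2.1 * T.s 1 i +
    (Multiplicative.toAdd v).2.2 * T.s 2 i

theorem Tab.ex_mul (T : Tab n) (v w : Multiplicative (ℤ × ℤ × ℤ)) (i : Fin n) :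
    T.ex (v * w) i = T.ex v i + T.ex w i := by
  simp only [Tab.ex, toAdd_mul, Prod.fst_add, Prod.snd_add]
  ring

theorem Tab.ex_act (T : Tab n) (σ : ℤˣ × ℤˣ) (v : Multiplicative (ℤ × ℤ × ℤ)) (i : Fin n) :
    T.ex (act σ v) i = T.ex v ((T.τ σ)⁻¹ i) := by
  simp only [Tab.ex, ← T.h1 σ i, ← T.h2 σ i, ← T.h3 σ i, act_apply, actF]
  split_ifs <;> ring

theorem Tab.sum_ex (T : Tab n) (v : Multiplicative (ℤ × ℤ × ℤ)) : (2 : ℤ) ∣ ∑ i, T.ex v i := by
  simp only [Tab.ex, Finset.sum_add_distrib, ← Finset.mul_sum]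
  exact dvd_add (dvd_add (dvd_mul_of_dvd_right (T.sum 0) _) (dvd_mul_of_dvd_right (T.sum 1) _))
    (dvd_mul_of_dvd_right (T.sum 2) _)

/-- The representation `M → SL(n, K)`. -/
noncomputable def Tab.rep (T : Tab n) (K : Type*) [Field K] :
    M →* Matrix.SpecialLinearGroup (Fin n) K :=
  MonoidHom.mk' (fun m => ⟨mm (fun i => (((-1 : Kˣ) ^ T.ex m.left i : Kˣ) : K)) (T.τ m.right), by
    obtain ⟨k, hk⟩ := T.sum_ex m.left
    rw [mm_det, T.sign, ← Units.coe_prod, prod_zpow_eq, hk, zpow_mul, zpow_ofNat]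
    simp⟩) (by
    intro m m'
    apply Subtype.ext
    change mm _ _ = mm _ _ * mm _ _
    rw [mm_mul, SemidirectProduct.mul_right, map_mul]
    congr 1
    funext i
    rw [SemidirectProduct.mul_left, T.ex_mul, T.ex_act, zpow_add, Units.val_mul])

theorem Tab.coe_rep (T : Tab n) (m : M) :
    ((T.rep K m : Matrix.SpecialLinearGroup (Fin n) K) : Matrix (Fin n) (Fin n) K) =
      mm (fun i => (((-1 : Kˣ) ^ T.ex m.left i : Kˣ) : K)) (T.τ m.right) := rfl

theorem main [Finite K] (T : Tab n) {S : Type*} [Group S] [Finite S]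
    (ι : S →* Matrix.SpecialLinearGroup (Fin n) K) (f : M →* S) (hf : ∀ m, ι (f m) = T.rep K m)
    (hπ : ∀ π : Equiv.Perm (Fin n), ∀ h : Equiv.Perm.sign π = 1, ∃ s : S, ι s = pm K π h)
    (hker : ∀ m : M, (∀ i j, (-1 : Kˣ) ^ T.ex m.left i = (-1) ^ T.ex m.left j) →
      (∀ π : Equiv.Perm (Fin n), Equiv.Perm.sign π = 1 → T.τ m.right * π = π * T.τ m.right) →
      red m = 1) (htr : ∀ i j : Fin n, ∃ π : Equiv.Perm (Fin n), Equiv.Perm.sign π = 1 ∧ π⁻¹ i = j) :
    ¬ SectionalPRankLE 2 3 (S ⧸ Subgroup.center S) := by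
  intro h
  have h1 := card_le_of_homs h ((QuotientGroup.mk' (Subgroup.center S)).comp f) red red_surjective
    (fun m hm => by
      have hm' : f m ∈ Subgroup.center S := (QuotientGroup.eq_one_iff (f m)).1 hm
      have hc : ∀ π : Equiv.Perm (Fin n), Equiv.Perm.sign π = 1 →
          (∀ i, (((-1 : Kˣ) ^ T.ex m.left i : Kˣ) : K) = (((-1) ^ T.ex m.left (π⁻¹ i) : Kˣ) : K)) ∧
            T.τ m.right * π = π * T.τ m.right := by
        intro π hs
        obtain ⟨s, hs'⟩ := hπ π hs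
        have h2 := (Subgroup.mem_center_iff.1 hm') s
        have h3 := congrArg ι h2
        rw [map_mul, map_mul, hs', hf] at h3
        have h4 := congrArg Subtype.val h3
        exact mm_comm_iff (fun i => Units.ne_zero _) h4.symm
      refine hker m (fun i j => ?_) (fun π hs => (hc π hs).2)
      obtain ⟨π, hs, hij⟩ := htr i j
      have := (hc π hs).1 i
      rw [hij] at this
      exact Units.ext this) sq_E
  rw [card_E] at h1
  norm_num at h1

end Rep

/-- The table in degree four. -/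
def tab4 : Tab 4 where
  s := ![![1, 1, 1, 1], ![0, 0, 1, 1], ![0, 1, 0, 1]]
  τ := tau4
  h1 := by decide
  h2 := by decide
  h3 := by decide
  sum := by decide
  sign := by decide

/-- The table in degree five. -/
def tab5 : Tab 5 where
  s := ![![1, 1, 1, 1, 0], ![0, 0, 1, 1, 0], ![0, 1, 0, 1, 0]]
  τ := tau5
  h1 := by decide
  h2 := by decide
  h3 := by decide
  sum := by decide
  sign := by decide

section Final

set_option linter.unusedSectionVars false

variable {K : Type*} [Field K] [Finite K]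

theorem order_neg_one (h2 : (2 : K) ≠ 0) : orderOf (-1 : Kˣ) = 2 := by
  apply orderOf_eq_prime
  · simp
  · intro h
    apply h2
    have h1 := congrArg (fun u : Kˣ => (u : K)) h
    simp only [Units.val_neg, Units.val_one] at h1
    linear_combination -h1

theorem hker4 (h2 : (2 : K) ≠ 0) (m : M)
    (h1 : ∀ i j, (-1 : Kˣ) ^ tab4.ex m.left i = (-1) ^ tab4.ex m.left j)
    (hc : ∀ π : Equiv.Perm (Fin 4), Equiv.Perm.sign π = 1 →
      tab4.τ m.right * π = π * tab4.τ m.right) : red m = 1 := by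
  have h3 : m.right = 1 := by
    have h4 : ∀ σ : ℤˣ × ℤˣ, tau4 σ * (Equiv.swap 0 1 * Equiv.swap 1 2) =
      (Equiv.swap 0 1 * Equiv.swap 1 2) * tau4 σ → σ = 1 := by decide
    exact h4 _ (hc _ (by decide))
  have h5 : ∀ i j, (2 : ℤ) ∣ tab4.ex m.left i - tab4.ex m.left j := by
    intro i j
    have h6 : (-1 : Kˣ) ^ (tab4.ex m.left i - tab4.ex m.left j) = 1 := by
      rw [zpow_sub, h1 i j, mul_inv_cancel]
    have := orderOf_dvd_iff_zpow_eq_one.2 h6
    rw [order_neg_one h2] at this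
    exact_mod_cast this
  have e0 := h5 0 1
  have e1 := h5 0 2
  simp only [Tab.ex, tab4, Matrix.cons_val_zero, Matrix.cons_val_one, Matrix.cons_val] at e0 e1
  exact red_eq_one (by omega) (by omega) h3

theorem hker5 (h2 : (2 : K) ≠ 0) (m : M)
    (h1 : ∀ i j, (-1 : Kˣ) ^ tab5.ex m.left i = (-1) ^ tab5.ex m.left j)
    (hc : ∀ π : Equiv.Perm (Fin 5), Equiv.Perm.sign π = 1 →
      tab5.τ m.right * π = π * tab5.τ m.right) : red m = 1 := by
  have h3 : m.right = 1 := by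
    have h4 : ∀ σ : ℤˣ × ℤˣ, tau5 σ * (Equiv.swap 0 1 * Equiv.swap 1 2) =
      (Equiv.swap 0 1 * Equiv.swap 1 2) * tau5 σ → σ = 1 := by decide
    exact h4 _ (hc _ (by decide))
  have h5 : ∀ i j, (2 : ℤ) ∣ tab5.ex m.left i - tab5.ex m.left j := by
    intro i j
    have h6 : (-1 : Kˣ) ^ (tab5.ex m.left i - tab5.ex m.left j) = 1 := by
      rw [zpow_sub, h1 i j, mul_inv_cancel]
    have := orderOf_dvd_iff_zpow_eq_one.2 h6
    rw [order_neg_one h2] at this
    exact_mod_cast this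
  have e0 := h5 0 1
  have e1 := h5 0 2
  simp only [Tab.ex, tab5, Matrix.cons_val_zero, Matrix.cons_val_one, Matrix.cons_val] at e0 e1
  exact red_eq_one (by omega) (by omega) h3

theorem two_ne_zero_of_odd (h : Odd (Nat.card K)) : (2 : K) ≠ 0 := by
  have := Fintype.ofFinite K
  intro h2
  have h3 : ringChar K = 2 := CharP.ringChar_of_prime_eq_zero Nat.prime_two (by exact_mod_cast h2)
  have h4 := FiniteField.even_card_of_char_two h3
  rw [Nat.card_eq_fintype_card, Nat.odd_iff] at h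
  omega

theorem psl_four_low (h : Odd (Nat.card K)) :
    ¬ SectionalPRankLE 2 3 (Matrix.ProjectiveSpecialLinearGroup (Fin 4) K) :=
  main tab4 (MonoidHom.id _) (tab4.rep K) (fun _ => rfl) (fun π h => ⟨pm K π h, rfl⟩)
    (hker4 (two_ne_zero_of_odd h)) htr4

theorem psl_five_low (h : Odd (Nat.card K)) :
    ¬ SectionalPRankLE 2 3 (Matrix.ProjectiveSpecialLinearGroup (Fin 5) K) :=
  main tab5 (MonoidHom.id _) (tab5.rep K) (fun _ => rfl) (fun π h => ⟨pm K π h, rfl⟩)
    (hker5 (two_ne_zero_of_odd h)) htr5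

theorem psu_aux {n q : ℕ} (T : Tab n) (hq : Odd q)
    (hker : ∀ m : M, (∀ i j, (-1 : Kˣ) ^ T.ex m.left i = (-1) ^ T.ex m.left j) →
      (∀ π : Equiv.Perm (Fin n), Equiv.Perm.sign π = 1 → T.τ m.right * π = π * T.τ m.right) →
      red m = 1) (htr : ∀ i j : Fin n, ∃ π : Equiv.Perm (Fin n), Equiv.Perm.sign π = 1 ∧ π⁻¹ i = j) :
    ¬ SectionalPRankLE 2 3 (PSU n K q) := by
  have ht : (-1 : Kˣ) ^ (q + 1) = 1 := Even.neg_one_pow hq.add_one
  have h1 : ∀ m : M, T.rep K m ∈ SU n K q := by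
    intro m u v
    rw [slToMat_apply, T.coe_rep]
    refine mm_herm (fun i => ?_) _ u v
    rw [← Units.val_pow_eq_pow_val, ← zpow_natCast, ← zpow_mul, mul_comm, zpow_mul, zpow_natCast, ht,
      one_zpow, Units.val_one]
  have h2 : ∀ (π : Equiv.Perm (Fin n)) (h : Equiv.Perm.sign π = 1), pm K π h ∈ SU n K q := by
    intro π h u v
    rw [slToMat_apply]
    exact mm_herm (fun i => one_pow _) _ u v
  exact main T (SU n K q).subtype ((T.rep K).codRestrict (SU n K q) h1) (fun _ => rfl)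
    (fun π h => ⟨⟨pm K π h, h2 π h⟩, rfl⟩) hker htr

theorem odd_card {q : ℕ} (hK : Nat.card K = q ^ 2) (hq : Odd q) : Odd (Nat.card K) := by
  rw [hK]
  exact hq.pow

theorem psu_four_low {q : ℕ} (hK : Nat.card K = q ^ 2) (hq : Odd q) :
    ¬ SectionalPRankLE 2 3 (PSU 4 K q) :=
  psu_aux tab4 hq (hker4 (two_ne_zero_of_odd (odd_card hK hq))) htr4

theorem psu_five_low {q : ℕ} (hK : Nat.card K = q ^ 2) (hq : Odd q) :
    ¬ SectionalPRankLE 2 3 (PSU 5 K q) :=
  psu_aux tab5 hq (hker5 (two_ne_zero_of_odd (odd_card hK hq))) htr5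

end Final

end Cfsg.Agent.GH.RankLowMat
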