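import Mathlib
import Cfsg.Prelude.Def_Classical
import Cfsg.Agent.GH.RankLowEl
import Cfsg.Agent.GH.RankLowMat
import Cfsg.Agent.ClassificationK.GTwoSL
import Cfsg.Agent.ClassificationK.GTwoChev
import Cfsg.Agent.MTwelveType.SylowModel

/-!
# Lower bounds `r ≥ 4`: the model group `T m`, `G₂(q)`, `M₁₂`  (GH-0, S0500)
-/

set_option autoImplicit false
set_option maxHeartbeats 400000

namespace Cfsg.Agent.GH.RankLowT

open Cfsg Cfsg.Agent.GH.Rank
open Cfsg.Agent.ClassificationK.GTwoModel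

/-- the sections -/
def phi (x : T 4) : ZMod 2 × ZMod 2 × ZMod 2 × ZMod 2 :=
  (ZMod.castHom (by norm_num : 2 ∣ 4) (ZMod 2) x.i, (if x.i = x.j then 0 else 1), bit x.e, bit x.d)

theorem phi_mul' : ∀ i j i' j' : ZMod 4, ∀ e d e' d' : Bool, i + i + j + j = 0 →
    i' + i' + j' + j' = 0 →
    phi ((⟨i, j, e, d⟩ : T 4) * ⟨i', j', e', d'⟩) = phi ⟨i, j, e, d⟩ + phi ⟨i', j', e', d'⟩ := by
  decide +kernel

theorem mem_mul' : ∀ i j i' j' : ZMod 4, ∀ e d e' d' : Bool, i + i + j + j = 0 →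
    i' + i' + j' + j' = 0 →
    ((⟨i, j, e, d⟩ : T 4) * ⟨i', j', e', d'⟩).i + ((⟨i, j, e, d⟩ : T 4) * ⟨i', j', e', d'⟩).i +
    ((⟨i, j, e, d⟩ : T 4) * ⟨i', j', e', d'⟩).j + ((⟨i, j, e, d⟩ : T 4) * ⟨i', j', e', d'⟩).j = 0 := by
  decide +kernel

theorem mem_inv' : ∀ i j : ZMod 4, ∀ e d : Bool, i + i + j + j = 0 →
    (⟨i, j, e, d⟩ : T 4)⁻¹.i + (⟨i, j, e, d⟩ : T 4)⁻¹.i +
    (⟨i, j, e, d⟩ : T 4)⁻¹.j + (⟨i, j, e, d⟩ : T 4)⁻¹.j = 0 := by
  decide +kernel

/-- the subgroup of index `2` -/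
def M : Subgroup (T 4) where
  carrier := {x | x.i + x.i + x.j + x.j = 0}
  mul_mem' := by
    rintro ⟨i, j, e, d⟩ ⟨i', j', e', d'⟩ h h'
    exact mem_mul' i j i' j' e d e' d' h h'
  one_mem' := by
    change (0 : ZMod 4) + 0 + 0 + 0 = 0
    decide
  inv_mem' := by
    rintro ⟨i, j, e, d⟩ h
    exact mem_inv' i j e d h

/-- the map onto `E₁₆` -/
def homM : M →* Multiplicative (ZMod 2 × ZMod 2 × ZMod 2 × ZMod 2) :=
  MonoidHom.mk' (fun x => Multiplicative.ofAdd (phi x.1)) (by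
    rintro ⟨⟨i, j, e, d⟩, h⟩ ⟨⟨i', j', e', d'⟩, h'⟩
    rw [← ofAdd_add]
    exact congrArg Multiplicative.ofAdd (phi_mul' i j i' j' e d e' d' h h'))

theorem phi_surj : ∀ a b c f : ZMod 2, ∃ i j : ZMod 4, ∃ e d : Bool, i + i + j + j = 0 ∧
    phi ⟨i, j, e, d⟩ = (a, b, c, f) := by
  decide +kernel

theorem homM_surjective : Function.Surjective homM := by
  intro v
  obtain ⟨⟨a, b, c, f⟩, rfl⟩ := Multiplicative.ofAdd.surjective v
  obtain ⟨i, j, e, d, h, h'⟩ := phi_surj a b c f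
  exact ⟨⟨⟨i, j, e, d⟩, h⟩, congrArg Multiplicative.ofAdd h'⟩

theorem t4_low : ¬ SectionalPRankLE 2 3 (T 4) := by
  intro h
  have : NeZero 4 := ⟨by norm_num⟩
  have h1 := card_le_of_homs h M.subtype homM homM_surjective (fun m hm => by
    have h2 : m = 1 := M.subtype_injective (by rw [hm, map_one])
    rw [h2, map_one]) (by decide)
  have h2 : Nat.card (Multiplicative (ZMod 2 × ZMod 2 × ZMod 2 × ZMod 2)) = 16 := by
    change Nat.card (ZMod 2 × ZMod 2 × ZMod 2 × ZMod 2) = 16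
    simp
  omega

/-- reduction modulo a divisor -/
def red (m n : ℕ) (h : n ∣ m) : T m →* T n where
  toFun x := ⟨ZMod.castHom h (ZMod n) x.i, ZMod.castHom h (ZMod n) x.j, x.e, x.d⟩
  map_one' := by
    rw [T.one_def, T.one_def]
    simp only [map_zero]
  map_mul' := by
    rintro ⟨i, j, e, d⟩ ⟨i', j', e', d'⟩
    rw [T.mul_mk, T.mul_mk]
    cases e <;> cases d <;>
      simp only [sg_true, sg_false, cond_true, cond_false, map_add, map_mul, map_neg, map_one]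

theorem red_surjective (m n : ℕ) (h : n ∣ m) : Function.Surjective (red m n h) := by
  rintro ⟨i, j, e, d⟩
  obtain ⟨i', hi⟩ := ZMod.castHom_surjective h i
  obtain ⟨j', hj⟩ := ZMod.castHom_surjective h j
  refine ⟨⟨i', j', e, d⟩, ?_⟩
  change (⟨ZMod.castHom h (ZMod n) i', ZMod.castHom h (ZMod n) j', e, d⟩ : T n) = _
  rw [hi, hj]

theorem t_low {m : ℕ} [NeZero m] (h : 4 ∣ m) : ¬ SectionalPRankLE 2 3 (T m) := fun h1 =>
  t4_low (of_surjective h1 (red m 4 h) (red_surjective m 4 h))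

theorem g2_low {F : Type*} [Field F] [Finite F] (hodd : Odd (Nat.card F)) :
    ¬ SectionalPRankLE 2 3 ↥(Lie.chevG2.group F) := by
  intro h
  obtain ⟨k, m, hk, -, -, he⟩ := Cfsg.Agent.ClassificationK.GTwoSL.exists_elements F hodd
  have h2 : (2 : F) ≠ 0 := RankLowMat.two_ne_zero_of_odd hodd
  obtain ⟨f, hf⟩ := Cfsg.Agent.ClassificationK.GTwoChev.exists_embedding k hk h2 he
  have : NeZero (2 * 2 ^ k) := ⟨by positivity⟩
  have hfin : Finite ↥(Lie.chevG2.group F) := inferInstance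
  refine t_low ?_ (of_injective h f hf)
  obtain ⟨k', rfl⟩ := Nat.exists_eq_add_of_le hk
  exact ⟨2 ^ k', by rw [pow_add]; ring⟩

theorem m12_low : ¬ SectionalPRankLE 2 3 ↥Spor.M12 := by
  intro h
  exact t_low (m := 2 * 2) (by norm_num)
    (of_injective h MTwelveType.SylowModel.hom MTwelveType.SylowModel.hom_injective)

end Cfsg.Agent.GH.RankLowT
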