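import Cfsg.Agent.GH.MTwCenter
import Cfsg.Agent.GH.RankLowT
import Cfsg.Agent.GH.Cov.FrameSyl

/-!
# 2.M12: the rank facts for a 2-component with even centre and top `M12`
-/

set_option autoImplicit false

open Cfsg Subgroup
open Cfsg.Agent.Intrinsic.Basic Cfsg.Agent.GH.Defs Cfsg.Agent.GH.Rank Cfsg.Agent.GH.Comp

namespace Cfsg.Agent.GH.MTwRank

open Cfsg.Agent.CoThreeStd.MTwelve (H)
open Cfsg.Agent.GH.MTwCover (Cov)

universe u

variable {G : Type u} [Group G] [Finite G]

/-- The centre of `K / O(K)` is a 2-group. -/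
theorem isPGroup_center (K : Subgroup G) : IsPGroup 2 (center (Bar K)) := by
  intro c
  obtain ⟨k, m, hm, hcm⟩ : ∃ k m : ℕ, Odd m ∧ orderOf c = 2 ^ k * m := by
    obtain ⟨k, m, hm, h⟩ := Nat.exists_eq_two_pow_mul_odd (n := orderOf c)
      (orderOf_pos c).ne'
    exact ⟨k, m, hm, h⟩
  refine ⟨k, ?_⟩
  set d : center (Bar K) := c ^ 2 ^ k with hd
  have hdo : orderOf d = m := by
    rw [hd, orderOf_pow, hcm, Nat.gcd_mul_right_left]
    exact Nat.mul_div_cancel_left m (by positivity)
  have hn : (zpowers (d : Bar K)).Normal := by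
    refine ⟨fun x hx g => ?_⟩
    have hxc : x ∈ center (Bar K) := (zpowers_le.mpr d.2) hx
    rw [mem_center_iff.mp hxc g, mul_inv_cancel_right]
    exact hx
  have hcard : Nat.card (zpowers (d : Bar K)) = m := by
    rw [Nat.card_zpowers, Subgroup.orderOf_coe, hdo]
  have h1 : zpowers (d : Bar K) ≤ pPrimeCore 2 (Bar K) :=
    Lib.Cores.le_pPrimeCore hn (by rw [hcard]; exact Nat.coprime_two_right.2 hm)
  have h2 : pPrimeCore 2 (Bar K) = ⊥ := Lib.Cores.pPrimeCore_quotient_pPrimeCore (G := K) 2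
  rw [h2, le_bot_iff, zpowers_eq_bot] at h1
  exact Subtype.ext h1

theorem four_le_srank {X : Type*} [Group X] [Finite X] (h : Spor.IsoM12 X) : 4 ≤ srank 2 X := by
  obtain ⟨e⟩ := h
  by_contra hlt
  have h1 : SectionalPRankLE 2 3 X := (srank_le_iff (by norm_num)).1 (by omega)
  exact RankLowT.m12_low (of_equiv h1 e)

theorem simple_H {x : G} {K : Subgroup G} (hK : Comp2 x K) (hM : Spor.IsoM12 (STop K)) :
    IsSimpleGroup H := by
  obtain ⟨e⟩ := hM
  exact isSimple_congr e (top_simple hK.comp)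

/-- `K / O(K)` is the double cover of `M12`. -/
theorem exists_cov {x : G} {K : Subgroup G} (hK : Comp2 x K) (hM : Spor.IsoM12 (STop K))
    (he : EvenCenter K) : ∃ (π : Bar K →* H) (z : Bar K), Cov π z := by
  have hs := simple_H hK hM
  obtain ⟨e⟩ := hM
  let π : Bar K →* H := e.toMonoidHom.comp (QuotientGroup.mk' (center (Bar K)))
  have hk : π.ker = center (Bar K) := by
    ext a
    rw [MonoidHom.mem_ker]
    change e (QuotientGroup.mk' (center (Bar K)) a) = 1 ↔ _
    rw [map_eq_one_iff e e.injective]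
    exact QuotientGroup.eq_one_iff a
  have hne : center (Bar K) ≠ ⊥ := by
    intro h0
    have h1 : Even (Nat.card (center (Bar K))) := he
    rw [h0, Subgroup.card_bot] at h1
    exact absurd h1 (by decide)
  obtain ⟨z, hz⟩ := MTwCenter.exists_cov π
    (e.surjective.comp (QuotientGroup.mk'_surjective _)) hk (quasisimple hK.comp).1.commutator_eq_top
    (isPGroup_center K) hne
  exact ⟨π, z, hz⟩

/-- the centre of `K / O(K)`, from a covering map -/
theorem center_of_cov {X : Type*} [Group X] {π : X →* H} {z : X} (h : Cov π z)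
    (hs : IsSimpleGroup H) : ∀ u ∈ center X, u = 1 ∨ u = z := by
  intro u hu
  apply h.ker
  have h1 : π u ∈ center H := by
    rw [mem_center_iff]
    intro g
    obtain ⟨y, rfl⟩ := h.surj g
    rw [← map_mul, ← map_mul, mem_center_iff.mp hu y]
  rcases (inferInstance : (center H).Normal).eq_bot_or_eq_top with h2 | h2
  · rw [h2] at h1
    exact h1
  · exfalso
    have hcomm : ∀ a b : H, a * b = b * a := fun a b =>
      mem_center_iff.mp (h2 ▸ mem_top b : b ∈ center H) a
    have h3 : commutator X ≤ π.ker := by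
      rw [_root_.commutator_def, commutator_le]
      intro a _ b _
      rw [MonoidHom.mem_ker, map_commutatorElement, commutatorElement_eq_one_iff_mul_comm]
      exact hcomm _ _
    rw [h.perfect] at h3
    obtain ⟨a, ha⟩ := exists_ne (1 : H)
    obtain ⟨y, rfl⟩ := h.surj a
    exact ha (h3 (mem_top y))

/-- **The rank facts.** -/
theorem rank_facts (hr : SectionalPRankLE 2 4 G) {x : G} {K : Subgroup G} (hK : Comp2 x K)
    (hM : Spor.IsoM12 (STop K)) (he : EvenCenter K) :
    x ∈ K ∧ centralizer ({x} : Set G) ≤ normalizer (K : Set G) ∧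
      ∀ t, t ∈ centralizer ({x} : Set G) → (∃ n : ℕ, t ^ 2 ^ n = 1) → Fixes t K →
        t = 1 ∨ t = x := by
  have h4 := four_le_srank hM
  obtain ⟨π, z, hz⟩ := exists_cov hK hM he
  obtain ⟨hx, -, h1⟩ := Cov.FrameSyl.eq_of_fixes hr hK h4 (center_of_cov hz (simple_H hK hM))
  refine ⟨hx, fun g hg => Cov.FrameSyl.le_normalizer_comp hr hK h4 g
    (mem_centralizer_singleton_iff.mp hg), ?_⟩
  rintro t ht ⟨n, hn⟩ hf
  exact h1 t (mem_centralizer_singleton_iff.mp ht) n hn hf

/-- The same with the covering map of `K / O(K)` and the image of `x`. -/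
theorem rank_cov (hr : SectionalPRankLE 2 4 G) {x : G} {K : Subgroup G} (hK : Comp2 x K)
    (hM : Spor.IsoM12 (STop K)) (he : EvenCenter K) :
    ∃ (hx : x ∈ K) (π : Bar K →* H), Cov π (QuotientGroup.mk' (oddCore ↥K) ⟨x, hx⟩) := by
  have h4 := four_le_srank hM
  obtain ⟨π, z, hz⟩ := exists_cov hK hM he
  obtain ⟨hx, h0, -⟩ := Cov.FrameSyl.eq_of_fixes hr hK h4 (center_of_cov hz (simple_H hK hM))
  exact ⟨hx, π, by rw [h0]; exact hz⟩

end Cfsg.Agent.GH.MTwRank
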