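import Cfsg.Agent.GH.MTwMain
import Cfsg.Agent.GH.MTwRank

/-!
# GH-COV (7): the field `m12` of `GH.Cov.Main`
-/

set_option autoImplicit false

open Cfsg Subgroup
open Cfsg.Agent.GH.Defs

namespace Cfsg.Agent.GH.MTwTop

universe u

variable {G : Type u} [Group G] [Finite G]

theorem m12 (h : Hyp G) : ∀ (x : G) (K : Subgroup G), Comp2 x K → EvenCenter K →
    Spor.IsoM12 (STop K) → False := by
  intro x K c he hM
  have := h.simple
  obtain ⟨hx, hn, hf⟩ := MTwRank.rank_facts h.rank4 c hM he
  exact MTwMain.false_of_iso h.nonComm c hx hn hf hM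

end Cfsg.Agent.GH.MTwTop
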