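import Mathlib

/-!
# Polycyclic relations for finite 2-groups

`Pres n`: positive words for `x i * x i` and for `x i * x j * (x i)⁻¹` (`i < j`) in the later generators.

* `card_le`: a group generated by elements satisfying the relations has order at most `2 ^ n`; every
  element is a normal word (`exists_nf`).
* `exists_hom`: if the order is `2 ^ n`, every other family satisfying the relations is the image under
  a homomorphism.
* `exists_equiv`: two such groups of order `2 ^ n` are isomorphic.
* `exists_embedding`: the homomorphism is injective if the normal words are not trivial.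
-/

set_option autoImplicit false

open Subgroup

namespace Cfsg.Agent.GH.Pc

/-- A polycyclic presentation with `n` generators and all relative orders 2. -/
structure Pres (n : ℕ) where
  /-- the word for `x i * x i` -/
  sq : Fin n → List (Fin n)
  /-- the word for `x i * x j * (x i)⁻¹`, `i < j` -/
  cj : Fin n → Fin n → List (Fin n)

/-- All words are in later generators. -/
def Pres.Ok {n : ℕ} (P : Pres n) : Prop :=
  ∀ i, (∀ k ∈ P.sq i, i < k) ∧ ∀ j, i < j → ∀ k ∈ P.cj i j, i < k

instance {n : ℕ} (P : Pres n) : Decidable P.Ok := by unfold Pres.Ok; infer_instance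

/-- The value of a word. -/
def word {n : ℕ} {G : Type*} [Group G] (x : Fin n → G) (l : List (Fin n)) : G := (l.map x).prod

/-- The family `x` satisfies the relations. -/
structure Sat {n : ℕ} {G : Type*} [Group G] (P : Pres n) (x : Fin n → G) : Prop where
  sq : ∀ i, x i * x i = word x (P.sq i)
  cj : ∀ i j, i < j → x i * x j = word x (P.cj i j) * x i

/-- The normal word with exponents `e`. -/
def nf {n : ℕ} {G : Type*} [Group G] (x : Fin n → G) (e : Fin n → Bool) : G :=
  word x ((List.finRange n).filter fun i => e i)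

section word

variable {n : ℕ} {G H : Type*} [Group G] [Group H]

@[simp] theorem word_nil (x : Fin n → G) : word x [] = 1 := rfl

@[simp] theorem word_cons (x : Fin n → G) (i : Fin n) (l : List (Fin n)) :
    word x (i :: l) = x i * word x l := by simp [word]

theorem word_append (x : Fin n → G) (l m : List (Fin n)) :
    word x (l ++ m) = word x l * word x m := by simp [word]

theorem word_mem {x : Fin n → G} {K : Subgroup G} {l : List (Fin n)} (h : ∀ i ∈ l, x i ∈ K) :
    word x l ∈ K := by
  induction l with
  | nil => exact K.one_mem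
  | cons i l ih =>
    rw [word_cons]
    exact K.mul_mem (h i (by simp)) (ih fun j hj => h j (by simp [hj]))

theorem map_word (f : G →* H) (x : Fin n → G) (l : List (Fin n)) :
    f (word x l) = word (fun i => f (x i)) l := by
  induction l with
  | nil => simp
  | cons i l ih => rw [word_cons, word_cons, map_mul, ih]

theorem word_pair (x : Fin n → G) (y : Fin n → H) (l : List (Fin n)) :
    word (fun i => (x i, y i)) l = (word x l, word y l) := by
  induction l with
  | nil => rfl
  | cons i l ih => rw [word_cons, word_cons, word_cons, ih]; rfl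

theorem map_nf (f : G →* H) (x : Fin n → G) (e : Fin n → Bool) :
    f (nf x e) = nf (fun i => f (x i)) e := map_word f x _

theorem Sat.pair {P : Pres n} {x : Fin n → G} {y : Fin n → H} (hx : Sat P x) (hy : Sat P y) :
    Sat P fun i => (x i, y i) where
  sq i := by
    rw [word_pair, ← hx.sq i, ← hy.sq i]; rfl
  cj i j hij := by
    rw [word_pair]
    exact Prod.ext (hx.cj i j hij) (hy.cj i j hij)

theorem Sat.map {P : Pres n} {x : Fin n → G} (hx : Sat P x) (f : G →* H) :
    Sat P fun i => f (x i) where
  sq i := by rw [← map_mul, hx.sq i, map_word]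
  cj i j hij := by rw [← map_mul, hx.cj i j hij, map_mul, map_word]

theorem Sat.of_injective {P : Pres n} {x : Fin n → G} (f : G →* H) (hf : Function.Injective f)
    (hx : Sat P fun i => f (x i)) : Sat P x where
  sq i := by
    apply hf
    rw [map_mul, map_word]
    exact hx.sq i
  cj i j hij := by
    apply hf
    rw [map_mul, map_mul, map_word]
    exact hx.cj i j hij

end word

section card

variable {G : Type*} [Group G]

/-- Adjoining one element. -/
def adj (K : Subgroup G) (a : G) (hK : ∀ k ∈ K, a * k * a⁻¹ ∈ K) (ha : a * a ∈ K) : Subgroup G where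
  carrier := {g | g ∈ K ∨ a * g ∈ K}
  one_mem' := Or.inl K.one_mem
  mul_mem' := by
    have h' : ∀ k ∈ K, a⁻¹ * k * a ∈ K := by
      intro k hk
      have h1 := K.mul_mem (K.mul_mem (K.inv_mem ha) (hK k hk)) ha
      have h2 : (a * a)⁻¹ * (a * k * a⁻¹) * (a * a) = a⁻¹ * k * a := by group
      rwa [h2] at h1
    intro g h hg hh
    rcases hg with hg | hg <;> rcases hh with hh | hh
    · exact Or.inl (K.mul_mem hg hh)
    · right
      have h1 := K.mul_mem (hK g hg) hh
      have h2 : a * g * a⁻¹ * (a * h) = a * (g * h) := by group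
      rwa [h2] at h1
    · right
      have h1 := K.mul_mem hg hh
      rwa [mul_assoc] at h1
    · left
      have h1 := K.mul_mem (h' _ hg) (K.mul_mem (K.inv_mem ha) hh)
      have h2 : a⁻¹ * (a * g) * a * ((a * a)⁻¹ * (a * h)) = g * h := by group
      rwa [h2] at h1
  inv_mem' := by
    intro g hg
    rcases hg with hg | hg
    · exact Or.inl (K.inv_mem hg)
    · right
      have h1 := K.mul_mem (hK _ (K.inv_mem hg)) ha
      have h2 : a * (a * g)⁻¹ * a⁻¹ * (a * a) = a * g⁻¹ := by group
      rwa [h2] at h1

theorem le_adj (K : Subgroup G) (a : G) (hK : ∀ k ∈ K, a * k * a⁻¹ ∈ K) (ha : a * a ∈ K) :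
    K ≤ adj K a hK ha := fun _ hk => Or.inl hk

theorem mem_adj (K : Subgroup G) (a : G) (hK : ∀ k ∈ K, a * k * a⁻¹ ∈ K) (ha : a * a ∈ K) :
    a ∈ adj K a hK ha := Or.inr ha

theorem ncard_adj (K : Subgroup G) (a : G) (hK : ∀ k ∈ K, a * k * a⁻¹ ∈ K) (ha : a * a ∈ K)
    (hfin : (K : Set G).Finite) : (adj K a hK ha : Set G).Finite ∧
      (adj K a hK ha : Set G).ncard ≤ 2 * (K : Set G).ncard := by
  have h1 : (adj K a hK ha : Set G) ⊆ (K : Set G) ∪ (fun g => a⁻¹ * g) '' (K : Set G) := by
    intro g hg
    rcases hg with hg | hg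
    · exact Or.inl hg
    · exact Or.inr ⟨a * g, hg, by simp⟩
  have h2 : ((K : Set G) ∪ (fun g => a⁻¹ * g) '' (K : Set G)).Finite := hfin.union (hfin.image _)
  refine ⟨h2.subset h1, (Set.ncard_le_ncard h1 h2).trans ?_⟩
  refine (Set.ncard_union_le _ _).trans ?_
  have := Set.ncard_image_le hfin (f := fun g => a⁻¹ * g)
  omega

variable {n : ℕ} {P : Pres n} {x : Fin n → G}

/-- The subgroups of the polycyclic series. -/
def ser (x : Fin n → G) (k : ℕ) : Subgroup G := closure {g | ∃ i : Fin n, k ≤ i.val ∧ g = x i}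

theorem mem_ser (x : Fin n → G) {k : ℕ} {i : Fin n} (h : k ≤ i.val) : x i ∈ ser x k :=
  subset_closure ⟨i, h, rfl⟩

theorem ser_zero (x : Fin n → G) : ser x 0 = closure (Set.range x) := by
  unfold ser
  congr 1
  ext g
  constructor
  · rintro ⟨i, -, rfl⟩
    exact ⟨i, rfl⟩
  · rintro ⟨i, rfl⟩
    exact ⟨i, Nat.zero_le _, rfl⟩

theorem ser_top (x : Fin n → G) : ser x n = ⊥ := by
  unfold ser
  rw [closure_eq_bot_iff]
  rintro g ⟨i, hi, rfl⟩
  exact absurd i.isLt (by omega)

theorem conj_ser (hP : P.Ok) (hx : Sat P x) (i : Fin n) :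
    ∀ g ∈ ser x (i.val + 1), x i * g * (x i)⁻¹ ∈ ser x (i.val + 1) := by
  have h1 : ser x (i.val + 1) ≤ (ser x (i.val + 1)).comap (MulAut.conj (x i)).toMonoidHom := by
    conv_lhs => unfold ser
    rw [closure_le]
    rintro g ⟨j, hj, rfl⟩
    have hij : i < j := Fin.lt_def.2 (by omega)
    change x i * x j * (x i)⁻¹ ∈ ser x (i.val + 1)
    rw [hx.cj i j hij, mul_inv_cancel_right]
    refine word_mem fun k hk => mem_ser x ?_
    have := (hP i).2 j hij k hk
    exact Fin.lt_def.1 this
  intro g hg
  exact h1 hg

theorem sq_ser (hP : P.Ok) (hx : Sat P x) (i : Fin n) : x i * x i ∈ ser x (i.val + 1) := by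
  rw [hx.sq i]
  refine word_mem fun k hk => mem_ser x ?_
  exact Fin.lt_def.1 ((hP i).1 k hk)

theorem ser_le_adj (hP : P.Ok) (hx : Sat P x) (i : Fin n) :
    ser x i.val ≤ adj (ser x (i.val + 1)) (x i) (conj_ser hP hx i) (sq_ser hP hx i) := by
  conv_lhs => unfold ser
  rw [closure_le]
  rintro g ⟨j, hj, rfl⟩
  rcases Nat.eq_or_lt_of_le hj with h | h
  · obtain rfl : i = j := Fin.ext h
    exact mem_adj _ _ _ _
  · exact le_adj _ _ _ _ (mem_ser x h)

theorem ncard_ser (hP : P.Ok) (hx : Sat P x) (k : ℕ) (hk : k ≤ n) :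
    (ser x (n - k) : Set G).Finite ∧ (ser x (n - k) : Set G).ncard ≤ 2 ^ k := by
  induction k with
  | zero =>
    rw [Nat.sub_zero, ser_top]
    simp
  | succ k ih =>
    obtain ⟨h1, h2⟩ := ih (by omega)
    have hi : n - (k + 1) < n := by omega
    have h3 : n - k = n - (k + 1) + 1 := by omega
    rw [h3] at h1 h2
    obtain ⟨h4, h5⟩ := ncard_adj (ser x ((⟨n - (k + 1), hi⟩ : Fin n).val + 1)) (x ⟨n - (k + 1), hi⟩)
      (conj_ser hP hx _) (sq_ser hP hx _) h1
    have h6 := ser_le_adj hP hx ⟨n - (k + 1), hi⟩
    refine ⟨h4.subset h6, (Set.ncard_le_ncard h6 h4).trans (h5.trans ?_)⟩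
    rw [pow_succ]
    simp only at h2 ⊢
    omega

/-- The order is at most `2 ^ n`. -/
theorem card_le (hP : P.Ok) (hx : Sat P x) : Finite ↥(closure (Set.range x)) ∧
    Nat.card ↥(closure (Set.range x)) ≤ 2 ^ n := by
  obtain ⟨h1, h2⟩ := ncard_ser hP hx n le_rfl
  rw [Nat.sub_self, ser_zero] at h1 h2
  exact ⟨h1.to_subtype, h2⟩

/-- Every element of a group with these relations is a normal word. -/
theorem exists_nf_ser (hP : P.Ok) (hx : Sat P x) (k : ℕ) (hk : k ≤ n) :
    ∀ g ∈ ser x (n - k), ∃ e : Fin n → Bool, (∀ i : Fin n, i.val < n - k → e i = false) ∧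
      g = nf x e := by
  induction k with
  | zero =>
    intro g hg
    rw [Nat.sub_zero, ser_top, mem_bot] at hg
    refine ⟨fun _ => false, fun _ _ => rfl, ?_⟩
    subst hg
    simp [nf]
  | succ k ih =>
    intro g hg
    have hi : n - (k + 1) < n := by omega
    have h3 : n - k = n - (k + 1) + 1 := by omega
    obtain ⟨i, hi0⟩ : ∃ i : Fin n, i.val = n - (k + 1) := ⟨⟨_, hi⟩, rfl⟩
    have h6 : ∀ g ∈ ser x i.val, g ∈ ser x (i.val + 1) ∨ x i * g ∈ ser x (i.val + 1) :=
      fun g hg => ser_le_adj hP hx i hg
    rw [hi0] at h6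
    have key : ∀ h ∈ ser x (n - k), ∃ e : Fin n → Bool,
        (∀ j : Fin n, j.val < n - (k + 1) → e j = false) ∧ x i * h = nf x e := by
      intro h hh
      obtain ⟨e, he, rfl⟩ := ih (by omega) h hh
      refine ⟨Function.update e i true, fun j hj => ?_, ?_⟩
      · rw [Function.update_of_ne, he j (by omega)]
        rintro rfl
        omega
      · unfold nf
        rw [← word_cons]
        congr 1
        have hsp : ∀ (l : List (Fin n)), l.Pairwise (· < ·) → i ∈ l →
            (∀ j ∈ l, j < i → e j = false) → e i = false →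
            i :: l.filter (fun j => e j) = l.filter (fun j => Function.update e i true j) := by
          intro l
          induction l with
          | nil => intro _ h; simp at h
          | cons a l ihl =>
            intro hp hm hlt hei
            rw [List.pairwise_cons] at hp
            by_cases hai : a = i
            · subst hai
              rw [List.filter_cons_of_neg (by simp [hei]), List.filter_cons_of_pos (by simp)]
              congr 1
              apply List.filter_congr
              intro b hb
              rw [Function.update_of_ne]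
              exact ne_of_gt (hp.1 b hb)
            · have hml : i ∈ l := by
                rcases List.mem_cons.1 hm with h | h
                · exact absurd h.symm hai
                · exact h
              have hla : a < i := hp.1 i hml
              rw [List.filter_cons_of_neg (by simp [hlt a (by simp) hla]),
                List.filter_cons_of_neg (by
                  rw [Function.update_of_ne hai]; simp [hlt a (by simp) hla])]
              exact ihl hp.2 hml (fun j hj => hlt j (by simp [hj])) hei
        refine hsp _ (List.pairwise_lt_finRange n) (List.mem_finRange i) (fun j _ hj => ?_) ?_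
        · have := Fin.lt_def.1 hj
          exact he j (by omega)
        · exact he i (by omega)
    rcases h6 g hg with h | h
    · rw [← h3] at h
      obtain ⟨e, he, rfl⟩ := ih (by omega) g h
      exact ⟨e, fun j hj => he j (by omega), rfl⟩
    · -- x i * g ∈ ser, so g = x i * (x i⁻¹ ... )
      have h7 : (x i)⁻¹ * (x i)⁻¹ * (x i * g) = (x i)⁻¹ * g := by group
      have hsq := sq_ser hP hx i
      rw [hi0] at hsq
      have h8 : (x i)⁻¹ * g ∈ ser x (n - k) := by
        rw [h3, ← h7, ← mul_inv_rev]
        exact mul_mem (inv_mem hsq) h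
      obtain ⟨e, he, h9⟩ := key _ h8
      refine ⟨e, he, ?_⟩
      rw [← h9, mul_inv_cancel_left]

/-- Every element is a normal word. -/
theorem exists_nf (hP : P.Ok) (hx : Sat P x) {g : G} (hg : g ∈ closure (Set.range x)) :
    ∃ e, g = nf x e := by
  rw [← ser_zero, ← Nat.sub_self n] at hg
  obtain ⟨e, -, he⟩ := exists_nf_ser hP hx n le_rfl g hg
  exact ⟨e, he⟩

theorem nf_mem (x : Fin n → G) (e : Fin n → Bool) : nf x e ∈ closure (Set.range x) :=
  word_mem fun i _ => subset_closure ⟨i, rfl⟩

/-- If the order is `2 ^ n`, the normal words are distinct. -/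
theorem nf_injective (hP : P.Ok) (hx : Sat P x) (hc : Nat.card ↥(closure (Set.range x)) = 2 ^ n) :
    Function.Injective (nf x) := by
  have : Finite ↥(closure (Set.range x)) := (card_le hP hx).1
  let f : (Fin n → Bool) → ↥(closure (Set.range x)) := fun e => ⟨nf x e, nf_mem x e⟩
  have hs : Function.Surjective f := by
    rintro ⟨g, hg⟩
    obtain ⟨e, he⟩ := exists_nf hP hx hg
    exact ⟨e, Subtype.ext he.symm⟩
  have hb : Function.Bijective f := by
    refine (Nat.bijective_iff_surjective_and_card f).2 ⟨hs, ?_⟩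
    rw [hc]
    simp
  intro e e' he
  exact hb.1 (Subtype.ext he)

end card

section maps

variable {n : ℕ} {P : Pres n} {G H : Type*} [Group G] [Group H] {x : Fin n → G} {y : Fin n → H}

/-- If the group generated by `x` has order `2 ^ n` there is a homomorphism `x i ↦ y i`. -/
theorem exists_hom (hP : P.Ok) (hx : Sat P x) (hy : Sat P y)
    (hc : Nat.card ↥(closure (Set.range x)) = 2 ^ n) :
    ∃ f : ↥(closure (Set.range x)) →* ↥(closure (Set.range y)), Function.Surjective f ∧
      ∀ i (h : x i ∈ closure (Set.range x)), (f ⟨x i, h⟩ : H) = y i := by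
  obtain ⟨hD1, hD2⟩ := card_le hP (hx.pair hy)
  set D : Subgroup (G × H) := closure (Set.range fun i => (x i, y i)) with hD
  have hfst : D.map (MonoidHom.fst G H) = closure (Set.range x) := by
    rw [hD, MonoidHom.map_closure, ← Set.range_comp]; rfl
  have hsnd : D.map (MonoidHom.snd G H) = closure (Set.range y) := by
    rw [hD, MonoidHom.map_closure, ← Set.range_comp]; rfl
  let p : D →* ↥(closure (Set.range x)) :=
    ((MonoidHom.fst G H).comp D.subtype).codRestrict _ fun d => by
      rw [← hfst]; exact mem_map_of_mem _ d.2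
  let q : D →* ↥(closure (Set.range y)) :=
    ((MonoidHom.snd G H).comp D.subtype).codRestrict _ fun d => by
      rw [← hsnd]; exact mem_map_of_mem _ d.2
  have hp : Function.Surjective p := by
    rintro ⟨g, hg⟩
    rw [← hfst] at hg
    obtain ⟨d, hd, rfl⟩ := hg
    exact ⟨⟨d, hd⟩, rfl⟩
  have hq : Function.Surjective q := by
    rintro ⟨g, hg⟩
    rw [← hsnd] at hg
    obtain ⟨d, hd, rfl⟩ := hg
    exact ⟨⟨d, hd⟩, rfl⟩
  have hpb : Function.Bijective p := by
    refine (Nat.bijective_iff_surjective_and_card p).2 ⟨hp, le_antisymm ?_ ?_⟩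
    · rw [hc]; exact hD2
    · exact Nat.card_le_card_of_surjective p hp
  let e : D ≃* ↥(closure (Set.range x)) := MulEquiv.ofBijective p hpb
  refine ⟨q.comp e.symm.toMonoidHom, ?_, ?_⟩
  · intro b
    obtain ⟨d, hd⟩ := hq b
    exact ⟨e d, by simp [hd]⟩
  · intro i h
    have hmem : (x i, y i) ∈ D := subset_closure ⟨i, rfl⟩
    have h1 : e ⟨(x i, y i), hmem⟩ = ⟨x i, h⟩ := rfl
    have h2 : e.symm ⟨x i, h⟩ = ⟨(x i, y i), hmem⟩ := by rw [← h1, e.symm_apply_apply]
    change (q (e.symm ⟨x i, h⟩) : H) = y i
    rw [h2]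
    rfl

/-- Two groups of order `2 ^ n` generated by families satisfying the same polycyclic relations are
isomorphic. -/
theorem exists_equiv (hP : P.Ok) (hx : Sat P x) (hy : Sat P y)
    (hc : Nat.card ↥(closure (Set.range x)) = 2 ^ n)
    (hd : Nat.card ↥(closure (Set.range y)) = 2 ^ n) :
    ∃ f : ↥(closure (Set.range x)) ≃* ↥(closure (Set.range y)),
      ∀ i (h : x i ∈ closure (Set.range x)), (f ⟨x i, h⟩ : H) = y i := by
  obtain ⟨f, hf, hf2⟩ := exists_hom hP hx hy hc
  have : Finite ↥(closure (Set.range x)) := (card_le hP hx).1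
  have hb : Function.Bijective f := (Nat.bijective_iff_surjective_and_card f).2 ⟨hf, by rw [hc, hd]⟩
  exact ⟨MulEquiv.ofBijective f hb, hf2⟩

/-- The homomorphism is injective if all normal words in the second family are nontrivial. -/
theorem exists_equiv_of_nf (hP : P.Ok) (hx : Sat P x) (hy : Sat P y)
    (hc : Nat.card ↥(closure (Set.range x)) = 2 ^ n)
    (hn : ∀ e : Fin n → Bool, nf y e = 1 → e = fun _ => false) :
    Nat.card ↥(closure (Set.range y)) = 2 ^ n ∧
    ∃ f : ↥(closure (Set.range x)) ≃* ↥(closure (Set.range y)),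
      ∀ i (h : x i ∈ closure (Set.range x)), (f ⟨x i, h⟩ : H) = y i := by
  obtain ⟨f, hf, hf2⟩ := exists_hom hP hx hy hc
  have hinj : Function.Injective f := by
    rw [injective_iff_map_eq_one]
    rintro ⟨g, hg⟩ hg1
    obtain ⟨e, rfl⟩ := exists_nf hP hx hg
    have hx' : ∀ i, x i ∈ closure (Set.range x) := fun i => subset_closure ⟨i, rfl⟩
    have h1 : (⟨nf x e, hg⟩ : ↥(closure (Set.range x))) = nf (fun i => ⟨x i, hx' i⟩) e := by
      apply Subtype.ext
      rw [← Subgroup.coe_subtype, map_nf]
      rfl
    have h2 : nf y e = 1 := by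
      rw [h1, map_nf] at hg1
      have h3 := congrArg (closure (Set.range y)).subtype hg1
      rw [map_nf, map_one] at h3
      rw [← h3]
      congr 1
      funext i
      exact (hf2 i (hx' i)).symm
    have h4 := hn e h2
    subst h4
    apply Subtype.ext
    simp [nf]
  let E := MulEquiv.ofBijective f ⟨hinj, hf⟩
  exact ⟨by rw [← hc]; exact (Nat.card_congr E.toEquiv).symm, E, hf2⟩

/-- Identification of a 2-group with a Sylow 2-subgroup. -/
theorem exists_sylow (hP : P.Ok) (hx : Sat P x) (hy : Sat P y)
    (htop : closure (Set.range x) = ⊤) (hc : Nat.card G = 2 ^ n)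
    (hn : ∀ e : Fin n → Bool, nf y e = 1 → e = fun _ => false) [Finite H]
    (hH : ¬ 2 ^ (n + 1) ∣ Nat.card H) :
    ∃ S : Sylow 2 H, Nonempty (G ≃* ↥(S : Subgroup H)) := by
  have hc' : Nat.card ↥(closure (Set.range x)) = 2 ^ n := by rw [htop, card_top, hc]
  obtain ⟨h1, f, -⟩ := exists_equiv_of_nf hP hx hy hc' hn
  have hp : IsPGroup 2 ↥(closure (Set.range y)) := IsPGroup.of_card h1
  obtain ⟨S, hS⟩ := hp.exists_le_sylow
  have h2 : (S : Subgroup H) = closure (Set.range y) := by
    obtain ⟨k, hk⟩ := IsPGroup.iff_card.1 S.isPGroup'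
    have h3 : k ≤ n := by
      by_contra hcon
      apply hH
      have h4 : 2 ^ k ∣ Nat.card H := by rw [← hk]; exact card_subgroup_dvd_card _
      exact (pow_dvd_pow 2 (by omega)).trans h4
    symm
    apply Subgroup.eq_of_le_of_card_ge hS
    rw [h1, hk]
    exact Nat.pow_le_pow_right (by norm_num) h3
  refine ⟨S, ⟨?_⟩⟩
  exact (topEquiv.symm.trans (MulEquiv.subgroupCongr htop.symm)).trans
    (f.trans (MulEquiv.subgroupCongr h2.symm))

end maps

end Cfsg.Agent.GH.Pc
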