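import Cfsg.Agent.GH.LiftComp
import Cfsg.Agent.Classification.NGroupExclude
import Cfsg.Agent.SignalizersComponents.SLQuasisimple

/-!
# GH: the tops of the 2-components in the odd world

`AllOdd G`, `K` a 2-component of `C(x)`, `x` an involution: `K / O(K)` is not `PSL₃(q)` or `PSU₃(q)`,
`q > 3` odd, because such groups have an involution `t` such that `C(t)` has a component
`SL₂(q)` containing `t`.
-/

set_option autoImplicit false

open Cfsg Subgroup Matrix
open Cfsg.Agent.SignalizersComponents Cfsg.Agent.Lib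
open Cfsg.Agent.GH.Defs Cfsg.Agent.GH.Rank Cfsg.Agent.GH.Comp Cfsg.Agent.GH.L2FourOC
open Cfsg.Agent.GH.LiftComp Cfsg.Agent.Classification.NGroupExclude

namespace Cfsg.Agent.GH.OddTop

section abstractt

variable {F : Type*} [Field F]

/-- The projection onto the third coordinate. -/
def E3 (F : Type*) [Field F] : Matrix (Fin 3) (Fin 3) F := Matrix.single 2 2 1

theorem diag_eq : (Matrix.diagonal ![(-1 : F), -1, 1]) = -1 + (2 : F) • E3 F := by
  ext i j
  fin_cases i <;> fin_cases j <;> simp [E3, Matrix.diagonal, Matrix.single]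
  norm_num

theorem comm_iff (h2 : (2 : F) ≠ 0) (A : Matrix (Fin 3) (Fin 3) F) :
    A * Matrix.diagonal ![(-1 : F), -1, 1] = Matrix.diagonal ![(-1 : F), -1, 1] * A ↔
      A * E3 F = E3 F * A := by
  rw [diag_eq, Matrix.mul_add, Matrix.add_mul, Matrix.mul_neg, Matrix.neg_mul, Matrix.mul_one,
    Matrix.one_mul, add_right_inj, Matrix.mul_smul, Matrix.smul_mul]
  constructor
  · intro h
    exact smul_right_injective _ h2 h
  · intro h
    rw [h]

/-- The abstract form: `S` a group of `3 × 3` matrices with scalar centre, containing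
`diag(-1,-1,1)`. -/
theorem hasInner_of {S Q : Type*} [Group S] [Group Q] (h2 : (2 : F) ≠ 0)
    (ι : S →* Matrix (Fin 3) (Fin 3) F) (hι : Function.Injective ι)
    (hcen : ∀ c ∈ center S, ∃ r : F, r ^ 3 = 1 ∧ ι c = r • (1 : Matrix (Fin 3) (Fin 3) F))
    (β : Q →* S) (hβ : Function.Injective β)
    (hrange : ∀ s : S, ι s * E3 F = E3 F → E3 F * ι s = E3 F → ∃ a, β a = s)
    (hβE : ∀ a, ι (β a) * E3 F = E3 F ∧ E3 F * ι (β a) = E3 F) (m : Q)
    (hm : ι (β m) = Matrix.diagonal ![(-1 : F), -1, 1]) (hQ : IsQuasisimple Q)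
    (hO : pPrimeCore 2 Q = ⊥) : HasInner (S ⧸ center S) := by
  set π : S →* S ⧸ center S := QuotientGroup.mk' (center S) with hπ
  have hπ1 : ∀ s, π s = 1 ↔ s ∈ center S := fun s => QuotientGroup.eq_one_iff s
  have hιone : ∀ s, ι s = 1 ↔ s = 1 := by
    intro s
    rw [← map_one ι]
    exact hι.eq_iff
  have hinj : Function.Injective (π.comp β) := by
    rw [injective_iff_map_eq_one]
    intro a ha
    obtain ⟨r, -, hr⟩ := hcen _ ((hπ1 _).1 ha)
    have h1 := (hβE a).1
    rw [hr, Matrix.smul_mul, Matrix.one_mul] at h1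
    have h3 : r = 1 := by
      have := congrFun (congrFun h1 2) 2
      simpa [E3] using this
    rw [h3, one_smul, hιone] at hr
    exact hβ (by rw [hr, map_one])
  have hmm : β m * β m = 1 := by
    rw [← hιone, map_mul, hm, Matrix.diagonal_mul_diagonal, ← Matrix.diagonal_one]
    congr 1
    ext i
    fin_cases i <;> simp
  refine ⟨π (β m), (π.comp β).range, ?_, ?_, ⟨m, rfl⟩, ?_, ?_, ?_, ?_⟩
  · rw [← map_mul, hmm, map_one]
  · intro h
    obtain ⟨r, -, hr⟩ := hcen _ ((hπ1 _).1 h)
    rw [hm] at hr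
    have e1 := congrFun (congrFun hr 0) 0
    have e2 := congrFun (congrFun hr 2) 2
    simp at e1 e2
    apply h2
    rw [← e2] at e1
    linear_combination -e1
  · intro g hg l hl
    obtain ⟨s, rfl⟩ := QuotientGroup.mk'_surjective _ g
    obtain ⟨a, rfl⟩ := hl
    -- `s` commutes with `β m`
    have h3 : s * β m * s⁻¹ * (β m)⁻¹ ∈ center S := by
      rw [← hπ1, map_mul, map_mul, map_mul, map_inv, map_inv]
      change π s * π (β m) * (π s)⁻¹ * (π (β m))⁻¹ = 1
      rw [show π s * π (β m) = π (β m) * π s from hg, mul_inv_cancel_right, mul_inv_cancel]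
    obtain ⟨r, hr3, hr⟩ := hcen _ h3
    set c := s * β m * s⁻¹ * (β m)⁻¹ with hc
    have h4 : s * β m * s⁻¹ = c * β m := by rw [hc]; group
    have h5 : c * c = 1 := by
      have h6 : (c * β m) * (c * β m) = 1 := by
        rw [← h4]
        calc s * β m * s⁻¹ * (s * β m * s⁻¹) = s * (β m * β m) * s⁻¹ := by group
          _ = 1 := by rw [hmm]; group
      have h7 : c * β m = β m * c := (mem_center_iff.1 h3 (β m)).symm
      calc c * c = c * c * (β m * β m) := by rw [hmm, mul_one]
        _ = c * (c * β m) * β m := by group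
        _ = c * (β m * c) * β m := by rw [h7]
        _ = (c * β m) * (c * β m) := by group
        _ = 1 := h6
    have h6 : r * r = 1 := by
      have h7 : ι (c * c) = 1 := by rw [h5, map_one]
      rw [map_mul, hr, Matrix.smul_mul, Matrix.one_mul, smul_smul] at h7
      have := congrFun (congrFun h7 0) 0
      simpa using this
    have h7 : r = 1 := by
      calc r = r * r * r := by rw [h6, one_mul]
        _ = r ^ 3 := by ring
        _ = 1 := hr3
    have h8 : c = 1 := by
      rw [← hιone, hr, h7, one_smul]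
    have h9 : s * β m = β m * s := by
      rw [h8, one_mul, mul_inv_eq_iff_eq_mul] at h4
      exact h4
    have h10 : ι s * E3 F = E3 F * ι s := by
      rw [← comm_iff h2, ← hm, ← map_mul, h9, map_mul]
    have hss : ι s * ι s⁻¹ = 1 := by rw [← map_mul, mul_inv_cancel, map_one]
    have hss' : ι s⁻¹ * ι s = 1 := by rw [← map_mul, inv_mul_cancel, map_one]
    have h11 : ι s⁻¹ * E3 F = E3 F * ι s⁻¹ := by
      calc ι s⁻¹ * E3 F = ι s⁻¹ * E3 F * (ι s * ι s⁻¹) := by rw [hss, Matrix.mul_one]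
        _ = ι s⁻¹ * (E3 F * ι s) * ι s⁻¹ := by simp only [Matrix.mul_assoc]
        _ = ι s⁻¹ * (ι s * E3 F) * ι s⁻¹ := by rw [h10]
        _ = (ι s⁻¹ * ι s) * E3 F * ι s⁻¹ := by simp only [Matrix.mul_assoc]
        _ = E3 F * ι s⁻¹ := by rw [hss', Matrix.one_mul]
    obtain ⟨a', ha'⟩ := hrange (s * β a * s⁻¹)
      (by
        rw [map_mul, map_mul, Matrix.mul_assoc, h11, ← Matrix.mul_assoc, Matrix.mul_assoc (ι s),
          (hβE a).1, h10, Matrix.mul_assoc, hss, Matrix.mul_one])
      (by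
        rw [map_mul, map_mul, ← Matrix.mul_assoc, ← Matrix.mul_assoc, ← h10,
          Matrix.mul_assoc (ι s), (hβE a).2, h10, Matrix.mul_assoc, hss, Matrix.mul_one])
    refine ⟨a', ?_⟩
    change π (β a') = _
    rw [ha', map_mul, map_mul, map_inv]
    rfl
  · rintro _ ⟨a, rfl⟩
    change π (β a) * π (β m) = π (β m) * π (β a)
    rw [← map_mul π, ← map_mul π]
    congr 1
    apply hι
    rw [map_mul ι, map_mul ι, hm, comm_iff h2, (hβE a).1, (hβE a).2]
  · exact QsBasic.isQuasisimple_of_mulEquiv (MonoidHom.ofInjective hinj) hQ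
  · have h8 := Cores.map_equiv_pPrimeCore (MonoidHom.ofInjective hinj) 2
    rw [← h8, hO, Subgroup.map_bot]

end abstractt

section sl

/-- `O(SL₂(F)) = 1`. -/
theorem core_sl {F : Type*} [Field F] [Finite F] (hodd : Odd (Nat.card F)) (h4 : 4 ≤ Nat.card F) :
    pPrimeCore 2 (Matrix.SpecialLinearGroup (Fin 2) F) = ⊥ := by
  have : Fintype F := Fintype.ofFinite F
  have hQ := SLQuasisimple.isQuasisimple_two (F := F) h4
  have hc := Cores.pPrimeCore_coprime (G := Matrix.SpecialLinearGroup (Fin 2) F) 2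
  have hne : pPrimeCore 2 (Matrix.SpecialLinearGroup (Fin 2) F) ≠ ⊤ := by
    intro h
    rw [h, Subgroup.card_top] at hc
    have h1 := SLQuasisimple.even_card (ι := Fin 2) (F := F) (by
      rw [Nat.card_eq_fintype_card] at hodd
      exact SLQuasisimple.two_ne_zero_of_odd hodd)
    rw [Nat.coprime_two_right] at hc
    exact (Nat.not_even_iff_odd.2 hc) h1
  have h1 := QsBasic.normal_le_center_of_ne_top hQ _ hne
  rw [eq_bot_iff]
  intro c hc'
  obtain ⟨r, hr, hrc⟩ := Matrix.SpecialLinearGroup.mem_center_iff.1 (h1 hc')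
  have h2 : c * c = 1 := by
    apply Subtype.ext
    change c.1 * c.1 = 1
    rw [← hrc]
    rw [Fintype.card_fin] at hr
    simp only [Matrix.scalar_apply, Matrix.diagonal_mul_diagonal]
    rw [← Matrix.diagonal_one]
    congr 1
    ext i
    rw [← pow_two, hr]
  have h3 : orderOf (⟨c, hc'⟩ : pPrimeCore 2 (Matrix.SpecialLinearGroup (Fin 2) F)) ∣ 2 := by
    apply orderOf_dvd_of_pow_eq_one
    apply Subtype.ext
    change c ^ 2 = 1
    rw [pow_two, h2]
  have h4' := Nat.eq_one_of_dvd_coprimes hc (orderOf_dvd_natCard _) h3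
  have h5 := orderOf_eq_one_iff.1 h4'
  exact mem_bot.2 (congrArg Subtype.val h5)

end sl

section lin

variable {F : Type*} [Field F]

theorem blk_E (A : Matrix (Fin 2) (Fin 2) F) : blk A * E3 F = E3 F ∧ E3 F * blk A = E3 F := by
  constructor <;> ext i j <;> fin_cases i <;> fin_cases j <;>
    simp [blk, E3, Matrix.mul_apply, Fin.sum_univ_succ, Matrix.single]

theorem eq_blk (M : Matrix (Fin 3) (Fin 3) F) (h1 : M * E3 F = E3 F) (h2 : E3 F * M = E3 F) :
    M = blk !![M 0 0, M 0 1; M 1 0, M 1 1] := by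
  have a0 := congrFun (congrFun h1 0) 2
  have a1 := congrFun (congrFun h1 1) 2
  have a2 := congrFun (congrFun h1 2) 2
  have b0 := congrFun (congrFun h2 2) 0
  have b1 := congrFun (congrFun h2 2) 1
  simp [E3, Matrix.mul_apply, Fin.sum_univ_succ, Matrix.single] at a0 a1 a2 b0 b1
  ext i j
  fin_cases i <;> fin_cases j <;> simp [blk, a0, a1, a2, b0, b1]

theorem blk_neg_one : blk (-1 : Matrix (Fin 2) (Fin 2) F) = Matrix.diagonal ![(-1 : F), -1, 1] := by
  ext i j
  fin_cases i <;> fin_cases j <;> simp [blk, Matrix.diagonal]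

theorem odd_of_two_ne_zero' [Finite F] (hodd : Odd (Nat.card F)) : (2 : F) ≠ 0 := by
  have : Fintype F := Fintype.ofFinite F
  rw [Nat.card_eq_fintype_card] at hodd
  exact SLQuasisimple.two_ne_zero_of_odd hodd

/-- `PSL₃(q)`, `q > 3` odd. -/
theorem hasInner_psl [Finite F] (hodd : Odd (Nat.card F)) (h4 : 4 ≤ Nat.card F) :
    HasInner (Matrix.ProjectiveSpecialLinearGroup (Fin 3) F) := by
  let ι : Matrix.SpecialLinearGroup (Fin 3) F →* Matrix (Fin 3) (Fin 3) F :=
    { toFun := fun s => s.1, map_one' := rfl, map_mul' := fun _ _ => rfl }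
  refine hasInner_of (odd_of_two_ne_zero' hodd) ι Subtype.val_injective ?_ blkSL blkSL_injective
    ?_ ?_ (-1) ?_ (SLQuasisimple.isQuasisimple_two h4) (core_sl hodd h4)
  · intro c hc
    obtain ⟨r, hr, hrc⟩ := Matrix.SpecialLinearGroup.mem_center_iff.1 hc
    refine ⟨r, by simpa using hr, ?_⟩
    change c.1 = _
    rw [← hrc, Matrix.scalar_apply, Matrix.smul_one_eq_diagonal]
  · intro s h1 h2
    have h3 := eq_blk s.1 h1 h2
    refine ⟨⟨!![s.1 0 0, s.1 0 1; s.1 1 0, s.1 1 1], ?_⟩, ?_⟩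
    · rw [← det_blk, ← h3]
      exact s.2
    · apply Subtype.ext
      exact h3.symm
  · intro a
    exact blk_E a.1
  · change blk (((-1 : Matrix.SpecialLinearGroup (Fin 2) F)) : Matrix (Fin 2) (Fin 2) F) = _
    rw [← blk_neg_one]
    rfl

/-- `PSU₃(q)`, `q > 3` odd. -/
theorem hasInner_psu [Fintype F] {q : ℕ} (hF : Fintype.card F = q ^ 2) (hodd : Odd q)
    (h4 : 4 ≤ q) : HasInner (PSU 3 F q) := by
  classical
  have hFodd : Odd (Nat.card F) := by rw [Nat.card_eq_fintype_card, hF]; exact hodd.pow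
  -- the isomorphism with `SL₂(q)`
  obtain ⟨p, hp⟩ := CharP.exists F
  have hpp : p.Prime := (CharP.char_is_prime_or_zero F p).resolve_right
    (CharP.char_ne_zero_of_finite F p)
  have := Fact.mk hpp
  obtain ⟨m, _, hm⟩ := FiniteField.card F p
  rw [hF] at hm
  have h1 : q ∣ p ^ (m : ℕ) := by rw [← hm]; exact dvd_pow_self q two_ne_zero
  obtain ⟨n, -, hn⟩ := (Nat.dvd_prime_pow hpp).1 h1
  have hn0 : n ≠ 0 := by
    rintro rfl
    rw [pow_zero] at hn
    omega
  have : Fintype (GaloisField p n) := Fintype.ofFinite _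
  have hcard : Fintype.card (GaloisField p n) = q := by
    rw [← Nat.card_eq_fintype_card, GaloisField.card p n hn0, hn]
  obtain ⟨e⟩ := S0281.result hF hcard
  have hK : Nat.card (GaloisField p n) = q := by rw [Nat.card_eq_fintype_card, hcard]
  have hQ : IsQuasisimple (SU 2 F q) :=
    QsBasic.isQuasisimple_of_mulEquiv e.symm (SLQuasisimple.isQuasisimple_two (by rw [hK]; exact h4))
  have hO : pPrimeCore 2 (SU 2 F q) = ⊥ := by
    have h8 := Cores.map_equiv_pPrimeCore e.symm 2
    rw [← h8, core_sl (by rw [hK]; exact hodd) (by rw [hK]; exact h4), Subgroup.map_bot]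
  let ι : SU 3 F q →* Matrix (Fin 3) (Fin 3) F :=
    { toFun := fun s => s.1.1, map_one' := rfl, map_mul' := fun _ _ => rfl }
  have hev : Even (q + 1) := hodd.add_one
  have hneg : (-1 : Matrix.SpecialLinearGroup (Fin 2) F) ∈ SU 2 F q := by
    rw [LieClassical.SUBasic.mem_SU_iff]
    intro u v
    have hm1 : (-1 : F) ^ q = -1 := hodd.neg_one_pow
    simp [hermForm, Matrix.neg_mulVec, neg_pow, hm1]
  refine hasInner_of (odd_of_two_ne_zero' hFodd) ι
    (fun a b h => Subtype.ext (Subtype.ext h)) ?_ (blkSU q) (blkSU_injective q)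
    ?_ ?_ ⟨-1, hneg⟩ ?_ hQ hO
  · intro c hc
    obtain ⟨r, hr, hrq, hrc⟩ := (LieClassical.SUBasic.mem_center_SU_iff hF (le_refl 3) c).1 hc
    refine ⟨r, hr, ?_⟩
    change c.1.1 = _
    rw [hrc, LieClassical.SUBasic.coe_suScalar, Matrix.smul_one_eq_diagonal]
  · intro s h1 h2
    have h3 := eq_blk s.1.1 h1 h2
    have hdet : (!![s.1.1 0 0, s.1.1 0 1; s.1.1 1 0, s.1.1 1 1]).det = 1 := by
      rw [← det_blk, ← h3]
      exact s.1.2
    refine ⟨⟨⟨!![s.1.1 0 0, s.1.1 0 1; s.1.1 1 0, s.1.1 1 1], hdet⟩, ?_⟩, ?_⟩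
    · refine (LieClassical.SUBasic.mem_SU_iff (⟨_, hdet⟩ : Matrix.SpecialLinearGroup (Fin 2) F)).2 ?_
      intro u v
      have h4 := (LieClassical.SUBasic.mem_SU_iff s.1).1 s.2 ![u 0, u 1, 0] ![v 0, v 1, 0]
      have h5 : ∀ u : Fin 2 → F, (s.1.1 *ᵥ ![u 0, u 1, 0]) =
          ![(!![s.1.1 0 0, s.1.1 0 1; s.1.1 1 0, s.1.1 1 1] *ᵥ u) 0,
            (!![s.1.1 0 0, s.1.1 0 1; s.1.1 1 0, s.1.1 1 1] *ᵥ u) 1, 0] := by
        intro u
        have z0 : s.1.1 2 0 = 0 := by
          have := congrFun (congrFun h3 2) 0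
          simpa [blk] using this
        have z1 : s.1.1 2 1 = 0 := by
          have := congrFun (congrFun h3 2) 1
          simpa [blk] using this
        ext i
        fin_cases i
        · simp [Matrix.mulVec, dotProduct, Fin.sum_univ_succ]
        · simp [Matrix.mulVec, dotProduct, Fin.sum_univ_succ]
        · simp [Matrix.mulVec, dotProduct, Fin.sum_univ_succ, z0, z1]
      rw [h5, h5, hermForm_three, hermForm_three] at h4
      simp only [Matrix.cons_val_zero, Matrix.cons_val_one, Matrix.cons_val, zero_mul, add_zero]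
        at h4
      have e2 : ∀ w : Fin 2 → F, ![w 0, w 1] = w := by
        intro w
        ext i
        fin_cases i <;> simp
      rw [e2, e2, e2, e2] at h4
      exact h4
    · apply Subtype.ext
      apply Subtype.ext
      exact h3.symm
  · intro a
    exact blk_E a.1.1
  · change blk (((-1 : Matrix.SpecialLinearGroup (Fin 2) F)) : Matrix (Fin 2) (Fin 2) F) = _
    rw [← blk_neg_one]
    rfl

end lin

end Cfsg.Agent.GH.OddTop
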