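import Cfsg.Agent.GH.AssemblyK4
import Cfsg.Agent.GH.AltOut
import Cfsg.Agent.S1059
import Cfsg.Agent.S1067
import Cfsg.Agent.S1069
import Cfsg.Agent.S1702
import Cfsg.Agent.MTwelveType.SylowModel
import Cfsg.Agent.SporadicA.MathieuRecog
import Cfsg.Agent.SporRec.J1.Words
import Cfsg.Agent.McLType.ThreeElts
import Cfsg.Agent.Classification.NonConnOrders

/-!
# GH: from the list `K4r G` to the conclusion of S0500
-/

set_option autoImplicit false

open Cfsg Subgroup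
open Cfsg.Agent.GH.Defs Cfsg.Agent.GH.AssemblyK4

namespace Cfsg.Agent.GH.Out

theorem isPrimePow_card {F : Type*} [Field F] [Fintype F] : IsPrimePow (Fintype.card F) :=
  FiniteField.isPrimePow_card F

/-- The conclusion of S0500. -/
def Concl (G : Type*) [Group G] : Prop :=
  Cfsg.PRankLE 2 2 G ∨ Cfsg.IsG2 G ∨ Cfsg.Is3D4 G ∨
      (∃ (F : Type) (_ : Field F) (_ : Fintype F), Odd (Fintype.card F) ∧ Nonempty (G ≃* Cfsg.PSp 2 F)) ∨
      Cfsg.IsRee G ∨
      (∃ (F : Type) (_ : Field F) (_ : Fintype F), Odd (Fintype.card F) ∧ Fintype.card F % 8 ≠ 1 ∧ Nonempty (G ≃* Matrix.ProjectiveSpecialLinearGroup (Fin 4) F)) ∨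
      (∃ (F : Type) (_ : Field F) (_ : Fintype F) (q : ℕ), Fintype.card F = q ^ 2 ∧ Odd q ∧ q % 8 ≠ 7 ∧ Nonempty (G ≃* Cfsg.PSU 4 F q)) ∨
      (∃ (F : Type) (_ : Field F) (_ : Fintype F), Fintype.card F % 4 = 3 ∧ Nonempty (G ≃* Matrix.ProjectiveSpecialLinearGroup (Fin 5) F)) ∨
      (∃ (F : Type) (_ : Field F) (_ : Fintype F) (q : ℕ), Fintype.card F = q ^ 2 ∧ q % 4 = 1 ∧ Nonempty (G ≃* Cfsg.PSU 5 F q)) ∨
      (∃ (F : Type) (_ : Field F) (_ : Fintype F), (Fintype.card F = 8 ∨ Fintype.card F = 16) ∧ Nonempty (G ≃* Matrix.ProjectiveSpecialLinearGroup (Fin 2) F)) ∨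
      (∃ (F : Type) (_ : Field F) (_ : Fintype F), Fintype.card F = 4 ∧ Nonempty (G ≃* Matrix.ProjectiveSpecialLinearGroup (Fin 3) F)) ∨
      (∃ (F : Type) (_ : Field F) (_ : Fintype F), Fintype.card F = 16 ∧ Nonempty (G ≃* Cfsg.PSU 3 F 4)) ∨
      (∃ (F : Type) (_ : Field F) (_ : Fintype F), Fintype.card F = 2 ∧ Nonempty (G ≃* Matrix.ProjectiveSpecialLinearGroup (Fin 4) F)) ∨
      (Cfsg.IsSuzuki G ∧ Nat.card G = 29120) ∨
      (∃ n : ℕ, 8 ≤ n ∧ n ≤ 11 ∧ Nonempty (G ≃* alternatingGroup (Fin n))) ∨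
      Cfsg.IsM12 G ∨ Cfsg.IsM22 G ∨ Cfsg.IsM23 G ∨ Cfsg.IsJ1 G ∨ Cfsg.IsJ2 G ∨ Cfsg.IsJ3 G ∨ Cfsg.IsMcL G ∨
      Cfsg.IsLy G

variable {G : Type*} [Group G] [Finite G] [IsSimpleGroup G]

omit [Finite G] in
theorem isG2 (h : IsG2odd G) : IsG2 G := by
  obtain ⟨F, _, _, hF, ⟨e⟩⟩ := h
  refine ⟨inferInstance, Fintype.card F, isPrimePow_card, ?_, ?_⟩
  · have h1 : 1 < Fintype.card F := Fintype.one_lt_card
    obtain ⟨k, hk⟩ := hF
    omega
  · rw [Nat.card_congr e.toEquiv, S1059.result rfl]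
    ring

omit [Finite G] in
theorem is3D4 (h : IsD4odd G) : Is3D4 G := by
  obtain ⟨K, _, _, q, hq, hK, ⟨e⟩⟩ := h
  have hp : IsPrimePow q := by
    have h1 : IsPrimePow (q ^ 3) := hK ▸ isPrimePow_card
    exact (isPrimePow_pow_iff (by norm_num)).1 h1
  refine ⟨inferInstance, q, hp, ?_⟩
  rw [Nat.card_congr e.toEquiv, S1067.result hp hK]
  ring

omit [Finite G] in
theorem isRee (h : Lie.IsoRee G) : IsRee G := by
  obtain ⟨K, _, _, m, hm, hK, ⟨e⟩⟩ := h
  refine ⟨inferInstance, m, hm, ?_⟩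
  rw [Nat.card_congr e.toEquiv, S1069.result hK]
  ring

/-- **Conclusion of S0500** from the list of the groups of 2-rank at least 3. -/
theorem concl (hA : HasAltCover G → Spor.IsoMcL G ∨ Spor.IsoLy G) (h : K4r G) : Concl G := by
  rcases h with h | h | ⟨F, _, _, hF, h⟩ | h | h | h | h | h | h | h | ⟨h, -⟩ | ⟨h, -⟩ | ⟨⟨e⟩⟩ |
    ⟨⟨e⟩⟩ | ⟨⟨e⟩⟩ | h | h | h
  · iterate 11 right
    exact Or.inl h
  · rcases h with ⟨F, _, _, hF, h⟩ | ⟨F, _, _, hF, ⟨e⟩⟩ | h | ⟨⟨e⟩⟩
    · iterate 9 right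
      exact Or.inl ⟨F, _, _, Or.inl hF, h⟩
    · iterate 13 right
      have hc : Nat.card G = 29120 := by
        rw [Nat.card_congr e.toEquiv, card_sz_eight hF]
        norm_num
      exact Or.inl ⟨⟨inferInstance, 1, le_rfl, by rw [hc]; norm_num⟩, hc⟩
    · iterate 4 right
      exact Or.inl (isRee h)
    · iterate 18 right
      exact Or.inl ⟨inferInstance, by
        rw [Nat.card_congr e.toEquiv]
        exact SporRec.J1.Words.card_J1⟩
  · iterate 9 right
    exact Or.inl ⟨F, _, _, Or.inr hF, h⟩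
  · iterate 10 right
    exact Or.inl h
  · iterate 14 right
    exact Or.inl h
  · iterate 3 right
    exact Or.inl h
  · iterate 5 right
    exact Or.inl h
  · iterate 6 right
    exact Or.inl h
  · iterate 7 right
    exact Or.inl h
  · iterate 8 right
    exact Or.inl h
  · right
    exact Or.inl (isG2 h)
  · iterate 2 right
    exact Or.inl (is3D4 h)
  · iterate 15 right
    exact Or.inl ⟨inferInstance, by
      rw [Nat.card_congr e.toEquiv]
      exact MTwelveType.SylowModel.card_M12⟩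
  · iterate 16 right
    exact Or.inl ⟨inferInstance, by
      rw [Nat.card_congr e.toEquiv]
      exact SporadicA.MathieuRecog.card_M22⟩
  · iterate 17 right
    exact Or.inl ⟨inferInstance, by
      rw [Nat.card_congr e.toEquiv]
      exact SporadicA.MathieuRecog.card_M23⟩
  · iterate 19 right
    rcases Classification.NonConnOrders.isJ2_or_isJ3 (Or.inl h) with h | h
    · exact Or.inl h
    · exact Or.inr (Or.inl h)
  · iterate 19 right
    rcases Classification.NonConnOrders.isJ2_or_isJ3 (Or.inr h) with h | h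
    · exact Or.inl h
    · exact Or.inr (Or.inl h)
  · iterate 21 right
    rcases hA h with h | ⟨⟨e⟩⟩
    · exact Or.inl ⟨inferInstance, McLType.ThreeElts.card_of_iso h⟩
    · exact Or.inr ⟨inferInstance, by
        rw [Nat.card_congr e.toEquiv]
        exact S1702.result.2⟩

end Cfsg.Agent.GH.Out
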