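import Cfsg.Agent.GH.Comp
import Cfsg.Agent.Intrinsic.Cen
import Cfsg.Agent.Lib.SubnormalJoin

/-!
# GH-0: the general pump-up lemma

`x` an involution of the subgroup `X` of `G`, `L` a 2-component of `C_X(x)`.  Then there is a 2-component
`J` of `X` with
* `x ∈ N(J)` and `L ≤ J`, or
* `x ∉ N(J)`, `L ≤ J J^x` and `STop L ≃* STop J` (`L` is diagonal mod core).
-/

set_option autoImplicit false

open Cfsg Subgroup
open Cfsg.Agent.SignalizersComponents Cfsg.Agent.Lib
open Cfsg.Agent.SignalizersComponents.IntrinsicBasic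
open Cfsg.Agent.SignalizersComponents.IntrinsicIntr
open Cfsg.Agent.SignalizersComponents.PLayerAut
open Cfsg.Agent.Intrinsic.Charac
open Cfsg.Agent.Intrinsic.Basic Cfsg.Agent.GH.Defs Cfsg.Agent.GH.Rank Cfsg.Agent.GH.Comp
open scoped commutatorElement

namespace Cfsg.Agent.GH.PumpUp

section corefree

variable {Q : Type*} [Group Q]

/-- If `l = k c` commutes with `z ∈ N(K)` then `z k z⁻¹ = k ζ` with `ζ ∈ C(K)`. -/
theorem conj_eq {K : Subgroup Q} {z l k c : Q} (hz : z ∈ normalizer (K : Set Q))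
    (hc : c ∈ centralizer (K : Set Q)) (hl : l = k * c) (h : z * l = l * z) :
    k⁻¹ * (z * k * z⁻¹) ∈ centralizer (K : Set Q) := by
  have hzc : z * c * z⁻¹ ∈ centralizer (K : Set Q) := by
    rw [mem_centralizer_iff]
    intro y hy
    have hy' : z⁻¹ * y * z ∈ K := by
      have := (mem_normalizer_iff.mp (inv_mem hz) y).mp hy
      simpa using this
    have := mem_centralizer_iff.mp hc _ hy'
    calc y * (z * c * z⁻¹) = z * ((z⁻¹ * y * z) * c) * z⁻¹ := by group
      _ = z * (c * (z⁻¹ * y * z)) * z⁻¹ := by rw [this]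
      _ = _ := by group
  have h1 : k⁻¹ * (z * k * z⁻¹) = c * (z * c * z⁻¹)⁻¹ := by
    have h2 : z * (k * c) * z⁻¹ = k * c := by
      rw [← hl, h]; group
    calc k⁻¹ * (z * k * z⁻¹) = k⁻¹ * (z * (k * c) * z⁻¹) * (z * c * z⁻¹)⁻¹ := by group
      _ = k⁻¹ * (k * c) * (z * c * z⁻¹)⁻¹ := by rw [h2]
      _ = _ := by group
  rw [h1]
  exact mul_mem hc (inv_mem hzc)

/-- the core-free case: `z` normalizes `K`, `L` a 2-component of `C(z)` inside `K C(K)`. -/
theorem comp_le_or [Finite Q] {K : Subgroup Q} {z : Q} {L : Subgroup Q}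
    (hL : TC (centralizer ({z} : Set Q)) L) (hz : z ∈ normalizer (K : Set Q))
    (hLK : L ≤ K ⊔ centralizer (K : Set Q)) : L ≤ K ∨ L ≤ centralizer (K : Set Q) := by
  have : Fact (Nat.Prime 2) := ⟨Nat.prime_two⟩
  have hCN : K ⊔ centralizer (K : Set Q) ≤ normalizer (K : Set Q) :=
    sup_le le_normalizer (centralizer_le_normalizer _)
  obtain ⟨M, hM⟩ : ∃ M, M = centralizer ({z} : Set Q) ⊓ normalizer (K : Set Q) := ⟨_, rfl⟩
  have hMC : M ≤ centralizer ({z} : Set Q) := hM ▸ inf_le_left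
  have hLM : L ≤ M := hM ▸ le_inf hL.le (hLK.trans hCN)
  have hLtc : TC M L := restrict hL hMC hLM
  obtain ⟨N, hN⟩ : ∃ N, N = K ⊓ centralizer ({z} : Set Q) := ⟨_, rfl⟩
  have hNM : N ≤ M := by
    rw [hN, hM]
    exact le_inf inf_le_right (inf_le_left.trans le_normalizer)
  have hNn : (N.subgroupOf M).Normal := by
    constructor
    intro n hn g
    have hn' : (n : Q) ∈ K ⊓ centralizer ({z} : Set Q) := hN ▸ hn
    have hg' : (g : Q) ∈ centralizer ({z} : Set Q) ⊓ normalizer (K : Set Q) := hM ▸ g.2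
    change (g : Q) * n * (g : Q)⁻¹ ∈ N
    rw [hN]
    exact ⟨(mem_normalizer_iff.mp hg'.2 _).mp hn'.1,
      mul_mem (mul_mem hg'.1 hn'.2) ((centralizer ({z} : Set Q)).inv_mem hg'.1)⟩
  rcases LBalanceCore.pcomp_le_or_commutator_le hLtc.comp hNn with h | h
  · left
    intro l hl
    have h1 : (⟨l, hLM hl⟩ : M) ∈ N.subgroupOf M := h hl
    have h2 : l ∈ N := h1
    rw [hN] at h2
    exact h2.1
  · right
    -- `⁅L, N⁆` has odd order
    have hodd : (Nat.card (⁅L, N⁆ : Subgroup Q)).Coprime 2 := by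
      have h1 : (⁅L, N⁆ : Subgroup Q) = (⁅L.subgroupOf M, N.subgroupOf M⁆).map M.subtype := by
        rw [map_commutator, subgroupOf_map_subtype, subgroupOf_map_subtype, inf_of_le_left hLM,
          inf_of_le_left hNM]
      rw [h1, card_map_of_injective M.subtype_injective]
      exact (Cores.pPrimeCore_coprime (G := M) 2).coprime_dvd_left (card_dvd_of_le h)
    -- the action on `K`
    let α : normalizer (K : Set Q) →* MulAut K := K.normalizerMonoidHom
    have hLN : L ≤ normalizer (K : Set Q) := hLK.trans hCN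
    have hNN : N ≤ normalizer (K : Set Q) := by rw [hN]; exact inf_le_left.trans le_normalizer
    obtain ⟨A, hA⟩ : ∃ A, A = (L.subgroupOf (normalizer (K : Set Q))).map α := ⟨_, rfl⟩
    obtain ⟨B, hB⟩ : ∃ B, B = (N.subgroupOf (normalizer (K : Set Q))).map α := ⟨_, rfl⟩
    have hAA : ⁅A, A⁆ = A := by
      have h1 : ⁅L.subgroupOf (normalizer (K : Set Q)), L.subgroupOf (normalizer (K : Set Q))⁆ =
          L.subgroupOf (normalizer (K : Set Q)) := by
        apply map_injective (normalizer (K : Set Q)).subtype_injective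
        rw [map_commutator, subgroupOf_map_subtype, inf_of_le_left hLN, hL.perfect]
      rw [hA, ← map_commutator, h1]
    have hAB : A ≤ B := by
      rw [← hAA, commutator_le]
      intro a ha b hb
      rw [hA] at ha hb
      obtain ⟨l, hl, rfl⟩ := ha
      obtain ⟨m, hm, rfl⟩ := hb
      have hl' : (l : Q) ∈ L := hl
      have hm' : (m : Q) ∈ L := hm
      obtain ⟨k, hk, c, hc, hlk⟩ := Intrinsic.PumpUp.sup_form (hLK hl')
      obtain ⟨j, hj, d, hd, hmj⟩ := Intrinsic.PumpUp.sup_form (hLK hm')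
      have hzl : z * (l : Q) = l * z := (mem_centralizer_singleton_iff.mp (hL.le hl')).symm
      have hzm : z * (m : Q) = m * z := (mem_centralizer_singleton_iff.mp (hL.le hm')).symm
      have hx := conj_eq hz hc hlk hzl
      have hy := conj_eq hz hd hmj hzm
      obtain ⟨ζ, hζ⟩ : ∃ ζ, ζ = k⁻¹ * (z * k * z⁻¹) := ⟨_, rfl⟩
      obtain ⟨ξ, hξ⟩ : ∃ ξ, ξ = j⁻¹ * (z * j * z⁻¹) := ⟨_, rfl⟩
      rw [← hζ] at hx
      rw [← hξ] at hy
      have hξK : ξ ∈ K := hξ ▸ mul_mem (inv_mem hj) ((mem_normalizer_iff.mp hz j).mp hj)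
      have eζ : z * k * z⁻¹ = k * ζ := by rw [hζ]; group
      have eξ : z * j * z⁻¹ = j * ξ := by rw [hξ]; group
      have cζk : Commute ζ k := (mem_centralizer_iff.mp hx k hk).symm
      have cζj : Commute ζ j := (mem_centralizer_iff.mp hx j hj).symm
      have cξk : Commute ξ k := (mem_centralizer_iff.mp hy k hk).symm
      have cξj : Commute ξ j := (mem_centralizer_iff.mp hy j hj).symm
      have cζξ : Commute ζ ξ := (mem_centralizer_iff.mp hx ξ hξK).symm
      obtain ⟨w, hw⟩ : ∃ w, w = k * j * k⁻¹ * j⁻¹ := ⟨_, rfl⟩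
      have hwK : w ∈ K := hw ▸ mul_mem (mul_mem (mul_mem hk hj) (inv_mem hk)) (inv_mem hj)
      have hwz' : z * w * z⁻¹ = w := by
        calc z * w * z⁻¹
            = (z * k * z⁻¹) * (z * j * z⁻¹) * (z * k * z⁻¹)⁻¹ * (z * j * z⁻¹)⁻¹ := by
              rw [hw]; group
          _ = (k * ζ) * (j * ξ) * (k * ζ)⁻¹ * (j * ξ)⁻¹ := by rw [eζ, eξ]
          _ = k * (ζ * j) * ξ * ζ⁻¹ * k⁻¹ * ξ⁻¹ * j⁻¹ := by group
          _ = k * (j * ζ) * ξ * ζ⁻¹ * k⁻¹ * ξ⁻¹ * j⁻¹ := by rw [cζj.eq]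
          _ = k * j * (ζ * ξ) * ζ⁻¹ * k⁻¹ * ξ⁻¹ * j⁻¹ := by group
          _ = k * j * (ξ * ζ) * ζ⁻¹ * k⁻¹ * ξ⁻¹ * j⁻¹ := by rw [cζξ.eq]
          _ = k * j * (ξ * k⁻¹) * ξ⁻¹ * j⁻¹ := by group
          _ = k * j * (k⁻¹ * ξ) * ξ⁻¹ * j⁻¹ := by rw [cξk.inv_right.eq]
          _ = w := by rw [hw]; group
      have hwz : w * z = z * w := by
        rw [mul_inv_eq_iff_eq_mul] at hwz'
        exact hwz'.symm
      have hwN : w ∈ N := by
        rw [hN]
        exact ⟨hwK, mem_centralizer_singleton_iff.mpr hwz⟩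
      rw [hB]
      refine ⟨⟨w, hNN hwN⟩, hwN, ?_⟩
      apply MulEquiv.ext
      intro x
      apply Subtype.ext
      have hc' : ∀ y ∈ K, c * y = y * c := fun y hy => (mem_centralizer_iff.mp hc y hy).symm
      have hd' : ∀ y ∈ K, d * y = y * d := fun y hy => (mem_centralizer_iff.mp hd y hy).symm
      have hlx : ∀ y ∈ K, (l : Q) * y * (l : Q)⁻¹ = k * y * k⁻¹ := by
        intro y hy
        rw [hlk]
        calc k * c * y * (k * c)⁻¹ = k * (c * y) * c⁻¹ * k⁻¹ := by group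
          _ = k * (y * c) * c⁻¹ * k⁻¹ := by rw [hc' y hy]
          _ = _ := by group
      have hmx : ∀ y ∈ K, (m : Q) * y * (m : Q)⁻¹ = j * y * j⁻¹ := by
        intro y hy
        rw [hmj]
        calc j * d * y * (j * d)⁻¹ = j * (d * y) * d⁻¹ * j⁻¹ := by group
          _ = j * (y * d) * d⁻¹ * j⁻¹ := by rw [hd' y hy]
          _ = _ := by group
      have hlx' : ∀ y ∈ K, (l : Q)⁻¹ * y * (l : Q) = k⁻¹ * y * k := by
        intro y hy
        have h1 := hlx (k⁻¹ * y * k) (mul_mem (mul_mem (inv_mem hk) hy) hk)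
        have h2 : k * (k⁻¹ * y * k) * k⁻¹ = y := by group
        rw [h2] at h1
        calc (l : Q)⁻¹ * y * (l : Q) = (l : Q)⁻¹ * ((l : Q) * (k⁻¹ * y * k) * (l : Q)⁻¹) * l := by
              rw [h1]
          _ = _ := by group
      have hmx' : ∀ y ∈ K, (m : Q)⁻¹ * y * (m : Q) = j⁻¹ * y * j := by
        intro y hy
        have h1 := hmx (j⁻¹ * y * j) (mul_mem (mul_mem (inv_mem hj) hy) hj)
        have h2 : j * (j⁻¹ * y * j) * j⁻¹ = y := by group
        rw [h2] at h1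
        calc (m : Q)⁻¹ * y * (m : Q) = (m : Q)⁻¹ * ((m : Q) * (j⁻¹ * y * j) * (m : Q)⁻¹) * m := by
              rw [h1]
          _ = _ := by group
      have hfin : w * (x : Q) * w⁻¹ = (l : Q) * (m * ((l : Q)⁻¹ * ((m : Q)⁻¹ * x * m) * l) *
          (m : Q)⁻¹) * (l : Q)⁻¹ := by
        have x1 : j⁻¹ * (x : Q) * j ∈ K := mul_mem (mul_mem (inv_mem hj) x.2) hj
        have x2 : k⁻¹ * (j⁻¹ * (x : Q) * j) * k ∈ K := mul_mem (mul_mem (inv_mem hk) x1) hk
        have x3 : j * (k⁻¹ * (j⁻¹ * (x : Q) * j) * k) * j⁻¹ ∈ K :=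
          mul_mem (mul_mem hj x2) (inv_mem hj)
        rw [hmx' _ x.2, hlx' _ x1, hmx _ x2, hlx _ x3, hw]
        group
      have hL1 : ((α ⟨w, hNN hwN⟩ x : K) : Q) = w * (x : Q) * w⁻¹ := rfl
      have hR1 : (((⁅α l, α m⁆ : MulAut K) x : K) : Q) = (l : Q) * (m * ((l : Q)⁻¹ *
          ((m : Q)⁻¹ * x * m) * l) * (m : Q)⁻¹) * (l : Q)⁻¹ := by
        rw [commutatorElement_def, ← map_mul, ← map_inv, ← map_mul, ← map_inv, ← map_mul]
        change ((l * m * l⁻¹ * m⁻¹ : normalizer (K : Set Q)) : Q) * (x : Q) *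
          ((l * m * l⁻¹ * m⁻¹ : normalizer (K : Set Q)) : Q)⁻¹ = _
        push_cast
        group
      rw [hL1, hR1]
      exact hfin
    have hABodd : (Nat.card (⁅A, B⁆ : Subgroup (MulAut K))).Coprime 2 := by
      have h1 : (⁅L.subgroupOf (normalizer (K : Set Q)), N.subgroupOf (normalizer (K : Set Q))⁆).map
          (normalizer (K : Set Q)).subtype = ⁅L, N⁆ := by
        rw [map_commutator, subgroupOf_map_subtype, subgroupOf_map_subtype, inf_of_le_left hLN,
          inf_of_le_left hNN]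
      have h2 : (Nat.card (⁅L.subgroupOf (normalizer (K : Set Q)),
          N.subgroupOf (normalizer (K : Set Q))⁆ : Subgroup _)).Coprime 2 := by
        rw [← card_map_of_injective (normalizer (K : Set Q)).subtype_injective, h1]
        exact hodd
      rw [hA, hB, ← map_commutator]
      exact h2.coprime_dvd_left (card_map_dvd _ _)
    have hAodd : (Nat.card A).Coprime 2 := by
      have h1 : A ≤ ⁅A, B⁆ := by
        calc A = ⁅A, A⁆ := hAA.symm
          _ ≤ ⁅A, B⁆ := commutator_mono le_rfl hAB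
      exact hABodd.coprime_dvd_left (card_dvd_of_le h1)
    -- `L` is generated by 2-elements
    rw [← pElem_eq hL]
    refine (Subgroup.closure_le _).mpr ?_
    rintro y ⟨hy, n, hn⟩
    have h1 : α ⟨y, hLN hy⟩ = 1 := by
      have h2 : α ⟨y, hLN hy⟩ ∈ A := by
        rw [hA]; exact ⟨⟨y, hLN hy⟩, hy, rfl⟩
      have h3 : orderOf (⟨_, h2⟩ : A) ∣ Nat.card A := orderOf_dvd_natCard _
      have h4 : (⟨_, h2⟩ : A) ^ 2 ^ n = 1 := by
        apply Subtype.ext
        change (α ⟨y, hLN hy⟩) ^ 2 ^ n = 1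
        rw [← map_pow]
        have : (⟨y, hLN hy⟩ : normalizer (K : Set Q)) ^ 2 ^ n = 1 := by
          apply Subtype.ext; simpa using hn
        rw [this, map_one]
      have h5 := orderOf_dvd_of_pow_eq_one h4
      have h6 : orderOf (⟨_, h2⟩ : A) = 1 :=
        Nat.eq_one_of_dvd_coprimes (Nat.Coprime.pow_right n hAodd) h3 h5
      exact congrArg Subtype.val (orderOf_eq_one_iff.mp h6)
    have h2 : (⟨y, hLN hy⟩ : normalizer (K : Set Q)) ∈ α.ker := h1
    rw [show α.ker = _ from normalizerMonoidHom_ker K] at h2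
    exact h2

theorem cj_cj_of_sq {z : Q} (hz2 : z * z = 1) (K : Subgroup Q) : cj z (cj z K) = K := by
  rw [← cj_mul, hz2, cj_one]

theorem mem_normalizer_sup {z : Q} (hz2 : z * z = 1) (C : Subgroup Q) :
    z ∈ normalizer ((C ⊔ cj z C : Subgroup Q) : Set Q) := by
  rw [mem_normalizer_iff_cj, cj_def, Subgroup.map_sup, ← cj_def, ← cj_def, cj_cj_of_sq hz2, sup_comm]

theorem isComponent_cj {C : Subgroup Q} (hC : IsComponent C) (z : Q) : IsComponent (cj z C) :=
  Components.isComponent_conj z hC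

/-- Existence of a component `C` of `Q` with `L ≤ C C^z`. -/
theorem exists_component [Finite Q] {z : Q} (hz2 : z * z = 1) {L : Subgroup Q}
    (hL : TC (centralizer ({z} : Set Q)) L) (hLE : L ≤ layer Q) :
    ∃ C, IsComponent C ∧ L ≤ C ⊔ cj z C := by
  by_contra hno
  push Not at hno
  have h1 : ∀ C : Subgroup Q, IsComponent C → L ≤ centralizer (C : Set Q) := by
    intro C hC
    have hC' := isComponent_cj hC z
    have hE : layer Q ≤ (C ⊔ cj z C) ⊔ centralizer ((C ⊔ cj z C : Subgroup Q) : Set Q) := by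
      rw [Components.layer_le_iff]
      intro D hD
      by_cases h2 : D = C
      · rw [h2]
        exact le_sup_left.trans le_sup_left
      by_cases h3 : D = cj z C
      · rw [h3]
        exact le_sup_right.trans le_sup_left
      · refine le_trans ?_ le_sup_right
        rw [Subgroup.le_centralizer_iff]
        exact sup_le (Components.component_le_centralizer_of_ne hC hD (Ne.symm h2))
          (Components.component_le_centralizer_of_ne hC' hD (Ne.symm h3))
    rcases comp_le_or hL (mem_normalizer_sup hz2 C) (hLE.trans hE) with h | h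
    · exact absurd h (hno C hC)
    · exact h.trans (centralizer_le (fun c hc => mem_sup_left hc))
  have h2 : layer Q ≤ centralizer (L : Set Q) := by
    rw [Components.layer_le_iff]
    intro C hC
    rw [Subgroup.le_centralizer_iff]
    exact h1 C hC
  have h3 : ⁅L, L⁆ = ⊥ := by
    rw [commutator_eq_bot_iff_le_centralizer]
    exact hLE.trans h2
  rw [hL.perfect] at h3
  have h4 := even_card hL
  rw [h3, Subgroup.card_bot] at h4
  omega

/-- The diagonal map. -/
def diag {C : Subgroup Q} {z : Q} (h : cj z C ≤ centralizer (C : Set Q)) : C →* Q where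
  toFun c := (c : Q) * (z * (c : Q) * z⁻¹)
  map_one' := by simp
  map_mul' := by
    intro a b
    have h1 : (b : Q) * (z * (a : Q) * z⁻¹) = (z * (a : Q) * z⁻¹) * b :=
      mem_centralizer_iff.mp (h (conj_mem_cj a.2)) b b.2
    push_cast
    calc (a : Q) * b * (z * (a * b) * z⁻¹) = a * (b * (z * a * z⁻¹)) * (z * b * z⁻¹) := by group
      _ = a * ((z * a * z⁻¹) * b) * (z * b * z⁻¹) := by rw [h1]
      _ = _ := by group

theorem diag_mem_centralizer {C : Subgroup Q} {z : Q} (hz2 : z * z = 1)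
    (h : cj z C ≤ centralizer (C : Set Q)) (c : C) :
    diag h c ∈ centralizer ({z} : Set Q) := by
  rw [mem_centralizer_singleton_iff]
  have hzi : z⁻¹ = z := inv_eq_of_mul_eq_one_right hz2
  have h1 : (c : Q) * (z * (c : Q) * z⁻¹) = (z * (c : Q) * z⁻¹) * c :=
    mem_centralizer_iff.mp (h (conj_mem_cj c.2)) c c.2
  change (c : Q) * (z * (c : Q) * z⁻¹) * z = z * ((c : Q) * (z * (c : Q) * z⁻¹))
  calc (c : Q) * (z * (c : Q) * z⁻¹) * z = (z * (c : Q) * z⁻¹) * c * z := by rw [h1]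
    _ = z * c * (z⁻¹ * c * z) := by group
    _ = z * c * (z * c * z⁻¹) := by rw [hzi]
    _ = _ := by group

/-- In the non-normalizing case `L` is the diagonal. -/
theorem eq_range_diag [Finite Q] {z : Q} (hz2 : z * z = 1) {L C : Subgroup Q}
    (hL : TC (centralizer ({z} : Set Q)) L) (hC : IsComponent C) (hLC : L ≤ C ⊔ cj z C)
    (h : cj z C ≤ centralizer (C : Set Q)) : L = (diag h).range := by
  have hzi : z⁻¹ = z := inv_eq_of_mul_eq_one_right hz2
  have hcomm : ∀ c ∈ C, ∀ d ∈ C, c * (z * d * z⁻¹) = (z * d * z⁻¹) * c := fun c hc d hd =>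
    mem_centralizer_iff.mp (h (conj_mem_cj hd)) c hc
  -- the central subgroup
  have hZ1 : ∀ ζ ∈ C ⊓ cj z C, ∀ c ∈ C ⊔ cj z C, Commute ζ c := by
    intro ζ hζ c hc
    have h1 : C ⊔ cj z C ≤ centralizer ({ζ} : Set Q) := by
      apply sup_le
      · intro c hc
        rw [mem_centralizer_singleton_iff]
        exact mem_centralizer_iff.mp (h hζ.2) c hc
      · intro c hc
        rw [mem_centralizer_singleton_iff]
        exact (mem_centralizer_iff.mp (h hc) ζ hζ.1).symm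
    exact (mem_centralizer_singleton_iff.mp (h1 hc)).symm
  have hZz : ∀ ζ ∈ C ⊓ cj z C, z * ζ * z⁻¹ ∈ C ⊓ cj z C := by
    intro ζ hζ
    refine ⟨?_, conj_mem_cj hζ.1⟩
    have h1 := conj_mem_cj (g := z) hζ.2
    rwa [cj_cj_of_sq hz2] at h1
  have hmem : ∀ l ∈ L, ∃ c ∈ C, ∃ ζ ∈ C ⊓ cj z C, l = c * (z * c * z⁻¹) * ζ := by
    intro l hl
    have h1 : l ∈ ((C ⊔ cj z C : Subgroup Q) : Set Q) := hLC hl
    rw [Subgroup.coe_mul_of_right_le_normalizer_left _ _
      (h.trans (centralizer_le_normalizer _))] at h1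
    obtain ⟨c1, hc1, d, hd, rfl⟩ := h1
    obtain ⟨c2, hc2, rfl⟩ := hd
    have h2 : (c1 : Q) * (z * c2 * z⁻¹) * z = z * (c1 * (z * c2 * z⁻¹)) :=
      mem_centralizer_singleton_iff.mp (hL.le hl)
    have hc2' : c2 ∈ C := hc2
    have hc1' : c1 ∈ C := hc1
    -- `c₁ (z c₂ z⁻¹) = (z c₁ z⁻¹) c₂`
    have h3 : c1 * (z * c2 * z⁻¹) = (z * c1 * z⁻¹) * c2 := by
      calc c1 * (z * c2 * z⁻¹) = (c1 * (z * c2 * z⁻¹) * z) * z⁻¹ := by group
        _ = z * (c1 * (z * c2 * z⁻¹)) * z⁻¹ := by rw [h2]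
        _ = (z * c1 * z⁻¹) * (z * z * c2 * (z * z)⁻¹) := by group
        _ = _ := by rw [hz2]; group
    have h4 : c1⁻¹ * c2 = (z * (c1⁻¹ * c2) * z⁻¹) := by
      have h5 : (z * c1 * z⁻¹) * c2 = c2 * (z * c1 * z⁻¹) := (hcomm c2 hc2' c1 hc1').symm
      rw [h5] at h3
      calc c1⁻¹ * c2 = c1⁻¹ * (c2 * (z * c1 * z⁻¹)) * (z * c1 * z⁻¹)⁻¹ := by group
        _ = c1⁻¹ * (c1 * (z * c2 * z⁻¹)) * (z * c1 * z⁻¹)⁻¹ := by rw [h3]
        _ = (z * c2 * z⁻¹) * (z * c1⁻¹ * z⁻¹) := by group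
        _ = z * (c2 * c1⁻¹) * z⁻¹ := by group
        _ = z * (c1⁻¹ * c2) * z⁻¹ := by
          have h6 : c2 * c1⁻¹ = c1⁻¹ * c2 := by
            have h7 : (c2 * c1⁻¹) ∈ C := C.mul_mem hc2' (C.inv_mem hc1')
            have h8 : z * (c2 * c1⁻¹) * z⁻¹ = c1⁻¹ * c2 := by
              calc z * (c2 * c1⁻¹) * z⁻¹ = (z * c2 * z⁻¹) * (z * c1 * z⁻¹)⁻¹ := by group
                _ = c1⁻¹ * (c1 * (z * c2 * z⁻¹)) * (z * c1 * z⁻¹)⁻¹ := by group
                _ = c1⁻¹ * (c2 * (z * c1 * z⁻¹)) * (z * c1 * z⁻¹)⁻¹ := by rw [h3]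
                _ = _ := by group
            -- `c₁⁻¹ c₂ ∈ C ∩ C^z` is centralized by `c₁`
            have h9 : c1⁻¹ * c2 ∈ C ⊓ cj z C :=
              ⟨C.mul_mem (C.inv_mem hc1') hc2', h8 ▸ conj_mem_cj h7⟩
            have h10 := hZ1 _ h9 c1 (mem_sup_left hc1')
            have h11 : (c1⁻¹ * c2) * c1 = c1 * (c1⁻¹ * c2) := h10
            calc c2 * c1⁻¹ = c1 * (c1⁻¹ * c2) * c1⁻¹ := by group
              _ = (c1⁻¹ * c2) * c1 * c1⁻¹ := by rw [h11]
              _ = _ := by group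
          rw [h6]
    have h12 : c1⁻¹ * c2 ∈ C ⊓ cj z C :=
      ⟨C.mul_mem (C.inv_mem hc1') hc2', by
        rw [h4]; exact conj_mem_cj (C.mul_mem (C.inv_mem hc1') hc2')⟩
    refine ⟨c1, hc1', z * (c1⁻¹ * c2) * z⁻¹, hZz _ h12, ?_⟩
    change c1 * (z * c2 * z⁻¹) = _
    group
  have hLD : L ≤ (diag h).range := by
    rw [← hL.perfect, commutator_le]
    intro a ha b hb
    obtain ⟨c, hc, ζ, hζ, rfl⟩ := hmem a ha
    obtain ⟨d, hd, ξ, hξ, rfl⟩ := hmem b hb
    refine ⟨⁅(⟨c, hc⟩ : C), ⟨d, hd⟩⁆, ?_⟩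
    rw [map_commutatorElement]
    change ⁅c * (z * c * z⁻¹), d * (z * d * z⁻¹)⁆ = _
    have hA : c * (z * c * z⁻¹) ∈ C ⊔ cj z C := mul_mem (mem_sup_left hc) (mem_sup_right (conj_mem_cj hc))
    have hB : d * (z * d * z⁻¹) ∈ C ⊔ cj z C := mul_mem (mem_sup_left hd) (mem_sup_right (conj_mem_cj hd))
    have e1 := hZ1 ζ hζ _ hA
    have e2 := hZ1 ζ hζ _ hB
    have e3 := hZ1 ξ hξ _ hA
    have e4 := hZ1 ξ hξ _ hB
    have e5 := hZ1 ζ hζ ξ (mem_sup_left hξ.1)
    generalize c * (z * c * z⁻¹) = A at *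
    generalize d * (z * d * z⁻¹) = B at *
    rw [commutatorElement_def, commutatorElement_def]
    calc A * B * A⁻¹ * B⁻¹ = A * B * (ζ * ζ⁻¹) * (ξ * ξ⁻¹) * A⁻¹ * B⁻¹ := by group
      _ = A * (B * ζ) * ξ * ζ⁻¹ * ξ⁻¹ * A⁻¹ * B⁻¹ := by
        have : ζ⁻¹ * ξ = ξ * ζ⁻¹ := (e5.inv_left).eq
        calc _ = A * B * ζ * (ζ⁻¹ * ξ) * ξ⁻¹ * A⁻¹ * B⁻¹ := by group
          _ = A * B * ζ * (ξ * ζ⁻¹) * ξ⁻¹ * A⁻¹ * B⁻¹ := by rw [this]
          _ = _ := by group
      _ = A * (ζ * B) * ξ * ζ⁻¹ * (ξ⁻¹ * A⁻¹) * B⁻¹ := by rw [e2.eq]; group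
      _ = A * (ζ * B) * ξ * ζ⁻¹ * (A⁻¹ * ξ⁻¹) * B⁻¹ := by
        have : ξ⁻¹ * A⁻¹ = A⁻¹ * ξ⁻¹ := (e3.inv_left.inv_right).eq
        rw [this]
      _ = (A * ζ) * (B * ξ) * (ζ⁻¹ * A⁻¹) * (ξ⁻¹ * B⁻¹) := by group
      _ = (A * ζ) * (B * ξ) * (A * ζ)⁻¹ * (B * ξ)⁻¹ := by
        have t1 : (A * ζ)⁻¹ = ζ⁻¹ * A⁻¹ := by group
        have t2 : (B * ξ)⁻¹ = ξ⁻¹ * B⁻¹ := by group
        rw [t1, t2]
  apply le_antisymm hLD
  obtain ⟨D, hD⟩ : ∃ D, D = (diag h).range := ⟨_, rfl⟩
  rw [← hD] at hLD ⊢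
  have hDC : D ≤ centralizer ({z} : Set Q) := by
    rw [hD]
    rintro _ ⟨c, rfl⟩
    exact diag_mem_centralizer hz2 h c
  have hsub : (L.subgroupOf D).IsSubnormal := (restrict hL hDC hLD).comp.1
  have hLne : L ≠ ⊥ := by
    intro h0
    have h4 := even_card hL
    rw [h0, Subgroup.card_bot] at h4
    omega
  have hnt : Nontrivial D := by
    rw [Subgroup.nontrivial_iff_ne_bot]
    rintro rfl
    exact hLne (le_bot_iff.mp hLD)
  have hDq : IsQuasisimple D := by
    subst hD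
    exact ComponentImage.isQuasisimple_of_surjective hC.2 (diag h).rangeRestrict
      (diag h).rangeRestrict_surjective hnt
  rcases Components.quasisimple_subnormal hDq hsub with h1 | h1
  · intro d hd
    have h2 : (⟨d, hd⟩ : D) ∈ L.subgroupOf D := by rw [h1]; exact mem_top _
    exact h2
  · exfalso
    apply hLne
    rw [← hL.perfect, commutator_eq_bot_iff_le_centralizer]
    intro a ha
    rw [mem_centralizer_iff]
    intro b hb
    have h2 := mem_center_iff.mp (h1 (show (⟨a, hLD ha⟩ : D) ∈ L.subgroupOf D from ha)) ⟨b, hLD hb⟩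
    exact congrArg Subtype.val h2

/-- A homomorphism of a quasisimple group onto a simple nonabelian group has kernel the centre. -/
theorem ker_eq_center {A S : Type*} [Group A] [Group S] (hA : IsQuasisimple A) (f : A →* S)
    (hf : Function.Surjective f) (hS : IsSimpleGroup S) (hna : ¬ IsMulCommutative S) :
    f.ker = center A := by
  apply le_antisymm
  · rcases Components.quasisimple_normal hA f.ker inferInstance with h | h
    · exfalso
      have := hS.toNontrivial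
      obtain ⟨s, hs⟩ := exists_ne (1 : S)
      obtain ⟨a, rfl⟩ := hf s
      exact hs (by rw [← MonoidHom.mem_ker, h]; exact mem_top a)
    · exact h
  · intro a ha
    rw [MonoidHom.mem_ker]
    have h1 : f a ∈ center S := by
      rw [mem_center_iff]
      intro s
      obtain ⟨b, rfl⟩ := hf s
      rw [← map_mul, ← map_mul, mem_center_iff.mp ha b]
    have h2 : center S = ⊥ := by
      rcases (inferInstance : (center S).Normal).eq_bot_or_eq_top with h | h
      · exact h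
      · exact absurd ⟨⟨fun a b => mem_center_iff.mp (h ▸ mem_top b : b ∈ center S) a⟩⟩ hna
    rwa [h2, mem_bot] at h1

end corefree

/-! ### the general case -/

section general

variable {G : Type*} [Group G] [Finite G]

/-- **Pump-up.** `x ∈ X`, `x² = 1`, `L` a 2-component of `C_X(x)`: there is a 2-component `J` of `X` with
`L ≤ J J^x`. -/
theorem exists_comp {X L : Subgroup G} {x : G} (hx : x ∈ X) (hx2 : x * x = 1)
    (hL : IsComp (X ⊓ centralizer ({x} : Set G)) L) : ∃ J, IsComp X J ∧ L ≤ J ⊔ cj x J := by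
  have hp : Fact (Nat.Prime 2) := ⟨Nat.prime_two⟩
  have hLX : L ≤ X := hL.le.trans inf_le_left
  obtain ⟨π, hπ⟩ : ∃ π, π = QuotientGroup.mk' (oddCore ↥X) := ⟨_, rfl⟩
  have himg := Intrinsic.PumpUp.tc_image hx hx2 hL.tc
  rw [← hπ] at himg
  have hz2 : π ⟨x, hx⟩ * π ⟨x, hx⟩ = 1 := by
    rw [← map_mul]
    have : (⟨x, hx⟩ : X) * ⟨x, hx⟩ = 1 := Subtype.ext hx2
    rw [this, map_one]
  have hLE : (L.subgroupOf X).map π ≤ layer (↥X ⧸ oddCore ↥X) := by
    have h1 := isComp_le_L2 hx hx2 hL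
    have h2 : L.subgroupOf X ≤ pLayer 2 ↥X := by
      intro y hy
      obtain ⟨y', hy', hyy⟩ := h1 hy
      have : y' = y := Subtype.ext hyy
      rwa [← this]
    have h3 := Subgroup.map_mono (f := π) h2
    rw [hπ] at h3 ⊢
    refine h3.trans ?_
    exact (PComponents.map_pLayer (X := ↥X) (p := 2)).le
  obtain ⟨C, hC, hLC⟩ := exists_component hz2 himg hLE
  obtain ⟨K, hK, hKC⟩ := PComponents.exists_pcomp (p := 2) hC
  have hJ : IsComp X (K.map X.subtype) := isComp_of_subtype hK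
  refine ⟨K.map X.subtype, hJ, ?_⟩
  obtain ⟨J, hJdef⟩ : ∃ J, J = K.map X.subtype := ⟨_, rfl⟩
  rw [← hJdef] at hJ ⊢
  have hJX := hJ.le
  have hxJ : IsComp X (cj x J) := by
    have := hJ.cj x
    rwa [cj_eq_self_of_mem hx] at this
  have hWX : J ⊔ cj x J ≤ X := sup_le hJ.le hxJ.le
  have hs : ((J ⊔ cj x J).subgroupOf X).IsSubnormal := by
    have h1 : (J ⊔ cj x J).subgroupOf X = J.subgroupOf X ⊔ (cj x J).subgroupOf X := by
      apply Subgroup.map_injective X.subtype_injective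
      rw [Subgroup.map_sup, subgroupOf_map_subtype, subgroupOf_map_subtype, subgroupOf_map_subtype,
        inf_of_le_left hWX, inf_of_le_left hJ.le, inf_of_le_left hxJ.le]
    rw [h1]
    exact SubnormalJoin.isSubnormal_sup hJ.2.1 hxJ.2.1
  have hKJ : J.subgroupOf X = K := by
    rw [hJdef, subgroupOf, comap_map_eq_self_of_injective X.subtype_injective]
  have hmapJ : (J.subgroupOf X).map π = C := by rw [hKJ, hπ]; exact hKC
  have hmapxJ : ((cj x J).subgroupOf X).map π = cj (π ⟨x, hx⟩) C := by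
    rw [← hmapJ]
    ext y
    constructor
    · rintro ⟨⟨a, haX⟩, ha, rfl⟩
      have ha' : a ∈ cj x J := ha
      rw [mem_cj] at ha' ⊢
      refine ⟨⟨x⁻¹ * a * x, hJX ha'⟩, ha', ?_⟩
      rw [← map_inv, ← map_mul, ← map_mul]
      rfl
    · rintro ⟨_, ⟨⟨a, haX⟩, ha, rfl⟩, rfl⟩
      refine ⟨⟨x * a * x⁻¹, X.mul_mem (X.mul_mem hx haX) (X.inv_mem hx)⟩, conj_mem_cj ha, ?_⟩
      change _ = π ⟨x, hx⟩ * π ⟨a, haX⟩ * (π ⟨x, hx⟩)⁻¹
      rw [← map_inv, ← map_mul, ← map_mul]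
      rfl
  have hmapW : ((J ⊔ cj x J).subgroupOf X).map π = C ⊔ cj (π ⟨x, hx⟩) C := by
    have h1 : (J ⊔ cj x J).subgroupOf X = J.subgroupOf X ⊔ (cj x J).subgroupOf X := by
      apply Subgroup.map_injective X.subtype_injective
      rw [Subgroup.map_sup, subgroupOf_map_subtype, subgroupOf_map_subtype, subgroupOf_map_subtype,
        inf_of_le_left hWX, inf_of_le_left hJ.le, inf_of_le_left hxJ.le]
    rw [h1, Subgroup.map_sup, hmapJ, hmapxJ]
  apply hL.le_of_two
  intro l hl n hn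
  have h1 : π ⟨l, hLX hl⟩ ∈ ((J ⊔ cj x J).subgroupOf X).map π := by
    rw [hmapW]
    exact hLC ⟨_, hl, rfl⟩
  have h2 : (⟨l, hLX hl⟩ : ↥X) ∈ (J ⊔ cj x J).subgroupOf X := by
    have h3 := PComponents.pElem_comap_le (p := 2) hs
      (C := ((J ⊔ cj x J).subgroupOf X).map (QuotientGroup.mk' (pPrimeCore 2 ↥X))) rfl
    apply h3
    refine PComponents.mem_pElem (n := n) ?_ ?_
    · rw [mem_comap]
      rw [hπ] at h1
      exact h1
    · ext; simpa using hn
  exact h2

/-- The simple tops of two 2-components: a surjection `J → STop L` killing `O(J)` gives an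
isomorphism of the tops. -/
theorem sTop_equiv {X Y J L : Subgroup G} (hJ : IsComp X J) (hL : IsComp Y L) (F : J →* STop L)
    (hF : Function.Surjective F) (hker : oddCore ↥J ≤ F.ker) : Nonempty (STop J ≃* STop L) := by
  let F' : Bar J →* STop L := QuotientGroup.lift (oddCore ↥J) F hker
  have hF' : Function.Surjective F' := by
    intro y
    obtain ⟨j, rfl⟩ := hF y
    exact ⟨QuotientGroup.mk j, rfl⟩
  have h1 := ker_eq_center (quasisimple hJ) F' hF' (top_simple hL) (top_nonComm hL)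
  exact ⟨(QuotientGroup.quotientMulEquivOfEq h1.symm).trans
    (QuotientGroup.quotientKerEquivOfSurjective F' hF')⟩

/-- **Diagonal case.** -/
theorem diagonal {X L J : Subgroup G} {x : G} (hx : x ∈ X) (hx2 : x * x = 1)
    (hL : IsComp (X ⊓ centralizer ({x} : Set G)) L) (hJ : IsComp X J) (hLJ : L ≤ J ⊔ cj x J)
    (hne : x ∉ normalizer (J : Set G)) :
    (∀ j ∈ J, ∃ l ∈ L, l⁻¹ * (j * (x * j * x⁻¹)) ∈ core X) ∧
    (∀ l ∈ L, ∃ j ∈ J, l⁻¹ * (j * (x * j * x⁻¹)) ∈ core X) ∧ Nonempty (STop J ≃* STop L) := by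
  have hp : Fact (Nat.Prime 2) := ⟨Nat.prime_two⟩
  have hLX : L ≤ X := hL.le.trans inf_le_left
  have hJX := hJ.le
  obtain ⟨π, hπ⟩ : ∃ π, π = QuotientGroup.mk' (oddCore ↥X) := ⟨_, rfl⟩
  have himg := Intrinsic.PumpUp.tc_image hx hx2 hL.tc
  rw [← hπ] at himg
  obtain ⟨z, hz⟩ : ∃ z, z = π ⟨x, hx⟩ := ⟨_, rfl⟩
  rw [← hz] at himg
  have hz2 : z * z = 1 := by
    rw [hz, ← map_mul]
    have : (⟨x, hx⟩ : X) * ⟨x, hx⟩ = 1 := Subtype.ext hx2
    rw [this, map_one]
  obtain ⟨C, hCdef⟩ : ∃ C, C = (J.subgroupOf X).map π := ⟨_, rfl⟩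
  have hC : IsComponent C := by
    rw [hCdef, hπ]
    exact hJ.2.2.1
  have hmapxJ : ((cj x J).subgroupOf X).map π ≤ cj z C := by
    rintro _ ⟨⟨a, haX⟩, ha, rfl⟩
    have ha' : a ∈ cj x J := ha
    rw [mem_cj] at ha' ⊢
    rw [hCdef]
    refine ⟨⟨x⁻¹ * a * x, hJX ha'⟩, ha', ?_⟩
    rw [hz, ← map_inv, ← map_mul, ← map_mul]
    rfl
  have hne' : C ≠ cj z C := by
    intro h
    apply hne
    have h1 : z ∈ normalizer (C : Set _) := mem_normalizer_iff_cj.mpr h.symm
    have h2 : (⟨x, hx⟩ : X) ∈ normalizer ((J.subgroupOf X : Subgroup X) : Set X) := by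
      refine PComponents.mem_normalizer_of_map hJ.2 ?_
      rw [hCdef, hz, hπ] at h1
      exact h1
    rw [mem_normalizer_iff] at h2 ⊢
    intro y
    constructor
    · intro hy
      have := (h2 ⟨y, hJX hy⟩).mp hy
      exact this
    · intro hy
      have hyX : y ∈ X := by
        have := hJX hy
        have h3 : x⁻¹ * (x * y * x⁻¹) * x ∈ X := X.mul_mem (X.mul_mem (X.inv_mem hx) this) hx
        simpa [mul_assoc] using h3
      exact (h2 ⟨y, hyX⟩).mpr hy
  have h : cj z C ≤ centralizer (C : Set _) :=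
    Components.component_le_centralizer_of_ne (isComponent_cj hC z) hC (Ne.symm hne')
  have hLC : (L.subgroupOf X).map π ≤ C ⊔ cj z C := by
    have hWX : J ⊔ cj x J ≤ X := sup_le hJ.le (by
      have := (hJ.cj x).le
      rwa [cj_eq_self_of_mem hx] at this)
    have hxJX : cj x J ≤ X := le_sup_right.trans hWX
    have h1 : (J ⊔ cj x J).subgroupOf X = J.subgroupOf X ⊔ (cj x J).subgroupOf X := by
      apply Subgroup.map_injective X.subtype_injective
      rw [Subgroup.map_sup, subgroupOf_map_subtype, subgroupOf_map_subtype, subgroupOf_map_subtype,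
        inf_of_le_left hWX, inf_of_le_left hJ.le, inf_of_le_left hxJX]
    have h2 : L.subgroupOf X ≤ J.subgroupOf X ⊔ (cj x J).subgroupOf X := by
      rw [← h1]
      intro a ha
      exact hLJ ha
    refine (Subgroup.map_mono h2).trans ?_
    rw [Subgroup.map_sup]
    exact sup_le_sup hCdef.ge hmapxJ
  have hD := eq_range_diag hz2 himg hC hLC h
  have hrel : ∀ (a b : G) (ha : a ∈ X) (hb : b ∈ X), π ⟨a, ha⟩ = π ⟨b, hb⟩ ↔
      a⁻¹ * b ∈ core X := by
    intro a b ha hb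
    rw [hπ]
    exact mk_eq_mk_iff
  have hπx : ∀ (j : G) (hj : j ∈ X), π ⟨j, hj⟩ * (z * π ⟨j, hj⟩ * z⁻¹) =
      π ⟨j * (x * j * x⁻¹), X.mul_mem hj (X.mul_mem (X.mul_mem hx hj) (X.inv_mem hx))⟩ := by
    intro j hj
    rw [hz, ← map_inv, ← map_mul, ← map_mul, ← map_mul]
    rfl
  have hJC : ∀ j (hj : j ∈ J), π ⟨j, hJX hj⟩ ∈ C := by
    intro j hj
    rw [hCdef]
    exact ⟨⟨j, hJX hj⟩, hj, rfl⟩
  refine ⟨?_, ?_, ?_⟩
  · intro j hj
    have h1 : diag h ⟨_, hJC j hj⟩ ∈ (L.subgroupOf X).map π := by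
      rw [hD]; exact ⟨_, rfl⟩
    obtain ⟨⟨l, hlX⟩, hl, hl2⟩ := h1
    refine ⟨l, hl, ?_⟩
    rw [← hrel l _ hlX (X.mul_mem (hJX hj) (X.mul_mem (X.mul_mem hx (hJX hj)) (X.inv_mem hx))),
      hl2, ← hπx]
    rfl
  · intro l hl
    have h1 : π ⟨l, hLX hl⟩ ∈ (diag h).range := by
      rw [← hD]; exact ⟨_, hl, rfl⟩
    obtain ⟨⟨c, hc⟩, hc2⟩ := h1
    have hc' := hc
    rw [hCdef] at hc'
    obtain ⟨⟨j, hjX⟩, hj, rfl⟩ := hc'
    refine ⟨j, hj, ?_⟩
    rw [← hrel l _ (hLX hl) (X.mul_mem hjX (X.mul_mem (X.mul_mem hx hjX) (X.inv_mem hx))),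
      ← hc2, ← hπx]
    rfl
  · let lam : L →* (↥X ⧸ oddCore ↥X) := π.comp (inclusion hLX)
    have hlamr : lam.range = (diag h).range := by
      rw [← hD]
      ext y
      constructor
      · rintro ⟨l, rfl⟩
        exact ⟨⟨l, hLX l.2⟩, l.2, rfl⟩
      · rintro ⟨⟨l, hlX⟩, hl, rfl⟩
        exact ⟨⟨l, hl⟩, rfl⟩
    have hlamker : lam.ker ≤ (topMap L).ker := by
      intro l hl
      have h1 : (l : G) ∈ core X := by
        have h2 : π ⟨l, hLX l.2⟩ = π ⟨1, X.one_mem⟩ := by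
          have h3 : π ⟨1, X.one_mem⟩ = 1 := map_one π
          rw [h3]
          exact hl
        rw [hrel] at h2
        simpa using h2
      rw [mem_ker_topMap]
      intro y hy
      -- `L ∩ core X` is an odd normal subgroup of `L`
      have h4 : L ⊓ core X ≤ core L := by
        refine le_core inf_le_left ?_ ?_
        · intro a ha
          rw [mem_normalizer_iff]
          intro b
          have e1 := mem_normalizer_iff.mp (le_normalizer ha : a ∈ normalizer (L : Set G)) b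
          have e2 := mem_normalizer_iff.mp (le_normalizer_core X (hLX ha)) b
          exact and_congr e1 e2
        · have h5 := odd_card_core X
          exact Odd.of_dvd_nat h5 (card_dvd_of_le inf_le_right)
      apply h4
      refine ⟨L.mul_mem (L.mul_mem (L.mul_mem l.2 hy) (L.inv_mem l.2)) (L.inv_mem hy), ?_⟩
      have e3 : y * (l : G)⁻¹ * y⁻¹ ∈ core X :=
        conj_mem_core (le_normalizer (hLX hy)) ((core X).inv_mem h1)
      have e4 : ⁅(l : G), y⁆ = l * (y * (l : G)⁻¹ * y⁻¹) := by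
        rw [commutatorElement_def]; group
      rw [e4]
      exact (core X).mul_mem h1 e3
    let g : lam.range →* STop L :=
      (QuotientGroup.lift lam.ker (topMap L) hlamker).comp
        (QuotientGroup.quotientKerEquivRange lam).symm.toMonoidHom
    have hg : ∀ l : L, g ⟨lam l, ⟨l, rfl⟩⟩ = topMap L l := by
      intro l
      have e : (QuotientGroup.quotientKerEquivRange lam).symm ⟨lam l, ⟨l, rfl⟩⟩ =
          QuotientGroup.mk l := by
        rw [MulEquiv.symm_apply_eq]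
        rfl
      change (QuotientGroup.lift lam.ker (topMap L) hlamker)
        ((QuotientGroup.quotientKerEquivRange lam).symm ⟨lam l, ⟨l, rfl⟩⟩) = _
      rw [e]
      rfl
    let πJ : J →* C := (π.comp (inclusion hJX)).codRestrict C (fun j => hJC j j.2)
    let psi : J →* lam.range := ((diag h).comp πJ).codRestrict lam.range (fun j => by
      rw [hlamr]; exact ⟨_, rfl⟩)
    have hpsi : ∀ r : lam.range, ∃ j, psi j = r := by
      rintro ⟨r, hr⟩
      have hr' := hr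
      rw [hlamr] at hr'
      obtain ⟨⟨c, hc⟩, hc2⟩ := hr'
      have hc' := hc
      rw [hCdef] at hc'
      obtain ⟨⟨j, hjX⟩, hj, rfl⟩ := hc'
      exact ⟨⟨j, hj⟩, Subtype.ext hc2⟩
    refine sTop_equiv hJ hL (g.comp psi) ?_ ?_
    · intro y
      obtain ⟨l, rfl⟩ := topMap_surjective L y
      obtain ⟨j, hj⟩ := hpsi ⟨lam l, ⟨l, rfl⟩⟩
      refine ⟨j, ?_⟩
      change g (psi j) = _
      rw [hj, hg]
    · intro j hj
      rw [MonoidHom.mem_ker]
      have h1 : (j : G) ∈ core J := ⟨j, hj, rfl⟩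
      have h2 : (j : G) ∈ core X := hJ.core_le_core h1
      have h3 : π ⟨j, hJX j.2⟩ = 1 := by
        have h4 : π ⟨j, hJX j.2⟩ = π ⟨1, X.one_mem⟩ := by
          rw [hrel]
          simpa using h2
        rw [h4]
        exact map_one π
      have h5 : psi j = 1 := by
        apply Subtype.ext
        change π ⟨j, hJX j.2⟩ * (z * π ⟨j, hJX j.2⟩ * z⁻¹) = 1
        rw [h3]
        group
      change g (psi j) = 1
      rw [h5, map_one]

end general

end Cfsg.Agent.GH.PumpUp
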