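import Cfsg.Agent.GH.Comp
import Cfsg.Agent.GH.PumpUp
import Cfsg.Agent.Intrinsic.Cen
import Cfsg.Agent.SignalizersComponents.QsBasic
import Cfsg.Agent.S0014

/-!
# GH-Q, scenario A: rank lemmas

* `isCyclic_of_srank_le_one` : a finite 2-group of sectional rank at most 1 is cyclic.
* `two_le_srank_top` : the simple top of a 2-component has sectional 2-rank at least 2.
* `srank_three` : three distinct 2-components give sectional rank at least `r₁ + r₂ + r₃`.
* `not_three` : with sectional rank at most 4 there are at most two 2-components.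
-/

set_option autoImplicit false

open Cfsg Subgroup
open Cfsg.Agent.Intrinsic.Basic
open Cfsg.Agent.SignalizersComponents.IntrinsicBasic
open Cfsg.Agent.TwoFusion.SectionalRank
open Cfsg.Agent.GH.Defs Cfsg.Agent.GH.Rank Cfsg.Agent.GH.Comp
open Cfsg.Agent.SignalizersComponents
open scoped commutatorElement

namespace Cfsg.Agent.GH.QA

/-- A finite 2-group of sectional rank at most 1 is cyclic. -/
theorem isCyclic_of_srank_le_one {P : Type*} [Group P] [Finite P] (hP : IsPGroup 2 P)
    (h : SectionalPRankLE 2 1 P) : IsCyclic P := by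
  have : Fact (Nat.Prime 2) := ⟨Nat.prime_two⟩
  by_contra hc
  have hne : ∀ x : P, zpowers x ≠ ⊤ := by
    intro x hx
    exact hc ⟨⟨x, fun y => by
      have : y ∈ zpowers x := hx ▸ mem_top y
      exact this⟩⟩
  obtain ⟨M, hM, -⟩ := (eq_top_or_exists_le_coatom (zpowers (1 : P))).resolve_left (hne 1)
  obtain ⟨x, hx⟩ : ∃ x, x ∉ M := by
    by_contra hcon
    push Not at hcon
    exact hM.1 (eq_top_iff.2 fun y _ => hcon y)
  obtain ⟨N, hN, hxN⟩ := (eq_top_or_exists_le_coatom (zpowers x)).resolve_left (hne x)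
  obtain ⟨hMn, hMi⟩ := Cfsg.Agent.S0014.coatom_normal_index hP hM
  obtain ⟨hNn, hNi⟩ := Cfsg.Agent.S0014.coatom_normal_index hP hN
  rw [sectionalPRankLE_iff] at h
  have h1 := h ⊤ (M ⊓ N)
    { le := le_top
      comm := by
        intro a _ b _
        refine ⟨?_, ?_⟩
        · change _ ∈ M
          have h2 := mul_mem_iff_of_index_two hMi (a := a * b) (b := a⁻¹ * b⁻¹)
          rw [← mul_assoc] at h2
          rw [h2, mul_mem_iff_of_index_two hMi, mul_mem_iff_of_index_two hMi, inv_mem_iff,
            inv_mem_iff]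
        · change _ ∈ N
          have h2 := mul_mem_iff_of_index_two hNi (a := a * b) (b := a⁻¹ * b⁻¹)
          rw [← mul_assoc] at h2
          rw [h2, mul_mem_iff_of_index_two hNi, mul_mem_iff_of_index_two hNi, inv_mem_iff,
            inv_mem_iff]
      pow := by
        intro a _
        exact ⟨sq_mem_of_index_two hMi a, sq_mem_of_index_two hNi a⟩ }
  have h2 : (M ⊓ N).relIndex M * M.index = (M ⊓ N).index := relIndex_mul_index inf_le_left
  have h3 : (M ⊓ N).relIndex M ≠ 1 := by
    intro h4
    rw [relIndex_eq_one] at h4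
    have h5 : M ≤ N := h4.trans inf_le_right
    rcases hM.le_iff.1 h5 with h6 | h6
    · exact hN.1 h6
    · exact hx (h6 ▸ hxN (mem_zpowers x))
  have h4 : (M ⊓ N).relIndex M ≠ 0 := by
    intro h0
    rw [h0, zero_mul] at h2
    exact index_ne_zero_of_finite h2.symm
  have h5 : 4 ≤ (M ⊓ N).index := by
    rw [← h2, hMi]; omega
  have h6 := card_mul_index (M ⊓ N)
  rw [card_top, ← h6] at h1
  have h7 : 0 < Nat.card (M ⊓ N : Subgroup P) := Nat.card_pos
  nlinarith

variable {G : Type*} [Group G] [Finite G]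

/-- A finite perfect group with a central Sylow 2-subgroup has odd order. -/
theorem odd_of_perfect_of_central {L : Type*} [Group L] [Finite L] (hp : Group.IsPerfect L)
    (S : Sylow 2 L) (hS : (S : Subgroup L) ≤ center L) : ¬ 2 ∣ Nat.card L := by
  have : Fact (Nat.Prime 2) := ⟨Nat.prime_two⟩
  have hcomm : ∀ a ∈ (S : Subgroup L), ∀ b ∈ (S : Subgroup L), a * b = b * a := fun a ha b _ =>
    (mem_center_iff.mp (hS ha) b).symm
  have hle : normalizer ((S : Subgroup L) : Set L) ≤ centralizer ((S : Subgroup L) : Set L) := by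
    intro x _
    rw [mem_centralizer_iff]
    intro s hs
    exact (mem_center_iff.mp (hS hs) x).symm
  have hcompl := MonoidHom.ker_transferSylow_isComplement' S hle
  set K := (MonoidHom.transferSylow S hle).ker
  have hK : K = ⊤ := by
    have hle : commutator L ≤ K := by
      rw [commutator_def, Subgroup.commutator_le]
      intro a _ b _
      rw [MonoidHom.mem_ker, map_commutatorElement, commutatorElement_eq_one_iff_mul_comm]
      exact Subtype.ext (hcomm _ (SetLike.coe_mem _) _ (SetLike.coe_mem _))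
    rw [hp.commutator_eq_top] at hle
    exact top_le_iff.mp hle
  rw [hK, Subgroup.isComplement'_top_left] at hcompl
  intro h2
  have h3 : 2 ∣ Nat.card (S : Subgroup L) := by
    rw [S.card_eq_multiplicity]
    apply dvd_pow_self
    rw [← pos_iff_ne_zero]
    exact Nat.prime_two.factorization_pos_of_dvd Nat.card_pos.ne' h2
  rw [hcompl] at h3
  simp at h3

/-- The simple top of a 2-component has even order. -/
theorem even_top {H K : Subgroup G} (hK : IsComp H K) : 2 ∣ Nat.card (STop K) := by
  have : Fact (Nat.Prime 2) := ⟨Nat.prime_two⟩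
  have hq := quasisimple hK
  by_contra h2
  obtain ⟨S⟩ : Nonempty (Sylow 2 (Bar K)) := inferInstance
  have h3 : (S : Subgroup (Bar K)) ≤ center (Bar K) := by
    intro x hx
    obtain ⟨n, hn⟩ := S.2 ⟨x, hx⟩
    have hn' : x ^ 2 ^ n = 1 := congrArg Subtype.val hn
    have h4 : ((QuotientGroup.mk' (center (Bar K))) x) ^ 2 ^ n = 1 := by
      rw [← map_pow, hn', map_one]
    have h5 : orderOf ((QuotientGroup.mk' (center (Bar K))) x) = 1 := by
      refine Nat.eq_one_of_dvd_coprimes ?_ (orderOf_dvd_natCard _) (orderOf_dvd_of_pow_eq_one h4)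
      exact Nat.Coprime.pow_right n ((Nat.prime_two.coprime_iff_not_dvd.2 h2).symm)
    exact (QuotientGroup.eq_one_iff x).mp (orderOf_eq_one_iff.mp h5)
  have h4 := odd_of_perfect_of_central hq.1 S h3
  apply h4
  have h5 : 2 ∣ Nat.card K := hK.even
  rw [card_eq_card_quotient_mul_card_subgroup (oddCore ↥K)] at h5
  rcases (Nat.prime_two.dvd_mul).1 h5 with h6 | h6
  · exact h6
  · exfalso
    have h7 := Lib.Cores.pPrimeCore_coprime (G := K) 2
    have h8 := (Nat.coprime_two_right.1 h7)
    exact (Nat.not_even_iff_odd.2 h8) (even_iff_two_dvd.2 h6)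

/-- The simple top of a 2-component has sectional 2-rank at least 2. -/
theorem two_le_srank_top {H K : Subgroup G} (hK : IsComp H K) : 2 ≤ srank 2 (STop K) := by
  have : Fact (Nat.Prime 2) := ⟨Nat.prime_two⟩
  by_contra h
  have h1 : srank 2 (STop K) ≤ 1 := by omega
  obtain ⟨S⟩ : Nonempty (Sylow 2 (STop K)) := inferInstance
  rw [← srank_sylow S, srank_le_iff (by norm_num)] at h1
  have h2 := isCyclic_of_srank_le_one S.2 h1
  have hs := top_simple hK
  have hp : Group.IsPerfect (STop K) := by
    have := (quasisimple hK).1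
    infer_instance
  exact QsBasic.not_isCyclic_sylow (even_iff_two_dvd.2 (even_top hK)) S h2

/-- Three distinct 2-components. -/
theorem srank_three {H K L M : Subgroup G} (hK : IsComp H K) (hL : IsComp H L) (hM : IsComp H M)
    (hKL : K ≠ L) (hKM : K ≠ M) (hLM : L ≠ M) :
    srank 2 (STop K) + (srank 2 (STop L) + srank 2 (STop M)) ≤ srank 2 H := by
  have hp : (2 : ℕ).Prime := Nat.prime_two
  rw [← srank_prod hp, ← srank_prod hp]
  let π : H →* H ⧸ oddCore ↥H := QuotientGroup.mk' (oddCore ↥H)
  have hπ : ∀ (a : G) (ha : a ∈ H), π ⟨a, ha⟩ = 1 ↔ a ∈ core H := by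
    intro a ha
    rw [mem_core_iff ha]
    exact QuotientGroup.eq_one_iff _
  have hcomm : ∀ {A B : Subgroup G} (hA : IsComp H A) (hB : IsComp H B) (_ : A ≠ B) (a : A) (b : B),
      Commute (π.comp (inclusion hA.le) a) (π.comp (inclusion hB.le) b) := by
    intro A B hA hB hne a b
    have h1 : ⁅(a : G), (b : G)⁆ ∈ core H := by
      have h2 := hA.comm_le_core hB hne (commutator_mem_commutator a.2 b.2)
      exact hA.core_le_core h2.1
    have h3 : π ⁅(⟨a, hA.le a.2⟩ : H), (⟨b, hB.le b.2⟩ : H)⁆ = 1 := by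
      rw [commutatorElement_def] at h1
      exact (hπ _ (SetLike.coe_mem (⁅(⟨a, hA.le a.2⟩ : H), (⟨b, hB.le b.2⟩ : H)⁆ : H))).mpr h1
    rw [map_commutatorElement] at h3
    exact commutatorElement_eq_one_iff_commute.mp h3
  have hker : ∀ {A : Subgroup G} (hA : IsComp H A) (a : A),
      (∀ y : A, Commute (π.comp (inclusion hA.le) a) (π.comp (inclusion hA.le) y)) →
      topMap A a = 1 := by
    intro A hA a ha
    rw [← MonoidHom.mem_ker, mem_ker_topMap]
    intro y hy
    have h5 : π.comp (inclusion hA.le) ⁅a, ⟨y, hy⟩⁆ = 1 := by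
      rw [map_commutatorElement]
      exact commutatorElement_eq_one_iff_commute.mpr (ha ⟨y, hy⟩)
    have h6 : ⁅(a : G), y⁆ ∈ core H := (hπ _ (hA.le (A.mul_mem
      (A.mul_mem (A.mul_mem a.2 hy) (A.inv_mem a.2)) (A.inv_mem hy)))).mp h5
    rw [hA.core_eq]
    exact ⟨A.mul_mem (A.mul_mem (A.mul_mem a.2 hy) (A.inv_mem a.2)) (A.inv_mem hy), h6⟩
  let fK : K →* H ⧸ oddCore ↥H := π.comp (inclusion hK.le)
  let fL : L →* H ⧸ oddCore ↥H := π.comp (inclusion hL.le)
  let fM : M →* H ⧸ oddCore ↥H := π.comp (inclusion hM.le)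
  let f1 : L × M →* H ⧸ oddCore ↥H := MonoidHom.noncommCoprod fL fM (hcomm hL hM hLM)
  have h1 : ∀ (k : K) (m : L × M), Commute (fK k) (f1 m) := by
    rintro k ⟨l, m⟩
    exact (hcomm hK hL hKL k l).mul_right (hcomm hK hM hKM k m)
  let f : K × (L × M) →* H ⧸ oddCore ↥H := MonoidHom.noncommCoprod fK f1 h1
  let g : K × (L × M) →* STop K × (STop L × STop M) :=
    MonoidHom.prodMap (topMap K) (MonoidHom.prodMap (topMap L) (topMap M))
  have h0 : srank 2 (H ⧸ oddCore ↥H) ≤ srank 2 H := srank_quotient_le hp.one_lt _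
  refine le_trans ((srank_le_iff hp.one_lt).2 ?_) h0
  refine of_homs (srank_spec hp.one_lt) f g ?_ ?_
  · rintro ⟨x, y, z⟩
    obtain ⟨a, rfl⟩ := topMap_surjective K x
    obtain ⟨b, rfl⟩ := topMap_surjective L y
    obtain ⟨c, rfl⟩ := topMap_surjective M z
    exact ⟨(a, b, c), rfl⟩
  · rintro ⟨k, l, m⟩ h
    have h2 : fK k * (fL l * fM m) = 1 := h
    have e1 : fK k = (fL l * fM m)⁻¹ := eq_inv_of_mul_eq_one_left h2
    have e2 : fL l = (fK k)⁻¹ * (fM m)⁻¹ := by
      rw [e1, inv_inv, mul_inv_cancel_right]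
    have e3 : fM m = (fL l)⁻¹ * (fK k)⁻¹ := by
      rw [e1, inv_inv, inv_mul_cancel_left]
    refine Prod.ext (hker hK k fun y => ?_) (Prod.ext (hker hL l fun y => ?_) (hker hM m fun y => ?_))
    · change Commute (fK k) (fK y)
      rw [e1]
      exact ((hcomm hK hL hKL y l).mul_right (hcomm hK hM hKM y m)).symm.inv_left
    · change Commute (fL l) (fL y)
      rw [e2]
      exact ((hcomm hK hL hKL k y).inv_left).mul_left ((hcomm hM hL hLM.symm m y).inv_left)
    · change Commute (fM m) (fM y)
      rw [e3]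
      exact ((hcomm hL hM hLM l y).inv_left).mul_left ((hcomm hK hM hKM k y).inv_left)

/-- Sectional rank at most 4: at most two 2-components. -/
theorem only_two (hr : SectionalPRankLE 2 4 G) {H K L M : Subgroup G} (hK : IsComp H K)
    (hL : IsComp H L) (hM : IsComp H M) (hKL : K ≠ L) : M = K ∨ M = L := by
  by_contra hcon
  push Not at hcon
  have h1 := srank_three hK hL hM hKL hcon.1.symm hcon.2.symm
  have h2 := two_le_srank_top hK
  have h3 := two_le_srank_top hL
  have h4 := two_le_srank_top hM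
  have h5 : srank 2 H ≤ 4 := (srank_subgroup_le (by norm_num) _).trans
    ((srank_le_iff (by norm_num)).2 hr)
  omega

end Cfsg.Agent.GH.QA
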