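import Cfsg.Agent.GH.QADefs
import Cfsg.Agent.GH.QARank
import Cfsg.Agent.GH.QAZStar

/-!
# GH-Q (I): components containing the involution, `alpha` pairs

Facts on `QC z K` and `Alpha a b Ka Kb Ja Jb` (see `QADefs`).
-/

set_option autoImplicit false

open Cfsg Subgroup
open Cfsg.Agent.Intrinsic.Basic Cfsg.Agent.Intrinsic.Cen
open Cfsg.Agent.SignalizersComponents.IntrinsicBasic
open Cfsg.Agent.TwoFusion.SectionalRank
open Cfsg.Agent.GH.Defs Cfsg.Agent.GH.Rank Cfsg.Agent.GH.Comp
open scoped commutatorElement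

namespace Cfsg.Agent.GH.QA

variable {G : Type*} [Group G]

/-! ### involutions -/

theorem sq_of_order {x : G} (h : orderOf x = 2) : x * x = 1 := by
  rw [← pow_two, ← h, pow_orderOf_eq_one]

theorem ne_one_of_order {x : G} (h : orderOf x = 2) : x ≠ 1 := by
  rintro rfl
  simp at h

theorem order_of_sq {x : G} (h2 : x * x = 1) (h1 : x ≠ 1) : orderOf x = 2 :=
  orderOf_eq_prime (by rw [pow_two, h2]) h1

theorem inv_of_sq {x : G} (h : x * x = 1) : x⁻¹ = x := inv_eq_of_mul_eq_one_right h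

theorem sq_cj {x : G} (h : x * x = 1) (g : G) : (g * x * g⁻¹) * (g * x * g⁻¹) = 1 := by
  calc (g * x * g⁻¹) * (g * x * g⁻¹) = g * (x * x) * g⁻¹ := by group
    _ = 1 := by rw [h]; group

theorem ne_one_cj {x : G} (h : x ≠ 1) (g : G) : g * x * g⁻¹ ≠ 1 := by
  intro h3
  apply h
  calc x = g⁻¹ * (g * x * g⁻¹) * g := by group
    _ = 1 := by rw [h3]; group

theorem mul_sq {a b : G} (ha : a * a = 1) (hb : b * b = 1) (hab : a * b = b * a) :
    (a * b) * (a * b) = 1 := by
  calc (a * b) * (a * b) = a * (b * a) * b := by group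
    _ = (a * a) * (b * b) := by rw [← hab]; group
    _ = 1 := by rw [ha, hb, one_mul]

theorem mul_ne_one {a b : G} (ha : a * a = 1) (hne : a ≠ b) : a * b ≠ 1 := by
  intro h
  apply hne
  calc a = a * (a * b) := by rw [h, mul_one]
    _ = b := by rw [← mul_assoc, ha, one_mul]

/-- conjugation and `cj` -/
theorem comp2_cj {x : G} {K : Subgroup G} (h : Comp2 x K) (g : G) :
    Comp2 (g * x * g⁻¹) (cj g K) := by
  refine ⟨?_, ?_⟩
  · have e : orderOf (MulAut.conj g x) = orderOf x := orderOf_injective (MulAut.conj g).toMonoidHom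
      (MulAut.conj g).injective x
    rw [← h.inv, ← e]
    rfl
  · rw [← cj_centralizer]
    exact h.comp.cj g

/-- centralizers of a four-group -/
theorem cent_inf_mul {a b : G} :
    centralizer ({a * b} : Set G) ⊓ centralizer ({b} : Set G) =
      centralizer ({a} : Set G) ⊓ centralizer ({b} : Set G) := by
  ext x
  simp only [mem_inf, mem_centralizer_singleton_iff]
  constructor
  · rintro ⟨h1, h2⟩
    refine ⟨?_, h2⟩
    have h3 : x * a * b = a * x * b := by
      calc x * a * b = x * (a * b) := by group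
        _ = a * (b * x) := by rw [h1]; group
        _ = a * x * b := by rw [← h2]; group
    exact mul_right_cancel h3
  · rintro ⟨h1, h2⟩
    refine ⟨?_, h2⟩
    calc x * (a * b) = (x * a) * b := by group
      _ = a * (x * b) := by rw [h1]; group
      _ = a * b * x := by rw [h2]; group

theorem cent_inf_mul' {a b : G} (hab : a * b = b * a) :
    centralizer ({a * b} : Set G) ⊓ centralizer ({a} : Set G) =
      centralizer ({b} : Set G) ⊓ centralizer ({a} : Set G) := by
  rw [hab]
  exact cent_inf_mul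

/-! ### `QC` -/

namespace QC

variable {z : G} {K L : Subgroup G}

theorem sq (h : QC z K) : z * z = 1 := sq_of_order h.comp.inv

theorem ne_one (h : QC z K) : z ≠ 1 := ne_one_of_order h.comp.inv

theorem mul_comm_of (h : QC z K) {k : G} (hk : k ∈ K) : k * z = z * k :=
  mem_centralizer_singleton_iff.mp (h.comp.comp.le hk)

theorem cj (h : QC z K) (g : G) : QC (g * z * g⁻¹) (cj g K) :=
  ⟨comp2_cj h.comp g, conj_mem_cj h.mem⟩

variable [Finite G]

theorem qt (h : QC z K) (F : Frame G) : QT K :=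
  F.even_qt z K h.comp (evenCenter_of_mem h.comp h.mem)

/-- `z` is the only involution of `K` -/
theorem eq_z (h : QC z K) (F : Frame G) {a : G} (ha : a ∈ K) (h2 : a * a = 1) (h1 : a ≠ 1) :
    a = z := h.qt F a ha z h.mem h2 h.sq h1 h.ne_one (h.mul_comm_of ha)

omit [Finite G] in
theorem unique (h : QC z K) (F : Frame G) (h' : QC z L) : K = L :=
  F.one z K L h.comp h'.comp h.mem h'.mem

omit [Finite G] in
theorem eq_cj (h : QC z K) (F : Frame G) {g : G} (h' : QC (g * z * g⁻¹) L) : L = Cfsg.Agent.SignalizersComponents.IntrinsicBasic.cj g K :=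
  h'.unique F (h.cj g)

omit [Finite G] in
theorem centralizer_le (h : QC z K) (F : Frame G) :
    centralizer ({z} : Set G) ≤ normalizer (K : Set G) := by
  intro g hg
  rw [mem_normalizer_iff_cj]
  have h1 : g * z * g⁻¹ = z := by
    rw [mem_centralizer_singleton_iff.mp hg, mul_inv_cancel_right]
  have h2 := h.cj g
  rw [h1] at h2
  exact h2.unique F h

end QC

/-! ### pump-ups -/

variable [Finite G]

/-- `X` a 2-component of `C(u)` fixed by the involution `v`; an involution `u` of `cen X v`: there is a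
2-component of `C(v)` containing `cen X v`. -/
theorem exists_pump {u v : G} {X : Subgroup G} (hX : IsComp (centralizer ({u} : Set G)) X)
    (huX : u ∈ X) (huu : u * u = 1) (hvv : v * v = 1) (huv : u * v = v * u) (hf : Fixes v X) :
    ∃ M, IsComp (centralizer ({v} : Set G)) M ∧ cen X v ≤ M ∧ u ∈ M := by
  have hvC : v ∈ centralizer ({u} : Set G) := mem_centralizer_singleton_iff.mpr huv.symm
  have h1 := (isComp_cen hX hvC hvv hf).1
  rw [inf_comm] at h1
  have hu : u ∈ cen X v := mem_cen_of_sq huX huv huu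
  obtain ⟨M, hM, hle⟩ := exists_pumpup huu hu h1
  exact ⟨M, hM, hle, hle hu⟩

/-- existence of the pump-ups of an `alpha` pair -/
theorem exists_alpha (F : Frame G) {a b : G} {Ka Kb : Subgroup G} (qa : QC a Ka) (qb : QC b Kb)
    (hne : a ≠ b) (hab : a * b = b * a) (hf : Fixes b Ka) : ∃ Ja Jb, Alpha a b Ka Kb Ja Jb := by
  -- one direction
  obtain ⟨Jb, hJb, hle, haJ⟩ := exists_pump qa.comp.comp qa.mem qa.sq qb.sq hab hf
  have hJK : Kb ≠ Jb := by
    rintro rfl
    exact hne (qb.eq_z F haJ qa.sq qa.ne_one)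
  have hfa : Fixes a Kb := qb.comp.comp.fixes_of_mem hJb hJK haJ
  obtain ⟨Ja, hJa, hle', -⟩ := exists_pump qb.comp.comp qb.mem qb.sq qa.sq hab.symm hfa
  exact ⟨Ja, Jb, qa, qb, hne, hab, hf, hfa, ⟨qa.comp.inv, hJa⟩, ⟨qb.comp.inv, hJb⟩, hle', hle⟩

namespace Alpha

variable {a b : G} {Ka Kb Ja Jb : Subgroup G}

omit [Finite G] in
theorem symm (h : Alpha a b Ka Kb Ja Jb) : Alpha b a Kb Ka Jb Ja :=
  ⟨h.qb, h.qa, h.ne.symm, h.comm.symm, h.fb, h.fa, h.jb, h.ja, h.leJb, h.leJa⟩

omit [Finite G] in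
theorem mem_cen' (h : Alpha a b Ka Kb Ja Jb) : b ∈ cen Kb a :=
  mem_cen_of_sq h.qb.mem h.comm.symm h.qb.sq

omit [Finite G] in
theorem mem_J (h : Alpha a b Ka Kb Ja Jb) : b ∈ Ja := h.leJa h.mem_cen'

theorem J_ne_K (h : Alpha a b Ka Kb Ja Jb) (F : Frame G) : Ka ≠ Ja := by
  intro h1
  have h2 : b ∈ Ka := h1 ▸ h.mem_J
  exact h.ne (h.qa.eq_z F h2 h.qb.sq h.qb.ne_one).symm

theorem not_mem_J (h : Alpha a b Ka Kb Ja Jb) (F : Frame G) : a ∉ Ja := fun h1 =>
  h.J_ne_K F (F.one a Ka Ja h.qa.comp h.ja h.qa.mem h1)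

/-- `Ka`, `Ja` are the only 2-components of `C(a)` -/
theorem only (h : Alpha a b Ka Kb Ja Jb) (F : Frame G) {M : Subgroup G} (hM : Comp2 a M) :
    M = Ka ∨ M = Ja := only_two F.rank4 h.qa.comp.comp h.ja.comp hM.comp (h.J_ne_K F)

theorem centralizer_le (h : Alpha a b Ka Kb Ja Jb) (F : Frame G) :
    centralizer ({a} : Set G) ≤ normalizer (Ja : Set G) := by
  intro g hg
  rw [mem_normalizer_iff_cj]
  have h1 : g * a * g⁻¹ = a := by
    rw [mem_centralizer_singleton_iff.mp hg, mul_inv_cancel_right]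
  have h2 := comp2_cj h.ja g
  rw [h1] at h2
  rcases h.only F h2 with h3 | h3
  · exfalso
    apply h.J_ne_K F
    have h4 : cj g Ka = Ka := mem_normalizer_iff_cj.1 (h.qa.centralizer_le F hg)
    rw [← h4] at h3
    exact (cj_injective g h3).symm
  · exact h3

/-- `Ja` has odd centre or is `QT` -/
theorem even_iff (h : Alpha a b Ka Kb Ja Jb) (F : Frame G) : EvenCenter Ja ↔ QT Ja := by
  constructor
  · exact F.even_qt a Ja h.ja
  · intro hq
    by_contra hodd
    have hfix := fixes_of_qt hq h.mem_J h.qb.sq h.qb.ne_one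
    have h1 := eq_one_of_odd h.ja.comp hodd hfix ⟨b, h.mem_J, by
      rw [inv_mul_cancel]; exact one_mem _⟩ (n := 1) (by rw [pow_one, pow_two, h.qb.sq])
    exact h.qb.ne_one h1

end Alpha

end Cfsg.Agent.GH.QA
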