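import Cfsg.Agent.GH.QADefs

/-!
# GH-Q (I), scenario A: the lemma DECOMP

A 2-group `B` with two normal subgroups `W₁`, `W₂` of maximal class (quaternion or semidihedral) meeting
trivially, with invariant quaternion subgroups `Q₁`, `Q₂` of index two whose common centralizer in `B` is
`⟨a, b⟩`, is the product `W₁ W₂`.
-/

set_option autoImplicit false

open Cfsg Subgroup

namespace Cfsg.Agent.GH.QADecomp

variable {G : Type*} [Group G]

open Cfsg.Agent.GH.QA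

section One

variable {W Q : Subgroup G} {α τ z : G} {n : ℕ}

theorem z_pow (m : MC W Q α τ z n) : α ^ 2 ^ (n + 2) = z := by
  have h := m.gq.z_eq
  rw [← pow_two, ← pow_mul] at h
  rw [← h]
  congr 1
  ring

theorem z_comm (m : MC W Q α τ z n) : z * α = α * z := by
  rw [← z_pow m]
  exact ((Commute.refl α).pow_left _).eq

theorem z_comm_τ (m : MC W Q α τ z n) : z * τ = τ * z := by
  rw [← m.gq.v_sq]
  exact mul_assoc _ _ _

theorem tau_mem (m : MC W Q α τ z n) : τ ∈ W := m.le m.gq.v_mem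

theorem z_mem (m : MC W Q α τ z n) : z ∈ W := m.le m.gq.z_mem

/-- `τ α τ⁻¹ = α ^ e` for a suitable exponent `e = 3 mod 4` -/
theorem exists_exp (m : MC W Q α τ z n) : ∃ e : ℕ, e % 4 = 3 ∧ τ * α * τ⁻¹ = α ^ e ∧
    (∃ e', e = 2 * e' + 1 ∧ e' % 2 = 1) := by
  have h8 : (2 : ℕ) ^ (n + 3) = 8 * 2 ^ n := by ring
  have h4 : (2 : ℕ) ^ (n + 2) = 4 * 2 ^ n := by ring
  have hp : 0 < (2 : ℕ) ^ n := by positivity
  have hinv : α⁻¹ = α ^ (2 ^ (n + 3) - 1) := by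
    rw [inv_eq_iff_mul_eq_one, ← pow_succ', show 2 ^ (n + 3) - 1 + 1 = 2 ^ (n + 3) by omega, ← m.ord,
      pow_orderOf_eq_one]
  rcases m.conj with h | h
  · refine ⟨2 ^ (n + 3) - 1, by omega, by rw [h, hinv], 4 * 2 ^ n - 1, by omega, by omega⟩
  · refine ⟨2 ^ (n + 3) - 1 + 2 ^ (n + 2), by omega, ?_, 6 * 2 ^ n - 1, by omega, by omega⟩
    rw [h, hinv, pow_add α (2 ^ (n + 3) - 1) (2 ^ (n + 2)), z_pow m]

/-- elements outside `⟨α⟩` have order at most four -/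
theorem out_pow (m : MC W Q α τ z n) (i : ℕ) : (τ * α ^ i) ^ 4 = 1 := by
  have hz : z * z = 1 := m.gq.z_mul
  have hzi : ∀ k : ℕ, z ^ (2 * k) = 1 := fun k => by rw [pow_mul, pow_two, hz, one_pow]
  have hc : Commute z α := z_comm m
  have hct : Commute z τ := z_comm_τ m
  -- `α ^ i * τ = τ * α⁻ⁱ * z ^ k`
  have h1 : ∃ k : ℕ, τ * α ^ i * τ⁻¹ = (α ^ i)⁻¹ * z ^ k := by
    rw [← conj_pow]
    rcases m.conj with h | h
    · exact ⟨0, by rw [h, inv_pow, pow_zero, mul_one]⟩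
    · refine ⟨i, ?_⟩
      rw [h, (hc.inv_right.symm).mul_pow, inv_pow]
  obtain ⟨k, hk⟩ := h1
  have h2 : τ * α ^ i = (α ^ i)⁻¹ * z ^ k * τ := by rw [← hk]; group
  have h3 : (τ * α ^ i) * (τ * α ^ i) = z ^ (k + 1) := by
    have hzα : Commute (z ^ k) (α ^ i) := (hc.pow_pow k i)
    calc (τ * α ^ i) * (τ * α ^ i) = (τ * α ^ i) * ((α ^ i)⁻¹ * z ^ k * τ) := by rw [h2]
      _ = τ * z ^ k * τ := by group
      _ = z ^ k * (τ * τ) := by
        rw [← (hct.pow_left k).eq, mul_assoc]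
      _ = z ^ (k + 1) := by rw [m.gq.v_sq, pow_succ]
  calc (τ * α ^ i) ^ 4 = ((τ * α ^ i) * (τ * α ^ i)) ^ 2 := by rw [← pow_two, ← pow_mul]
    _ = 1 := by rw [h3, ← pow_mul, mul_comm, hzi]

/-- an element normalising `W` normalises `⟨α⟩` -/
theorem exists_k (m : MC W Q α τ z n) {x : G} (hx : x ∈ normalizer (W : Set G)) :
    ∃ k : ℕ, x * α * x⁻¹ = α ^ k ∧ k % 2 = 1 := by
  have hW : x * α * x⁻¹ ∈ W := (mem_normalizer_iff.mp hx α).mp m.mem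
  have ho : orderOf (x * α * x⁻¹) = 2 ^ (n + 3) := by
    rw [← m.ord]
    exact orderOf_injective (MulAut.conj x).toMonoidHom (MulAut.conj x).injective α
  have hp : 0 < (2 : ℕ) ^ n := by positivity
  rcases m.cov _ hW with ⟨k, hk⟩ | ⟨k, hk⟩
  · refine ⟨k, hk, ?_⟩
    by_contra hodd
    have h1 : k % 2 = 0 := by omega
    have h2 : (x * α * x⁻¹) ^ 2 ^ (n + 2) = 1 := by
      rw [hk, ← pow_mul, ← orderOf_dvd_iff_pow_eq_one, m.ord]
      obtain ⟨l, hl⟩ : ∃ l, k = 2 * l := ⟨k / 2, by omega⟩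
      exact ⟨l, by rw [hl]; ring⟩
    have h3 := Nat.le_of_dvd (by positivity) (orderOf_dvd_of_pow_eq_one h2)
    rw [ho] at h3
    have h4 : (2 : ℕ) ^ (n + 3) = 8 * 2 ^ n := by ring
    have h5 : (2 : ℕ) ^ (n + 2) = 4 * 2 ^ n := by ring
    omega
  · exfalso
    have h1 := orderOf_dvd_of_pow_eq_one (out_pow m k)
    rw [← hk, ho] at h1
    have h2 := Nat.le_of_dvd (by norm_num) h1
    have h4 : (2 : ℕ) ^ (n + 3) = 8 * 2 ^ n := by ring
    omega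

/-- an element normalising `W` and `Q` maps `τ` into `τ ⟨α²⟩` -/
theorem exists_j (m : MC W Q α τ z n) {x : G} (hx : x ∈ normalizer (W : Set G))
    (hxQ : x ∈ normalizer (Q : Set G)) : ∃ j : ℕ, x * τ * x⁻¹ = τ * (α * α) ^ j := by
  have hQ : x * τ * x⁻¹ ∈ Q := (mem_normalizer_iff.mp hxQ τ).mp m.gq.v_mem
  rcases m.gq.cov _ hQ with ⟨j, hj⟩ | ⟨j, hj⟩
  · exfalso
    obtain ⟨k, hk, -⟩ := exists_k m hx
    -- `x τ x⁻¹` commutes with `x α x⁻¹`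
    have h1 : Commute (x * τ * x⁻¹) (x * α * x⁻¹) := by
      rw [hj, hk, ← pow_two, ← pow_mul]
      exact (Commute.refl α).pow_pow _ _
    have h2 : Commute τ α := by
      have := h1.eq
      have h3 : x * (τ * α) * x⁻¹ = x * (α * τ) * x⁻¹ := by
        calc x * (τ * α) * x⁻¹ = (x * τ * x⁻¹) * (x * α * x⁻¹) := by group
          _ = (x * α * x⁻¹) * (x * τ * x⁻¹) := this
          _ = x * (α * τ) * x⁻¹ := by group
      exact mul_left_cancel (mul_right_cancel h3)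
    exact m.gq.not_comm (h2.mul_right h2).eq
  · exact ⟨j, hj⟩

/-- the normalised elements -/
structure Nrm (α τ x : G) : Prop where
  tau : x * τ = τ * x
  al : ∃ k : ℕ, k % 4 = 1 ∧ x * α * x⁻¹ = α ^ k

theorem conj_pow_exp {x α : G} {k : ℕ} (h : x * α * x⁻¹ = α ^ k) (r : ℕ) :
    x ^ r * α * (x ^ r)⁻¹ = α ^ k ^ r := by
  induction r with
  | zero => simp
  | succ r ih =>
    calc x ^ (r + 1) * α * (x ^ (r + 1))⁻¹ = x * (x ^ r * α * (x ^ r)⁻¹) * x⁻¹ := by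
          rw [pow_succ' x r]; group
      _ = (x * α * x⁻¹) ^ k ^ r := by rw [ih, conj_pow]
      _ = α ^ k ^ (r + 1) := by rw [h, ← pow_mul, pow_succ']

theorem Nrm.pow {x : G} (h : Nrm α τ x) (r : ℕ) : Nrm α τ (x ^ r) := by
  obtain ⟨k, hk, hx⟩ := h.al
  refine ⟨((show Commute x τ from h.tau).pow_left r).eq, k ^ r, ?_, conj_pow_exp hx r⟩
  simp [Nat.pow_mod, hk]

/-- square roots of `1` modulo `2 ^ (n + 3)` that are `1` modulo `4` -/
theorem modEq_of_sq {k n : ℕ} (hk : k % 4 = 1) (h : k * k ≡ 1 [MOD 2 ^ (n + 3)]) :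
    2 * k ≡ 2 [MOD 2 ^ (n + 3)] := by
  obtain ⟨l, rfl⟩ : ∃ l, k = 4 * l + 1 := ⟨k / 4, by omega⟩
  have h1 : 2 ^ (n + 3) ∣ (4 * l + 1) * (4 * l + 1) - 1 := (Nat.modEq_iff_dvd' (by nlinarith)).mp h.symm
  have h2 : (4 * l + 1) * (4 * l + 1) - 1 = 8 * (l * (2 * l + 1)) := by
    have : (4 * l + 1) * (4 * l + 1) = 8 * (l * (2 * l + 1)) + 1 := by ring
    omega
  rw [h2, show 2 ^ (n + 3) = 8 * 2 ^ n by ring] at h1
  have h3 : 2 ^ n ∣ l * (2 * l + 1) := Nat.dvd_of_mul_dvd_mul_left (by norm_num) h1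
  have h4 : Nat.Coprime (2 ^ n) (2 * l + 1) := by
    apply Nat.Coprime.pow_left
    rw [Nat.coprime_two_left]
    exact ⟨l, rfl⟩
  have h5 : 2 ^ n ∣ l := h4.dvd_of_dvd_mul_right h3
  apply Nat.ModEq.symm
  rw [Nat.modEq_iff_dvd' (by omega)]
  obtain ⟨c, rfl⟩ := h5
  exact ⟨c, by rw [show 2 ^ (n + 3) = 8 * 2 ^ n by ring]; ring_nf; omega⟩

/-- a normalised element whose square commutes with `α` centralises `Q` -/
theorem Nrm.cent (m : MC W Q α τ z n) {x : G} (h : Nrm α τ x) (hx : (x * x) * α = α * (x * x)) :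
    ∀ q ∈ Q, x * q = q * x := by
  obtain ⟨k, hk, hxα⟩ := h.al
  have h1 : α ^ (k * k) = α ^ 1 := by
    have h2 := conj_pow_exp hxα 2
    rw [pow_two k] at h2
    rw [← h2, pow_two, hx, pow_one]
    group
  have h3 : k * k ≡ 1 [MOD 2 ^ (n + 3)] := by
    rw [← m.ord]
    exact pow_eq_pow_iff_modEq.mp h1
  have h4 : x * (α * α) * x⁻¹ = α * α := by
    calc x * (α * α) * x⁻¹ = (x * α * x⁻¹) * (x * α * x⁻¹) := by group
      _ = α ^ (2 * k) := by rw [hxα, ← pow_add, two_mul]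
      _ = α ^ 2 := by
        apply pow_eq_pow_iff_modEq.mpr
        rw [m.ord]
        exact modEq_of_sq hk h3
      _ = α * α := pow_two α
  have h5 : Commute x (α * α) := by
    show x * (α * α) = (α * α) * x
    nth_rw 2 [← h4]
    group
  intro q hq
  rcases m.gq.cov q hq with ⟨i, rfl⟩ | ⟨i, rfl⟩
  · exact (h5.pow_right i).eq
  · exact ((show Commute x τ from h.tau).mul_right (h5.pow_right i)).eq

/-- normalisation by an element of `W` -/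
theorem exists_nrm (m : MC W Q α τ z n) {x : G} (hx : x ∈ normalizer (W : Set G))
    (hxQ : x ∈ normalizer (Q : Set G)) : ∃ w ∈ W, Nrm α τ (w * x) := by
  obtain ⟨j, hj⟩ := exists_j m hx hxQ
  obtain ⟨e, he4, he, e', he2, he'⟩ := exists_exp m
  obtain ⟨k, hk, hk2⟩ := exists_k m hx
  -- `α ^ i` conjugates `τ` to `τ * α ^ (i * (e - 1))` up to sign; solve for `i`
  have hτ : ∀ i : ℕ, α ^ i * τ = τ * α ^ (i * e) := by
    intro i
    -- `τ⁻¹ α τ = α ^ e` too, because `τ * τ = z` commutes with `α`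
    have h1 : τ⁻¹ * α * τ = α ^ e := by
      have h2 : τ * τ * α = α * (τ * τ) := by rw [m.gq.v_sq]; exact z_comm m
      calc τ⁻¹ * α * τ = τ⁻¹ * (α * (τ * τ)) * τ⁻¹ := by group
        _ = τ⁻¹ * (τ * τ * α) * τ⁻¹ := by rw [h2]
        _ = τ * α * τ⁻¹ := by group
        _ = α ^ e := he
    have h3 : τ⁻¹ * α ^ i * τ = α ^ (i * e) := by
      have : (τ⁻¹ * α * (τ⁻¹)⁻¹) ^ i = τ⁻¹ * α ^ i * (τ⁻¹)⁻¹ := conj_pow
      rw [inv_inv] at this
      rw [← this, h1, ← pow_mul, mul_comm]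
    rw [← h3]; group
  -- choose `i` with `i * e + 2 j = i` modulo the order
  obtain ⟨i, hi⟩ : ∃ i : ℕ, i * e + 2 * j ≡ i [MOD 2 ^ (n + 3)] := by
    have hco : Nat.Coprime e' (2 ^ (n + 3)) := by
      apply Nat.Coprime.pow_right
      rw [Nat.coprime_two_right]
      exact Nat.odd_iff.mpr he'
    obtain ⟨u, hu⟩ := Nat.exists_mul_mod_eq_one_of_coprime hco (by
      have : (2 : ℕ) ^ (n + 3) = 8 * 2 ^ n := by ring
      have h0 : 0 < 2 ^ n := by positivity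
      omega)
    -- `e' * u = 1`, take `i = u * (N - 1) * j`
    refine ⟨u * ((2 ^ (n + 3) - 1) * j), ?_⟩
    have hu' : e' * u ≡ 1 [MOD 2 ^ (n + 3)] := by
      rw [Nat.ModEq, hu.2, Nat.mod_eq_of_lt]
      have : (2 : ℕ) ^ (n + 3) = 8 * 2 ^ n := by ring
      have h0 : 0 < 2 ^ n := by positivity
      omega
    have hN : 1 ≤ 2 ^ (n + 3) := Nat.one_le_two_pow
    have h1 : u * ((2 ^ (n + 3) - 1) * j) * e + 2 * j =
        u * ((2 ^ (n + 3) - 1) * j) + 2 * (((e' * u) * ((2 ^ (n + 3) - 1) * j)) + j) := by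
      rw [he2]; ring
    rw [h1]
    have h2 : (e' * u) * ((2 ^ (n + 3) - 1) * j) + j ≡ 1 * ((2 ^ (n + 3) - 1) * j) + j [MOD 2 ^ (n + 3)] :=
      (hu'.mul_right _).add_right _
    have h3 : 1 * ((2 ^ (n + 3) - 1) * j) + j = 2 ^ (n + 3) * j := by
      obtain ⟨N, hN'⟩ : ∃ N, 2 ^ (n + 3) = N + 1 := ⟨2 ^ (n + 3) - 1, by omega⟩
      rw [hN', Nat.add_sub_cancel]; ring
    have h4 : (e' * u) * ((2 ^ (n + 3) - 1) * j) + j ≡ 0 [MOD 2 ^ (n + 3)] := by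
      rw [h3] at h2
      exact h2.trans ((Nat.modEq_zero_iff_dvd).mpr ⟨j, rfl⟩)
    have h5 := (h4.mul_left 2).add_left (u * ((2 ^ (n + 3) - 1) * j))
    rw [mul_zero, add_zero] at h5
    exact h5
  have hy : (α ^ i * x) * τ = τ * (α ^ i * x) := by
    have h1 : x * τ = τ * α ^ (2 * j) * x := by
      rw [show τ * α ^ (2 * j) = x * τ * x⁻¹ by rw [hj, ← pow_two, ← pow_mul]]
      group
    calc (α ^ i * x) * τ = α ^ i * (x * τ) := mul_assoc _ _ _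
      _ = (α ^ i * τ) * α ^ (2 * j) * x := by rw [h1]; group
      _ = τ * α ^ (i * e + 2 * j) * x := by rw [hτ, pow_add]; group
      _ = τ * α ^ i * x := by
        rw [pow_eq_pow_iff_modEq.mpr (show i * e + 2 * j ≡ i [MOD orderOf α] by rw [m.ord]; exact hi)]
      _ = τ * (α ^ i * x) := mul_assoc _ _ _
  have hyα : (α ^ i * x) * α * (α ^ i * x)⁻¹ = α ^ k := by
    calc (α ^ i * x) * α * (α ^ i * x)⁻¹ = α ^ i * (x * α * x⁻¹) * (α ^ i)⁻¹ := by group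
      _ = α ^ i * α ^ k * (α ^ i)⁻¹ := by rw [hk]
      _ = α ^ k := by rw [← pow_add, add_comm, pow_add]; group
  rcases (show k % 4 = 1 ∨ k % 4 = 3 by omega) with h4 | h4
  · exact ⟨α ^ i, W.pow_mem m.mem i, hy, k, h4, hyα⟩
  · refine ⟨τ * α ^ i, W.mul_mem (tau_mem m) (W.pow_mem m.mem i), ?_, e * k, ?_, ?_⟩
    · calc (τ * α ^ i * x) * τ = τ * ((α ^ i * x) * τ) := by group
        _ = τ * (τ * (α ^ i * x)) := by rw [hy]
        _ = τ * (τ * α ^ i * x) := by group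
    · rw [Nat.mul_mod, he4, h4]
    · calc (τ * α ^ i * x) * α * (τ * α ^ i * x)⁻¹ = τ * ((α ^ i * x) * α * (α ^ i * x)⁻¹) * τ⁻¹ := by group
        _ = τ * α ^ k * τ⁻¹ := by rw [hyα]
        _ = α ^ (e * k) := by rw [← conj_pow, he, ← pow_mul]

end One

/-- `w` commuting with `W` does not change the normalisation -/
theorem Nrm.mul_left {α τ x w : G} (h : Nrm α τ x) (hα : Commute w α) (hτ : Commute w τ) :
    Nrm α τ (w * x) := by
  obtain ⟨k, hk, hx⟩ := h.al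
  refine ⟨?_, k, hk, ?_⟩
  · calc w * x * τ = w * (x * τ) := mul_assoc _ _ _
      _ = (w * τ) * x := by rw [h.tau]; group
      _ = τ * (w * x) := by rw [hτ.eq]; group
  · calc w * x * α * (w * x)⁻¹ = w * (x * α * x⁻¹) * w⁻¹ := by group
      _ = w * α ^ k * w⁻¹ := by rw [hx]
      _ = α ^ k := by rw [(hα.pow_right k).eq]; group

/-- **DECOMP.** -/
theorem decomp {B W₁ W₂ Q₁ Q₂ : Subgroup G} {α₁ τ₁ a α₂ τ₂ b : G} {n₁ n₂ : ℕ} (hB : IsPGroup 2 B)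
    (hW₁ : W₁ ≤ B) (hW₂ : W₂ ≤ B)
    (nW₁ : B ≤ normalizer (W₁ : Set G)) (nW₂ : B ≤ normalizer (W₂ : Set G))
    (nQ₁ : B ≤ normalizer (Q₁ : Set G)) (nQ₂ : B ≤ normalizer (Q₂ : Set G))
    (m₁ : MC W₁ Q₁ α₁ τ₁ a n₁) (m₂ : MC W₂ Q₂ α₂ τ₂ b n₂) (hd : W₁ ⊓ W₂ = ⊥)
    (hc : ∀ x ∈ B, (∀ q ∈ Q₁, x * q = q * x) → (∀ q ∈ Q₂, x * q = q * x) →
      x = 1 ∨ x = a ∨ x = b ∨ x = a * b) : B = W₁ ⊔ W₂ := by
  -- the two subgroups commute
  have hcomm : ∀ x ∈ W₁, ∀ y ∈ W₂, Commute x y := by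
    intro x hx y hy
    have h1 : x * y * x⁻¹ * y⁻¹ ∈ W₁ ⊓ W₂ := by
      refine ⟨?_, ?_⟩
      · have h2 : y * x⁻¹ * y⁻¹ ∈ W₁ := (mem_normalizer_iff.mp (nW₁ (hW₂ hy)) x⁻¹).mp (W₁.inv_mem hx)
        have h3 : x * y * x⁻¹ * y⁻¹ = x * (y * x⁻¹ * y⁻¹) := by group
        rw [h3]
        exact W₁.mul_mem hx h2
      · have h2 : x * y * x⁻¹ ∈ W₂ := (mem_normalizer_iff.mp (nW₂ (hW₁ hx)) y).mp hy
        exact W₂.mul_mem h2 (W₂.inv_mem hy)
    rw [hd, mem_bot] at h1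
    show x * y = y * x
    calc x * y = (x * y * x⁻¹ * y⁻¹) * (y * x) := by group
      _ = y * x := by rw [h1, one_mul]
  have haW : a ∈ W₁ := z_mem m₁
  have hbW : b ∈ W₂ := z_mem m₂
  -- elements of `V` commute with `α₁`, `α₂`
  have hV : ∀ x, (x = 1 ∨ x = a ∨ x = b ∨ x = a * b) → x * α₁ = α₁ * x ∧ x * α₂ = α₂ * x := by
    have ha1 : Commute a α₁ := z_comm m₁
    have ha2 : Commute a α₂ := hcomm a haW α₂ m₂.mem
    have hb1 : Commute b α₁ := (hcomm α₁ m₁.mem b hbW).symm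
    have hb2 : Commute b α₂ := z_comm m₂
    rintro x (rfl | rfl | rfl | rfl)
    · simp
    · exact ⟨ha1.eq, ha2.eq⟩
    · exact ⟨hb1.eq, hb2.eq⟩
    · exact ⟨(ha1.mul_left hb1).eq, (ha2.mul_left hb2).eq⟩
  -- normalised elements lie in `V`
  have key : ∀ x ∈ B, Nrm α₁ τ₁ x → Nrm α₂ τ₂ x → x = 1 ∨ x = a ∨ x = b ∨ x = a * b := by
    intro x hx h1 h2
    let P : ℕ → Prop := fun r => x ^ 2 ^ r = 1 ∨ x ^ 2 ^ r = a ∨ x ^ 2 ^ r = b ∨ x ^ 2 ^ r = a * b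
    have hP : ∃ r, P r := by
      obtain ⟨r, hr⟩ := hB ⟨x, hx⟩
      exact ⟨r, Or.inl (by simpa using congrArg Subtype.val hr)⟩
    classical
    have hP0 : P 0 := by
      by_contra h0
      have hf := Nat.find_spec hP
      have hpos : 0 < Nat.find hP := by
        rw [Nat.find_pos]
        exact h0
      obtain ⟨r, hr⟩ : ∃ r, Nat.find hP = r + 1 := ⟨Nat.find hP - 1, by omega⟩
      have hnot : ¬ P r := Nat.find_min hP (by omega)
      apply hnot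
      have hsq : x ^ 2 ^ r * x ^ 2 ^ r = x ^ 2 ^ (r + 1) := by
        rw [← pow_add]; congr 1; ring
      have hv := hV _ (hr ▸ hf)
      refine hc _ (B.pow_mem hx _) ?_ ?_
      · exact (h1.pow (2 ^ r)).cent m₁ (by rw [hsq]; exact hv.1)
      · exact (h2.pow (2 ^ r)).cent m₂ (by rw [hsq]; exact hv.2)
    simpa [P] using hP0
  apply le_antisymm _ (sup_le hW₁ hW₂)
  intro x hx
  obtain ⟨w₁, hw₁, h1⟩ := exists_nrm m₁ (nW₁ hx) (nQ₁ hx)
  have hx1 : w₁ * x ∈ B := B.mul_mem (hW₁ hw₁) hx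
  obtain ⟨w₂, hw₂, h2⟩ := exists_nrm m₂ (nW₂ hx1) (nQ₂ hx1)
  have h1' : Nrm α₁ τ₁ (w₂ * (w₁ * x)) :=
    h1.mul_left (hcomm α₁ m₁.mem w₂ hw₂).symm (hcomm τ₁ (tau_mem m₁) w₂ hw₂).symm
  have h3 := key _ (B.mul_mem (hW₂ hw₂) hx1) h1' h2
  have hs1 : W₁ ≤ W₁ ⊔ W₂ := le_sup_left
  have hs2 : W₂ ≤ W₁ ⊔ W₂ := le_sup_right
  have h4 : w₂ * (w₁ * x) ∈ W₁ ⊔ W₂ := by
    rcases h3 with h | h | h | h <;> rw [h]
    · exact one_mem _
    · exact hs1 haW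
    · exact hs2 hbW
    · exact mul_mem (hs1 haW) (hs2 hbW)
  have h5 : x = w₁⁻¹ * (w₂⁻¹ * (w₂ * (w₁ * x))) := by group
  rw [h5]
  exact mul_mem (hs1 (W₁.inv_mem hw₁)) (mul_mem (hs2 (W₂.inv_mem hw₂)) h4)

end Cfsg.Agent.GH.QADecomp
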