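import Cfsg.Agent.GH.QADefs
import Cfsg.Agent.Lib.Cores
import Cfsg.Agent.S0215

/-!
# GH-Q scenario A: LEMMA I

An involution `e` normalising a 2-component `K` with one class of commuting involutions (`QT K`), commuting with
the involution `z` of `K`, either fixes `K` (centralises `K / O(K)`) or is conjugate to `e z` under a
2-element of `K`.
-/

set_option autoImplicit false

open Cfsg Subgroup
open Cfsg.Agent.Intrinsic.Basic Cfsg.Agent.Intrinsic.Cen
open Cfsg.Agent.GH.Defs
open scoped commutatorElement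

namespace Cfsg.Agent.GH.QA

section base

variable {M : Type*} [Group M] [Finite M]

/-- a Sylow 2-subgroup containing two commuting involutions -/
theorem exists_sylow_pair {e z : M} (he : e * e = 1) (hz : z * z = 1) (hez : e * z = z * e) :
    ∃ R : Sylow 2 M, e ∈ R ∧ z ∈ R := by
  have h1 : ∀ x ∈ closure ({e, z} : Set M), x * x = 1 ∧ x * e = e * x ∧ x * z = z * x := by
    intro x hx
    induction hx using closure_induction with
    | mem x hx =>
      rcases hx with rfl | rfl
      · exact ⟨he, rfl, hez⟩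
      · exact ⟨hz, hez.symm, rfl⟩
    | one => simp
    | mul x y hx hy h1 h2 =>
      have hxy : x * y = y * x := by
        have : closure ({e, z} : Set M) ≤ centralizer ({x} : Set M) := by
          rw [closure_le]
          rintro w (rfl | rfl)
          · exact mem_centralizer_singleton_iff.2 h1.2.1.symm
          · exact mem_centralizer_singleton_iff.2 h1.2.2.symm
        exact (mem_centralizer_singleton_iff.1 (this hy)).symm
      refine ⟨?_, ?_, ?_⟩
      · calc x * y * (x * y) = x * (y * x) * y := by group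
          _ = (x * x) * (y * y) := by rw [← hxy]; group
          _ = 1 := by rw [h1.1, h2.1, one_mul]
      · rw [mul_assoc, h2.2.1, ← mul_assoc, h1.2.1, mul_assoc]
      · rw [mul_assoc, h2.2.2, ← mul_assoc, h1.2.2, mul_assoc]
    | inv x hx h1 =>
      have hxx : x⁻¹ = x := inv_eq_of_mul_eq_one_left h1.1
      rw [hxx]; exact h1
  have h2 : IsPGroup 2 (closure ({e, z} : Set M)) := by
    intro x
    refine ⟨1, ?_⟩
    rw [pow_one, pow_two]
    exact Subtype.ext (h1 x x.2).1
  obtain ⟨R, hR⟩ := h2.exists_le_sylow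
  exact ⟨R, hR (subset_closure (by simp)), hR (subset_closure (by simp))⟩

theorem eq_one_of_odd_of_mem {O : Subgroup M} (hO : Odd (Nat.card O)) {R : Subgroup M} (hR : IsPGroup 2 R)
    {x : M} (hx : x ∈ O) (hxR : x ∈ R) : x = 1 := by
  obtain ⟨k, hk⟩ := hR ⟨x, hxR⟩
  have h1 : x ^ 2 ^ k = 1 := congrArg Subtype.val hk
  have h2 : x ^ Nat.card O = 1 := congrArg Subtype.val (pow_card_eq_one' (x := (⟨x, hx⟩ : O)))
  have h3 : orderOf x ∣ 1 := by
    have := Nat.dvd_gcd (orderOf_dvd_of_pow_eq_one h1) (orderOf_dvd_of_pow_eq_one h2)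
    rwa [Nat.Coprime.gcd_eq_one] at this
    exact Nat.Coprime.pow_left _ (Nat.coprime_two_left.2 hO)
  exact orderOf_eq_one_iff.1 (Nat.dvd_one.1 h3)

/-- LEMMA I in a group `M = K⟨e⟩`. -/
theorem base {K O : Subgroup M} (hK : K.Normal) (hO : Odd (Nat.card O)) {e z : M}
    (hcov : ∀ g : M, g ∈ K ∨ e * g ∈ K) (heK : e ∉ K)
    (hqt : ∀ a ∈ K, ∀ b ∈ K, a * a = 1 → b * b = 1 → a ≠ 1 → b ≠ 1 → a * b = b * a → a = b)
    (hz : z ∈ K) (hz2 : z * z = 1) (hz1 : z ≠ 1) (hzc : ∀ k ∈ K, z * k * z⁻¹ * k⁻¹ ∈ O)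
    (he2 : e * e = 1) (hez : e * z = z * e) :
    (∃ N : Subgroup M, N.Normal ∧ Odd (Nat.card N) ∧ ∀ g : M, e * g * e⁻¹ * g⁻¹ ∈ N) ∨
      ∃ x ∈ K, (∃ n : ℕ, x ^ 2 ^ n = 1) ∧ x * e * x⁻¹ = e * z := by
  have he1 : e ≠ 1 := by rintro rfl; exact heK K.one_mem
  have hei : e⁻¹ = e := inv_eq_of_mul_eq_one_left he2
  obtain ⟨R, heR, hzR⟩ := exists_sylow_pair he2 hz2 hez
  -- `z` is the only involution of `R ∩ K`
  have huniq : ∀ t ∈ R, t ∈ K → t * t = 1 → t ≠ 1 → t = z := by
    intro t htR htK ht2 ht1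
    have h1 : z * t * z⁻¹ * t⁻¹ = 1 :=
      eq_one_of_odd_of_mem hO R.2 (hzc t htK)
        (R.mul_mem (R.mul_mem (R.mul_mem hzR htR) (R.inv_mem hzR)) (R.inv_mem htR))
    have h2 : z * t = t * z := by
      have := mul_inv_eq_one.1 h1
      calc z * t = (z * t * z⁻¹) * z := by group
        _ = t * z := by rw [this]
    exact (hqt z hz t htK hz2 ht2 hz1 ht1 h2).symm
  -- a conjugate of `e` in `R` commuting with `e`
  have hprod : ∀ e' : M, e' ∈ R → (∃ g, e' = g * e * g⁻¹) → e * e' = e' * e → e' ≠ e → e' = e * z := by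
    rintro e' he'R ⟨g, rfl⟩ hc hne
    have h1 : g * e * g⁻¹ ∉ K := fun h => heK (by
      have := hK.conj_mem _ h g⁻¹
      simpa [mul_assoc] using this)
    have h2 : e * (g * e * g⁻¹) ∈ K := (hcov _).resolve_left h1
    have h4 : (g * e * g⁻¹) * (g * e * g⁻¹) = 1 := by
      calc (g * e * g⁻¹) * (g * e * g⁻¹) = g * (e * e) * g⁻¹ := by group
        _ = 1 := by rw [he2]; group
    have h3 : e * (g * e * g⁻¹) * (e * (g * e * g⁻¹)) = 1 := by
      calc e * (g * e * g⁻¹) * (e * (g * e * g⁻¹)) = e * ((g * e * g⁻¹) * e) * (g * e * g⁻¹) := by group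
        _ = e * (e * (g * e * g⁻¹)) * (g * e * g⁻¹) := by rw [hc]
        _ = (e * e) * ((g * e * g⁻¹) * (g * e * g⁻¹)) := by group
        _ = 1 := by rw [he2, h4, one_mul]
    have h5 : e * (g * e * g⁻¹) ≠ 1 := by
      intro h
      apply hne
      have := eq_inv_of_mul_eq_one_right h
      rw [this, hei]
    have h6 := huniq _ (R.mul_mem heR he'R) h2 h3 h5
    rw [← h6, ← mul_assoc, he2, one_mul]
  by_cases hcen : ∀ r ∈ R, e * r = r * e
  · -- `e` is central in `R`: then isolated
    left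
    have hord : orderOf e = 2 := orderOf_eq_prime (by rw [pow_two]; exact he2) he1
    refine Cfsg.Agent.S0215.result R e hord heR fun g hg => ?_
    by_contra hne
    have h1 := hprod _ hg ⟨g, rfl⟩ (hcen _ hg) hne
    have hzcen : ∀ r ∈ R, z * r = r * z := by
      intro r hr
      have h2 := huniq (r * z * r⁻¹) (R.mul_mem (R.mul_mem hr hzR) (R.inv_mem hr)) (hK.conj_mem z hz r)
        (by calc (r * z * r⁻¹) * (r * z * r⁻¹) = r * (z * z) * r⁻¹ := by group
              _ = 1 := by rw [hz2]; group)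
        (by intro h; apply hz1
            calc z = r⁻¹ * (r * z * r⁻¹) * r := by group
              _ = 1 := by rw [h]; group)
      calc z * r = (r * z * r⁻¹) * r := by rw [h2]
        _ = r * z := by group
    obtain ⟨n, hn, hn2⟩ := R.conj_eq_normalizer_conj_of_mem_centralizer e g⁻¹
      (mem_centralizer_iff.2 fun r hr => (hcen r hr).symm)
      (by
        rw [inv_inv, h1]
        refine mem_centralizer_iff.2 fun r hr => ?_
        rw [← mul_assoc, ← hcen r hr, mul_assoc, ← hzcen r hr, mul_assoc])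
    rw [inv_inv, h1] at hn2
    -- `n` swaps `e` and `e z`
    have hnz : n⁻¹ * z * n = z := by
      have hmem : n⁻¹ * z * n ∈ R := by
        have := (mem_normalizer_iff.1 ((normalizer (R : Set M)).inv_mem hn) z).1 hzR
        rw [inv_inv] at this
        exact this
      refine huniq _ hmem (by simpa using hK.conj_mem z hz n⁻¹) ?_ ?_
      · calc (n⁻¹ * z * n) * (n⁻¹ * z * n) = n⁻¹ * (z * z) * n := by group
          _ = 1 := by rw [hz2]; group
      · intro h; apply hz1
        calc z = n * (n⁻¹ * z * n) * n⁻¹ := by group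
          _ = 1 := by rw [h]; group
    have hnn : n⁻¹ * (e * z) * n = e := by
      calc n⁻¹ * (e * z) * n = (n⁻¹ * e * n) * (n⁻¹ * z * n) := by group
        _ = e * z * z := by rw [← hn2, hnz]
        _ = e := by rw [mul_assoc, hz2, mul_one]
    have hsq : e * n ^ 2 = n ^ 2 * e := by
      have : (n ^ 2)⁻¹ * e * n ^ 2 = e := by
        calc (n ^ 2)⁻¹ * e * n ^ 2 = n⁻¹ * (n⁻¹ * e * n) * n := by rw [pow_two]; group
          _ = e := by rw [← hn2, hnn]
      calc e * n ^ 2 = n ^ 2 * ((n ^ 2)⁻¹ * e * n ^ 2) := by group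
        _ = n ^ 2 * e := by rw [this]
    -- odd power of `n` of 2-power order
    obtain ⟨k, m, hm, hkm⟩ := Nat.exists_eq_two_pow_mul_odd (orderOf_pos n).ne'
    obtain ⟨j, hj⟩ := hm
    have h5 : e * n ^ (2 * j) = n ^ (2 * j) * e := by
      rw [pow_mul]
      exact (Commute.pow_right (show Commute e (n ^ 2) from hsq) j).eq
    have h6 : (n ^ m)⁻¹ * e * n ^ m = e * z := by
      have : n ^ m = n ^ (2 * j) * n := by rw [hj, pow_succ]
      calc (n ^ m)⁻¹ * e * n ^ m = n⁻¹ * ((n ^ (2 * j))⁻¹ * (e * n ^ (2 * j))) * n := by rw [this]; group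
        _ = n⁻¹ * e * n := by rw [h5]; group
        _ = e * z := hn2.symm
    have h7 : n ^ m ∈ R := by
      have hp : IsPGroup 2 (zpowers (n ^ m)) := by
        have : (n ^ m) ^ 2 ^ k = 1 := by
          rw [← pow_mul, mul_comm, ← hkm, pow_orderOf_eq_one]
        intro x
        obtain ⟨i, hi⟩ := mem_zpowers_iff.1 x.2
        refine ⟨k, Subtype.ext ?_⟩
        show (x : M) ^ 2 ^ k = 1
        rw [← hi, ← zpow_natCast, ← zpow_mul, mul_comm, zpow_mul, zpow_natCast, this, one_zpow]
      have h8 : zpowers (n ^ m) ⊓ normalizer (R : Set M) = zpowers (n ^ m) ⊓ R := hp.inf_normalizer_sylow R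
      have h9 : n ^ m ∈ zpowers (n ^ m) ⊓ normalizer (R : Set M) :=
        ⟨mem_zpowers _, (normalizer (R : Set M)).pow_mem hn m⟩
      rw [h8] at h9
      exact h9.2
    apply hz1
    have h8 : e = e * z := by
      calc e = (n ^ m)⁻¹ * (n ^ m * e) := by group
        _ = (n ^ m)⁻¹ * (e * n ^ m) := by rw [hcen _ h7]
        _ = e * z := by rw [← h6]; group
    exact mul_eq_left.1 h8.symm
  · right
    push Not at hcen
    obtain ⟨r, hrR, hr⟩ := hcen
    -- normaliser growth in `R`
    let C : Subgroup R := (centralizer ({e} : Set M)).subgroupOf R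
    have hC : C < ⊤ := by
      refine lt_top_iff_ne_top.2 fun h => hr ?_
      have : (⟨r, hrR⟩ : R) ∈ C := by rw [h]; exact mem_top _
      exact (mem_centralizer_singleton_iff.1 (mem_subgroupOf.1 this)).symm
    have hnil : Group.IsNilpotent R := R.2.isNilpotent
    have hgrow := (Group.normalizerCondition_of_isNilpotent (G := R)) C hC
    obtain ⟨y, hy, hyC⟩ := SetLike.exists_of_lt hgrow
    have heC : (⟨e, heR⟩ : R) ∈ C := mem_subgroupOf.2 (mem_centralizer_singleton_iff.2 rfl)
    have hyn : ∀ w : R, ((y : M) * e = e * y → False) := fun _ h => hyC (mem_subgroupOf.2 (mem_centralizer_singleton_iff.2 h))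
    have key : ∀ y : R, y ∈ normalizer (C : Set R) → y ∉ C → (y : M) ∈ K →
        ∃ x ∈ K, (∃ n : ℕ, x ^ 2 ^ n = 1) ∧ x * e * x⁻¹ = e * z := by
      intro y hy hyC hyK
      obtain ⟨n, hn⟩ := R.2 y
      refine ⟨y, hyK, ⟨n, congrArg Subtype.val hn⟩, ?_⟩
      have h1 : y * (⟨e, heR⟩ : R) * y⁻¹ ∈ C := (mem_normalizer_iff.1 hy _).1 heC
      have h2 : ((y : M) * e * (y : M)⁻¹) * e = e * ((y : M) * e * (y : M)⁻¹) :=
        mem_centralizer_singleton_iff.1 (mem_subgroupOf.1 h1)
      refine hprod _ (R.mul_mem (R.mul_mem y.2 heR) (R.inv_mem y.2)) ⟨y, rfl⟩ h2.symm fun h => ?_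
      apply hyC
      refine mem_subgroupOf.2 (mem_centralizer_singleton_iff.2 ?_)
      calc (y : M) * e = ((y : M) * e * (y : M)⁻¹) * y := by group
        _ = e * y := by rw [h]
    rcases hcov (y : M) with h | h
    · exact key y hy hyC h
    · refine key (⟨e, heR⟩ * y) ((normalizer (C : Set R)).mul_mem (le_normalizer heC) hy) (fun h' => hyC ?_) h
      have := C.mul_mem (C.inv_mem heC) h'
      simpa using this

end base

variable {G : Type*} [Group G]

/-- the group `K⟨e⟩` -/
def ext (K : Subgroup G) (e : G) (he2 : e * e = 1) (heK : e ∈ normalizer (K : Set G)) : Subgroup G where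
  carrier := {g | g ∈ K ∨ e * g ∈ K}
  one_mem' := Or.inl K.one_mem
  mul_mem' := by
    have hei : e⁻¹ = e := inv_eq_of_mul_eq_one_left he2
    have hc : ∀ k : G, k ∈ K → e * k * e ∈ K := fun k hk => by
      have := (mem_normalizer_iff.1 heK k).1 hk
      rwa [hei] at this
    rintro g h (hg | hg) (hh | hh)
    · exact Or.inl (K.mul_mem hg hh)
    · right
      have := K.mul_mem (hc g hg) hh
      have h2 : e * g * e * (e * h) = e * (g * h) := by
        calc e * g * e * (e * h) = e * g * (e * e) * h := by group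
          _ = e * (g * h) := by rw [he2]; group
      rwa [h2] at this
    · right
      rw [← mul_assoc]; exact K.mul_mem hg hh
    · left
      have := K.mul_mem (hc _ hg) hh
      have h2 : e * (e * g) * e * (e * h) = g * h := by
        calc e * (e * g) * e * (e * h) = (e * e) * g * (e * e) * h := by group
          _ = g * h := by rw [he2]; group
      rwa [h2] at this
  inv_mem' := by
    have hei : e⁻¹ = e := inv_eq_of_mul_eq_one_left he2
    have hc : ∀ k : G, k ∈ K → e * k * e ∈ K := fun k hk => by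
      have := (mem_normalizer_iff.1 heK k).1 hk
      rwa [hei] at this
    rintro g (hg | hg)
    · exact Or.inl (K.inv_mem hg)
    · right
      have := hc _ (K.inv_mem hg)
      have h2 : e * (e * g)⁻¹ * e = e * g⁻¹ := by
        calc e * (e * g)⁻¹ * e = e * g⁻¹ * (e⁻¹ * e) := by group
          _ = e * g⁻¹ := by group
      rwa [h2] at this

theorem le_ext (K : Subgroup G) {e : G} (he2 : e * e = 1) (heK : e ∈ normalizer (K : Set G)) :
    K ≤ ext K e he2 heK := fun _ h => Or.inl h

theorem mem_ext (K : Subgroup G) {e : G} (he2 : e * e = 1) (heK : e ∈ normalizer (K : Set G)) :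
    e ∈ ext K e he2 heK := Or.inr (by rw [he2]; exact K.one_mem)

/-- **LEMMA I.** -/
theorem lemmaI [Finite G] {K : Subgroup G} {e z : G} (hqt : QT K) (hz : z ∈ K) (hz2 : z * z = 1)
    (hz1 : z ≠ 1) (hzc : ∀ k ∈ K, ⁅z, k⁆ ∈ core K) (heK : e ∈ normalizer (K : Set G)) (he2 : e * e = 1)
    (hez : e * z = z * e) : Fixes e K ∨ ∃ x ∈ K, (∃ n : ℕ, x ^ 2 ^ n = 1) ∧ x * e * x⁻¹ = e * z := by
  by_cases he : e ∈ K
  · left
    by_cases he1 : e = 1
    · subst he1
      exact ⟨heK, fun y _ => by rw [commutatorElement_one_left]; exact (core K).one_mem⟩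
    · have : e = z := hqt e he z hz he2 hz2 he1 hz1 hez
      subst this
      exact ⟨heK, hzc⟩
  · let M : Subgroup G := ext K e he2 heK
    have hKM : K ≤ M := le_ext K he2 heK
    have heM : e ∈ M := mem_ext K he2 heK
    have hMn : M ≤ normalizer (K : Set G) := by
      rintro g (hg | hg)
      · exact le_normalizer hg
      · have := (normalizer (K : Set G)).mul_mem heK (le_normalizer hg)
        rwa [← mul_assoc, he2, one_mul] at this
    have hnorm : (K.subgroupOf M).Normal := by
      refine ⟨fun n hn g => mem_subgroupOf.2 ?_⟩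
      exact (mem_normalizer_iff.1 (hMn g.2) _).1 (mem_subgroupOf.1 hn)
    have hcore : Odd (Nat.card ((core K).subgroupOf M)) := by
      have h1 : Nat.card ((core K).subgroupOf M) = Nat.card (core K) :=
        Nat.card_congr (subgroupOfEquivOfLe ((core_le K).trans hKM)).toEquiv
      have h2 : Nat.card (core K) = Nat.card (oddCore ↥K) :=
        (Nat.card_congr ((oddCore ↥K).equivMapOfInjective K.subtype K.subtype_injective).toEquiv).symm
      rw [h1, h2]
      exact Nat.Coprime.odd_of_right (Lib.Cores.pPrimeCore_coprime 2)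
    have hcov : ∀ g : M, g ∈ K.subgroupOf M ∨ (⟨e, heM⟩ : M) * g ∈ K.subgroupOf M := fun g => g.2
    rcases base (K := K.subgroupOf M) (O := (core K).subgroupOf M) hnorm hcore (e := ⟨e, heM⟩)
      (z := ⟨z, hKM hz⟩) hcov (fun h => he (mem_subgroupOf.1 h))
      (fun a ha b hb h1 h2 h3 h4 h5 => Subtype.ext (hqt a (mem_subgroupOf.1 ha) b (mem_subgroupOf.1 hb)
        (congrArg Subtype.val h1) (congrArg Subtype.val h2) (fun h => h3 (Subtype.ext h))
        (fun h => h4 (Subtype.ext h)) (congrArg Subtype.val h5)))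
      (mem_subgroupOf.2 hz) (Subtype.ext hz2) (fun h => hz1 (congrArg Subtype.val h))
      (fun k hk => mem_subgroupOf.2 (hzc k (mem_subgroupOf.1 hk))) (Subtype.ext he2) (Subtype.ext hez)
      with ⟨N, hN, hNo, hNc⟩ | ⟨x, hxK, ⟨n, hn⟩, hx⟩
    · left
      refine ⟨heK, fun y hy => ?_⟩
      have h1 : (⟨e, heM⟩ : M) * ⟨y, hKM hy⟩ * (⟨e, heM⟩ : M)⁻¹ * (⟨y, hKM hy⟩ : M)⁻¹ ∈ N := hNc _
      -- the normal subgroup `N ∩ K` of `K`
      let N' : Subgroup K := (N.map M.subtype).subgroupOf K
      have hN' : N'.Normal := by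
        refine ⟨fun n hn g => mem_subgroupOf.2 ?_⟩
        obtain ⟨w, hw, hwn⟩ := mem_map.1 (mem_subgroupOf.1 hn)
        refine mem_map.2 ⟨(⟨g, hKM g.2⟩ : M) * w * (⟨g, hKM g.2⟩ : M)⁻¹, hN.conj_mem w hw _, ?_⟩
        show (g : G) * (w : G) * (g : G)⁻¹ = (g : G) * (n : G) * (g : G)⁻¹
        rw [show (w : G) = (n : G) from hwn]
      have hodd : Odd (Nat.card N') := by
        have h3 : Nat.card N' ∣ Nat.card (N.map M.subtype) := by
          have := card_dvd_of_le (show N'.map K.subtype ≤ N.map M.subtype from by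
            rintro _ ⟨w, hw, rfl⟩; exact mem_subgroupOf.1 hw)
          rwa [Nat.card_congr (N'.equivMapOfInjective K.subtype K.subtype_injective).toEquiv.symm] at this
        have h4 : Nat.card (N.map M.subtype) = Nat.card N :=
          (Nat.card_congr (N.equivMapOfInjective M.subtype M.subtype_injective).toEquiv).symm
        rw [h4] at h3
        exact hNo.of_dvd_nat h3
      have hle : N' ≤ oddCore ↥K := Lib.Cores.le_pPrimeCore hN' (Nat.Coprime.symm (Nat.coprime_two_left.2 hodd))
      have hmem : ⁅e, y⁆ ∈ K := by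
        have := (mem_normalizer_iff.1 heK y).1 hy
        exact K.mul_mem this (K.inv_mem hy)
      exact (mem_core_iff hmem).2 (hle (mem_subgroupOf.2 (mem_map.2 ⟨_, h1, rfl⟩)))
    · exact Or.inr ⟨x, mem_subgroupOf.1 hxK, ⟨n, congrArg Subtype.val hn⟩, congrArg Subtype.val hx⟩

end Cfsg.Agent.GH.QA
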