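import Cfsg.Agent.GH.QABase
import Cfsg.Agent.GH.QALemmaQ
import Cfsg.Agent.S0016

/-!
# GH-Q (I), scenario A, case (A2-a): a Sylow 2-subgroup of `Ja`

`Alpha.exists_T0`: for an `alpha` pair `a, b` with `Ja` not `QT`, the Sylow 2-subgroups of `Ja` are
semidihedral and contain the quaternion Sylow 2-subgroups of `cen Kb a` with index 2.
-/

set_option autoImplicit false

open Cfsg Subgroup
open Cfsg.Agent.Intrinsic.Basic Cfsg.Agent.Intrinsic.Cen
open Cfsg.Agent.SignalizersComponents.IntrinsicBasic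
open Cfsg.Agent.SignalizersComponents
open Cfsg.Agent.TwoFusion.SectionalRank
open Cfsg.Agent.GH.Defs Cfsg.Agent.GH.Rank Cfsg.Agent.GH.Comp
open Cfsg.Agent.GH.QALemmaQ
open scoped commutatorElement

namespace Cfsg.Agent.GH.QA

variable {G : Type*} [Group G]

namespace T0

section syl

variable [Finite G]

/-- a 2-subgroup of `M` lies in one of index odd in `M` -/
theorem exists_syl {M P : Subgroup G} (hP : IsPGroup 2 P) (hPM : P ≤ M) :
    ∃ T : Subgroup G, P ≤ T ∧ T ≤ M ∧ IsPGroup 2 T ∧ ¬ 2 ∣ T.relIndex M := by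
  have : Fact (Nat.Prime 2) := ⟨Nat.prime_two⟩
  have h1 : IsPGroup 2 (P.subgroupOf M) := hP.comap_subtype
  obtain ⟨S, hS⟩ := h1.exists_le_sylow
  refine ⟨(S : Subgroup M).map M.subtype, ?_, map_subtype_le _, S.isPGroup'.map _, ?_⟩
  · intro x hx
    exact ⟨⟨x, hPM hx⟩, hS hx, rfl⟩
  · have h1 : ((S : Subgroup M).map M.subtype).subgroupOf M = S := by
      rw [subgroupOf, comap_map_eq_self_of_injective M.subtype_injective]
    rw [relIndex, h1]
    exact S.not_dvd_index

/-- maximality -/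
theorem eq_of_le {M T R : Subgroup G} (hT : ¬ 2 ∣ T.relIndex M) (hTR : T ≤ R) (hRM : R ≤ M)
    (hR : IsPGroup 2 R) : R = T := by
  have : Fact (Nat.Prime 2) := ⟨Nat.prime_two⟩
  have h1 : T.relIndex R * R.relIndex M = T.relIndex M := relIndex_mul_relIndex _ _ _ hTR hRM
  have h2 : T.relIndex R ∣ Nat.card R := relIndex_dvd_card T R
  obtain ⟨k, hk⟩ := IsPGroup.iff_card.1 hR
  rw [hk, Nat.dvd_prime_pow Nat.prime_two] at h2
  obtain ⟨j, -, hj⟩ := h2
  rcases Nat.eq_zero_or_pos j with h0 | h0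
  · rw [h0, pow_zero, relIndex_eq_one] at hj
    exact le_antisymm hj hTR
  · exfalso
    apply hT
    rw [← h1, hj]
    exact (dvd_pow_self 2 (by omega)).mul_right _

/-- Sylow's theorem for subgroups -/
theorem exists_conj {M T P : Subgroup G} (hTp : IsPGroup 2 T)
    (hT : ¬ 2 ∣ T.relIndex M) (hP : IsPGroup 2 P) (hPM : P ≤ M) :
    ∃ m ∈ M, ∀ x ∈ P, m * x * m⁻¹ ∈ T := by
  have : Fact (Nat.Prime 2) := ⟨Nat.prime_two⟩
  have h1 : IsPGroup 2 (P.subgroupOf M) := hP.comap_subtype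
  obtain ⟨S, hS⟩ := h1.exists_le_sylow
  have h2 : IsPGroup 2 (T.subgroupOf M) := hTp.comap_subtype
  obtain ⟨m, hm⟩ := MulAction.exists_smul_eq M S (h2.toSylow hT)
  refine ⟨m, m.2, fun x hx => ?_⟩
  have h3 : (⟨x, hPM hx⟩ : M) ∈ (S : Subgroup M) := hS hx
  have h4 := Subgroup.smul_mem_pointwise_smul _ (MulAut.conj m) _ h3
  rw [← Sylow.coe_subgroup_smul, hm] at h4
  exact h4

/-- the members of `J` of order 2 are all conjugate to `b`, the only involution of a Sylow 2-subgroup -/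
theorem qt_of_unique {J T : Subgroup G} (hT2 : IsPGroup 2 T) (hTi : ¬ 2 ∣ T.relIndex J) {b : G}
    (hu : ∀ x ∈ T, x * x = 1 → x ≠ 1 → x = b) : QT J := by
  have : Fact (Nat.Prime 2) := ⟨Nat.prime_two⟩
  intro x hx y hy hx2 hy2 hx1 hy1 hxy
  have hpx : IsPGroup 2 (zpowers x) := by
    apply IsPGroup.of_card (n := 1)
    rw [Nat.card_zpowers, pow_one, order_of_sq hx2 hx1]
  have hpy : IsPGroup 2 (zpowers y) := by
    apply IsPGroup.of_card (n := 1)
    rw [Nat.card_zpowers, pow_one, order_of_sq hy2 hy1]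
  have hn : zpowers x ≤ normalizer (zpowers y : Set G) := by
    rw [zpowers_le, mem_normalizer_iff]
    intro g
    have hc : Commute x y := hxy
    constructor
    · rintro ⟨k, rfl⟩
      refine ⟨k, ?_⟩
      change y ^ k = x * y ^ k * x⁻¹
      rw [(hc.zpow_right k).eq, mul_inv_cancel_right]
    · rintro ⟨k, hk⟩
      refine ⟨k, ?_⟩
      change y ^ k = x * g * x⁻¹ at hk
      change y ^ k = g
      have h1 : x * y ^ k * x⁻¹ = y ^ k := by
        rw [(hc.zpow_right k).eq, mul_inv_cancel_right]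
      rw [hk] at h1
      have h2 : x * g * x⁻¹ = g := by
        have h3 : x * (x * g * x⁻¹) * x⁻¹ = x * g * x⁻¹ := h1
        have h4 := mul_right_cancel h3
        exact mul_left_cancel h4
      rw [hk, h2]
  have hp := IsPGroup.to_sup_of_normal_right' hpx hpy hn
  have hle : zpowers x ⊔ zpowers y ≤ J := sup_le (zpowers_le.2 hx) (zpowers_le.2 hy)
  obtain ⟨m, -, hm⟩ := exists_conj hT2 hTi hp hle
  have e1 := hu _ (hm x (mem_sup_left (mem_zpowers x))) (sq_cj hx2 m) (ne_one_cj hx1 m)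
  have e2 := hu _ (hm y (mem_sup_right (mem_zpowers y))) (sq_cj hy2 m) (ne_one_cj hy1 m)
  have e3 : m * x * m⁻¹ = m * y * m⁻¹ := e1.trans e2.symm
  exact mul_left_cancel (mul_right_cancel e3)

/-- a Sylow 2-subgroup with a unique involution of a perfect group of even order is generalised
quaternion -/
theorem isGQ_of {X Q : Subgroup G} (hperf : ⁅X, X⁆ = X) (hev : 2 ∣ Nat.card X) (hQX : Q ≤ X)
    (hQ2 : IsPGroup 2 Q) (hQ : ¬ 2 ∣ Q.relIndex X) {b : G}
    (hu : ∀ x ∈ Q, x * x = 1 → x ≠ 1 → x = b) : Cit.IsGQ Q := by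
  have : Fact (Nat.Prime 2) := ⟨Nat.prime_two⟩
  have hcyc : ¬ IsCyclic Q := by
    intro hc
    have hp : Group.IsPerfect X := by
      refine ⟨?_⟩
      rw [commutator_def]
      apply Subgroup.map_injective X.subtype_injective
      rw [Subgroup.map_commutator, ← MonoidHom.range_eq_map, Subgroup.range_subtype, hperf]
    have h1 : IsPGroup 2 (Q.subgroupOf X) := hQ2.comap_subtype
    apply QsBasic.not_isCyclic_sylow (L := X) (even_iff_two_dvd.2 hev) (h1.toSylow hQ)
    exact isCyclic_of_surjective (subgroupOfEquivOfLe hQX).symm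
      (subgroupOfEquivOfLe hQX).symm.surjective
  have key : ∀ H : Subgroup Q, Nat.card H = 2 → ∀ y : Q, y ∈ H ↔ y = 1 ∨ (y : G) = b := by
    intro H hH
    have h1 : ∀ y ∈ H, y ≠ 1 → (y : G) = b := by
      intro y hy hy1
      apply hu y y.2
      · have h2 : (⟨y, hy⟩ : H) ^ Nat.card H = 1 := pow_card_eq_one'
        rw [hH, pow_two] at h2
        have h3 := congrArg (fun t : H => ((t : Q) : G)) h2
        simpa using h3
      · intro h2
        exact hy1 (Subtype.ext h2)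
    obtain ⟨y0, hy0, hy01⟩ : ∃ y ∈ H, y ≠ 1 := by
      by_contra hcon
      push Not at hcon
      have h2 : H = ⊥ := (eq_bot_iff_forall _).2 hcon
      rw [h2] at hH
      simp at hH
    intro y
    constructor
    · intro hy
      by_cases h2 : y = 1
      · exact Or.inl h2
      · exact Or.inr (h1 y hy h2)
    · rintro (rfl | h2)
      · exact H.one_mem
      · have h3 : y = y0 := Subtype.ext (h2.trans (h1 y0 hy0 hy01).symm)
        rw [h3]; exact hy0
  rcases Cfsg.Agent.S0016.result 2 hQ2 (fun H K hH hK => by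
    ext y
    rw [key H hH y, key K hK y]) with h | ⟨-, n, ⟨e⟩⟩
  · exact absurd h hcyc
  · rcases n with _ | n
    · exfalso
      apply hcyc
      have h1 : IsCyclic (QuaternionGroup (2 ^ 0)) := by
        rw [pow_zero]
        exact QuaternionGroup.quaternionGroup_one_isCyclic
      exact isCyclic_of_surjective e.symm e.symm.surjective
    · exact ⟨n, ⟨e⟩⟩

/-- index of a subgroup covering `K / O(K)` -/
theorem odd_relIndex_of_sup {X K : Subgroup G} (hs : X ⊔ core K = K) : ¬ 2 ∣ X.relIndex K := by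
  have hXK : X ≤ K := by rw [← hs]; exact le_sup_left
  have hn : X ≤ normalizer (core K : Set G) := hXK.trans (le_normalizer_core K)
  have h1 := CoprimeBasic.card_sup_dvd (X := core K) (Y := X) hn
  rw [sup_comm, hs] at h1
  have h2 : Nat.card X * X.relIndex K = Nat.card K := by
    have := relIndex_mul_relIndex ⊥ X K bot_le hXK
    rwa [relIndex_bot_left, relIndex_bot_left] at this
  rw [← h2, mul_comm (Nat.card (core K))] at h1
  have h3 : X.relIndex K ∣ Nat.card (core K) := Nat.dvd_of_mul_dvd_mul_left Nat.card_pos h1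
  intro h4
  exact (Nat.not_even_iff_odd.2 (odd_card_core K)) (even_iff_two_dvd.2 (h4.trans h3))

/-- normalizers grow -/
theorem exists_norm {T P : Subgroup G} (hP : IsPGroup 2 P) (hle : T ≤ P)
    (hne : T ≠ P) : ∃ y ∈ P, y ∉ T ∧ ∀ g ∈ T, y * g * y⁻¹ ∈ T := by
  have : Fact (Nat.Prime 2) := ⟨Nat.prime_two⟩
  have hnil : Group.IsNilpotent P := hP.isNilpotent
  have hlt : T.subgroupOf P < ⊤ := by
    rw [lt_top_iff_ne_top]
    intro h
    exact hne (le_antisymm hle (Subgroup.subgroupOf_eq_top.1 h))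
  have h1 := Group.normalizerCondition_of_isNilpotent (T.subgroupOf P) hlt
  obtain ⟨y, hy, hyT⟩ := Set.exists_of_ssubset h1
  refine ⟨y, y.2, fun h => hyT h, fun g hg => ?_⟩
  exact (Subgroup.mem_normalizer_iff.1 hy ⟨g, hle hg⟩).1 hg

end syl

end T0

namespace Alpha

open T0

variable [Finite G] {a b : G} {Ka Kb Ja Jb : Subgroup G}

/-- no nontrivial 2-element lies in `Ka` and in `Ja` -/
theorem inf_trivial (F : Frame G) (h : Alpha a b Ka Kb Ja Jb) {T : Subgroup G} (hT : IsPGroup 2 T)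
    (hTJ : T ≤ Ja) {d : G} (hd : d ∈ T) (hdK : d ∈ Ka) : d = 1 := by
  by_contra hcon
  obtain ⟨k, hk1, hk2⟩ := exists_last hT hd (fun x => x = 1) rfl hcon
  have h1 := h.qa.eq_z F (Ka.pow_mem hdK k) hk2 hk1
  exact h.not_mem_J F (h1 ▸ hTJ (T.pow_mem hd k))

/-- sectional rank of the 2-subgroups of `Ja` -/
theorem rank_two (F : Frame G) (h : Alpha a b Ka Kb Ja Jb) {T : Subgroup G} (hT : IsPGroup 2 T)
    (hTJ : T ≤ Ja) : SectionalPRankLE 2 2 T := by
  have h1 := srank_top_add_le (D := T) h.qa.comp.comp (hTJ.trans h.ja.comp.le)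
    (fun d hd => h.qa.comp.comp.fixes_of_mem h.ja.comp (h.J_ne_K F) (hTJ hd)) ⊥ (by
      rintro d ⟨k, hk, hkd⟩
      rw [mem_bot]
      obtain ⟨n, hn⟩ := hT d
      have hn' : (d : G) ^ 2 ^ n = 1 := congrArg Subtype.val hn
      apply Subtype.ext
      exact h.inf_trivial F hT hTJ d.2 (h.qa.comp.comp.mem_of_two hk hkd hn'))
  have h2 : srank 2 (T ⧸ (⊥ : Subgroup T)) = srank 2 T :=
    srank_quotient_of_not_dvd Nat.prime_two _ (by simp)
  have h3 := two_le_srank_top h.qa.comp.comp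
  have h4 : srank 2 (centralizer ({a} : Set G)) ≤ 4 :=
    (srank_subgroup_le (by norm_num) _).trans ((srank_le_iff (by norm_num)).2 F.rank4)
  rw [h2] at h1
  exact (srank_le_iff (by norm_num)).1 (by omega)

/-- **(A2-a)** -/
theorem exists_T0 (F : Frame G) (h : Alpha a b Ka Kb Ja Jb) (hJ : ¬ QT Ja) :
    ∃ (T Q : Subgroup G) (α τ : G) (n : ℕ), T ≤ Ja ∧ IsPGroup 2 T ∧ ¬ 2 ∣ T.relIndex Ja ∧
      Q ≤ cen Kb a ∧ Q ≤ T ∧ ¬ 2 ∣ Q.relIndex Kb ∧ MC T Q α τ b n ∧ τ * α * τ⁻¹ = α⁻¹ * b := by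
  have h2 : Fact (Nat.Prime 2) := ⟨Nat.prime_two⟩
  obtain ⟨X, hX⟩ : ∃ X, X = cen Kb a := ⟨_, rfl⟩
  have haC : a ∈ centralizer ({b} : Set G) := mem_centralizer_singleton_iff.mpr h.comm
  obtain ⟨hXc, hXs⟩ := isComp_cen h.qb.comp.comp haC h.qa.sq h.fb
  rw [← hX] at hXc hXs
  have hXK : X ≤ Kb := hX ▸ cen_le Kb a
  have hXJ : X ≤ Ja := hX ▸ h.leJa
  have hKb : Kb ≤ centralizer ({b} : Set G) := h.qb.comp.comp.le
  have hJa : Ja ≤ centralizer ({a} : Set G) := h.ja.comp.le
  obtain ⟨M, hM⟩ : ∃ M, M = Ja ⊓ centralizer ({b} : Set G) := ⟨_, rfl⟩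
  have hXM : X ≤ M := hM ▸ le_inf hXJ (hXK.trans hKb)
  have hMX : M ≤ normalizer (X : Set G) := by
    intro m hm
    rw [hM] at hm
    rw [hX]
    exact mem_normalizer_cen (h.qb.centralizer_le F hm.2)
      (mem_centralizer_singleton_iff.mp (hJa hm.1))
  obtain ⟨Q, -, hQX, hQ2, hQi⟩ := exists_syl (M := X) (P := ⊥) IsPGroup.of_bot bot_le
  obtain ⟨T, hQT, hTM, hT2, hTi⟩ := exists_syl (M := M) hQ2 (hQX.trans hXM)
  have hQeq : T ⊓ X = Q :=
    eq_of_le hQi (le_inf hQT hQX) inf_le_right (hT2.to_le inf_le_left)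
  have hTQ : T ≤ normalizer (Q : Set G) := by
    intro t ht
    have e2 : t ∈ normalizer (X : Set G) := hMX (hTM ht)
    rw [mem_normalizer_iff_cj] at e2 ⊢
    rw [← hQeq, cj_inf, e2, cj_eq_self_of_mem ht]
  have hTJ : T ≤ Ja := hTM.trans (hM ▸ inf_le_left)
  have hTb : ∀ t ∈ T, t * b = b * t := fun t ht =>
    mem_centralizer_singleton_iff.mp ((hM ▸ inf_le_right : M ≤ centralizer ({b} : Set G)) (hTM ht))
  have hu : ∀ x ∈ Q, x * x = 1 → x ≠ 1 → x = b := fun x hx h2 h1 =>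
    h.qb.eq_z F (hXK (hQX hx)) h2 h1
  obtain ⟨c, v, z, n, hg⟩ :=
    Cit.exists_gq (isGQ_of hXc.perfect hXc.even hQX hQ2 hQi hu)
  have hzb : z = b := hu z hg.z_mem hg.z_mul hg.z_ne
  rw [hzb] at hg
  have hbQ : b ∈ Q := hg.z_mem
  have hr := h.rank_two F hT2 hTJ
  have hcen := centQ hT2 hQT hg hr
  -- `T` is Sylow in `Ja`
  have hsyl : ¬ 2 ∣ T.relIndex Ja := by
    obtain ⟨R, hTR, hRJ, hR2, hRi⟩ := exists_syl (M := Ja) hT2 hTJ
    have hRT : T = R := by
      by_contra hne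
      obtain ⟨g, hgR, hgT, hgn⟩ := exists_norm hR2 hTR hne
      have hgn' : ∀ t ∈ T, g⁻¹ * t * g ∈ T := by
        have h5 : g ∈ normalizer (T : Set G) := by
          have h6 : (T : Subgroup G).map (MulAut.conj g).toMonoidHom = T := by
            apply Subgroup.eq_of_le_of_card_ge
            · rintro _ ⟨t, ht, rfl⟩
              exact hgn t ht
            · exact (Nat.card_congr (T.equivMapOfInjective (MulAut.conj g).toMonoidHom
                (MulAut.conj g).injective).toEquiv).le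
          rw [mem_normalizer_iff_cj]
          exact h6
        intro t ht
        have h7 := (mem_normalizer_iff.1 (inv_mem h5) t).1 ht
        rwa [inv_inv] at h7
      have h3 : g * b * g⁻¹ ∈ T := hgn b (hQT hbQ)
      have h4 := hcen _ h3 (by
        intro q hq
        have h5 := hTb _ (hgn' q (hQT hq))
        calc g * b * g⁻¹ * q = g * (b * (g⁻¹ * q * g)) * g⁻¹ := by group
          _ = g * ((g⁻¹ * q * g) * b) * g⁻¹ := by rw [h5]
          _ = q * (g * b * g⁻¹) := by group)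
      have h5 : g * b * g⁻¹ = b := h4.resolve_left (ne_one_cj h.qb.ne_one g)
      have h6 : g ∈ M := by
        rw [hM]
        exact ⟨hRJ hgR, mem_centralizer_singleton_iff.mpr (mul_inv_eq_iff_eq_mul.1 h5)⟩
      have h7 : R ⊓ M = T := eq_of_le hTi (le_inf hTR hTM) inf_le_right (hR2.to_le inf_le_left)
      apply hgT
      rw [← h7]
      exact ⟨hgR, h6⟩
    rw [hRT]
    exact hRi
  have hidx : ¬ 2 ∣ Q.relIndex Kb := by
    rw [← relIndex_mul_relIndex Q X Kb hQX hXK]
    intro h3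
    rcases (Nat.prime_two.dvd_mul).1 h3 with h4 | h4
    · exact hQi h4
    · exact odd_relIndex_of_sup hXs h4
  rcases lemmaQ hT2 hQT hTQ hg hr with hTQe | ⟨α, τ, hα, hτ, hgq, hord, hconj, hcov⟩
  · exfalso
    apply hJ
    apply qt_of_unique hT2 hsyl (b := b)
    rw [hTQe]
    exact hu
  · have hmc : MC T Q α τ b n := ⟨hgq, hord, hconj, hα, hQT, hcov⟩
    refine ⟨T, Q, α, τ, n, hTJ, hT2, hsyl, hX ▸ hQX, hQT, hidx, hmc, ?_⟩
    rcases hconj with h3 | h3
    · exfalso
      apply hJ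
      apply qt_of_unique hT2 hsyl (b := b)
      intro x hx hx2 hx1
      rcases hcov x hx with ⟨i, rfl⟩ | ⟨i, rfl⟩
      · rcases Nat.even_or_odd' i with ⟨j, rfl | rfl⟩
        · apply hu _ _ hx2 hx1
          rw [pow_mul, pow_two]
          exact Q.pow_mem hgq.c_mem j
        · exfalso
          rw [← pow_add] at hx2
          have h4 := orderOf_dvd_of_pow_eq_one hx2
          rw [hord] at h4
          have h5 : 4 ∣ 2 * j + 1 + (2 * j + 1) := (Dvd.intro (2 ^ (n + 1)) (by ring)).trans h4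
          omega
      · exfalso
        have h4 : τ * α ^ i = (α ^ i)⁻¹ * τ := by
          have h5 : τ * α ^ i * τ⁻¹ = (α ^ i)⁻¹ := by
            rw [← _root_.conj_pow, h3, inv_pow]
          rw [← h5]; group
        have h6 : τ * α ^ i * (τ * α ^ i) = b := by
          calc τ * α ^ i * (τ * α ^ i) = (τ * α ^ i) * ((α ^ i)⁻¹ * τ) := by rw [h4]
            _ = τ * τ := by group
            _ = b := hgq.v_sq
        rw [h6] at hx2
        exact h.qb.ne_one hx2
    · exact h3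

end Alpha

end Cfsg.Agent.GH.QA
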