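import Cfsg.Agent.GH.QATwoDefs
import Cfsg.Agent.GH.QADecomp
import Cfsg.Agent.GH.QALemmaQ
import Cfsg.Agent.GH.QAWreath
import Cfsg.Agent.Cit.OneBasic

/-!
# GH-Q (I), scenario A, case (A2): `B = W1 × W2`

`exists_two_of` : the structure `Two` from the semidihedral Sylow 2-subgroups `T0` of `Ja` and `Jb`.
-/

set_option autoImplicit false

open Cfsg Subgroup
open Cfsg.Agent.Intrinsic.Basic Cfsg.Agent.Intrinsic.Cen
open Cfsg.Agent.SignalizersComponents.IntrinsicBasic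
open Cfsg.Agent.TwoFusion.SectionalRank
open Cfsg.Agent.GH.Defs
open scoped commutatorElement

namespace Cfsg.Agent.GH.QA

variable {G : Type*} [Group G]

/-! ### semidihedral and quaternion groups -/

section mc

variable {W Q : Subgroup G} {α τ z : G} {n : ℕ}

theorem pow_cases {z : G} (hz : z * z = 1) (k : ℕ) : z ^ k = 1 ∨ z ^ k = z := by
  rcases Nat.even_or_odd' k with ⟨r, rfl | rfl⟩
  · left; rw [pow_mul, pow_two, hz, one_pow]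
  · right; rw [pow_succ, pow_mul, pow_two, hz, one_pow, one_mul]

theorem MC.centQ (m : MC W Q α τ z n) {x : G} (hx : x ∈ W) (h : ∀ q ∈ Q, x * q = q * x) :
    x = 1 ∨ x = z := by
  rcases m.cov x hx with ⟨i, rfl⟩ | ⟨i, rfl⟩
  · have h1 := h τ m.gq.v_mem
    obtain ⟨e, -, he, e', he1, he2⟩ := QADecomp.exists_exp m
    have h2 : τ * α ^ i * τ⁻¹ = α ^ (e * i) := by rw [← conj_pow, he, ← pow_mul]
    have h3 : α ^ (e * i) = α ^ i := by rw [← h2, ← h1, mul_inv_cancel_right]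
    have h4 : α ^ (2 * e' * i) = 1 := by
      rw [he1, add_mul, one_mul, pow_add] at h3
      exact mul_eq_right.1 h3
    have h5 : 2 ^ (n + 3) ∣ 2 * e' * i := by
      rw [← m.ord]; exact orderOf_dvd_of_pow_eq_one h4
    have h6 : 2 ^ (n + 2) ∣ i := by
      have h7 : 2 ^ (n + 2) ∣ e' * i := by
        rw [show 2 ^ (n + 3) = 2 * 2 ^ (n + 2) by ring, mul_assoc] at h5
        exact Nat.dvd_of_mul_dvd_mul_left (by norm_num) h5
      apply Nat.Coprime.dvd_of_dvd_mul_left _ h7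
      apply Nat.Coprime.pow_left
      exact (Nat.coprime_two_left).2 (Nat.odd_iff.2 he2)
    obtain ⟨k, rfl⟩ := h6
    rw [pow_mul, QADecomp.z_pow m]
    exact pow_cases m.gq.z_mul k
  · exfalso
    have h1 := h _ m.gq.c_mem
    have h0 : Commute (α ^ i) (α * α) :=
      (((Commute.refl α).mul_right (Commute.refl α)).pow_left i)
    have h2 : τ * (α * α) * τ⁻¹ = α * α := by
      rw [mul_inv_eq_iff_eq_mul]
      apply mul_right_cancel (b := α ^ i)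
      rw [mul_assoc τ, ← h0.eq, ← mul_assoc, h1, mul_assoc (α * α)]
    rw [m.gq.conj] at h2
    apply m.gq.c_sq_ne
    nth_rewrite 1 [← h2]
    group

theorem MC.center (m : MC W Q α τ z n) {x : G} (hx : x ∈ W) (h : ∀ q ∈ W, x * q = q * x) :
    x = 1 ∨ x = z := m.centQ hx fun q hq => h q (m.le hq)

theorem MC.z_comm (m : MC W Q α τ z n) {x : G} (hx : x ∈ W) : z * x = x * z := by
  have h1 : Commute z α := QADecomp.z_comm m
  have h2 : Commute z τ := QADecomp.z_comm_τ m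
  rcases m.cov x hx with ⟨i, rfl⟩ | ⟨i, rfl⟩
  · exact (h1.pow_right i).eq
  · exact (h2.mul_right (h1.pow_right i)).eq

theorem MC.conj_cj (m : MC W Q α τ z n) (g : G) :
    MC (cj g W) (cj g Q) (g * α * g⁻¹) (g * τ * g⁻¹) (g * z * g⁻¹) n := by
  have hpow : ∀ (y : G) (i : ℕ), g * y ^ i * g⁻¹ = (g * y * g⁻¹) ^ i := fun y i => (conj_pow).symm
  have hmul : ∀ y w : G, g * (y * w) * g⁻¹ = (g * y * g⁻¹) * (g * w * g⁻¹) := fun y w => by group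
  have hinv : ∀ y : G, g * y⁻¹ * g⁻¹ = (g * y * g⁻¹)⁻¹ := fun y => by group
  have hord : ∀ y : G, orderOf (g * y * g⁻¹) = orderOf y := fun y =>
    (MulAut.conj g).orderOf_eq y
  refine ⟨⟨?_, conj_mem_cj m.gq.v_mem, ?_, ?_, ?_, ?_, ?_⟩, ?_, ?_, conj_mem_cj m.mem,
    cj_mono m.le, ?_⟩
  · rw [← hmul]; exact conj_mem_cj m.gq.c_mem
  · rw [← hmul, hord]; exact m.gq.ord
  · rw [← hmul, ← hpow, m.gq.z_eq]
  · rw [← hmul, m.gq.v_sq]
  · rw [← hmul, ← hmul, ← hinv, ← hmul, m.gq.conj, hinv]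
  · rintro _ ⟨x, hx, rfl⟩
    rcases m.gq.cov x hx with ⟨i, rfl⟩ | ⟨i, rfl⟩
    · left; refine ⟨i, ?_⟩
      rw [← hmul, ← hpow]; rfl
    · right; refine ⟨i, ?_⟩
      rw [← hmul, ← hpow, ← hmul]; rfl
  · rw [hord]; exact m.ord
  · rcases m.conj with h | h
    · left; rw [← hmul, ← hinv, ← hmul, h, hinv]
    · right; rw [← hmul, ← hinv, ← hmul, h, hmul, hinv]
  · rintro _ ⟨x, hx, rfl⟩
    rcases m.cov x hx with ⟨i, rfl⟩ | ⟨i, rfl⟩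
    · left; refine ⟨i, ?_⟩
      rw [← hpow]; rfl
    · right; refine ⟨i, ?_⟩
      rw [← hpow, ← hmul]; rfl

end mc

/-! ### the rank argument -/

theorem rank_five [Finite G] (hr : SectionalPRankLE 2 4 G) {Q₁ Q₂ : Subgroup G}
    {c₁ v₁ a c₂ v₂ b : G} {n₁ n₂ : ℕ} (h₁ : Cit.GQ Q₁ c₁ v₁ a n₁) (h₂ : Cit.GQ Q₂ c₂ v₂ b n₂)
    (hc : ∀ x ∈ Q₁, ∀ y ∈ Q₂, x * y = y * x) (hd : Q₁ ⊓ Q₂ = ⊥) {x : G}
    (hx₁ : ∀ q ∈ Q₁, x * q = q * x) (hx₂ : ∀ q ∈ Q₂, x * q = q * x)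
    (hxx : x * x = 1 ∨ x * x = a ∨ x * x = b ∨ x * x = a * b) :
    x = 1 ∨ x = a ∨ x = b ∨ x = a * b := by
  by_contra hcon
  have hdis : ∀ y ∈ Q₁, y ∈ Q₂ → y = 1 := fun y h1 h2 => by
    have : y ∈ Q₁ ⊓ Q₂ := ⟨h1, h2⟩
    rwa [hd, mem_bot] at this
  have huniq : ∀ p ∈ Q₁, ∀ q ∈ Q₂, ∀ p' ∈ Q₁, ∀ q' ∈ Q₂, p * q = p' * q' → p = p' ∧ q = q' := by
    intro p hp q hq p' hp' q' hq' h
    have h1 : p'⁻¹ * p = q' * q⁻¹ := by
      rw [inv_mul_eq_iff_eq_mul, ← mul_assoc, ← h]; group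
    have h2 : p'⁻¹ * p = 1 := hdis _ (mul_mem (inv_mem hp') hp)
      (h1 ▸ mul_mem hq' (inv_mem hq))
    have h3 : p = p' := (inv_mul_eq_one.1 h2).symm
    subst h3
    exact ⟨rfl, mul_left_cancel h⟩
  have hc₁c₂ : Commute c₁ c₂ := hc c₁ h₁.c_mem c₂ h₂.c_mem
  -- the kernel `Y`
  let Y : Subgroup G :=
    { carrier := {y | ∃ i j : ℤ, y = (c₁ * c₁) ^ i * (c₂ * c₂) ^ j}
      one_mem' := ⟨0, 0, by simp⟩
      mul_mem' := by
        rintro _ _ ⟨i, j, rfl⟩ ⟨k, l, rfl⟩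
        refine ⟨i + k, j + l, ?_⟩
        have h3 : Commute ((c₂ * c₂) ^ j) ((c₁ * c₁) ^ k) :=
          (((hc₁c₂.mul_left hc₁c₂).mul_right (hc₁c₂.mul_left hc₁c₂)).symm.zpow_left j).zpow_right k
        calc (c₁ * c₁) ^ i * (c₂ * c₂) ^ j * ((c₁ * c₁) ^ k * (c₂ * c₂) ^ l)
            = (c₁ * c₁) ^ i * ((c₂ * c₂) ^ j * (c₁ * c₁) ^ k) * (c₂ * c₂) ^ l := by
              simp only [mul_assoc]
          _ = (c₁ * c₁) ^ i * ((c₁ * c₁) ^ k * (c₂ * c₂) ^ j) * (c₂ * c₂) ^ l := by rw [h3.eq]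
          _ = _ := by rw [zpow_add, zpow_add]; simp only [mul_assoc]
      inv_mem' := by
        rintro _ ⟨i, j, rfl⟩
        refine ⟨-i, -j, ?_⟩
        have h3 : Commute ((c₂ * c₂) ^ (-j)) ((c₁ * c₁) ^ (-i)) :=
          (((hc₁c₂.mul_left hc₁c₂).mul_right (hc₁c₂.mul_left hc₁c₂)).symm.zpow_left _).zpow_right _
        rw [mul_inv_rev, ← zpow_neg, ← zpow_neg, h3.eq] }
  have hYmem : ∀ y, y ∈ Y ↔ ∃ i j : ℤ, y = (c₁ * c₁) ^ i * (c₂ * c₂) ^ j := fun y => Iff.rfl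
  have hY₁ : ∀ i : ℤ, (c₁ * c₁) ^ i ∈ Y := fun i => ⟨i, 0, by simp⟩
  have hY₂ : ∀ i : ℤ, (c₂ * c₂) ^ i ∈ Y := fun i => ⟨0, i, by simp⟩
  have haY : a ∈ Y := by
    rw [← h₁.z_eq, pow_succ', pow_mul, pow_two, ← zpow_natCast]; exact hY₁ _
  have hbY : b ∈ Y := by
    rw [← h₂.z_eq, pow_succ', pow_mul, pow_two, ← zpow_natCast]; exact hY₂ _
  have hsq : ∀ (c : G) (i : ℤ), c ^ i * c ^ i = (c * c) ^ i := fun c i =>
    ((Commute.refl c).mul_zpow i).symm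
  have hq₂ : ∀ j : ℤ, (c₂ * c₂) ^ j ∈ Q₂ := fun j => zpow_mem (mul_mem h₂.c_mem h₂.c_mem) j
  have hq₁ : ∀ j : ℤ, (c₁ * c₁) ^ j ∈ Q₁ := fun j => zpow_mem (mul_mem h₁.c_mem h₁.c_mem) j
  have hne : ∀ {Q : Subgroup G} {c v z : G} {n : ℕ}, Cit.GQ Q c v z n → ∀ i : ℤ, c ≠ (c * c) ^ i := by
    intro Q c v z n h i hi
    rw [← hsq, ← zpow_add] at hi
    have h3 : c ^ (i + i - 1) = 1 := by
      rw [zpow_sub_one, ← hi, mul_inv_cancel]
    have h4 := orderOf_dvd_iff_zpow_eq_one.2 h3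
    rw [h.ord] at h4
    have h5 : (2 : ℤ) ∣ i + i - 1 := by
      refine dvd_trans ?_ h4
      push_cast
      exact dvd_pow_self 2 (by omega)
    omega
  have h0 : ElemSection 2 Y Y := by
    refine QALemmaQ.of_sq le_rfl (fun x hx y hy => mul_mem (mul_mem hx hy) (inv_mem hx))
      fun x hx => mul_mem hx hx
  -- step 1
  obtain ⟨X₁, e₁, k₁, m₁⟩ := QALemmaQ.adjoin h0 (d := c₁) (by
      rintro ⟨i, j, hij⟩
      exact hne h₁ i (huniq c₁ h₁.c_mem 1 (one_mem _) _ (hq₁ i) _ (hq₂ j)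
        (by rw [mul_one]; exact hij)).1)
    (by have := hY₁ 1; rwa [zpow_one] at this) (by
      rintro _ ⟨i, j, rfl⟩
      have h3 : Commute c₁ ((c₁ * c₁) ^ i * (c₂ * c₂) ^ j) :=
        (((Commute.refl c₁).mul_right (Commute.refl c₁)).zpow_right i).mul_right
          ((hc₁c₂.mul_right hc₁c₂).zpow_right j)
      have h4 : c₁ * ((c₁ * c₁) ^ i * (c₂ * c₂) ^ j) * c₁⁻¹ * ((c₁ * c₁) ^ i * (c₂ * c₂) ^ j)⁻¹ = 1 := by
        rw [h3.eq]; group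
      rw [h4]; exact one_mem _)
  have f₁ : ∀ g ∈ X₁, ∃ i j : ℤ, g = c₁ ^ i * (c₂ * c₂) ^ j := by
    intro g hg
    rcases (m₁ g).1 hg with ⟨i, j, rfl⟩ | ⟨_, ⟨i, j, rfl⟩, rfl⟩
    · exact ⟨i + i, j, by rw [zpow_add, hsq]⟩
    · refine ⟨i + i + 1, j, ?_⟩
      have h3 : Commute ((c₂ * c₂) ^ j) c₁ := ((hc₁c₂.mul_right hc₁c₂).zpow_right j).symm
      rw [mul_assoc, h3.eq, ← mul_assoc, zpow_add_one, zpow_add, hsq]
  -- step 2
  obtain ⟨X₂, e₂, k₂, m₂⟩ := QALemmaQ.adjoin e₁ (d := v₁) (by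
      intro hv
      obtain ⟨i, j, hij⟩ := f₁ _ hv
      exact QALemmaQ.v_not_zpow h₁ i (huniq v₁ h₁.v_mem 1 (one_mem _) _
        (QALemmaQ.c_zpow_mem h₁ i) _ (hq₂ j) (by rw [mul_one]; exact hij)).1)
    (by rw [h₁.v_sq]; exact haY) (by
      intro g hg
      obtain ⟨i, j, rfl⟩ := f₁ g hg
      have h3 : v₁ * (c₂ * c₂) ^ j = (c₂ * c₂) ^ j * v₁ := hc _ h₁.v_mem _ (hq₂ j)
      have h4 : v₁ * (c₁ ^ i * (c₂ * c₂) ^ j) * v₁⁻¹ * (c₁ ^ i * (c₂ * c₂) ^ j)⁻¹ =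
          (c₁ * c₁) ^ (-i) := by
        calc v₁ * (c₁ ^ i * (c₂ * c₂) ^ j) * v₁⁻¹ * (c₁ ^ i * (c₂ * c₂) ^ j)⁻¹
            = (v₁ * c₁ ^ i * v₁⁻¹) * (v₁ * (c₂ * c₂) ^ j) * v₁⁻¹ * ((c₂ * c₂) ^ j)⁻¹ *
              (c₁ ^ i)⁻¹ := by group
          _ = (v₁ * c₁ ^ i * v₁⁻¹) * ((c₂ * c₂) ^ j * v₁) * v₁⁻¹ * ((c₂ * c₂) ^ j)⁻¹ *
              (c₁ ^ i)⁻¹ := by rw [h3]
          _ = (v₁ * c₁ ^ i * v₁⁻¹) * (c₁ ^ i)⁻¹ := by group
          _ = _ := by rw [QALemmaQ.conj_zpow h₁, ← zpow_neg, hsq]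
      rw [h4]; exact hY₁ _)
  have f₂ : ∀ g ∈ X₂, ∃ p ∈ Q₁, ∃ j : ℤ, g = p * (c₂ * c₂) ^ j := by
    intro g hg
    rcases (m₂ g).1 hg with h3 | ⟨y, h3, rfl⟩
    · obtain ⟨i, j, rfl⟩ := f₁ g h3
      exact ⟨_, QALemmaQ.c_zpow_mem h₁ i, j, rfl⟩
    · obtain ⟨i, j, rfl⟩ := f₁ y h3
      refine ⟨c₁ ^ i * v₁, mul_mem (QALemmaQ.c_zpow_mem h₁ i) h₁.v_mem, j, ?_⟩
      rw [mul_assoc, ← hc _ h₁.v_mem _ (hq₂ j), ← mul_assoc]
  -- step 3
  obtain ⟨X₃, e₃, k₃, m₃⟩ := QALemmaQ.adjoin e₂ (d := c₂) (by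
      intro hv
      obtain ⟨p, hp, j, hij⟩ := f₂ _ hv
      exact hne h₂ j (huniq 1 (one_mem _) c₂ h₂.c_mem p hp _ (hq₂ j)
        (by rw [one_mul]; exact hij)).2)
    (by have := hY₂ 1; rwa [zpow_one] at this) (by
      intro g hg
      obtain ⟨p, hp, j, rfl⟩ := f₂ g hg
      have h3 : Commute c₂ p := (hc p hp c₂ h₂.c_mem).symm
      have h4 : Commute c₂ (p * (c₂ * c₂) ^ j) :=
        h3.mul_right (((Commute.refl c₂).mul_right (Commute.refl c₂)).zpow_right j)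
      have h5 : c₂ * (p * (c₂ * c₂) ^ j) * c₂⁻¹ * (p * (c₂ * c₂) ^ j)⁻¹ = 1 := by
        rw [h4.eq]; group
      rw [h5]; exact one_mem _)
  have f₃ : ∀ g ∈ X₃, ∃ p ∈ Q₁, ∃ j : ℤ, g = p * c₂ ^ j := by
    intro g hg
    rcases (m₃ g).1 hg with h3 | ⟨y, h3, rfl⟩
    · obtain ⟨p, hp, j, rfl⟩ := f₂ g h3
      exact ⟨p, hp, j + j, by rw [zpow_add, hsq]⟩
    · obtain ⟨p, hp, j, rfl⟩ := f₂ y h3
      exact ⟨p, hp, j + j + 1, by rw [mul_assoc, zpow_add_one, zpow_add, hsq]⟩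
  -- step 4
  obtain ⟨X₄, e₄, k₄, m₄⟩ := QALemmaQ.adjoin e₃ (d := v₂) (by
      intro hv
      obtain ⟨p, hp, j, hij⟩ := f₃ _ hv
      exact QALemmaQ.v_not_zpow h₂ j (huniq 1 (one_mem _) v₂ h₂.v_mem p hp _
        (QALemmaQ.c_zpow_mem h₂ j) (by rw [one_mul]; exact hij)).2)
    (by rw [h₂.v_sq]; exact hbY) (by
      intro g hg
      obtain ⟨p, hp, j, rfl⟩ := f₃ g hg
      have h3 : p * v₂ = v₂ * p := hc _ hp _ h₂.v_mem
      have h6 : p * (c₂ * c₂) ^ (-j) = (c₂ * c₂) ^ (-j) * p := hc _ hp _ (hq₂ _)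
      have h4 : v₂ * (p * c₂ ^ j) * v₂⁻¹ * (p * c₂ ^ j)⁻¹ = (c₂ * c₂) ^ (-j) := by
        calc v₂ * (p * c₂ ^ j) * v₂⁻¹ * (p * c₂ ^ j)⁻¹
            = (v₂ * p) * c₂ ^ j * v₂⁻¹ * (c₂ ^ j)⁻¹ * p⁻¹ := by group
          _ = (p * v₂) * c₂ ^ j * v₂⁻¹ * (c₂ ^ j)⁻¹ * p⁻¹ := by rw [h3]
          _ = p * ((v₂ * c₂ ^ j * v₂⁻¹) * (c₂ ^ j)⁻¹) * p⁻¹ := by group
          _ = p * (c₂ * c₂) ^ (-j) * p⁻¹ := by rw [QALemmaQ.conj_zpow h₂, ← zpow_neg, hsq]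
          _ = _ := by rw [h6]; group
      rw [h4]; exact hY₂ _)
  have f₄ : ∀ g ∈ X₄, ∃ p ∈ Q₁, ∃ q ∈ Q₂, g = p * q := by
    intro g hg
    rcases (m₄ g).1 hg with h3 | ⟨y, h3, rfl⟩
    · obtain ⟨p, hp, j, rfl⟩ := f₃ g h3
      exact ⟨p, hp, _, QALemmaQ.c_zpow_mem h₂ j, rfl⟩
    · obtain ⟨p, hp, j, rfl⟩ := f₃ y h3
      exact ⟨p, hp, _, mul_mem (QALemmaQ.c_zpow_mem h₂ j) h₂.v_mem, by rw [mul_assoc]⟩
  -- step 5
  obtain ⟨X₅, e₅, k₅, -⟩ := QALemmaQ.adjoin e₄ (d := x) (by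
      intro hv
      obtain ⟨p, hp, q, hq, hpq⟩ := f₄ _ hv
      apply hcon
      have hp1 : ∀ r ∈ Q₁, p * r = r * p := by
        intro r hr
        have h3 := hx₁ r hr
        rw [hpq] at h3
        have h4 : p * r * q = r * p * q := by
          calc p * r * q = p * (r * q) := by group
            _ = p * (q * r) := by rw [hc r hr q hq]
            _ = p * q * r := by group
            _ = r * p * q := by rw [h3]; group
        exact mul_right_cancel h4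
      have hq1 : ∀ r ∈ Q₂, q * r = r * q := by
        intro r hr
        have h3 := hx₂ r hr
        rw [hpq] at h3
        have h4 : p * (q * r) = p * (r * q) := by
          calc p * (q * r) = p * q * r := by group
            _ = (r * p) * q := by rw [h3]; group
            _ = (p * r) * q := by rw [hc p hp r hr]
            _ = _ := by group
        exact mul_left_cancel h4
      rcases QALemmaQ.mem_center h₁ hp (hp1 _ h₁.c_mem) (hp1 _ h₁.v_mem) with h3 | h3 <;>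
        rcases QALemmaQ.mem_center h₂ hq (hq1 _ h₂.c_mem) (hq1 _ h₂.v_mem) with h4 | h4 <;>
        rw [h3, h4] at hpq
      · left; rw [hpq, one_mul]
      · right; right; left; rw [hpq, one_mul]
      · right; left; rw [hpq, mul_one]
      · right; right; right; exact hpq)
    (by
      rcases hxx with h3 | h3 | h3 | h3 <;> rw [h3]
      · exact one_mem _
      · exact haY
      · exact hbY
      · exact mul_mem haY hbY) (by
      intro g hg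
      obtain ⟨p, hp, q, hq, rfl⟩ := f₄ g hg
      have h3 : Commute x (p * q) := Commute.mul_right (hx₁ p hp) (hx₂ q hq)
      have h5 : x * (p * q) * x⁻¹ * (p * q)⁻¹ = 1 := by
        rw [h3.eq]; group
      rw [h5]; exact one_mem _)
  have hfin := sectionalPRankLE_iff.1 hr X₅ Y e₅
  rw [k₅, k₄, k₃, k₂, k₁] at hfin
  have hpos : 0 < Nat.card Y := Nat.card_pos
  omega

/-! ### the output of `exists_T0` -/

/-- `T` is a semidihedral Sylow 2-subgroup of `J` whose quaternion subgroup `Q` is Sylow in `K`. -/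
structure TZero (J K T Q : Subgroup G) (α τ z : G) (n : ℕ) : Prop where
  le : T ≤ J
  two : IsPGroup 2 T
  syl : ¬ 2 ∣ T.relIndex J
  leQ : Q ≤ K
  sylQ : ¬ 2 ∣ Q.relIndex K
  mc : MC T Q α τ z n
  sd : τ * α * τ⁻¹ = α⁻¹ * z

variable {a b : G} {Ka Kb Ja Jb : Subgroup G}

theorem TZero.conj_cj {J K T Q : Subgroup G} {α τ z : G} {n : ℕ} (h : TZero J K T Q α τ z n) (g : G) :
    TZero (cj g J) (cj g K) (cj g T) (cj g Q) (g * α * g⁻¹) (g * τ * g⁻¹) (g * z * g⁻¹) n where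
  le := cj_mono h.le
  two := h.two.map _
  syl := by
    have := (Cit.Syl.cj (show Cit.Syl T J from ⟨h.le, h.two, h.syl⟩) g).2.2
    exact this
  leQ := cj_mono h.leQ
  sylQ := by
    have h2 : IsPGroup 2 Q := h.two.to_le h.mc.le
    have := (Cit.Syl.cj (show Cit.Syl Q K from ⟨h.leQ, h2, h.sylQ⟩) g).2.2
    exact this
  mc := h.mc.conj_cj g
  sd := by
    calc g * τ * g⁻¹ * (g * α * g⁻¹) * (g * τ * g⁻¹)⁻¹ = g * (τ * α * τ⁻¹) * g⁻¹ := by group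
      _ = _ := by rw [h.sd]; group

/-- one side: `B` Sylow in `C(a)`, `B ≥ T` -/
theorem side [Finite G] (F : Frame G) (h : Alpha a b Ka Kb Ja Jb) {T Q : Subgroup G} {α τ : G}
    {n : ℕ} (t : TZero Ja Kb T Q α τ b n) {B : Subgroup G} (hB : IsPGroup 2 B)
    (hBa : B ≤ centralizer ({a} : Set G)) (hTB : T ≤ B) :
    T = B ⊓ Ja ∧ Q = B ⊓ Kb ∧ B ≤ centralizer ({b} : Set G) := by
  have h1 : T = B ⊓ Ja := Cit.OneBasic.syl_eq_of_le ⟨t.le, t.two, t.syl⟩ (hB.to_le inf_le_left)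
    inf_le_right (le_inf hTB t.le)
  have h2 : Q = B ⊓ Kb := Cit.OneBasic.syl_eq_of_le ⟨t.leQ, t.two.to_le t.mc.le, t.sylQ⟩
    (hB.to_le inf_le_left) inf_le_right (le_inf (t.mc.le.trans hTB) t.leQ)
  refine ⟨h1, h2, ?_⟩
  intro x hx
  have h3 : ∀ y ∈ T, x * y * x⁻¹ ∈ T := by
    intro y hy
    have hyJ := t.le hy
    rw [h1]
    exact mem_inf.2 ⟨mul_mem (mul_mem hx (hTB hy)) (inv_mem hx),
      (mem_normalizer_iff.1 (h.centralizer_le F (hBa hx)) y).1 hyJ⟩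
  have h3' : ∀ y ∈ T, x⁻¹ * y * x ∈ T := by
    intro y hy
    have hyJ := t.le hy
    rw [h1]
    have h4 := (mem_normalizer_iff.1 (h.centralizer_le F (hBa (inv_mem hx))) y).1 hyJ
    rw [inv_inv] at h4
    exact mem_inf.2 ⟨mul_mem (mul_mem (inv_mem hx) (hTB hy)) hx, h4⟩
  have hbT : b ∈ T := QADecomp.z_mem t.mc
  rcases t.mc.center (h3 b hbT) (fun q hq => by
    have h4 := t.mc.z_comm (h3' q hq)
    calc x * b * x⁻¹ * q = x * (b * (x⁻¹ * q * x)) * x⁻¹ := by group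
      _ = x * ((x⁻¹ * q * x) * b) * x⁻¹ := by rw [h4]
      _ = _ := by group) with h4 | h4
  · exfalso
    rw [conj_eq_one_iff] at h4
    exact h.qb.ne_one h4
  · rw [mem_centralizer_singleton_iff]
    exact mul_inv_eq_iff_eq_mul.1 h4

theorem card_le_of_conj [Finite G] {A B : Subgroup G} {c : G} (h : ∀ x ∈ A, c * x * c⁻¹ ∈ B) :
    Nat.card A ≤ Nat.card B := by
  have h3 : A.map (MulAut.conj c).toMonoidHom ≤ B := by
    rintro _ ⟨y, hy, rfl⟩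
    exact h y hy
  rw [Nat.card_congr (A.equivMapOfInjective (MulAut.conj c).toMonoidHom
      (MulAut.conj c).injective).toEquiv]
  exact Subgroup.card_le_of_le h3

theorem exists_two_of [Finite G] (F : Frame G) (h : Alpha a b Ka Kb Ja Jb)
    {T₂ Q₂ : Subgroup G} {α₂ τ₂ : G} {n₂ : ℕ} (t₂ : TZero Ja Kb T₂ Q₂ α₂ τ₂ b n₂)
    {T₁ Q₁ : Subgroup G} {α₁ τ₁ : G} {n₁ : ℕ} (t₁ : TZero Jb Ka T₁ Q₁ α₁ τ₁ a n₁) :
    ∃ (B W1 W2 Q1 Q2 : Subgroup G) (α1 τ1 α2 τ2 : G) (n1 n2 : ℕ),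
      Two a b Ka Kb Ja Jb B W1 W2 Q1 Q2 α1 τ1 α2 τ2 n1 n2 := by
  -- Sylow subgroups of `C(a)` and `C(b)`
  obtain ⟨B, hBs, hTB⟩ := Cit.OneBasic.exists_syl_ge t₂.two (t₂.le.trans h.ja.comp.le)
  obtain ⟨B', hBs', hTB'⟩ := Cit.OneBasic.exists_syl_ge t₁.two (t₁.le.trans h.jb.comp.le)
  obtain ⟨hB1, hB2, hBb⟩ := side F h t₂ hBs.2.1 hBs.1 hTB
  obtain ⟨hB1', hB2', hBa'⟩ := side F h.symm t₁ hBs'.2.1 hBs'.1 hTB'
  obtain ⟨c, hc, hcB⟩ := Wreath.exists_conj_le hBb hBs'.2.1 hBs.2.1 hBs'.2.2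
  obtain ⟨d, hd, hdB⟩ := Wreath.exists_conj_le hBa' hBs.2.1 hBs'.2.1 hBs.2.2
  have hcard : Nat.card B = Nat.card B' := le_antisymm (card_le_of_conj hcB) (card_le_of_conj hdB)
  -- `B = c⁻¹ B' c`
  have hcj : cj c B = B' := by
    apply Subgroup.eq_of_le_of_card_ge
    · rintro _ ⟨x, hx, rfl⟩
      exact hcB x hx
    · rw [← hcard]
      exact (Nat.card_congr (B.equivMapOfInjective (MulAut.conj c).toMonoidHom
        (MulAut.conj c).injective).toEquiv).le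
  have hcj' : cj c⁻¹ B' = B := by rw [← hcj, cj_inv_cj]
  have hcb : c⁻¹ * b * c = b := by
    have := mem_centralizer_singleton_iff.1 hc
    calc c⁻¹ * b * c = c⁻¹ * (b * c) := by group
      _ = c⁻¹ * (c * b) := by rw [this]
      _ = b := by group
  have hcN : c⁻¹ ∈ centralizer ({b} : Set G) := inv_mem hc
  have hcJ : cj c⁻¹ Jb = Jb := mem_normalizer_iff_cj.1 (h.symm.centralizer_le F hcN)
  have hBsb : Cit.Syl B (centralizer ({b} : Set G)) := by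
    have h1 := Cit.Syl.cj hBs' c⁻¹
    have h2 : Cit.cj c⁻¹ B' = B := hcj'
    have h3 : Cit.cj c⁻¹ (centralizer ({b} : Set G)) = centralizer ({b} : Set G) :=
      cj_eq_self_of_mem hcN
    rwa [h2, h3] at h1
  -- the transported `T₁`
  have t₁' := t₁.conj_cj c⁻¹
  rw [hcJ] at t₁'
  have hT₁B : cj c⁻¹ T₁ ≤ B := by
    rw [← hcj']; exact cj_mono hTB'
  -- `a ∈ B`
  have haB : a ∈ B := by
    have haC : a ∈ centralizer ({a} : Set G) := mem_centralizer_singleton_iff.2 rfl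
    apply Wreath.mem_of_normalizer hBs.1 hBs.2.1 hBs.2.2 haC
    · intro x
      obtain ⟨k, hk⟩ := mem_zpowers_iff.1 x.2
      refine ⟨1, Subtype.ext ?_⟩
      show (x : G) ^ 2 ^ 1 = 1
      rw [← hk, pow_one, sq, ← zpow_add, ← two_mul, zpow_mul, zpow_two, h.qa.sq, one_zpow]
    · apply Wreath.mem_normalizer_of_forall
      intro x hx
      have := mem_centralizer_singleton_iff.1 (hBs.1 hx)
      rw [← this, mul_inv_cancel_right]
      exact hx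
  have haT : a ∈ cj c⁻¹ T₁ := by
    have h1 : cj c⁻¹ T₁ = B ⊓ Jb := Cit.OneBasic.syl_eq_of_le ⟨t₁'.le, t₁'.two, t₁'.syl⟩
      (hBs.2.1.to_le inf_le_left) inf_le_right (le_inf hT₁B t₁'.le)
    rw [h1]
    exact ⟨haB, h.symm.mem_J⟩
  have hca : c⁻¹ * a * c⁻¹⁻¹ = a := by
    rcases t₁'.mc.center haT (fun q hq =>
      (mem_centralizer_singleton_iff.1 (hBs.1 (hT₁B hq))).symm) with h1 | h1
    · exact absurd h1 h.qa.ne_one
    · exact h1.symm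
  have hcK : cj c⁻¹ Ka = Ka := by
    apply mem_normalizer_iff_cj.1
    apply h.qa.centralizer_le F
    rw [mem_centralizer_singleton_iff]
    exact mul_inv_eq_iff_eq_mul.1 hca
  rw [hcK, hca] at t₁'
  obtain ⟨hw1, hq1, -⟩ := side F h.symm t₁' hBs.2.1 hBb hT₁B
  -- `W₁ ⊓ W₂ = 1`
  set W₁ : Subgroup G := cj c⁻¹ T₁ with hW₁
  set R₁ : Subgroup G := cj c⁻¹ Q₁ with hR₁
  have hnJa : ∀ x ∈ B, ∀ y ∈ T₂, x * y * x⁻¹ ∈ T₂ := by
    intro x hx y hy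
    rw [hB1] at hy ⊢
    exact mem_inf.2 ⟨mul_mem (mul_mem hx hy.1) (inv_mem hx),
      (mem_normalizer_iff.1 (h.centralizer_le F (hBs.1 hx)) y).1 hy.2⟩
  have hnJb : ∀ x ∈ B, ∀ y ∈ W₁, x * y * x⁻¹ ∈ W₁ := by
    intro x hx y hy
    rw [hw1] at hy ⊢
    exact mem_inf.2 ⟨mul_mem (mul_mem hx hy.1) (inv_mem hx),
      (mem_normalizer_iff.1 (h.symm.centralizer_le F (hBb hx)) y).1 hy.2⟩
  have hnKa : ∀ x ∈ B, ∀ y ∈ R₁, x * y * x⁻¹ ∈ R₁ := by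
    intro x hx y hy
    rw [hq1] at hy ⊢
    exact mem_inf.2 ⟨mul_mem (mul_mem hx hy.1) (inv_mem hx),
      (mem_normalizer_iff.1 (h.qa.centralizer_le F (hBs.1 hx)) y).1 hy.2⟩
  have hnKb : ∀ x ∈ B, ∀ y ∈ Q₂, x * y * x⁻¹ ∈ Q₂ := by
    intro x hx y hy
    rw [hB2] at hy ⊢
    exact mem_inf.2 ⟨mul_mem (mul_mem hx hy.1) (inv_mem hx),
      (mem_normalizer_iff.1 (h.qb.centralizer_le F (hBb hx)) y).1 hy.2⟩
  have hodd : ∀ x ∈ B, ∀ X : Subgroup G, x ∈ core X → x = 1 := by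
    intro x hx X hxX
    obtain ⟨k, hk⟩ := hBs.2.1 ⟨x, hx⟩
    exact eq_one_of_mem_core hxX (congrArg Subtype.val hk)
  have hinf : W₁ ⊓ T₂ = ⊥ := by
    rw [eq_bot_iff]
    rintro x ⟨hx1, hx2⟩
    rw [mem_bot]
    have hxB : x ∈ B := hT₁B hx1
    have hcomm := h.jb.comp.comm_le_core h.qb.comp.comp (h.symm.J_ne_K F).symm
    rcases t₂.mc.centQ hx2 (fun q hq => by
      have hqB : q ∈ B := hTB (t₂.mc.le hq)
      have h1 : ⁅x, q⁆ ∈ ⁅Jb, Kb⁆ := commutator_mem_commutator (t₁'.le hx1) (t₂.leQ hq)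
      have h2 : ⁅x, q⁆ = 1 := hodd _ (by
        rw [commutatorElement_def]
        exact mul_mem (mul_mem (mul_mem hxB hqB) (inv_mem hxB)) (inv_mem hqB)) _ (hcomm h1).1
      exact commutatorElement_eq_one_iff_mul_comm.1 h2) with h1 | h1
    · exact h1
    · exfalso
      rw [h1] at hx1
      exact h.symm.not_mem_J F (t₁'.le hx1)
  have hcom : ∀ x ∈ W₁, ∀ y ∈ T₂, x * y = y * x := by
    intro x hx y hy
    have h1 : x * y * x⁻¹ * y⁻¹ ∈ W₁ ⊓ T₂ := by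
      constructor
      · have h2 : y * x⁻¹ * y⁻¹ ∈ W₁ := hnJb y (hTB hy) _ (inv_mem hx)
        have h3 : x * y * x⁻¹ * y⁻¹ = x * (y * x⁻¹ * y⁻¹) := by group
        rw [h3]; exact mul_mem hx h2
      · exact T₂.mul_mem (hnJa x (hT₁B hx) y hy) (T₂.inv_mem hy)
    rw [hinf, mem_bot] at h1
    calc x * y = (x * y * x⁻¹ * y⁻¹) * (y * x) := by group
      _ = y * x := by rw [h1, one_mul]
  have hcQ : ∀ x ∈ R₁, ∀ y ∈ Q₂, x * y = y * x := fun x hx y hy =>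
    hcom x (t₁'.mc.le hx) y (t₂.mc.le hy)
  have hdQ : R₁ ⊓ Q₂ = ⊥ := by
    rw [eq_bot_iff, ← hinf]
    exact inf_le_inf t₁'.mc.le t₂.mc.le
  have hN : ∀ (X : Subgroup G), (∀ x ∈ B, ∀ y ∈ X, x * y * x⁻¹ ∈ X) → B ≤ normalizer (X : Set G) :=
    fun X hX x hx => Wreath.mem_normalizer_of_forall (hX x hx)
  have hsup : B = W₁ ⊔ T₂ := by
    refine QADecomp.decomp hBs.2.1 hT₁B hTB (hN _ hnJb) (hN _ hnJa) (hN _ hnKa) (hN _ hnKb)
      t₁'.mc t₂.mc hinf ?_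
    intro x hx hx1 hx2
    by_contra hcon
    obtain ⟨k, hk1, hk2⟩ := QALemmaQ.exists_last hBs.2.1 hx
      (fun y => y = 1 ∨ y = a ∨ y = b ∨ y = a * b) (Or.inl rfl) hcon
    apply hk1
    refine rank_five F.rank4 t₁'.mc.gq t₂.mc.gq hcQ hdQ (x := x ^ k) ?_ ?_ hk2
    · intro q hq
      exact ((show Commute x q from hx1 q hq).pow_left k).eq
    · intro q hq
      exact ((show Commute x q from hx2 q hq).pow_left k).eq
  exact ⟨B, W₁, T₂, R₁, Q₂, _, _, α₂, τ₂, n₁, n₂,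
    { alpha := h
      two := hBs.2.1
      le_a := hBs.1
      le_b := hBb
      syl_a := hBs.2.2
      syl_b := hBsb.2.2
      w1 := hw1
      w2 := hB1
      q1 := hq1
      q2 := hB2
      sup := hsup.symm
      inf := hinf
      comm := hcom
      m1 := t₁'.mc
      m2 := t₂.mc
      sd1 := t₁'.sd
      sd2 := t₂.sd }⟩

/-- the statement of `Alpha.exists_T0` -/
def T0Stmt (G : Type*) [Group G] : Prop :=
  ∀ (a b : G) (Ka Kb Ja Jb : Subgroup G), Alpha a b Ka Kb Ja Jb → ¬ QT Ja →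
    ∃ (T Q : Subgroup G) (α τ : G) (n : ℕ), T ≤ Ja ∧ IsPGroup 2 T ∧ ¬ 2 ∣ T.relIndex Ja ∧
      Q ≤ cen Kb a ∧ Q ≤ T ∧ ¬ 2 ∣ Q.relIndex Kb ∧ MC T Q α τ b n ∧ τ * α * τ⁻¹ = α⁻¹ * b

theorem Alpha.exists_two_of_T0 [Finite G] (F : Frame G) (hT0 : T0Stmt G)
    (h : Alpha a b Ka Kb Ja Jb) (hJa : ¬ QT Ja) (hJb : ¬ QT Jb) :
    ∃ (B W1 W2 Q1 Q2 : Subgroup G) (α1 τ1 α2 τ2 : G) (n1 n2 : ℕ),
      Two a b Ka Kb Ja Jb B W1 W2 Q1 Q2 α1 τ1 α2 τ2 n1 n2 := by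
  obtain ⟨T, Q, α, τ, n, h1, h2, h3, h4, -, h6, h7, h8⟩ := hT0 _ _ _ _ _ _ h hJa
  obtain ⟨T', Q', α', τ', n', h1', h2', h3', h4', -, h6', h7', h8'⟩ := hT0 _ _ _ _ _ _ h.symm hJb
  exact exists_two_of F h ⟨h1, h2, h3, h4.trans (cen_le _ _), h6, h7, h8⟩
    ⟨h1', h2', h3', h4'.trans (cen_le _ _), h6', h7', h8'⟩

end Cfsg.Agent.GH.QA
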