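import Cfsg.Agent.GH.QABase
import Cfsg.Agent.GH.QAInv
import Cfsg.Agent.Intrinsic.Diag

/-!
# GH-Q (I), scenario A, case (A1): both pump-ups are `QT`

`Alpha.false_of_qt` : an `alpha` pair whose pump-ups are `QT` does not exist.
-/

set_option autoImplicit false

open Cfsg Subgroup
open Cfsg.Agent.Intrinsic.Basic Cfsg.Agent.Intrinsic.Cen Cfsg.Agent.Intrinsic.Diag
open Cfsg.Agent.SignalizersComponents.IntrinsicBasic
open Cfsg.Agent.TwoFusion.SectionalRank
open Cfsg.Agent.GH.Defs Cfsg.Agent.GH.Rank Cfsg.Agent.GH.Comp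
open scoped commutatorElement

namespace Cfsg.Agent.GH.QA

variable {G : Type*} [Group G]

theorem QT.cj {K : Subgroup G} (h : QT K) (g : G) : QT (cj g K) := by
  intro a ha b hb ha2 hb2 ha1 hb1 hab
  rw [mem_cj] at ha hb
  have key : ∀ x : G, g⁻¹ * x * g = g⁻¹ * x * g⁻¹⁻¹ := fun x => by rw [inv_inv]
  have h1 := h _ ha _ hb (by rw [key]; exact sq_cj ha2 g⁻¹) (by rw [key]; exact sq_cj hb2 g⁻¹)
    (by rw [key]; exact ne_one_cj ha1 g⁻¹) (by rw [key]; exact ne_one_cj hb1 g⁻¹) (by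
      calc g⁻¹ * a * g * (g⁻¹ * b * g) = g⁻¹ * (a * b) * g := by group
        _ = g⁻¹ * b * g * (g⁻¹ * a * g) := by rw [hab]; group)
  calc a = g * (g⁻¹ * a * g) * g⁻¹ := by group
    _ = b := by rw [h1]; group

variable [Finite G]

/-- involutions of a 2-subgroup of a `QT` group are equal -/
theorem QT.eq_of_two {K P : Subgroup G} (h : QT K) (hP : IsPGroup 2 P) (hPK : P ≤ K) {u v : G}
    (hu : u ∈ P) (hv : v ∈ P) (hu2 : u * u = 1) (hv2 : v * v = 1) (hu1 : u ≠ 1) (hv1 : v ≠ 1) :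
    u = v := by
  have hp : Fact (Nat.Prime 2) := ⟨Nat.prime_two⟩
  have hnt : Nontrivial P := ⟨⟨⟨u, hu⟩, 1, fun h => hu1 (congrArg Subtype.val h)⟩⟩
  have hc := hP.center_nontrivial
  have h2 : 2 ∣ Nat.card (center P) := by
    have h3 : IsPGroup 2 (center P) := hP.to_subgroup _
    obtain ⟨n, hn⟩ := IsPGroup.iff_card.mp h3
    have h4 : 1 < Nat.card (center P) := Finite.one_lt_card_iff_nontrivial.mpr hc
    rw [hn] at h4 ⊢
    rcases n with _ | n
    · simp at h4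
    · exact dvd_pow_self 2 (Nat.succ_ne_zero n)
  obtain ⟨⟨⟨ζ, hζP⟩, hζc⟩, hζo⟩ := exists_prime_orderOf_dvd_card' 2 h2
  have hζo' : orderOf ζ = 2 := by
    rw [← hζo, Subgroup.orderOf_mk, Subgroup.orderOf_mk]
  have hcomm : ∀ x ∈ P, ζ * x = x * ζ := by
    intro x hx
    have := mem_center_iff.mp hζc ⟨x, hx⟩
    exact (congrArg Subtype.val this).symm
  have hζ2 := sq_of_order hζo'
  have hζ1 := ne_one_of_order hζo'
  have e1 := h ζ (hPK hζP) u (hPK hu) hζ2 hu2 hζ1 hu1 (hcomm u hu)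
  have e2 := h ζ (hPK hζP) v (hPK hv) hζ2 hv2 hζ1 hv1 (hcomm v hv)
  rw [← e1, ← e2]

/-- involutions of a `QT` group are conjugate -/
theorem QT.conj {K : Subgroup G} (h : QT K) {u v : G} (hu : u ∈ K) (hv : v ∈ K) (hu2 : u * u = 1)
    (hv2 : v * v = 1) (hu1 : u ≠ 1) (hv1 : v ≠ 1) : ∃ k ∈ K, k * u * k⁻¹ = v := by
  have hp : Fact (Nat.Prime 2) := ⟨Nat.prime_two⟩
  have key : ∀ w : K, w * w = 1 → IsPGroup 2 (zpowers w) := by
    intro w hw
    rintro ⟨_, n, rfl⟩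
    refine ⟨1, ?_⟩
    apply Subtype.ext
    change (w ^ n) ^ 2 ^ 1 = 1
    rw [pow_one, ← zpow_natCast, ← zpow_mul, mul_comm, zpow_mul]
    have : w ^ ((2 : ℕ) : ℤ) = 1 := by rw [zpow_natCast, pow_two, hw]
    rw [this, one_zpow]
  obtain ⟨P, hP⟩ := (key ⟨u, hu⟩ (Subtype.ext hu2)).exists_le_sylow
  obtain ⟨Q, hQ⟩ := (key ⟨v, hv⟩ (Subtype.ext hv2)).exists_le_sylow
  obtain ⟨k, hk⟩ := MulAction.exists_smul_eq K P Q
  refine ⟨k, k.2, ?_⟩
  have h1 : k * ⟨u, hu⟩ * k⁻¹ ∈ (Q : Subgroup K) := by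
    rw [← hk]
    rw [Sylow.coe_subgroup_smul]
    exact ⟨⟨u, hu⟩, hP (mem_zpowers _), rfl⟩
  have h2 : (⟨v, hv⟩ : K) ∈ (Q : Subgroup K) := hQ (mem_zpowers _)
  refine h.eq_of_two (P := (Q : Subgroup K).map K.subtype) (Q.2.map _) (map_subtype_le _)
    ⟨_, h1, rfl⟩ ⟨_, h2, rfl⟩ (sq_cj hu2 _) hv2 (ne_one_cj hu1 _) hv1

/-- The two 2-components of `C(ab)`. -/
structure YPair (a b : G) (L L' : Subgroup G) : Prop where
  cl : Comp2 (a * b) L
  cl' : Comp2 (a * b) L'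
  mem : a ∈ L
  mem' : b ∈ L'
  qt : QT L
  qt' : QT L'
  ne : L ≠ L'

/-- `Fixes` is closed under products, for elements of `H` -/
theorem Fixes.mul {H K : Subgroup G} (hK : IsComp H K) {x y : G} (hx : x ∈ H) (hy : y ∈ H)
    (fx : Fixes x K) (fy : Fixes y K) : Fixes (x * y) K := by
  rw [hK.fixes_iff (mul_mem hx hy)]
  exact mul_mem ((hK.fixes_iff hx).mp fx) ((hK.fixes_iff hy).mp fy)

namespace Alpha

variable {a b : G} {Ka Kb Ja Jb : Subgroup G}

/-- existence of the two 2-components of `C(ab)` -/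
theorem exists_ypair (h : Alpha a b Ka Kb Ja Jb) (F : Frame G) : ∃ L L', YPair a b L L' := by
  have hab := h.comm
  have ha2 := h.qa.sq
  have hb2 := h.qb.sq
  have hbC : b ∈ centralizer ({a} : Set G) := mem_centralizer_singleton_iff.mpr hab.symm
  have haC : a ∈ centralizer ({b} : Set G) := mem_centralizer_singleton_iff.mpr hab
  have hy2 : orderOf (a * b) = 2 := order_of_sq (mul_sq ha2 hb2 hab) (mul_ne_one ha2 h.ne)
  -- first component
  have h1 := (isComp_cen h.qa.comp.comp hbC hb2 h.fa).1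
  rw [inf_comm, ← cent_inf_mul' hab] at h1
  have haK : a ∈ cen Ka b := mem_cen_of_sq h.qa.mem hab ha2
  obtain ⟨L, hL, hle⟩ := exists_pumpup ha2 haK h1
  have h2 := (isComp_cen h.qb.comp.comp haC ha2 h.fb).1
  rw [inf_comm, ← cent_inf_mul] at h2
  obtain ⟨L', hL', hle'⟩ := exists_pumpup hb2 h.mem_cen' h2
  have haL : a ∈ L := hle haK
  have hbL : b ∈ L' := hle' h.mem_cen'
  have hne : L ≠ L' := by
    intro he
    have hbL2 : b ∈ L := he ▸ hbL
    have hyL : a * b ∈ L := mul_mem haL hbL2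
    have hq := F.even_qt _ L ⟨hy2, hL⟩ (evenCenter_of_mem ⟨hy2, hL⟩ hyL)
    exact h.ne (hq a haL b hbL2 ha2 hb2 h.qa.ne_one h.qb.ne_one hab)
  have hyH : a * b ∈ centralizer ({a * b} : Set G) := mem_centralizer_singleton_iff.mpr rfl
  have haH : a ∈ centralizer ({a * b} : Set G) := hL.le haL
  have hbH : b ∈ centralizer ({a * b} : Set G) := hL'.le hbL
  -- evenness of the centres
  have key : ∀ {M : Subgroup G} (_ : IsComp (centralizer ({a * b} : Set G)) M) {u v : G},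
      u ∈ M → u * u = 1 → u ≠ 1 → v ∈ centralizer ({a * b} : Set G) → u = a * b * v → Fixes v M →
      QT M := by
    intro M hM u v hu hu2 hu1 hv huv hf
    apply F.even_qt _ M ⟨hy2, hM⟩
    by_contra hodd
    have hfu : Fixes u M := by
      rw [huv]
      exact Fixes.mul hM hyH hv (fixes_self hM.le) hf
    exact hu1 (eq_one_of_odd hM hodd hfu ⟨u, hu, by rw [inv_mul_cancel]; exact one_mem _⟩ (n := 1)
      (by rw [pow_one, pow_two, hu2]))
  refine ⟨L, L', ⟨hy2, hL⟩, ⟨hy2, hL'⟩, haL, hbL, ?_, ?_, hne⟩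
  · refine key hL haL ha2 h.qa.ne_one hbH ?_ (hL.fixes_of_mem hL' hne hbL)
    rw [mul_assoc, hb2, mul_one]
  · refine key hL' hbL hb2 h.qb.ne_one haH ?_ (hL'.fixes_of_mem hL hne.symm haL)
    rw [hab, mul_assoc, ha2, mul_one]

end Alpha

namespace YPair

variable {a b : G} {L L' : Subgroup G}

omit [Finite G] in
theorem symm (h : YPair a b L L') (hab : a * b = b * a) : YPair b a L' L := by
  refine ⟨?_, ?_, h.mem', h.mem, h.qt', h.qt, h.ne.symm⟩
  · rw [← hab]; exact h.cl'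
  · rw [← hab]; exact h.cl

theorem only (h : YPair a b L L') (F : Frame G) {M : Subgroup G} (hM : Comp2 (a * b) M) :
    M = L ∨ M = L' := only_two F.rank4 h.cl.comp h.cl'.comp hM.comp h.ne

omit [Finite G] in
theorem cj (h : YPair a b L L') (g : G) :
    YPair (g * a * g⁻¹) (g * b * g⁻¹) (Cfsg.Agent.SignalizersComponents.IntrinsicBasic.cj g L)
      (Cfsg.Agent.SignalizersComponents.IntrinsicBasic.cj g L') := by
  have e : g * a * g⁻¹ * (g * b * g⁻¹) = g * (a * b) * g⁻¹ := by group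
  refine ⟨?_, ?_, conj_mem_cj h.mem, conj_mem_cj h.mem', h.qt.cj g, h.qt'.cj g, fun he =>
    h.ne (cj_injective g he)⟩
  · rw [e]; exact comp2_cj h.cl g
  · rw [e]; exact comp2_cj h.cl' g

/-- a 2-subgroup of `C(ab)` containing `a` and `b` acts on `{a, b}` -/
theorem dichotomy (h : YPair a b L L') (F : Frame G) (ha2 : a * a = 1) (hb2 : b * b = 1)
    (ha1 : a ≠ 1) (hb1 : b ≠ 1) {P : Subgroup G} (hP : IsPGroup 2 P)
    (hPC : P ≤ centralizer ({a * b} : Set G)) (haP : a ∈ P) (hbP : b ∈ P) {x : G} (hx : x ∈ P) :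
    (x * a * x⁻¹ = a ∧ x * b * x⁻¹ = b) ∨
      (Cfsg.Agent.SignalizersComponents.IntrinsicBasic.cj x L = L' ∧ x * a * x⁻¹ = b ∧
        x * b * x⁻¹ = a) := by
  have hxy : x * (a * b) * x⁻¹ = a * b := by
    rw [mem_centralizer_singleton_iff.mp (hPC hx), mul_inv_cancel_right]
  have hxa : x * a * x⁻¹ ∈ P := P.mul_mem (P.mul_mem hx haP) (P.inv_mem hx)
  have hxb : x * b * x⁻¹ ∈ P := P.mul_mem (P.mul_mem hx hbP) (P.inv_mem hx)
  have c1 := comp2_cj h.cl x
  have c2 := comp2_cj h.cl' x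
  rw [hxy] at c1 c2
  have hne : Cfsg.Agent.SignalizersComponents.IntrinsicBasic.cj x L ≠
      Cfsg.Agent.SignalizersComponents.IntrinsicBasic.cj x L' := fun he => h.ne (cj_injective x he)
  have m1 : x * a * x⁻¹ ∈ Cfsg.Agent.SignalizersComponents.IntrinsicBasic.cj x L := conj_mem_cj h.mem
  have m2 : x * b * x⁻¹ ∈ Cfsg.Agent.SignalizersComponents.IntrinsicBasic.cj x L' := conj_mem_cj h.mem'
  have key : ∀ {M : Subgroup G}, QT M → ∀ {u v : G}, u ∈ M → v ∈ M → u ∈ P → v ∈ P → u * u = 1 →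
      v * v = 1 → u ≠ 1 → v ≠ 1 → u = v := by
    intro M hM u v hu hv huP hvP hu2 hv2 hu1 hv1
    exact hM.eq_of_two (P := P ⊓ M) (hP.to_le inf_le_left) inf_le_right ⟨huP, hu⟩ ⟨hvP, hv⟩ hu2 hv2
      hu1 hv1
  rcases h.only F c1 with e1 | e1
  · left
    rcases h.only F c2 with e2 | e2
    · exact absurd (e1.trans e2.symm) hne
    · rw [e1] at m1
      rw [e2] at m2
      exact ⟨key h.qt m1 h.mem hxa haP (sq_cj ha2 x) ha2 (ne_one_cj ha1 x) ha1,
        key h.qt' m2 h.mem' hxb hbP (sq_cj hb2 x) hb2 (ne_one_cj hb1 x) hb1⟩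
  · right
    rcases h.only F c2 with e2 | e2
    · rw [e2] at m2
      rw [e1] at m1
      exact ⟨e1, key h.qt' m1 h.mem' hxa hbP (sq_cj ha2 x) hb2 (ne_one_cj ha1 x) hb1,
        key h.qt m2 h.mem hxb haP (sq_cj hb2 x) ha2 (ne_one_cj hb1 x) ha1⟩
    · exact absurd (e1.trans e2.symm) hne

/-- a conjugate of `ab` does not swap `L` and `L'` -/
theorem no_swap (h : YPair a b L L') (F : Frame G) (ha2 : a * a = 1) (hb2 : b * b = 1)
    (ha1 : a ≠ 1) (hb1 : b ≠ 1) (hab : a * b = b * a) (hne : a ≠ b)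
    (hya : ∀ g : G, g * a * g⁻¹ ≠ a * b) (hyb : ∀ g : G, g * b * g⁻¹ ≠ a * b) {g : G}
    (hc : g * (a * b) * g⁻¹ ∈ centralizer ({a * b} : Set G))
    (hs : Cfsg.Agent.SignalizersComponents.IntrinsicBasic.cj (g * (a * b) * g⁻¹) L = L')
    (hsa : (g * (a * b) * g⁻¹) * a * (g * (a * b) * g⁻¹)⁻¹ = b) : False := by
  have hy2 := mul_sq ha2 hb2 hab
  have hy1 := mul_ne_one ha2 hne
  obtain ⟨v, hv⟩ : ∃ v, v = g * (a * b) * g⁻¹ := ⟨_, rfl⟩
  rw [← hv] at hc hs hsa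
  have hv2 : v * v = 1 := by rw [hv]; exact sq_cj hy2 g
  obtain ⟨h1, -⟩ := exists_diag h.cl.comp hc hv2 (by rw [hs]; exact h.ne.symm)
  have hyv : a * b * v = v * (a * b) := (mem_centralizer_singleton_iff.mp hc).symm
  have hyD : a * b ∈ diag (centralizer ({a * b} : Set G)) L v := by
    refine mem_diag (k := a) (n := 1) (mem_centralizer_singleton_iff.mpr rfl) hyv h.mem ?_ ?_
    · rw [hsa, inv_mul_cancel]
      exact one_mem _
    · rw [pow_one, pow_two, hy2]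
  rw [inf_comm] at h1
  obtain ⟨M, hM, hle⟩ := exists_pumpup hy2 hyD h1
  have hyM := hle hyD
  have hc' := h.cj g
  have e : g * a * g⁻¹ * (g * b * g⁻¹) = v := by rw [hv]; group
  have hM' : Comp2 (g * a * g⁻¹ * (g * b * g⁻¹)) M := by
    rw [e]
    exact ⟨order_of_sq hv2 (by rw [hv]; exact ne_one_cj hy1 g), hM⟩
  rcases hc'.only F hM' with e1 | e1
  · rw [e1] at hyM
    obtain ⟨k, -, hk⟩ := hc'.qt.conj hc'.mem hyM (sq_cj ha2 g) hy2 (ne_one_cj ha1 g) hy1
    apply hya (k * g)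
    rw [← hk]; group
  · rw [e1] at hyM
    obtain ⟨k, -, hk⟩ := hc'.qt'.conj hc'.mem' hyM (sq_cj hb2 g) hy2 (ne_one_cj hb1 g) hy1
    apply hyb (k * g)
    rw [← hk]; group

end YPair

/-! ### the main argument -/

/-- Sylow subgroups of a subgroup `C`, containing a given 2-subgroup -/
theorem exists_syl_conj {C V : Subgroup G} (hV : IsPGroup 2 V) (hVC : V ≤ C) :
    ∃ P ≤ C, IsPGroup 2 P ∧ V ≤ P ∧
      ∀ W ≤ C, IsPGroup 2 W → ∃ c ∈ C, ∀ w ∈ W, c * w * c⁻¹ ∈ P := by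
  have hp : Fact (Nat.Prime 2) := ⟨Nat.prime_two⟩
  obtain ⟨P, hP⟩ := (hV.comap_subtype (K := C)).exists_le_sylow
  refine ⟨(P : Subgroup C).map C.subtype, map_subtype_le _, P.2.map _, ?_, ?_⟩
  · intro v hv
    exact ⟨⟨v, hVC hv⟩, hP (mem_comap.mpr hv), rfl⟩
  · intro W hWC hW
    obtain ⟨Q, hQ⟩ := (hW.comap_subtype (K := C)).exists_le_sylow
    obtain ⟨c, hc⟩ := MulAction.exists_smul_eq C Q P
    refine ⟨c, c.2, fun w hw => ?_⟩
    refine ⟨c * ⟨w, hWC hw⟩ * c⁻¹, ?_, rfl⟩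
    change c * ⟨w, hWC hw⟩ * c⁻¹ ∈ (P : Subgroup C)
    rw [← hc, Sylow.coe_subgroup_smul]
    exact ⟨⟨w, hWC hw⟩, hQ (mem_comap.mpr hw), rfl⟩

omit [Finite G] in
/-- the group generated by two commuting involutions -/
theorem isPGroup_closure_pair [Finite G] {a b : G} (ha : a * a = 1) (hb : b * b = 1)
    (hab : a * b = b * a) : IsPGroup 2 (closure ({a, b} : Set G)) := by
  have h1 : ∀ x ∈ closure ({a, b} : Set G), x * x = 1 ∧ x * a = a * x ∧ x * b = b * x := by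
    intro x hx
    induction hx using closure_induction with
    | mem x hx =>
      rcases hx with rfl | rfl
      · exact ⟨ha, rfl, hab⟩
      · exact ⟨hb, hab.symm, rfl⟩
    | one => simp
    | mul x y hx hy h1 h2 =>
      have hxy : x * y = y * x := by
        have h3 : ∀ w ∈ closure ({a, b} : Set G), x * w = w * x := by
          intro w hw
          induction hw using closure_induction with
          | mem w hw =>
            rcases hw with rfl | rfl
            · exact h1.2.1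
            · exact h1.2.2
          | one => simp
          | mul u v _ _ h1 h2 => rw [← mul_assoc, h1, mul_assoc, h2, mul_assoc]
          | inv u _ h1 => exact ((show Commute x u from h1).inv_right).eq
        exact h3 y hy
      refine ⟨?_, ?_, ?_⟩
      · calc x * y * (x * y) = x * (y * x) * y := by group
          _ = (x * x) * (y * y) := by rw [← hxy]; group
          _ = 1 := by rw [h1.1, h2.1, one_mul]
      · rw [mul_assoc, h2.2.1, ← mul_assoc, h1.2.1, mul_assoc]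
      · rw [mul_assoc, h2.2.2, ← mul_assoc, h1.2.2, mul_assoc]
    | inv x _ h1 =>
      have : x⁻¹ = x := inv_eq_of_mul_eq_one_left h1.1
      rw [this]; exact h1
  rintro ⟨x, hx⟩
  refine ⟨1, ?_⟩
  apply Subtype.ext
  change x ^ 2 ^ 1 = 1
  rw [pow_one, pow_two, (h1 x hx).1]

namespace Alpha

variable {a b : G} {Ka Kb Ja Jb : Subgroup G}

omit [Finite G] in
theorem cj (h : Alpha a b Ka Kb Ja Jb) (g : G) :
    Alpha (g * a * g⁻¹) (g * b * g⁻¹) (Cfsg.Agent.SignalizersComponents.IntrinsicBasic.cj g Ka)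
      (Cfsg.Agent.SignalizersComponents.IntrinsicBasic.cj g Kb)
      (Cfsg.Agent.SignalizersComponents.IntrinsicBasic.cj g Ja)
      (Cfsg.Agent.SignalizersComponents.IntrinsicBasic.cj g Jb) := by
  refine ⟨h.qa.cj g, h.qb.cj g, ?_, ?_, h.fa.cj g, h.fb.cj g, comp2_cj h.ja g, comp2_cj h.jb g, ?_, ?_⟩
  · intro he
    apply h.ne
    calc a = g⁻¹ * (g * a * g⁻¹) * g := by group
      _ = b := by rw [he]; group
  · calc g * a * g⁻¹ * (g * b * g⁻¹) = g * (a * b) * g⁻¹ := by group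
      _ = g * b * g⁻¹ * (g * a * g⁻¹) := by rw [h.comm]; group
  · rw [← cj_cen]
    exact cj_mono h.leJa
  · rw [← cj_cen]
    exact cj_mono h.leJb

/-- coincidences between `{a, b}` and a conjugate of it -/
theorem coin (F : Frame G) (h : Alpha a b Ka Kb Ja Jb) (qJa : QT Ja) (qJb : QT Jb) {g : G}
    (hy : g * (a * b) * g⁻¹ ≠ a * b) (hab1 : (g * b * g⁻¹) * a = a * (g * b * g⁻¹))
    (hbb1 : (g * b * g⁻¹) * b = b * (g * b * g⁻¹)) :
    g * a * g⁻¹ ≠ a ∧ g * a * g⁻¹ ≠ b := by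
  have hc := h.cj g
  constructor
  · intro he
    have h1 := hc.ja
    rw [he] at h1
    have hK : Cfsg.Agent.SignalizersComponents.IntrinsicBasic.cj g Ka = Ka := by
      have h2 := hc.qa
      rw [he] at h2
      exact h2.unique F h.qa
    have hJ : Cfsg.Agent.SignalizersComponents.IntrinsicBasic.cj g Ja = Ja := by
      rcases h.only F h1 with h3 | h3
      · exact absurd (cj_injective g (hK.trans h3.symm)) (h.J_ne_K F)
      · exact h3
    have hb1 := hc.mem_J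
    rw [hJ] at hb1
    have h4 := qJa _ hb1 b h.mem_J (sq_cj h.qb.sq g) h.qb.sq (ne_one_cj h.qb.ne_one g) h.qb.ne_one
      hbb1
    apply hy
    calc g * (a * b) * g⁻¹ = (g * a * g⁻¹) * (g * b * g⁻¹) := by group
      _ = a * b := by rw [he, h4]
  · intro he
    have h1 := hc.ja
    rw [he] at h1
    have hK : Cfsg.Agent.SignalizersComponents.IntrinsicBasic.cj g Ka = Kb := by
      have h2 := hc.qa
      rw [he] at h2
      exact h2.unique F h.qb
    have hJ : Cfsg.Agent.SignalizersComponents.IntrinsicBasic.cj g Ja = Jb := by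
      rcases h.symm.only F h1 with h3 | h3
      · exact absurd (cj_injective g (hK.trans h3.symm)) (h.J_ne_K F)
      · exact h3
    have hb1 := hc.mem_J
    rw [hJ] at hb1
    have h4 := qJb _ hb1 a h.symm.mem_J (sq_cj h.qb.sq g) h.qa.sq (ne_one_cj h.qb.ne_one g)
      h.qa.ne_one hab1
    apply hy
    calc g * (a * b) * g⁻¹ = (g * a * g⁻¹) * (g * b * g⁻¹) := by group
      _ = a * b := by rw [he, h4, h.comm]

/-- the end of the argument: all of `a, b, a1, b1` commute -/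
theorem finish (F : Frame G) (h : Alpha a b Ka Kb Ja Jb) (qJa : QT Ja) (qJb : QT Jb)
    {L L' : Subgroup G} (Y : YPair a b L L') (hya : ∀ g : G, g * a * g⁻¹ ≠ a * b) {g : G}
    (hy : g * (a * b) * g⁻¹ ≠ a * b) (haa1 : (g * a * g⁻¹) * a = a * (g * a * g⁻¹))
    (hba1 : (g * a * g⁻¹) * b = b * (g * a * g⁻¹)) (hab1 : (g * b * g⁻¹) * a = a * (g * b * g⁻¹))
    (hbb1 : (g * b * g⁻¹) * b = b * (g * b * g⁻¹)) : False := by
  obtain ⟨a1a, a1b⟩ := h.coin F qJa qJb hy hab1 hbb1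
  have hy' : g * (b * a) * g⁻¹ ≠ b * a := by rw [← h.comm]; exact hy
  obtain ⟨b1b, b1a⟩ := h.symm.coin F qJb qJa hy' hba1 haa1
  have hc := h.cj g
  have qJa1 : QT (Cfsg.Agent.SignalizersComponents.IntrinsicBasic.cj g Ja) := qJa.cj g
  obtain ⟨a1, ha1⟩ : ∃ a1, a1 = g * a * g⁻¹ := ⟨_, rfl⟩
  obtain ⟨b1, hb1⟩ : ∃ b1, b1 = g * b * g⁻¹ := ⟨_, rfl⟩
  rw [← ha1] at haa1 hba1 a1a a1b hc
  rw [← hb1] at hab1 hbb1 b1b b1a hc
  have sa1 : a1 * a1 = 1 := hc.qa.sq
  have na1 : a1 ≠ 1 := hc.qa.ne_one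
  -- `a1` does not fix `Ka`
  have nofix : ¬ Fixes a1 Ka := by
    intro hf
    obtain ⟨M, hM, -, haM⟩ := exists_pump h.qa.comp.comp h.qa.mem h.qa.sq sa1 haa1.symm hf
    rcases hc.only F ⟨hc.qa.comp.inv, hM⟩ with e | e
    · rw [e] at haM
      exact a1a (hc.qa.eq_z F haM h.qa.sq h.qa.ne_one).symm
    · rw [e] at haM
      exact b1a (qJa1 a haM b1 hc.mem_J h.qa.sq hc.qb.sq h.qa.ne_one hc.qb.ne_one hab1.symm).symm
  have nofix' : ¬ Fixes a1 Kb := by
    intro hf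
    obtain ⟨M, hM, -, hbM⟩ := exists_pump h.qb.comp.comp h.qb.mem h.qb.sq sa1 hba1.symm hf
    rcases hc.only F ⟨hc.qa.comp.inv, hM⟩ with e | e
    · rw [e] at hbM
      exact a1b (hc.qa.eq_z F hbM h.qb.sq h.qb.ne_one).symm
    · rw [e] at hbM
      exact b1b (qJa1 b hbM b1 hc.mem_J h.qb.sq hc.qb.sq h.qb.ne_one hc.qb.ne_one hbb1.symm).symm
  -- LEMMA I for `Ka`
  have fixself : ∀ {z : G} {K : Subgroup G}, QC z K → ∀ k ∈ K, ⁅z, k⁆ ∈ core K := fun hq =>
    (fixes_self hq.comp.comp.le).2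
  obtain ⟨x, -, -, hx⟩ := (lemmaI (h.qa.qt F) h.qa.mem h.qa.sq h.qa.ne_one (fixself h.qa)
    (h.qa.centralizer_le F (mem_centralizer_singleton_iff.mpr haa1)) sa1 haa1).resolve_left nofix
  -- LEMMA I for `Kb`
  have haCb : a ∈ centralizer ({b} : Set G) := mem_centralizer_singleton_iff.mpr h.comm
  have ha1Cb : a1 ∈ centralizer ({b} : Set G) := mem_centralizer_singleton_iff.mpr hba1
  have nofix2 : ¬ Fixes (a1 * a) Kb := by
    intro hf
    apply nofix'
    have h1 := Fixes.mul h.qb.comp.comp (mul_mem ha1Cb haCb) haCb hf h.fb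
    rwa [mul_assoc, h.qa.sq, mul_one] at h1
  have s1 : (a1 * a) * (a1 * a) = 1 := mul_sq sa1 h.qa.sq haa1
  have c1 : (a1 * a) * b = b * (a1 * a) := by rw [mul_assoc, h.comm, ← mul_assoc, hba1, mul_assoc]
  obtain ⟨x', -, -, hx'⟩ := (lemmaI (h.qb.qt F) h.qb.mem h.qb.sq h.qb.ne_one (fixself h.qb)
    (h.qb.centralizer_le F (mul_mem ha1Cb haCb)) s1 c1).resolve_left nofix2
  -- `ab` does not fix `cj g Ka`
  have hy2 := mul_sq h.qa.sq h.qb.sq h.comm
  have hy1 := mul_ne_one h.qa.sq h.ne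
  have c2 : a1 * (a * b) = (a * b) * a1 := by rw [← mul_assoc, haa1, mul_assoc, hba1, mul_assoc]
  have nofix3 : ¬ Fixes (a * b) (Cfsg.Agent.SignalizersComponents.IntrinsicBasic.cj g Ka) := by
    intro hf
    obtain ⟨M, hM, -, haM⟩ := exists_pump hc.qa.comp.comp hc.qa.mem sa1 hy2 c2 hf
    rcases Y.only F ⟨Y.cl.inv, hM⟩ with e | e
    · rw [e] at haM
      exact a1a (Y.qt a1 haM a Y.mem sa1 h.qa.sq na1 h.qa.ne_one haa1)
    · rw [e] at haM
      exact a1b (Y.qt' a1 haM b Y.mem' sa1 h.qb.sq na1 h.qb.ne_one hba1)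
  obtain ⟨w, -, -, hw⟩ := (lemmaI (hc.qa.qt F) hc.qa.mem sa1 na1 (fixself hc.qa)
    (hc.qa.centralizer_le F (mem_centralizer_singleton_iff.mpr c2.symm)) hy2 c2.symm).resolve_left
    nofix3
  -- conclusion
  apply hya (w⁻¹ * (x' * (x * g)))
  have e1 : x' * (x * g) * a * (x' * (x * g))⁻¹ = a1 * a * b := by
    calc x' * (x * g) * a * (x' * (x * g))⁻¹ = x' * (x * (g * a * g⁻¹) * x⁻¹) * x'⁻¹ := by group
      _ = a1 * a * b := by rw [← ha1, hx, hx']
  have e2 : w * (a * b) * w⁻¹ = a1 * a * b := by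
    rw [hw, ← c2, mul_assoc]
  calc w⁻¹ * (x' * (x * g)) * a * (w⁻¹ * (x' * (x * g)))⁻¹
      = w⁻¹ * (x' * (x * g) * a * (x' * (x * g))⁻¹) * w := by group
    _ = w⁻¹ * (w * (a * b) * w⁻¹) * w := by rw [e1, e2]
    _ = a * b := by group

/-- **(A1).** -/
theorem false_of_qt (F : Frame G) (h : Alpha a b Ka Kb Ja Jb) (qJa : QT Ja) (qJb : QT Jb) :
    False := by
  obtain ⟨L, L', Y⟩ := h.exists_ypair F
  have ha2 := h.qa.sq
  have hb2 := h.qb.sq
  have ha1 := h.qa.ne_one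
  have hb1 := h.qb.ne_one
  have hab := h.comm
  have hy2 := mul_sq ha2 hb2 hab
  have hy1 := mul_ne_one ha2 h.ne
  have hya' : a * (a * b) = a * b * a := by rw [mul_assoc, ← hab]
  have hyb' : b * (a * b) = a * b * b := by rw [← mul_assoc, ← hab]
  -- `ab` is not conjugate to `a`, `b`
  have nL : a * b ∉ L := by
    intro hL
    have := Y.qt (a * b) hL a Y.mem hy2 ha2 hy1 ha1 hya'.symm
    exact hb1 (mul_eq_left.mp this)
  have nL' : a * b ∉ L' := by
    intro hL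
    have := Y.qt' (a * b) hL b Y.mem' hy2 hb2 hy1 hb1 hyb'.symm
    exact ha1 (mul_eq_right.mp this)
  have hya : ∀ g : G, g * a * g⁻¹ ≠ a * b := by
    intro g hg
    have h1 := h.qa.cj g
    rw [hg] at h1
    rcases Y.only F h1.comp with e | e
    · exact nL (e ▸ h1.mem)
    · exact nL' (e ▸ h1.mem)
  have hyb : ∀ g : G, g * b * g⁻¹ ≠ a * b := by
    intro g hg
    have h1 := h.qb.cj g
    rw [hg] at h1
    rcases Y.only F h1.comp with e | e
    · exact nL (e ▸ h1.mem)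
    · exact nL' (e ▸ h1.mem)
  -- a Sylow subgroup of `C(ab)`
  obtain ⟨C, hC⟩ : ∃ C, C = centralizer ({a * b} : Set G) := ⟨_, rfl⟩
  have haC : a ∈ C := by rw [hC]; exact mem_centralizer_singleton_iff.mpr hya'
  have hbC : b ∈ C := by rw [hC]; exact mem_centralizer_singleton_iff.mpr hyb'
  have hVp := isPGroup_closure_pair ha2 hb2 hab
  obtain ⟨P, hPC, hP, hVP, hPconj⟩ := exists_syl_conj (C := C) hVp (by
    rw [closure_le]
    rintro x (rfl | rfl)
    · exact haC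
    · exact hbC)
  have haP : a ∈ P := hVP (subset_closure (Or.inl rfl))
  have hbP : b ∈ P := hVP (subset_closure (Or.inr rfl))
  have hPC' : P ≤ centralizer ({a * b} : Set G) := hC ▸ hPC
  obtain ⟨g0, hg0, hne0⟩ := not_isolated F.simple F.nonComm hy2 hy1
  -- a conjugate of `ab` in `P`
  obtain ⟨g1, hg1, hne1⟩ : ∃ g, g * (a * b) * g⁻¹ ∈ P ∧ g * (a * b) * g⁻¹ ≠ a * b := by
    have hcl := isPGroup_closure_pair (sq_cj hy2 g0) (sq_cj hy2 g0) rfl
    obtain ⟨c, hc, hcP⟩ := hPconj _ (by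
      rw [closure_le]
      rintro x (rfl | rfl) <;>
      · rw [hC]
        exact mem_centralizer_singleton_iff.mpr hg0.symm) hcl
    refine ⟨c * g0, ?_, ?_⟩
    · have h1 := hcP _ (subset_closure (Or.inl rfl))
      convert h1 using 1
      group
    · intro he
      apply hne0
      rw [hC] at hc
      have hc' : c * (a * b) * c⁻¹ = a * b := by
        rw [mem_centralizer_singleton_iff.mp hc, mul_inv_cancel_right]
      calc g0 * (a * b) * g0⁻¹ = c⁻¹ * (c * g0 * (a * b) * (c * g0)⁻¹) * c := by group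
        _ = c⁻¹ * (c * (a * b) * c⁻¹) * c := by rw [he, hc']
        _ = a * b := by group
  -- it centralizes `a` and `b`
  have hcent : (g1 * (a * b) * g1⁻¹) * a * (g1 * (a * b) * g1⁻¹)⁻¹ = a ∧
      (g1 * (a * b) * g1⁻¹) * b * (g1 * (a * b) * g1⁻¹)⁻¹ = b := by
    rcases Y.dichotomy F ha2 hb2 ha1 hb1 hP hPC' haP hbP hg1 with h1 | ⟨h1, h2, -⟩
    · exact h1
    · exact (Y.no_swap F ha2 hb2 ha1 hb1 hab h.ne hya hyb (hPC' hg1) h1 h2).elim
  -- choose `g` such that `a`, `b` lie in `g P g⁻¹`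
  obtain ⟨v, hv⟩ : ∃ v, v = g1 * (a * b) * g1⁻¹ := ⟨_, rfl⟩
  rw [← hv] at hg1 hne1 hcent
  have hva : v * a = a * v := mul_inv_eq_iff_eq_mul.mp hcent.1
  have hvb : v * b = b * v := mul_inv_eq_iff_eq_mul.mp hcent.2
  obtain ⟨g, hgv, hga, hgb⟩ : ∃ g, g * (a * b) * g⁻¹ = v ∧ g⁻¹ * a * g ∈ P ∧ g⁻¹ * b * g ∈ P := by
    have k1 : ∀ {x : G}, v * x = x * v → g1⁻¹ * x * g1⁻¹⁻¹ ∈ C := by
      intro x hx
      rw [hC, mem_centralizer_singleton_iff, inv_inv]
      have e : a * b = g1⁻¹ * v * g1 := by rw [hv]; group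
      rw [e]
      calc g1⁻¹ * x * g1 * (g1⁻¹ * v * g1) = g1⁻¹ * (x * v) * g1 := by group
        _ = g1⁻¹ * v * g1 * (g1⁻¹ * x * g1) := by rw [← hx]; group
    have hcl := isPGroup_closure_pair (sq_cj ha2 g1⁻¹) (sq_cj hb2 g1⁻¹) (by
      calc g1⁻¹ * a * g1⁻¹⁻¹ * (g1⁻¹ * b * g1⁻¹⁻¹) = g1⁻¹ * (a * b) * g1⁻¹⁻¹ := by group
        _ = g1⁻¹ * b * g1⁻¹⁻¹ * (g1⁻¹ * a * g1⁻¹⁻¹) := by rw [hab]; group)
    obtain ⟨c, hc, hcP⟩ := hPconj _ (by
      rw [closure_le]
      rintro x (rfl | rfl)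
      · exact k1 hva
      · exact k1 hvb) hcl
    refine ⟨g1 * c⁻¹, ?_, ?_, ?_⟩
    · rw [hC] at hc
      have hc' : c⁻¹ * (a * b) * c = a * b := by
        have := mem_centralizer_singleton_iff.mp hc
        calc c⁻¹ * (a * b) * c = c⁻¹ * ((a * b) * c) := by group
          _ = a * b := by rw [← this]; group
      calc g1 * c⁻¹ * (a * b) * (g1 * c⁻¹)⁻¹ = g1 * (c⁻¹ * (a * b) * c) * g1⁻¹ := by group
        _ = v := by rw [hc', ← hv]
    · have h1 := hcP _ (subset_closure (Or.inl rfl))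
      convert h1 using 1
      group
    · have h1 := hcP _ (subset_closure (Or.inr rfl))
      convert h1 using 1
      group
  have hne : g * (a * b) * g⁻¹ ≠ a * b := by rw [hgv]; exact hne1
  -- the conjugate situation
  have Y1 := Y.cj g
  have hP1 : IsPGroup 2 (Cfsg.Agent.SignalizersComponents.IntrinsicBasic.cj g P) := hP.map _
  have e1 : g * a * g⁻¹ * (g * b * g⁻¹) = g * (a * b) * g⁻¹ := by group
  have hP1C : Cfsg.Agent.SignalizersComponents.IntrinsicBasic.cj g P ≤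
      centralizer ({g * a * g⁻¹ * (g * b * g⁻¹)} : Set G) := by
    rw [e1, ← cj_centralizer]
    exact cj_mono hPC'
  have haP1 : a ∈ Cfsg.Agent.SignalizersComponents.IntrinsicBasic.cj g P := mem_cj.mpr hga
  have hbP1 : b ∈ Cfsg.Agent.SignalizersComponents.IntrinsicBasic.cj g P := mem_cj.mpr hgb
  obtain ⟨a1, hea1⟩ : ∃ a1, a1 = g * a * g⁻¹ := ⟨_, rfl⟩
  obtain ⟨b1, heb1⟩ : ∃ b1, b1 = g * b * g⁻¹ := ⟨_, rfl⟩
  have sa1 : a1 * a1 = 1 := by rw [hea1]; exact sq_cj ha2 g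
  have sb1 : b1 * b1 = 1 := by rw [heb1]; exact sq_cj hb2 g
  have na1 : a1 ≠ 1 := by rw [hea1]; exact ne_one_cj ha1 g
  have nb1 : b1 ≠ 1 := by rw [heb1]; exact ne_one_cj hb1 g
  have hv1 : a1 * b1 = v := by rw [hea1, heb1, e1, hgv]
  have hab1 : a1 * b1 = b1 * a1 := by
    rw [hea1, heb1, e1]
    calc g * (a * b) * g⁻¹ = g * (b * a) * g⁻¹ := by rw [hab]
      _ = _ := by group
  have ha1P1 : a1 ∈ Cfsg.Agent.SignalizersComponents.IntrinsicBasic.cj g P := by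
    rw [hea1]; exact conj_mem_cj haP
  have hb1P1 : b1 ∈ Cfsg.Agent.SignalizersComponents.IntrinsicBasic.cj g P := by
    rw [heb1]; exact conj_mem_cj hbP
  rw [← hea1, ← heb1] at Y1 hP1C
  have hne1' : a1 ≠ b1 := by
    intro he
    apply h.ne
    rw [hea1, heb1] at he
    calc a = g⁻¹ * (g * a * g⁻¹) * g := by group
      _ = b := by rw [he]; group
  have hya1 : ∀ k : G, k * a1 * k⁻¹ ≠ a1 * b1 := by
    intro k hk
    apply hya (g⁻¹ * k * g)
    calc g⁻¹ * k * g * a * (g⁻¹ * k * g)⁻¹ = g⁻¹ * (k * (g * a * g⁻¹) * k⁻¹) * g := by group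
      _ = g⁻¹ * (g * (a * b) * g⁻¹) * g := by rw [← hea1, hk, hv1, hgv]
      _ = a * b := by group
  have hyb1 : ∀ k : G, k * b1 * k⁻¹ ≠ a1 * b1 := by
    intro k hk
    apply hyb (g⁻¹ * k * g)
    calc g⁻¹ * k * g * b * (g⁻¹ * k * g)⁻¹ = g⁻¹ * (k * (g * b * g⁻¹) * k⁻¹) * g := by group
      _ = g⁻¹ * (g * (a * b) * g⁻¹) * g := by rw [← heb1, hk, hv1, hgv]
      _ = a * b := by group
  -- `ab` centralizes `a1`, `b1`
  have habP1 : a * b ∈ Cfsg.Agent.SignalizersComponents.IntrinsicBasic.cj g P := mul_mem haP1 hbP1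
  have hcent1 : (a * b) * a1 * (a * b)⁻¹ = a1 ∧ (a * b) * b1 * (a * b)⁻¹ = b1 := by
    rcases Y1.dichotomy F sa1 sb1 na1 nb1 hP1 hP1C ha1P1 hb1P1 habP1 with h1 | ⟨h1, h2, -⟩
    · exact h1
    · exfalso
      have e2 : g⁻¹ * (a1 * b1) * g⁻¹⁻¹ = a * b := by
        rw [hv1, ← hgv]; group
      refine Y1.no_swap F sa1 sb1 na1 nb1 hab1 hne1' hya1 hyb1 (g := g⁻¹) ?_ ?_ ?_
      · rw [e2]; exact hP1C habP1
      · rw [e2]; exact h1
      · rw [e2]; exact h2
  have cya1 : (a * b) * a1 = a1 * (a * b) := mul_inv_eq_iff_eq_mul.mp hcent1.1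
  have cyb1 : (a * b) * b1 = b1 * (a * b) := mul_inv_eq_iff_eq_mul.mp hcent1.2
  -- `a` centralizes `a1`, `b1`
  have hacent : a * a1 * a⁻¹ = a1 ∧ a * b1 * a⁻¹ = b1 := by
    rcases Y1.dichotomy F sa1 sb1 na1 nb1 hP1 hP1C ha1P1 hb1P1 haP1 with h1 | ⟨-, h2, h3⟩
    · exact h1
    · exfalso
      have e3 : a * a1 = b1 * a := mul_inv_eq_iff_eq_mul.mp h2
      have e4 : a * b1 = a1 * a := mul_inv_eq_iff_eq_mul.mp h3
      -- `a1 a a1⁻¹ = a v`
      have e5 : a1 * a * a1⁻¹ = a * v := by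
        rw [← e4, inv_of_sq sa1, ← hv1, hab1, mul_assoc]
      have ha1C : a1 ∈ centralizer ({a * b} : Set G) := mem_centralizer_singleton_iff.mpr cya1.symm
      have c1 := comp2_cj Y.cl a1
      have e6 : a1 * (a * b) * a1⁻¹ = a * b := by rw [← cya1, mul_inv_cancel_right]
      rw [e6] at c1
      have m1 : a1 * a * a1⁻¹ ∈ Cfsg.Agent.SignalizersComponents.IntrinsicBasic.cj a1 L :=
        conj_mem_cj Y.mem
      have hv2 : v * v = 1 := by rw [← hgv]; exact sq_cj hy2 g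
      have hv1' : v ≠ 1 := by rw [← hgv]; exact ne_one_cj hy1 g
      have sav : (a * v) * (a * v) = 1 := mul_sq ha2 hv2 hva.symm
      have nav : a * v ≠ 1 := by
        apply mul_ne_one ha2
        intro he
        have h5 : g⁻¹ * v * g⁻¹⁻¹ = a * b := by rw [← hgv]; group
        rw [← he] at h5
        exact hya g⁻¹ h5
      rw [e5] at m1
      rcases Y.only F c1 with e | e
      · rw [e] at m1
        have := Y.qt _ m1 a Y.mem sav ha2 nav ha1 (by rw [mul_assoc, hva])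
        exact hv1' (mul_eq_left.mp this)
      · rw [e] at m1
        have := Y.qt' _ m1 b Y.mem' sav hb2 nav hb1 (by
          rw [mul_assoc, hvb, ← mul_assoc, hab, mul_assoc])
        apply hne1
        calc v = a * (a * v) := by rw [← mul_assoc, ha2, one_mul]
          _ = a * b := by rw [this]
  have caa1 : a1 * a = a * a1 := (mul_inv_eq_iff_eq_mul.mp hacent.1).symm
  have cab1 : b1 * a = a * b1 := (mul_inv_eq_iff_eq_mul.mp hacent.2).symm
  have cb : ∀ {x : G}, x * a = a * x → (a * b) * x = x * (a * b) → x * b = b * x := by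
    intro x h1 h2
    have h3 : a * (b * x) = a * (x * b) := by
      calc a * (b * x) = (a * b) * x := by group
        _ = (x * a) * b := by rw [h2]; group
        _ = a * (x * b) := by rw [h1]; group
    exact (mul_left_cancel h3).symm
  have cba1 := cb caa1 cya1
  have cbb1 := cb cab1 cyb1
  rw [hea1] at caa1 cba1
  rw [heb1] at cab1 cbb1
  exact h.finish F qJa qJb Y hya hne caa1 cba1 cab1 cbb1

end Alpha

end Cfsg.Agent.GH.QA
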