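import Cfsg.Agent.GH.QABase

/-!
# GH-Q (I), scenario A, case (A2): the output

`Two a b Ka Kb Ja Jb B W1 W2 Q1 Q2 α1 τ1 α2 τ2 n1 n2` : a Sylow 2-subgroup `B` of `C(a)` and of `C(b)` is the
direct product of the semidihedral groups `W1 = B ⊓ Jb` and `W2 = B ⊓ Ja`.
-/

set_option autoImplicit false

open Cfsg Subgroup
open Cfsg.Agent.GH.Defs

namespace Cfsg.Agent.GH.QA

variable {G : Type*} [Group G]

/-- the output of (A2) -/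
structure Two (a b : G) (Ka Kb Ja Jb B W1 W2 Q1 Q2 : Subgroup G) (α1 τ1 α2 τ2 : G) (n1 n2 : ℕ) :
    Prop where
  alpha : Alpha a b Ka Kb Ja Jb
  two : IsPGroup 2 B
  le_a : B ≤ centralizer ({a} : Set G)
  le_b : B ≤ centralizer ({b} : Set G)
  syl_a : ¬ 2 ∣ B.relIndex (centralizer ({a} : Set G))
  syl_b : ¬ 2 ∣ B.relIndex (centralizer ({b} : Set G))
  w1 : W1 = B ⊓ Jb
  w2 : W2 = B ⊓ Ja
  q1 : Q1 = B ⊓ Ka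
  q2 : Q2 = B ⊓ Kb
  sup : W1 ⊔ W2 = B
  inf : W1 ⊓ W2 = ⊥
  comm : ∀ x ∈ W1, ∀ y ∈ W2, x * y = y * x
  m1 : MC W1 Q1 α1 τ1 a n1
  m2 : MC W2 Q2 α2 τ2 b n2
  sd1 : τ1 * α1 * τ1⁻¹ = α1⁻¹ * a
  sd2 : τ2 * α2 * τ2⁻¹ = α2⁻¹ * b

end Cfsg.Agent.GH.QA
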