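import Cfsg.Agent.GH.QGamma
import Cfsg.Prelude.Def_TwoFusion

/-!
# GH-Q, scenario B, world gamma: the strongly closed subgroups `F` and `Q⟨t⟩`
-/

set_option autoImplicit false

namespace Cfsg.Agent.GH.QGClosed

open Subgroup Cfsg.Agent.Cit Cfsg.Agent.GH.QSd Cfsg.Agent.GH.QGFrame Cfsg.Agent.GH.QGamma

variable {G : Type*} [Group G] [Finite G] {Z : Set G} {K : G → Subgroup G} {X : G → Set G}

/-- independence of the second element of `Z` -/
theorem independent (h : Gamma Z K X) {z d y y' : G} (hz : z ∈ Z) (hd2 : IsPGroup 2 (zpowers d))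
    (hdX : d ∈ X z) (hy : y ∈ Z) (hyz : y ≠ z) (hyc : y * z = z * y)
    (hdy : d ∈ X y) (hy' : y' ∈ Z) (hyz' : y' ≠ z) (hyc' : y' * z = z * y') (hdy' : y' * d = d * y') :
    d ∈ X y' := by
  have hdz := h.X_comm z hz d hdX
  have hdyc := h.X_comm y hy d hdy
  set C : Subgroup G := centralizer {z} ⊓ centralizer {d} with hC
  have memC : ∀ {g : G}, g ∈ C ↔ g * z = z * g ∧ g * d = d * g := by
    intro g
    rw [hC, mem_inf, mem_centralizer_singleton_iff, mem_centralizer_singleton_iff]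
  obtain ⟨P, hP, hy'P⟩ := OneBasic.exists_syl_ge (h.pg hy') (zpowers_le.2 (memC.2 ⟨hyc', hdy'⟩) :
    zpowers y' ≤ C)
  obtain ⟨T, hT, hyT⟩ := OneBasic.exists_syl_ge (h.pg hy) (zpowers_le.2 (memC.2 ⟨hyc, hdyc.symm⟩) :
    zpowers y ≤ C)
  obtain ⟨c, hc, hcT⟩ := hT.exists_conj hP
  have hcC := memC.1 hc
  -- `y₁ = c y c⁻¹ ∈ P`
  have hy1P : c * y * c⁻¹ ∈ P := by
    rw [← hcT]; exact conj_mem_cj (hyT (mem_zpowers y))
  have hd1 : d ∈ X (c * y * c⁻¹) := by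
    have := h.X_cj y hy c d hdy
    rwa [conj_of_mul_comm hcC.2] at this
  have hdP : d ∈ P := mem_syl_of_comm hP hd2 (memC.2 ⟨hdz, rfl⟩)
    (fun t ht => (memC.1 (hP.1 ht)).2.symm)
  obtain ⟨S, a, hPS⟩ := h.lift hz hP.2.1 (fun p hp => (memC.1 (hP.1 hp)).1)
  have hne : c * y * c⁻¹ ≠ z := by
    intro he
    apply hyz
    have h1 : y = c⁻¹ * z * c := by rw [← he]; group
    rw [h1, mul_assoc, ← hcC.1]; group
  obtain ⟨k, hkS, hkK, hk⟩ := exists_conj_Q h a (h.conj y hy c) (hPS hy1P) hne hy'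
    (hPS (hy'P (mem_zpowers y'))) hyz'
  have h1 := h.X_cj _ (h.conj y hy c) k d hd1
  rwa [hk, conj_of_mul_comm (h.comm z hz S a.pg k hkS hkK d (hPS hdP) hdX)] at h1

/-- the conjugates of the elements of `F` -/
def FF (Z : Set G) (X : G → Set G) (d : G) : Prop :=
  ∃ y ∈ Z, ∃ y' ∈ Z, y ≠ y' ∧ y * y' = y' * y ∧ d ∈ X y ∧ d ∈ X y'

theorem FF.conj (h : Gamma Z K X) {d : G} (hd : FF Z X d) (g : G) : FF Z X (g * d * g⁻¹) := by
  obtain ⟨y, hy, y', hy', hne, hc, hdy, hdy'⟩ := hd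
  refine ⟨_, h.conj y hy g, _, h.conj y' hy' g, ?_, ?_, h.X_cj y hy g d hdy, h.X_cj y' hy' g d hdy'⟩
  · intro he
    exact hne (by simpa using he)
  · calc g * y * g⁻¹ * (g * y' * g⁻¹) = g * (y * y') * g⁻¹ := by group
      _ = g * (y' * y) * g⁻¹ := by rw [hc]
      _ = g * y' * g⁻¹ * (g * y * g⁻¹) := by group

/-- an element of `F` lies in `X z` for every `z ∈ Z` commuting with it -/
theorem FF.mem_X (h : Gamma Z K X) {d z : G} (hd : FF Z X d) (hd2 : IsPGroup 2 (zpowers d))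
    (hz : z ∈ Z) (hdz : d * z = z * d) : d ∈ X z := by
  obtain ⟨y, hy, y', hy', hne, hc, hdy, hdy'⟩ := hd
  have hyd := h.X_comm y hy d hdy
  have hyd' := h.X_comm y' hy' d hdy'
  have memC : ∀ {g : G}, g ∈ centralizer {d} ↔ g * d = d * g := by
    intro g; rw [mem_centralizer_singleton_iff]
  obtain ⟨P, hP, hyP⟩ := OneBasic.exists_syl_ge (isPGroup_sup_of_comm (h.pg hy) (h.pg hy') hc)
    (sup_le (zpowers_le.2 (memC.2 hyd.symm)) (zpowers_le.2 (memC.2 hyd'.symm)) :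
      zpowers y ⊔ zpowers y' ≤ centralizer {d})
  have hdP : d ∈ P := mem_syl_of_comm hP hd2 (memC.2 rfl) (fun t ht => (memC.1 (hP.1 ht)).symm)
  have hyP1 : y ∈ P := hyP (mem_sup_left (mem_zpowers y))
  have hyP2 : y' ∈ P := hyP (mem_sup_right (mem_zpowers y'))
  -- a Sylow 2-subgroup of `G` containing `P`
  obtain ⟨S, hS, hPS⟩ := OneBasic.exists_syl_ge hP.2.1 (le_top : P ≤ ⊤)
  obtain ⟨z₁, a⟩ := h.exists_at hy hS
  have hz₁P : z₁ ∈ P := mem_syl_of_comm hP (h.pg a.mem) (memC.2 (a.cent d (hPS hdP)).symm)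
    (fun t ht => (a.cent t (hPS ht)).symm)
  -- `z₁ ∈ {y, y', y y'}` and a second element `w`
  have hz₁y := a.cent y (hPS hyP1)
  have hz₁y' := a.cent y' (hPS hyP2)
  obtain ⟨hdX, w, hw, hwz, hwz₁, hwX⟩ : d ∈ X z₁ ∧ ∃ w ∈ Z, w ≠ z₁ ∧ w * z₁ = z₁ * w ∧ d ∈ X w := by
    rcases eq_of_comm h hy hy' hne.symm hc.symm a.mem hz₁y.symm hz₁y'.symm with e | e | e
    · subst e
      exact ⟨hdy, y', hy', hne.symm, hc.symm, hdy'⟩
    · subst e
      exact ⟨hdy', y, hy, hne, hc, hdy⟩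
    · obtain ⟨h1, h2⟩ := mem_X_mul h hy hy' hne.symm hc.symm hd2 hdy hdy'
      refine ⟨e ▸ h2, y, hy, ?_, hz₁y, hdy⟩
      intro he
      rw [e] at he
      exact h.ne y' hy' (left_eq_mul.1 he)
  -- conjugate `z` into `P`
  obtain ⟨R, hR, hzR⟩ := OneBasic.exists_syl_ge (h.pg hz) (zpowers_le.2 (memC.2 hdz.symm) :
    zpowers z ≤ centralizer {d})
  obtain ⟨c, hcc, hc'⟩ := hR.exists_conj hP
  have hcd := memC.1 hcc
  have hw0P : c * z * c⁻¹ ∈ P := by
    rw [← hc']; exact conj_mem_cj (hzR (mem_zpowers z))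
  have hw0 := h.conj z hz c
  have key : d ∈ X (c * z * c⁻¹) := by
    by_cases he : c * z * c⁻¹ = z₁
    · rw [he]; exact hdX
    · exact independent h a.mem hd2 hdX hw hwz hwz₁ hwX hw0 he (a.cent _ (hPS hw0P))
        (memC.1 (hP.1 hw0P))
  have h1 := h.X_cj _ hw0 c⁻¹ d key
  have e1 : c⁻¹ * (c * z * c⁻¹) * c⁻¹⁻¹ = z := by group
  have e2 : c⁻¹ * d * c⁻¹⁻¹ = d := by
    rw [inv_inv, mul_assoc, ← hcd]; group
  rwa [e1, e2] at h1

section

variable (h : Gamma Z K X) {z y : G} {S : Subgroup G} (a : At Z z S) (hy : y ∈ Z) (hyS : y ∈ S)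
  (hyz : y ≠ z)

include h a hy hyS hyz

/-- an element of `D` not commuting with `y` -/
theorem sq_mem (d : G) (hdS : d ∈ S) (hdX : d ∈ X z) (hdy : d * y ≠ y * d) :
    y * d * y⁻¹ = d * z ∧ (d * d) * z ∈ X y := by
  have hz := a.mem
  have hyc := a.cent y hyS
  have hzd := a.cent d hdS
  obtain ⟨c, v, n, hsd⟩ := exists_sd' h a hy hyS hyz
  obtain ⟨x, ⟨hxS, hxK⟩, hxx, hxy, hall⟩ := hsd.exists_x
  have hne : d * y * d⁻¹ ≠ z := by
    intro he
    apply hyz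
    have h1 : y = d⁻¹ * z * d := by rw [← he]; group
    rw [h1, mul_assoc, ← hzd]; group
  obtain ⟨k, hkS, hkK, hk⟩ := exists_conj_Q h a hy hyS hyz (h.conj y hy d)
    (S.mul_mem (S.mul_mem hdS hyS) (S.inv_mem hdS)) hne
  -- `q = k⁻¹`, `t = q d` commutes with `y`
  set q := k⁻¹ with hq
  have hqS : q ∈ S := S.inv_mem hkS
  have hqK : q ∈ K z := (K z).inv_mem hkK
  have h1 : (q * d) * y = y * (q * d) := by
    rw [← mul_inv_eq_iff_eq_mul]
    calc q * d * y * (q * d)⁻¹ = q * (d * y * d⁻¹) * q⁻¹ := by group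
      _ = k⁻¹ * (k * y * k⁻¹) * k⁻¹⁻¹ := by rw [← hk]
      _ = y := by group
  have h2 : (y * q * y⁻¹) * (y * d * y⁻¹) = q * d := by
    calc (y * q * y⁻¹) * (y * d * y⁻¹) = y * (q * d) * y⁻¹ := by group
      _ = q * d := by rw [← h1, mul_inv_cancel_right]
  have h3 : q⁻¹ * (y * q * y⁻¹) = d * (y * d * y⁻¹)⁻¹ := by
    rw [inv_mul_eq_iff_eq_mul, ← mul_assoc, eq_mul_inv_iff_mul_eq]; exact h2
  have h4 : q⁻¹ * (y * q * y⁻¹) ∈ K z :=
    (K z).mul_mem ((K z).inv_mem hqK) (h.K_conj hz hyc hqK)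
  have hyd := h.X_conj hz hyc hdX
  have hydS : y * d * y⁻¹ ∈ S := S.mul_mem (S.mul_mem hyS hdS) (S.inv_mem hyS)
  have h5 : q⁻¹ * (y * q * y⁻¹) ∈ X z := by
    rw [h3]
    exact ((h.D a).mul_mem ⟨hdS, hdX⟩ ((h.D a).inv_mem ⟨hydS, hyd⟩)).2
  have h6 : q⁻¹ * (y * q * y⁻¹) ∈ S :=
    S.mul_mem (S.inv_mem hqS) (S.mul_mem (S.mul_mem hyS hqS) (S.inv_mem hyS))
  have hzi := h.inv_eq hz
  have hzq := a.cent q hqS
  rcases h.inf z hz _ (a.pgz h6) h4 h5 with h7 | h7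
  · exfalso
    apply hdy
    rw [h3, mul_inv_eq_one] at h7
    have h8 : d * y = y * d * y⁻¹ * y := by rw [← h7]
    rw [h8]; group
  have hyq : y * q * y⁻¹ = q * z := by
    rw [inv_mul_eq_iff_eq_mul] at h7; exact h7
  have hyd' : y * d * y⁻¹ = d * z := by
    rw [h3, mul_inv_eq_iff_eq_mul] at h7
    calc y * d * y⁻¹ = (z * z) * (y * d * y⁻¹) := by rw [h.sq z hz, one_mul]
      _ = z * (z * (y * d * y⁻¹)) := by group
      _ = z * d := by rw [← h7]
      _ = d * z := hzd.symm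
  refine ⟨hyd', ?_⟩
  have hqq : q * q = z := by
    rcases hall q ⟨hqS, hqK⟩ (Or.inr hyq) with e | e | e | e
    · exfalso
      rw [e] at hyq
      apply h.ne z hz
      have : y * 1 * y⁻¹ = 1 := by group
      rw [this, one_mul] at hyq; exact hyq.symm
    · exfalso
      rw [e] at hyq
      apply h.ne z hz
      rw [conj_of_mul_comm hyc] at hyq
      exact left_eq_mul.1 hyq
    · rw [e]; exact hxx
    · rw [e]
      have hzx := a.cent x hxS
      calc x * z * (x * z) = x * (z * x) * z := by group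
        _ = x * (x * z) * z := by rw [hzx]
        _ = (x * x) * (z * z) := by group
        _ = z := by rw [hxx, h.sq z hz, mul_one]
  have hqd := h.comm z hz S a.pg q hqS hqK d hdS hdX
  have htt : (q * d) * (q * d) = d * d * z := by
    calc (q * d) * (q * d) = (q * d) * q * d := by group
      _ = (d * q) * q * d := by rw [hqd]
      _ = d * (q * q) * d := by group
      _ = d * (z * d) := by rw [hqq]; group
      _ = d * (d * z) := by rw [hzd]
      _ = d * d * z := by group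
  -- the element `x'` of `K y`
  have htS : q * d ∈ S := S.mul_mem hqS hdS
  have htz := a.cent _ htS
  obtain ⟨S', a', hzS', htS'⟩ := h.lift_two hy (h.pg hz) (a.pgz htS) hyc.symm h1 htz.symm
  obtain ⟨x', hxS', hxK', hxx', hxy', hx'⟩ := exists_x' h a' hz hzS' hyz.symm
  obtain ⟨q', hqS', hqK', d', hdS', hdX', ht'⟩ := hx' (q * d) htS' htz
  have h8 : x' * (q * d) * x'⁻¹ = q * d ∨ x' * (q * d) * x'⁻¹ = q * d * y := by
    rcases ht' with ⟨-, h2⟩ | ⟨-, h2⟩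
    · exact Or.inl h2
    · exact Or.inr h2
  have h9 : x' * (d * d * z) * x'⁻¹ = d * d * z := by
    rw [← htt]
    rcases h8 with h8 | h8
    · calc x' * (q * d * (q * d)) * x'⁻¹ = (x' * (q * d) * x'⁻¹) * (x' * (q * d) * x'⁻¹) := by group
        _ = _ := by rw [h8]
    · calc x' * (q * d * (q * d)) * x'⁻¹ = (x' * (q * d) * x'⁻¹) * (x' * (q * d) * x'⁻¹) := by group
        _ = (q * d * y) * (q * d * y) := by rw [h8]
        _ = (q * d) * (y * (q * d)) * y := by group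
        _ = (q * d) * ((q * d) * y) * y := by rw [h1]
        _ = (q * d) * (q * d) * (y * y) := by group
        _ = _ := by rw [h.sq y hy, mul_one]
  have hddz : d * d * z ∈ h.D a :=
    (h.D a).mul_mem ((h.D a).mul_mem ⟨hdS, hdX⟩ ⟨hdS, hdX⟩) ⟨h.z_mem a, h.zX z hz⟩
  have hddy : (d * d * z) * y = y * (d * d * z) := by
    rw [← htt]
    calc q * d * (q * d) * y = q * d * (q * d * y) := by group
      _ = q * d * (y * (q * d)) := by rw [h1]
      _ = (q * d * y) * (q * d) := by group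
      _ = (y * (q * d)) * (q * d) := by rw [h1]
      _ = y * (q * d * (q * d)) := by group
  exact mem_X_aux h hz hy hyz hyc (a.pgz hddz.1) hddz.2 hddy hxy' h9

/-- membership in `F` -/
theorem FF_iff {d : G} (hdS : d ∈ S) : FF Z X d ↔ d ∈ X z ∧ d ∈ X y := by
  have hz := a.mem
  have hyc := a.cent y hyS
  constructor
  · intro hd
    have hdX := FF.mem_X h hd (a.pgz hdS) hz (a.cent d hdS)
    refine ⟨hdX, ?_⟩
    by_cases hdy : d * y = y * d
    · exact FF.mem_X h hd (a.pgz hdS) hy hdy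
    · exfalso
      obtain ⟨h1, h2⟩ := sq_mem h a hy hyS hyz d hdS hdX hdy
      -- `d²` is in `F`
      have hdd : FF Z X (d * d) := by
        obtain ⟨w, hw, w', hw', hne, hc, hdw, hdw'⟩ := hd
        obtain ⟨S₁, a₁, -, hdS₁⟩ := h.lift_two hw (h.pg hw') (a.pgz hdS) hc.symm
          (h.X_comm w hw d hdw) (h.X_comm w' hw' d hdw').symm
        obtain ⟨S₂, a₂, -, hdS₂⟩ := h.lift_two hw' (h.pg hw) (a.pgz hdS) hc
          (h.X_comm w' hw' d hdw') (h.X_comm w hw d hdw).symm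
        exact ⟨w, hw, w', hw', hne, hc, h.X_mul w S₁ a₁ d hdS₁ hdw d hdS₁ hdw,
          h.X_mul w' S₂ a₂ d hdS₂ hdw' d hdS₂ hdw'⟩
      have hddy : (d * d) * y = y * (d * d) := by
        have h3 : y * (d * d) * y⁻¹ = d * d := by
          calc y * (d * d) * y⁻¹ = (y * d * y⁻¹) * (y * d * y⁻¹) := by group
            _ = (d * z) * (d * z) := by rw [h1]
            _ = d * (z * d) * z := by group
            _ = d * (d * z) * z := by rw [a.cent d hdS]
            _ = (d * d) * (z * z) := by group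
            _ = d * d := by rw [h.sq z hz, mul_one]
        exact (mul_comm_of_conj h3).symm
      have hddS := S.mul_mem hdS hdS
      have hddX := FF.mem_X h hdd (a.pgz hddS) hy hddy
      -- `z ∈ X y`
      have hzS := h.z_mem a
      obtain ⟨S₁, a₁, hzS₁, hdS₁⟩ := h.lift_two hy (h.pg hz) (a.pgz hddS) hyc.symm hddy
        (a.cent _ hddS).symm
      have h4 := ((h.D a₁).mul_mem ((h.D a₁).inv_mem ⟨hdS₁, hddX⟩)
        ⟨S₁.mul_mem hdS₁ hzS₁, h2⟩).2
      have h5 : (d * d)⁻¹ * (d * d * z) = z := by group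
      rw [h5] at h4
      exact hyz (h.scen y hy z hz h4).symm
  · rintro ⟨h1, h2⟩
    exact ⟨z, hz, y, hy, hyz.symm, hyc.symm, h1, h2⟩

end

/-- the subgroup `F` of `S` -/
def F (h : Gamma Z K X) {z y : G} {S : Subgroup G} (a : At Z z S) (hy : y ∈ Z) (hyS : y ∈ S)
    (hyz : y ≠ z) : Subgroup G where
  carrier := {s | s ∈ S ∧ FF Z X s}
  one_mem' := by
    refine ⟨S.one_mem, ?_⟩
    obtain ⟨S', a', hzS', -⟩ := h.lift_two hy (h.pg a.mem) (h.pg a.mem) (a.cent y hyS).symm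
      (a.cent y hyS).symm rfl
    exact ⟨z, a.mem, y, hy, hyz.symm, (a.cent y hyS).symm, (h.D a).one_mem.2, (h.D a').one_mem.2⟩
  mul_mem' := by
    rintro s t ⟨hs, hs'⟩ ⟨ht, ht'⟩
    refine ⟨S.mul_mem hs ht, ?_⟩
    rw [FF_iff h a hy hyS hyz hs] at hs'
    rw [FF_iff h a hy hyS hyz ht] at ht'
    rw [FF_iff h a hy hyS hyz (S.mul_mem hs ht)]
    refine ⟨h.X_mul z S a s hs hs'.1 t ht ht'.1, ?_⟩
    have h1 : IsPGroup 2 (S ⊓ centralizer {y} : Subgroup G) := a.pg.to_le inf_le_left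
    obtain ⟨S', a', hle⟩ := h.lift hy h1 (fun p hp => mem_centralizer_singleton_iff.1 hp.2)
    exact h.X_mul y S' a' s
      (hle ⟨hs, mem_centralizer_singleton_iff.2 (h.X_comm y hy s hs'.2)⟩) hs'.2 t
      (hle ⟨ht, mem_centralizer_singleton_iff.2 (h.X_comm y hy t ht'.2)⟩) ht'.2
  inv_mem' := by
    rintro s ⟨hs, w, hw, w', hw', hne, hc, hsw, hsw'⟩
    refine ⟨S.inv_mem hs, w, hw, w', hw', hne, hc, ?_, ?_⟩
    · obtain ⟨S₁, a₁, hsS₁, -⟩ := h.lift_two hw (a.pgz hs) (a.pgz hs) (h.X_comm w hw s hsw)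
        (h.X_comm w hw s hsw) rfl
      exact h.X_inv w S₁ a₁ s hsS₁ hsw
    · obtain ⟨S₁, a₁, hsS₁, -⟩ := h.lift_two hw' (a.pgz hs) (a.pgz hs) (h.X_comm w' hw' s hsw')
        (h.X_comm w' hw' s hsw') rfl
      exact h.X_inv w' S₁ a₁ s hsS₁ hsw'

theorem mem_F (h : Gamma Z K X) {z y : G} {S : Subgroup G} (a : At Z z S) (hy : y ∈ Z) (hyS : y ∈ S)
    (hyz : y ≠ z) {s : G} : s ∈ F h a hy hyS hyz ↔ s ∈ S ∧ FF Z X s := Iff.rfl

theorem isStronglyClosed_F (h : Gamma Z K X) {z y : G} {S : Subgroup G} (a : At Z z S) (hy : y ∈ Z)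
    (hyS : y ∈ S) (hyz : y ≠ z) : Cfsg.IsStronglyClosed (F h a hy hyS hyz) S :=
  ⟨fun _ hs => hs.1, fun _ hs g hg => ⟨hg, hs.2.conj h g⟩⟩

end Cfsg.Agent.GH.QGClosed
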