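import Mathlib
import Cfsg.Agent.Cit.Quat

/-!
# GH-Q: an involution acting on a generalised quaternion group with centralizer `⟨z⟩`

`y` normalises the generalised quaternion group `Q` and `C_Q(y) = ⟨z⟩`: then `Q⟨y⟩` is semidihedral.
-/

set_option autoImplicit false

namespace Cfsg.Agent.GH.QSd

open Subgroup Cfsg.Agent.Cit

variable {G : Type*} [Group G]

theorem cov_zpow {Q : Subgroup G} {c v z : G} {n : ℕ} (h : GQ Q c v z n) {x : G} (hx : x ∈ Q) :
    (∃ i : ℤ, x = c ^ i) ∨ (∃ i : ℤ, x = v * c ^ i) := by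
  rcases h.cov x hx with ⟨i, rfl⟩ | ⟨i, rfl⟩
  · exact Or.inl ⟨i, by rw [zpow_natCast]⟩
  · exact Or.inr ⟨i, by rw [zpow_natCast]⟩

theorem conj_zpow {Q : Subgroup G} {c v z : G} {n : ℕ} (h : GQ Q c v z n) (i : ℤ) :
    v * c ^ i * v⁻¹ = c ^ (-i) := by
  rw [← _root_.conj_zpow, h.conj, inv_zpow, zpow_neg]

/-- `c ^ i = 1` iff `|c|` divides `i`. -/
theorem zpow_eq_one_iff {Q : Subgroup G} {c v z : G} {n : ℕ} (h : GQ Q c v z n) (i : ℤ) :
    c ^ i = 1 ↔ ((2 : ℤ) ^ (n + 2)) ∣ i := by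
  rw [← orderOf_dvd_iff_zpow_eq_one, h.ord]
  push_cast
  exact Iff.rfl

/-- `z = c ^ (2 ^ (n + 1))` with an integer exponent. -/
theorem z_zpow {Q : Subgroup G} {c v z : G} {n : ℕ} (h : GQ Q c v z n) :
    z = c ^ ((2 : ℤ) ^ (n + 1)) := by
  rw [← h.z_eq, ← zpow_natCast]
  push_cast
  rfl

/-- no odd power of `c` is in `{1, z}` -/
theorem odd_zpow {Q : Subgroup G} {c v z : G} {n : ℕ} (h : GQ Q c v z n) {i : ℤ} (hi : Odd i) :
    c ^ i ≠ 1 ∧ c ^ i ≠ z := by
  have key : ∀ j : ℤ, Even j → c ^ i ≠ c ^ j := by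
    intro j hj he
    have h1 : c ^ (i - j) = 1 := by rw [zpow_sub, he, mul_inv_cancel]
    rw [zpow_eq_one_iff h] at h1
    have h2 : (2 : ℤ) ∣ i - j := dvd_trans (dvd_pow_self 2 (by omega)) h1
    have h3 : Even i := by
      have := (even_iff_two_dvd.2 h2).add hj
      simpa using this
    exact (Int.not_even_iff_odd.2 hi) h3
  refine ⟨?_, ?_⟩
  · have := key 0 (by simp)
    simpa using this
  · rw [z_zpow h]
    exact key _ (by
      rw [pow_succ]
      exact even_two.mul_left _)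

/-- The generator can be replaced by an odd power. -/
theorem gq_odd_zpow {Q : Subgroup G} {c v z : G} {n : ℕ} (h : GQ Q c v z n) {i : ℤ} (hi : Odd i) :
    GQ Q (c ^ i) v z n := by
  have hcop : IsCoprime i ((2 : ℤ) ^ (n + 2)) := by
    apply IsCoprime.pow_right
    obtain ⟨k, rfl⟩ := hi
    exact ⟨1, -k, by ring⟩
  obtain ⟨a, b, hab⟩ := hcop
  have hgen : c = (c ^ i) ^ a := by
    have h1 : c ^ (a * i + b * 2 ^ (n + 2)) = c := by rw [hab, zpow_one]
    rw [zpow_add, (zpow_eq_one_iff h _).2 (Dvd.intro_left b rfl), mul_one] at h1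
    rw [← zpow_mul, mul_comm i a]
    exact h1.symm
  refine ⟨Q.zpow_mem h.c_mem _, h.v_mem, ?_, ?_, h.v_sq, ?_, ?_⟩
  · apply le_antisymm
    · apply Nat.le_of_dvd (by positivity)
      apply orderOf_dvd_of_pow_eq_one
      rw [← zpow_natCast, ← zpow_mul, mul_comm, zpow_mul, zpow_natCast, ← h.ord, pow_orderOf_eq_one,
        one_zpow]
    · rw [← h.ord]
      apply Nat.le_of_dvd
      · apply orderOf_pos_iff.2
        rw [isOfFinOrder_iff_pow_eq_one]
        refine ⟨2 ^ (n + 2), by positivity, ?_⟩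
        rw [← zpow_natCast, ← zpow_mul, mul_comm, zpow_mul, zpow_natCast, ← h.ord,
          pow_orderOf_eq_one, one_zpow]
      · apply orderOf_dvd_of_pow_eq_one
        calc c ^ orderOf (c ^ i) = ((c ^ i) ^ a) ^ (orderOf (c ^ i)) :=
              congrArg (· ^ orderOf (c ^ i)) hgen
          _ = ((c ^ i) ^ orderOf (c ^ i)) ^ a := by
              rw [← zpow_natCast, ← zpow_mul, mul_comm, zpow_mul, zpow_natCast]
          _ = 1 := by rw [pow_orderOf_eq_one, one_zpow]
  · rw [← zpow_natCast, ← zpow_mul, mul_comm, zpow_mul, zpow_natCast, h.z_eq]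
    obtain ⟨k, rfl⟩ := hi
    rw [zpow_add, zpow_mul, zpow_one, zpow_ofNat, pow_two, h.z_mul, one_zpow, one_mul]
  · rw [conj_zpow h, zpow_neg]
  · intro x hx
    have hp : ∀ j : ℕ, ∃ k : ℕ, c ^ j = (c ^ i) ^ k := by
      intro j
      have h1 : c ^ j ∈ Submonoid.powers (c ^ i) := by
        have hfin : IsOfFinOrder (c ^ i) := by
          rw [isOfFinOrder_iff_pow_eq_one]
          refine ⟨2 ^ (n + 2), by positivity, ?_⟩
          rw [← zpow_natCast, ← zpow_mul, mul_comm, zpow_mul, zpow_natCast, ← h.ord,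
            pow_orderOf_eq_one, one_zpow]
        rw [hfin.mem_powers_iff_mem_zpowers]
        refine ⟨a * j, ?_⟩
        change (c ^ i) ^ (a * (j : ℤ)) = c ^ j
        rw [zpow_mul, ← hgen, zpow_natCast]
      obtain ⟨k, hk⟩ := h1
      exact ⟨k, hk.symm⟩
    rcases h.cov x hx with ⟨j, rfl⟩ | ⟨j, rfl⟩
    · exact Or.inl (hp j)
    · obtain ⟨k, hk⟩ := hp j
      exact Or.inr ⟨k, by rw [hk]⟩

/-- The data of a semidihedral group `Q⟨y⟩`. -/
structure SD (Q : Subgroup G) (c v z y : G) (n : ℕ) : Prop where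
  gq : GQ Q c v z n
  sq : y * y = 1
  yc : y * c * y⁻¹ = c⁻¹
  yv : y * v * y⁻¹ = v * c

theorem y_inv {y : G} (h : y * y = 1) : y⁻¹ = y := inv_eq_of_mul_eq_one_right h

/-- the case of an inverted generator -/
theorem exists_sd_of_inv {Q : Subgroup G} {c v z y : G} {n : ℕ} (h : GQ Q c v z n) (hy : y * y = 1)
    (hn : ∀ q ∈ Q, y * q * y⁻¹ ∈ Q) (hc : ∀ q ∈ Q, q * y = y * q → q = 1 ∨ q = z)
    (hyc : y * c * y⁻¹ = c⁻¹) : ∃ c' v', SD Q c' v' z y n := by
  have hyci : ∀ i : ℤ, y * c ^ i * y⁻¹ = c ^ (-i) := by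
    intro i
    rw [← _root_.conj_zpow, hyc, inv_zpow, zpow_neg]
  -- `y v y⁻¹ = v c ^ i`
  obtain ⟨i, hi⟩ : ∃ i : ℤ, y * v * y⁻¹ = v * c ^ i := by
    rcases cov_zpow h (hn v h.v_mem) with ⟨i, hi⟩ | ⟨i, hi⟩
    · exfalso
      have h1 : v = c ^ (-i) := by
        rw [← hyci i, ← hi, y_inv hy]
        calc v = (y * y) * v * (y * y) := by rw [hy]; group
          _ = y * (y * v * y) * y := by group
      have h2 : v * c = c * v := by
        rw [h1]
        exact (((Commute.refl c).zpow_right (-i)).eq).symm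
      exact h.not_comm h2
    · exact ⟨i, hi⟩
  have hodd : Odd i := by
    rw [← Int.not_even_iff_odd]
    rintro ⟨j, rfl⟩
    have h1 : y * (v * c ^ j) * y⁻¹ = v * c ^ j := by
      calc y * (v * c ^ j) * y⁻¹ = (y * v * y⁻¹) * (y * c ^ j * y⁻¹) := by group
        _ = v * c ^ (j + j) * c ^ (-j) := by rw [hi, hyci]
        _ = v * c ^ j := by rw [mul_assoc, ← zpow_add]; congr 2; ring
    have h2 : (v * c ^ j) * y = y * (v * c ^ j) := by
      rw [mul_inv_eq_iff_eq_mul] at h1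
      exact h1.symm
    have h3 : (v * c ^ j) * (v * c ^ j) = z := by
      have h4 := conj_zpow h j
      calc (v * c ^ j) * (v * c ^ j) = (v * c ^ j * v⁻¹) * (v * v) * c ^ j := by group
        _ = c ^ (-j) * (v * v) * c ^ j := by rw [h4]
        _ = c ^ (-j) * z * c ^ j := by rw [h.v_sq]
        _ = z := by
            rw [z_zpow h, ← zpow_add, ← zpow_add]
            congr 1
            ring
    rcases hc _ (Q.mul_mem h.v_mem (Q.zpow_mem h.c_mem j)) h2 with h4 | h4
    · rw [h4, one_mul] at h3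
      exact h.z_ne h3.symm
    · rw [h4, h.z_mul] at h3
      exact h.z_ne h3.symm
  refine ⟨c ^ i, v, gq_odd_zpow h hodd, hy, ?_, hi⟩
  rw [hyci, zpow_neg]

theorem exists_nat_pow {w : G} {m : ℕ} (hm : 0 < m) (hw : w ^ m = 1) (i : ℤ) :
    ∃ k : ℕ, w ^ i = w ^ k := by
  have hfin : IsOfFinOrder w := isOfFinOrder_iff_pow_eq_one.2 ⟨m, hm, hw⟩
  have h1 : w ^ i ∈ Submonoid.powers w := by
    rw [hfin.mem_powers_iff_mem_zpowers]
    exact ⟨i, rfl⟩
  obtain ⟨k, hk⟩ := h1
  exact ⟨k, hk.symm⟩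

/-- In a quaternion group of order `8` the roles of the generators can be exchanged. -/
theorem gq_swap {Q : Subgroup G} {c v z : G} (h : GQ Q c v z 0) (i : ℤ) :
    GQ Q (v * c ^ i) c z 0 := by
  have hcc : c * c = z := by
    have := h.z_eq
    rw [zero_add, pow_one, pow_two] at this
    exact this
  have hcz : c * z = z * c := by rw [← hcc, mul_assoc]
  have hww : (v * c ^ i) * (v * c ^ i) = z := by
    have h4 := conj_zpow h i
    calc (v * c ^ i) * (v * c ^ i) = (v * c ^ i * v⁻¹) * (v * v) * c ^ i := by group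
      _ = c ^ (-i) * (v * v) * c ^ i := by rw [h4]
      _ = c ^ (-i) * z * c ^ i := by rw [h.v_sq]
      _ = z := by
          rw [z_zpow h, ← zpow_add, ← zpow_add]
          congr 1
          ring
  have hord : orderOf (v * c ^ i) = 4 := GQ.orderOf_of_sq hww h.z_mul h.z_ne
  have hc4 : orderOf c = 4 := GQ.orderOf_of_sq hcc h.z_mul h.z_ne
  -- `c w c⁻¹ = w⁻¹`
  have hvc : c * v * c⁻¹ = v⁻¹ := by
    have h1 : v * c = c⁻¹ * v := by
      rw [← h.conj]; group
    have h2 : c * v = v * c⁻¹ := by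
      have h3 := conj_zpow h (-1)
      rw [neg_neg, zpow_one, zpow_neg, zpow_one] at h3
      calc c * v = (v * c⁻¹ * v⁻¹) * v := by rw [h3]
        _ = v * c⁻¹ := by group
    have h4 : v⁻¹ = v * z := by
      rw [inv_eq_iff_mul_eq_one, ← mul_assoc, h.v_sq, h.z_mul]
    have h5 : c⁻¹ * c⁻¹ = z := by
      rw [← mul_inv_rev, hcc, h.z_inv]
    rw [h2, h4, mul_assoc, h5]
  have hconj : c * (v * c ^ i) * c⁻¹ = (v * c ^ i)⁻¹ := by
    have h6 : c * c ^ i * c⁻¹ = c ^ i := by
      have := ((Commute.refl c).zpow_right i).eq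
      rw [this]; group
    have h7 : v⁻¹ * c ^ i = c ^ (-i) * v⁻¹ := by
      have h8 := conj_zpow h (-i)
      rw [neg_neg] at h8
      rw [← h8]; group
    calc c * (v * c ^ i) * c⁻¹ = (c * v * c⁻¹) * (c * c ^ i * c⁻¹) := by group
      _ = v⁻¹ * c ^ i := by rw [hvc, h6]
      _ = c ^ (-i) * v⁻¹ := h7
      _ = (v * c ^ i)⁻¹ := by rw [mul_inv_rev, zpow_neg]
  set w := v * c ^ i with hw
  have hwn : ∀ m : ℤ, ∃ k : ℕ, w ^ m = w ^ k := fun m =>
    exists_nat_pow (by norm_num : 0 < 4) (by rw [← hord]; exact pow_orderOf_eq_one w) m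
  -- even powers of `c` are powers of `w`
  have heven : ∀ m : ℤ, c ^ (m + m) = w ^ (m + m) := by
    intro m
    have e1 : c ^ (m + m) = z ^ m := by
      rw [← two_mul, zpow_mul, zpow_ofNat, pow_two, hcc]
    have e2 : w ^ (m + m) = z ^ m := by
      rw [← two_mul, zpow_mul, zpow_ofNat, pow_two, hww]
    rw [e1, e2]
  have hcw : ∀ m : ℤ, (∃ k : ℕ, c ^ m = w ^ k) ∨ (∃ k : ℕ, c ^ m = c * w ^ k) := by
    intro m
    rcases Int.even_or_odd m with ⟨l, rfl⟩ | ⟨l, rfl⟩
    · obtain ⟨k, hk⟩ := hwn (l + l)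
      exact Or.inl ⟨k, by rw [heven, hk]⟩
    · obtain ⟨k, hk⟩ := hwn (l + l)
      refine Or.inr ⟨k, ?_⟩
      rw [← hk, ← heven, show (2 : ℤ) * l + 1 = 1 + (l + l) by ring, zpow_add, zpow_one]
  refine ⟨Q.mul_mem h.v_mem (Q.zpow_mem h.c_mem _), h.c_mem, ?_, ?_, hcc, hconj, ?_⟩
  · rw [hord]; norm_num
  · rw [zero_add, pow_one, pow_two, hww]
  · intro x hx
    rcases cov_zpow h hx with ⟨j, rfl⟩ | ⟨j, rfl⟩
    · exact hcw j
    · have e1 : v * c ^ j = w * c ^ (j - i) := by
        rw [hw, mul_assoc, ← zpow_add]; congr 2; ring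
      rw [e1]
      rcases hcw (j - i) with ⟨k, hk⟩ | ⟨k, hk⟩
      · exact Or.inl ⟨k + 1, by rw [hk, pow_succ']⟩
      · right
        have e2 : w * (c * w ^ k) = c * w ^ ((k : ℤ) - 1) := by
          have e3 : w * c = c * w⁻¹ := by
            have : c * w⁻¹ * c⁻¹ = w := by
              rw [← hconj]
              calc c * (c * w * c⁻¹) * c⁻¹ = (c * c) * w * (c * c)⁻¹ := by group
                _ = w := by
                    rw [hcc, ← hww]; group
            calc w * c = (c * w⁻¹ * c⁻¹) * c := by rw [this]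
              _ = c * w⁻¹ := by group
          rw [← mul_assoc, e3, mul_assoc, ← zpow_natCast, ← zpow_neg_one, ← zpow_add,
            neg_add_eq_sub]
        obtain ⟨k', hk'⟩ := hwn ((k : ℤ) - 1)
        exact ⟨k', by rw [hk, e2, hk']⟩

/-- Coordinates of a semidihedral group. -/
theorem exists_sd {Q : Subgroup G} {z y : G} (hQ : IsGQ Q) (hzQ : z ∈ Q) (hz : z * z = 1)
    (hz1 : z ≠ 1) (hy : y * y = 1) (hn : ∀ q ∈ Q, y * q * y⁻¹ ∈ Q)
    (hc : ∀ q ∈ Q, q * y = y * q → q = 1 ∨ q = z) : ∃ c v n, SD Q c v z y n := by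
  obtain ⟨c, v, z', n, h⟩ := exists_gq hQ
  obtain rfl : z = z' := h.eq_z hzQ hz hz1
  suffices H : ∃ c' v' n', GQ Q c' v' z n' ∧ y * c' * y⁻¹ = c'⁻¹ by
    obtain ⟨c', v', n', h', hyc⟩ := H
    obtain ⟨c'', v'', h''⟩ := exists_sd_of_inv h' hy hn hc hyc
    exact ⟨c'', v'', n', h''⟩
  rcases cov_zpow h (hn c h.c_mem) with ⟨k, hk⟩ | ⟨i, hi⟩
  · refine ⟨c, v, n, h, ?_⟩
    have hyci : ∀ i : ℤ, y * c ^ i * y⁻¹ = c ^ (k * i) := by
      intro i
      rw [← _root_.conj_zpow, hk, ← zpow_mul]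
    have hyy : ∀ g : G, y * (y * g * y⁻¹) * y⁻¹ = g := by
      intro g
      calc y * (y * g * y⁻¹) * y⁻¹ = (y * y) * g * (y * y)⁻¹ := by group
        _ = g := by rw [hy]; group
    have hkk : c ^ (k * k - 1) = 1 := by
      have h1 := hyy c
      rw [hk, hyci] at h1
      rw [zpow_sub, h1, zpow_one, mul_inv_cancel]
    rw [zpow_eq_one_iff h] at hkk
    -- `k` is odd
    have hkodd : Odd k := by
      rw [← Int.not_even_iff_odd]
      intro hev
      have h2 : (2 : ℤ) ∣ k * k - 1 := dvd_trans (dvd_pow_self 2 (by omega)) hkk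
      have h3 : Even (k * k) := hev.mul_left k
      have h4 := (even_iff_two_dvd.2 h2)
      have h5 : Even (1 : ℤ) := by
        have := h3.sub h4
        simpa using this
      exact absurd h5 (by decide)
    -- `x = c ^ (2 ^ n)` is not centralised
    have hxx : (c ^ ((2 : ℤ) ^ n)) * (c ^ ((2 : ℤ) ^ n)) = z := by
      rw [← zpow_add, z_zpow h]; congr 1; ring
    have hk4 : ∃ m : ℤ, k = 4 * m + 3 := by
      obtain ⟨l, rfl⟩ := hkodd
      rcases Int.even_or_odd l with ⟨m, rfl⟩ | ⟨m, rfl⟩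
      · exfalso
        have h1 : y * c ^ ((2 : ℤ) ^ n) * y⁻¹ = c ^ ((2 : ℤ) ^ n) := by
          rw [hyci]
          have e : (2 * (m + m) + 1) * (2 : ℤ) ^ n = 2 ^ (n + 2) * m + 2 ^ n := by ring
          rw [e, zpow_add, (zpow_eq_one_iff h _).2 (Dvd.intro _ rfl), one_mul]
        have h2 : c ^ ((2 : ℤ) ^ n) * y = y * c ^ ((2 : ℤ) ^ n) := by
          rw [mul_inv_eq_iff_eq_mul] at h1
          exact h1.symm
        rcases hc _ (Q.zpow_mem h.c_mem _) h2 with h3 | h3
        · rw [h3, one_mul] at hxx; exact h.z_ne hxx.symm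
        · rw [h3, h.z_mul] at hxx; exact h.z_ne hxx.symm
      · exact ⟨m, by ring⟩
    obtain ⟨m, rfl⟩ := hk4
    -- `2 ^ (n + 1)` divides `k + 1`
    have hdvd : ((2 : ℤ) ^ (n + 1)) ∣ (4 * m + 4) := by
      have e : (4 * m + 3) * (4 * m + 3) - 1 = 2 * ((2 * m + 1) * (4 * m + 4)) := by ring
      rw [e, show n + 2 = (n + 1) + 1 by omega, pow_succ'] at hkk
      have h2 := (mul_dvd_mul_iff_left (by norm_num : (2 : ℤ) ≠ 0)).1 hkk
      have hcop : IsCoprime ((2 : ℤ) ^ (n + 1)) (2 * m + 1) := by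
        apply IsCoprime.pow_left
        exact ⟨-m, 1, by ring⟩
      exact hcop.dvd_of_dvd_mul_left h2
    obtain ⟨b, hb⟩ := hdvd
    have hcase : c ^ (4 * m + 4) = 1 ∨ c ^ (4 * m + 4) = z := by
      rw [hb, zpow_mul, ← z_zpow h]
      rcases Int.even_or_odd b with ⟨l, rfl⟩ | ⟨l, rfl⟩
      · left
        rw [← two_mul, zpow_mul, zpow_ofNat, pow_two, h.z_mul, one_zpow]
      · right
        rw [zpow_add, zpow_mul, zpow_ofNat, pow_two, h.z_mul, one_zpow, one_mul, zpow_one]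
    rcases hcase with h1 | h1
    · rw [hk]
      have h2 : c ^ (4 * m + 3) * c = 1 := by
        rw [← h1, show (4 : ℤ) * m + 4 = (4 * m + 3) + 1 by ring, zpow_add_one]
      exact eq_inv_of_mul_eq_one_left h2
    · exfalso
      -- `y c y⁻¹ = c⁻¹ z`
      have hn1 : 1 ≤ n := by
        by_contra hn0
        have hn0' : n = 0 := by omega
        subst hn0'
        have h2 : c ^ (4 * m + 4) = 1 := by
          rw [zpow_eq_one_iff h]
          exact ⟨m + 1, by ring⟩
        rw [h2] at h1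
        exact h.z_ne h1.symm
      have hcz : ∀ i : ℤ, c ^ i * z = z * c ^ i := by
        intro i
        rw [z_zpow h, ← zpow_add, ← zpow_add, add_comm]
      have hyc : ∀ i : ℤ, y * c ^ i * y⁻¹ = c ^ (-i) * z ^ i := by
        intro i
        rw [hyci]
        have e : (4 * m + 3) * i = -i + (4 * m + 4) * i := by ring
        rw [e, zpow_add, zpow_mul, h1]
      obtain ⟨i, hi⟩ : ∃ i : ℤ, y * v * y⁻¹ = v * c ^ i := by
        rcases cov_zpow h (hn v h.v_mem) with ⟨i, hi⟩ | ⟨i, hi⟩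
        · exfalso
          have h2 : v = c ^ (-i) * z ^ i := by
            rw [← hyc i, ← hi, hyy]
          have h3 : v * c = c * v := by
            rw [h2]
            have e1 : z ^ i * c = c * z ^ i := by
              rw [z_zpow h, ← zpow_mul]
              exact (((Commute.refl c).zpow_right _).eq).symm
            have e2 : c ^ (-i) * c = c * c ^ (-i) := (((Commute.refl c).zpow_right _).eq).symm
            rw [mul_assoc, e1, ← mul_assoc, e2, mul_assoc]
          exact h.not_comm h3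
        · exact ⟨i, hi⟩
      have hieven : Even i := by
        rw [← Int.not_odd_iff_even]
        intro ho
        have h2 := hyy v
        rw [hi] at h2
        have h3 : y * (v * c ^ i) * y⁻¹ = (y * v * y⁻¹) * (y * c ^ i * y⁻¹) := by group
        rw [h3, hi, hyc, mul_assoc, ← mul_assoc (c ^ i), ← zpow_add, add_neg_cancel, zpow_zero,
          one_mul] at h2
        have h4 : z ^ i = 1 := by
          have := congrArg (fun g => v⁻¹ * g) h2
          simpa using this
        obtain ⟨l, rfl⟩ := ho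
        rw [zpow_add, zpow_mul, zpow_ofNat, pow_two, h.z_mul, one_zpow, one_mul, zpow_one] at h4
        exact h.z_ne h4
      obtain ⟨j, rfl⟩ := hieven
      -- a fixed element `v c ^ m'`
      have hfix : ∃ m' : ℤ, c ^ ((j + j) - m') * z ^ m' = c ^ m' := by
        rcases Int.even_or_odd j with ⟨l, rfl⟩ | ⟨l, rfl⟩
        · refine ⟨l + l, ?_⟩
          have e1 : z ^ (l + l) = 1 := by
            rw [← two_mul, zpow_mul, zpow_ofNat, pow_two, h.z_mul, one_zpow]
          rw [e1, mul_one]; congr 1; ring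
        · refine ⟨(2 * l + 1) + 2 ^ n, ?_⟩
          have e1 : z ^ ((2 * l + 1) + (2 : ℤ) ^ n) = z := by
            obtain ⟨n', rfl⟩ : ∃ n', n = n' + 1 := ⟨n - 1, by omega⟩
            have e2 : (2 * l + 1) + (2 : ℤ) ^ (n' + 1) = 2 * (l + 2 ^ n') + 1 := by ring
            rw [e2, zpow_add, zpow_mul, zpow_ofNat, pow_two, h.z_mul, one_zpow, one_mul, zpow_one]
          rw [e1, z_zpow h, ← zpow_add]
          congr 1; ring
      obtain ⟨m', hm'⟩ := hfix
      have h2 : y * (v * c ^ m') * y⁻¹ = v * c ^ m' := by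
        calc y * (v * c ^ m') * y⁻¹ = (y * v * y⁻¹) * (y * c ^ m' * y⁻¹) := by group
          _ = v * c ^ (j + j) * (c ^ (-m') * z ^ m') := by rw [hi, hyc]
          _ = v * (c ^ ((j + j) - m') * z ^ m') := by
              rw [sub_eq_add_neg, zpow_add c (j + j) (-m')]; simp only [mul_assoc]
          _ = v * c ^ m' := by rw [hm']
      have h3 : (v * c ^ m') * y = y * (v * c ^ m') := by
        rw [mul_inv_eq_iff_eq_mul] at h2
        exact h2.symm
      have h4 : (v * c ^ m') * (v * c ^ m') = z := by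
        have h5 := conj_zpow h m'
        calc (v * c ^ m') * (v * c ^ m') = (v * c ^ m' * v⁻¹) * (v * v) * c ^ m' := by group
          _ = c ^ (-m') * (v * v) * c ^ m' := by rw [h5]
          _ = c ^ (-m') * z * c ^ m' := by rw [h.v_sq]
          _ = z := by
              rw [z_zpow h, ← zpow_add, ← zpow_add]
              congr 1
              ring
      rcases hc _ (Q.mul_mem h.v_mem (Q.zpow_mem h.c_mem _)) h3 with h5 | h5
      · rw [h5, one_mul] at h4; exact h.z_ne h4.symm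
      · rw [h5, h.z_mul] at h4; exact h.z_ne h4.symm
  · -- `y c y⁻¹ = v c ^ i`, so `n = 0`
    have hn0 : n = 0 := by
      have h1 : orderOf (y * c * y⁻¹) = 4 := by
        rw [hi]
        apply GQ.orderOf_of_sq _ h.z_mul h.z_ne
        have h5 := conj_zpow h i
        calc (v * c ^ i) * (v * c ^ i) = (v * c ^ i * v⁻¹) * (v * v) * c ^ i := by group
          _ = c ^ (-i) * (v * v) * c ^ i := by rw [h5]
          _ = c ^ (-i) * z * c ^ i := by rw [h.v_sq]
          _ = z := by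
              rw [z_zpow h, ← zpow_add, ← zpow_add]
              congr 1
              ring
      have h2 : orderOf (y * c * y⁻¹) = orderOf c := by
        have := orderOf_injective (MulAut.conj y).toMonoidHom (MulAut.conj y).injective c
        simpa using this
      rw [h2, h.ord] at h1
      by_contra hne
      have h3 : 2 ^ 3 ≤ 2 ^ (n + 2) := Nat.pow_le_pow_right (by norm_num) (by omega)
      omega
    subst hn0
    refine ⟨v * c ^ (i - 1), c, 0, gq_swap h (i - 1), ?_⟩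
    have hcc : c * c = z := by
      have := h.z_eq
      rw [zero_add, pow_one, pow_two] at this
      exact this
    have hyy : ∀ g : G, y * (y * g * y⁻¹) * y⁻¹ = g := by
      intro g
      calc y * (y * g * y⁻¹) * y⁻¹ = (y * y) * g * (y * y)⁻¹ := by group
        _ = g := by rw [hy]; group
    -- `v c ^ (i - 1) = (y c y⁻¹) c⁻¹`
    have e1 : v * c ^ (i - 1) = (y * c * y⁻¹) * c⁻¹ := by
      rw [hi, zpow_sub, zpow_one, mul_assoc]
    have e2 : y * (v * c ^ (i - 1)) * y⁻¹ = c * (y * c * y⁻¹)⁻¹ := by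
      rw [e1]
      calc y * (y * c * y⁻¹ * c⁻¹) * y⁻¹ = (y * (y * c * y⁻¹) * y⁻¹) * (y * c * y⁻¹)⁻¹ := by group
        _ = c * (y * c * y⁻¹)⁻¹ := by rw [hyy]
    rw [e2, e1]
    group

namespace SD

variable {Q : Subgroup G} {c v z y : G} {n : ℕ}

theorem y_c (h : SD Q c v z y n) (i : ℤ) : y * c ^ i * y⁻¹ = c ^ (-i) := by
  rw [← _root_.conj_zpow, h.yc, inv_zpow, zpow_neg]

theorem y_vc (h : SD Q c v z y n) (i : ℤ) : y * (v * c ^ i) * y⁻¹ = v * c ^ (1 - i) := by
  calc y * (v * c ^ i) * y⁻¹ = (y * v * y⁻¹) * (y * c ^ i * y⁻¹) := by group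
    _ = (v * c) * c ^ (-i) := by rw [h.yv, h.y_c]
    _ = v * c ^ (1 - i) := by rw [mul_assoc, sub_eq_add_neg, zpow_add, zpow_one]

/-- elements `q` with `[y, q] ∈ ⟨z⟩`: an element `x` of order four with `y x y⁻¹ = x⁻¹ = x z`, and
every such `q` is in `{1, z, x, x z}` -/
theorem exists_x (h : SD Q c v z y n) : ∃ x ∈ Q, x * x = z ∧ y * x * y⁻¹ = x * z ∧
    ∀ q ∈ Q, (y * q * y⁻¹ = q ∨ y * q * y⁻¹ = q * z) → q = 1 ∨ q = z ∨ q = x ∨ q = x * z := by
  have hx2 : (c ^ ((2 : ℤ) ^ n)) * (c ^ ((2 : ℤ) ^ n)) = z := by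
    rw [← zpow_add, z_zpow h.gq]; congr 1; ring
  have hzz := h.gq.z_mul
  refine ⟨c ^ ((2 : ℤ) ^ n), Q.zpow_mem h.gq.c_mem _, hx2, ?_, ?_⟩
  · rw [h.y_c]
    have e : c ^ (-((2 : ℤ) ^ n)) = c ^ ((2 : ℤ) ^ n) * z := by
      rw [zpow_neg, inv_eq_iff_mul_eq_one, ← mul_assoc, hx2, hzz]
    exact e
  · intro q hq hcase
    rcases cov_zpow h.gq hq with ⟨i, rfl⟩ | ⟨i, rfl⟩
    · rw [h.y_c] at hcase
      have h1 : c ^ (2 * i) = 1 ∨ c ^ (2 * i) = z := by
        rcases hcase with h2 | h2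
        · left
          have : c ^ (2 * i) = c ^ i * (c ^ (-i))⁻¹ := by
            rw [← zpow_neg, ← zpow_add]; congr 1; ring
          rw [this, h2, mul_inv_cancel]
        · right
          have h3 : c ^ (2 * i) = c ^ i * (c ^ (-i))⁻¹ := by
            rw [← zpow_neg, ← zpow_add]; congr 1; ring
          have h4 : c ^ i * z = z * c ^ i := by
            rw [z_zpow h.gq, ← zpow_add, ← zpow_add, add_comm]
          rw [h3, h2, mul_inv_rev, h.gq.z_inv, ← mul_assoc, h4]
          group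
      have h5 : (2 : ℤ) ^ n ∣ i := by
        have h6 : c ^ (4 * i) = 1 := by
          have : c ^ (4 * i) = c ^ (2 * i) * c ^ (2 * i) := by
            rw [← zpow_add]; congr 1; ring
          rw [this]
          rcases h1 with h1 | h1
          · rw [h1, mul_one]
          · rw [h1, hzz]
        rw [zpow_eq_one_iff h.gq] at h6
        rw [show (2 : ℤ) ^ (n + 2) = 4 * 2 ^ n by ring] at h6
        exact (mul_dvd_mul_iff_left (by norm_num : (4 : ℤ) ≠ 0)).1 h6
      obtain ⟨j, rfl⟩ := h5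
      rw [zpow_mul]
      have hxz : ∀ m : ℤ, (c ^ ((2 : ℤ) ^ n)) ^ (2 * m) = z ^ m := by
        intro m
        rw [zpow_mul, zpow_ofNat, pow_two, hx2]
      have hzm : ∀ m : ℤ, z ^ m = 1 ∨ z ^ m = z := by
        intro m
        rcases Int.even_or_odd m with ⟨l, rfl⟩ | ⟨l, rfl⟩
        · left
          rw [← two_mul, zpow_mul, zpow_ofNat, pow_two, hzz, one_zpow]
        · right
          rw [zpow_add, zpow_mul, zpow_ofNat, pow_two, hzz, one_zpow, one_mul, zpow_one]
      rcases Int.even_or_odd j with ⟨l, rfl⟩ | ⟨l, rfl⟩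
      · rw [← two_mul, hxz]
        rcases hzm l with h7 | h7 <;> simp [h7]
      · rw [show (2 : ℤ) * l + 1 = 1 + 2 * l by ring, zpow_add, zpow_one, hxz]
        rcases hzm l with h7 | h7 <;> simp [h7]
    · exfalso
      rw [h.y_vc] at hcase
      have hodd := odd_zpow h.gq (i := 1 - 2 * i) (by
        exact ⟨-i, by ring⟩)
      rcases hcase with h2 | h2
      · apply hodd.1
        have h3 : c ^ (1 - i) = c ^ i := by
          have := congrArg (fun g => v⁻¹ * g) h2
          simpa using this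
        have h4 : c ^ (1 - 2 * i) = c ^ (1 - i) * (c ^ i)⁻¹ := by
          rw [← zpow_neg, ← zpow_add]; congr 1; ring
        rw [h4, h3, mul_inv_cancel]
      · apply hodd.2
        have h3 : c ^ (1 - i) = c ^ i * z := by
          have := congrArg (fun g => v⁻¹ * g) h2
          simpa [mul_assoc] using this
        have h4 : c ^ (1 - 2 * i) = (c ^ i)⁻¹ * c ^ (1 - i) := by
          rw [← zpow_neg, ← zpow_add]; congr 1; ring
        rw [h4, h3]
        group

/-- if `q y q y⁻¹ ∈ ⟨z⟩` then `q y q y⁻¹ = 1` and `q y` is `Q`-conjugate to `y` -/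
theorem exists_conj (h : SD Q c v z y n) {q : G} (hq : q ∈ Q)
    (hqq : q * (y * q * y⁻¹) = 1 ∨ q * (y * q * y⁻¹) = z) :
    q * (y * q * y⁻¹) = 1 ∧ ∃ k ∈ Q, k * y * k⁻¹ = q * y := by
  rcases cov_zpow h.gq hq with ⟨i, rfl⟩ | ⟨i, rfl⟩
  · refine ⟨by rw [h.y_c, ← zpow_add, add_neg_cancel, zpow_zero], ?_⟩
    rcases Int.even_or_odd i with ⟨j, rfl⟩ | ⟨j, rfl⟩
    · refine ⟨c ^ j, Q.zpow_mem h.gq.c_mem _, ?_⟩
      have h1 : y * (c ^ j)⁻¹ = c ^ j * y := by
        have h2 := h.y_c (-j)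
        rw [neg_neg] at h2
        calc y * (c ^ j)⁻¹ = (y * c ^ (-j) * y⁻¹) * y := by rw [zpow_neg]; group
          _ = c ^ j * y := by rw [h2]
      rw [mul_assoc, h1, ← mul_assoc, ← zpow_add]
    · -- `k = v c ^ (-j)`
      refine ⟨v * c ^ (-j), Q.mul_mem h.gq.v_mem (Q.zpow_mem h.gq.c_mem _), ?_⟩
      have h1 : y * (v * c ^ (-j))⁻¹ = (v * c ^ (1 + j))⁻¹ * y := by
        have h2 := h.y_vc (-j)
        have h3 : (y * (v * c ^ (-j)) * y⁻¹)⁻¹ = (v * c ^ (1 + j))⁻¹ := by
          rw [h2]; congr 3; ring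
        rw [← h3]; group
      rw [mul_assoc, h1, ← mul_assoc]
      congr 1
      have h4 := conj_zpow h.gq (-j + -(1 + j))
      have h5 : v * c ^ (-j) * (v * c ^ (1 + j))⁻¹ = v * c ^ (-j + -(1 + j)) * v⁻¹ := by
        rw [mul_inv_rev, zpow_add c (-j) (-(1 + j)), zpow_neg c (1 + j)]
        group
      rw [h5, h4]
      congr 1
      ring
  · exfalso
    rw [h.y_vc] at hqq
    have hodd := odd_zpow h.gq (i := 1 - 2 * i) (by exact ⟨-i, by ring⟩)
    have h1 : v * c ^ i * (v * c ^ (1 - i)) = z * c ^ (1 - 2 * i) := by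
      have h2 := conj_zpow h.gq i
      have hzc : ∀ m : ℤ, c ^ m * z = z * c ^ m := by
        intro m
        rw [z_zpow h.gq, ← zpow_add, ← zpow_add, add_comm]
      calc v * c ^ i * (v * c ^ (1 - i)) = (v * c ^ i * v⁻¹) * (v * v) * c ^ (1 - i) := by group
        _ = c ^ (-i) * z * c ^ (1 - i) := by rw [h2, h.gq.v_sq]
        _ = z * (c ^ (-i) * c ^ (1 - i)) := by rw [hzc, mul_assoc]
        _ = z * c ^ (1 - 2 * i) := by
            rw [← zpow_add]; congr 2; ring
    rw [h1] at hqq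
    rcases hqq with h2 | h2
    · apply hodd.2
      rw [eq_inv_of_mul_eq_one_right h2, h.gq.z_inv]
    · apply hodd.1
      have := congrArg (fun g => z⁻¹ * g) h2
      simpa using this

end SD

end Cfsg.Agent.GH.QSd
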