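import Mathlib
import Cfsg.Agent.GH.QSd
import Cfsg.Agent.Cit.OneBasic

/-!
# GH-Q, scenario B, world gamma: the frame and the elementary lemmas

`Z` is a class of involutions, `K z` (`z ∈ Z`) the 2-component of `C(z)` with quaternion Sylow
2-subgroups, `X z` the set of elements acting trivially on `K z` modulo its core.
-/

set_option autoImplicit false

namespace Cfsg.Agent.GH.QGFrame

open Subgroup Cfsg.Agent.Cit Cfsg.Agent.GH.QSd

variable {G : Type*} [Group G]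

/-- `S` is a Sylow 2-subgroup of `G` centralising `z ∈ Z` -/
structure At (Z : Set G) (z : G) (S : Subgroup G) : Prop where
  mem : z ∈ Z
  syl : Syl S ⊤
  cent : ∀ s ∈ S, s * z = z * s

/-- the frame of scenario B -/
structure Frame (Z : Set G) (K : G → Subgroup G) (X : G → Set G) : Prop where
  conj : ∀ z ∈ Z, ∀ g, g * z * g⁻¹ ∈ Z
  sq : ∀ z ∈ Z, z * z = 1
  ne : ∀ z ∈ Z, z ≠ 1
  K_comm : ∀ z ∈ Z, ∀ k ∈ K z, k * z = z * k
  X_comm : ∀ z ∈ Z, ∀ x ∈ X z, x * z = z * x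
  K_cj : ∀ z ∈ Z, ∀ g, ∀ k ∈ K z, g * k * g⁻¹ ∈ K (g * z * g⁻¹)
  X_cj : ∀ z ∈ Z, ∀ g, ∀ x ∈ X z, g * x * g⁻¹ ∈ X (g * z * g⁻¹)
  zK : ∀ z ∈ Z, z ∈ K z
  zX : ∀ z ∈ Z, z ∈ X z
  comm : ∀ z ∈ Z, ∀ P : Subgroup G, IsPGroup 2 P → ∀ a ∈ P, a ∈ K z → ∀ b ∈ P, b ∈ X z →
    a * b = b * a
  inf : ∀ z ∈ Z, ∀ a, IsPGroup 2 (zpowers a) → a ∈ K z → a ∈ X z → a = 1 ∨ a = z
  X_mul : ∀ z S, At Z z S → ∀ a ∈ S, a ∈ X z → ∀ b ∈ S, b ∈ X z → a * b ∈ X z
  X_inv : ∀ z S, At Z z S → ∀ a ∈ S, a ∈ X z → a⁻¹ ∈ X z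
  big : ∀ z ∈ Z, ∃ S : Subgroup G, Syl S ⊤ ∧ ∀ s ∈ S, s * z = z * s
  quat : ∀ z ∈ Z, ∀ S : Subgroup G, Syl S ⊤ → (∀ s ∈ S, s * z = z * s) → IsGQ (S ⊓ K z)
  scen : ∀ z ∈ Z, ∀ y ∈ Z, y ∈ X z → y = z

/-- world gamma -/
structure Gamma (Z : Set G) (K : G → Subgroup G) (X : G → Set G) : Prop extends Frame Z K X where
  cent : ∀ z S, At Z z S → ∀ y ∈ Z, y ∈ S → y ≠ z → ∀ q ∈ S, q ∈ K z → q * y = y * q →
    q = 1 ∨ q = z
  cover : ∀ z S, At Z z S → ∀ y ∈ Z, y ∈ S → y ≠ z → ∀ s ∈ S, ∃ q ∈ S, q ∈ K z ∧ ∃ d ∈ S, d ∈ X z ∧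
    (s = q * d ∨ s = q * d * y)

/-! ### general lemmas -/

theorem isPGroup_zpowers_of_sq {a : G} (h : a * a = 1) : IsPGroup 2 (zpowers a) := by
  rw [IsPGroup]
  rintro ⟨x, hx⟩
  obtain ⟨i, rfl⟩ := mem_zpowers_iff.1 hx
  refine ⟨1, ?_⟩
  ext
  simp only [pow_one, Subgroup.coe_pow, OneMemClass.coe_one]
  rw [← zpow_natCast, ← zpow_mul, mul_comm, zpow_mul]
  have : a ^ ((2 : ℕ) : ℤ) = 1 := by
    rw [zpow_natCast, pow_two, h]
  rw [this, one_zpow]

theorem mul_comm_of_conj {a b : G} (h : a * b * a⁻¹ = b) : a * b = b * a := by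
  rw [mul_inv_eq_iff_eq_mul] at h; exact h

theorem conj_of_mul_comm {a b : G} (h : a * b = b * a) : a * b * a⁻¹ = b := by
  rw [h, mul_inv_cancel_right]

theorem mem_normalizer_of_comm {A : Subgroup G} {b : G} (h : ∀ a ∈ A, b * a = a * b) :
    b ∈ normalizer (A : Set G) := OneBasic.mem_normalizer_of_cent h

/-- a 2-element centralising a Sylow 2-subgroup of `M`, in `M`, is in it -/
theorem mem_syl_of_comm [Finite G] {T M : Subgroup G} (hT : Syl T M) {b : G}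
    (hb : IsPGroup 2 (zpowers b)) (hbM : b ∈ M) (h : ∀ t ∈ T, b * t = t * b) : b ∈ T := by
  have h1 : zpowers b ≤ T := by
    refine OneBasic.syl_le_of_normalizes' hT hb (zpowers_le.2 hbM) ?_
    rw [zpowers_le]
    exact mem_normalizer_of_comm h
  exact h1 (mem_zpowers b)

theorem isPGroup_sup_of_comm [Finite G] {a b : G} (ha : IsPGroup 2 (zpowers a))
    (hb : IsPGroup 2 (zpowers b)) (h : a * b = b * a) :
    IsPGroup 2 (zpowers a ⊔ zpowers b : Subgroup G) := by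
  refine OneBasic.isPGroup_sup_of_normalizes ha hb ?_
  rw [zpowers_le]
  apply mem_normalizer_of_comm
  intro c hc
  obtain ⟨i, rfl⟩ := mem_zpowers_iff.1 hc
  exact ((show Commute a b from h).zpow_right i).eq

theorem isPGroup_zpowers_of_mem {P : Subgroup G} (hP : IsPGroup 2 P) {a : G} (ha : a ∈ P) :
    IsPGroup 2 (zpowers a) := hP.to_le (zpowers_le.2 ha)

theorem isPGroup_zpowers_conj {a : G} (h : IsPGroup 2 (zpowers a)) (g : G) :
    IsPGroup 2 (zpowers (g * a * g⁻¹)) := by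
  have h1 : zpowers (g * a * g⁻¹) = cj g (zpowers a) := by
    ext x
    rw [mem_cj, mem_zpowers_iff, mem_zpowers_iff]
    constructor
    · rintro ⟨i, rfl⟩
      refine ⟨i, ?_⟩
      rw [_root_.conj_zpow]; group
    · rintro ⟨i, hi⟩
      refine ⟨i, ?_⟩
      rw [_root_.conj_zpow, hi]; group
  rw [h1]
  exact isPGroup_cj h

/-- a nontrivial 2-element has a power of order two -/
theorem exists_involution {a : G} (h : IsPGroup 2 (zpowers a)) (ha : a ≠ 1) :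
    ∃ b ∈ zpowers a, b * b = 1 ∧ b ≠ 1 := by
  obtain ⟨k, hk⟩ := h ⟨a, mem_zpowers a⟩
  have hk' : a ^ 2 ^ k = 1 := by
    have := congrArg (fun x : zpowers a => (x : G)) hk
    simpa using this
  clear hk
  induction k with
  | zero =>
    rw [pow_zero, pow_one] at hk'
    exact absurd hk' ha
  | succ k ih =>
    by_cases h1 : a ^ 2 ^ k = 1
    · exact ih h1
    · refine ⟨a ^ 2 ^ k, pow_mem (mem_zpowers a) _, ?_, h1⟩
      rw [← pow_add, ← two_mul, ← pow_succ']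
      exact hk'

namespace Frame

variable {Z : Set G} {K : G → Subgroup G} {X : G → Set G}

theorem inv_eq (h : Frame Z K X) {z : G} (hz : z ∈ Z) : z⁻¹ = z :=
  inv_eq_of_mul_eq_one_right (h.sq z hz)

theorem pg (h : Frame Z K X) {z : G} (hz : z ∈ Z) : IsPGroup 2 (zpowers z) :=
  isPGroup_zpowers_of_sq (h.sq z hz)

theorem z_mem [Finite G] (h : Frame Z K X) {z : G} {S : Subgroup G} (a : At Z z S) : z ∈ S :=
  mem_syl_of_comm a.syl (h.pg a.mem) (mem_top z) (fun t ht => (a.cent t ht).symm)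

/-- conjugation by elements commuting with `z` -/
theorem K_conj (h : Frame Z K X) {z : G} (hz : z ∈ Z) {g k : G} (hg : g * z = z * g)
    (hk : k ∈ K z) : g * k * g⁻¹ ∈ K z := by
  have := h.K_cj z hz g k hk
  rwa [conj_of_mul_comm hg] at this

theorem X_conj (h : Frame Z K X) {z : G} (hz : z ∈ Z) {g k : G} (hg : g * z = z * g)
    (hk : k ∈ X z) : g * k * g⁻¹ ∈ X z := by
  have := h.X_cj z hz g k hk
  rwa [conj_of_mul_comm hg] at this

/-- every 2-subgroup of `C(z)` is contained in a Sylow 2-subgroup of `G` centralising `z` -/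
theorem lift [Finite G] (h : Frame Z K X) {z : G} (hz : z ∈ Z) {P : Subgroup G} (hP : IsPGroup 2 P)
    (hPz : ∀ p ∈ P, p * z = z * p) : ∃ S, At Z z S ∧ P ≤ S := by
  obtain ⟨S₀, hS₀, hc⟩ := h.big z hz
  have hS₀' : S₀ ≤ centralizer {z} := fun s hs => mem_centralizer_singleton_iff.2 (hc s hs)
  have hP' : P ≤ centralizer {z} := fun s hs => mem_centralizer_singleton_iff.2 (hPz s hs)
  have h1 := OneBasic.syl_of_le hS₀ hS₀' le_top
  obtain ⟨T, hT, hPT⟩ := OneBasic.exists_syl_ge hP hP'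
  obtain ⟨c, hc', hcT⟩ := h1.exists_conj hT
  have h2 : Syl (cj c S₀) (cj c ⊤) := hS₀.cj c
  have h3 : cj c (⊤ : Subgroup G) = ⊤ := by
    ext x; simp [mem_cj]
  rw [h3, hcT] at h2
  exact ⟨T, ⟨hz, h2, fun s hs => mem_centralizer_singleton_iff.1 (hT.1 hs)⟩, hPT⟩

theorem lift_two [Finite G] (h : Frame Z K X) {z a b : G} (hz : z ∈ Z) (ha : IsPGroup 2 (zpowers a))
    (hb : IsPGroup 2 (zpowers b)) (haz : a * z = z * a) (hbz : b * z = z * b) (hab : a * b = b * a) :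
    ∃ S, At Z z S ∧ a ∈ S ∧ b ∈ S := by
  obtain ⟨S, hS, hle⟩ := h.lift hz (isPGroup_sup_of_comm ha hb hab) (by
    intro p hp
    have h1 : zpowers a ⊔ zpowers b ≤ centralizer {z} := by
      apply sup_le
      · rw [zpowers_le]; exact mem_centralizer_singleton_iff.2 haz
      · rw [zpowers_le]; exact mem_centralizer_singleton_iff.2 hbz
    exact mem_centralizer_singleton_iff.1 (h1 hp))
  exact ⟨S, hS, hle (mem_sup_left (mem_zpowers a)), hle (mem_sup_right (mem_zpowers b))⟩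

/-- every Sylow 2-subgroup of `G` centralises an element of `Z` -/
theorem exists_at [Finite G] (h : Frame Z K X) {z : G} (hz : z ∈ Z) {S : Subgroup G}
    (hS : Syl S ⊤) : ∃ z₁, At Z z₁ S := by
  obtain ⟨S₀, hS₀, hc⟩ := h.big z hz
  obtain ⟨g, -, hg⟩ := hS₀.exists_conj hS
  refine ⟨g * z * g⁻¹, h.conj z hz g, hS, ?_⟩
  intro s hs
  rw [← hg, mem_cj] at hs
  have h3 := hc _ hs
  calc s * (g * z * g⁻¹) = g * ((g⁻¹ * s * g) * z) * g⁻¹ := by group
    _ = g * (z * (g⁻¹ * s * g)) * g⁻¹ := by rw [h3]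
    _ = (g * z * g⁻¹) * s := by group

/-- `D = S ∩ X z` -/
def D [Finite G] (h : Frame Z K X) {z : G} {S : Subgroup G} (a : At Z z S) : Subgroup G where
  carrier := {s | s ∈ S ∧ s ∈ X z}
  one_mem' := by
    refine ⟨S.one_mem, ?_⟩
    have := h.X_mul z S a z (h.z_mem a) (h.zX z a.mem) z (h.z_mem a) (h.zX z a.mem)
    rwa [h.sq z a.mem] at this
  mul_mem' := by
    rintro s t ⟨hs, hs'⟩ ⟨ht, ht'⟩
    exact ⟨S.mul_mem hs ht, h.X_mul z S a s hs hs' t ht ht'⟩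
  inv_mem' := by
    rintro s ⟨hs, hs'⟩
    exact ⟨S.inv_mem hs, h.X_inv z S a s hs hs'⟩

theorem mem_D [Finite G] (h : Frame Z K X) {z : G} {S : Subgroup G} (a : At Z z S) {s : G} :
    s ∈ h.D a ↔ s ∈ S ∧ s ∈ X z := Iff.rfl

end Frame

namespace At

variable {Z : Set G} {z : G} {S : Subgroup G}

theorem pg (a : At Z z S) : IsPGroup 2 S := a.syl.2.1

theorem pgz (a : At Z z S) {s : G} (hs : s ∈ S) : IsPGroup 2 (zpowers s) :=
  isPGroup_zpowers_of_mem a.pg hs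

end At

end Cfsg.Agent.GH.QGFrame
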