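import Cfsg.Agent.GH.QGFrame

/-!
# GH-Q, scenario B, world gamma: fusion of `Z` and the subgroup `F`
-/

set_option autoImplicit false

namespace Cfsg.Agent.GH.QGamma

open Subgroup Cfsg.Agent.Cit Cfsg.Agent.GH.QSd Cfsg.Agent.GH.QGFrame

variable {G : Type*} [Group G] [Finite G] {Z : Set G} {K : G → Subgroup G} {X : G → Set G}

section

variable (h : Gamma Z K X) {z y : G} {S : Subgroup G} (a : At Z z S) (hy : y ∈ Z) (hyS : y ∈ S)
  (hyz : y ≠ z)

include h a hy hyS hyz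

/-- semidihedral coordinates -/
theorem exists_sd' : ∃ c v n, SD (S ⊓ K z) c v z y n := by
  refine exists_sd (h.quat z a.mem S a.syl a.cent) ⟨h.z_mem a, h.zK z a.mem⟩ (h.sq z a.mem)
    (h.ne z a.mem) (h.sq y hy) ?_ ?_
  · rintro q ⟨hqS, hqK⟩
    exact ⟨S.mul_mem (S.mul_mem hyS hqS) (S.inv_mem hyS), h.K_conj a.mem (a.cent y hyS) hqK⟩
  · rintro q ⟨hqS, hqK⟩ hc
    exact h.cent z S a y hy hyS hyz q hqS hqK hc

end

section

variable (h : Gamma Z K X) {z : G} {S : Subgroup G} (a : At Z z S)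

include h a

/-- an element of `Z` in `Q D` is `z` (if there is another element of `Z` in `S`) -/
theorem not_mem_qd {u : G} (hu : u ∈ Z) {q d : G} (hqS : q ∈ S)
    (hqK : q ∈ K z) (hdS : d ∈ S) (hdX : d ∈ X z) (e : u = q * d) : u = z := by
  by_contra hne
  have huS : u ∈ S := e ▸ S.mul_mem hqS hdS
  have hqd := h.comm z a.mem S a.pg q hqS hqK d hdS hdX
  have hc : q * u = u * q := by rw [e, mul_assoc, hqd, ← mul_assoc, mul_assoc]
  have hXz : u ∈ X z := by
    rcases h.cent z S a u hu huS hne q hqS hqK hc with rfl | rfl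
    · rw [e, one_mul]; exact hdX
    · rw [e]; exact h.X_mul q S a q hqS (h.zX q a.mem) d hdS hdX
  exact hne (h.scen z a.mem u hu hXz)

/-- the element `x` of order four -/
theorem exists_x' {y : G} (hy : y ∈ Z) (hyS : y ∈ S) (hyz : y ≠ z) :
    ∃ x ∈ S, x ∈ K z ∧ x * x = z ∧ x * y * x⁻¹ = y * z ∧
      ∀ t ∈ S, t * y = y * t → (∃ q ∈ S, q ∈ K z ∧ ∃ d ∈ S, d ∈ X z ∧
        (t = q * d ∧ x * t * x⁻¹ = t ∨ t = q * d * y ∧ x * t * x⁻¹ = t * z)) := by
  obtain ⟨c, v, n, hsd⟩ := exists_sd' h a hy hyS hyz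
  obtain ⟨x, ⟨hxS, hxK⟩, hxx, hxy, hall⟩ := hsd.exists_x
  have hzz := h.sq z a.mem
  have hyy := h.sq y hy
  have hyi := h.inv_eq hy
  have hzi := h.inv_eq a.mem
  have hzx := a.cent x hxS
  have hzy := a.cent y hyS
  have hyx : y * x = x * z * y := by rw [← hxy]; group
  have hxyx : x * y * x⁻¹ = y * z := by
    rw [mul_inv_eq_iff_eq_mul]
    calc x * y = x * y * (z * z) := by rw [hzz, mul_one]
      _ = x * (y * z) * z := by group
      _ = x * (z * y) * z := by rw [hzy]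
      _ = (x * z * y) * z := by group
      _ = (y * x) * z := by rw [← hyx]
      _ = y * (x * z) := by group
      _ = y * (z * x) := by rw [hzx]
      _ = y * z * x := by group
  refine ⟨x, hxS, hxK, hxx, hxyx, ?_⟩
  intro t htS hty
  obtain ⟨q, hqS, hqK, d, hdS, hdX, ht⟩ := h.cover z S a y hy hyS hyz t htS
  refine ⟨q, hqS, hqK, d, hdS, hdX, ?_⟩
  -- `q d` commutes with `y`
  have h1 : (q * d) * y = y * (q * d) := by
    rcases ht with rfl | rfl
    · exact hty
    · have h2 : q * d * y * y = y * (q * d) * y := by rw [hty]; group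
      exact mul_right_cancel h2
  have h2 : (y * q * y⁻¹) * (y * d * y⁻¹) = q * d := by
    calc (y * q * y⁻¹) * (y * d * y⁻¹) = y * (q * d) * y⁻¹ := by group
      _ = q * d := by rw [← h1, mul_inv_cancel_right]
  have h3 : q⁻¹ * (y * q * y⁻¹) = d * (y * d * y⁻¹)⁻¹ := by
    rw [inv_mul_eq_iff_eq_mul, ← mul_assoc, eq_mul_inv_iff_mul_eq]; exact h2
  have h4 : q⁻¹ * (y * q * y⁻¹) ∈ K z :=
    (K z).mul_mem ((K z).inv_mem hqK) (h.K_conj a.mem hzy hqK)
  have h5 : q⁻¹ * (y * q * y⁻¹) ∈ X z := by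
    rw [h3]
    exact ((h.D a).mul_mem ⟨hdS, hdX⟩ ((h.D a).inv_mem
      ⟨S.mul_mem (S.mul_mem hyS hdS) (S.inv_mem hyS), h.X_conj a.mem hzy hdX⟩)).2
  have h6 : q⁻¹ * (y * q * y⁻¹) ∈ S :=
    S.mul_mem (S.inv_mem hqS) (S.mul_mem (S.mul_mem hyS hqS) (S.inv_mem hyS))
  have h7 : y * q * y⁻¹ = q ∨ y * q * y⁻¹ = q * z := by
    rcases h.inf z a.mem _ (a.pgz h6) h4 h5 with h8 | h8
    · left; rw [inv_mul_eq_one] at h8; exact h8.symm
    · right; rw [inv_mul_eq_iff_eq_mul] at h8; exact h8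
  have hxq : x * q = q * x := by
    rcases hall q ⟨hqS, hqK⟩ h7 with rfl | rfl | rfl | rfl
    · simp
    · exact hzx
    · rfl
    · rw [mul_assoc, ← hzx]
  have hxd : x * d = d * x := h.comm z a.mem S a.pg x hxS hxK d hdS hdX
  have hxqd : x * (q * d) * x⁻¹ = q * d := by
    rw [mul_inv_eq_iff_eq_mul, ← mul_assoc, hxq, mul_assoc, hxd, ← mul_assoc]
  rcases ht with rfl | rfl
  · exact Or.inl ⟨rfl, hxqd⟩
  · refine Or.inr ⟨rfl, ?_⟩
    calc x * (q * d * y) * x⁻¹ = (x * (q * d) * x⁻¹) * (x * y * x⁻¹) := by group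
      _ = q * d * y * z := by rw [hxqd, hxyx]; group

end

section

variable (h : Gamma Z K X) {z y : G} (hz : z ∈ Z) (hy : y ∈ Z) (hyz : y ≠ z) (hc : y * z = z * y)

include h hz hy hyz hc

/-- a triple of commuting elements of `Z` -/
theorem eq_of_comm {u : G} (hu : u ∈ Z) (huz : u * z = z * u) (huy : u * y = y * u) :
    u = z ∨ u = y ∨ u = z * y := by
  obtain ⟨S, a, hyS, huS⟩ := h.lift_two hz (h.pg hy) (h.pg hu) hc huz huy.symm
  obtain ⟨S', a', hzS', huS'⟩ := h.lift_two hy (h.pg hz) (h.pg hu) hc.symm huy huz.symm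
  obtain ⟨x, hxS, hxK, hxx, hxy, hx⟩ := exists_x' h a hy hyS hyz
  obtain ⟨x', hxS', hxK', hxx', hxy', hx'⟩ := exists_x' h a' hz hzS' hyz.symm
  obtain ⟨q, hqS, hqK, d, hdS, hdX, ht⟩ := hx u huS huy
  obtain ⟨q', hqS', hqK', d', hdS', hdX', ht'⟩ := hx' u huS' huz
  rcases ht with ⟨ht, -⟩ | ⟨ht, -⟩
  · left
    exact not_mem_qd h a hu hqS hqK hdS hdX ht
  rcases ht' with ⟨ht', -⟩ | ⟨-, ht'⟩
  · right; left
    exact not_mem_qd h a' hu hqS' hqK' hdS' hdX' ht'
  · right; right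
    have h1 : u * y ∈ Z := by rw [← ht']; exact h.conj u hu x'
    have h2 : u * y = q * d := by rw [ht, mul_assoc, h.sq y hy, mul_one]
    have h3 := not_mem_qd h a h1 hqS hqK hdS hdX h2
    calc u = u * y * y := by rw [mul_assoc, h.sq y hy, mul_one]
      _ = z * y := by rw [h3]

/-- an element centralised by elements like `x'` -/
theorem mem_X_aux {t x' : G} (ht2 : IsPGroup 2 (zpowers t)) (htX : t ∈ X z) (hty : t * y = y * t)
    (hxz : x' * z * x'⁻¹ = z * y) (hxt : x' * t * x'⁻¹ = t) : t ∈ X y := by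
  obtain ⟨S, a, hyS, htS⟩ := h.lift_two hz (h.pg hy) ht2 hc (h.X_comm z hz t htX) hty.symm
  obtain ⟨x, hxS, hxK, hxx, hxy, hx⟩ := exists_x' h a hy hyS hyz
  have hxt' : x * t * x⁻¹ = t := conj_of_mul_comm (h.comm z hz S a.pg x hxS hxK t htS htX)
  have h1 : t ∈ X (z * y) := by
    have := h.X_cj z hz x' t htX
    rwa [hxz, hxt] at this
  have hzy : z * y ∈ Z := by rw [← hxz]; exact h.conj z hz x'
  have h2 := h.X_cj (z * y) hzy x t h1
  have h3 : x * (z * y) * x⁻¹ = y := by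
    have h4 := a.cent x hxS
    calc x * (z * y) * x⁻¹ = (x * z) * y * x⁻¹ := by group
      _ = (z * x) * y * x⁻¹ := by rw [h4]
      _ = z * (x * y * x⁻¹) := by group
      _ = z * (y * z) := by rw [hxy]
      _ = z * (z * y) := by rw [hc]
      _ = y := by rw [← mul_assoc, h.sq z hz, one_mul]
  rwa [h3, hxt'] at h2

/-- `D₀ = ⟨z⟩ F` -/
theorem mem_X_or {t : G} (ht2 : IsPGroup 2 (zpowers t)) (htX : t ∈ X z) (hty : t * y = y * t) :
    t ∈ X y ∨ t * z ∈ X y := by
  have htz := h.X_comm z hz t htX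
  obtain ⟨S', a', hzS', htS'⟩ := h.lift_two hy (h.pg hz) ht2 hc.symm hty htz.symm
  obtain ⟨x', hxS', hxK', hxx', hxy', hx'⟩ := exists_x' h a' hz hzS' hyz.symm
  obtain ⟨q', hqS', hqK', d', hdS', hdX', ht'⟩ := hx' t htS' htz
  have h1 : x' * t * x'⁻¹ = t ∨ x' * t * x'⁻¹ = t * y := by
    rcases ht' with ⟨-, h2⟩ | ⟨-, h2⟩
    · exact Or.inl h2
    · exact Or.inr h2
  rcases h1 with h1 | h1
  · left
    exact mem_X_aux h hz hy hyz hc ht2 htX hty hxy' h1
  · right
    have htz2 : IsPGroup 2 (zpowers (t * z)) :=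
      isPGroup_zpowers_of_mem (isPGroup_sup_of_comm ht2 (h.pg hz) htz)
        (mul_mem (mem_sup_left (mem_zpowers t)) (mem_sup_right (mem_zpowers z)))
    obtain ⟨S, a, -, htS⟩ := h.lift_two hz (h.pg hy) ht2 hc htz hty.symm
    refine mem_X_aux h hz hy hyz hc htz2
      (h.X_mul z S a t htS htX z (h.z_mem a) (h.zX z hz)) ?_ hxy' ?_
    · rw [mul_assoc, ← hc, ← mul_assoc, hty, mul_assoc]
    · calc x' * (t * z) * x'⁻¹ = (x' * t * x'⁻¹) * (x' * z * x'⁻¹) := by group
        _ = t * y * (z * y) := by rw [h1, hxy']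
        _ = t * (y * (y * z)) := by rw [hc]; group
        _ = t * z := by rw [← mul_assoc y, h.sq y hy, one_mul]

/-- `F ≤ X (z z')` -/
theorem mem_X_mul {t : G} (ht2 : IsPGroup 2 (zpowers t)) (htX : t ∈ X z) (htX' : t ∈ X y) :
    z * y ∈ Z ∧ t ∈ X (z * y) := by
  obtain ⟨S, a, hyS, htS⟩ := h.lift_two hz (h.pg hy) ht2 hc (h.X_comm z hz t htX)
    (h.X_comm y hy t htX').symm
  obtain ⟨x, hxS, hxK, hxx, hxy, hx⟩ := exists_x' h a hy hyS hyz
  have hxt' : x * t * x⁻¹ = t := conj_of_mul_comm (h.comm z hz S a.pg x hxS hxK t htS htX)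
  rw [hc] at hxy
  refine ⟨?_, ?_⟩
  · rw [← hxy]; exact h.conj y hy x
  · have := h.X_cj y hy x t htX'
    rwa [hxy, hxt'] at this

end

/-- (4) all elements of `Z ∩ S ∖ {z}` are conjugate under `S ∩ K z` -/
theorem exists_conj_Q (h : Gamma Z K X) {z : G} {S : Subgroup G} (a : At Z z S) {y u : G}
    (hy : y ∈ Z) (hyS : y ∈ S) (hyz : y ≠ z) (hu : u ∈ Z) (huS : u ∈ S) (huz : u ≠ z) :
    ∃ k ∈ S, k ∈ K z ∧ k * y * k⁻¹ = u := by
  obtain ⟨c, v, n, hsd⟩ := exists_sd' h a hy hyS hyz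
  obtain ⟨x, ⟨hxS, hxK⟩, hxx, hxy, -⟩ := hsd.exists_x
  have hz := a.mem
  have hzz := h.sq z hz
  have hyy := h.sq y hy
  have huu := h.sq u hu
  have hyi := h.inv_eq hy
  have hzi := h.inv_eq hz
  have hzS := h.z_mem a
  have hyc := a.cent y hyS
  -- `u = q d y`
  obtain ⟨q, hqS, hqK, d, hdS, hdX, he⟩ := h.cover z S a y hy hyS hyz u huS
  have he : u = q * d * y := by
    rcases he with he | he
    · exact absurd (not_mem_qd h a hu hqS hqK hdS hdX he) huz
    · exact he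
  have hyq : y * q * y⁻¹ ∈ K z := h.K_conj hz hyc hqK
  have hyqS : y * q * y⁻¹ ∈ S := S.mul_mem (S.mul_mem hyS hqS) (S.inv_mem hyS)
  have hyd : y * d * y⁻¹ ∈ X z := h.X_conj hz hyc hdX
  have hydS : y * d * y⁻¹ ∈ S := S.mul_mem (S.mul_mem hyS hdS) (S.inv_mem hyS)
  have h1 : (q * (y * q * y⁻¹)) * (d * (y * d * y⁻¹)) = 1 := by
    have h2 : d * (y * q * y⁻¹) = (y * q * y⁻¹) * d :=
      (h.comm z hz S a.pg _ hyqS hyq d hdS hdX).symm
    calc (q * (y * q * y⁻¹)) * (d * (y * d * y⁻¹)) = q * ((y * q * y⁻¹) * d) * (y * d * y⁻¹) := by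
          group
      _ = q * (d * (y * q * y⁻¹)) * (y * d * y⁻¹) := by rw [h2]
      _ = (q * d * y) * (q * d * y) * (y⁻¹ * y⁻¹) := by group
      _ = (q * d * y) * (q * d * y) := by rw [hyi, hyy, mul_one]
      _ = 1 := by rw [← he, huu]
  have h2 : q * (y * q * y⁻¹) = 1 ∨ q * (y * q * y⁻¹) = z := by
    have h3 : q * (y * q * y⁻¹) = (d * (y * d * y⁻¹))⁻¹ := eq_inv_of_mul_eq_one_left h1
    refine h.inf z hz _ (a.pgz (S.mul_mem hqS hyqS)) ((K z).mul_mem hqK hyq) ?_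
    rw [h3]
    exact ((h.D a).inv_mem ((h.D a).mul_mem ⟨hdS, hdX⟩ ⟨hydS, hyd⟩)).2
  obtain ⟨h3, k, ⟨hkS, hkK⟩, hk⟩ := hsd.exists_conj (q := q) ⟨hqS, hqK⟩ h2
  -- `y` inverts `d`
  have hinv : y * d * y⁻¹ = d⁻¹ := by
    rw [h3, one_mul] at h1
    exact eq_inv_of_mul_eq_one_right h1
  have hyd' : y * d = d⁻¹ * y := by rw [← hinv]; group
  have hdy : d * y = y * d⁻¹ := by
    have h4 : y * d⁻¹ * y⁻¹ = d := by
      have := congrArg (·⁻¹) hinv
      simp only [mul_inv_rev, inv_inv] at this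
      rw [mul_assoc]; exact this
    rw [← h4]
    calc y * d⁻¹ * y⁻¹ * y = y * d⁻¹ := by group
      _ = y * (y * d⁻¹ * y⁻¹)⁻¹ := by rw [h4]
  -- `u ~ y d⁻¹`
  have hkd := h.comm z hz S a.pg k hkS hkK d hdS hdX
  have hud : k⁻¹ * u * k = y * d⁻¹ := by
    have h4 : u = (q * y) * d⁻¹ := by rw [he, mul_assoc, hdy, ← mul_assoc]
    have h5 : k * d⁻¹ = d⁻¹ * k := ((show Commute k d from hkd).inv_right).eq
    calc k⁻¹ * u * k = k⁻¹ * ((q * y) * d⁻¹) * k := by rw [← h4]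
      _ = k⁻¹ * (k * y * k⁻¹ * d⁻¹) * k := by rw [hk]
      _ = y * k⁻¹ * (d⁻¹ * k) := by group
      _ = y * k⁻¹ * (k * d⁻¹) := by rw [h5]
      _ = y * d⁻¹ := by group
  have hydZ : y * d⁻¹ ∈ Z := by
    rw [← hud]
    have := h.conj u hu k⁻¹
    rwa [inv_inv] at this
  -- `y d^i` lies in `Z` for all `i`
  have hydi : ∀ i : ℤ, y * d ^ i * y⁻¹ = d ^ (-i) := by
    intro i
    rw [← _root_.conj_zpow, hinv, inv_zpow, zpow_neg]
  have hyi' : ∀ i : ℤ, d ^ i * y = y * d ^ (-i) := by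
    intro i
    have := hydi (-i)
    rw [neg_neg] at this
    rw [← this]; group
  have hall : ∀ i : ℤ, y * d ^ i ∈ Z := by
    intro i
    rcases Int.even_or_odd' i with ⟨j, rfl | rfl⟩
    · have h4 := h.conj y hy (d ^ (-j))
      have h5 : d ^ (-j) * y * (d ^ (-j))⁻¹ = y * d ^ (2 * j) := by
        rw [hyi', neg_neg, ← zpow_neg, neg_neg, mul_assoc, ← zpow_add]
        congr 2; ring
      rwa [h5] at h4
    · have h4 := h.conj _ hydZ (d ^ (-j - 1))
      have h5 : d ^ (-j - 1) * (y * d⁻¹) * (d ^ (-j - 1))⁻¹ = y * d ^ (2 * j + 1) := by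
        rw [← mul_assoc, hyi', ← zpow_neg, ← zpow_neg_one, mul_assoc, mul_assoc, ← zpow_add,
          ← zpow_add]
        congr 2; ring
      rwa [h5] at h4
  -- the case `d² = 1`
  have hdd : d * d = 1 := by
    by_contra hdd
    -- an element `e` of `⟨d⟩` of order four
    have hd2 : IsPGroup 2 (zpowers (d * d)) := a.pgz (S.mul_mem hdS hdS)
    obtain ⟨b, hb, hbb, hb1⟩ := exists_involution hd2 hdd
    obtain ⟨i, rfl⟩ := mem_zpowers_iff.1 hb
    have e1 : (d * d) ^ i = d ^ i * d ^ i := (Commute.refl d).mul_zpow i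
    set e := d ^ i with hedef
    have heS : e ∈ S := S.zpow_mem hdS _
    have heD : e ∈ h.D a := (h.D a).zpow_mem ⟨hdS, hdX⟩ _
    have heX : e ∈ X z := heD.2
    have hzD : z ∈ h.D a := ⟨hzS, h.zX z hz⟩
    rw [e1] at hbb hb1
    -- `y e²` commutes with `y` and lies in `Z`
    have h4 : y * (e * e) ∈ Z := by
      have := hall (i + i)
      rwa [zpow_add] at this
    have hyee : y * (e * e) = (e * e) * y := by
      have h5 := hyi' (i + i)
      rw [zpow_add, ← hedef] at h5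
      have h6 : d ^ (-(i + i)) = e * e := by
        rw [zpow_neg, zpow_add, ← hedef, inv_eq_iff_mul_eq_one]
        exact hbb
      rw [h6] at h5
      exact h5.symm
    have h5 : y * (e * e) * y = y * (y * (e * e)) := by rw [mul_assoc, ← hyee]
    have h6 : (y * (e * e)) * z = z * (y * (e * e)) :=
      a.cent _ (S.mul_mem hyS (S.mul_mem heS heS))
    have hyX : y ∉ X z := fun hX => hyz (h.scen z hz y hy hX)
    have heez : e * e = z := by
      rcases eq_of_comm h hz hy hyz hyc h4 h6 h5 with h7 | h7 | h7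
      · exfalso
        apply hyX
        have h8 : y = z * (e * e)⁻¹ := eq_mul_inv_of_mul_eq h7
        rw [h8]
        exact ((h.D a).mul_mem hzD ((h.D a).inv_mem ((h.D a).mul_mem heD heD))).2
      · exact absurd (mul_eq_left.1 h7) hb1
      · rw [← hyc] at h7
        exact mul_left_cancel h7
    -- `y e ∈ Z`, conjugate to `x y e`
    have h7 : y * e ∈ Z := hall i
    have hxq : x * (y * x * y⁻¹) = 1 := by
      rw [hxy, ← mul_assoc, hxx, hzz]
    obtain ⟨-, k', ⟨hk'S, hk'K⟩, hk'⟩ := hsd.exists_conj (q := x) ⟨hxS, hxK⟩ (Or.inl hxq)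
    have hk'e := h.comm z hz S a.pg k' hk'S hk'K e heS heX
    have h8 : k' * (y * e) * k'⁻¹ = x * y * e := by
      have h9 : e * k'⁻¹ = k'⁻¹ * e := ((show Commute k' e from hk'e).inv_left).eq.symm
      calc k' * (y * e) * k'⁻¹ = k' * y * (e * k'⁻¹) := by group
        _ = k' * y * (k'⁻¹ * e) := by rw [h9]
        _ = (k' * y * k'⁻¹) * e := by group
        _ = x * y * e := by rw [hk']
    have h9 : x * y * e ∈ Z := by rw [← h8]; exact h.conj _ h7 k'
    have heS' : x * y * e ∈ S := S.mul_mem (S.mul_mem hxS hyS) heS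
    have hyx : y * x = x * z * y := by rw [← hxy]; group
    have hey : e * y = y * e * z := by
      have h5' := hyi' i
      rw [← hedef] at h5'
      have h6' : d ^ (-i) = e * z := by
        rw [zpow_neg, ← hedef, inv_eq_iff_mul_eq_one, ← mul_assoc, heez, hzz]
      rw [h5', h6', mul_assoc]
    have h10 : (x * y * e) * y = y * (x * y * e) := by
      have hze := a.cent e heS
      calc (x * y * e) * y = x * y * (e * y) := by group
        _ = x * y * (y * e * z) := by rw [hey]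
        _ = x * (y * y) * e * z := by group
        _ = x * (e * z) := by rw [hyy]; group
        _ = x * (z * e) := by rw [hze]
        _ = x * z * (y * y) * e := by rw [hyy]; group
        _ = (x * z * y) * y * e := by group
        _ = (y * x) * y * e := by rw [← hyx]
        _ = y * (x * y * e) := by group
    -- so `x y e ∈ {z, y, z y}`
    have h11 : e ∈ K z := by
      rcases eq_of_comm h hz hy hyz hyc h9 (a.cent _ heS') h10 with h12 | h12 | h12
      · exfalso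
        have h13 : y = x⁻¹ * (z * e⁻¹) := by
          rw [← h12]; group
        have h14 := (h.D a).mul_mem hzD ((h.D a).inv_mem heD)
        exact hyz (not_mem_qd h a hy (S.inv_mem hxS) ((K z).inv_mem hxK) h14.1 h14.2 h13)
      · have h13 : e = y⁻¹ * x⁻¹ * y := by
          have : y⁻¹ * x⁻¹ * y = y⁻¹ * x⁻¹ * (x * y * e) := by rw [h12]
          rw [this]; group
        rw [h13]
        have h14 : y⁻¹ * x⁻¹ * y = y * x⁻¹ * y⁻¹ := by rw [hyi]
        rw [h14]
        exact h.K_conj hz hyc ((K z).inv_mem hxK)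
      · have h13 : e = (y⁻¹ * x⁻¹ * y) * z := by
          have : (y⁻¹ * x⁻¹ * y) * z = y⁻¹ * x⁻¹ * (x * y * e) := by
            rw [h12, ← hyc]; group
          rw [this]; group
        rw [h13]
        have h14 : y⁻¹ * x⁻¹ * y = y * x⁻¹ * y⁻¹ := by rw [hyi]
        rw [h14]
        exact (K z).mul_mem (h.K_conj hz hyc ((K z).inv_mem hxK)) (h.zK z hz)
    rcases h.inf z hz e (a.pgz heS) h11 heX with h12 | h12
    · apply hb1; rw [h12, mul_one]
    · apply hb1; rw [h12]; exact hzz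
  -- `y d⁻¹` commutes with `y`
  have hdi : d⁻¹ = d := inv_eq_of_mul_eq_one_right hdd
  rw [hdi] at hud hydZ
  rw [hdi] at hdy
  have h4 : (y * d) * y = y * (y * d) := by rw [mul_assoc, hdy]
  have h5 := a.cent _ (S.mul_mem hyS hdS)
  have h6 : u = k * (y * d) * k⁻¹ := by rw [← hud]; group
  have hyX : y ∉ X z := fun hX => hyz (h.scen z hz y hy hX)
  rcases eq_of_comm h hz hy hyz hyc hydZ h5 h4 with h7 | h7 | h7
  · exfalso
    apply hyX
    rw [eq_mul_inv_of_mul_eq h7]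
    exact ((h.D a).mul_mem ⟨hzS, h.zX z hz⟩ ((h.D a).inv_mem ⟨hdS, hdX⟩)).2
  · exact ⟨k, hkS, hkK, by rw [h6, h7]⟩
  · refine ⟨k * x, S.mul_mem hkS hxS, (K z).mul_mem hkK hxK, ?_⟩
    have hyx : y * x = x * z * y := by rw [← hxy]; group
    have hzx := a.cent x hxS
    have h8 : x * y * x⁻¹ = z * y := by
      rw [mul_inv_eq_iff_eq_mul]
      calc x * y = (z * z) * (x * y) := by rw [hzz, one_mul]
        _ = z * (z * x) * y := by group
        _ = z * (x * z) * y := by rw [hzx]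
        _ = z * (x * z * y) := by group
        _ = z * (y * x) := by rw [← hyx]
        _ = z * y * x := by group
    calc k * x * y * (k * x)⁻¹ = k * (x * y * x⁻¹) * k⁻¹ := by group
      _ = u := by rw [h8, h6, h7]

end Cfsg.Agent.GH.QGamma
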