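import Cfsg.Agent.GH.XSet
import Cfsg.Agent.GH.Comp
import Cfsg.Agent.GH.QADefs
import Cfsg.Agent.GH.L2FourOC
import Cfsg.Agent.S0215
import Cfsg.Agent.S1180

/-!
# GH-Q (I): the extra 2-component `J` of `C(z)` (board GH #6409), basic facts

* `fixes_or_conj`: Z* relative to a subgroup.  `lemmaI`, `alpha`, `nu`: commuting `a ≠ b` in `QC`.
* `three`: three 2-components of `H`.
-/

set_option autoImplicit false

open Cfsg Subgroup
open Cfsg.Agent.SignalizersComponents Cfsg.Agent.Lib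
open Cfsg.Agent.SignalizersComponents.IntrinsicBasic
open Cfsg.Agent.SignalizersComponents.PLayerAut
open Cfsg.Agent.Intrinsic.Basic Cfsg.Agent.Intrinsic.Cen
open Cfsg.Agent.GH.Defs Cfsg.Agent.GH.Rank Cfsg.Agent.GH.Comp Cfsg.Agent.GH.XSet
open Cfsg.Agent.GH.L2FourOC Cfsg.Agent.GH.QA
open scoped commutatorElement

namespace Cfsg.Agent.GH.QJ

variable {G : Type*} [Group G]

/-! ### basic facts on `QC` -/

section defs

variable {z : G} {K : Subgroup G}

theorem sq_of (h : QC z K) : z * z = 1 := Comp2.sq h.comp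

theorem ne_one_of (h : QC z K) : z ≠ 1 := Comp2.ne_one h.comp

theorem isComp_of (h : QC z K) : IsComp (centralizer ({z} : Set G)) K := h.comp.comp

theorem QC_cj (h : QC z K) (g : G) : QC (g * z * g⁻¹) (cj g K) :=
  ⟨Comp2.cj h.comp g, conj_mem_cj h.mem⟩

theorem cj_eq (h : Frame G) (hK : QC z K) {g : G} (hg : Commute g z) : cj g K = K := by
  have h1 := QC_cj hK g
  have h2 : g * z * g⁻¹ = z := by rw [hg.eq]; group
  rw [h2] at h1
  exact h.one z _ _ h1.comp hK.comp h1.mem hK.mem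

theorem mem_normalizer (h : Frame G) (hK : QC z K) {g : G} (hg : Commute g z) :
    g ∈ normalizer (K : Set G) :=
  mem_normalizer_iff_cj.mpr (cj_eq h hK hg)

theorem comm_of (h : QC z K) {k : G} (hk : k ∈ K) : Commute k z :=
  mem_centralizer_singleton_iff.mp (h.comp.comp.le hk)

end defs

variable [Finite G]

theorem qtK (h : Frame G) {z : G} {K : Subgroup G} (hK : QC z K) : QT K :=
  h.even_qt z K hK.comp (evenCenter_of_mem hK.comp hK.mem)

/-! ### Z* relative to a subgroup -/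

/-- Z*: an involution commuting with none of its other conjugates. -/
theorem zstar {H : Type*} [Group H] [Finite H] {z : H} (hz : z * z = 1)
    (hiso : ∀ g : H, Commute z (g * z * g⁻¹) → g * z * g⁻¹ = z) :
    ∃ N : Subgroup H, N.Normal ∧ Odd (Nat.card N) ∧ ∀ g : H, z * g * z⁻¹ * g⁻¹ ∈ N := by
  classical
  by_cases hz1 : z = 1
  · refine ⟨⊥, inferInstance, by simp, fun g => ?_⟩
    subst hz1
    simp
  have : Fact (Nat.Prime 2) := ⟨Nat.prime_two⟩
  have ho : orderOf z = 2 := orderOf_eq_prime (by rw [pow_two, hz]) hz1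
  have hiso' : Cfsg.IsIsolatedInvolution z := ⟨ho, fun g hg => hiso g hg⟩
  have hp : IsPGroup 2 (zpowers z) := by
    rw [IsPGroup.iff_card]
    exact ⟨1, by rw [Nat.card_zpowers, ho, pow_one]⟩
  obtain ⟨P, hP⟩ := hp.exists_le_sylow
  have hzP : z ∈ P := hP (mem_zpowers z)
  exact Cfsg.Agent.S0215.result P z ho hzP fun g hg =>
    Cfsg.Agent.S1180.eq_of_conj_mem_isPGroup z hiso' (P : Subgroup H) P.isPGroup' hzP g hg

omit [Finite G] in
theorem conj_mem_of_norm {K : Subgroup G} {e k : G} (hn : e ∈ normalizer (K : Set G))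
    (hk : k ∈ K) : e * k * e⁻¹ ∈ K := (mem_normalizer_iff.mp hn k).mp hk

/-- `K⟨e⟩` -/
def ext (K : Subgroup G) (e : G) (he : e * e = 1) (hn : e ∈ normalizer (K : Set G)) :
    Subgroup G where
  carrier := {x | x ∈ K ∨ x * e ∈ K}
  one_mem' := Or.inl K.one_mem
  mul_mem' := by
    have hi : e⁻¹ = e := inv_eq_of_mul_eq_one_left he
    rintro x y (hx | hx) (hy | hy)
    · exact Or.inl (K.mul_mem hx hy)
    · exact Or.inr (by rw [mul_assoc]; exact K.mul_mem hx hy)
    · right
      have h1 := conj_mem_of_norm hn hy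
      have h2 := K.mul_mem hx h1
      have h3 : x * e * (e * y * e⁻¹) = x * (e * e) * y * e⁻¹ := by group
      rw [h3, he, hi, mul_one] at h2
      exact h2
    · left
      have h1 := conj_mem_of_norm hn hy
      have h2 := K.mul_mem hx h1
      have h3 : x * e * (e * (y * e) * e⁻¹) = x * (e * e) * y := by group
      rw [h3, he, mul_one] at h2
      exact h2
  inv_mem' := by
    have hi : e⁻¹ = e := inv_eq_of_mul_eq_one_left he
    rintro x (hx | hx)
    · exact Or.inl (K.inv_mem hx)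
    · right
      have h1 := conj_mem_of_norm (inv_mem hn) (K.inv_mem hx)
      have h2 : e⁻¹ * (x * e)⁻¹ * e⁻¹⁻¹ = (e * e)⁻¹ * x⁻¹ * e := by group
      rw [h2, he, inv_one, one_mul] at h1
      exact h1

/-- An involution `e` normalizing `K` fixes `K` or commutes with a different `K`-conjugate. -/
theorem fixes_or_conj {K : Subgroup G} {e : G} (he : e * e = 1)
    (hn : e ∈ normalizer (K : Set G)) :
    Fixes e K ∨ ∃ x ∈ K, x * e * x⁻¹ ≠ e ∧ Commute e (x * e * x⁻¹) := by
  classical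
  by_cases hc : ∃ x ∈ K, x * e * x⁻¹ ≠ e ∧ Commute e (x * e * x⁻¹)
  · exact Or.inr hc
  left
  have hc' : ∀ x ∈ K, Commute e (x * e * x⁻¹) → x * e * x⁻¹ = e := by
    intro x hx h
    by_contra h'
    exact hc ⟨x, hx, h', h⟩
  have hi : e⁻¹ = e := inv_eq_of_mul_eq_one_left he
  have heX : e ∈ ext K e he hn := Or.inr (by rw [he]; exact K.one_mem)
  have hKX : K ≤ ext K e he hn := fun k hk => Or.inl hk
  obtain ⟨N, hN, hodd, hcomm⟩ := zstar (H := ↥(ext K e he hn)) (z := ⟨e, heX⟩)
    (Subtype.ext he) (by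
      rintro ⟨x, hx⟩ h
      have h1 : Commute e (x * e * x⁻¹) := congrArg Subtype.val h.eq
      apply Subtype.ext
      change x * e * x⁻¹ = e
      rcases hx with hx | hx
      · exact hc' x hx h1
      · have h2 : x * e * e * (x * e)⁻¹ = x * e * x⁻¹ := by
          rw [mul_inv_rev, hi]
          calc x * e * e * (e * x⁻¹) = x * e * (e * e) * x⁻¹ := by group
            _ = x * e * x⁻¹ := by rw [he, mul_one]
        have h3 := hc' (x * e) hx (by rw [h2]; exact h1)
        rwa [h2] at h3)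
  refine ⟨hn, fun y hy => ?_⟩
  have h1 : ⁅e, y⁆ ∈ N.map (ext K e he hn).subtype := by
    refine ⟨_, hcomm ⟨y, hKX hy⟩, rfl⟩
  have h2 : ⁅e, y⁆ ∈ K := by
    rw [commutatorElement_def]
    exact K.mul_mem (conj_mem_of_norm hn hy) (K.inv_mem hy)
  have h3 : N.map (ext K e he hn).subtype ⊓ K ≤ core K := by
    refine le_core inf_le_right ?_ ?_
    · intro k hk
      rw [mem_normalizer_iff_cj, cj_inf, mem_normalizer_iff_cj.mp (le_normalizer hk)]
      congr 1
      ext x
      rw [mem_cj]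
      constructor
      · rintro ⟨n, hnN, hn'⟩
        refine ⟨⟨k, hKX hk⟩ * n * ⟨k, hKX hk⟩⁻¹, hN.conj_mem n hnN _, ?_⟩
        change k * (n : G) * k⁻¹ = x
        have h4 : (n : G) = k⁻¹ * x * k := hn'
        rw [h4]; group
      · rintro ⟨n, hnN, hn'⟩
        refine ⟨⟨k, hKX hk⟩⁻¹ * n * ⟨k, hKX hk⟩, ?_, ?_⟩
        · have := hN.conj_mem n hnN ⟨k, hKX hk⟩⁻¹
          rwa [inv_inv] at this
        · change k⁻¹ * (n : G) * k = k⁻¹ * x * k
          have h4 : (n : G) = x := hn'
          rw [h4]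
    · refine Odd.of_dvd_nat ?_ (card_dvd_of_le (inf_le_left :
        N.map (ext K e he hn).subtype ⊓ K ≤ N.map (ext K e he hn).subtype))
      rwa [card_map_of_injective (subtype_injective _)]
  exact h3 ⟨h1, h2⟩

/-! ### commuting elements of `QC` -/

/-- LEMMA I: an involution `e ≠ z` commuting with `z` fixes `K` or is `K`-conjugate to `e z`. -/
theorem lemmaI (h : Frame G) {z : G} {K : Subgroup G} (hK : QC z K) {e : G} (he : e * e = 1)
    (hez : Commute e z) (hf : ¬ Fixes e K) : ∃ x ∈ K, x * e * x⁻¹ = e * z := by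
  have hn := mem_normalizer h hK hez
  obtain ⟨x, hx, hne, hc⟩ := (fixes_or_conj he hn).resolve_left hf
  refine ⟨x, hx, ?_⟩
  have hi : e⁻¹ = e := inv_eq_of_mul_eq_one_left he
  have hxx : (x * e * x⁻¹) * (x * e * x⁻¹) = 1 := by
    calc (x * e * x⁻¹) * (x * e * x⁻¹) = x * (e * e) * x⁻¹ := by group
      _ = 1 := by rw [he]; group
  have ht : e * (x * e * x⁻¹) ∈ K := by
    have h1 := conj_mem_of_norm hn hx
    have h2 := K.mul_mem h1 (K.inv_mem hx)
    have h3 : e * x * e⁻¹ * x⁻¹ = e * (x * e * x⁻¹) := by rw [hi]; group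
    rwa [h3] at h2
  have ht2 : (e * (x * e * x⁻¹)) * (e * (x * e * x⁻¹)) = 1 := by
    calc (e * (x * e * x⁻¹)) * (e * (x * e * x⁻¹))
        = e * ((x * e * x⁻¹) * e) * (x * e * x⁻¹) := by group
      _ = e * (e * (x * e * x⁻¹)) * (x * e * x⁻¹) := by rw [hc.eq]
      _ = (e * e) * ((x * e * x⁻¹) * (x * e * x⁻¹)) := by group
      _ = 1 := by rw [he, hxx, one_mul]
  have ht1 : e * (x * e * x⁻¹) ≠ 1 := by
    intro h1
    apply hne
    have h2 := eq_inv_of_mul_eq_one_right h1
    rw [h2, hi]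
  have h1 := qtK h hK _ ht z hK.mem ht2 (sq_of hK) ht1 (ne_one_of hK) (comm_of hK ht).eq
  calc x * e * x⁻¹ = (e * e) * (x * e * x⁻¹) := by rw [he, one_mul]
    _ = e * (e * (x * e * x⁻¹)) := by group
    _ = e * z := by rw [h1]

/-- The case `alpha`: `b` fixes `A`. -/
theorem alpha (h : Frame G) {a b : G} {A B : Subgroup G} (hA : QC a A) (hB : QC b B)
    (hne : a ≠ b) (hab : Commute a b) (hf : Fixes b A) :
    Fixes a B ∧ ∃ M, Comp2 b M ∧ M ≠ B ∧ cen A b ≤ M ∧ a ∈ M := by
  have hbC : b ∈ centralizer ({a} : Set G) := mem_centralizer_singleton_iff.mpr hab.symm.eq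
  obtain ⟨h1, h2⟩ := isComp_cen hA.comp.comp hbC (sq_of hB) hf
  have ha : a ∈ cen A b := mem_cen_of_sq hA.mem hab.eq (sq_of hA)
  rw [inf_comm] at h1
  obtain ⟨M, hM, hJM⟩ := exists_pumpup (sq_of hA) ha h1
  have hMB : M ≠ B := by
    rintro rfl
    exact hne (qtK h hB a (hJM ha) b hB.mem (sq_of hA) (sq_of hB) (ne_one_of hA) (ne_one_of hB) hab.eq)
  exact ⟨hB.comp.comp.fixes_of_mem hM (Ne.symm hMB) (hJM ha), M, ⟨hB.comp.inv, hM⟩, hMB, hJM, hJM ha⟩

/-- The case `nu`: `b` does not fix `A`. -/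
theorem nu (h : Frame G) {a b : G} {A B : Subgroup G} (hA : QC a A) (hB : QC b B)
    (hne : a ≠ b) (hab : Commute a b) (hf : ¬ Fixes b A) :
    (∃ x ∈ A, x * b * x⁻¹ = a * b) ∧ ∃ x ∈ B, x * a * x⁻¹ = a * b := by
  constructor
  · obtain ⟨x, hx, h1⟩ := lemmaI h hA (sq_of hB) hab.symm hf
    exact ⟨x, hx, by rw [h1, hab.eq]⟩
  · exact lemmaI h hB (sq_of hA) hab fun h1 => hf (alpha h hB hA hne.symm hab.symm h1).1

/-! ### three 2-components -/

/-- The simple top has even order. -/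
theorem two_dvd_top {H K : Subgroup G} (hK : IsComp H K) : 2 ∣ Nat.card (STop K) := by
  have hp : Fact (Nat.Prime 2) := ⟨Nat.prime_two⟩
  by_contra h
  obtain ⟨P⟩ : Nonempty (Sylow 2 (Bar K)) := inferInstance
  have h1 : (P : Subgroup (Bar K)) ≤ center (Bar K) := by
    intro x hx
    rw [← QuotientGroup.eq_one_iff (N := center (Bar K)) x]
    obtain ⟨n, hn⟩ := P.isPGroup' ⟨x, hx⟩
    have h2 : x ^ 2 ^ n = 1 := congrArg Subtype.val hn
    have h3 : ((x : STop K)) ^ 2 ^ n = 1 := by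
      rw [← QuotientGroup.mk_pow, h2]; rfl
    have h4 : orderOf (x : STop K) = 1 := by
      apply Nat.eq_one_of_dvd_coprimes (a := Nat.card (STop K)) (b := 2 ^ n) ?_
        (orderOf_dvd_natCard _) (orderOf_dvd_of_pow_eq_one h3)
      exact (Nat.Coprime.pow_right n ((Nat.Prime.coprime_iff_not_dvd Nat.prime_two).mpr h).symm)
    exact orderOf_eq_one_iff.mp h4
  have h2 : normalizer (P : Set (Bar K)) ≤ centralizer (P : Set (Bar K)) := by
    intro y _
    rw [mem_centralizer_iff]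
    intro x hx
    exact (mem_center_iff.mp (h1 hx) y).symm
  have h3 := MonoidHom.ker_transferSylow_isComplement' P h2
  have hperf : Group.IsPerfect (Bar K) := (quasisimple hK).1
  have h4 : (MonoidHom.transferSylow P h2).ker = ⊤ := by
    rw [eq_top_iff, ← hperf.commutator_eq_top, commutator_def, commutator_le]
    intro x _ y _
    rw [MonoidHom.mem_ker, map_commutatorElement, commutatorElement_eq_one_iff_commute]
    have hc : IsMulCommutative (P : Subgroup (Bar K)) :=
      ⟨⟨fun a b => Subtype.ext (mem_center_iff.mp (h1 b.2) a)⟩⟩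
    exact hc.is_comm.comm _ _
  rw [h4] at h3
  have h5 : (P : Subgroup (Bar K)) = ⊥ := isComplement'_top_left.mp h3
  have h6 : ¬ 2 ∣ Nat.card (Bar K) := by
    intro h7
    have h8 := P.dvd_card_of_dvd_card h7
    rw [h5, card_bot] at h8
    omega
  have h7 : Nat.card K = Nat.card (Bar K) * Nat.card (oddCore ↥K) :=
    Subgroup.card_eq_card_quotient_mul_card_subgroup _
  have h8 := hK.even
  rw [h7] at h8
  rcases (Nat.Prime.dvd_mul Nat.prime_two).1 h8 with h9 | h9
  · exact h6 h9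
  · have h10 := Lib.Cores.pPrimeCore_coprime (G := K) 2
    exact (Nat.not_even_iff_odd.2 (Nat.coprime_two_right.1 h10)) (even_iff_two_dvd.2 h9)

theorem two_le_srank_top {H K : Subgroup G} (hK : IsComp H K) : 2 ≤ srank 2 (STop K) :=
  two_le_srank_of_simple (top_simple hK) (top_nonComm hK) (two_dvd_top hK)

theorem comp_le_fixer {H K M : Subgroup G} (hK : IsComp H K) (hM : IsComp H M) (hne : K ≠ M) :
    M ≤ fixer K := fun _ ha => hK.fixes_of_mem hM hne ha

theorem core_le_fixer' {H K : Subgroup G} (hK : IsComp H K) : core H ≤ fixer K :=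
  fun _ ha => hK.fixes_of_core ha

/-- Three distinct 2-components of `H`. -/
theorem three {H K J M : Subgroup G} (hK : IsComp H K) (hJ : IsComp H J) (hM : IsComp H M)
    (hKJ : K ≠ J) (hKM : K ≠ M) (hJM : J ≠ M) : 6 ≤ srank 2 H := by
  have hp : (2 : ℕ).Prime := Nat.prime_two
  have hDH : J ⊔ M ≤ H := sup_le hJ.le hM.le
  have hDK : J ⊔ M ≤ fixer K := sup_le (comp_le_fixer hK hJ hKJ) (comp_le_fixer hK hM hKM)
  have hDn : J ⊔ M ≤ normalizer ((K ⊔ core H : Subgroup G) : Set G) := by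
    intro d hd
    rw [mem_normalizer_iff_cj, cj_def, Subgroup.map_sup, ← cj_def, ← cj_def,
      mem_normalizer_iff_cj.mp (fixer_le_normalizer K (hDK hd)),
      mem_normalizer_iff_cj.mp (le_normalizer_core H (hDH hd))]
  let Z : Subgroup ↥(J ⊔ M : Subgroup G) := (K ⊔ core H).subgroupOf (J ⊔ M)
  have hZ : Z.Normal := normal_subgroupOf_of_le_normalizer hDn
  have h1 := srank_top_add_le hK hDH (fun d hd => hDK hd) Z (by
    rintro d ⟨k, hk, hkd⟩
    change (d : G) ∈ K ⊔ core H
    have := mul_mem (mem_sup_left hk : k ∈ K ⊔ core H) (mem_sup_right hkd)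
    rwa [mul_inv_cancel_left] at this)
  have h2 : srank 2 (STop J) + srank 2 (STop M) ≤ srank 2 (↥(J ⊔ M : Subgroup G) ⧸ Z) := by
    rw [← srank_prod hp]
    let π : ↥(J ⊔ M : Subgroup G) →* ↥(J ⊔ M : Subgroup G) ⧸ Z := QuotientGroup.mk' Z
    let fJ : J →* ↥(J ⊔ M : Subgroup G) ⧸ Z := π.comp (inclusion le_sup_left)
    let fM : M →* ↥(J ⊔ M : Subgroup G) ⧸ Z := π.comp (inclusion le_sup_right)
    have hπ : ∀ (a : G) (ha : a ∈ J ⊔ M), π ⟨a, ha⟩ = 1 ↔ a ∈ K ⊔ core H := by
      intro a ha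
      exact QuotientGroup.eq_one_iff _
    have hcomm : ∀ (j : J) (m : M), Commute (fJ j) (fM m) := by
      intro j m
      rw [← commutatorElement_eq_one_iff_commute]
      have h3 : ⁅(j : G), (m : G)⁆ ∈ K ⊔ core H := by
        refine mem_sup_right (hJ.core_le_core ?_)
        exact ((hJ.comm_le_core hM hJM).trans inf_le_left) (commutator_mem_commutator j.2 m.2)
      have h4 := (hπ _ ((J ⊔ M).mul_mem ((J ⊔ M).mul_mem ((J ⊔ M).mul_mem (mem_sup_left j.2)
        (mem_sup_right m.2)) ((J ⊔ M).inv_mem (mem_sup_left j.2)))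
        ((J ⊔ M).inv_mem (mem_sup_right m.2)))).mpr h3
      exact h4
    let f : J × M →* ↥(J ⊔ M : Subgroup G) ⧸ Z := MonoidHom.noncommCoprod fJ fM hcomm
    let g : J × M →* STop J × STop M := MonoidHom.prodMap (topMap J) (topMap M)
    refine (srank_le_iff hp.one_lt).2 (of_homs (srank_spec hp.one_lt) f g ?_ ?_)
    · rintro ⟨x, y⟩
      obtain ⟨a, rfl⟩ := topMap_surjective J x
      obtain ⟨b, rfl⟩ := topMap_surjective M y
      exact ⟨(a, b), rfl⟩
    · rintro ⟨j, m⟩ h
      have h3 : (j : G) * m ∈ K ⊔ core H :=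
        (hπ _ ((J ⊔ M).mul_mem (mem_sup_left j.2) (mem_sup_right m.2))).mp h
      have h4 : K ⊔ core H ≤ fixer J := sup_le (comp_le_fixer hJ hK hKJ.symm) (core_le_fixer' hJ)
      have h5 : K ⊔ core H ≤ fixer M := sup_le (comp_le_fixer hM hK hKM.symm) (core_le_fixer' hM)
      refine Prod.ext ?_ ?_
      · change topMap J j = 1
        rw [← MonoidHom.mem_ker, mem_ker_topMap]
        have h6 : (j : G) ∈ fixer J := by
          have := mul_mem (h4 h3) (inv_mem (comp_le_fixer hJ hM hJM m.2))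
          rwa [mul_inv_cancel_right] at this
        exact h6.2
      · change topMap M m = 1
        rw [← MonoidHom.mem_ker, mem_ker_topMap]
        have h6 : (m : G) ∈ fixer M := by
          have := mul_mem (inv_mem (comp_le_fixer hM hJ hJM.symm j.2)) (h5 h3)
          rwa [inv_mul_cancel_left] at this
        exact h6.2
  have h3 := two_le_srank_top hK
  have h4 := two_le_srank_top hJ
  have h5 := two_le_srank_top hM
  omega

theorem srank_le (h : Frame G) (H : Subgroup G) :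
    srank 2 H ≤ 4 :=
  (srank_subgroup_le (by norm_num) _).trans ((srank_le_iff (by norm_num)).2 h.rank4)

/-- `K` and `J` are the only 2-components of `C(z)`. -/
theorem eq_or_eq (h : Frame G) {H K J M : Subgroup G} (hK : IsComp H K) (hJ : IsComp H J)
    (hM : IsComp H M) (hne : J ≠ K) : M = K ∨ M = J := by
  by_contra hcon
  push Not at hcon
  have h1 := three hK hJ hM hne.symm hcon.1.symm hcon.2.symm
  have h2 := srank_le h H
  omega

/-- `J` is normal in `C(z)`. -/
theorem cj_eq_J (h : Frame G) {z : G} {K J : Subgroup G} (hK : QC z K) (hJ : Comp2 z J)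
    (hne : J ≠ K) {g : G} (hg : Commute g z) : cj g J = J := by
  have h1 := Comp2.cj hJ g
  have h2 : g * z * g⁻¹ = z := by rw [hg.eq]; group
  rw [h2] at h1
  refine (eq_or_eq h hK.comp.comp hJ.comp h1.comp hne).resolve_left fun h3 => hne ?_
  have h4 := cj_eq h hK hg
  exact cj_injective g (h3.trans h4.symm)

theorem mem_normalizer_J (h : Frame G) {z : G} {K J : Subgroup G} (hK : QC z K)
    (hJ : Comp2 z J) (hne : J ≠ K) {g : G} (hg : Commute g z) : g ∈ normalizer (J : Set G) :=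
  mem_normalizer_iff_cj.mpr (cj_eq_J h hK hJ hne hg)

end Cfsg.Agent.GH.QJ
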