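import Cfsg.Agent.GH.QJNTools
import Cfsg.Agent.GH.QATwoDefs
import Cfsg.Agent.GH.QAZStar

/-!
# GH-Q (I), branch `J` (board GH #6409): the cases (3) and (4)

* `mem_J_of_fixes`, `dich`: commuting `a ≠ b` in `QC`: `b ∈ J_a` or `a ~ a b ~ b`.
* `fixes_of_central` = (1).
* `false_TN` = (3): `J_z` is `QT`, `J_u` is not.
* `false_NN` = (4): `J_z`, `J_u` are not `QT` (output `Two` of (A2)), `z` not conjugate to `u`.
-/

set_option autoImplicit false

open Cfsg Subgroup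
open Cfsg.Agent.SignalizersComponents Cfsg.Agent.Lib
open Cfsg.Agent.SignalizersComponents.IntrinsicBasic
open Cfsg.Agent.SignalizersComponents.PLayerAut
open Cfsg.Agent.Intrinsic.Basic Cfsg.Agent.Intrinsic.Cen
open Cfsg.Agent.GH.Defs Cfsg.Agent.GH.XSet Cfsg.Agent.GH.QA
open Cfsg.Agent.GH.QJNTools
open scoped commutatorElement Pointwise

namespace Cfsg.Agent.GH.QJN

variable {G : Type*} [Group G]

theorem isConj_of {a b g : G} (h : g * a * g⁻¹ = b) : IsConj a b := isConj_iff.mpr ⟨g, h⟩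

theorem qt_cj {K : Subgroup G} (h : QT K) (g : G) : QT (cj g K) := by
  intro a ha b hb ha2 hb2 ha1 hb1 hab
  rw [mem_cj] at ha hb
  have key : ∀ x y : G, (g⁻¹ * x * g) * (g⁻¹ * y * g) = g⁻¹ * (x * y) * g := fun x y => by group
  have h1 : g⁻¹ * a * g = g⁻¹ * b * g := by
    refine h _ ha _ hb ?_ ?_ ?_ ?_ ?_
    · rw [key, ha2]; group
    · rw [key, hb2]; group
    · intro h2
      apply ha1
      calc a = g * (g⁻¹ * a * g) * g⁻¹ := by group
        _ = 1 := by rw [h2]; group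
    · intro h2
      apply hb1
      calc b = g * (g⁻¹ * b * g) * g⁻¹ := by group
        _ = 1 := by rw [h2]; group
    · rw [key, key, hab]
  calc a = g * (g⁻¹ * a * g) * g⁻¹ := by group
    _ = g * (g⁻¹ * b * g) * g⁻¹ := by rw [h1]
    _ = b := by group

variable [Finite G]

/-- `b` fixes `A = K_a`: then `b ∈ J_a`. -/
theorem mem_J_of_fixes (F : Frame G) {a b : G} {A J B : Subgroup G} (hA : QC a A) (hJ : Comp2 a J)
    (hJA : J ≠ A) (hB : QC b B) (hne : a ≠ b) (hab : Commute a b) (hf : Fixes b A) : b ∈ J := by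
  obtain ⟨h1, -⟩ := QJ.alpha F hA hB hne hab hf
  obtain ⟨-, M, hM, hMA, -, hbM⟩ := QJ.alpha F hB hA hne.symm hab.symm h1
  rcases QJ.eq_or_eq F hA.comp.comp hJ.comp hM.comp hJA with h2 | h2
  · exact absurd h2 hMA
  · rwa [h2] at hbM

theorem dich (F : Frame G) {a b : G} {A J B : Subgroup G} (hA : QC a A) (hJ : Comp2 a J)
    (hJA : J ≠ A) (hB : QC b B) (hne : a ≠ b) (hab : Commute a b) : b ∈ J ∨ IsConj a b := by
  by_cases hf : Fixes b A
  · exact Or.inl (mem_J_of_fixes F hA hJ hJA hB hne hab hf)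
  · right
    obtain ⟨⟨x, -, hx⟩, y, -, hy⟩ := QJ.nu F hA hB hne hab hf
    exact (isConj_of hy).trans (isConj_of hx).symm

/-- (1): a central involution of a Sylow 2-subgroup of `C(z)` fixes `K_z`. -/
theorem fixes_of_central (F : Frame G) {z : G} {K : Subgroup G} (hK : QC z K)
    (P : Sylow 2 ↥(centralizer ({z} : Set G))) {e : G} (he : e * e = 1)
    (heP : e ∈ (P : Subgroup ↥(centralizer ({z} : Set G))).map (centralizer ({z} : Set G)).subtype)
    (hcen : ∀ x ∈ (P : Subgroup ↥(centralizer ({z} : Set G))).map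
      (centralizer ({z} : Set G)).subtype, Commute e x) : Fixes e K := by
  have hp2 : Fact (Nat.Prime 2) := ⟨Nat.prime_two⟩
  by_contra hf
  obtain ⟨⟨e', he'⟩, heP', rfl⟩ := heP
  have hez : Commute e' z := mem_centralizer_singleton_iff.mp he'
  obtain ⟨x, hx, hxe⟩ := QJ.lemmaI F hK he hez hf
  have hxz : Commute x z := QJ.comm_of hK hx
  obtain ⟨X, hX⟩ : ∃ X : ↥(centralizer ({z} : Set G)), X = ⟨x, mem_centralizer_singleton_iff.mpr hxz.eq⟩ :=
    ⟨_, rfl⟩
  obtain ⟨E, hE⟩ : ∃ E : ↥(centralizer ({z} : Set G)), E = ⟨e', he'⟩ := ⟨_, rfl⟩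
  obtain ⟨Z, hZ⟩ : ∃ Z : ↥(centralizer ({z} : Set G)), Z = ⟨z, mem_centralizer_singleton_iff.mpr rfl⟩ :=
    ⟨_, rfl⟩
  have hZc : ∀ y : ↥(centralizer ({z} : Set G)), Commute Z y := by
    intro y
    rw [hZ]
    exact Subtype.ext (mem_centralizer_singleton_iff.mp y.2).symm
  have h1 : (X⁻¹)⁻¹ * E * X⁻¹ = E * Z := by
    rw [hX, hE, hZ, inv_inv]
    exact Subtype.ext hxe
  have hEc : E ∈ centralizer ((P : Subgroup ↥(centralizer ({z} : Set G))) : Set _) := by
    rw [mem_centralizer_iff]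
    intro y hy
    rw [hE]
    exact Subtype.ext (hcen y ⟨y, hy, rfl⟩).eq.symm
  have hEZc : (X⁻¹)⁻¹ * E * X⁻¹ ∈ centralizer ((P : Subgroup ↥(centralizer ({z} : Set G))) : Set _) := by
    rw [h1, mem_centralizer_iff]
    intro y hy
    have h2 := mem_centralizer_iff.mp hEc y hy
    calc y * (E * Z) = (y * E) * Z := by group
      _ = E * (y * Z) := by rw [h2]; group
      _ = E * Z * y := by rw [← (hZc y).eq]; group
  obtain ⟨n, hn, hne⟩ := P.conj_eq_normalizer_conj_of_mem_centralizer E X⁻¹ hEc hEZc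
  rw [h1] at hne
  -- powers
  have hpow : ∀ k : ℕ, (n ^ k)⁻¹ * E * n ^ k = E * Z ^ k := by
    intro k
    induction k with
    | zero => simp
    | succ k ih =>
      calc (n ^ (k + 1))⁻¹ * E * n ^ (k + 1) = n⁻¹ * ((n ^ k)⁻¹ * E * n ^ k) * n := by
            rw [pow_succ]; group
        _ = n⁻¹ * (E * Z ^ k) * n := by rw [ih]
        _ = n⁻¹ * E * (Z ^ k * n) := by group
        _ = n⁻¹ * E * (n * Z ^ k) := by rw [((hZc n).pow_left k).eq]
        _ = (n⁻¹ * E * n) * Z ^ k := by group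
        _ = E * Z * Z ^ k := by rw [← hne]
        _ = E * Z ^ (k + 1) := by rw [pow_succ']; group
  obtain ⟨s, m, hm, hsm⟩ := Nat.exists_eq_two_pow_mul_odd (orderOf_pos n).ne'
  have h3 : (n ^ m) ^ 2 ^ s = 1 := by
    rw [← pow_mul, mul_comm, ← hsm, pow_orderOf_eq_one]
  have h4 : n ^ m ∈ (P : Subgroup ↥(centralizer ({z} : Set G))) :=
    mem_sylow P (Subgroup.pow_mem _ hn m) h3
  have h5 := hpow m
  have h6 : E * n ^ m = n ^ m * E := (mem_centralizer_iff.mp hEc _ h4).symm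
  rw [mul_assoc, h6, inv_mul_cancel_left] at h5
  have h7 : Z ^ m = 1 := by
    have h8 := congrArg (fun y => E⁻¹ * y) h5
    simpa using h8.symm
  have hzz := QJ.sq_of hK
  have hZZ : Z * Z = 1 := by rw [hZ]; exact Subtype.ext hzz
  obtain ⟨k, rfl⟩ := hm
  rw [pow_add, pow_mul, pow_two, hZZ, one_pow, one_mul, pow_one] at h7
  apply QJ.ne_one_of hK
  rw [hZ] at h7
  exact congrArg Subtype.val h7

omit [Finite G] in
/-- a central involution of `C(z)` lies in every Sylow 2-subgroup of `C(z)` -/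
theorem self_mem {z : G} (hz : z * z = 1) (P : Sylow 2 ↥(centralizer ({z} : Set G))) :
    z ∈ (P : Subgroup ↥(centralizer ({z} : Set G))).map (centralizer ({z} : Set G)).subtype := by
  refine ⟨⟨z, mem_centralizer_singleton_iff.mpr rfl⟩, ?_, rfl⟩
  refine mem_sylow (n := 1) P ?_ (Subtype.ext (by
    change z ^ 2 ^ 1 = 1
    rw [pow_one, pow_two, hz]))
  rw [mem_normalizer_iff]
  intro y
  have h1 : (⟨z, mem_centralizer_singleton_iff.mpr rfl⟩ : ↥(centralizer ({z} : Set G))) * y *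
      (⟨z, mem_centralizer_singleton_iff.mpr rfl⟩ : ↥(centralizer ({z} : Set G)))⁻¹ = y := by
    apply Subtype.ext
    change z * (y : G) * z⁻¹ = y
    rw [← mem_centralizer_singleton_iff.mp y.2, mul_inv_cancel_right]
  rw [h1]

/-- Let `B` be Sylow in `C(z)` and every `z ^ n`, `n ∈ N_G(B)`, be `z`; then `B` is Sylow in `G`. -/
theorem exists_sylow_of_conj {z : G} (P : Sylow 2 ↥(centralizer ({z} : Set G)))
    (h : ∀ n ∈ normalizer ((P : Subgroup ↥(centralizer ({z} : Set G))).map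
      (centralizer ({z} : Set G)).subtype : Set G), n * z * n⁻¹ = z) :
    ∃ S : Sylow 2 G, (S : Subgroup G) = (P : Subgroup ↥(centralizer ({z} : Set G))).map
      (centralizer ({z} : Set G)).subtype := by
  refine exists_sylow_eq P fun n hn => ?_
  rw [mem_centralizer_singleton_iff]
  have h1 := h n hn
  rwa [mul_inv_eq_iff_eq_mul] at h1

/-- The `J`-component of `K_z` determines that of the conjugates. -/
theorem not_isConj_of_qt (F : Frame G) {z u : G} {Kz Ku Jz Ju : Subgroup G}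
    (h : Alpha z u Kz Ku Jz Ju) (hJz : QT Jz) (hJu : ¬ QT Ju) : ¬ IsConj z u := by
  intro hc
  obtain ⟨g, hg⟩ := isConj_iff.mp hc
  have h1 := comp2_cj h.ja g
  have h2 := h.qa.cj g
  rw [hg] at h1 h2
  have h3 : cj g Kz = Ku := F.one u _ _ h2.comp h.qb.comp h2.mem h.qb.mem
  rcases h.symm.only F h1 with h4 | h4
  · have h5 : cj g Jz = cj g Kz := h4.trans h3.symm
    exact h.J_ne_K F (cj_injective g h5).symm
  · exact hJu (h4 ▸ qt_cj hJz g)

/-- (3) of #6409. -/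
theorem false_TN (F : Frame G) {z u : G} {Kz Ku Jz Ju : Subgroup G} (h : Alpha z u Kz Ku Jz Ju)
    (hJz : QT Jz) (hJu : ¬ QT Ju) : False := by
  have hp2 : Fact (Nat.Prime 2) := ⟨Nat.prime_two⟩
  have hzu := not_isConj_of_qt F h hJz hJu
  have huu : u * u = 1 := h.qb.sq
  have hu1 : u ≠ 1 := h.qb.ne_one
  have hzz : z * z = 1 := h.qa.sq
  have huJ : u ∈ Jz := h.mem_J
  have hJK : Jz ≠ Kz := (h.J_ne_K F).symm
  -- a Sylow 2-subgroup of `C(z)` containing `u`
  have huC : u ∈ centralizer ({z} : Set G) := mem_centralizer_singleton_iff.mpr h.comm.symm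
  have hup : IsPGroup 2 (zpowers (⟨u, huC⟩ : ↥(centralizer ({z} : Set G)))) := by
    apply IsPGroup.of_card (n := 1)
    rw [Nat.card_zpowers, pow_one]
    exact orderOf_eq_prime (Subtype.ext (by change u ^ 2 = 1; rw [pow_two, huu]))
      (fun h1 => hu1 (congrArg Subtype.val h1))
  obtain ⟨P, hP⟩ := hup.exists_le_sylow
  obtain ⟨B, hB⟩ : ∃ B, B = (P : Subgroup ↥(centralizer ({z} : Set G))).map
    (centralizer ({z} : Set G)).subtype := ⟨_, rfl⟩
  have huB : u ∈ B := hB ▸ ⟨⟨u, huC⟩, hP (mem_zpowers _), rfl⟩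
  have hzB : z ∈ B := hB ▸ self_mem hzz P
  have hBC : B ≤ centralizer ({z} : Set G) := hB ▸ map_subtype_le _
  have hBp : IsPGroup 2 B := hB ▸ isPGroup_map P
  have hBz : ∀ b ∈ B, Commute b z := fun b hb => mem_centralizer_singleton_iff.mp (hBC hb)
  have hNJ := h.centralizer_le F
  -- `u` is central in `B`
  have hBu : ∀ b ∈ B, Commute b u := by
    have hRp : IsPGroup 2 ↥(B ⊓ Jz) := hBp.to_le inf_le_left
    have huR : u ∈ B ⊓ Jz := ⟨huB, huJ⟩
    have hnt : Nontrivial ↥(B ⊓ Jz) := ⟨⟨u, huR⟩, 1, fun h1 => hu1 (congrArg Subtype.val h1)⟩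
    have hcn := hRp.center_nontrivial
    have h2d : 2 ∣ Nat.card (center ↥(B ⊓ Jz)) := by
      obtain ⟨k, hk⟩ := (IsPGroup.iff_card).mp (hRp.to_subgroup (center ↥(B ⊓ Jz)))
      rcases k with _ | k
      · exfalso
        rw [pow_zero] at hk
        have := Finite.one_lt_card_iff_nontrivial.mpr hcn
        omega
      · rw [hk, pow_succ]; exact Dvd.intro_left _ rfl
    obtain ⟨c, hc⟩ := exists_prime_orderOf_dvd_card' 2 h2d
    have hcc : ((c : ↥(B ⊓ Jz)) : G) * ((c : ↥(B ⊓ Jz)) : G) = 1 := by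
      have h3 : c ^ 2 = 1 := by rw [← hc]; exact pow_orderOf_eq_one c
      rw [pow_two] at h3
      exact congrArg (fun x : center ↥(B ⊓ Jz) => ((x : ↥(B ⊓ Jz)) : G)) h3
    have hc1 : ((c : ↥(B ⊓ Jz)) : G) ≠ 1 := by
      intro h3
      have h4 : c = 1 := Subtype.ext (Subtype.ext h3)
      rw [h4, orderOf_one] at hc
      omega
    have key : ∀ y ∈ B ⊓ Jz, y * y = 1 → y ≠ 1 → y = ((c : ↥(B ⊓ Jz)) : G) := by
      intro y hy hyy hy1
      refine hJz y hy.2 _ (c : ↥(B ⊓ Jz)).2.2 hyy hcc hy1 hc1 ?_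
      exact congrArg Subtype.val (mem_center_iff.mp c.2 ⟨y, hy⟩)
    intro b hb
    have h3 := key u huR huu hu1
    have h4 := key (b * u * b⁻¹) ⟨B.mul_mem (B.mul_mem hb huB) (B.inv_mem hb),
      (mem_normalizer_iff.mp (hNJ (hBC hb)) u).mp huJ⟩ (sq_cj huu b) (ne_one_cj hu1 b)
    rw [← h3] at h4
    exact mul_inv_eq_iff_eq_mul.mp h4
  -- `B` is Sylow in `G`
  obtain ⟨S, hS⟩ := exists_sylow_of_conj P (by
    rw [← hB]
    intro n hn
    by_contra hne
    have hzn := h.qa.cj n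
    have hz'B : n * z * n⁻¹ ∈ B := (mem_normalizer_iff.mp hn z).mp hzB
    have hcen : ∀ x ∈ B, Commute (n * z * n⁻¹) x := by
      intro x hx
      have h1 : n⁻¹ * x * n ∈ B := by
        have := (mem_normalizer_iff.mp ((normalizer (B : Set G)).inv_mem hn) x).mp hx
        simpa using this
      have h2 : (n⁻¹ * x * n) * z = z * (n⁻¹ * x * n) := (hBz _ h1).eq
      calc n * z * n⁻¹ * x = n * (z * (n⁻¹ * x * n)) * n⁻¹ := by group
        _ = n * ((n⁻¹ * x * n) * z) * n⁻¹ := by rw [h2]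
        _ = x * (n * z * n⁻¹) := by group
    have hf : Fixes (n * z * n⁻¹) Kz :=
      fixes_of_central F h.qa P (sq_cj hzz n) (hB ▸ hz'B) (hB ▸ hcen)
    have h1 : n * z * n⁻¹ ∈ Jz :=
      mem_J_of_fixes F h.qa h.ja hJK hzn (Ne.symm hne) (hBz _ hz'B).symm hf
    have h2 : n * z * n⁻¹ = u := hJz _ h1 u huJ (sq_cj hzz n) huu (ne_one_cj h.qa.ne_one n) hu1
      (hcen u huB).eq
    exact hzu (isConj_of h2))
  rw [← hB] at hS
  -- `u` is isolated
  obtain ⟨g, hg1, hg2⟩ := not_isolated F.simple F.nonComm huu hu1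
  obtain ⟨v, hv⟩ : ∃ v, v = g * u * g⁻¹ := ⟨_, rfl⟩
  rw [← hv] at hg1 hg2
  have hSC : (S : Subgroup G) ≤ centralizer ({u} : Set G) := by
    rw [hS]
    exact fun b hb => mem_centralizer_singleton_iff.mpr (hBu b hb).eq
  have hvp : IsPGroup 2 (zpowers v) := by
    apply IsPGroup.of_card (n := 1)
    rw [Nat.card_zpowers, pow_one]
    exact orderOf_eq_prime (by rw [pow_two, hv]; exact sq_cj huu g) (hv ▸ ne_one_cj hu1 g)
  obtain ⟨c, hc, hconj⟩ := exists_conj_le (S.subtype hSC)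
    ((zpowers_le).mpr (mem_centralizer_singleton_iff.mpr hg1.symm)) hvp
  have hSB : ((S.subtype hSC : Sylow 2 ↥(centralizer ({u} : Set G))) : Subgroup _).map
      (centralizer ({u} : Set G)).subtype = B := by
    rw [← hS]
    exact map_subgroupOf_eq_of_le hSC
  have h1 := hconj v (mem_zpowers v)
  rw [hSB] at h1
  obtain ⟨w, hw⟩ : ∃ w, w = c * v * c⁻¹ := ⟨_, rfl⟩
  rw [← hw] at h1
  have hwu : w = (c * g) * u * (c * g)⁻¹ := by rw [hw, hv]; group
  have hQw := h.qb.cj (c * g)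
  rw [← hwu] at hQw
  have hwne : w ≠ u := by
    intro h2
    apply hg2
    have h3 : c * u = u * c := mem_centralizer_singleton_iff.mp hc
    calc v = c⁻¹ * w * c := by rw [hw]; group
      _ = c⁻¹ * (u * c) := by rw [h2]; group
      _ = u := by rw [← h3]; group
  have hzw : z ≠ w := by
    rintro rfl
    exact hzu (isConj_of (g := (c * g)⁻¹) (by rw [hwu]; group))
  rcases dich F h.qa h.ja hJK hQw hzw (hBz w h1).symm with h2 | h2
  · exact hwne (hJz w h2 u huJ hQw.sq huu hQw.ne_one hu1 (hBu w h1).eq)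
  · exact hzu (h2.trans (isConj_of hwu.symm).symm)

omit [Finite G] in
/-- `B` as a Sylow 2-subgroup of `H` -/
theorem exists_sylow_of_relIndex {H B : Subgroup G} (hBH : B ≤ H) (hB : IsPGroup 2 B)
    (hi : ¬ 2 ∣ B.relIndex H) : ∃ P : Sylow 2 ↥H, (P : Subgroup ↥H).map H.subtype = B := by
  have hp2 : Fact (Nat.Prime 2) := ⟨Nat.prime_two⟩
  have h1 : IsPGroup 2 (B.subgroupOf H) :=
    hB.of_injective (Subgroup.subgroupOfEquivOfLe hBH).toMonoidHom
      (Subgroup.subgroupOfEquivOfLe hBH).injective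
  exact ⟨h1.toSylow hi, map_subgroupOf_eq_of_le hBH⟩

/-- `a b` is not conjugate to `a` in case `alpha`. -/
theorem not_isConj_mul (F : Frame G) {a b : G} {Ka Kb Ja Jb : Subgroup G}
    (h : Alpha a b Ka Kb Ja Jb) : ¬ IsConj a (a * b) := by
  intro hc
  obtain ⟨g, hg⟩ := isConj_iff.mp hc
  have h1 := h.qa.cj g
  rw [hg] at h1
  have hb1 := h.qb.ne_one
  have hne : a ≠ a * b := fun h2 => hb1 (by
    have := congrArg (fun x => a⁻¹ * x) h2
    simpa using this.symm)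
  have hfa : Fixes a Ka := fixes_of_qt (h.qa.qt F) h.qa.mem h.qa.sq h.qa.ne_one
  have h2 : a * b ∈ Ja := mem_J_of_fixes F h.qa h.ja (h.J_ne_K F).symm h1 hne
    ((Commute.refl a).mul_right h.comm) (fixes_mul hfa h.fa)
  apply h.not_mem_J F
  have h3 := Ja.mul_mem h2 (Ja.inv_mem h.mem_J)
  rwa [mul_inv_cancel_right] at h3

/-- (4) of #6409: `B` is Sylow in `G`, `W1` is strongly closed in `B` and fixes `Jz`. -/
theorem closed_NN (F : Frame G)
    {z u : G} {Kz Ku Jz Ju B W1 W2 Q1 Q2 : Subgroup G} {α1 τ1 α2 τ2 : G} {n1 n2 : ℕ}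
    (h : Two z u Kz Ku Jz Ju B W1 W2 Q1 Q2 α1 τ1 α2 τ2 n1 n2) (hJz : ¬ QT Jz)
    (hzu : ¬ IsConj z u) :
    ∃ S : Sylow 2 G, (S : Subgroup G) = B ∧ IsStronglyClosed W1 (S : Subgroup G) ∧
      (∀ w ∈ W1, Fixes w Jz) := by
  have hp2 : Fact (Nat.Prime 2) := ⟨Nat.prime_two⟩
  have ha := h.alpha
  have huu : u * u = 1 := ha.qb.sq
  have hu1 : u ≠ 1 := ha.qb.ne_one
  have hzz : z * z = 1 := ha.qa.sq
  have hz1 : z ≠ 1 := ha.qa.ne_one
  have hJK : Jz ≠ Kz := (ha.J_ne_K F).symm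
  have hJK' : Ju ≠ Ku := (ha.symm.J_ne_K F).symm
  have hW1B : W1 ≤ B := h.w1 ▸ inf_le_left
  have hW2B : W2 ≤ B := h.w2 ▸ inf_le_left
  have hBz : ∀ b ∈ B, Commute b z := fun b hb => mem_centralizer_singleton_iff.mp (h.le_a hb)
  have hBu : ∀ b ∈ B, Commute b u := fun b hb => mem_centralizer_singleton_iff.mp (h.le_b hb)
  have hzW : z ∈ W1 := mc_z_mem h.m1
  have huW : u ∈ W2 := mc_z_mem h.m2
  have hzB : z ∈ B := hW1B hzW
  have huB : u ∈ B := hW2B huW
  have hdisj : ∀ x, x ∈ W1 → x ∈ W2 → x = 1 := fun x h1 h2 => by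
    have h3 : x ∈ W1 ⊓ W2 := ⟨h1, h2⟩
    rwa [h.inf, mem_bot] at h3
  obtain ⟨P, hP⟩ := exists_sylow_of_relIndex h.le_a h.two h.syl_a
  -- elements of `B`
  have hprod : ∀ x ∈ B, ∃ w1 ∈ W1, ∃ w2 ∈ W2, x = w1 * w2 := by
    intro x hx
    rw [← h.sup] at hx
    have h1 : W2 ≤ normalizer (W1 : Set G) := by
      refine le_trans ?_ (centralizer_le_normalizer (W1 : Set G))
      intro y hy
      rw [mem_centralizer_iff]
      exact fun w hw => h.comm w hw y hy
    have h2 : (W1 : Set G) * (W2 : Set G) = ((W1 ⊔ W2 : Subgroup G) : Set G) :=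
      (coe_mul_of_right_le_normalizer_left W1 W2 h1).symm
    have h3 : x ∈ (W1 : Set G) * (W2 : Set G) := by rw [h2]; exact hx
    obtain ⟨w1, hw1, w2, hw2, rfl⟩ := h3
    exact ⟨w1, hw1, w2, hw2, rfl⟩
  -- `B` is Sylow in `G`
  obtain ⟨S, hS⟩ := exists_sylow_of_conj P (by
    rw [hP]
    intro n hn
    obtain ⟨z', hz'⟩ : ∃ z', z' = n * z * n⁻¹ := ⟨_, rfl⟩
    have hz'B : z' ∈ B := hz' ▸ (mem_normalizer_iff.mp hn z).mp hzB
    have hcen : ∀ x ∈ B, Commute z' x := by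
      intro x hx
      have h1 : n⁻¹ * x * n ∈ B := by
        have := (mem_normalizer_iff.mp ((normalizer (B : Set G)).inv_mem hn) x).mp hx
        simpa using this
      have h2 : (n⁻¹ * x * n) * z = z * (n⁻¹ * x * n) := (hBz _ h1).eq
      rw [hz']
      calc n * z * n⁻¹ * x = n * (z * (n⁻¹ * x * n)) * n⁻¹ := by group
        _ = n * ((n⁻¹ * x * n) * z) * n⁻¹ := by rw [h2]
        _ = x * (n * z * n⁻¹) := by group
    obtain ⟨w1, hw1, w2, hw2, hw⟩ := hprod z' hz'B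
    have hc1 : w1 = 1 ∨ w1 = z := by
      have key : ∀ x ∈ W1, Commute w1 x := by
        intro x hx
        have h2 : Commute (w1 * w2) x := hw ▸ hcen x (hW1B hx)
        have h3 : Commute w2⁻¹ x := (h.comm x hx w2⁻¹ (W2.inv_mem hw2)).symm
        have h4 := h2.mul_left h3
        rwa [mul_inv_cancel_right] at h4
      exact mc_center h.m1 hw1 (key _ h.m1.mem) (key _ (mc_τ_mem h.m1))
    have hc2 : w2 = 1 ∨ w2 = u := by
      have key : ∀ x ∈ W2, Commute w2 x := by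
        intro x hx
        have h2 : Commute (w1 * w2) x := hw ▸ hcen x (hW2B hx)
        have h3 : Commute w1⁻¹ x := h.comm w1⁻¹ (W1.inv_mem hw1) x hx
        have h4 := h3.mul_left h2
        rwa [inv_mul_cancel_left] at h4
      exact mc_center h.m2 hw2 (key _ h.m2.mem) (key _ (mc_τ_mem h.m2))
    have hz'1 : z' ≠ 1 := hz' ▸ ne_one_cj hz1 n
    rw [← hz']
    rcases hc1 with rfl | rfl <;> rcases hc2 with rfl | rfl
    · exact absurd (by rw [hw, mul_one]) hz'1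
    · exact absurd (isConj_of (hz'.symm.trans (by rw [hw, one_mul]))) hzu
    · rw [hw, mul_one]
    · exact absurd (isConj_of (hz'.symm.trans hw)) (not_isConj_mul F ha))
  rw [hP] at hS
  -- conjugates of `z` in `B`
  have hcl : ∀ v ∈ B, IsConj z v → v ∈ W1 := by
    intro v hv hc
    obtain ⟨g, hg⟩ := isConj_iff.mp hc
    have hQ := ha.qa.cj g
    rw [hg] at hQ
    have huv : u ≠ v := by
      rintro rfl
      exact hzu hc
    rcases dich F ha.qb ha.jb hJK' hQ huv (hBu v hv).symm with h1 | h1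
    · rw [h.w1]; exact ⟨hv, h1⟩
    · exact absurd (hc.trans h1.symm) hzu
  -- a noncentral involution of `W1` conjugate to `z`
  obtain ⟨a, haW, hazc, haz⟩ : ∃ a ∈ W1, IsConj z a ∧ a ≠ z := by
    obtain ⟨g, hg1, hg2⟩ := not_isolated F.simple F.nonComm hzz hz1
    obtain ⟨v, hv⟩ : ∃ v, v = g * z * g⁻¹ := ⟨_, rfl⟩
    rw [← hv] at hg1 hg2
    have hvp : IsPGroup 2 (zpowers v) := by
      apply IsPGroup.of_card (n := 1)
      rw [Nat.card_zpowers, pow_one]
      exact orderOf_eq_prime (by rw [pow_two, hv]; exact sq_cj hzz g) (hv ▸ ne_one_cj hz1 g)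
    obtain ⟨c, hc, hconj⟩ := exists_conj_le P
      ((zpowers_le).mpr (mem_centralizer_singleton_iff.mpr hg1.symm)) hvp
    have h1 := hconj v (mem_zpowers v)
    rw [hP] at h1
    have h2 : IsConj z (c * v * c⁻¹) := isConj_of (g := c * g) (by rw [hv]; group)
    refine ⟨c * v * c⁻¹, hcl _ h1 h2, h2, fun h3 => hg2 ?_⟩
    have h4 : c * z = z * c := mem_centralizer_singleton_iff.mp hc
    calc v = c⁻¹ * (c * v * c⁻¹) * c := by group
      _ = c⁻¹ * (z * c) := by rw [h3]; group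
      _ = z := by rw [← h4]; group
  obtain ⟨ga, hga⟩ := isConj_iff.mp hazc
  have haa : a * a = 1 := hga ▸ sq_cj hzz ga
  have ha1 : a ≠ 1 := hga ▸ ne_one_cj hz1 ga
  have hNJ := ha.centralizer_le F
  -- `a` fixes `Jz`
  have hfa : Fixes a Jz := by
    by_contra hnf
    obtain ⟨g, hg, t, ht, ht1, hgt⟩ := exists_conj_of_not_fixes (J := Jz) (W := W2) (a := a)
      (hNJ (h.le_a (hW1B haW))) haa hnf (h.w2 ▸ inf_le_right) (h.two.to_le hW2B)
      (by
        intro R hRJ hR hle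
        have h1 := inf_max P ha.ja.comp.le hNJ hRJ hR (by rw [hP, ← h.w2]; exact hle)
        rwa [hP, ← h.w2] at h1)
      (fun w hw => h.comm a haW w hw)
    have h1 : IsConj z (a * t) := hazc.trans (isConj_of hgt)
    have h2 := hcl _ (B.mul_mem (hW1B haW) (hW2B ht)) h1
    have h3 : t ∈ W1 := by
      have := W1.mul_mem (W1.inv_mem haW) h2
      rwa [inv_mul_cancel_left] at this
    exact ht1 (hdisj t h3 ht)
  have hQf : ∀ q ∈ Q1, Fixes q Jz := by
    intro q hq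
    rw [h.q1] at hq
    exact ha.ja.comp.fixes_of_mem ha.qa.comp.comp hJK hq.2
  have hWf : ∀ w ∈ W1, Fixes w Jz := by
    intro w hw
    rcases mc_index h.m1 haW haa ha1 haz hw with h1 | h1
    · exact hQf w h1
    · have h2 := fixes_mul (fixes_inv hfa) (hQf _ h1)
      rwa [inv_mul_cancel_left] at h2
  have hodd : ¬ EvenCenter Jz := fun h1 => hJz ((ha.even_iff F).mp h1)
  refine ⟨S, hS, ⟨hS ▸ hW1B, ?_⟩, hWf⟩
  intro w hw g hgS
  rw [hS] at hgS
  -- conjugates of involutions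
  have hinv : ∀ v ∈ W1, v * v = 1 → v ≠ 1 → IsConj z v := by
    intro v hv hvv hv1
    by_cases hvz : v = z
    · rw [hvz]
    · obtain ⟨x, -, hx⟩ := mc_inv_conj h.m1 haW haa ha1 haz hv hvv hv1 hvz
      exact hazc.trans (isConj_of hx)
  by_cases hw1 : w = 1
  · subst hw1
    have : g * 1 * g⁻¹ = (1 : G) := by group
    rw [this]
    exact one_mem _
  by_cases hww : w * w = 1
  · exact hcl _ hgS ((hinv w hw hww hw1).trans (isConj_of rfl))
  -- order at least four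
  obtain ⟨N, hN⟩ := (h.two.to_le hW1B) ⟨w, hw⟩
  have hN' : w ^ 2 ^ N = 1 := congrArg Subtype.val hN
  obtain ⟨k, hk⟩ := (Nat.dvd_prime_pow Nat.prime_two).mp (orderOf_dvd_of_pow_eq_one hN')
  have hk2 : orderOf w = 2 ^ k := hk.2
  obtain ⟨j, rfl⟩ : ∃ j, k = j + 2 := by
    rcases k with _ | _ | k
    · rw [pow_zero, orderOf_eq_one_iff] at hk2
      exact absurd hk2 hw1
    · exfalso
      apply hww
      rw [← pow_two, ← pow_orderOf_eq_one w, hk2]
      rfl
    · exact ⟨k, rfl⟩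
  -- `w ^ 2 ^ (j + 1) = z`
  have hwz : w ^ 2 ^ (j + 1) = z := by
    have h1 : w ^ 2 ^ (j + 1) = w ^ 2 ^ j * w ^ 2 ^ j := by
      rw [← pow_add]; congr 1; ring
    rw [h1]
    refine mc_sq h.m1 (W1.pow_mem hw _) ?_ ?_
    · rw [← h1]
      intro h2
      have h3 := orderOf_dvd_of_pow_eq_one h2
      rw [hk2] at h3
      have h4 := Nat.le_of_dvd (by positivity) h3
      have h5 : 2 ^ (j + 1) < 2 ^ (j + 2) := Nat.pow_lt_pow_right (by norm_num) (by omega)
      omega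
    · rw [← pow_add, ← pow_add]
      have h2 : 2 ^ j + 2 ^ j + (2 ^ j + 2 ^ j) = 2 ^ (j + 2) := by ring
      rw [h2, ← hk2, pow_orderOf_eq_one]
  obtain ⟨b, hb⟩ : ∃ b, b = g * w * g⁻¹ := ⟨_, rfl⟩
  rw [← hb] at hgS ⊢
  have hbz : b ^ 2 ^ (j + 1) = g * z * g⁻¹ := by rw [hb, conj_pow, hwz]
  obtain ⟨x1, hx1, x2, hx2, hx⟩ := hprod b hgS
  have hx12 : Commute x1 x2 := h.comm x1 hx1 x2 hx2
  have h1 : g * z * g⁻¹ ∈ W1 := hcl _ (hbz ▸ B.pow_mem hgS _) (isConj_of rfl)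
  have h2 : b ^ 2 ^ (j + 1) = x1 ^ 2 ^ (j + 1) * x2 ^ 2 ^ (j + 1) := by
    rw [hx, hx12.mul_pow]
  have h3 : x2 ^ 2 ^ (j + 1) = 1 := by
    apply hdisj _ _ (W2.pow_mem hx2 _)
    have h4 := W1.mul_mem (W1.inv_mem (W1.pow_mem hx1 (2 ^ (j + 1)))) h1
    rw [← hbz, h2, inv_mul_cancel_left] at h4
    exact h4
  rw [h3, mul_one, hbz] at h2
  have hgz : g * z * g⁻¹ = z := by
    have h4 : x1 ^ 2 ^ (j + 1) = x1 ^ 2 ^ j * x1 ^ 2 ^ j := by
      rw [← pow_add]; congr 1; ring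
    rw [h4] at h2
    rw [h2]
    refine mc_sq h.m1 (W1.pow_mem hx1 _) ?_ ?_
    · rw [← h2]; exact ne_one_cj hz1 g
    · rw [← h2]; exact sq_cj hzz g
  have hgC : Commute g z := mul_inv_eq_iff_eq_mul.mp hgz
  have hgJ : cj g Jz = Jz := mem_normalizer_iff_cj.mp
    (hNJ (mem_centralizer_singleton_iff.mpr hgC.eq))
  have hbf : Fixes b Jz := by
    have h4 := (hWf w hw).cj g
    rwa [hgJ, ← hb] at h4
  have hx2f : Fixes x2 Jz := by
    have h4 := fixes_mul (fixes_inv (hWf x1 hx1)) hbf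
    rwa [hx, inv_mul_cancel_left] at h4
  have hx2J : x2 ∈ Jz := by
    rw [h.w2] at hx2
    exact hx2.2
  have hx21 : x2 = 1 := Comp.eq_one_of_odd ha.ja.comp hodd hx2f
    ⟨x2, hx2J, by rw [inv_mul_cancel]; exact one_mem _⟩ h3
  rw [hx, hx21, mul_one]
  exact hx1

/-- (4) of #6409, from S1173. -/
theorem false_NN (F : Frame G)
    (h1173 : oddCore G = ⊥ → ∀ (S : Sylow 2 G) (T : Subgroup G),
      IsStronglyClosed T (S : Subgroup G) →
      ((⨅ n : ℕ, derivedSeries ↥(centralizer (T : Set G)) n).map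
        (centralizer (T : Set G)).subtype).Normal)
    {z u : G} {Kz Ku Jz Ju B W1 W2 Q1 Q2 : Subgroup G} {α1 τ1 α2 τ2 : G} {n1 n2 : ℕ}
    (h : Two z u Kz Ku Jz Ju B W1 W2 Q1 Q2 α1 τ1 α2 τ2 n1 n2) (hJz : ¬ QT Jz)
    (hzu : ¬ IsConj z u) : False := by
  have hs := F.simple
  obtain ⟨S, hS, hcl, hf⟩ := closed_NN F h hJz hzu
  have hna : ∃ a b : G, a * b ≠ b * a := by
    by_contra hcon
    push Not at hcon
    exact F.nonComm ⟨⟨hcon⟩⟩
  exact false_of_fixer hna h1173 h.alpha.ja.comp S W1 hcl hf (mc_z_mem h.m1) h.alpha.qa.comp.inv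

end Cfsg.Agent.GH.QJN
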