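import Cfsg.Agent.GH.QJBase
import Cfsg.Agent.TwoFusion.CentResidualBasic
import Cfsg.Prelude.Def_TwoFusion

/-!
# GH-Q (I), branch `J`, tools for the cases `(T, N)` and `(N, N)` (board GH #6409 (3), (4))

* `exists_sylow_eq`: a Sylow 2-subgroup `B` of `H` with `N_G(B) ≤ H` is a Sylow 2-subgroup of `G`.
* `exists_conj_of_not_fixes`: an involution `a` normalizing `J`, centralizing a Sylow 2-subgroup `W` of `J`
  and not fixing `J`, is conjugate under `J` to `a t`, `1 ≠ t ∈ W`.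
* facts on `MC W Q α τ z n`.
-/

set_option autoImplicit false

open Cfsg Subgroup
open Cfsg.Agent.SignalizersComponents Cfsg.Agent.Lib
open Cfsg.Agent.SignalizersComponents.IntrinsicBasic
open Cfsg.Agent.SignalizersComponents.PLayerAut
open Cfsg.Agent.Intrinsic.Basic Cfsg.Agent.Intrinsic.Cen
open Cfsg.Agent.GH.Defs Cfsg.Agent.GH.XSet Cfsg.Agent.GH.QA
open scoped commutatorElement Pointwise

namespace Cfsg.Agent.GH.QJNTools

variable {G : Type*} [Group G]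

/-! ### Sylow subgroups -/

/-- A 2-subgroup of `H` containing the Sylow 2-subgroup `P` is `P`. -/
theorem le_of_isPGroup {H R : Subgroup G} (P : Sylow 2 H) (hRH : R ≤ H) (hR : IsPGroup 2 R)
    (hPR : (P : Subgroup H).map H.subtype ≤ R) : R ≤ (P : Subgroup H).map H.subtype := by
  have h1 : IsPGroup 2 (R.subgroupOf H) :=
    hR.of_injective (Subgroup.subgroupOfEquivOfLe hRH).toMonoidHom
      (Subgroup.subgroupOfEquivOfLe hRH).injective
  have h2 : (P : Subgroup H) ≤ R.subgroupOf H := by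
    intro x hx
    exact hPR ⟨x, hx, rfl⟩
  have h3 := P.3 h1 h2
  intro x hx
  have h4 : (⟨x, hRH hx⟩ : H) ∈ R.subgroupOf H := hx
  rw [h3] at h4
  exact ⟨_, h4, rfl⟩

theorem isPGroup_map {H : Subgroup G} (P : Sylow 2 H) :
    IsPGroup 2 ((P : Subgroup H).map H.subtype) := P.2.map H.subtype

/-- A Sylow 2-subgroup `B` of `H` with `N_G(B) ≤ H` is a Sylow 2-subgroup of `G`. -/
theorem exists_sylow_eq [Finite G] {H : Subgroup G} (P : Sylow 2 H)
    (hN : normalizer ((P : Subgroup H).map H.subtype : Set G) ≤ H) :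
    ∃ S : Sylow 2 G, (S : Subgroup G) = (P : Subgroup H).map H.subtype := by
  have hp2 : Fact (Nat.Prime 2) := ⟨Nat.prime_two⟩
  obtain ⟨B, hB⟩ : ∃ B, B = (P : Subgroup H).map H.subtype := ⟨_, rfl⟩
  have hBp : IsPGroup 2 B := hB ▸ isPGroup_map P
  obtain ⟨S, hS⟩ := hBp.exists_le_sylow
  refine ⟨S, ?_⟩
  rw [← hB]
  rw [← hB] at hN
  by_contra hne
  have hnil : Group.IsNilpotent (S : Subgroup G) := S.2.isNilpotent
  have hlt : B.subgroupOf S < ⊤ := by
    rw [lt_top_iff_ne_top]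
    intro h1
    rw [subgroupOf_eq_top] at h1
    exact hne (le_antisymm h1 hS)
  have hlt2 := Group.normalizerCondition_of_isNilpotent _ hlt
  obtain ⟨x, hx, hxB⟩ := SetLike.exists_of_lt hlt2
  have hxN : (x : G) ∈ normalizer (B : Set G) := by
    rw [mem_normalizer_iff] at hx ⊢
    intro b
    constructor
    · intro hb
      exact (hx ⟨b, hS hb⟩).mp hb
    · intro hb
      have h2 : b ∈ (S : Subgroup G) := by
        have h3 : (x : G) * b * (x : G)⁻¹ ∈ (S : Subgroup G) := hS hb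
        have h4 := mul_mem (mul_mem (inv_mem x.2) h3) x.2
        have h5 : (x : G)⁻¹ * ((x : G) * b * (x : G)⁻¹) * x = b := by group
        rwa [h5] at h4
      exact (hx ⟨b, h2⟩).mpr hb
  have hR := le_of_isPGroup (R := normalizer (B : Set G) ⊓ (S : Subgroup G)) P
    (inf_le_left.trans hN) (S.2.to_le inf_le_right) (hB ▸ le_inf le_normalizer hS)
  rw [← hB] at hR
  exact hxB (hR ⟨hxN, x.2⟩)

/-- A 2-subgroup of `H` is conjugate into the Sylow 2-subgroup `P` of `H`. -/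
theorem exists_conj_le [Finite G] {H R : Subgroup G} (P : Sylow 2 H) (hRH : R ≤ H)
    (hR : IsPGroup 2 R) :
    ∃ h ∈ H, ∀ x ∈ R, h * x * h⁻¹ ∈ (P : Subgroup H).map H.subtype := by
  have hp2 : Fact (Nat.Prime 2) := ⟨Nat.prime_two⟩
  have h1 : IsPGroup 2 (R.subgroupOf H) :=
    hR.of_injective (Subgroup.subgroupOfEquivOfLe hRH).toMonoidHom
      (Subgroup.subgroupOfEquivOfLe hRH).injective
  obtain ⟨P', hP'⟩ := h1.exists_le_sylow
  obtain ⟨h, hh⟩ := MulAction.exists_smul_eq H P' P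
  refine ⟨h, h.2, fun x hx => ?_⟩
  have h2 : (⟨x, hRH hx⟩ : H) ∈ P' := hP' (show (⟨x, hRH hx⟩ : H) ∈ R.subgroupOf H from hx)
  have h3 : MulAut.conj h • (⟨x, hRH hx⟩ : H) ∈ (h • P' : Sylow 2 H) :=
    Subgroup.smul_mem_pointwise_smul _ _ _ h2
  rw [hh] at h3
  exact ⟨_, h3, rfl⟩

/-- `B ∩ J` is a maximal 2-subgroup of `J`, `J` normal in `H`, `B` Sylow in `H`. -/
theorem inf_max [Finite G] {H J : Subgroup G} (P : Sylow 2 H) (hJH : J ≤ H)
    (hJ : H ≤ normalizer (J : Set G)) {R : Subgroup G} (hRJ : R ≤ J) (hR : IsPGroup 2 R)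
    (hle : (P : Subgroup H).map H.subtype ⊓ J ≤ R) :
    R ≤ (P : Subgroup H).map H.subtype ⊓ J := by
  obtain ⟨h, hh, hconj⟩ := exists_conj_le P (hRJ.trans hJH) hR
  have h1 : cj h R ≤ (P : Subgroup H).map H.subtype ⊓ J := by
    rintro _ ⟨x, hx, rfl⟩
    exact ⟨hconj x hx, (mem_normalizer_iff.mp (hJ hh) x).mp (hRJ hx)⟩
  have h2 : Nat.card (cj h R) = Nat.card R := card_map_of_injective (MulAut.conj h).injective
  have h3 := Subgroup.card_le_of_le h1
  rw [h2] at h3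
  exact (Subgroup.eq_of_le_of_card_ge hle h3).ge

/-- A 2-element normalising a Sylow 2-subgroup is in it. -/
theorem mem_sylow (S : Sylow 2 G) {x : G} (hx : x ∈ normalizer ((S : Subgroup G) : Set G))
    {n : ℕ} (hn : x ^ 2 ^ n = 1) : x ∈ (S : Subgroup G) := by
  have h1 : IsPGroup 2 (zpowers x) := by
    rintro ⟨y, hy⟩
    obtain ⟨k, rfl⟩ := mem_zpowers_iff.1 hy
    refine ⟨n, Subtype.ext ?_⟩
    change (x ^ k) ^ 2 ^ n = 1
    rw [← zpow_natCast, ← zpow_mul, mul_comm, zpow_mul, zpow_natCast, hn, one_zpow]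
  have h2 : IsPGroup 2 ↥(zpowers x ⊔ (S : Subgroup G)) :=
    IsPGroup.to_sup_of_normal_right' h1 S.2 (by rw [zpowers_le]; exact hx)
  have h3 := S.3 h2 le_sup_right
  rw [← h3]
  exact mem_sup_left (mem_zpowers x)

/-! ### Z* relative to `J` -/

/-- An involution `a` normalizing `J`, centralizing the Sylow 2-subgroup `W` of `J`, not fixing `J`. -/
theorem exists_conj_of_not_fixes [Finite G] {J W : Subgroup G} {a : G}
    (haJ : a ∈ normalizer (J : Set G)) (ha : a * a = 1) (hnf : ¬ Fixes a J) (hWJ : W ≤ J)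
    (hWp : IsPGroup 2 W)
    (hmax : ∀ R : Subgroup G, R ≤ J → IsPGroup 2 R → W ≤ R → R ≤ W)
    (hWa : ∀ w ∈ W, Commute a w) :
    ∃ g ∈ J, ∃ t ∈ W, t ≠ 1 ∧ g * a * g⁻¹ = a * t := by
  have hp2 : Fact (Nat.Prime 2) := ⟨Nat.prime_two⟩
  obtain ⟨x, hx, hne, hc⟩ := (QJ.fixes_or_conj ha haJ).resolve_left hnf
  have hi : a⁻¹ = a := inv_eq_of_mul_eq_one_left ha
  obtain ⟨t, ht⟩ : ∃ t, t = a * (x * a * x⁻¹) := ⟨_, rfl⟩
  have htJ : t ∈ J := by
    have h1 := QJ.conj_mem_of_norm haJ hx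
    have h2 := mul_mem h1 (inv_mem hx)
    have h3 : a * x * a⁻¹ * x⁻¹ = a * (x * a * x⁻¹) := by rw [hi]; group
    rw [ht, ← h3]
    exact h2
  have hxx : (x * a * x⁻¹) * (x * a * x⁻¹) = 1 := by
    calc (x * a * x⁻¹) * (x * a * x⁻¹) = x * (a * a) * x⁻¹ := by group
      _ = 1 := by rw [ha]; group
  have htt : t * t = 1 := by
    rw [ht]
    calc (a * (x * a * x⁻¹)) * (a * (x * a * x⁻¹))
        = a * ((x * a * x⁻¹) * a) * (x * a * x⁻¹) := by group
      _ = a * (a * (x * a * x⁻¹)) * (x * a * x⁻¹) := by rw [hc.eq]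
      _ = (a * a) * ((x * a * x⁻¹) * (x * a * x⁻¹)) := by group
      _ = 1 := by rw [ha, hxx, one_mul]
  have hxt : x * a * x⁻¹ = a * t := by
    rw [ht]
    calc x * a * x⁻¹ = (a * a) * (x * a * x⁻¹) := by rw [ha, one_mul]
      _ = _ := by group
  have hat : Commute a t := by rw [ht]; exact (Commute.refl a).mul_right hc
  have ht1 : t ≠ 1 := by
    intro h1
    apply hne
    rw [hxt, h1, mul_one]
  -- the centralizer of `a` in `J`
  obtain ⟨C, hC⟩ : ∃ C, C = J ⊓ centralizer ({a} : Set G) := ⟨_, rfl⟩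
  have hWC : W ≤ C := by
    rw [hC]
    refine le_inf hWJ fun w hw => ?_
    exact mem_centralizer_singleton_iff.mpr (hWa w hw).eq.symm
  have htC : t ∈ C := by
    rw [hC]
    exact ⟨htJ, mem_centralizer_singleton_iff.mpr hat.eq.symm⟩
  have hW' : IsPGroup 2 (W.subgroupOf C) :=
    hWp.of_injective (Subgroup.subgroupOfEquivOfLe hWC).toMonoidHom
      (Subgroup.subgroupOfEquivOfLe hWC).injective
  obtain ⟨P, hP⟩ := hW'.exists_le_sylow
  have hPW : (P : Subgroup C).map C.subtype ≤ W := by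
    refine hmax _ ?_ (isPGroup_map P) ?_
    · refine (map_subtype_le _).trans ?_
      rw [hC]
      exact inf_le_left
    · intro w hw
      exact ⟨⟨w, hWC hw⟩, hP hw, rfl⟩
  have htp : IsPGroup 2 (zpowers t) := by
    apply IsPGroup.of_card (n := 1)
    rw [Nat.card_zpowers, pow_one]
    exact orderOf_eq_prime (by rw [pow_two, htt]) ht1
  obtain ⟨h, hh, hconj⟩ := exists_conj_le P ((zpowers_le).mpr htC) htp
  have h1 := hPW (hconj t (mem_zpowers t))
  rw [hC] at hh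
  have hha : h * a * h⁻¹ = a := by
    have h2 : h * a = a * h := mem_centralizer_singleton_iff.mp hh.2
    rw [h2]; group
  refine ⟨h * x, mul_mem hh.1 hx, h * t * h⁻¹, h1, ?_, ?_⟩
  · intro h2
    apply ht1
    have h3 : t = h⁻¹ * (h * t * h⁻¹) * h := by group
    rw [h3, h2]; group
  · calc h * x * a * (h * x)⁻¹ = h * (x * a * x⁻¹) * h⁻¹ := by group
      _ = h * (a * t) * h⁻¹ := by rw [hxt]
      _ = (h * a * h⁻¹) * (h * t * h⁻¹) := by group
      _ = _ := by rw [hha]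

/-! ### S1173 -/

/-- A nontrivial strongly closed 2-subgroup fixing a 2-component does not exist in a simple group. -/
theorem false_of_fixer [Finite G] [IsSimpleGroup G] (hna : ∃ a b : G, a * b ≠ b * a)
    (h1173 : oddCore G = ⊥ → ∀ (S : Sylow 2 G) (T : Subgroup G),
      IsStronglyClosed T (S : Subgroup G) →
      ((⨅ n : ℕ, derivedSeries ↥(centralizer (T : Set G)) n).map
        (centralizer (T : Set G)).subtype).Normal)
    {H J : Subgroup G} (hJ : IsComp H J) (S : Sylow 2 G) (T : Subgroup G)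
    (hT : IsStronglyClosed T (S : Subgroup G)) (hfix : ∀ t ∈ T, Fixes t J) {x : G} (hxT : x ∈ T)
    (hx : orderOf x = 2) : False := by
  have hp2 : Fact (Nat.Prime 2) := ⟨Nat.prime_two⟩
  have hx1 : x ≠ 1 := by
    rintro rfl
    rw [orderOf_one] at hx
    omega
  have hO : oddCore G = ⊥ := by
    rcases (inferInstance : (oddCore G).Normal).eq_bot_or_eq_top with h1 | h1
    · exact h1
    · exfalso
      have h3 : Odd (Nat.card (oddCore G)) := Nat.coprime_two_right.1 (Cores.pPrimeCore_coprime 2)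
      rw [h1, card_top] at h3
      have h4 : 2 ∣ Nat.card G := hx ▸ orderOf_dvd_natCard x
      exact (Nat.not_even_iff_odd.2 h3) (even_iff_two_dvd.2 h4)
  have hnorm := h1173 hO S T hT
  rw [TwoFusion.CentResidual.map_iInf_derivedSeries] at hnorm
  have hTp : IsPGroup 2 T := S.2.to_le hT.1
  obtain ⟨h1, h2⟩ := isComp_cenW hJ hTp hfix
  have hle : cenW J T ≤ TwoFusion.CentResidual.PR (centralizer (T : Set G)) :=
    TwoFusion.CentResidual.le_PR (cenW_le_centralizer _ _) (le_of_eq h1.perfect.symm)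
  rcases hnorm.eq_bot_or_eq_top with h3 | h3
  · rw [h3, le_bot_iff] at hle
    exact h1.ne_bot hle
  · have h4 : centralizer (T : Set G) = ⊤ := by
      rw [eq_top_iff, ← h3]
      exact TwoFusion.CentResidual.PR_le _
    have h5 : x ∈ center G := by
      rw [mem_center_iff]
      intro g
      have h6 : g ∈ centralizer (T : Set G) := by rw [h4]; exact mem_top g
      exact (mem_centralizer_iff.mp h6 x hxT).symm
    rcases (inferInstance : (center G).Normal).eq_bot_or_eq_top with h6 | h6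
    · rw [h6, mem_bot] at h5
      exact hx1 h5
    · obtain ⟨a, b, hab⟩ := hna
      apply hab
      have h7 : b ∈ center G := by rw [h6]; exact mem_top b
      exact mem_center_iff.mp h7 a

/-! ### the groups `MC` -/

section mc

variable {W Q : Subgroup G} {α τ z : G} {n : ℕ}

theorem mc_cov (h : MC W Q α τ z n) {x : G} (hx : x ∈ W) :
    (∃ i : ℤ, x = α ^ i) ∨ ∃ i : ℤ, x = τ * α ^ i := by
  rcases h.cov x hx with ⟨i, hi⟩ | ⟨i, hi⟩
  · exact Or.inl ⟨i, by rw [hi, zpow_natCast]⟩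
  · exact Or.inr ⟨i, by rw [hi, zpow_natCast]⟩

theorem mc_z (h : MC W Q α τ z n) : α ^ 2 ^ (n + 2) = z := by
  rw [← h.gq.z_eq, ← pow_two, ← pow_mul]
  congr 1
  ring

theorem mc_zz (h : MC W Q α τ z n) : z * z = 1 := h.gq.z_mul

theorem mc_z_ne (h : MC W Q α τ z n) : z ≠ 1 := h.gq.z_ne

theorem mc_zα (h : MC W Q α τ z n) : Commute z α := by
  rw [← mc_z h]
  exact (Commute.refl α).pow_left _

theorem mc_zτ (h : MC W Q α τ z n) : Commute z τ := by
  rw [← h.gq.v_sq]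
  exact (Commute.refl τ).mul_left (Commute.refl τ)

theorem mc_zpow (h : MC W Q α τ z n) (i : ℤ) : z ^ i = 1 ∨ z ^ i = z := by
  rcases Int.even_or_odd i with ⟨k, rfl⟩ | ⟨k, rfl⟩
  · left
    rw [← two_mul, zpow_mul, zpow_two, mc_zz h, one_zpow]
  · right
    rw [zpow_add, zpow_mul, zpow_two, mc_zz h, one_zpow, one_mul, zpow_one]

theorem mc_zpow_even (h : MC W Q α τ z n) {i : ℤ} (hi : Even i) : z ^ i = 1 := by
  obtain ⟨k, rfl⟩ := hi
  rw [← two_mul, zpow_mul, zpow_two, mc_zz h, one_zpow]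

theorem mc_zpow_odd (h : MC W Q α τ z n) {i : ℤ} (hi : Odd i) : z ^ i = z := by
  obtain ⟨k, rfl⟩ := hi
  rw [zpow_add, zpow_mul, zpow_two, mc_zz h, one_zpow, one_mul, zpow_one]

/-- the exponent `e` of `z` in `τ α τ⁻¹ = α⁻¹ z ^ e` -/
theorem mc_conj (h : MC W Q α τ z n) :
    ∃ e : ℤ, (e = 0 ∨ e = 1) ∧ ∀ i : ℤ, τ * α ^ i * τ⁻¹ = α ^ (-i) * z ^ (e * i) := by
  rcases h.conj with h1 | h1
  · refine ⟨0, Or.inl rfl, fun i => ?_⟩
    rw [← _root_.conj_zpow, h1, inv_zpow, zpow_neg, zero_mul, zpow_zero, mul_one]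
  · refine ⟨1, Or.inr rfl, fun i => ?_⟩
    have h2 : Commute α⁻¹ z := ((mc_zα h).symm).inv_left
    rw [← _root_.conj_zpow, h1, h2.mul_zpow, inv_zpow, zpow_neg, one_mul]

/-- `(τ α^i)² = z ^ (e i + 1)` -/
theorem mc_out_sq (h : MC W Q α τ z n) {e : ℤ}
    (he : ∀ i : ℤ, τ * α ^ i * τ⁻¹ = α ^ (-i) * z ^ (e * i)) (i : ℤ) :
    (τ * α ^ i) * (τ * α ^ i) = z ^ (e * i + 1) := by
  have hzi : Commute z (α ^ i) := (mc_zα h).zpow_right i
  calc (τ * α ^ i) * (τ * α ^ i) = (τ * α ^ i * τ⁻¹) * (τ * τ) * α ^ i := by group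
    _ = α ^ (-i) * z ^ (e * i) * z * α ^ i := by rw [he, h.gq.v_sq]
    _ = α ^ (-i) * (z ^ (e * i + 1) * α ^ i) := by rw [zpow_add, zpow_one]; group
    _ = α ^ (-i) * (α ^ i * z ^ (e * i + 1)) := by rw [(hzi.zpow_left (e * i + 1)).eq]
    _ = z ^ (e * i + 1) := by rw [← mul_assoc, ← zpow_add, neg_add_cancel, zpow_zero, one_mul]

/-- involutions in `⟨α⟩` -/
theorem mc_alpha_sq (h : MC W Q α τ z n) {i : ℤ} (hi : α ^ i * α ^ i = 1) : α ^ i = 1 ∨ α ^ i = z := by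
  rw [← zpow_add] at hi
  have h1 : ((2 ^ (n + 3) : ℕ) : ℤ) ∣ i + i := by
    rw [← h.ord]
    exact orderOf_dvd_iff_zpow_eq_one.mpr hi
  have h2 : ((2 ^ (n + 2) : ℕ) : ℤ) ∣ i := by
    obtain ⟨k, hk⟩ := h1
    refine ⟨k, ?_⟩
    push_cast at hk ⊢
    have h3 : (2 : ℤ) ^ (n + 3) = 2 * 2 ^ (n + 2) := by ring
    rw [h3] at hk
    linarith
  obtain ⟨k, rfl⟩ := h2
  rw [zpow_mul, zpow_natCast, mc_z h]
  exact mc_zpow h k

theorem mc_alpha_even (h : MC W Q α τ z n) {i : ℤ} (hi : Even i) : α ^ i ∈ Q := by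
  obtain ⟨k, rfl⟩ := hi
  rw [← two_mul, zpow_mul, zpow_two]
  exact Q.zpow_mem h.gq.c_mem k

/-- `α ^ 4 ≠ 1` -/
theorem mc_alpha_four (h : MC W Q α τ z n) {i : ℤ} (hi : Odd i) : α ^ (4 * i) ≠ 1 := by
  intro h1
  have h2 : ((2 ^ (n + 3) : ℕ) : ℤ) ∣ 4 * i := by
    rw [← h.ord]
    exact orderOf_dvd_iff_zpow_eq_one.mpr h1
  have h3 : (8 : ℤ) ∣ 4 * i := by
    refine dvd_trans ?_ h2
    refine ⟨2 ^ n, ?_⟩
    push_cast
    ring
  obtain ⟨k, hk⟩ := h3
  obtain ⟨m, rfl⟩ := hi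
  omega

/-- the centre of `W` -/
theorem mc_center (h : MC W Q α τ z n) {x : G} (hx : x ∈ W) (hxα : Commute x α)
    (hxτ : Commute x τ) : x = 1 ∨ x = z := by
  obtain ⟨e, he0, he⟩ := mc_conj h
  rcases mc_cov h hx with ⟨i, rfl⟩ | ⟨i, rfl⟩
  · have h1 := he i
    have h2 : τ * α ^ i * τ⁻¹ = α ^ i := by rw [← hxτ.eq]; group
    rw [h2] at h1
    have h3 : α ^ i * α ^ i = z ^ (e * i) := by
      nth_rewrite 2 [h1]
      rw [← mul_assoc, ← zpow_add, add_neg_cancel, zpow_zero, one_mul]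
    rcases Int.even_or_odd (e * i) with h4 | h4
    · rw [mc_zpow_even h h4] at h3
      exact mc_alpha_sq h h3
    · exfalso
      rw [mc_zpow_odd h h4] at h3
      have h5 : Odd i := (Int.odd_mul.mp h4).2
      apply mc_alpha_four h h5
      have h6 : α ^ (4 * i) = (α ^ i * α ^ i) * (α ^ i * α ^ i) := by
        rw [← zpow_add, ← zpow_add]; congr 1; ring
      rw [h6, h3, mc_zz h]
  · exfalso
    have h1 : Commute τ α := by
      have h2 : Commute (τ * α ^ i * (α ^ i)⁻¹) α :=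
        hxα.mul_left (((Commute.refl α).zpow_left i).inv_left)
      rwa [mul_inv_cancel_right] at h2
    have h2 := he 1
    rw [zpow_one, h1.eq, mul_inv_cancel_right, mul_one] at h2
    apply mc_alpha_four h (i := 1) odd_one
    have h3 : α * α = z ^ e := by
      nth_rewrite 2 [h2]
      rw [← mul_assoc, zpow_neg, zpow_one, mul_inv_cancel, one_mul]
    have h6 : α ^ (4 * 1 : ℤ) = (α * α) * (α * α) := by
      rw [mul_one]
      rw [show (4 : ℤ) = ((2 + 2 : ℕ) : ℤ) from rfl, zpow_natCast, pow_add, pow_two]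
    rw [h6, h3, ← zpow_add]
    exact mc_zpow_even h ⟨e, rfl⟩

/-- noncentral involutions -/
theorem mc_inv (h : MC W Q α τ z n) {e : ℤ}
    (he : ∀ i : ℤ, τ * α ^ i * τ⁻¹ = α ^ (-i) * z ^ (e * i)) {x : G} (hx : x ∈ W) (hxx : x * x = 1)
    (hx1 : x ≠ 1) (hxz : x ≠ z) : Odd e ∧ ∃ i : ℤ, Odd i ∧ x = τ * α ^ i := by
  rcases mc_cov h hx with ⟨i, rfl⟩ | ⟨i, rfl⟩
  · exfalso
    rcases mc_alpha_sq h hxx with h1 | h1
    · exact hx1 h1
    · exact hxz h1
  · rw [mc_out_sq h he] at hxx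
    rcases Int.even_or_odd (e * i + 1) with h1 | h1
    · have h2 : Odd (e * i) := by
        obtain ⟨k, hk⟩ := h1
        exact ⟨k - 1, by linarith⟩
      exact ⟨(Int.odd_mul.mp h2).1, i, (Int.odd_mul.mp h2).2, rfl⟩
    · exfalso
      rw [mc_zpow_odd h h1] at hxx
      exact mc_z_ne h hxx

/-- noncentral involutions are conjugate in `W` -/
theorem mc_inv_conj (h : MC W Q α τ z n) {a b : G} (ha : a ∈ W) (haa : a * a = 1)
    (ha1 : a ≠ 1) (haz : a ≠ z) (hb : b ∈ W) (hbb : b * b = 1) (hb1 : b ≠ 1) (hbz : b ≠ z) :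
    ∃ w ∈ W, w * a * w⁻¹ = b := by
  obtain ⟨e, he0, he⟩ := mc_conj h
  obtain ⟨hodd, i, hi, rfl⟩ := mc_inv h he ha haa ha1 haz
  obtain ⟨-, j, hj, rfl⟩ := mc_inv h he hb hbb hb1 hbz
  have he1 : e = 1 := by
    rcases he0 with h1 | h1
    · rw [h1] at hodd; exact absurd hodd (by decide)
    · exact h1
  subst he1
  obtain ⟨β, hβ⟩ : ∃ β, β = α ^ (-2 : ℤ) * z := ⟨_, rfl⟩
  have hza : ∀ m : ℤ, Commute z (α ^ m) := fun m => (mc_zα h).zpow_right m
  have hβp : ∀ k : ℤ, β ^ k = α ^ (-2 * k) * z ^ k := by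
    intro k
    rw [hβ, ((hza (-2)).symm).mul_zpow, ← zpow_mul]
  have hβz : β ^ ((2 : ℤ) ^ (n + 1)) = z := by
    rw [hβp, mc_zpow_even h ⟨2 ^ n, by ring⟩, mul_one]
    have h1 : (-2 : ℤ) * 2 ^ (n + 1) = -((2 ^ (n + 2) : ℕ) : ℤ) := by push_cast; ring
    rw [h1, zpow_neg, zpow_natCast, mc_z h, h.gq.z_inv]
  have hα2 : α ^ (-2 : ℤ) ∈ zpowers β := by
    have h1 : α ^ (-2 : ℤ) = β * z⁻¹ := by rw [hβ]; group
    rw [h1]
    refine mul_mem (mem_zpowers β) (inv_mem ?_)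
    exact mem_zpowers_iff.mpr ⟨_, hβz⟩
  -- `α ^ (j - i) = β ^ k`
  obtain ⟨k, hk⟩ : ∃ k : ℤ, β ^ k = α ^ (j - i) := by
    obtain ⟨i', rfl⟩ := hi
    obtain ⟨j', rfl⟩ := hj
    have h1 : α ^ (2 * j' + 1 - (2 * i' + 1)) = (α ^ (-2 : ℤ)) ^ (i' - j') := by
      rw [← zpow_mul]; congr 1; ring
    have h2 : α ^ (2 * j' + 1 - (2 * i' + 1)) ∈ zpowers β := by
      rw [h1]; exact zpow_mem hα2 _
    exact mem_zpowers_iff.mp h2
  refine ⟨α ^ k, W.zpow_mem h.mem k, ?_⟩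
  have h1 : τ⁻¹ * α ^ k * τ = α ^ (-k) * z ^ k := by
    have h2 := he (-k)
    have hzτ : ∀ m : ℤ, Commute (z ^ m) τ := fun m => (mc_zτ h).zpow_left m
    -- `τ α^{-k} τ⁻¹ = α^k z^{-k}`, so `α^k = τ α^{-k} τ⁻¹ z^k`
    have h3 : α ^ k = τ * α ^ (-k) * τ⁻¹ * z ^ k := by
      rw [h2, neg_neg, one_mul, mul_assoc, ← zpow_add, neg_add_cancel, zpow_zero, mul_one]
    calc τ⁻¹ * α ^ k * τ = τ⁻¹ * (τ * α ^ (-k) * τ⁻¹ * z ^ k) * τ := by rw [← h3]
      _ = α ^ (-k) * τ⁻¹ * (z ^ k * τ) := by group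
      _ = α ^ (-k) * τ⁻¹ * (τ * z ^ k) := by rw [(hzτ k).eq]
      _ = α ^ (-k) * z ^ k := by group
  calc α ^ k * (τ * α ^ i) * (α ^ k)⁻¹ = τ * (τ⁻¹ * α ^ k * τ) * (α ^ i * (α ^ k)⁻¹) := by group
    _ = τ * (α ^ (-k) * z ^ k) * (α ^ i * (α ^ k)⁻¹) := by rw [h1]
    _ = τ * α ^ (-k) * (z ^ k * α ^ (i - k)) := by rw [zpow_sub]; group
    _ = τ * α ^ (-k) * (α ^ (i - k) * z ^ k) := by rw [((hza (i - k)).zpow_left k).eq]
    _ = τ * (α ^ (-2 * k) * z ^ k) * α ^ i := by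
        have h4 : α ^ (-k) * α ^ (i - k) = α ^ (-2 * k) * α ^ i := by
          rw [← zpow_add, ← zpow_add]; congr 1; ring
        calc τ * α ^ (-k) * (α ^ (i - k) * z ^ k) = τ * (α ^ (-k) * α ^ (i - k)) * z ^ k := by group
          _ = τ * (α ^ (-2 * k) * α ^ i) * z ^ k := by rw [h4]
          _ = τ * α ^ (-2 * k) * (α ^ i * z ^ k) := by group
          _ = τ * α ^ (-2 * k) * (z ^ k * α ^ i) := by rw [((hza i).zpow_left k).eq]
          _ = _ := by group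
    _ = τ * α ^ (j - i) * α ^ i := by rw [← hβp, hk]
    _ = τ * α ^ j := by rw [mul_assoc, ← zpow_add, sub_add_cancel]

/-- an involution which is a square is `z` -/
theorem mc_sq (h : MC W Q α τ z n) {w : G} (hw : w ∈ W) (h1 : w * w ≠ 1)
    (h2 : (w * w) * (w * w) = 1) : w * w = z := by
  obtain ⟨e, he0, he⟩ := mc_conj h
  rcases mc_cov h hw with ⟨i, rfl⟩ | ⟨i, rfl⟩
  · rw [← zpow_add] at h1 h2 ⊢
    exact (mc_alpha_sq h h2).resolve_left h1
  · rw [mc_out_sq h he] at h1 ⊢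
    exact (mc_zpow h _).resolve_left h1

/-- `W = Q ∪ a Q` for a noncentral involution `a` -/
theorem mc_index (h : MC W Q α τ z n) {a : G} (ha : a ∈ W) (haa : a * a = 1)
    (ha1 : a ≠ 1) (haz : a ≠ z) {x : G} (hx : x ∈ W) : x ∈ Q ∨ a * x ∈ Q := by
  obtain ⟨e, he0, he⟩ := mc_conj h
  obtain ⟨hodd, j, hj, rfl⟩ := mc_inv h he ha haa ha1 haz
  rcases mc_cov h hx with ⟨i, rfl⟩ | ⟨i, rfl⟩
  · rcases Int.even_or_odd i with hi | hi
    · exact Or.inl (mc_alpha_even h hi)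
    · right
      rw [mul_assoc, ← zpow_add]
      exact mul_mem h.gq.v_mem (mc_alpha_even h (hj.add_odd hi))
  · rcases Int.even_or_odd i with hi | hi
    · exact Or.inl (mul_mem h.gq.v_mem (mc_alpha_even h hi))
    · right
      have hzi : Commute z (α ^ i) := (mc_zα h).zpow_right i
      have h1 : τ * α ^ j * (τ * α ^ i) = α ^ (i - j) * z ^ (e * j + 1) := by
        calc τ * α ^ j * (τ * α ^ i) = (τ * α ^ j * τ⁻¹) * (τ * τ) * α ^ i := by group
          _ = α ^ (-j) * z ^ (e * j) * z * α ^ i := by rw [he, h.gq.v_sq]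
          _ = α ^ (-j) * (z ^ (e * j + 1) * α ^ i) := by rw [zpow_add, zpow_one]; group
          _ = α ^ (-j) * (α ^ i * z ^ (e * j + 1)) := by rw [(hzi.zpow_left (e * j + 1)).eq]
          _ = _ := by rw [← mul_assoc, ← zpow_add]; congr 2; ring
      rw [h1]
      exact mul_mem (mc_alpha_even h (hi.sub_odd hj)) (Q.zpow_mem h.gq.z_mem _)

theorem mc_z_mem (h : MC W Q α τ z n) : z ∈ W := h.le h.gq.z_mem

theorem mc_τ_mem (h : MC W Q α τ z n) : τ ∈ W := h.le h.gq.v_mem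

end mc

end Cfsg.Agent.GH.QJNTools
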