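import Cfsg.Agent.GH.L2One.Inst
import Cfsg.Agent.GH.QADefs
import Cfsg.Agent.Transfer.CentralTransfer

/-!
# GH (EC): 2-components with even centre and top `PSL₂(q)`, `A₇` are of quaternion type

* `exists_quat` : a perfect central extension `f : Y → L` by a 2-group `≠ 1`, `L` with dihedral Sylow 2-subgroups
  and one class of involutions: `ker f = {1, z}` and there is `t`, `t * t = z`, `f t ≠ 1`;
* `eq_of_sq` : `z` is the only involution of `Y`;
* `qt_of_top` : `QT K`.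
-/

set_option autoImplicit false

open Cfsg Subgroup
open scoped commutatorElement
open Cfsg.Agent.Intrinsic.Basic
open Cfsg.Agent.GH.Defs Cfsg.Agent.GH.Comp

namespace Cfsg.Agent.GH.QTop

universe u v

/-- In a cyclic group of elements `w ^ k` there is at most one involution. -/
theorem zpow_sq_unique {Y : Type*} [Group Y] [Finite Y] {w a b : Y} (ha : a ∈ zpowers w)
    (hb : b ∈ zpowers w) (haa : a * a = 1) (hbb : b * b = 1) (ha1 : a ≠ 1) (hb1 : b ≠ 1) : a = b := by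
  by_contra hne
  have := Fintype.ofFinite (zpowers w)
  classical
  have h1 := IsCyclic.card_pow_eq_one_le (α := zpowers w) (n := 2) (by norm_num)
  have h2 : ({1, ⟨a, ha⟩, ⟨b, hb⟩} : Finset (zpowers w)) ⊆
      Finset.univ.filter fun x : zpowers w => x ^ 2 = 1 := by
    intro x hx
    rw [Finset.mem_filter]
    refine ⟨Finset.mem_univ _, ?_⟩
    simp only [Finset.mem_insert, Finset.mem_singleton] at hx
    rcases hx with rfl | rfl | rfl
    · exact one_pow 2
    · exact Subtype.ext (by rw [pow_two]; exact haa)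
    · exact Subtype.ext (by rw [pow_two]; exact hbb)
  have h3 : ({1, ⟨a, ha⟩, ⟨b, hb⟩} : Finset (zpowers w)).card = 3 := by
    rw [Finset.card_eq_three]
    refine ⟨1, ⟨a, ha⟩, ⟨b, hb⟩, ?_, ?_, ?_, rfl⟩
    · intro h; exact ha1 (congrArg Subtype.val h).symm
    · intro h; exact hb1 (congrArg Subtype.val h).symm
    · intro h; exact hne (congrArg Subtype.val h)
  have h4 := Finset.card_le_card h2
  omega

section abstract

variable {Y : Type u} {L : Type v} [Group Y] [Group L] [Finite Y] {f : Y →* L}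

/-- Transfer: the central 2-elements lie in the commutator subgroup of a Sylow 2-subgroup. -/
theorem mem_commutator (hperf : commutator Y = ⊤) (P : Sylow 2 Y) {z : Y} (hz : z ∈ center Y)
    {n : ℕ} (hn : z ^ 2 ^ n = 1) (hzP : z ∈ (P : Subgroup Y)) :
    z ∈ ⁅(P : Subgroup Y), (P : Subgroup Y)⁆ := by
  have : Fact (Nat.Prime 2) := ⟨Nat.prime_two⟩
  let z' : (P : Subgroup Y) := ⟨z, hzP⟩
  have h1 := Cfsg.Agent.Transfer.CentralTransfer.map_pow_index_eq_one_of_perfect hperf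
    (Abelianization.of (G := (P : Subgroup Y))) z' hz
  have h2 : (Abelianization.of z') ^ 2 ^ n = 1 := by
    rw [← map_pow]
    have : z' ^ 2 ^ n = 1 := Subtype.ext (by simpa using hn)
    rw [this, map_one]
  have hodd : Nat.Coprime (P : Subgroup Y).index (2 ^ n) := by
    apply Nat.Coprime.pow_right
    rw [Nat.coprime_two_right]
    rw [← Nat.not_even_iff_odd, even_iff_two_dvd]
    exact P.not_dvd_index
  have h3 : Abelianization.of z' = 1 := by
    have h4 := Nat.eq_one_of_dvd_coprimes hodd (orderOf_dvd_of_pow_eq_one h1)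
      (orderOf_dvd_of_pow_eq_one h2)
    exact orderOf_eq_one_iff.1 h4
  have h4 : z' ∈ commutator (P : Subgroup Y) := by
    rw [← Abelianization.ker_of]
    exact h3
  rw [← map_subtype_commutator]
  exact ⟨z', h4, rfl⟩

omit [Finite Y] in
/-- Central 2-elements lie in every Sylow 2-subgroup. -/
theorem mem_sylow (P : Sylow 2 Y) {z : Y} (hz : z ∈ center Y) {n : ℕ} (hn : z ^ 2 ^ n = 1) :
    z ∈ (P : Subgroup Y) := by
  have hZ : (zpowers z).Normal := ⟨fun a ha g => by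
    have h2 : a ∈ center Y := (zpowers_le.mpr hz) ha
    have h3 : g * a * g⁻¹ = a := by
      rw [mul_inv_eq_iff_eq_mul]
      exact mem_center_iff.mp h2 g
    rwa [h3]⟩
  have hp : IsPGroup 2 (zpowers z) := by
    rintro ⟨a, ha⟩
    obtain ⟨k, rfl⟩ := mem_zpowers_iff.mp ha
    refine ⟨n, Subtype.ext ?_⟩
    change (z ^ k) ^ 2 ^ n = 1
    rw [← zpow_natCast, zpow_comm, zpow_natCast, hn, one_zpow]
  have h1 : IsPGroup 2 ((P : Subgroup Y) ⊔ zpowers z : Subgroup Y) := P.2.to_sup_of_normal_right hp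
  have h2 := P.3 h1 le_sup_left
  rw [← h2]
  exact mem_sup_right (mem_zpowers z)

/-- **The cover of a dihedral group.** -/
theorem exists_quat (hperf : commutator Y = ⊤)
    (hc : ∀ z, f z = 1 → z ∈ center Y) (h2 : ∀ z, f z = 1 → ∃ n : ℕ, z ^ 2 ^ n = 1)
    (hne : ∃ z, f z = 1 ∧ z ≠ 1) (P : Sylow 2 Y) {d : ℕ} {r c : L} (hd : 2 ≤ d)
    (hrP : ∃ R ∈ (P : Subgroup Y), f R = r) (hcP : ∃ C ∈ (P : Subgroup Y), f C = c)
    (hcc : c * c = 1) (hcr : c * r * c⁻¹ = r⁻¹) (hor : orderOf r = 2 ^ (d - 1))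
    (hcn : ∀ k : ℤ, c ≠ r ^ k)
    (hform : ∀ g ∈ (P : Subgroup Y), ∃ k : ℤ, f g = r ^ k ∨ f g = r ^ k * c) :
    ∃ z t : Y, z ≠ 1 ∧ f z = 1 ∧ (∀ y, f y = 1 → y = 1 ∨ y = z) ∧ t * t = z ∧ f t ≠ 1 := by
  obtain ⟨R, hRP, hR⟩ := hrP
  obtain ⟨C, hCP, hC⟩ := hcP
  -- the relation `C R C⁻¹ = R⁻¹ ζ`
  obtain ⟨ζ, hζ⟩ : ∃ ζ, ζ = R * (C * R * C⁻¹) := ⟨_, rfl⟩
  have hζ1 : f ζ = 1 := by
    rw [hζ, map_mul, map_mul, map_mul, map_inv, hC, hR, hcr, mul_inv_cancel]
  have hζc : ∀ y, y * ζ = ζ * y := mem_center_iff.mp (hc ζ hζ1)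
  have hCR : C * R * C⁻¹ = R⁻¹ * ζ := by rw [hζ]; group
  have hζR : Commute ζ R := (hζc R).symm
  have hCRk : ∀ k : ℤ, C * R ^ k * C⁻¹ = R ^ (-k) * ζ ^ k := by
    intro k
    rw [← conj_zpow, hCR, (hζR.inv_right.symm).mul_zpow, inv_zpow']
  -- `w`
  obtain ⟨w, hw⟩ : ∃ w, w = R ^ 2 * ζ⁻¹ := ⟨_, rfl⟩
  have hwk : ∀ k : ℤ, w ^ k = R ^ (2 * k) * ζ ^ (-k) := by
    intro k
    rw [hw, ((hζR.symm.pow_left 2).inv_right).mul_zpow, inv_zpow', ← zpow_natCast, ← zpow_mul]
    norm_num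
  have hCw : C * w * C⁻¹ = w⁻¹ := by
    have h1 := hCRk 2
    have e1 : C * w * C⁻¹ = (C * R ^ (2 : ℤ) * C⁻¹) * (C * ζ⁻¹ * C⁻¹) := by
      rw [hw, ← zpow_natCast]; group
    have e2 : C * ζ⁻¹ * C⁻¹ = ζ⁻¹ := by
      have : Commute C ζ⁻¹ := (Commute.inv_right (hζc C))
      rw [this.eq]; group
    rw [e1, h1, e2]
    have e3 := hwk (-1)
    rw [zpow_neg_one] at e3
    rw [e3]
    have : R ^ (-2 : ℤ) * ζ ^ (2 : ℤ) * ζ⁻¹ = R ^ (-2 : ℤ) * (ζ ^ (2 : ℤ) * ζ⁻¹) := mul_assoc _ _ _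
    rw [this]
    congr 1
    group
  -- normal form
  have hnf : ∀ g ∈ (P : Subgroup Y), ∃ (k : ℤ) (η : Y), (∀ y, y * η = η * y) ∧
      (g = R ^ k * η ∨ g = R ^ k * C * η) := by
    intro g hg
    obtain ⟨k, hk | hk⟩ := hform g hg
    · refine ⟨k, (R ^ k)⁻¹ * g, mem_center_iff.mp (hc _ ?_), Or.inl (by group)⟩
      rw [map_mul, map_inv, map_zpow, hR, hk, inv_mul_cancel]
    · refine ⟨k, (R ^ k * C)⁻¹ * g, mem_center_iff.mp (hc _ ?_), Or.inr (by group)⟩
      rw [map_mul, map_inv, map_mul, map_zpow, hR, hC, hk, inv_mul_cancel]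
  -- commutators
  have hcomm : ∀ (a b η θ : Y), (∀ y, y * η = η * y) → (∀ y, y * θ = θ * y) →
      ⁅a * η, b * θ⁆ = ⁅a, b⁆ := by
    intro a b η θ hη hθ
    have h1 : a * η * (b * θ) = a * b * (η * θ) := by
      calc a * η * (b * θ) = a * (η * b) * θ := by group
        _ = a * (b * η) * θ := by rw [hη b]
        _ = _ := by group
    have h2 : b * θ * (a * η) = b * a * (η * θ) := by
      calc b * θ * (a * η) = b * (θ * a) * η := by group
        _ = b * (a * θ) * η := by rw [hθ a]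
        _ = b * a * (θ * η) := by group
        _ = b * a * (η * θ) := by rw [hη θ]
    have h3 : ⁅a * η, b * θ⁆ = (a * η * (b * θ)) * (b * θ * (a * η))⁻¹ := by
      rw [commutatorElement_def]; group
    rw [h3, h1, h2, commutatorElement_def]
    group
  have k00 : ∀ i j : ℤ, ⁅R ^ i, R ^ j⁆ = 1 := by
    intro i j
    rw [commutatorElement_def]; group
  have k01 : ∀ i j : ℤ, ⁅R ^ i, R ^ j * C⁆ = w ^ i := by
    intro i j
    have h1 : ⁅R ^ i, R ^ j * C⁆ = R ^ (i + j) * (C * R ^ (-i) * C⁻¹) * R ^ (-j) := by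
      rw [commutatorElement_def]; group
    have h3 : ζ ^ (-i) * R ^ (-j) = R ^ (-j) * ζ ^ (-i) :=
      ((hζR.zpow_left (-i)).zpow_right (-j)).eq
    rw [h1, hCRk, hwk, mul_assoc, mul_assoc, h3, ← mul_assoc, ← mul_assoc, ← zpow_add, ← zpow_add]
    congr 2
    ring
  have k11 : ∀ i j : ℤ, ⁅R ^ i * C, R ^ j * C⁆ = w ^ (i - j) := by
    intro i j
    have h1 : ⁅R ^ i * C, R ^ j * C⁆ = R ^ i * (C * R ^ (j - i) * C⁻¹) * R ^ (-j) := by
      rw [commutatorElement_def]; group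
    have h3 : ζ ^ (j - i) * R ^ (-j) = R ^ (-j) * ζ ^ (j - i) :=
      ((hζR.zpow_left (j - i)).zpow_right (-j)).eq
    rw [h1, hCRk, hwk, mul_assoc, mul_assoc, h3, ← mul_assoc, ← mul_assoc, ← zpow_add, ← zpow_add]
    congr 2 <;> ring
  have hPw : ⁅(P : Subgroup Y), (P : Subgroup Y)⁆ ≤ zpowers w := by
    rw [commutator_le]
    intro a ha b hb
    obtain ⟨i, η, hη, h1⟩ := hnf a ha
    obtain ⟨j, θ, hθ, h3⟩ := hnf b hb
    rcases h1 with rfl | rfl <;> rcases h3 with rfl | rfl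
    · rw [hcomm _ _ _ _ hη hθ, k00]; exact one_mem _
    · rw [hcomm _ _ _ _ hη hθ, k01]; exact zpow_mem (mem_zpowers w) _
    · rw [hcomm _ _ _ _ hη hθ, ← commutatorElement_inv, k01]
      exact inv_mem (zpow_mem (mem_zpowers w) _)
    · rw [hcomm _ _ _ _ hη hθ, k11]; exact zpow_mem (mem_zpowers w) _
  have hker : ∀ z, f z = 1 → z ∈ zpowers w := by
    intro z hz
    obtain ⟨n, hn⟩ := h2 z hz
    exact hPw (mem_commutator hperf P (hc z hz) hn (mem_sylow P (hc z hz) hn))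
  have hsq : ∀ z, f z = 1 → z * z = 1 := by
    intro z hz
    obtain ⟨k, hk⟩ := mem_zpowers_iff.mp (hker z hz)
    have h1 : C * z * C⁻¹ = z⁻¹ := by
      rw [← hk, ← conj_zpow, hCw, inv_zpow]
    have h3 : C * z * C⁻¹ = z := by
      rw [mem_center_iff.mp (hc z hz) C]; group
    rw [h3] at h1
    rw [mul_eq_one_iff_eq_inv]
    exact h1
  obtain ⟨z, hz, hz1⟩ := hne
  have huniq : ∀ y, f y = 1 → y = 1 ∨ y = z := by
    intro y hy
    by_cases hy1 : y = 1
    · exact Or.inl hy1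
    · exact Or.inr (zpow_sq_unique (hker y hy) (hker z hz) (hsq y hy) (hsq z hz) hy1 hz1)
  have hzz := hsq z hz
  refine ⟨z, ?_⟩
  -- `w ^ 2 ^ (d - 2) = z`
  have hfw : f w = r ^ 2 := by rw [hw, map_mul, map_inv, hζ1, map_pow, hR, inv_one, mul_one]
  have hwd : w ^ 2 ^ (d - 2) = z := by
    have h1 : f (w ^ 2 ^ (d - 2)) = 1 := by
      rw [map_pow, hfw, ← pow_mul, ← pow_succ']
      have : d - 2 + 1 = d - 1 := by omega
      rw [this, ← hor, pow_orderOf_eq_one]
    rcases huniq _ h1 with h3 | h3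
    · exfalso
      obtain ⟨k, hk⟩ := mem_zpowers_iff.mp (hker z hz)
      have h5 : (r ^ 2) ^ k = 1 := by
        rw [← hfw, ← map_zpow, hk, hz]
      have h6 : (2 ^ (d - 1) : ℤ) ∣ 2 * k := by
        rw [← zpow_natCast, ← zpow_mul] at h5
        have h7 := orderOf_dvd_iff_zpow_eq_one.mpr h5
        rw [hor] at h7
        exact_mod_cast h7
      have h8 : (2 ^ (d - 2) : ℤ) ∣ k := by
        have h9 : (2 ^ (d - 1) : ℤ) = 2 * 2 ^ (d - 2) := by
          rw [← pow_succ']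
          congr 1
          omega
        rw [h9] at h6
        exact (mul_dvd_mul_iff_left (by norm_num)).mp h6
      obtain ⟨m, rfl⟩ := h8
      apply hz1
      rw [← hk, zpow_mul]
      have : w ^ ((2 : ℤ) ^ (d - 2)) = 1 := by
        have h9 : w ^ ((2 ^ (d - 2) : ℕ) : ℤ) = 1 := by rw [zpow_natCast]; exact h3
        exact_mod_cast h9
      rw [this, one_zpow]
    · exact h3
  rcases Nat.lt_or_ge 2 d with hd3 | hd3
  · -- `d ≥ 3`
    refine ⟨R ^ 2 ^ (d - 2), hz1, hz, huniq, ?_, ?_⟩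
    · rw [← hwd, hw, (hζR.symm.pow_left 2).inv_right.mul_pow, inv_pow]
      have h1 : ζ ^ 2 ^ (d - 2) = 1 := by
        have h3 : d - 2 = (d - 3) + 1 := by omega
        rw [h3, pow_succ', pow_mul, pow_two, hsq ζ hζ1, one_pow]
      rw [h1, inv_one, mul_one, ← pow_mul, ← pow_add, ← two_mul]
    · intro h1
      rw [map_pow, hR] at h1
      have h3 := orderOf_dvd_of_pow_eq_one h1
      rw [hor] at h3
      have h4 := (Nat.pow_dvd_pow_iff_le_right (by norm_num)).mp h3
      omega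
  · -- `d = 2`
    obtain rfl : d = 2 := by omega
    have hw2 : w = z := by simpa using hwd
    have hr1 : r ≠ 1 := by
      intro h1
      rw [h1, orderOf_one] at hor
      norm_num at hor
    have hrr : r * r = 1 := by
      have := pow_orderOf_eq_one r
      rw [hor] at this
      rw [← pow_two]
      simpa using this
    have hRR : R * R = 1 ∨ R * R = z := huniq _ (by rw [map_mul, hR, hrr])
    have hCC : C * C = 1 ∨ C * C = z := huniq _ (by rw [map_mul, hC, hcc])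
    have hc1 : c ≠ 1 := by
      intro h1
      exact hcn 0 (by rw [h1, zpow_zero])
    rcases hRR with hRR | hRR
    · rcases hCC with hCC | hCC
      · refine ⟨C * R, hz1, hz, huniq, ?_, ?_⟩
        · -- `ζ = z`
          have h1 : ζ = z := by
            have h3 : ζ⁻¹ = z := by rw [← hw2, hw, pow_two, hRR, one_mul]
            rw [← inv_inv ζ, h3, inv_eq_of_mul_eq_one_left hzz]
          have hCi : C⁻¹ = C := inv_eq_of_mul_eq_one_left hCC
          have hRi : R⁻¹ = R := inv_eq_of_mul_eq_one_left hRR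
          calc C * R * (C * R) = (C * R * C⁻¹) * R := by rw [hCi]; group
            _ = R⁻¹ * ζ * R := by rw [hCR]
            _ = R⁻¹ * (R * ζ) := by rw [mul_assoc, hζc R]
            _ = ζ := by group
            _ = z := h1
        · rw [map_mul, hC, hR]
          intro h1
          exact hcn (-1) (by rw [zpow_neg_one]; exact eq_inv_of_mul_eq_one_left h1)
      · exact ⟨C, hz1, hz, huniq, hCC, by rw [hC]; exact hc1⟩
    · exact ⟨R, hz1, hz, huniq, hRR, by rw [hR]; exact hr1⟩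

omit [Finite Y] in
/-- `z` is the only involution. -/
theorem eq_of_sq (hconj : ∀ a b : L, a * a = 1 → a ≠ 1 → b * b = 1 → b ≠ 1 → ∃ k, k * a * k⁻¹ = b)
    (hf : Function.Surjective f) (hc : ∀ z, f z = 1 → z ∈ center Y) {z t : Y} (hz1 : z ≠ 1)
    (hz : f z = 1) (hker : ∀ y, f y = 1 → y = 1 ∨ y = z) (htt : t * t = z) (ht : f t ≠ 1) {a : Y}
    (haa : a * a = 1) (ha : a ≠ 1) : a = z := by
  by_cases h1 : f a = 1
  · exact (hker a h1).resolve_left ha
  exfalso
  have hzz : z * z = 1 := by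
    rcases hker (z * z) (by rw [map_mul, hz, one_mul]) with h | h
    · exact h
    · exact absurd (mul_eq_left.mp h) hz1
  obtain ⟨k, hk⟩ := hconj (f a) (f t) (by rw [← map_mul, haa, map_one]) h1
    (by rw [← map_mul, htt, hz]) ht
  obtain ⟨g, rfl⟩ := hf k
  have h2 : f ((g * a * g⁻¹)⁻¹ * t) = 1 := by
    rw [map_mul, map_inv, map_mul, map_mul, map_inv, hk, inv_mul_cancel]
  obtain ⟨η, hη⟩ : ∃ η, η = (g * a * g⁻¹)⁻¹ * t := ⟨_, rfl⟩
  rw [← hη] at h2
  have hηη : η * η = 1 := by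
    rcases hker η h2 with h | h
    · rw [h, one_mul]
    · rw [h, hzz]
  have ht' : t = g * a * g⁻¹ * η := by rw [hη]; group
  have hηc := mem_center_iff.mp (hc η h2)
  have h3 : t * t = 1 := by
    calc t * t = g * a * g⁻¹ * (η * (g * a * g⁻¹)) * η := by rw [ht']; group
      _ = g * a * g⁻¹ * ((g * a * g⁻¹) * η) * η := by rw [← hηc (g * a * g⁻¹)]
      _ = g * (a * a) * g⁻¹ * (η * η) := by group
      _ = 1 := by rw [haa, hηη]; group
  exact hz1 (htt.symm.trans h3)

end abstract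

section comps

variable {G : Type u} [Group G] [Finite G]

/-- Central elements of `K / O(K)` are 2-elements. -/
theorem center_two {K : Subgroup G} {x : Bar K} (hx : x ∈ center (Bar K)) :
    ∃ n : ℕ, x ^ 2 ^ n = 1 := by
  obtain ⟨n, m, hm, hnm⟩ := Nat.exists_eq_two_pow_mul_odd (n := orderOf x) (orderOf_pos x).ne'
  refine ⟨n, ?_⟩
  have hcen : x ^ 2 ^ n ∈ center (Bar K) := pow_mem hx _
  have hyo : (x ^ 2 ^ n) ^ m = 1 := by rw [← pow_mul, ← hnm, pow_orderOf_eq_one]
  have hn : (zpowers (x ^ 2 ^ n)).Normal := ⟨fun a ha g => by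
    have h2 : a ∈ center (Bar K) := (zpowers_le.mpr hcen) ha
    have h3 : g * a * g⁻¹ = a := by
      rw [mul_inv_eq_iff_eq_mul]
      exact mem_center_iff.mp h2 g
    rwa [h3]⟩
  have hodd : Odd (Nat.card (zpowers (x ^ 2 ^ n))) := by
    rw [Nat.card_zpowers]
    exact hm.of_dvd_nat (orderOf_dvd_of_pow_eq_one hyo)
  have h1 : zpowers (x ^ 2 ^ n) ≤ oddCore (Bar K) := le_sSup ⟨hn, Nat.coprime_two_right.mpr hodd⟩
  have h2 : oddCore (Bar K) = ⊥ := Cfsg.Agent.Lib.Cores.pPrimeCore_quotient_pPrimeCore (G := K) 2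
  rw [h2] at h1
  exact mem_bot.mp (h1 (mem_zpowers _))

/-- **The only involution of `K / O(K)`.** -/
theorem exists_unique {H K : Subgroup G} (hK : IsComp H K) (he : EvenCenter K)
    (hd : L2One.HasData (STop K)) :
    ∃ z : Bar K, z ∈ center (Bar K) ∧ z ≠ 1 ∧ ∀ a : Bar K, a * a = 1 → a ≠ 1 → a = z := by
  have : Fact (Nat.Prime 2) := ⟨Nat.prime_two⟩
  let f : Bar K →* STop K := QuotientGroup.mk' (center (Bar K))
  have hf : Function.Surjective f := QuotientGroup.mk'_surjective _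
  have hker : ∀ z, f z = 1 ↔ z ∈ center (Bar K) := fun z => QuotientGroup.eq_one_iff z
  have hperf : commutator (Bar K) = ⊤ := (Group.isPerfect_def).mp (quasisimple hK).1
  have hne : ∃ z, f z = 1 ∧ z ≠ 1 := by
    by_contra hcon
    push Not at hcon
    have h1 : center (Bar K) = ⊥ := by
      rw [eq_bot_iff]
      intro x hx
      exact mem_bot.mpr (hcon x ((hker x).mpr hx))
    have h2 : Nat.card (center (Bar K)) = 1 := by rw [h1]; exact card_bot
    have h3 : Even (Nat.card (center (Bar K))) := he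
    rw [h2] at h3
    exact absurd h3 (by decide)
  obtain ⟨P⟩ : Nonempty (Sylow 2 (Bar K)) := inferInstance
  obtain ⟨A, _, d, r, c, p1, p2, D⟩ := hd (P.mapSurjective hf)
  have hcoe : ((P.mapSurjective hf : Sylow 2 (STop K)) : Subgroup (STop K)) =
      (P : Subgroup (Bar K)).map f := Sylow.coe_mapSurjective _ _
  have hr := D.r_mem
  have hcm := D.c_mem
  rw [hcoe] at hr hcm
  obtain ⟨z, t, hz1, hz, hu, htt, ht⟩ := exists_quat (f := f) hperf (fun z hz => (hker z).mp hz)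
    (fun z hz => center_two ((hker z).mp hz)) hne P D.d_ge hr hcm D.cc D.crc D.or_eq D.c_not
    (fun g hg => D.S_form _ (by rw [hcoe]; exact ⟨g, hg, rfl⟩))
  exact ⟨z, (hker z).mp hz, hz1, fun a haa ha => eq_of_sq D.inv_conj hf (fun z hz => (hker z).mp hz)
    hz1 hz hu htt ht haa ha⟩

/-- A 2-component with even centre and dihedral type top is of quaternion type. -/
theorem qt_of_hasData {H K : Subgroup G} (hK : IsComp H K) (he : EvenCenter K)
    (hd : L2One.HasData (STop K)) : QA.QT K := by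
  obtain ⟨z, -, -, hz⟩ := exists_unique hK he hd
  intro a ha b hb haa hbb ha1 hb1 hab
  let F : K →* Bar K := QuotientGroup.mk' (oddCore ↥K)
  have key : ∀ u (hu : u ∈ K), u * u = 1 → u ≠ 1 → F ⟨u, hu⟩ = z := by
    intro u hu huu hu1
    refine hz _ ?_ ?_
    · rw [← map_mul]
      have : (⟨u, hu⟩ : K) * ⟨u, hu⟩ = 1 := Subtype.ext huu
      rw [this, map_one]
    · intro h1
      apply hu1
      refine eq_one_of_mem_core_sq (K := K) ?_ huu
      exact (mem_core_iff hu).mpr ((QuotientGroup.eq_one_iff _).mp h1)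
  have h1 : F (⟨a, ha⟩⁻¹ * ⟨b, hb⟩) = 1 := by
    rw [map_mul, map_inv, key a ha haa ha1, key b hb hbb hb1, inv_mul_cancel]
  have h2 : a⁻¹ * b ∈ core K := by
    have h3 : (⟨a, ha⟩⁻¹ * ⟨b, hb⟩ : K) ∈ oddCore ↥K := (QuotientGroup.eq_one_iff _).mp h1
    exact (mem_core_iff (K.mul_mem (K.inv_mem ha) hb)).mpr h3
  have hai : a⁻¹ = a := inv_eq_of_mul_eq_one_left haa
  have h3 : a⁻¹ * b = 1 := by
    refine eq_one_of_mem_core_sq h2 ?_
    calc a⁻¹ * b * (a⁻¹ * b) = a * b * (a * b) := by rw [hai]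
      _ = a * (b * a) * b := by group
      _ = a * (a * b) * b := by rw [hab]
      _ = (a * a) * (b * b) := by group
      _ = 1 := by rw [haa, hbb, one_mul]
  exact inv_mul_eq_one.mp h3

/-- **GH (EC)**: top `PSL₂(q)` or `A₇` and even centre: quaternion type. -/
theorem qt_of_top {H K : Subgroup G} (hK : IsComp H K) (he : EvenCenter K)
    (h : IsL2odd (STop K) ∨ IsAlt 7 (STop K)) : QA.QT K :=
  qt_of_hasData hK he (L2One.hasData_of_top h)

end comps

end Cfsg.Agent.GH.QTop
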