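import Mathlib
import Cfsg.Prelude.Def_Classical
import Cfsg.Agent.GH.Rank
import Cfsg.Agent.GH.RankLowMat

/-!
# Lower bounds: `r(PSL(2,q)) ≥ 2`, `r(PSp(4,q)) ≥ 4`, `q` odd  (GH-0, S0500)
-/

set_option autoImplicit false
set_option maxHeartbeats 400000

namespace Cfsg.Agent.GH.RankLowSp

open Cfsg Cfsg.Agent.GH.Rank

/-- Four-subgroups bound the sectional rank from below. -/
theorem not_one_of_klein {G : Type*} [Group G] [Finite G] {a b : G} (ha : a * a = 1) (hb : b * b = 1)
    (hab : a * b = b * a) (h1 : a ≠ 1) (h2 : b ≠ 1) (h3 : a ≠ b) : ¬ SectionalPRankLE 2 1 G := by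
  intro h
  have hai : a⁻¹ = a := inv_eq_of_mul_eq_one_right ha
  have hbi : b⁻¹ = b := inv_eq_of_mul_eq_one_right hb
  have hc : Commute a b := hab
  let A : Subgroup G := Subgroup.zpowers a ⊔ Subgroup.zpowers b
  have hle : A ≤ Subgroup.centralizer (A : Set G) := by
    refine sup_le ?_ ?_ <;> rw [Subgroup.zpowers_le, Subgroup.mem_centralizer_iff] <;> intro x hx <;>
      refine (Subgroup.mem_centralizer_singleton_iff.1 ?_)
    · have : A ≤ Subgroup.centralizer {a} := by
        refine sup_le ?_ ?_ <;> rw [Subgroup.zpowers_le, Subgroup.mem_centralizer_singleton_iff]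
        exact hab.symm
      exact this hx
    · have : A ≤ Subgroup.centralizer {b} := by
        refine sup_le ?_ ?_ <;> rw [Subgroup.zpowers_le, Subgroup.mem_centralizer_singleton_iff]
        exact hab
      exact this hx
  have hcomm : ∀ x ∈ A, ∀ y ∈ A, x * y = y * x := fun x hx y hy =>
    (Subgroup.mem_centralizer_iff.1 (hle hx) y hy).symm
  have hsq : ∀ x ∈ A, x ^ 2 = 1 := by
    intro x hx
    let B : Subgroup G :=
      { carrier := {y | y ∈ A ∧ y ^ 2 = 1}
        one_mem' := ⟨A.one_mem, one_pow 2⟩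
        mul_mem' := by
          rintro y z ⟨hy, hy2⟩ ⟨hz, hz2⟩
          refine ⟨A.mul_mem hy hz, ?_⟩
          have : Commute y z := hcomm y hy z hz
          rw [this.mul_pow, hy2, hz2, one_mul]
        inv_mem' := by
          rintro y ⟨hy, hy2⟩
          exact ⟨A.inv_mem hy, by rw [inv_pow, hy2, inv_one]⟩ }
    have hAB : A ≤ B := by
      refine sup_le ?_ ?_ <;> rw [Subgroup.zpowers_le]
      · exact ⟨Subgroup.mem_sup_left (Subgroup.mem_zpowers a), by rw [pow_two, ha]⟩
      · exact ⟨Subgroup.mem_sup_right (Subgroup.mem_zpowers b), by rw [pow_two, hb]⟩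
    exact (hAB hx).2
  have hcard := pRankLE h A ⟨⟨fun x y => Subtype.ext (hcomm x x.2 y y.2)⟩⟩ hsq
  have h4 : ({1, a, b} : Set G) ⊆ (A : Set G) := by
    rintro x (rfl | rfl | rfl)
    · exact A.one_mem
    · exact Subgroup.mem_sup_left (Subgroup.mem_zpowers _)
    · exact Subgroup.mem_sup_right (Subgroup.mem_zpowers _)
  have h5 := Set.ncard_le_ncard h4 (Set.toFinite _)
  have h6 : ({1, a, b} : Set G).ncard = 3 := by
    rw [Set.ncard_insert_of_notMem, Set.ncard_pair h3]
    rintro (h | h)
    · exact h1 h.symm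
    · exact h2 h.symm
  rw [h6] at h5
  change 3 ≤ Nat.card A at h5
  omega

/-- `J, X` with squares and commutator central, commutator nontrivial. -/
theorem not_one_of_quat {S : Type*} [Group S] [Finite S] {J X : S}
    (h1 : J * J ∈ Subgroup.center S) (h2 : X * X ∈ Subgroup.center S)
    (h3 : J * X * J⁻¹ * X⁻¹ ∈ Subgroup.center S) (h4 : J * X ≠ X * J) :
    ¬ SectionalPRankLE 2 1 (S ⧸ Subgroup.center S) := by
  have hc : ∀ x : S, (QuotientGroup.mk x : S ⧸ Subgroup.center S) = 1 → ∀ g : S, x * g = g * x :=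
    fun x hx g => ((Subgroup.mem_center_iff.1 ((QuotientGroup.eq_one_iff x).1 hx)) g).symm
  refine not_one_of_klein (a := (QuotientGroup.mk J : S ⧸ Subgroup.center S))
    (b := QuotientGroup.mk X) ?_ ?_ ?_ ?_ ?_ ?_
  · rw [← QuotientGroup.mk_mul]
    exact (QuotientGroup.eq_one_iff _).2 h1
  · rw [← QuotientGroup.mk_mul]
    exact (QuotientGroup.eq_one_iff _).2 h2
  · have h5 := (QuotientGroup.eq_one_iff _).2 h3
    rw [QuotientGroup.mk_mul, QuotientGroup.mk_mul, QuotientGroup.mk_mul, QuotientGroup.mk_inv,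
      QuotientGroup.mk_inv, mul_inv_eq_one, mul_inv_eq_iff_eq_mul] at h5
    exact h5
  · intro h
    exact h4 (hc J h X)
  · intro h
    exact h4 (hc X h J).symm
  · intro h
    have h5 : (QuotientGroup.mk (J⁻¹ * X) : S ⧸ Subgroup.center S) = 1 := by
      rw [QuotientGroup.mk_mul, QuotientGroup.mk_inv, h, inv_mul_cancel]
    have h6 := hc _ h5 J
    apply h4
    calc J * X = J * (J⁻¹ * X * J) * J⁻¹ * J * J⁻¹ * J := by
          rw [h6]
          group
      _ = X * J := by group

section SL2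

variable {F : Type*} [Field F] [Finite F]

/-- The sectional 2-rank of `PSL(2,q)`, `q` odd, is at least two. -/
theorem psl_two_low (h : Odd (Nat.card F)) :
    ¬ SectionalPRankLE 2 1 (Matrix.ProjectiveSpecialLinearGroup (Fin 2) F) := by
  have h2 := RankLowMat.two_ne_zero_of_odd h
  obtain ⟨a, b, hab⟩ : ∃ a b : F, a ^ 2 + b ^ 2 = -1 := by
    have := Fintype.ofFinite F
    have h3 : ringChar F ≠ 2 := by
      intro h4
      apply h2
      have : CharP F 2 := by rw [← h4]; exact ringChar.charP F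
      exact CharTwo.two_eq_zero
    obtain ⟨a, b, hab⟩ := FiniteField.exists_root_sum_quadratic (R := F)
      (f := Polynomial.X ^ 2) (g := Polynomial.X ^ 2 - Polynomial.C (-1)) (by simp)
      (by rw [Polynomial.degree_X_pow_sub_C (by norm_num)]; rfl)
      (by rw [← Nat.card_eq_fintype_card]; rw [Nat.odd_iff] at h; exact h)
    refine ⟨a, b, ?_⟩
    simp only [Polynomial.eval_pow, Polynomial.eval_X, Polynomial.eval_sub, Polynomial.eval_C] at hab
    linear_combination hab
  let J : Matrix.SpecialLinearGroup (Fin 2) F := ⟨!![0, 1; -1, 0], by simp [Matrix.det_fin_two]⟩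
  let X : Matrix.SpecialLinearGroup (Fin 2) F := ⟨!![a, b; b, -a], by
    simp [Matrix.det_fin_two]
    linear_combination -hab⟩
  have hJ : (J : Matrix (Fin 2) (Fin 2) F) = !![0, 1; -1, 0] := rfl
  have hX : (X : Matrix (Fin 2) (Fin 2) F) = !![a, b; b, -a] := rfl
  have hm : (-1 : Matrix.SpecialLinearGroup (Fin 2) F) ∈
      Subgroup.center (Matrix.SpecialLinearGroup (Fin 2) F) := by
    rw [Subgroup.mem_center_iff]
    intro g
    simp
  have hJJ : J * J = -1 := by
    apply Subtype.ext
    simp only [Matrix.SpecialLinearGroup.coe_mul, Matrix.SpecialLinearGroup.coe_neg,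
      Matrix.SpecialLinearGroup.coe_one, hJ, Matrix.mul_fin_two]
    ext i j
    fin_cases i <;> fin_cases j <;> simp
  have hXX : X * X = -1 := by
    apply Subtype.ext
    simp only [Matrix.SpecialLinearGroup.coe_mul, Matrix.SpecialLinearGroup.coe_neg,
      Matrix.SpecialLinearGroup.coe_one, hX, Matrix.mul_fin_two]
    ext i j
    fin_cases i <;> fin_cases j <;> simp <;> first | linear_combination hab | ring
  have hJX : J * X = -(X * J) := by
    apply Subtype.ext
    simp [hJ, hX]
  have hc : J * X * J⁻¹ * X⁻¹ = -1 := by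
    rw [hJX]
    simp
  refine not_one_of_quat (J := J) (X := X) (hJJ ▸ hm) (hXX ▸ hm) (hc ▸ hm) ?_
  intro h3
  have h4 : (-1 : Matrix.SpecialLinearGroup (Fin 2) F) = 1 := by
    rw [← hc, h3]
    group
  have h5 := congrFun (congrFun (congrArg Subtype.val h4) 0) 0
  apply h2
  simp at h5
  linear_combination -h5

/-- the block embedding -/
def blk (x y : Matrix (Fin 2) (Fin 2) F) : Matrix (Fin 2 ⊕ Fin 2) (Fin 2 ⊕ Fin 2) F :=
  Matrix.fromBlocks (Matrix.diagonal ![x 0 0, y 0 0]) (Matrix.diagonal ![x 0 1, y 0 1])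
    (Matrix.diagonal ![x 1 0, y 1 0]) (Matrix.diagonal ![x 1 1, y 1 1])

omit [Finite F] in
theorem blk_mul (x y x' y' : Matrix (Fin 2) (Fin 2) F) :
    blk x y * blk x' y' = blk (x * x') (y * y') := by
  unfold blk
  rw [Matrix.fromBlocks_multiply]
  simp only [Matrix.diagonal_mul_diagonal, Matrix.diagonal_add]
  congr 1 <;> congr 1 <;> ext i <;> fin_cases i <;> simp [Matrix.mul_apply, Fin.sum_univ_two]

omit [Finite F] in
theorem blk_one : blk (1 : Matrix (Fin 2) (Fin 2) F) 1 = 1 := by
  unfold blk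
  rw [← Matrix.fromBlocks_one]
  congr 1 <;> ext i j <;> fin_cases i <;> fin_cases j <;> simp [Matrix.diagonal]

omit [Finite F] in
theorem blk_inj {x y x' y' : Matrix (Fin 2) (Fin 2) F} (h : blk x y = blk x' y') :
    x = x' ∧ y = y' := by
  unfold blk at h
  rw [Matrix.fromBlocks_inj] at h
  obtain ⟨h1, h2, h3, h4⟩ := h
  have e : ∀ {u v u' v' : F}, Matrix.diagonal ![u, v] = Matrix.diagonal ![u', v'] →
      u = u' ∧ v = v' := by
    intro u v u' v' h
    have h5 := Matrix.diagonal_injective h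
    exact ⟨by simpa using congrFun h5 0, by simpa using congrFun h5 1⟩
  obtain ⟨a1, b1⟩ := e h1
  obtain ⟨a2, b2⟩ := e h2
  obtain ⟨a3, b3⟩ := e h3
  obtain ⟨a4, b4⟩ := e h4
  constructor <;> ext i j <;> fin_cases i <;> fin_cases j <;> assumption

omit [Finite F] in
theorem blk_symp {x y : Matrix (Fin 2) (Fin 2) F} (hx : x.det = 1) (hy : y.det = 1) :
    blk x y ∈ Matrix.symplecticGroup (Fin 2) F := by
  rw [SymplecticGroup.mem_iff]
  unfold blk Matrix.J
  rw [Matrix.det_fin_two] at hx hy
  rw [Matrix.fromBlocks_transpose, Matrix.fromBlocks_multiply, Matrix.fromBlocks_multiply]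
  simp only [Matrix.diagonal_transpose, Matrix.mul_zero, Matrix.mul_one, Matrix.mul_neg, zero_add,
    add_zero, Matrix.diagonal_mul_diagonal, Matrix.neg_mul, Matrix.diagonal_neg, Matrix.diagonal_add,
    ← Matrix.diagonal_one]
  congr 1
  · ext i j
    fin_cases i <;> fin_cases j <;> simp [Matrix.diagonal] <;> ring
  · ext i j
    fin_cases i <;> fin_cases j <;> simp [Matrix.diagonal]
    · linear_combination -hx
    · linear_combination -hy
  · ext i j
    fin_cases i <;> fin_cases j <;> simp [Matrix.diagonal]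
    · linear_combination hx
    · linear_combination hy
  · ext i j
    fin_cases i <;> fin_cases j <;> simp [Matrix.diagonal] <;> ring

/-- `SL(2) × SL(2) → Sp(4)` -/
def emb (F : Type*) [Field F] :
    Matrix.SpecialLinearGroup (Fin 2) F × Matrix.SpecialLinearGroup (Fin 2) F →*
      Matrix.symplecticGroup (Fin 2) F :=
  MonoidHom.mk' (fun p => ⟨blk p.1 p.2, blk_symp p.1.2 p.2.2⟩) (by
    intro p q
    apply Subtype.ext
    exact (blk_mul _ _ _ _).symm)

/-- **The sectional 2-rank of `PSp(4,q)`, `q` odd, is at least four.** -/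
theorem psp_four_low (h : Odd (Nat.card F)) : ¬ SectionalPRankLE 2 3 (PSp 2 F) := by
  intro h3
  have : Finite (Matrix.symplecticGroup (Fin 2) F) := inferInstance
  have h1 := of_homs (E := Matrix.ProjectiveSpecialLinearGroup (Fin 2) F ×
      Matrix.ProjectiveSpecialLinearGroup (Fin 2) F) h3
    ((QuotientGroup.mk' (Subgroup.center (Matrix.symplecticGroup (Fin 2) F))).comp (emb F))
    (MonoidHom.prodMap (QuotientGroup.mk' _) (QuotientGroup.mk' _))
    (by
      rintro ⟨x, y⟩
      obtain ⟨a, rfl⟩ := QuotientGroup.mk_surjective x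
      obtain ⟨b, rfl⟩ := QuotientGroup.mk_surjective y
      exact ⟨(a, b), rfl⟩)
    (by
      rintro ⟨x, y⟩ hxy
      have h4 : emb F (x, y) ∈ Subgroup.center (Matrix.symplecticGroup (Fin 2) F) :=
        (QuotientGroup.eq_one_iff _).1 hxy
      have h5 : ∀ u v : Matrix.SpecialLinearGroup (Fin 2) F, u * x = x * u ∧ v * y = y * v := by
        intro u v
        have h6 := (Subgroup.mem_center_iff.1 h4) (emb F (u, v))
        have h7 := congrArg Subtype.val h6
        change blk (u : Matrix (Fin 2) (Fin 2) F) (v : Matrix (Fin 2) (Fin 2) F) *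
          blk (x : Matrix (Fin 2) (Fin 2) F) (y : Matrix (Fin 2) (Fin 2) F) =
          blk (x : Matrix (Fin 2) (Fin 2) F) (y : Matrix (Fin 2) (Fin 2) F) *
          blk (u : Matrix (Fin 2) (Fin 2) F) (v : Matrix (Fin 2) (Fin 2) F) at h7
        rw [blk_mul, blk_mul] at h7
        obtain ⟨h8, h9⟩ := blk_inj h7
        exact ⟨Subtype.ext h8, Subtype.ext h9⟩
      refine Prod.ext ?_ ?_
      · exact (QuotientGroup.eq_one_iff _).2 (Subgroup.mem_center_iff.2 fun u => (h5 u 1).1)
      · exact (QuotientGroup.eq_one_iff _).2 (Subgroup.mem_center_iff.2 fun v => (h5 1 v).2))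
  have h2 := (srank_le_iff (by norm_num)).2 h1
  rw [srank_prod Nat.prime_two] at h2
  have h4 : srank 2 (Matrix.ProjectiveSpecialLinearGroup (Fin 2) F) ≤ 1 := by omega
  exact psl_two_low h ((srank_le_iff (by norm_num)).1 h4)

end SL2

end Cfsg.Agent.GH.RankLowSp
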