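import Mathlib
import Cfsg.Prelude.Def_Spor_Mathieu
import Cfsg.Prelude.Def_Spor_J2
import Cfsg.Prelude.Def_Spor_J3
import Cfsg.Agent.GH.RankLowEl
import Cfsg.Agent.SporadicStructure.M11InvPerms
import Cfsg.Agent.J2Sylow.SporSylow
import Cfsg.Agent.Schreier.JThreeSylow

/-!
# Lower bounds `r ≥ 4`: `M₂₂`, `M₂₃`, `J₂`, `J₃`  (GH-0, S0500)
-/

set_option autoImplicit false
set_option maxHeartbeats 400000

namespace Cfsg.Agent.GH.RankLowSpor

open Cfsg Cfsg.Agent.GH.Rank
open Cfsg.Agent.SporadicStructure.M11InvPerms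

/-! ### `M₂₂`, `M₂₃`: the elementary abelian group of order `16` fixing an octad pointwise -/

/-- table -/
def tP : List ℕ := [0, 1, 3, 2, 12, 14, 9, 7, 20, 6, 10, 11, 4, 15, 5, 13, 21, 17, 19, 18, 8, 16, 22, 23]
/-- certificate -/
def cP : List ℕ := [1346, 784, 790, 1662, 559, 1379, 1070, 1225, 1124, 1609, 859, 1439, 2014, 1555, 761, 466, 686, 1383, 311, 626, 1440, 685, 287]
/-- table -/
def tQ : List ℕ := [0, 1, 4, 12, 2, 6, 5, 7, 19, 14, 10, 11, 3, 16, 9, 21, 13, 17, 20, 8, 18, 15, 22, 23]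
/-- certificate -/
def cQ : List ℕ := [1917, 611, 90, 1805, 520, 1379, 1890, 710, 1091, 1821, 892, 708, 162, 1035, 1413, 1477, 1694, 1548, 311, 281, 904, 1526, 75]
/-- table -/
def tR : List ℕ := [0, 1, 5, 14, 6, 2, 4, 7, 21, 12, 10, 11, 9, 18, 3, 19, 20, 17, 13, 15, 16, 8, 22, 23]
/-- certificate -/
def cR : List ℕ := [820, 784, 1351, 829, 1592, 1348, 780, 1704, 256, 1850, 1899, 2046, 1432, 278, 460, 1477, 649, 785, 99, 52, 1714, 1276, 1327]
/-- table -/
def tS : List ℕ := [0, 1, 8, 20, 19, 21, 15, 7, 2, 13, 10, 11, 18, 9, 16, 6, 14, 17, 12, 4, 3, 5, 22, 23]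
/-- certificate -/
def cS : List ℕ := [1550, 823, 297, 1301, 55, 1079, 1861, 1679, 1832, 1850, 48, 2046, 1228, 1375, 460, 427, 444, 1548, 68, 806, 1685, 755, 595]

/-- first generator -/
def pP : Equiv.Perm GolayPt where
  toFun := tabFun tP
  invFun := tabFun tP
  left_inv := by unfold Function.LeftInverse; decide +kernel
  right_inv := by unfold Function.RightInverse Function.LeftInverse; decide +kernel

/-- second generator -/
def pQ : Equiv.Perm GolayPt where
  toFun := tabFun tQ
  invFun := tabFun tQ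
  left_inv := by unfold Function.LeftInverse; decide +kernel
  right_inv := by unfold Function.RightInverse Function.LeftInverse; decide +kernel

/-- third generator -/
def pR : Equiv.Perm GolayPt where
  toFun := tabFun tR
  invFun := tabFun tR
  left_inv := by unfold Function.LeftInverse; decide +kernel
  right_inv := by unfold Function.RightInverse Function.LeftInverse; decide +kernel

/-- fourth generator -/
def pS : Equiv.Perm GolayPt where
  toFun := tabFun tS
  invFun := tabFun tS
  left_inv := by unfold Function.LeftInverse; decide +kernel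
  right_inv := by unfold Function.RightInverse Function.LeftInverse; decide +kernel

set_option maxRecDepth 100000 in
theorem pP_mem : pP ∈ M24 := mem_M24_of_cert pP (fun t => cP.getD t.val 0) (by decide +kernel)

set_option maxRecDepth 100000 in
theorem pQ_mem : pQ ∈ M24 := mem_M24_of_cert pQ (fun t => cQ.getD t.val 0) (by decide +kernel)

set_option maxRecDepth 100000 in
theorem pR_mem : pR ∈ M24 := mem_M24_of_cert pR (fun t => cR.getD t.val 0) (by decide +kernel)

set_option maxRecDepth 100000 in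
theorem pS_mem : pS ∈ M24 := mem_M24_of_cert pS (fun t => cS.getD t.val 0) (by decide +kernel)

/-- the generators in `M22` -/
def gP : Spor.M22 := ⟨pP, ⟨pP_mem, by
  change pP none = none
  decide +kernel⟩, by
  change pP (some 0) = some 0
  decide +kernel⟩
/-- the generators in `M22` -/
def gQ : Spor.M22 := ⟨pQ, ⟨pQ_mem, by
  change pQ none = none
  decide +kernel⟩, by
  change pQ (some 0) = some 0
  decide +kernel⟩
/-- the generators in `M22` -/
def gR : Spor.M22 := ⟨pR, ⟨pR_mem, by
  change pR none = none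
  decide +kernel⟩, by
  change pR (some 0) = some 0
  decide +kernel⟩
/-- the generators in `M22` -/
def gS : Spor.M22 := ⟨pS, ⟨pS_mem, by
  change pS none = none
  decide +kernel⟩, by
  change pS (some 0) = some 0
  decide +kernel⟩

theorem ext_M22 {x y : Spor.M22} (h : ∀ p : GolayPt, x.1 p = y.1 p) : x = y :=
  Subtype.ext (Equiv.ext h)

/-- power by a sign -/
def bp {G : Type*} [Group G] (g : G) (u : ℤˣ) : G := if u = 1 then 1 else g

set_option maxRecDepth 100000 in
theorem hom22_aux : ∀ a b c d a' b' c' d' : ℤˣ, ∀ p : GolayPt,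
    (bp gP (a * a') * bp gQ (b * b') * (bp gR (c * c') * bp gS (d * d'))).1 p =
    ((bp gP a * bp gQ b * (bp gR c * bp gS d)) * (bp gP a' * bp gQ b' * (bp gR c' * bp gS d'))).1 p := by
  decide +kernel

/-- the group of order `16` -/
def hom22 : (ℤˣ × ℤˣ) × (ℤˣ × ℤˣ) →* Spor.M22 :=
  MonoidHom.mk' (fun x => bp gP x.1.1 * bp gQ x.1.2 * (bp gR x.2.1 * bp gS x.2.2)) (by
    rintro ⟨⟨a, b⟩, c, d⟩ ⟨⟨a', b'⟩, c', d'⟩
    exact ext_M22 (hom22_aux a b c d a' b' c' d'))

set_option maxRecDepth 100000 in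
theorem hom22_ker : ∀ a b c d : ℤˣ,
    (∀ p : GolayPt, (bp gP a * bp gQ b * (bp gR c * bp gS d)).1 p = p) →
      a = 1 ∧ b = 1 ∧ c = 1 ∧ d = 1 := by
  decide +kernel

theorem hom22_injective : Function.Injective hom22 := by
  rw [injective_iff_map_eq_one]
  rintro ⟨⟨a, b⟩, c, d⟩ h
  obtain ⟨rfl, rfl, rfl, rfl⟩ := hom22_ker a b c d (fun p => by
    have h1 : (hom22 ((a, b), (c, d))).1 p = p := by rw [h]; rfl
    exact h1)
  rfl

theorem m22_low : ¬ SectionalPRankLE 2 3 ↥Spor.M22 := by
  refine RankLowEl.not_three_of_hom hom22 hom22_injective ?_ ?_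
  · decide
  · rw [Nat.card_eq_fintype_card]
    decide

theorem m23_low : ¬ SectionalPRankLE 2 3 ↥Spor.M23 := fun h =>
  m22_low (of_le (inf_le_left : Spor.M22 ≤ Spor.M23) h)

/-! ### `J₂`, `J₃` -/

section J

open Cfsg.Agent.J2Sylow.Model Cfsg.Agent.J2Sylow.Model.F4

instance finiteT : Finite T :=
  Nat.finite_of_card_ne_zero (by rw [T.card_T]; norm_num)

/-- `E₁₆` in the model -/
def homT : Multiplicative (F4 × F4) →* T :=
  MonoidHom.mk' (fun v => (⟨(Multiplicative.toAdd v).1, 0, (Multiplicative.toAdd v).2, false⟩ : T)) (by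
    have h : ∀ a c a' c' : F4, (⟨a + a', 0, c + c', false⟩ : T) =
      (⟨a, 0, c, false⟩ : T) * (⟨a', 0, c', false⟩ : T) := by decide +kernel
    intro v w
    exact h _ _ _ _)

theorem homT_injective : Function.Injective homT := by
  intro v w h
  have h1 := congrArg T.a h
  have h2 := congrArg T.c h
  exact Prod.ext h1 h2

theorem t_low : ¬ SectionalPRankLE 2 3 T := by
  refine RankLowEl.not_three_of_hom homT homT_injective ?_ ?_
  · intro e
    obtain ⟨⟨a, b⟩, rfl⟩ := Multiplicative.ofAdd.surjective e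
    rw [← ofAdd_nsmul]
    have h3 : (2 : ℕ) • ((a, b) : F4 × F4) = 0 := by
      revert a b
      decide +kernel
    rw [h3]
    rfl
  · change 16 ≤ Nat.card (F4 × F4)
    rw [Nat.card_eq_fintype_card]
    decide

theorem j2_low : ¬ SectionalPRankLE 2 3 Spor.J2 := by
  intro h
  have : Finite Spor.J2 := Nat.finite_of_card_ne_zero (by
    rw [J2Sylow.SporSylow.card_J2]; norm_num)
  obtain ⟨f, hf⟩ := J2Sylow.SporSylow.exists_hom
  exact t_low (of_injective h f hf)

theorem j3_low {F : Type} [Field F] [Fintype F] {ω : F} (hF : Fintype.card F = 4)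
    (hω : ω ^ 2 + ω + 1 = 0) : ¬ SectionalPRankLE 2 3 (Spor.J3 F ω) := by
  intro h
  have H := J3.Core.good_of_card hF hω
  have : Finite (Spor.J3 F ω) := Nat.finite_of_card_ne_zero (by
    rw [J3.Simple.card_J3 hF H]; norm_num)
  obtain ⟨P⟩ : Nonempty (Sylow 2 (Spor.J3 F ω)) := inferInstance
  obtain ⟨e⟩ := Schreier.JThreeSylow.exists_equiv hF H P
  exact t_low (of_equiv (of_subgroup h (P : Subgroup (Spor.J3 F ω))) e.symm)

end J

end Cfsg.Agent.GH.RankLowSpor
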