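import Mathlib
import Cfsg.Agent.GH.Defs
import Cfsg.Agent.GH.RankLowEl
import Cfsg.Agent.GH.RankLowMat
import Cfsg.Agent.GH.RankLowSp
import Cfsg.Agent.GH.RankLowT
import Cfsg.Agent.GH.RankLowSpor
import Cfsg.Agent.SectRankFour.Rank

/-!
# The members of `K4` of sectional 2-rank at most three  (GH-0, S0500)

* `TypeSp4.low`, `TypeL4.low`, … : a 2-group of one of these types has sectional 2-rank at least `4`;
* `HasAltCover.low`;
* `low_of_rank_three`: a group in `K4` of sectional 2-rank at most `3` is in `K2` or in `K3`.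
-/

set_option autoImplicit false
set_option maxHeartbeats 400000

namespace Cfsg.Agent.GH.RankLow

open Cfsg Cfsg.Agent.GH.Rank Cfsg.Agent.GH.Defs

/-- transport through an isomorphism -/
theorem low_congr {X Y : Type*} [Group X] [Group Y] [Finite X] (e : X ≃* Y)
    (h : ¬ SectionalPRankLE 2 3 Y) : ¬ SectionalPRankLE 2 3 X := by
  intro h1
  exact h (of_equiv h1 e)

/-- Sylow 2-subgroups of a group of sectional 2-rank at least `4`. -/
theorem sylOf_low {S Y : Type*} [Group S] [Group Y] [Finite Y] (h : ¬ SectionalPRankLE 2 3 Y)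
    (hS : SylOf S Y) : ¬ SectionalPRankLE 2 3 S := by
  obtain ⟨P, ⟨e⟩⟩ := hS
  have : Finite S := Finite.of_equiv _ e.symm.toEquiv
  intro h1
  have := Fact.mk Nat.prime_two
  exact h ((sylow_iff P).1 (of_equiv h1 e))

section types

variable {S : Type*} [Group S]

theorem TypeSp4.low (h : TypeSp4 S) : ¬ SectionalPRankLE 2 3 S := by
  obtain ⟨F, _, _, h1, h2⟩ := h
  exact sylOf_low (RankLowSp.psp_four_low (by rwa [Nat.card_eq_fintype_card])) h2

theorem TypeL4.low (h : TypeL4 S) : ¬ SectionalPRankLE 2 3 S := by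
  obtain ⟨F, _, _, h1, h2⟩ := h
  exact sylOf_low (RankLowMat.psl_four_low (by rwa [Nat.card_eq_fintype_card])) h2

theorem TypeL5.low (h : TypeL5 S) : ¬ SectionalPRankLE 2 3 S := by
  obtain ⟨F, _, _, h1, h2⟩ := h
  exact sylOf_low (RankLowMat.psl_five_low (by rwa [Nat.card_eq_fintype_card])) h2

theorem TypeG2.low (h : TypeG2 S) : ¬ SectionalPRankLE 2 3 S := by
  obtain ⟨F, _, _, h1, h2⟩ := h
  exact sylOf_low (RankLowT.g2_low (by rwa [Nat.card_eq_fintype_card])) h2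

theorem TypeL34.low (h : TypeL34 S) : ¬ SectionalPRankLE 2 3 S := by
  obtain ⟨F, _, _, h1, h2⟩ := h
  exact sylOf_low (RankLowEl.psl_three_low (by rwa [Nat.card_eq_fintype_card])) h2

theorem sylOfJ2_low (h : SylOf S Spor.J2) : ¬ SectionalPRankLE 2 3 S := by
  have : Finite Spor.J2 := Nat.finite_of_card_ne_zero (by
    rw [J2Sylow.SporSylow.card_J2]; norm_num)
  exact sylOf_low RankLowSpor.j2_low h

end types

section groups

variable {X : Type*} [Group X] [Finite X]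

theorem low_of_sylow {S : Sylow 2 X} (h : ¬ SectionalPRankLE 2 3 ↥(S : Subgroup X)) :
    ¬ SectionalPRankLE 2 3 X := fun h1 => h (of_subgroup h1 _)

theorem IsL216.low (h : IsL216 X) : ¬ SectionalPRankLE 2 3 X := by
  obtain ⟨F, _, _, h1, ⟨e⟩⟩ := h
  intro h2
  have : CharP F 2 := by
    have h3 : ringChar F = 2 := by
      have h4 : ((Fintype.card F : ℕ) : F) = 0 := FiniteField.cast_card_eq_zero F
      rw [h1] at h4
      have h5 : (2 : F) ^ 4 = 0 := by
        rw [← h4]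
        norm_num
      have h6 : (2 : F) = 0 := by
        exact pow_eq_zero_iff (by norm_num) |>.1 h5
      exact CharP.ringChar_of_prime_eq_zero Nat.prime_two (by exact_mod_cast h6)
    exact ringChar.of_eq h3
  have h3 := SectRankFour.Rank.card_le_psl_two h2 e
  omega

theorem IsL34.low (h : IsL34 X) : ¬ SectionalPRankLE 2 3 X := by
  obtain ⟨F, _, _, h1, ⟨e⟩⟩ := h
  exact low_congr e (RankLowEl.psl_three_low (by rwa [Nat.card_eq_fintype_card]))

theorem IsAlt.low {n : ℕ} (hn : 8 ≤ n) (h : IsAlt n X) : ¬ SectionalPRankLE 2 3 X := by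
  obtain ⟨e⟩ := h
  exact low_congr e (RankLowEl.alt_low hn)

theorem IsSp4odd.low (h : IsSp4odd X) : ¬ SectionalPRankLE 2 3 X := by
  obtain ⟨F, _, _, h1, ⟨e⟩⟩ := h
  exact low_congr e (RankLowSp.psp_four_low (by rwa [Nat.card_eq_fintype_card]))

theorem IsL4odd.low (h : IsL4odd X) : ¬ SectionalPRankLE 2 3 X := by
  obtain ⟨F, _, _, h1, -, ⟨e⟩⟩ := h
  exact low_congr e (RankLowMat.psl_four_low (by rwa [Nat.card_eq_fintype_card]))

theorem IsU4odd.low (h : IsU4odd X) : ¬ SectionalPRankLE 2 3 X := by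
  obtain ⟨F, _, _, q, h1, h2, -, ⟨e⟩⟩ := h
  exact low_congr e (RankLowMat.psu_four_low (by rwa [Nat.card_eq_fintype_card]) h2)

theorem IsL5odd.low (h : IsL5odd X) : ¬ SectionalPRankLE 2 3 X := by
  obtain ⟨F, _, _, h1, ⟨e⟩⟩ := h
  refine low_congr e (RankLowMat.psl_five_low ?_)
  rw [Nat.card_eq_fintype_card, Nat.odd_iff]
  omega

theorem IsU5odd.low (h : IsU5odd X) : ¬ SectionalPRankLE 2 3 X := by
  obtain ⟨F, _, _, q, h1, h2, ⟨e⟩⟩ := h
  refine low_congr e (RankLowMat.psu_five_low (by rwa [Nat.card_eq_fintype_card]) ?_)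
  rw [Nat.odd_iff]
  omega

theorem IsG2odd.low (h : IsG2odd X) : ¬ SectionalPRankLE 2 3 X := by
  obtain ⟨F, _, _, h1, ⟨e⟩⟩ := h
  exact low_congr e (RankLowT.g2_low (by rwa [Nat.card_eq_fintype_card]))

theorem isoM12_low (h : Spor.IsoM12 X) : ¬ SectionalPRankLE 2 3 X := by
  obtain ⟨e⟩ := h
  exact low_congr e RankLowT.m12_low

theorem isoM22_low (h : Spor.IsoM22 X) : ¬ SectionalPRankLE 2 3 X := by
  obtain ⟨e⟩ := h
  exact low_congr e RankLowSpor.m22_low

theorem isoM23_low (h : Spor.IsoM23 X) : ¬ SectionalPRankLE 2 3 X := by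
  obtain ⟨e⟩ := h
  exact low_congr e RankLowSpor.m23_low

theorem isoJ2_low (h : Spor.IsoJ2 X) : ¬ SectionalPRankLE 2 3 X := by
  obtain ⟨e⟩ := h
  exact low_congr e RankLowSpor.j2_low

theorem isoJ3_low (h : Spor.IsoJ3 X) : ¬ SectionalPRankLE 2 3 X := by
  obtain ⟨F, _, _, w, h1, h2, ⟨e⟩⟩ := h
  exact low_congr e (RankLowSpor.j3_low h1 h2)

theorem HasAltCover.low (h : HasAltCover X) : ¬ SectionalPRankLE 2 3 X := by
  obtain ⟨n, t, K, hn, -, -, hc⟩ := h
  obtain ⟨-, ⟨e⟩, -⟩ := hc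
  intro h1
  have h2 : SectionalPRankLE 2 3 (Bar K) := of_quotient (of_subgroup h1 K) _
  have h3 : SectionalPRankLE 2 3 (Bar K ⧸ Subgroup.center (Bar K)) := of_quotient h2 _
  exact RankLowEl.alt_low hn (of_equiv h3 e)

/-- The explicit list: a group of sectional 2-rank at most `3` is none of the following. -/
theorem not_high (h3 : SectionalPRankLE 2 3 X) :
    ¬ (IsL216 X ∨ IsL34 X ∨ (∃ n, 8 ≤ n ∧ n ≤ 11 ∧ IsAlt n X) ∨
    IsSp4odd X ∨ IsL4odd X ∨ IsU4odd X ∨ IsL5odd X ∨ IsU5odd X ∨ IsG2odd X ∨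
    (∃ S : Sylow 2 X, TypeG2 ↥(S : Subgroup X)) ∨ (∃ S : Sylow 2 X, TypeL4 ↥(S : Subgroup X)) ∨
    Spor.IsoM12 X ∨ Spor.IsoM22 X ∨ Spor.IsoM23 X ∨ Spor.IsoJ2 X ∨ Spor.IsoJ3 X ∨
    HasAltCover X) := by
  rintro (h | h | ⟨n, hn, -, h⟩ | h | h | h | h | h | h | ⟨S, h⟩ | ⟨S, h⟩ | h | h | h | h | h | h)
  · exact IsL216.low h h3
  · exact IsL34.low h h3
  · exact IsAlt.low hn h h3
  · exact IsSp4odd.low h h3
  · exact IsL4odd.low h h3
  · exact IsU4odd.low h h3
  · exact IsL5odd.low h h3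
  · exact IsU5odd.low h h3
  · exact IsG2odd.low h h3
  · exact low_of_sylow (TypeG2.low h) h3
  · exact low_of_sylow (TypeL4.low h) h3
  · exact isoM12_low h h3
  · exact isoM22_low h h3
  · exact isoM23_low h h3
  · exact isoJ2_low h h3
  · exact isoJ3_low h h3
  · exact HasAltCover.low h h3

end groups

end Cfsg.Agent.GH.RankLow
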