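import Mathlib
import Cfsg.Agent.GH.ESuz

/-!
# Project GH, branch GH-E: coordinates of a Sylow 2-subgroup of `Sz(8)`

`Coord θ D U k r`: `D = {U a b}` with the multiplication of a Sylow 2-subgroup of a Suzuki group, and `r` acts on
`D` as a generator `k` of the torus.
-/

set_option autoImplicit false

namespace Cfsg.Agent.GH.SzCoord

open Cfsg.Agent.GH.E

/-- Coordinates of `D`. -/
structure Coord {G F : Type*} [Group G] [Field F] (θ : F →+* F) (D : Subgroup G) (U : F → F → G) (k : Fˣ)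
    (r : G) : Prop where
  two : (2 : F) = 0
  sq : ∀ x, θ (θ x) = x ^ 2
  mem : ∀ g, g ∈ D ↔ ∃ a b, g = U a b
  mul : ∀ a b c e, U a b * U c e = U (a + c) (b + e + a * θ c)
  inj : ∀ {a b c e}, U a b = U c e → a = c ∧ b = e
  conj : ∀ a b, r * U a b * r⁻¹ = U (a * (k : F) ^ 2 * (θ k)⁻¹) (b * θ k)
  gen : ∀ l : Fˣ, ∃ n : ℕ, l = k ^ n

namespace Coord

variable {G F : Type*} [Group G] [Field F] {θ : F →+* F} {D : Subgroup G} {U : F → F → G} {k : Fˣ} {r : G}
  (C : Coord θ D U k r)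

include C

theorem add_self (x : F) : x + x = 0 := by linear_combination x * C.two

theorem one : U 0 0 = 1 := by
  have h := C.mul 0 0 0 0
  simp only [add_zero, zero_mul] at h
  exact mul_eq_left.mp h

theorem sq_eq (a b : F) : U a b * U a b = U 0 (a * θ a) := by
  rw [C.mul, C.add_self, C.add_self, zero_add]

theorem sq_one {a b : F} (h : U a b * U a b = 1) : a = 0 := by
  rw [C.sq_eq, ← C.one] at h
  rcases mul_eq_zero.mp (C.inj h).2 with h1 | h1
  · exact h1
  · exact (map_eq_zero θ).mp h1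

theorem fix_theta {x : F} (h : θ x = x) : x = 0 ∨ x = 1 := by
  have h1 := C.sq x
  rw [h, h] at h1
  have h2 : x * (x - 1) = 0 := by linear_combination -h1
  rcases mul_eq_zero.mp h2 with h3 | h3
  · exact Or.inl h3
  · exact Or.inr (sub_eq_zero.mp h3)

/-- The subgroup `Z = {U 0 b}`. -/
def Z : Subgroup G where
  carrier := {g | ∃ b, g = U 0 b}
  one_mem' := ⟨0, C.one.symm⟩
  mul_mem' := by
    rintro _ _ ⟨b, rfl⟩ ⟨c, rfl⟩
    exact ⟨b + c, by rw [C.mul, add_zero, zero_mul, add_zero]⟩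
  inv_mem' := by
    rintro _ ⟨b, rfl⟩
    refine ⟨b, ?_⟩
    rw [inv_eq_iff_mul_eq_one, C.mul, C.add_self, C.add_self, zero_mul, add_zero, C.one]

theorem mem_Z {g : G} : g ∈ C.Z ↔ ∃ b, g = U 0 b := Iff.rfl

theorem card_Z : Nat.card C.Z = Nat.card F := by
  refine (Nat.card_congr (Equiv.ofBijective (fun b : F => (⟨U 0 b, b, rfl⟩ : C.Z)) ⟨?_, ?_⟩)).symm
  · intro b c h
    exact (C.inj (congrArg Subtype.val h)).2
  · rintro ⟨g, b, rfl⟩
    exact ⟨b, rfl⟩

theorem card_D : Nat.card D = Nat.card F ^ 2 := by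
  have h : Nat.card (F × F) = Nat.card D := by
    refine Nat.card_congr (Equiv.ofBijective
      (fun p : F × F => (⟨U p.1 p.2, (C.mem _).2 ⟨_, _, rfl⟩⟩ : D)) ⟨?_, ?_⟩)
    · rintro ⟨a, b⟩ ⟨c, e⟩ h
      have := C.inj (congrArg Subtype.val h)
      exact Prod.ext this.1 this.2
    · rintro ⟨g, hg⟩
      obtain ⟨a, b, rfl⟩ := (C.mem g).1 hg
      exact ⟨(a, b), rfl⟩
  rw [← h, Nat.card_prod, pow_two]

theorem cen (b c e : F) : U 0 b * U c e = U c e * U 0 b := by
  rw [C.mul, C.mul, map_zero, mul_zero, zero_mul, add_comm 0 c, add_comm b e]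

theorem inv_mul_mem {a b e : F} : (U a b)⁻¹ * U a e ∈ C.Z := by
  refine ⟨b + e, ?_⟩
  rw [inv_mul_eq_iff_eq_mul, C.mul, map_zero, mul_zero, add_zero, add_zero]
  congr 1
  linear_combination -(b * C.two)

/-- `[U a b, U c e] = 1` iff `a θ(c) = c θ(a)`. -/
theorem comm_iff {a b c e : F} : U a b * U c e = U c e * U a b ↔ a * θ c = c * θ a := by
  rw [C.mul, C.mul]
  constructor
  · intro h
    have := (C.inj h).2
    linear_combination this
  · intro h
    rw [add_comm c a, h, add_comm b e]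

theorem comm_cases {a b c e : F} (h : U a b * U c e = U c e * U a b) : a = 0 ∨ c = 0 ∨ c = a := by
  rw [C.comm_iff] at h
  by_cases ha : a = 0
  · exact Or.inl ha
  right
  have hθa : θ a ≠ 0 := fun h => ha ((map_eq_zero θ).1 h)
  have h1 : θ (c / a) = c / a := by
    rw [map_div₀]
    field_simp
    linear_combination h
  rcases C.fix_theta h1 with h2 | h2
  · left
    rcases div_eq_zero_iff.1 h2 with h3 | h3
    · exact h3
    · exact absurd h3 ha
  · right
    exact (div_eq_one_iff_eq ha).1 h2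

theorem sq_inj {a c : F} (h : a * θ a = c * θ c) : a = c := by
  by_cases hc : c = 0
  · subst hc
    rw [zero_mul] at h
    rcases mul_eq_zero.mp h with h1 | h1
    · exact h1
    · exact (map_eq_zero θ).mp h1
  have hθc : θ c ≠ 0 := fun h => hc ((map_eq_zero θ).1 h)
  have h1 : (a / c) * θ (a / c) = 1 := by
    rw [map_div₀, div_mul_div_comm, h]
    exact div_self (mul_ne_zero hc hθc)
  have hne : a / c ≠ 0 := fun h2 => by
    rw [h2, zero_mul] at h1
    exact zero_ne_one h1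
  have h2 : θ (a / c) * θ (θ (a / c)) = 1 := by rw [← map_mul, h1, map_one]
  have h3 : θ (θ (a / c)) = a / c := by
    have hθ : θ (a / c) ≠ 0 := fun h => hne ((map_eq_zero θ).1 h)
    apply mul_left_cancel₀ hθ
    rw [h2, mul_comm, h1]
  rw [C.sq] at h3
  have h4 : (a / c) * (a / c - 1) = 0 := by linear_combination h3
  rcases mul_eq_zero.mp h4 with h5 | h5
  · exact absurd h5 hne
  · exact (div_eq_one_iff_eq hc).1 (sub_eq_zero.mp h5)

theorem conj_pow (n : ℕ) (b : F) : r ^ n * U 0 b * (r ^ n)⁻¹ = U 0 (b * θ ((k ^ n : Fˣ) : F)) := by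
  induction n generalizing b with
  | zero => simp
  | succ n ih =>
    have e : r ^ (n + 1) * U 0 b * (r ^ (n + 1))⁻¹ = r ^ n * (r * U 0 b * r⁻¹) * (r ^ n)⁻¹ := by
      rw [pow_succ, mul_inv_rev]; group
    rw [e, C.conj, zero_mul, zero_mul, ih]
    congr 1
    rw [pow_succ, Units.val_mul, map_mul]
    ring

theorem trans [Finite F] {b c : F} (hb : b ≠ 0) (hc : c ≠ 0) :
    ∃ n : ℕ, r ^ n * U 0 b * (r ^ n)⁻¹ = U 0 c := by
  obtain ⟨l, hl⟩ := (Finite.surjective_of_injective θ.injective) (c / b)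
  have hl0 : l ≠ 0 := by
    rintro rfl
    rw [map_zero] at hl
    exact (div_ne_zero hc hb) hl.symm
  obtain ⟨n, hn⟩ := C.gen (Units.mk0 l hl0)
  refine ⟨n, ?_⟩
  rw [C.conj_pow, ← hn, Units.val_mk0, hl]
  congr 1
  field_simp

theorem conj_mem {g : G} (hg : g ∈ D) : r * g * r⁻¹ ∈ D := by
  obtain ⟨a, b, rfl⟩ := (C.mem g).1 hg
  rw [C.conj]
  exact (C.mem _).2 ⟨_, _, rfl⟩

/-- `D` is non-central: elements of the centre of `D` are in `Z`. -/
theorem mem_Z_of_central [Finite F] (h4 : 2 < Nat.card F) {g : G} (hg : g ∈ D) (hc : ∀ b ∈ D, g * b = b * g) :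
    g ∈ C.Z := by
  obtain ⟨a, b, rfl⟩ := (C.mem g).1 hg
  by_cases ha : a = 0
  · exact ⟨b, by rw [ha]⟩
  exfalso
  -- an element different from `0` and `a`
  obtain ⟨c, hc0, hca⟩ : ∃ c : F, c ≠ 0 ∧ c ≠ a := by
    by_contra hcon
    push Not at hcon
    classical
    have : Fintype F := Fintype.ofFinite F
    have h1 : (Finset.univ : Finset F) ⊆ {0, a} := by
      intro c _
      rw [Finset.mem_insert, Finset.mem_singleton]
      by_cases h : c = 0
      · exact Or.inl h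
      · exact Or.inr (hcon c h)
    have h2 := Finset.card_le_card h1
    rw [Finset.card_univ, ← Nat.card_eq_fintype_card] at h2
    have h3 : ({0, a} : Finset F).card ≤ 2 := Finset.card_le_two
    omega
  rcases C.comm_cases (hc (U c 0) ((C.mem _).2 ⟨_, _, rfl⟩)) with h | h | h
  · exact ha h
  · exact hc0 h
  · exact hca h

/-- The configuration `Suz`. -/
theorem suz [Finite F] (hF : Nat.card F = 8) {x : G} (hx : x * x = 1) (hxD : x ∉ D)
    (comm : ∀ a ∈ D, x * a = a * x) (hr : r * x = x * r)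
    (hcard : ∀ Q : Subgroup G, IsPGroup 2 Q → (∀ q ∈ Q, x * q = q * x) → Nat.card Q ≤ 128) :
    Suz x D C.Z r where
  hx := hx
  hxA := hxD
  cardA := by rw [C.card_D, hF]; norm_num
  cardZ := by rw [C.card_Z, hF]
  le := by
    rintro _ ⟨b, rfl⟩
    exact (C.mem _).2 ⟨_, _, rfl⟩
  comm := comm
  sq := by
    intro g hg
    obtain ⟨a, b, rfl⟩ := (C.mem g).1 hg
    exact ⟨_, C.sq_eq a b⟩
  sq_one := by
    intro g hg h
    obtain ⟨a, b, rfl⟩ := (C.mem g).1 hg
    exact ⟨b, by rw [C.sq_one h]⟩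
  Z_sq := by
    rintro _ ⟨b, rfl⟩
    rw [C.sq_eq, zero_mul, C.one]
  cen := by
    rintro _ ⟨b, rfl⟩ g hg
    obtain ⟨c, e, rfl⟩ := (C.mem g).1 hg
    exact C.cen b c e
  sq_inj := by
    intro g hg g' hg' h
    obtain ⟨a, b, rfl⟩ := (C.mem g).1 hg
    obtain ⟨c, e, rfl⟩ := (C.mem g').1 hg'
    rw [C.sq_eq, C.sq_eq] at h
    have := C.sq_inj (C.inj h).2
    subst this
    exact C.inv_mul_mem
  cent := by
    intro g hg g' hg' hgZ h
    obtain ⟨a, b, rfl⟩ := (C.mem g).1 hg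
    obtain ⟨c, e, rfl⟩ := (C.mem g').1 hg'
    rcases C.comm_cases h with h1 | h1 | h1
    · exact absurd ⟨b, by rw [h1]⟩ hgZ
    · left
      exact ⟨e, by rw [h1]⟩
    · right
      subst h1
      exact C.inv_mul_mem
  h_x := hr
  h_A := fun a ha => C.conj_mem ha
  trans := by
    rintro _ ⟨b, rfl⟩ _ ⟨c, rfl⟩ h1 h2
    refine C.trans ?_ ?_
    · rintro rfl
      exact h1 C.one
    · rintro rfl
      exact h2 C.one
  cent_card := hcard

end Coord

end Cfsg.Agent.GH.SzCoord
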