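import Cfsg.Agent.GH.SzCoord
import Cfsg.Agent.GH.ESuzMain
import Cfsg.Agent.GH.EQFour
import Cfsg.Agent.GH.L2Frame
import Cfsg.Agent.GH.L2FourOC
import Cfsg.Agent.GH.WLift
import Cfsg.Agent.GH.WComp
import Cfsg.Agent.GH.QAZStar
import Cfsg.Agent.ThreePrime.SzDataExists

/-!
# Project GH, branch GH-E: `K / O(K) = Sz(8)` is impossible
-/

set_option autoImplicit false

namespace Cfsg.Agent.GH.SzFinal

open Cfsg Subgroup
open Cfsg.Agent.GH.Defs Cfsg.Agent.GH.Rank Cfsg.Agent.GH.Comp Cfsg.Agent.GH.L2Frame Cfsg.Agent.GH.SzCoord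
open Cfsg.Agent.Intrinsic.Basic Cfsg.Agent.ThreePrime Cfsg.Agent.TwoFusion.SectionalRank
open Cfsg.Agent.Walter.SylowIn

/-- Coordinates for a given Sylow 2-subgroup. -/
theorem exists_rel_sylow {J : Type*} [Group J] [Finite J] {F : Type} [Field F] [Fintype F]
    (hF : Fintype.card F = 8) (e : J ≃* ↥(Cfsg.Lie.Sz F 4)) (P : Sylow 2 J) :
    ∃ R : SzRel.Rel J F, R.T = (P : Subgroup J) := by
  have : Fact (Nat.Prime 2) := ⟨Nat.prime_two⟩
  have hF' : Fintype.card F = 2 ^ (2 * 1 + 1) := by rw [hF]; norm_num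
  let R₀ : SzRel.Rel J F := (SzRel.ofGood (LieRecognition.SzMatrix.good hF')).map e.symm
  obtain ⟨P₀, hP₀⟩ := R₀.exists_sylow_eq le_rfl hF'
  obtain ⟨g, hg⟩ := MulAction.exists_smul_eq J P₀ P
  refine ⟨R₀.map (MulAut.conj g), ?_⟩
  rw [← hg]
  ext x
  rw [Sylow.coe_subgroup_smul, Subgroup.mem_pointwise_smul_iff_inv_smul_mem, hP₀]
  constructor
  · rintro ⟨a, b, rfl⟩
    refine ⟨a, b, ?_⟩
    show (MulAut.conj g)⁻¹ (MulAut.conj g (R₀.u a b)) = _
    rw [MulAut.inv_apply_self]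
  · rintro ⟨a, b, hx⟩
    refine ⟨a, b, ?_⟩
    show x = MulAut.conj g (R₀.u a b)
    rw [← hx]
    show x = MulAut.conj g ((MulAut.conj g)⁻¹ x)
    rw [MulAut.apply_inv_self]

theorem three_le {J : Type*} [Group J] [Finite J] {F : Type} [Field F] [Fintype F]
    (hF : Fintype.card F = 8) (R : SzRel.Rel J F) : 3 ≤ srank 2 J := by
  by_contra hlt
  have h2 : SectionalPRankLE 2 2 J := (srank_le_iff (by norm_num)).mp (by omega)
  let f : Multiplicative F →* J :=
    { toFun := fun b => R.u 0 (Multiplicative.toAdd b)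
      map_one' := R.u_zero
      map_mul' := by
        intro a b
        rw [R.u_mul, add_zero, zero_mul, add_zero]
        rfl }
  have hf : Function.Injective f := by
    intro a b hab
    exact (R.u_inj hab).2
  have h3 := Rank.card_le (Rank.of_injective h2 f hf) (fun a b => mul_comm a b) (fun a => by
    rw [pow_two]
    exact R.add_self (Multiplicative.toAdd a))
  have h4 : Nat.card (Multiplicative F) = 8 := by
    rw [← hF, ← Nat.card_eq_fintype_card]
    exact Nat.card_congr Multiplicative.toAdd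
  rw [h4] at h3
  norm_num at h3

section frame

variable {G : Type*} [Group G] [Finite G] {H K T : Subgroup G}

/-- Coordinates of `T ∩ K`. -/
theorem exists_coord (Fr : Frame H K T) {F : Type} [Field F] [Fintype F] (R : SzRel.Rel (STop K) F)
    (hR : R.T = Fr.dTop.range) :
    ∃ (U : F → F → G) (k : Fˣ) (r : G), Coord R.θ (T ⊓ K) U k r ∧ r ∈ K := by
  have hex : ∀ a b, ∃ d : ↥(T ⊓ K), Fr.dTop d = R.u a b := by
    intro a b
    have h1 : R.u a b ∈ R.T := R.u_mem a b
    rw [hR] at h1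
    exact h1
  choose U hU using hex
  obtain ⟨k, hk⟩ := IsCyclic.exists_generator (α := Fˣ)
  -- the element `r`
  have hodd := Frame.odd Fr
  have hN : Odd (Nat.card (topMap K).ker) := odd_card_ker hodd
  obtain ⟨y₀, hy₀⟩ := topMap_surjective K (R.d k)
  have hD2 : IsPGroup 2 ((T ⊓ K).subgroupOf K) := by
    refine (Fr.two.to_le (inf_le_left : T ⊓ K ≤ T)).comap_of_injective _ K.subtype_injective
  have hmk : ∀ y y' : K, QuotientGroup.mk' (topMap K).ker y = QuotientGroup.mk' (topMap K).ker y' ↔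
      topMap K y = topMap K y' := by
    intro y y'
    constructor
    · intro h
      have h1 : y⁻¹ * y' ∈ (topMap K).ker := QuotientGroup.eq.1 h
      rw [MonoidHom.mem_ker, map_mul, map_inv, inv_mul_eq_one] at h1
      exact h1
    · intro h
      refine QuotientGroup.eq.2 ?_
      rw [MonoidHom.mem_ker, map_mul, map_inv, inv_mul_eq_one]
      exact h
  have htop : ∀ d : ↥(T ⊓ K), topMap K ⟨d, d.2.2⟩ = Fr.dTop d := fun d => rfl
  obtain ⟨r, hr, hrU⟩ := WLift.exists_normalizer_lift hN hD2 (q := QuotientGroup.mk' (topMap K).ker y₀) (by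
    intro u hu
    have hu' : (u : G) ∈ T ⊓ K := mem_subgroupOf.1 hu
    have h1 : Fr.dTop ⟨u, hu'⟩ ∈ R.T := by rw [hR]; exact ⟨_, rfl⟩
    obtain ⟨a, b, hab⟩ := h1
    refine ⟨⟨U (a * (k : F) ^ 2 * (R.θ k)⁻¹) (b * R.θ k), (U _ _).2.2⟩, mem_subgroupOf.2 (U _ _).2, ?_⟩
    rw [← map_inv, ← map_mul, ← map_mul, hmk, htop, hU, ← R.conj_d, map_mul, map_mul, map_inv, hy₀]
    have h2 : topMap K u = R.u a b := hab
    rw [h2])
  have hrd : topMap K r = R.d k := by
    rw [← hy₀]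
    exact (hmk _ _).1 hr
  refine ⟨fun a b => (U a b : G), k, r, ?_, r.2⟩
  have hinj := Fr.dTop_injective
  refine
    { two := R.two
      sq := R.sq
      mem := ?_
      mul := ?_
      inj := ?_
      conj := ?_
      gen := ?_ }
  · intro g
    constructor
    · intro hg
      have h1 : Fr.dTop ⟨g, hg⟩ ∈ R.T := by rw [hR]; exact ⟨_, rfl⟩
      obtain ⟨a, b, hab⟩ := h1
      refine ⟨a, b, ?_⟩
      rw [← hU a b] at hab
      exact congrArg Subtype.val (hinj hab)
    · rintro ⟨a, b, rfl⟩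
      exact (U a b).2
  · intro a b c e
    have h1 : U a b * U c e = U (a + c) (b + e + a * R.θ c) := by
      apply hinj
      rw [map_mul, hU, hU, hU, R.u_mul]
    exact congrArg Subtype.val h1
  · intro a b c e h
    have h1 : U a b = U c e := Subtype.ext h
    have h2 := congrArg Fr.dTop h1
    rw [hU, hU] at h2
    exact R.u_inj h2
  · intro a b
    have h1 : (r : K) * ⟨U a b, (U a b).2.2⟩ * r⁻¹ ∈ (T ⊓ K).subgroupOf K :=
      hrU _ (mem_subgroupOf.2 (U a b).2)
    have h2 : ((r * ⟨U a b, (U a b).2.2⟩ * r⁻¹ : K) : G) ∈ T ⊓ K := mem_subgroupOf.1 h1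
    have h3 : (⟨_, h2⟩ : ↥(T ⊓ K)) = U (a * (k : F) ^ 2 * (R.θ k)⁻¹) (b * R.θ k) := by
      apply hinj
      rw [hU, ← R.conj_d]
      show topMap K (r * ⟨U a b, (U a b).2.2⟩ * r⁻¹) = _
      rw [map_mul, map_mul, map_inv, hrd, htop, hU]
    exact congrArg Subtype.val h3
  · intro l
    have h1 := mem_powers_iff_mem_zpowers.mpr (hk l)
    obtain ⟨n, hn⟩ := h1
    exact ⟨n, hn.symm⟩

end frame

/-- **GH-E, `Sz(8)`**: no 2-component with odd centre of type `Sz(8)`. -/
theorem false_of_sz8 {G : Type*} [Group G] [Finite G] (h : Hyp G) {x : G} {K : Subgroup G}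
    (c : Comp2 x K) (hodd : ¬ EvenCenter K) (hK : IsSz8 (STop K)) : False := by
  have hp2 : Fact (Nat.Prime 2) := ⟨Nat.prime_two⟩
  obtain ⟨F, iF, iF', hF, ⟨e⟩⟩ := hK
  have hF' : Fintype.card F = 2 ^ (2 * 1 + 1) := by rw [hF]; norm_num
  have hFn : Nat.card F = 8 := by rw [Nat.card_eq_fintype_card, hF]
  -- rank
  obtain ⟨P₁⟩ : Nonempty (Sylow 2 (STop K)) := inferInstance
  obtain ⟨R₁, -⟩ := exists_rel_sylow hF e P₁
  have h3 : 3 ≤ srank 2 K := by
    rw [← srank_top hodd]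
    exact three_le hF R₁
  set H : Subgroup G := centralizer ({x} : Set G) with hH
  have hHK : H ≤ normalizer (K : Set G) := fun g hg => WComp.normal_of_three_le h c hodd h3 hg
  have hx2 : x * x = 1 := by rw [← pow_two, ← c.inv, pow_orderOf_eq_one]
  have hx1 : x ≠ 1 := by
    rintro rfl
    have := c.inv
    simp at this
  have hxH : x ∈ H := mem_centralizer_singleton_iff.mpr rfl
  have hzx : IsPGroup 2 (zpowers x) := by
    refine IsPGroup.of_card (n := 1) ?_
    rw [Nat.card_zpowers, c.inv, pow_one]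
  obtain ⟨T, hxT', Fr⟩ := exists_frame c.comp hodd hHK hzx (by rw [zpowers_le]; exact hxH)
  have hxT : x ∈ T := hxT' (mem_zpowers x)
  have hTH : T ≤ H := Fr.le
  -- coordinates
  obtain ⟨S, hS⟩ := Fr.exists_sylow
  obtain ⟨R, hR⟩ := exists_rel_sylow hF e S
  obtain ⟨U, k, r, C, hrK⟩ := exists_coord Fr R (hR.trans hS)
  -- `T = Q D`
  have hfix : ∀ y, y ∈ T ⊓ fix K → y ∈ T := fun y hy => hy.1
  have hdec : ∀ t ∈ T, ∃ y ∈ T ⊓ fix K, ∃ a ∈ T ⊓ K, t = y * a := by
    intro t ht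
    obtain ⟨n, hn⟩ := Fr.exists_pow ht
    obtain ⟨l, hl⟩ := R.inner le_rfl hF' (Fr.rho ⟨t, ht⟩) ⟨n, by
      rw [← map_pow]
      have : (⟨t, ht⟩ : T) ^ 2 ^ n = 1 := Subtype.ext hn
      rw [this, map_one]⟩
    obtain ⟨y, hy, a, hya, -⟩ := Fr.exists_mul hl
    exact ⟨y, hy, a, a.2, hya⟩
  have hcardT : Nat.card T = Nat.card ↥(T ⊓ fix K) * Nat.card ↥(T ⊓ K) := by
    rw [← Nat.card_prod]
    refine (Nat.card_congr (Equiv.ofBijective
      (fun p : ↥(T ⊓ fix K) × ↥(T ⊓ K) => (⟨p.1 * p.2, T.mul_mem p.1.2.1 p.2.2.1⟩ : T)) ⟨?_, ?_⟩)).symm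
    · rintro ⟨y, a⟩ ⟨y', a'⟩ heq
      have h1 : (y : G) * a = y' * a' := congrArg Subtype.val heq
      have h4 : (y' : G)⁻¹ * y = a' * (a : G)⁻¹ := by
        rw [inv_mul_eq_iff_eq_mul, ← mul_assoc, ← h1, mul_inv_cancel_right]
      have h5 : (a' : G) * (a : G)⁻¹ = 1 := by
        refine Fr.eq_one (mul_mem a'.2 (inv_mem a.2)) ?_
        rw [← h4]
        exact mul_mem (inv_mem y'.2.2) y.2.2
      have h6 : (a' : G) = a := by rwa [mul_inv_eq_one] at h5
      have h7 : (y : G) = y' := by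
        rw [h6] at h1
        exact mul_right_cancel h1
      exact Prod.ext (Subtype.ext h7) (Subtype.ext h6.symm)
    · rintro ⟨t, ht⟩
      obtain ⟨y, hy, a, ha, rfl⟩ := hdec t ht
      exact ⟨⟨⟨y, hy⟩, ⟨a, ha⟩⟩, rfl⟩
  -- Sylow
  have hsyl : ∀ P : Subgroup G, IsPGroup 2 P → (∀ q ∈ P, x * q = q * x) → Nat.card P ≤ Nat.card T := by
    intro P hP hPx
    have hPH : P ≤ H := fun q hq => mem_centralizer_singleton_iff.mpr (hPx q hq).symm
    obtain ⟨P', hP', hPP'⟩ := exists_sylIn_ge hPH hP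
    obtain ⟨A, hA⟩ := hP'
    obtain ⟨B, hB⟩ := Fr.syl
    have h1 : Nat.card P' = Nat.card T := by
      rw [← hA, ← hB, Subgroup.card_map_of_injective H.subtype_injective,
        Subgroup.card_map_of_injective H.subtype_injective, A.card_eq_multiplicity, B.card_eq_multiplicity]
    rw [← h1]
    exact Nat.card_le_card_of_injective _ (inclusion_injective hPP')
  -- `x ∈ Q`
  have hxfix : x ∈ fix K := mem_fix.2 (fixes_self c.comp.le)
  have hxQ : x ∈ T ⊓ fix K := ⟨hxT, hxfix⟩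
  have hxD : x ∉ T ⊓ K := fun hx => hx1 (Fr.eq_one hx hxfix)
  -- `Q` is cyclic
  have hQ2 : IsPGroup 2 ↥(T ⊓ fix K) := Fr.two.to_le inf_le_left
  have hQcyc : IsCyclic ↥(T ⊓ fix K) := by
    apply L2FourOC.isCyclic_of_srank_le_one hQ2
    have h4 := srank_add_le (D := T ⊓ fix K) c.comp hodd (inf_le_left.trans hTH)
      (fun d hd => mem_fix.1 hd.2)
    have h5 : srank 2 (centralizer ({x} : Set G)) ≤ 4 :=
      (srank_subgroup_le (by norm_num) _).trans ((srank_le_iff (by norm_num)).2 h.rank4)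
    omega
  have hxcomm : ∀ a ∈ T ⊓ K, x * a = a * x := fun a ha =>
    (mem_centralizer_singleton_iff.mp (hTH ha.1)).symm
  have hrx : r * x = x * r := mem_centralizer_singleton_iff.mp (c.comp.le hrK)
  obtain ⟨g, hg1, hg2⟩ := QA.not_isolated h.simple h.nonComm hx2 hx1
  refine hg2 ?_
  suffices hiso : E.Isolated x from hiso g hg1
  by_cases hQ4 : 4 ≤ Nat.card ↥(T ⊓ fix K)
  · refine EQFour.isolated hQcyc hQ2 hQ4 hxQ hx2 hx1 (Fr.two.to_le (inf_le_left : T ⊓ K ≤ T))
      (fun q hq a ha => Fr.comm hq ha) ?_ ?_ ?_ ?_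
    · rw [inf_comm]
      exact Fr.inf_eq_bot
    · intro a ha haa b hb
      obtain ⟨a1, a2, rfl⟩ := (C.mem a).1 ha
      obtain ⟨b1, b2, rfl⟩ := (C.mem b).1 hb
      rw [C.sq_one haa]
      exact C.cen _ _ _
    · intro a ha hc
      obtain ⟨b, rfl⟩ := C.mem_Z_of_central (by rw [hFn]; norm_num) ha hc
      rw [C.sq_eq, zero_mul, C.one]
    · intro P hP hPx
      rw [← hcardT]
      exact hsyl P hP hPx
  · have hQ2' : Nat.card ↥(T ⊓ fix K) = 2 := by
      obtain ⟨n, hn⟩ := hQ2.exists_card_eq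
      have h4 : (2 : ℕ) ≤ Nat.card ↥(T ⊓ fix K) := by
        have h5 : Nat.card (zpowers x) ≤ Nat.card ↥(T ⊓ fix K) :=
          Nat.card_le_card_of_injective _ (inclusion_injective (by rw [zpowers_le]; exact hxQ))
        rw [Nat.card_zpowers, c.inv] at h5
        exact h5
      rw [hn] at h4 hQ4 ⊢
      have h5 : n < 2 := by
        by_contra hcon
        push Not at hcon
        exact hQ4 (by
          calc 4 = 2 ^ 2 := by norm_num
            _ ≤ 2 ^ n := Nat.pow_le_pow_right (by norm_num) hcon)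
      interval_cases n
      · norm_num at h4
      · rfl
    have hcard128 : ∀ P : Subgroup G, IsPGroup 2 P → (∀ q ∈ P, x * q = q * x) → Nat.card P ≤ 128 := by
      intro P hP hPx
      refine (hsyl P hP hPx).trans ?_
      rw [hcardT, hQ2', C.card_D, hFn]
      norm_num
    have hs := C.suz hFn hx2 hxD hxcomm hrx hcard128
    refine hs.isolated ?_
    intro X Y hXY
    refine ((sectionalPRankLE_iff.1 h.rank4) X Y hXY).trans ?_
    exact Nat.mul_le_mul_right _ (by norm_num)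

end Cfsg.Agent.GH.SzFinal
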