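import Mathlib
import Cfsg.Agent.GH.L2Tri

/-!
# GH-L2, case (T4): the group `L`

`T0 E U` : the elements of `N(E)` centralizing `U` and `E / U`.  `Base E V U L ρ`: `L` is a Sylow
2-subgroup of `T0`, normalized by `ρ` of odd order.
-/

set_option autoImplicit false

open Subgroup
open Cfsg.Agent.SignalizersComponents.IntrinsicBasic (cj mem_cj conj_mem_cj cj_one cj_mul
  cj_inv_cj cj_cj_inv cj_injective cj_mono mem_normalizer_iff_cj)
open Cfsg.Agent.GH.L2Tri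

namespace Cfsg.Agent.GH.T4Base

variable {G : Type*} [Group G]

theorem conj_mem_of_norm {E : Subgroup G} {g : G} (hg : g ∈ normalizer (E : Set G)) {e : G}
    (he : e ∈ E) : g * e * g⁻¹ ∈ E := (mem_normalizer_iff.mp hg e).mp he

theorem conj_mem_of_norm' {E : Subgroup G} {g : G} (hg : g ∈ normalizer (E : Set G)) {e : G}
    (he : e ∈ E) : g⁻¹ * e * g ∈ E := by
  have h := conj_mem_of_norm (inv_mem hg) he
  rwa [inv_inv] at h

theorem conj_mem_of_cj {U : Subgroup G} {g : G} (hg : cj g U = U) {u : G}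
    (hu : u ∈ U) : g * u * g⁻¹ ∈ U := by
  have h := conj_mem_cj (g := g) hu
  rwa [hg] at h

/-- elements of `N(E)` centralizing `U` and `E / U` -/
def T0 (E U : Subgroup G) : Subgroup G where
  carrier := {g | g ∈ normalizer (E : Set G) ∧ (∀ u ∈ U, g * u * g⁻¹ = u) ∧
    ∀ e ∈ E, g * e * g⁻¹ * e⁻¹ ∈ U}
  one_mem' := ⟨one_mem _, fun u _ => by group, fun e _ => by
    have e1 : (1 : G) * e * 1⁻¹ * e⁻¹ = 1 := by group
    rw [e1]; exact U.one_mem⟩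
  mul_mem' := by
    rintro a b ⟨ha, ha1, ha2⟩ ⟨hb, hb1, hb2⟩
    refine ⟨mul_mem ha hb, fun u hu => ?_, fun e he => ?_⟩
    · have e1 : a * b * u * (a * b)⁻¹ = a * (b * u * b⁻¹) * a⁻¹ := by group
      rw [e1, hb1 u hu, ha1 u hu]
    · have e1 : a * b * e * (a * b)⁻¹ * e⁻¹ =
          (a * (b * e * b⁻¹) * a⁻¹ * (b * e * b⁻¹)⁻¹) * (b * e * b⁻¹ * e⁻¹) := by group
      rw [e1]
      exact U.mul_mem (ha2 _ (conj_mem_of_norm hb he)) (hb2 e he)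
  inv_mem' := by
    rintro a ⟨ha, ha1, ha2⟩
    refine ⟨inv_mem ha, fun u hu => ?_, fun e he => ?_⟩
    · have h1 := ha1 u hu
      have e1 : a⁻¹ * u * a⁻¹⁻¹ = a⁻¹ * (a * u * a⁻¹) * a := by rw [h1]; group
      rw [e1]; group
    · have h1 := ha2 _ (conj_mem_of_norm' ha he)
      have h2 := U.inv_mem h1
      have e1 : a⁻¹ * e * a⁻¹⁻¹ * e⁻¹ = (a * (a⁻¹ * e * a) * a⁻¹ * (a⁻¹ * e * a)⁻¹)⁻¹ := by group
      rw [e1]; exact h2

theorem mem_T0 {E U : Subgroup G} {g : G} : g ∈ T0 E U ↔ g ∈ normalizer (E : Set G) ∧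
    (∀ u ∈ U, g * u * g⁻¹ = u) ∧ ∀ e ∈ E, g * e * g⁻¹ * e⁻¹ ∈ U := Iff.rfl

theorem T0_le (E U : Subgroup G) : T0 E U ≤ normalizer (E : Set G) := fun _ hg => hg.1

/-- `T0` is normal in `N(E)` when `U` is. -/
theorem conj_T0 {E U : Subgroup G} {k g : G} (hk : k ∈ normalizer (E : Set G))
    (hkU : cj k U = U) (hg : g ∈ T0 E U) : k * g * k⁻¹ ∈ T0 E U := by
  obtain ⟨h1, h2, h3⟩ := hg
  have hkU' : cj k⁻¹ U = U := by
    have := cj_inv_cj k U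
    rwa [hkU] at this
  refine ⟨mul_mem (mul_mem hk h1) (inv_mem hk), fun u hu => ?_, fun e he => ?_⟩
  · have h4 : k⁻¹ * u * k ∈ U := by
      have := conj_mem_of_cj hkU' hu
      rwa [inv_inv] at this
    have e1 : k * g * k⁻¹ * u * (k * g * k⁻¹)⁻¹ = k * (g * (k⁻¹ * u * k) * g⁻¹) * k⁻¹ := by group
    rw [e1, h2 _ h4]; group
  · have h4 := h3 _ (conj_mem_of_norm' hk he)
    have h5 := conj_mem_of_cj hkU h4
    have e1 : k * g * k⁻¹ * e * (k * g * k⁻¹)⁻¹ * e⁻¹ =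
        k * (g * (k⁻¹ * e * k) * g⁻¹ * (k⁻¹ * e * k)⁻¹) * k⁻¹ := by group
    rw [e1]; exact h5

variable {E V U : Subgroup G} {ρ : G}

theorem centralizer_le_T0 (hUE : U ≤ E) : centralizer (E : Set G) ≤ T0 E U := by
  intro g hg
  have h1 : ∀ e ∈ E, g * e * g⁻¹ = e := by
    intro e he
    have h2 := (mem_centralizer_iff.mp hg) e he
    rw [← h2, mul_inv_cancel_right]
  refine ⟨?_, fun u hu => h1 u (hUE hu), fun e he => ?_⟩
  · rw [mem_normalizer_iff_cj]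
    ext x
    rw [mem_cj]
    constructor
    · intro hx
      have h2 := h1 _ hx
      have h3 : g * (g⁻¹ * x * g) * g⁻¹ = x := by group
      rw [h3] at h2
      rw [h2]; exact hx
    · intro hx
      have h2 := h1 x hx
      have h3 : g⁻¹ * x * g = x := by
        have e1 : g⁻¹ * (g * x * g⁻¹) * g = x := by group
        rw [h2] at e1; exact e1
      rw [h3]; exact hx
  · rw [h1 e he, mul_inv_cancel]; exact U.one_mem

/-- An element of `T0` fixing some `e ∈ E - U` centralizes `E`. -/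
theorem T0_fix (h : Tri E V U ρ) (t : T4 E V U ρ) {g : G} (hg : g ∈ T0 E U) {e : G} (he : e ∈ E)
    (heU : e ∉ U) (hge : g * e * g⁻¹ = e) : g ∈ centralizer (E : Set G) := by
  obtain ⟨k, hk, hek⟩ := t.exists_conj' h he heU
  have hk' := inv_mem hk
  have hkU := t.normU _ hk'
  -- pass to `k⁻¹ g k`
  have h1 : k⁻¹ * g * k ∈ T0 E U := by
    have := conj_T0 hk' hkU hg
    rwa [inv_inv] at this
  have h2 : k⁻¹ * e * k ∈ V := mem_cj.mp hek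
  have he1 : e ≠ 1 := fun h3 => heU (by rw [h3]; exact U.one_mem)
  have h3 : k⁻¹ * e * k ≠ 1 := by
    intro h4
    apply he1
    have e1 : e = k * (k⁻¹ * e * k) * k⁻¹ := by group
    rw [e1, h4]; group
  have h4 : (k⁻¹ * g * k) * (k⁻¹ * e * k) * (k⁻¹ * g * k)⁻¹ = k⁻¹ * e * k := by
    have e1 : (k⁻¹ * g * k) * (k⁻¹ * e * k) * (k⁻¹ * g * k)⁻¹ = k⁻¹ * (g * e * g⁻¹) * k := by group
    rw [e1, hge]
  have h5 := t.cen_V h h1.1 h1.2.1 h2 h3 h4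
  have h6 : ∀ x ∈ E, (k⁻¹ * g * k) * x * (k⁻¹ * g * k)⁻¹ = x := by
    intro x hx
    obtain ⟨v, hv, u, hu, rfl⟩ := decomp h.cardE h.VE h.UE h.cardV h.cardU h.disj hx
    have e1 : (k⁻¹ * g * k) * (v * u) * (k⁻¹ * g * k)⁻¹ =
        ((k⁻¹ * g * k) * v * (k⁻¹ * g * k)⁻¹) * ((k⁻¹ * g * k) * u * (k⁻¹ * g * k)⁻¹) := by group
    rw [e1, h5 v hv, h1.2.1 u hu]
  rw [mem_centralizer_iff]
  intro x hx
  have h7 := h6 _ (conj_mem_of_norm' hk hx)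
  have h8 : g * x * g⁻¹ = x := by
    have e1 : (k⁻¹ * g * k) * (k⁻¹ * x * k) * (k⁻¹ * g * k)⁻¹ = k⁻¹ * (g * x * g⁻¹) * k := by group
    rw [e1] at h7
    have e2 : k * (k⁻¹ * (g * x * g⁻¹) * k) * k⁻¹ = k * (k⁻¹ * x * k) * k⁻¹ := by rw [h7]
    have e3 : k * (k⁻¹ * (g * x * g⁻¹) * k) * k⁻¹ = g * x * g⁻¹ := by group
    have e4 : k * (k⁻¹ * x * k) * k⁻¹ = x := by group
    rw [e3, e4] at e2
    exact e2
  calc x * g = g * x * g⁻¹ * g := by rw [h8]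
    _ = g * x := by group

/-! ### Sylow 2-subgroups of subgroups -/

/-- `L` is a Sylow 2-subgroup of `H`. -/
structure SylIn (L H : Subgroup G) : Prop where
  le : L ≤ H
  pgrp : IsPGroup 2 L
  conj : ∀ Q : Subgroup G, Q ≤ H → IsPGroup 2 Q → ∃ c ∈ H, ∀ q ∈ Q, c * q * c⁻¹ ∈ L

theorem exists_sylIn [Finite G] {H Q : Subgroup G} (hQ : Q ≤ H) (hp : IsPGroup 2 Q) :
    ∃ L, SylIn L H ∧ Q ≤ L := by
  have h1 : IsPGroup 2 (Q.subgroupOf H) := hp.comap_subtype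
  obtain ⟨P, hP⟩ := h1.exists_le_sylow
  refine ⟨(P : Subgroup H).map H.subtype, ⟨map_subtype_le _, P.isPGroup'.map _, ?_⟩, ?_⟩
  · intro R hR hR2
    have h2 : IsPGroup 2 (R.subgroupOf H) := hR2.comap_subtype
    obtain ⟨P', hP'⟩ := h2.exists_le_sylow
    obtain ⟨n, hn⟩ := MulAction.exists_smul_eq H P' P
    refine ⟨n, n.2, fun r hr => ?_⟩
    have h3 : (⟨r, hR hr⟩ : H) ∈ P' := hP' hr
    have h4 : n * ⟨r, hR hr⟩ * n⁻¹ ∈ n • P' := by
      rw [← SetLike.mem_coe, Sylow.coe_smul]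
      exact Set.mem_smul_set.mpr ⟨_, h3, by simp [MulAut.conj_apply]⟩
    rw [hn] at h4
    exact ⟨_, h4, rfl⟩
  · intro q hq
    exact ⟨⟨q, hQ hq⟩, hP hq, rfl⟩

theorem SylIn.card_le [Finite G] {L H Q : Subgroup G} (hL : SylIn L H) (hQ : Q ≤ H)
    (hp : IsPGroup 2 Q) : Nat.card Q ≤ Nat.card L := by
  obtain ⟨c, -, hc⟩ := hL.conj Q hQ hp
  have h1 : cj c Q ≤ L := by
    rintro _ ⟨q, hq, rfl⟩
    exact hc q hq
  have h2 : Nat.card (cj c Q) = Nat.card Q :=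
    card_map_of_injective (MulAut.conj c).injective
  rw [← h2]
  exact Nat.card_le_card_of_injective _ (inclusion_injective h1)

theorem SylIn.eq_of_le [Finite G] {L H Q : Subgroup G} (hL : SylIn L H) (hQ : Q ≤ H)
    (hp : IsPGroup 2 Q) (hLQ : L ≤ Q) : L = Q :=
  Subgroup.eq_of_le_of_card_ge hLQ (hL.card_le hQ hp)

/-- Frattini argument. -/
theorem SylIn.frattini [Finite G] {L H : Subgroup G} (hL : SylIn L H) {k : G}
    (hk : ∀ x ∈ H, k * x * k⁻¹ ∈ H) : ∃ c ∈ H, ∀ l ∈ L, (c * k) * l * (c * k)⁻¹ ∈ L := by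
  have h1 : cj k L ≤ H := by
    rintro _ ⟨q, hq, rfl⟩
    exact hk q (hL.le hq)
  obtain ⟨c, hc, hc2⟩ := hL.conj (cj k L) h1 (hL.pgrp.map _)
  refine ⟨c, hc, fun l hl => ?_⟩
  have h2 := hc2 _ (conj_mem_cj (g := k) hl)
  have e1 : c * k * l * (c * k)⁻¹ = c * (k * l * k⁻¹) * c⁻¹ := by group
  rw [e1]; exact h2

theorem SylIn.mem_of_normal [Finite G] {L H : Subgroup G} (hL : SylIn L H) {A : Subgroup G}
    (hA : A ≤ H) (hp : IsPGroup 2 A) (hn : ∀ c ∈ H, ∀ a ∈ A, c * a * c⁻¹ ∈ A) : A ≤ L := by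
  obtain ⟨c, hc, hc2⟩ := hL.conj A hA hp
  intro a ha
  have h1 := hn _ (inv_mem hc) a ha
  rw [inv_inv] at h1
  have h2 := hc2 _ h1
  have e1 : c * (c⁻¹ * a * c) * c⁻¹ = a := by group
  rwa [e1] at h2

/-- The basic configuration. -/
structure Base (E V U L : Subgroup G) (ρ : G) : Prop where
  tri : Tri E V U ρ
  t4 : T4 E V U ρ
  hC : ∀ p ∈ centralizer (E : Set G), ∀ n, p ^ (2 ^ n) = 1 → p ∈ E
  syl : SylIn L (T0 E U)
  norm : ∀ l ∈ L, ρ * l * ρ⁻¹ ∈ L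
  odd : ∃ m, Odd m ∧ ρ ^ m = 1

theorem isPGroup_of_sq {A : Subgroup G} (h : ∀ a ∈ A, a * a = 1) : IsPGroup 2 A := by
  rintro ⟨a, ha⟩
  exact ⟨1, Subtype.ext (by change a ^ (2 ^ 1) = 1; rw [pow_one, pow_two, h a ha])⟩

theorem exists_base [Finite G] (h : Tri E V U ρ) (t : T4 E V U ρ)
    (hC : ∀ p ∈ centralizer (E : Set G), ∀ n, p ^ (2 ^ n) = 1 → p ∈ E) {L : Subgroup G}
    (hL : SylIn L (T0 E U)) : ∃ V' ρ', Base E V' U L ρ' ∧
      ∃ k ∈ normalizer (E : Set G), V' = cj k V := by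
  have hUn : ∀ k ∈ normalizer (E : Set G), ∀ u ∈ U, k * u * k⁻¹ ∈ U := fun k hk u hu =>
    conj_mem_of_cj (t.normU k hk) hu
  obtain ⟨c, hc, hcL⟩ := hL.frattini (k := ρ) (fun x hx => conj_T0 h.norm (t.normU ρ h.norm) hx)
  -- the property of the good elements
  let A : G → Prop := fun g => g ∈ normalizer (E : Set G) ∧ (∀ u ∈ U, g * u * g⁻¹ = ρ * u * ρ⁻¹) ∧
    (∀ e ∈ E, g * e * g⁻¹ * e⁻¹ ∈ U) ∧ ∀ l ∈ L, g * l * g⁻¹ ∈ L
  have hA1 : A (c * ρ) := by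
    refine ⟨mul_mem hc.1 h.norm, fun u hu => ?_, fun e he => ?_, hcL⟩
    · have e1 : c * ρ * u * (c * ρ)⁻¹ = c * (ρ * u * ρ⁻¹) * c⁻¹ := by group
      rw [e1, hc.2.1 _ (h.map u hu)]
    · have e1 : c * ρ * e * (c * ρ)⁻¹ * e⁻¹ =
          (c * (ρ * e * ρ⁻¹) * c⁻¹ * (ρ * e * ρ⁻¹)⁻¹) * (ρ * e * ρ⁻¹ * e⁻¹) := by group
      rw [e1]
      refine U.mul_mem (hc.2.2 _ (conj_mem_of_norm h.norm he)) ?_
      obtain ⟨v, hv, u, hu, rfl⟩ := decomp h.cardE h.VE h.UE h.cardV h.cardU h.disj he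
      have e2 : ρ * (v * u) * ρ⁻¹ * (v * u)⁻¹ = (ρ * v * ρ⁻¹) * ((ρ * u * ρ⁻¹) * u⁻¹) * v⁻¹ := by
        group
      rw [e2, h.cen v hv, h.comm v (h.VE hv) _ (h.UE (U.mul_mem (h.map u hu) (U.inv_mem hu))),
        mul_inv_cancel_right]
      exact U.mul_mem (h.map u hu) (U.inv_mem hu)
  have hA4 : ∀ g, A g → A (g ^ 4) := by
    rintro g ⟨h1, h2, h3, h4⟩
    have e4 : g ^ 4 = g * (g * (g * g)) := by simp only [pow_succ, pow_zero, one_mul, mul_assoc]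
    have hg2 : ∀ e ∈ E, (g * g) * e * (g * g)⁻¹ * e⁻¹ ∈ U := by
      intro e he
      have e1 : g * g * e * (g * g)⁻¹ * e⁻¹ =
          (g * (g * e * g⁻¹) * g⁻¹ * (g * e * g⁻¹)⁻¹) * (g * e * g⁻¹ * e⁻¹) := by group
      rw [e1]
      exact U.mul_mem (h3 _ (conj_mem_of_norm h1 he)) (h3 e he)
    refine ⟨pow_mem h1 4, fun u hu => ?_, fun e he => ?_, fun l hl => ?_⟩
    · have h5 := h2 u hu
      have h6 := h2 _ (h.map u hu)
      have h7 := h2 _ (h.map _ (h.map u hu))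
      have h8 := h2 _ (h.map _ (h.map _ (h.map u hu)))
      have e1 : g ^ 4 * u * (g ^ 4)⁻¹ = g * (g * (g * (g * u * g⁻¹) * g⁻¹) * g⁻¹) * g⁻¹ := by
        rw [e4]; group
      rw [e1, h5, h6, h7, h8, h.rho_cube (h.UE (h.map u hu))]
    · have e1 : g ^ 4 * e * (g ^ 4)⁻¹ * e⁻¹ =
          ((g * g) * ((g * g) * e * (g * g)⁻¹) * (g * g)⁻¹ * ((g * g) * e * (g * g)⁻¹)⁻¹) *
            ((g * g) * e * (g * g)⁻¹ * e⁻¹) := by rw [e4]; group
      rw [e1]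
      exact U.mul_mem (hg2 _ (conj_mem_of_norm (mul_mem h1 h1) he)) (hg2 e he)
    · have e1 : g ^ 4 * l * (g ^ 4)⁻¹ = g * (g * (g * (g * l * g⁻¹) * g⁻¹) * g⁻¹) * g⁻¹ := by
        rw [e4]; group
      rw [e1]
      exact h4 _ (h4 _ (h4 _ (h4 _ hl)))
  have hAb : ∀ b : ℕ, A ((c * ρ) ^ (4 ^ b)) := by
    intro b
    induction b with
    | zero => simpa using hA1
    | succ b ih => rw [pow_succ, pow_mul]; exact hA4 _ ih
  obtain ⟨b, m, hm, hbm⟩ := Nat.exists_eq_two_pow_mul_odd (orderOf_pos (c * ρ)).ne'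
  set r : G := (c * ρ) ^ (4 ^ b) with hr
  have hrA : A r := hAb b
  have hrm : r ^ m = 1 := by
    rw [hr, ← pow_mul, ← orderOf_dvd_iff_pow_eq_one, hbm]
    refine Nat.mul_dvd_mul ?_ dvd_rfl
    have : (4 : ℕ) = 2 ^ 2 := by norm_num
    rw [this, ← pow_mul]
    exact pow_dvd_pow 2 (by omega)
  obtain ⟨hr1, hr2, hr3, hr4⟩ := hrA
  -- a fixed element of `E - U`
  obtain ⟨v, hv, hv1⟩ := h.fourV.exists_ne
  set u0 : G := r * v * r⁻¹ * v⁻¹ with hu0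
  have hu0U : u0 ∈ U := hr3 v (h.VE hv)
  set w : G := ρ * u0 * ρ⁻¹ with hw
  have hwU : w ∈ U := h.map u0 hu0U
  have hww : w * (ρ * w * ρ⁻¹) = u0 := by
    rw [← h.fourU.rho_sq h.map h.fpf hwU, hw, h.rho_cube (h.UE hu0U)]
  have hfix : r * (v * w) * r⁻¹ = v * w := by
    have e1 : r * (v * w) * r⁻¹ = (r * v * r⁻¹ * v⁻¹) * v * (r * w * r⁻¹) := by group
    rw [e1, ← hu0, hr2 w hwU, ← hww]
    have hw'U : ρ * w * ρ⁻¹ ∈ U := h.map w hwU
    have e2 : w * (ρ * w * ρ⁻¹) * v * (ρ * w * ρ⁻¹) = w * ((ρ * w * ρ⁻¹) * v) * (ρ * w * ρ⁻¹) := by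
      group
    rw [e2, h.comm _ (h.UE hw'U) v (h.VE hv)]
    have e3 : w * (v * (ρ * w * ρ⁻¹)) * (ρ * w * ρ⁻¹) = (w * v) * ((ρ * w * ρ⁻¹) * (ρ * w * ρ⁻¹)) := by
      group
    rw [e3, h.fourU.sq _ hw'U, mul_one, h.comm w (h.UE hwU) v (h.VE hv)]
  have hvwE : v * w ∈ E := E.mul_mem (h.VE hv) (h.UE hwU)
  have hvwU : v * w ∉ U := by
    intro h1
    have h2 := U.mul_mem h1 (U.inv_mem hwU)
    rw [mul_inv_cancel_right] at h2
    exact hv1 (h.disj v hv h2)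
  have hvw1 : v * w ≠ 1 := fun h1 => hvwU (by rw [h1]; exact U.one_mem)
  obtain ⟨k, hk, hvwk⟩ := t.exists_conj' h hvwE hvwU
  have hrV : cj r (cj k V) = cj k V := T4.fix_conj h hr1 hk hvwk hvw1 hfix
  have hrc : ∀ x ∈ cj k V, r * x * r⁻¹ = x := by
    intro x hx
    have hxE : x ∈ E := Tri.cjE hk h.VE hx
    have h1 : r * x * r⁻¹ * x⁻¹ ∈ cj k V :=
      (cj k V).mul_mem (conj_mem_of_cj hrV hx) ((cj k V).inv_mem hx)
    exact mul_inv_eq_one.mp (t.disj k hk _ h1 (hr3 x hxE))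
  have hTri : Tri E (cj k V) U r := by
    refine ⟨h.comm, h.sq, Tri.cjE hk h.VE, h.UE, h.cardE, (h.fourV.cj k).card, h.cardU,
      t.disj k hk, ?_, hr1, hrc, ?_, ?_⟩
    · intro g hg x hx hx1 hgx
      refine ⟨?_, t.normU g hg⟩
      have h1 := h.stab (k⁻¹ * g * k) (mul_mem (mul_mem (inv_mem hk) hg) hk) (k⁻¹ * x * k)
        (mem_cj.mp hx) (by
          intro h2
          apply hx1
          have e1 : x = k * (k⁻¹ * x * k) * k⁻¹ := by group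
          rw [e1, h2]; group) (by
          have h2 := mem_cj.mp hgx
          have e1 : k⁻¹ * g * k * (k⁻¹ * x * k) * (k⁻¹ * g * k)⁻¹ = k⁻¹ * (g * x * g⁻¹) * k := by group
          rw [e1]; exact h2)
      have h2 := congrArg (cj k) h1.1
      rw [← cj_mul] at h2
      have e1 : k * (k⁻¹ * g * k) = g * k := by group
      rwa [e1, cj_mul] at h2
    · intro u hu
      rw [hr2 u hu]; exact h.map u hu
    · intro u hu hu1
      rw [hr2 u hu]; exact h.fpf u hu hu1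
  refine ⟨cj k V, r, ⟨hTri, ?_, hC, hL, hr4, m, hm, hrm⟩, k, hk, rfl⟩
  rcases hTri.tri with h1 | h1 | h1
  · exfalso
    obtain ⟨g, hg, hgV⟩ := t.move
    apply hgV
    have h2 := (h1 (k * g * k⁻¹) (mul_mem (mul_mem hk hg) (inv_mem hk))).1
    rw [← cj_mul] at h2
    have e1 : k * g * k⁻¹ * k = k * g := by group
    rw [e1, cj_mul] at h2
    exact cj_injective k h2
  · exfalso
    obtain ⟨g, hg, -, hg2⟩ := h1.1
    rw [t.normU g hg] at hg2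
    obtain ⟨u, hu, hu1⟩ := h.fourU.exists_ne
    exact hu1 (t.disj k hk u (by rw [← hg2]; exact hu) hu)
  · exact h1

end Cfsg.Agent.GH.T4Base
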