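import Mathlib
import Cfsg.Agent.GH.T4Base

/-!
# GH-L2, case (T4): the structure of `L`
-/

set_option autoImplicit false

open Subgroup
open Cfsg.Agent.SignalizersComponents.IntrinsicBasic (cj mem_cj conj_mem_cj cj_one cj_mul
  cj_inv_cj cj_cj_inv cj_injective cj_mono mem_normalizer_iff_cj)
open Cfsg.Agent.GH.L2Tri

namespace Cfsg.Agent.GH.T4Base

variable {G : Type*} [Group G]

/-- an element `g` of odd order whose square commutes with `x` commutes with `x` -/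
theorem comm_of_odd {g x : G} {m : ℕ} (hm : Odd m) (hg : g ^ m = 1)
    (h : g * g * x * (g * g)⁻¹ = x) : g * x * g⁻¹ = x := by
  obtain ⟨k, rfl⟩ := hm
  have h1 : Commute (g * g) x := by
    have : g * g * x = x * (g * g) := by
      calc g * g * x = g * g * x * (g * g)⁻¹ * (g * g) := by group
        _ = x * (g * g) := by rw [h]
    exact this
  have h2 : g = ((g * g) ^ k)⁻¹ := by
    rw [eq_inv_iff_mul_eq_one, ← pow_two, ← pow_mul, ← pow_succ']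
    exact hg
  have h3 : Commute g x := by
    rw [h2]
    exact (h1.pow_left k).inv_left
  rw [h3.eq, mul_inv_cancel_right]

section T0

variable {E U : Subgroup G} (hc : ∀ a ∈ E, ∀ b ∈ E, a * b = b * a) (hUE : U ≤ E)

include hc hUE

theorem br_mul {g g' e : G} (hg : g ∈ T0 E U) (hg' : g' ∈ T0 E U) (he : e ∈ E) :
    (g * g') * e * (g * g')⁻¹ * e⁻¹ = (g * e * g⁻¹ * e⁻¹) * (g' * e * g'⁻¹ * e⁻¹) := by
  have h1 := hg'.2.2 e he
  have h2 := hg.2.1 _ h1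
  have e1 : (g * g') * e * (g * g')⁻¹ * e⁻¹ =
      (g * (g' * e * g'⁻¹ * e⁻¹) * g⁻¹) * (g * e * g⁻¹ * e⁻¹) := by group
  rw [e1, h2]
  exact hc _ (hUE h1) _ (hUE (hg.2.2 e he))

theorem br_mul_right {g e e' : G} (hg : g ∈ T0 E U) (he : e ∈ E) (he' : e' ∈ E) :
    g * (e * e') * g⁻¹ * (e * e')⁻¹ = (g * e * g⁻¹ * e⁻¹) * (g * e' * g⁻¹ * e'⁻¹) := by
  have h1 := hg.2.2 e' he'
  have e1 : g * (e * e') * g⁻¹ * (e * e')⁻¹ =
      (g * e * g⁻¹ * e⁻¹) * (e * (g * e' * g⁻¹ * e'⁻¹) * e⁻¹) := by group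
  rw [e1, hc e he _ (hUE h1), mul_inv_cancel_right]

end T0

namespace Base

variable {E V U L : Subgroup G} {ρ : G}

section

variable (b : Base E V U L ρ)

include b

theorem mem_T0 {l : G} (hl : l ∈ L) : l ∈ T0 E U := b.syl.le hl

theorem two {l : G} (hl : l ∈ L) : ∃ n, l ^ (2 ^ n) = 1 := by
  obtain ⟨n, hn⟩ := b.syl.pgrp ⟨l, hl⟩
  exact ⟨n, congrArg Subtype.val hn⟩

theorem E_le_T0 : E ≤ T0 E U := fun _ he =>
  centralizer_le_T0 b.tri.UE (mem_centralizer_iff.mpr fun x hx => b.tri.comm x hx _ he)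

theorem cenU {l u : G} (hl : l ∈ L) (hu : u ∈ U) : l * u * l⁻¹ = u := (b.mem_T0 hl).2.1 u hu

theorem commU {l u : G} (hl : l ∈ L) (hu : u ∈ U) : l * u = u * l := by
  calc l * u = l * u * l⁻¹ * l := by group
    _ = u * l := by rw [b.cenU hl hu]

theorem brU {l e : G} (hl : l ∈ L) (he : e ∈ E) : l * e * l⁻¹ * e⁻¹ ∈ U := (b.mem_T0 hl).2.2 e he

theorem fix {l e : G} (hl : l ∈ L) (he : e ∈ E) (heU : e ∉ U) (h : l * e * l⁻¹ = e) : l ∈ E := by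
  obtain ⟨n, hn⟩ := b.two hl
  exact b.hC l (T0_fix b.tri b.t4 (b.mem_T0 hl) he heU h) n hn

theorem notU {v : G} (hv : v ∈ V) (hv1 : v ≠ 1) : v ∉ U := fun h => hv1 (b.tri.disj v hv h)

end

section Finite

variable [Finite G] (b : Base E V U L ρ)

include b

theorem E_le : E ≤ L := by
  refine b.syl.mem_of_normal b.E_le_T0 (isPGroup_of_sq b.tri.sq) ?_
  intro c hc a ha
  exact conj_mem_of_norm hc.1 ha

theorem sq {l : G} (hl : l ∈ L) : l * l ∈ U := by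
  by_cases hlE : l ∈ E
  · rw [b.tri.sq l hlE]; exact U.one_mem
  obtain ⟨v, hv, hv1⟩ := b.tri.fourV.exists_ne
  have hvE := b.tri.VE hv
  have hvU := b.notU hv hv1
  have h1 : (l * l) * v * (l * l)⁻¹ = v := by
    have h2 := br_mul b.tri.comm b.tri.UE (b.mem_T0 hl) (b.mem_T0 hl) hvE
    rw [b.tri.sq _ (b.tri.UE (b.brU hl hvE))] at h2
    exact mul_inv_eq_one.mp h2
  have h3 := b.fix (L.mul_mem hl hl) hvE hvU h1
  by_contra h4
  exact hlE (b.fix hl h3 h4 (by group))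

theorem comm {l l' : G} (hl : l ∈ L) (hl' : l' ∈ L) : l * l' * l⁻¹ * l'⁻¹ ∈ U := by
  have h1 := b.sq (L.mul_mem hl hl')
  have h2 := U.inv_mem (b.sq hl)
  have h3 := U.inv_mem (b.sq hl')
  have h4 : l * l' * l⁻¹ * l'⁻¹ = (l * l' * (l * l')) * (l'⁻¹ * (l * l)⁻¹ * l'⁻¹⁻¹) * (l' * l')⁻¹ := by
    group
  rw [h4, b.cenU (L.inv_mem hl') h2]
  exact U.mul_mem (U.mul_mem h1 h2) h3

theorem comm_mul {l l' k : G} (hl : l ∈ L) (hl' : l' ∈ L) (hk : k ∈ L) :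
    (l * l') * k * (l * l')⁻¹ * k⁻¹ = (l * k * l⁻¹ * k⁻¹) * (l' * k * l'⁻¹ * k⁻¹) := by
  have h1 := b.comm hl' hk
  have e1 : (l * l') * k * (l * l')⁻¹ * k⁻¹ =
      (l * (l' * k * l'⁻¹ * k⁻¹) * l⁻¹) * (l * k * l⁻¹ * k⁻¹) := by group
  rw [e1, b.cenU hl h1]
  exact b.tri.comm _ (b.tri.UE h1) _ (b.tri.UE (b.comm hl hk))

theorem comm_mul_right {l l' k : G} (hl : l ∈ L) (hl' : l' ∈ L) (hk : k ∈ L) :
    k * (l * l') * k⁻¹ * (l * l')⁻¹ = (k * l * k⁻¹ * l⁻¹) * (k * l' * k⁻¹ * l'⁻¹) := by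
  have h1 := b.comm hk hl'
  have e1 : k * (l * l') * k⁻¹ * (l * l')⁻¹ =
      (k * l * k⁻¹ * l⁻¹) * (l * (k * l' * k⁻¹ * l'⁻¹) * l⁻¹) := by group
  rw [e1, b.cenU hl h1]

theorem comm_swap {l l' : G} (hl : l ∈ L) (hl' : l' ∈ L) :
    l * l' * l⁻¹ * l'⁻¹ = l' * l * l'⁻¹ * l⁻¹ := by
  have h1 := b.tri.sq _ (b.tri.UE (b.comm hl hl'))
  have h2 : (l * l' * l⁻¹ * l'⁻¹)⁻¹ = l * l' * l⁻¹ * l'⁻¹ := inv_eq_of_mul_eq_one_left h1
  rw [← h2]; group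

/-- `ρ³` centralizes `L` -/
theorem rho3 {l : G} (hl : l ∈ L) : ρ * (ρ * (ρ * l * ρ⁻¹) * ρ⁻¹) * ρ⁻¹ = l := by
  obtain ⟨m, hm, hρ⟩ := b.odd
  have hE3 : ∀ e ∈ E, (ρ * ρ * ρ) * e * (ρ * ρ * ρ)⁻¹ = e := by
    intro e he
    rw [← b.tri.rho_cube he]
    have := b.tri.rho_cube he
    have e1 : (ρ * ρ * ρ) * e * (ρ * ρ * ρ)⁻¹ = ρ * (ρ * (ρ * e * ρ⁻¹) * ρ⁻¹) * ρ⁻¹ := by group
    rw [this, e1, this]
  obtain ⟨v, hv, hv1⟩ := b.tri.fourV.exists_ne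
  have hvE := b.tri.VE hv
  have hvU := b.notU hv hv1
  set r : G := ρ * ρ * ρ with hr
  have hrL : r * l * r⁻¹ ∈ L := by
    have := b.norm _ (b.norm _ (b.norm _ hl))
    have e1 : ρ * (ρ * (ρ * l * ρ⁻¹) * ρ⁻¹) * ρ⁻¹ = r * l * r⁻¹ := by rw [hr]; group
    rwa [e1] at this
  -- `r l r⁻¹ l⁻¹ ∈ E`
  have h1 : (r * l * r⁻¹) * v * (r * l * r⁻¹)⁻¹ = l * v * l⁻¹ := by
    have h2 : r⁻¹ * v * r = v := by
      have h3 := hE3 v hvE
      calc r⁻¹ * v * r = r⁻¹ * (r * v * r⁻¹) * r := by rw [h3]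
        _ = v := by group
    have h4 := conj_mem_of_norm (b.mem_T0 hl).1 hvE
    have e1 : (r * l * r⁻¹) * v * (r * l * r⁻¹)⁻¹ = r * (l * (r⁻¹ * v * r) * l⁻¹) * r⁻¹ := by group
    rw [e1, h2, hE3 _ h4]
  have h5 : (l⁻¹ * (r * l * r⁻¹)) * v * (l⁻¹ * (r * l * r⁻¹))⁻¹ = v := by
    have e1 : (l⁻¹ * (r * l * r⁻¹)) * v * (l⁻¹ * (r * l * r⁻¹))⁻¹ =
        l⁻¹ * ((r * l * r⁻¹) * v * (r * l * r⁻¹)⁻¹) * l := by group
    rw [e1, h1]; group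
  have h6 := b.fix (L.mul_mem (L.inv_mem hl) hrL) hvE hvU h5
  set e : G := l⁻¹ * (r * l * r⁻¹) with he
  have h7 : r * l * r⁻¹ = l * e := by rw [he]; group
  have h8 : r * r * l * (r * r)⁻¹ = l := by
    have e1 : r * r * l * (r * r)⁻¹ = r * (r * l * r⁻¹) * r⁻¹ := by group
    have e2 : r * (l * e) * r⁻¹ = (r * l * r⁻¹) * (r * e * r⁻¹) := by group
    rw [e1, h7, e2, h7, hE3 e h6, mul_assoc, b.tri.sq e h6, mul_one]
  have hrm : r ^ m = 1 := by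
    have : r = ρ ^ 3 := by rw [hr]; simp only [pow_succ, pow_zero, one_mul]
    rw [this, ← pow_mul, mul_comm, pow_mul, hρ, one_pow]
  have h9 := comm_of_odd hm hrm h8
  have e1 : ρ * (ρ * (ρ * l * ρ⁻¹) * ρ⁻¹) * ρ⁻¹ = r * l * r⁻¹ := by rw [hr]; group
  rw [e1, h9]

/-- For `v ∈ V#` and `u ∈ U` there is `l ∈ L` with `[l, v] = u`. -/
theorem surj {v u : G} (hv : v ∈ V) (hv1 : v ≠ 1) (hu : u ∈ U) :
    ∃ l ∈ L, l * v * l⁻¹ * v⁻¹ = u := by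
  have h := b.tri
  have t := b.t4
  have hvE := h.VE hv
  have hvu : v * u ∈ E := E.mul_mem hvE (h.UE hu)
  have hvuU : v * u ∉ U := by
    intro h1
    have h2 := U.mul_mem h1 (U.inv_mem hu)
    rw [mul_inv_cancel_right] at h2
    exact b.notU hv hv1 h2
  obtain ⟨k, hk, hvk⟩ := t.exists_conj' h hvu hvuU
  obtain ⟨s, hs, hs1, hs2, hs3⟩ := t.exists_trans h hk
  have hsT : s ∈ T0 E U := ⟨hs, hs1, hs2⟩
  have h1 : s * v * s⁻¹ ∈ cj k V := by rw [← hs3]; exact conj_mem_cj hv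
  have h2 : s * v * s⁻¹ * v⁻¹ = u := by
    have h3 : s * v * s⁻¹ * (v * u)⁻¹ ∈ cj k V := (cj k V).mul_mem h1 ((cj k V).inv_mem hvk)
    have h4 : s * v * s⁻¹ * (v * u)⁻¹ ∈ U := by
      have h5 := hs2 v hvE
      have e1 : s * v * s⁻¹ * (v * u)⁻¹ = (s * v * s⁻¹ * v⁻¹) * (v * u⁻¹ * v⁻¹) := by group
      rw [e1, h.comm v hvE _ (h.UE (U.inv_mem hu)), mul_inv_cancel_right]
      exact U.mul_mem h5 (U.inv_mem hu)
    have h6 := t.disj k hk _ h3 h4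
    have h7 : s * v * s⁻¹ = v * u := mul_inv_eq_one.mp h6
    rw [h7, h.comm v hvE u (h.UE hu), mul_inv_cancel_right]
  -- odd power
  obtain ⟨a, m, hm, ham⟩ := Nat.exists_eq_two_pow_mul_odd (orderOf_pos s).ne'
  have hpow : ∀ n : ℕ, s ^ n ∈ T0 E U ∧ s ^ n * v * (s ^ n)⁻¹ * v⁻¹ = u ^ n := by
    intro n
    induction n with
    | zero => exact ⟨by rw [pow_zero]; exact one_mem _, by rw [pow_zero, pow_zero]; group⟩
    | succ n ih =>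
      refine ⟨pow_mem hsT _, ?_⟩
      rw [pow_succ, pow_succ, br_mul h.comm h.UE ih.1 hsT hvE, ih.2, h2]
  obtain ⟨j, hj⟩ := hm
  have hu2 : u ^ m = u := by
    rw [hj, pow_succ, pow_mul, pow_two, h.sq u (h.UE hu), one_pow, one_mul]
  have h3 := (hpow m).2
  rw [hu2] at h3
  have hp : IsPGroup 2 (zpowers (s ^ m)) := by
    rw [IsPGroup.iff_card]
    have h5 : Nat.card (zpowers (s ^ m)) ∣ 2 ^ a := by
      rw [Nat.card_zpowers]
      apply orderOf_dvd_of_pow_eq_one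
      rw [← pow_mul, mul_comm, ← ham, pow_orderOf_eq_one]
    exact ((Nat.dvd_prime_pow Nat.prime_two).mp h5).imp fun k hk => hk.2
  obtain ⟨c, hc, hc2⟩ := b.syl.conj (zpowers (s ^ m))
    ((zpowers_le (g := s ^ m)).mpr (hpow m).1) hp
  refine ⟨c * s ^ m * c⁻¹, hc2 _ (mem_zpowers _), ?_⟩
  rw [br_mul h.comm h.UE (mul_mem hc (hpow m).1) (inv_mem hc) hvE,
    br_mul h.comm h.UE hc (hpow m).1 hvE, h3]
  have h6 : (c⁻¹ * v * c⁻¹⁻¹ * v⁻¹) = (c * v * c⁻¹ * v⁻¹) := by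
    have h7 := br_mul h.comm h.UE (inv_mem hc) hc hvE
    have e1 : c⁻¹ * c * v * (c⁻¹ * c)⁻¹ * v⁻¹ = 1 := by group
    rw [e1] at h7
    have h8 := hc.2.2 v hvE
    have h9 := h.sq _ (h.UE h8)
    have h10 : (c * v * c⁻¹ * v⁻¹)⁻¹ = c * v * c⁻¹ * v⁻¹ := inv_eq_of_mul_eq_one_left h9
    rw [← h10]
    exact eq_inv_of_mul_eq_one_left h7.symm
  rw [h6]
  have h8 := hc.2.2 v hvE
  rw [h.comm _ (h.UE h8) u (h.UE hu), mul_assoc, h.sq _ (h.UE h8), mul_one]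

end Finite

end Base

end Cfsg.Agent.GH.T4Base
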