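import Mathlib
import Cfsg.Agent.GH.T4Struct
import Cfsg.Agent.GH.T4Defs

/-!
# GH-L2, case (T4): coordinates of `L`, the case `F` elementary
-/

set_option autoImplicit false

open Subgroup
open Cfsg.Agent.SignalizersComponents.IntrinsicBasic (cj mem_cj conj_mem_cj cj_one cj_mul
  cj_inv_cj cj_cj_inv cj_injective cj_mono mem_normalizer_iff_cj)
open Cfsg.Agent.GH.L2Tri
open Cfsg.Agent.J2Sylow.Model Cfsg.Agent.J2Sylow.Model.F4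
open Cfsg.Agent.GH.T4Defs

namespace Cfsg.Agent.GH.T4Base

variable {G : Type*} [Group G]

/-- the function on `F4` with values `1, g1, g2, g3` -/
def fn (g1 g2 g3 : G) : F4 → G
  | o => 1
  | e => g1
  | w => g2
  | u => g3

theorem fn_mul {g1 g2 g3 : G} (h1 : g1 * g1 = 1) (h2 : g2 * g2 = 1) (h3 : g3 = g1 * g2)
    (hc : g1 * g2 = g2 * g1) (a b : F4) : fn g1 g2 g3 a * fn g1 g2 g3 b = fn g1 g2 g3 (a + b) := by
  have e13 : g1 * g3 = g2 := by rw [h3, ← mul_assoc, h1, one_mul]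
  have e31 : g3 * g1 = g2 := by rw [h3, hc, mul_assoc, h1, mul_one]
  have e23 : g2 * g3 = g1 := by rw [h3, hc, ← mul_assoc, h2, one_mul]
  have e32 : g3 * g2 = g1 := by rw [h3, mul_assoc, h2, mul_one]
  have e33 : g3 * g3 = 1 := by
    nth_rw 1 [h3]; rw [mul_assoc, e23, h1]
  have e21 : g2 * g1 = g3 := by rw [← hc, h3]
  cases a <;> cases b
  · exact one_mul _
  · exact one_mul _
  · exact one_mul _
  · exact one_mul _
  · exact mul_one _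
  · exact h1
  · exact h3.symm
  · exact e13
  · exact mul_one _
  · exact e21
  · exact h2
  · exact e23
  · exact mul_one _
  · exact e31
  · exact e32
  · exact e33

/-- Coordinates of `L` (of type `UT₃(4)`). -/
structure Coord (E V U L : Subgroup G) (ρ : G) (X Y Z : F4 → G) : Prop where
  ut : UT X Y Z
  memV : ∀ g, g ∈ V ↔ ∃ a, g = X a
  memU : ∀ g, g ∈ U ↔ ∃ c, g = Z c
  memE : ∀ g, g ∈ E ↔ ∃ a c, g = X a * Z c
  memL : ∀ g, g ∈ L ↔ ∃ a b c, g = Y b * X a * Z c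
  rX : ∀ a, ρ * X a * ρ⁻¹ = X a
  rY : ∀ b, ρ * Y b * ρ⁻¹ = Y (w * b)
  rZ : ∀ c, ρ * Z c * ρ⁻¹ = Z (w * c)

namespace Base

variable {E V U L : Subgroup G} {ρ : G} [Finite G] (b : Base E V U L ρ)

include b

theorem norm' {l : G} (hl : l ∈ L) : ρ⁻¹ * l * ρ ∈ L := by
  have h1 := b.norm _ (b.norm _ hl)
  have h2 := b.rho3 hl
  have h3 : ρ⁻¹ * l * ρ = ρ * (ρ * l * ρ⁻¹) * ρ⁻¹ := by
    nth_rw 1 [← h2]; group
  rw [h3]; exact h1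

/-- For `y ∈ L - E` the map `v ↦ [v, y]` from `V` to `U` is surjective. -/
theorem surjV {y z : G} (hy : y ∈ L) (hyE : y ∉ E) (hz : z ∈ U) :
    ∃ v ∈ V, v * y * v⁻¹ * y⁻¹ = z := by
  have h := b.tri
  have hVL : V ≤ L := h.VE.trans b.E_le
  let f : V → U := fun v => ⟨v * y * (v : G)⁻¹ * y⁻¹, b.comm (hVL v.2) hy⟩
  have hf : Function.Injective f := by
    rintro ⟨v, hv⟩ ⟨v', hv'⟩ heq
    have h1 : v * y * v⁻¹ * y⁻¹ = v' * y * v'⁻¹ * y⁻¹ := congrArg Subtype.val heq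
    have h2 : v * y * v⁻¹ = v' * y * v'⁻¹ := mul_right_cancel h1
    by_contra hne
    have h3 : v'⁻¹ * v ≠ 1 := fun h4 => hne (Subtype.ext (inv_mul_eq_one.mp h4).symm)
    have h4 : v'⁻¹ * v ∈ V := V.mul_mem (V.inv_mem hv') hv
    refine hyE (b.fix hy (h.VE h4) (b.notU h4 h3) ?_)
    calc y * (v'⁻¹ * v) * y⁻¹ = y * v'⁻¹ * (v * y * v⁻¹)⁻¹ * v := by group
      _ = y * v'⁻¹ * (v' * y * v'⁻¹)⁻¹ * v := by rw [h2]
      _ = v'⁻¹ * v := by group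
  have := h.fourV.finite
  have := h.fourU.finite
  have h2 := (Nat.bijective_iff_injective_and_card f).mpr ⟨hf, by rw [h.cardV, h.cardU]⟩
  obtain ⟨⟨v, hv⟩, hv2⟩ := h2.2 ⟨z, hz⟩
  exact ⟨v, hv, congrArg Subtype.val hv2⟩

/-- the elements `y` with `y y^ρ y^(ρ²) = 1` -/
theorem exists_y {v z : G} (hv : v ∈ V) (hv1 : v ≠ 1) (hz : z ∈ U) (hz1 : z ≠ 1) :
    ∃ y ∈ L, y ∉ E ∧ v * y * v⁻¹ * y⁻¹ = z ∧
      y * (ρ * y * ρ⁻¹) * (ρ * (ρ * y * ρ⁻¹) * ρ⁻¹) = 1 := by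
  have h := b.tri
  have hvE := h.VE hv
  have hvL := b.E_le hvE
  obtain ⟨l, hl, hlv⟩ := b.surj hv hv1 (h.map z hz)
  have hyL : l⁻¹ * (ρ * l * ρ⁻¹) ∈ L := L.mul_mem (L.inv_mem hl) (b.norm _ hl)
  have h1 : (ρ * l * ρ⁻¹) * v * (ρ * l * ρ⁻¹)⁻¹ * v⁻¹ = ρ * (ρ * z * ρ⁻¹) * ρ⁻¹ := by
    rw [← hlv]
    have h2 : ρ⁻¹ * v * ρ = v := by
      have h3 := h.cen v hv
      calc ρ⁻¹ * v * ρ = ρ⁻¹ * (ρ * v * ρ⁻¹) * ρ := by rw [h3]
        _ = v := by group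
    have e1 : (ρ * l * ρ⁻¹) * v * (ρ * l * ρ⁻¹)⁻¹ * v⁻¹ =
        ρ * (l * (ρ⁻¹ * v * ρ) * l⁻¹ * (ρ⁻¹ * v * ρ)⁻¹) * ρ⁻¹ := by group
    rw [e1, h2]
  have h2 : l⁻¹ * v * l⁻¹⁻¹ * v⁻¹ = ρ * z * ρ⁻¹ := by
    have h3 := b.comm_mul (L.inv_mem hl) hl hvL
    have e1 : l⁻¹ * l * v * (l⁻¹ * l)⁻¹ * v⁻¹ = 1 := by group
    rw [e1, hlv] at h3
    have h4 := h.sq _ (h.UE (h.map z hz))
    have h5 : (ρ * z * ρ⁻¹)⁻¹ = ρ * z * ρ⁻¹ := inv_eq_of_mul_eq_one_left h4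
    rw [← h5]
    exact eq_inv_of_mul_eq_one_left h3.symm
  have h3 : (l⁻¹ * (ρ * l * ρ⁻¹)) * v * (l⁻¹ * (ρ * l * ρ⁻¹))⁻¹ * v⁻¹ = z := by
    rw [b.comm_mul (L.inv_mem hl) (b.norm _ hl) hvL, h1, h2]
    have h4 := h.fourU.rho_sq h.map h.fpf (h.map z hz)
    have h5 := h.rho_cube (h.UE hz)
    rw [h5] at h4
    have h6 := h.fourU.rho_sq h.map h.fpf hz
    rw [h6, h.comm _ (h.UE (h.map z hz)) _ (h.UE (U.mul_mem hz (h.map z hz))), mul_assoc,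
      h.sq _ (h.UE (h.map z hz)), mul_one]
  refine ⟨l⁻¹ * (ρ * l * ρ⁻¹), hyL, ?_, ?_, ?_⟩
  · intro h4
    apply hz1
    rw [← h3, h.comm _ h4 v hvE, mul_inv_cancel_right, mul_inv_cancel]
  · rw [b.comm_swap hvL hyL]; exact h3
  · have h4 := b.rho3 hl
    have e1 : l⁻¹ * (ρ * l * ρ⁻¹) * (ρ * (l⁻¹ * (ρ * l * ρ⁻¹)) * ρ⁻¹) *
        (ρ * (ρ * (l⁻¹ * (ρ * l * ρ⁻¹)) * ρ⁻¹) * ρ⁻¹) =
        l⁻¹ * (ρ * (ρ * (ρ * l * ρ⁻¹) * ρ⁻¹) * ρ⁻¹) := by group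
    rw [e1, h4, inv_mul_cancel]

/-- the three elements commute -/
theorem y_comm {y : G} (hy : y ∈ L)
    (hy3 : y * (ρ * y * ρ⁻¹) * (ρ * (ρ * y * ρ⁻¹) * ρ⁻¹) = 1) :
    y * (ρ * y * ρ⁻¹) = (ρ * y * ρ⁻¹) * y := by
  have h := b.tri
  set y1 : G := ρ * y * ρ⁻¹ with hy1
  set y2 : G := ρ * y1 * ρ⁻¹ with hy2
  have hy1L : y1 ∈ L := b.norm _ hy
  have h1 : y * y1 * y⁻¹ * y1⁻¹ ∈ U := b.comm hy hy1L
  have h2 : y2 = (y * y1)⁻¹ := (inv_eq_of_mul_eq_one_right hy3).symm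
  -- the commutator is fixed by `ρ`
  have h3 : ρ * (y * y1 * y⁻¹ * y1⁻¹) * ρ⁻¹ = y * y1 * y⁻¹ * y1⁻¹ := by
    have e1 : ρ * (y * y1 * y⁻¹ * y1⁻¹) * ρ⁻¹ = y1 * y2 * y1⁻¹ * y2⁻¹ := by
      rw [hy2, hy1]; group
    rw [e1, h2]
    have e2 : y1 * (y * y1)⁻¹ * y1⁻¹ * (y * y1)⁻¹⁻¹ = y⁻¹ * (y1⁻¹ * (y * y1 * y⁻¹ * y1⁻¹) * y1⁻¹⁻¹) * y⁻¹⁻¹ := by
      group
    rw [e2, b.cenU (L.inv_mem hy1L) h1, b.cenU (L.inv_mem hy) h1]
  have h4 : y * y1 * y⁻¹ * y1⁻¹ = 1 := by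
    by_contra h5
    exact h.fpf _ h1 h5 h3
  have h5 : y * y1 * y⁻¹ = y1 := mul_inv_eq_one.mp h4
  calc y * y1 = y * y1 * y⁻¹ * y := by group
    _ = y1 * y := by rw [h5]

/-- **Coordinates**, when `y² = 1`. -/
theorem coord_of {y x : G} (hy : y ∈ L) (hyE : y ∉ E) (hyy : y * y = 1)
    (hy3 : y * (ρ * y * ρ⁻¹) * (ρ * (ρ * y * ρ⁻¹) * ρ⁻¹) = 1) (hx : x ∈ V) (hx1 : x ≠ 1) :
    ∃ X Y Z, Coord E V U L ρ X Y Z ∧ X 1 = x ∧ Y 1 = y := by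
  have h := b.tri
  have hyc := b.y_comm hy hy3
  obtain ⟨y1, hy1⟩ : ∃ y1, y1 = ρ * y * ρ⁻¹ := ⟨_, rfl⟩
  obtain ⟨y2, hy2⟩ : ∃ y2, y2 = ρ * y1 * ρ⁻¹ := ⟨_, rfl⟩
  have hy30 : ρ * y2 * ρ⁻¹ = y := by rw [hy2, hy1]; exact b.rho3 hy
  rw [← hy1, ← hy2] at hy3
  rw [← hy1] at hyc
  have hy1L : y1 ∈ L := hy1 ▸ b.norm _ hy
  have hy2L : y2 ∈ L := hy2 ▸ b.norm _ hy1L
  have hxE := h.VE hx
  have hxL := b.E_le hxE
  -- `Z`
  obtain ⟨z, hz⟩ : ∃ z, z = x * y * x⁻¹ * y⁻¹ := ⟨_, rfl⟩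
  have hzU : z ∈ U := hz ▸ b.comm hxL hy
  have hz1 : z ≠ 1 := by
    intro h1
    rw [hz] at h1
    have h2 : x * y * x⁻¹ = y := mul_inv_eq_one.mp h1
    refine hyE (b.fix hy hxE (b.notU hx hx1) ?_)
    calc y * x * y⁻¹ = (x * y * x⁻¹) * x * y⁻¹ := by rw [h2]
      _ = x := by group
  obtain ⟨z1, hz1'⟩ : ∃ z1, z1 = ρ * z * ρ⁻¹ := ⟨_, rfl⟩
  obtain ⟨z2, hz2'⟩ : ∃ z2, z2 = ρ * z1 * ρ⁻¹ := ⟨_, rfl⟩
  have hz1U : z1 ∈ U := hz1' ▸ h.map z hzU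
  have hz2U : z2 ∈ U := hz2' ▸ h.map z1 hz1U
  have hzs : z2 = z * z1 := by rw [hz2', hz1']; exact h.fourU.rho_sq h.map h.fpf hzU
  have hz30 : ρ * z2 * ρ⁻¹ = z := by rw [hz2', hz1']; exact b.tri.rho_cube (h.UE hzU)
  have hz11 : z1 ≠ 1 := by rw [hz1']; exact Tri.rho_ne_one hz1
  have hzz1 : z ≠ z1 := by
    intro h1
    apply h.fpf z hzU hz1
    rw [← hz1']; exact h1.symm
  -- `X`
  obtain ⟨x1, hx1V, hx1z⟩ := b.surjV hy hyE hz1U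
  have hx1E := h.VE hx1V
  have hx1L := b.E_le hx1E
  have hyy1 : y1 * y1 = 1 := by
    have e1 : y1 * y1 = ρ * (y * y) * ρ⁻¹ := by rw [hy1]; group
    rw [e1, hyy]; group
  have hyy2 : y2 * y2 = 1 := by
    have e1 : y2 * y2 = ρ * (y1 * y1) * ρ⁻¹ := by rw [hy2]; group
    rw [e1, hyy1]; group
  have hy2' : y2 = y * y1 := by
    have h1 : y2 = (y * y1)⁻¹ := (inv_eq_of_mul_eq_one_right hy3).symm
    rw [h1]
    apply inv_eq_of_mul_eq_one_left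
    calc y * y1 * (y * y1) = (y * y1) * (y1 * y) := by rw [hyc]
      _ = y * (y1 * y1) * y := by group
      _ = 1 := by rw [hyy1, mul_one, hyy]
  set X : F4 → G := fn x x1 (x * x1) with hX
  set Y : F4 → G := fn y y1 y2 with hY
  set Z : F4 → G := fn z z1 z2 with hZ
  have X0 : X 0 = 1 := rfl
  have Y0 : Y 0 = 1 := rfl
  have Z0 : Z 0 = 1 := rfl
  have X1 : X 1 = x := rfl
  have Y1 : Y 1 = y := rfl
  have Z1 : Z 1 = z := rfl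
  have hXX : ∀ a b, X a * X b = X (a + b) := fun a b =>
    fn_mul (h.sq x hxE) (h.sq x1 hx1E) rfl (h.comm x hxE x1 hx1E) a b
  have hYY : ∀ a b, Y a * Y b = Y (a + b) := fun a b => fn_mul hyy hyy1 hy2' hyc a b
  have hZZ : ∀ a b, Z a * Z b = Z (a + b) := fun a b =>
    fn_mul (h.sq z (h.UE hzU)) (h.sq z1 (h.UE hz1U)) hzs (h.comm z (h.UE hzU) z1 (h.UE hz1U)) a b
  have hXV : ∀ a, X a ∈ V := by
    intro a
    cases a
    · exact V.one_mem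
    · exact hx
    · exact hx1V
    · exact V.mul_mem hx hx1V
  have hYL : ∀ a, Y a ∈ L := by
    intro a
    cases a
    · exact L.one_mem
    · exact hy
    · exact hy1L
    · exact hy2L
  have hZU : ∀ a, Z a ∈ U := by
    intro a
    cases a
    · exact U.one_mem
    · exact hzU
    · exact hz1U
    · exact hz2U
  have hXL : ∀ a, X a ∈ L := fun a => b.E_le (h.VE (hXV a))
  have hrX : ∀ a, ρ * X a * ρ⁻¹ = X a := fun a => h.cen _ (hXV a)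
  have hrY : ∀ a, ρ * Y a * ρ⁻¹ = Y (w * a) := by
    intro a
    cases a
    · change ρ * 1 * ρ⁻¹ = 1; group
    · exact hy1.symm
    · exact hy2.symm
    · exact hy30
  have hrZ : ∀ a, ρ * Z a * ρ⁻¹ = Z (w * a) := by
    intro a
    cases a
    · change ρ * 1 * ρ⁻¹ = 1; group
    · exact hz1'.symm
    · exact hz2'.symm
    · exact hz30
  -- commutators
  have hc1 : ∀ a, X a * Y 1 * (X a)⁻¹ * (Y 1)⁻¹ = Z a := by
    intro a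
    cases a
    · change 1 * y * 1⁻¹ * y⁻¹ = 1; group
    · exact hz.symm
    · exact hx1z
    · change (x * x1) * y * (x * x1)⁻¹ * y⁻¹ = z2
      rw [b.comm_mul hxL hx1L hy, hx1z, hzs, ← hz]
  have hstep : ∀ a c, X a * Y c * (X a)⁻¹ * (Y c)⁻¹ = Z (a * c) →
      X a * Y (w * c) * (X a)⁻¹ * (Y (w * c))⁻¹ = Z (a * (w * c)) := by
    intro a c hac
    have e0 : a * (w * c) = w * (a * c) := by ring
    rw [e0, ← hrZ, ← hac, ← hrY]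
    have e2 : X a = ρ * X a * ρ⁻¹ := (hrX a).symm
    have e1 : ρ * (X a * Y c * (X a)⁻¹ * (Y c)⁻¹) * ρ⁻¹ =
        (ρ * X a * ρ⁻¹) * (ρ * Y c * ρ⁻¹) * (ρ * X a * ρ⁻¹)⁻¹ * (ρ * Y c * ρ⁻¹)⁻¹ := by group
    rw [e1, ← e2]
  have hc : ∀ a c, X a * Y c * (X a)⁻¹ * (Y c)⁻¹ = Z (a * c) := by
    intro a c
    have h1 : X a * Y 1 * (X a)⁻¹ * (Y 1)⁻¹ = Z (a * 1) := by rw [mul_one]; exact hc1 a
    have h2 := hstep a 1 h1
    have h3 := hstep a _ h2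
    cases c
    · change X a * Y 0 * (X a)⁻¹ * (Y 0)⁻¹ = Z (a * 0)
      rw [mul_zero, Z0, Y0]; group
    · exact h1
    · exact h2
    · exact h3
  have hut : UT X Y Z := by
    refine ⟨hXX, hYY, hZZ, ?_, ?_, ?_, ?_⟩
    · intro a c
      have h1 : X a * Y c = Z (a * c) * (Y c * X a) := by rw [← hc]; group
      rw [h1, ← b.commU (L.mul_mem (hYL c) (hXL a)) (hZU _), mul_assoc]
    · intro a c
      exact (b.commU (hXL c) (hZU a)).symm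
    · intro a c
      exact (b.commU (hYL c) (hZU a)).symm
    · intro a ha
      cases a
      · exact absurd rfl ha
      · exact hz1
      · exact hz11
      · change z2 ≠ 1
        rw [hz2']; exact Tri.rho_ne_one hz11
  have hmV : ∀ g, g ∈ V ↔ ∃ a, g = X a := by
    intro g
    constructor
    · intro hg
      have hx11 : x1 ≠ 1 := by
        intro h1
        apply hz11
        rw [← hx1z, h1]; group
      have hxx1 : x ≠ x1 := by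
        intro h1
        apply hzz1
        rw [← hx1z, hz, h1]
      rcases h.fourV.cases hx hx1V hx1 hx11 hxx1 hg with h1 | h1 | h1 | h1
      · exact ⟨o, h1⟩
      · exact ⟨e, h1⟩
      · exact ⟨w, h1⟩
      · exact ⟨u, h1⟩
    · rintro ⟨a, rfl⟩
      exact hXV a
  have hmU : ∀ g, g ∈ U ↔ ∃ c, g = Z c := by
    intro g
    constructor
    · intro hg
      rcases h.fourU.cases hzU hz1U hz1 hz11 hzz1 hg with h1 | h1 | h1 | h1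
      · exact ⟨o, h1⟩
      · exact ⟨e, h1⟩
      · exact ⟨w, h1⟩
      · exact ⟨u, h1.trans hzs.symm⟩
    · rintro ⟨a, rfl⟩
      exact hZU a
  have hmE : ∀ g, g ∈ E ↔ ∃ a c, g = X a * Z c := by
    intro g
    constructor
    · intro hg
      obtain ⟨v, hv, u, hu, rfl⟩ := decomp h.cardE h.VE h.UE h.cardV h.cardU h.disj hg
      obtain ⟨a, rfl⟩ := (hmV v).mp hv
      obtain ⟨c, rfl⟩ := (hmU u).mp hu
      exact ⟨a, c, rfl⟩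
    · rintro ⟨a, c, rfl⟩
      exact E.mul_mem (h.VE (hXV a)) (h.UE (hZU c))
  refine ⟨X, Y, Z, ⟨hut, hmV, hmU, hmE, ?_, hrX, hrY, hrZ⟩, X1, Y1⟩
  intro g
  constructor
  · intro hg
    obtain ⟨c, hc'⟩ := (hmU _).mp (b.comm hxL hg)
    have h1 : x * (Y c)⁻¹ * x⁻¹ * (Y c)⁻¹⁻¹ = Z c := by
      rw [hut.Yinv]
      have h2 := hc 1 c
      rw [one_mul, X1] at h2
      exact h2
    have h3 : x * (g * (Y c)⁻¹) * x⁻¹ * (g * (Y c)⁻¹)⁻¹ = 1 := by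
      rw [b.comm_mul_right hg (L.inv_mem (hYL c)) hxL, hc', h1, hut.Zsq]
    have h4 : x * (g * (Y c)⁻¹) * x⁻¹ = g * (Y c)⁻¹ := mul_inv_eq_one.mp h3
    have h5 : g * (Y c)⁻¹ ∈ E := by
      refine b.fix (L.mul_mem hg (L.inv_mem (hYL c))) hxE (b.notU hx hx1) ?_
      calc g * (Y c)⁻¹ * x * (g * (Y c)⁻¹)⁻¹ = (x * (g * (Y c)⁻¹) * x⁻¹) * x * (g * (Y c)⁻¹)⁻¹ := by rw [h4]
        _ = x := by group
    have h6 : (Y c)⁻¹ * g ∈ E := by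
      have h7 := conj_mem_of_norm (b.mem_T0 (L.inv_mem (hYL c))).1 h5
      have e1 : (Y c)⁻¹ * (g * (Y c)⁻¹) * (Y c)⁻¹⁻¹ = (Y c)⁻¹ * g := by group
      rwa [e1] at h7
    obtain ⟨a, c', hac⟩ := (hmE _).mp h6
    refine ⟨a, c, c', ?_⟩
    rw [mul_assoc, ← hac]; group
  · rintro ⟨a, c, c', rfl⟩
    exact L.mul_mem (L.mul_mem (hYL c) (hXL a)) (b.E_le (h.UE (hZU c')))

end Base

end Cfsg.Agent.GH.T4Base
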