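import Mathlib
import Cfsg.Agent.GH.T4Coord

/-!
# GH-L2, case (T4): the elements of `N_S(E)` outside `L`
-/

set_option autoImplicit false

open Subgroup
open Cfsg.Agent.SignalizersComponents.IntrinsicBasic (cj mem_cj conj_mem_cj cj_one cj_mul
  cj_inv_cj cj_cj_inv cj_injective cj_mono mem_normalizer_iff_cj)
open Cfsg.Agent.GH.L2Tri

namespace Cfsg.Agent.GH.T4Base

variable {G : Type*} [Group G]

/-- a 2-element normalizing a four-group fixes an element of it -/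
theorem exists_fix_of_two {W : Subgroup G} (hW : Four W) :
    ∀ (n : ℕ) (p : G), p ^ (2 ^ n) = 1 → (∀ x ∈ W, p * x * p⁻¹ ∈ W) →
      ∃ a ∈ W, a ≠ 1 ∧ p * a * p⁻¹ = a := by
  intro n
  induction n with
  | zero =>
    intro p hp _
    rw [pow_zero, pow_one] at hp
    obtain ⟨a, ha, ha1⟩ := hW.exists_ne
    exact ⟨a, ha, ha1, by rw [hp]; group⟩
  | succ n ih =>
    intro p hp hn
    obtain ⟨a, ha, ha1, hpa⟩ := ih (p * p) (by rw [← pow_two, ← pow_mul, ← pow_succ']; exact hp)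
      (fun x hx => by
        have e1 : p * p * x * (p * p)⁻¹ = p * (p * x * p⁻¹) * p⁻¹ := by group
        rw [e1]; exact hn _ (hn _ hx))
    by_cases h1 : p * a * p⁻¹ = a
    · exact ⟨a, ha, ha1, h1⟩
    · refine ⟨a * (p * a * p⁻¹), W.mul_mem ha (hn a ha), ?_, ?_⟩
      · intro h2
        apply h1
        have h3 : p * a * p⁻¹ = a⁻¹ := (inv_eq_of_mul_eq_one_right h2).symm
        rw [h3, hW.inv ha]
      · have e1 : p * (a * (p * a * p⁻¹)) * p⁻¹ = (p * a * p⁻¹) * (p * p * a * (p * p)⁻¹) := by group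
        rw [e1, hpa, hW.comm _ (hn a ha) a ha]

namespace Base

variable {E V U L : Subgroup G} {ρ : G} [Finite G] (b : Base E V U L ρ)

include b

/-- every element of `T0` is in `L C(E)` -/
theorem exists_l {x : G} (hx : x ∈ T0 E U) : ∃ l ∈ L, l⁻¹ * x ∈ centralizer (E : Set G) := by
  have h := b.tri
  obtain ⟨v, hv, hv1⟩ := h.fourV.exists_ne
  have hvE := h.VE hv
  obtain ⟨l, hl, hlv⟩ := b.surj hv hv1 (hx.2.2 v hvE)
  refine ⟨l, hl, ?_⟩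
  refine T0_fix h b.t4 (mul_mem (inv_mem (b.mem_T0 hl)) hx) hvE (b.notU hv hv1) ?_
  have h1 : l * v * l⁻¹ = x * v * x⁻¹ := mul_right_cancel hlv
  have e1 : l⁻¹ * x * v * (l⁻¹ * x)⁻¹ = l⁻¹ * (x * v * x⁻¹) * l := by group
  rw [e1, ← h1]; group

/-- An element of odd order centralizing `E` and normalizing `L` centralizes `L`. -/
theorem odd_cen {q : G} {m : ℕ} (hm : Odd m) (hq : q ^ m = 1) (hqE : ∀ e ∈ E, q * e * q⁻¹ = e)
    (hqL : ∀ l ∈ L, q * l * q⁻¹ ∈ L) {l : G} (hl : l ∈ L) : q * l * q⁻¹ = l := by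
  obtain ⟨v, hv, hv1⟩ := b.tri.fourV.exists_ne
  have hvE := b.tri.VE hv
  have hvU := b.notU hv hv1
  have h1 : (q * l * q⁻¹) * v * (q * l * q⁻¹)⁻¹ = l * v * l⁻¹ := by
    have h2 : q⁻¹ * v * q = v := by
      have h3 := hqE v hvE
      calc q⁻¹ * v * q = q⁻¹ * (q * v * q⁻¹) * q := by rw [h3]
        _ = v := by group
    have h4 := conj_mem_of_norm (b.mem_T0 hl).1 hvE
    have e1 : (q * l * q⁻¹) * v * (q * l * q⁻¹)⁻¹ = q * (l * (q⁻¹ * v * q) * l⁻¹) * q⁻¹ := by group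
    rw [e1, h2, hqE _ h4]
  have h5 : (l⁻¹ * (q * l * q⁻¹)) * v * (l⁻¹ * (q * l * q⁻¹))⁻¹ = v := by
    have e1 : (l⁻¹ * (q * l * q⁻¹)) * v * (l⁻¹ * (q * l * q⁻¹))⁻¹ =
        l⁻¹ * ((q * l * q⁻¹) * v * (q * l * q⁻¹)⁻¹) * l := by group
    rw [e1, h1]; group
  have h6 := b.fix (L.mul_mem (L.inv_mem hl) (hqL l hl)) hvE hvU h5
  set e : G := l⁻¹ * (q * l * q⁻¹) with he
  have h7 : q * l * q⁻¹ = l * e := by rw [he]; group
  have h8 : q * q * l * (q * q)⁻¹ = l := by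
    have e1 : q * q * l * (q * q)⁻¹ = q * (q * l * q⁻¹) * q⁻¹ := by group
    have e2 : q * (l * e) * q⁻¹ = (q * l * q⁻¹) * (q * e * q⁻¹) := by group
    rw [e1, h7, e2, h7, hqE e h6, mul_assoc, b.tri.sq e h6, mul_one]
  exact comm_of_odd hm hq h8

/-- An element of `T0` normalizing `L` acts on `L` as an element of `L`. -/
theorem inn {g : G} (hg : g ∈ T0 E U) (hgL : ∀ l ∈ L, g * l * g⁻¹ ∈ L) :
    ∃ r ∈ L, ∀ l ∈ L, g * l * g⁻¹ = r * l * r⁻¹ := by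
  have h := b.tri
  obtain ⟨a, m, hm, ham⟩ := Nat.exists_eq_two_pow_mul_odd (orderOf_pos g).ne'
  have hcop : Nat.Coprime (2 ^ a) m := Nat.Coprime.pow_left a (Nat.coprime_two_left.mpr hm)
  obtain ⟨k, hk1, hk2⟩ := Nat.chineseRemainder hcop 1 0
  -- powers of `g`
  have hgL' : ∀ l ∈ L, g⁻¹ * l * g ∈ L := by
    have hfin : Finite L := inferInstance
    have h1 : cj g L = L := by
      apply Subgroup.eq_of_le_of_card_ge
      · rintro _ ⟨l, hl, rfl⟩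
        exact hgL l hl
      · rw [show Nat.card (cj g L) = Nat.card L from
          card_map_of_injective (MulAut.conj g).injective]
    intro l hl
    rw [← h1] at hl
    exact mem_cj.mp hl
  have hNL : g ∈ normalizer (L : Set G) := by
    rw [mem_normalizer_iff]
    intro x
    refine ⟨fun hx => hgL x hx, fun hx => ?_⟩
    have := hgL' _ hx
    have e1 : g⁻¹ * (g * x * g⁻¹) * g = x := by group
    rwa [e1] at this
  have hzN : ∀ z : ℤ, g ^ z ∈ T0 E U ∧ ∀ l ∈ L, g ^ z * l * (g ^ z)⁻¹ ∈ L := fun z =>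
    ⟨zpow_mem hg z, fun l hl => (mem_normalizer_iff.mp (zpow_mem hNL z) l).mp hl⟩
  -- the 2-part
  obtain ⟨r, hr⟩ : ∃ r, r = g ^ k := ⟨_, rfl⟩
  have hrT : r ∈ T0 E U := hr ▸ pow_mem hg k
  have hr2 : r ^ (2 ^ a) = 1 := by
    rw [hr, ← pow_mul, ← orderOf_dvd_iff_pow_eq_one, ham, mul_comm]
    exact Nat.mul_dvd_mul ((Nat.modEq_zero_iff_dvd).mp hk2) dvd_rfl
  have hrp : IsPGroup 2 (zpowers r) := by
    rw [IsPGroup.iff_card]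
    have h5 : Nat.card (zpowers r) ∣ 2 ^ a := by
      rw [Nat.card_zpowers]
      exact orderOf_dvd_of_pow_eq_one hr2
    exact ((Nat.dvd_prime_pow Nat.prime_two).mp h5).imp fun k hk => hk.2
  have hrN : r ∈ normalizer (L : Set G) := hr ▸ pow_mem hNL k
  have hrL : r ∈ L := by
    have h1 : IsPGroup 2 (zpowers r ⊔ L : Subgroup G) :=
      IsPGroup.to_sup_of_normal_right' hrp b.syl.pgrp (zpowers_le.mpr hrN)
    have h2 := b.syl.eq_of_le (sup_le (zpowers_le.mpr hrT) b.syl.le) h1 le_sup_right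
    rw [h2]
    exact mem_sup_left (mem_zpowers r)
  -- the odd part
  obtain ⟨q, hq⟩ : ∃ q, q = g ^ (1 - (k : ℤ)) := ⟨_, rfl⟩
  have hgq : g = r * q := by
    rw [hr, hq, ← zpow_natCast, ← zpow_add]
    simp
  have hqm : q ^ m = 1 := by
    rw [hq, ← zpow_natCast, ← zpow_mul, ← orderOf_dvd_iff_zpow_eq_one, ham]
    push_cast
    apply mul_dvd_mul _ dvd_rfl
    have h1 := (Nat.modEq_iff_dvd).mp hk1
    simpa using h1
  obtain ⟨hqT, hqL⟩ := hzN (1 - (k : ℤ))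
  rw [← hq] at hqT hqL
  have hqE : ∀ e ∈ E, q * e * q⁻¹ = e := by
    intro e he
    refine comm_of_odd hm hqm ?_
    have h1 := br_mul h.comm h.UE hqT hqT he
    rw [h.sq _ (h.UE (hqT.2.2 e he))] at h1
    exact mul_inv_eq_one.mp h1
  refine ⟨r, hrL, fun l hl => ?_⟩
  have h1 := b.odd_cen hm hqm hqE hqL hl
  have e1 : g * l * g⁻¹ = r * (q * l * q⁻¹) * r⁻¹ := by rw [hgq]; group
  rw [e1, h1]

/-- an element of `L` normalizing `V` is in `E` -/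
theorem mem_E_of {l v : G} (hl : l ∈ L) (hv : v ∈ V) (hv1 : v ≠ 1) (hlv : l * v * l⁻¹ ∈ V) :
    l ∈ E := by
  refine b.fix hl (b.tri.VE hv) (b.notU hv hv1) ?_
  have h1 := b.tri.disj _ (V.mul_mem hlv (V.inv_mem hv)) (b.brU hl (b.tri.VE hv))
  exact mul_inv_eq_one.mp h1

/-- `E < L` -/
theorem exists_not : ∃ l ∈ L, l ∉ E := by
  obtain ⟨v, hv, hv1⟩ := b.tri.fourV.exists_ne
  obtain ⟨z, hz, hz1⟩ := b.tri.fourU.exists_ne
  obtain ⟨y, hy, hyE, -⟩ := b.exists_y hv hv1 hz hz1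
  exact ⟨y, hy, hyE⟩

/-- **Lemma C**: an element normalizing `V` and `L` and inverting `ρ` on `U` inverts `ρ` on `L`. -/
theorem lemC {d : G} (hd : d ∈ normalizer (E : Set G)) (hdV : ∀ v ∈ V, d⁻¹ * v * d ∈ V)
    (hdL : ∀ l ∈ L, d * l * d⁻¹ ∈ L) (hdL' : ∀ l ∈ L, d⁻¹ * l * d ∈ L)
    (hdU : ∀ u ∈ U, d * (ρ * u * ρ⁻¹) * d⁻¹ = ρ⁻¹ * (d * u * d⁻¹) * ρ) {l : G} (hl : l ∈ L) :
    d * (ρ * l * ρ⁻¹) * d⁻¹ = ρ⁻¹ * (d * l * d⁻¹) * ρ := by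
  have h := b.tri
  have hUd : ∀ u ∈ U, d⁻¹ * u * d ∈ U := by
    intro u hu
    have h1 := conj_mem_of_cj (b.t4.normU _ (inv_mem hd)) hu
    rwa [inv_inv] at h1
  obtain ⟨c, hc⟩ : ∃ c, c = d * ρ * d⁻¹ * ρ := ⟨_, rfl⟩
  have hcN : c ∈ normalizer (E : Set G) :=
    hc ▸ mul_mem (mul_mem (mul_mem hd h.norm) (inv_mem hd)) h.norm
  have hcV : ∀ v ∈ V, c * v * c⁻¹ = v := by
    intro v hv
    have e1 : c * v * c⁻¹ = d * (ρ * (d⁻¹ * (ρ * v * ρ⁻¹) * d) * ρ⁻¹) * d⁻¹ := by rw [hc]; group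
    rw [e1, h.cen v hv, h.cen _ (hdV v hv)]; group
  have hcU : ∀ u ∈ U, c * u * c⁻¹ = u := by
    intro u hu
    have h1 := hdU _ (hUd _ (h.map u hu))
    have e1 : c * u * c⁻¹ = d * (ρ * (d⁻¹ * (ρ * u * ρ⁻¹) * d) * ρ⁻¹) * d⁻¹ := by rw [hc]; group
    rw [e1, h1]; group
  have hcE : ∀ e ∈ E, c * e * c⁻¹ = e := by
    intro e he
    obtain ⟨v, hv, u, hu, rfl⟩ := decomp h.cardE h.VE h.UE h.cardV h.cardU h.disj he
    have e1 : c * (v * u) * c⁻¹ = (c * v * c⁻¹) * (c * u * c⁻¹) := by group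
    rw [e1, hcV v hv, hcU u hu]
  have hcT : c ∈ T0 E U := by
    refine ⟨hcN, hcU, fun e he => ?_⟩
    rw [hcE e he, mul_inv_cancel]; exact U.one_mem
  have hcL : ∀ l ∈ L, c * l * c⁻¹ ∈ L := by
    intro l hl
    have e1 : c * l * c⁻¹ = d * (ρ * (d⁻¹ * (ρ * l * ρ⁻¹) * d) * ρ⁻¹) * d⁻¹ := by rw [hc]; group
    rw [e1]
    exact hdL _ (b.norm _ (hdL' _ (b.norm _ hl)))
  obtain ⟨r, hr, hrc⟩ := b.inn hcT hcL
  obtain ⟨v, hv, hv1⟩ := h.fourV.exists_ne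
  have hrE : r ∈ E := by
    refine b.fix hr (h.VE hv) (b.notU hv hv1) ?_
    rw [← hrc v (b.E_le (h.VE hv)), hcV v hv]
  obtain ⟨v0, hv0, u0, hu0, hvu⟩ := decomp h.cardE h.VE h.UE h.cardV h.cardU h.disj hrE
  have hrc' : ∀ l ∈ L, c * l * c⁻¹ = v0 * l * v0⁻¹ := by
    intro l hl
    rw [hrc l hl, hvu]
    have e1 : v0 * u0 * l * (v0 * u0)⁻¹ = v0 * (u0 * l * u0⁻¹) * v0⁻¹ := by group
    have h1 := b.commU hl hu0
    rw [e1, ← h1, mul_inv_cancel_right]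
  have hv0L := b.E_le (h.VE hv0)
  have hρv : ρ⁻¹ * v0 * ρ = v0 := by
    have h1 := h.cen v0 hv0
    calc ρ⁻¹ * v0 * ρ = ρ⁻¹ * (ρ * v0 * ρ⁻¹) * ρ := by rw [h1]
      _ = v0 := by group
  -- `d ρ d⁻¹` acts as `v0 ρ⁻¹`
  have h1 : ∀ l ∈ L, (d * ρ * d⁻¹) * l * (d * ρ * d⁻¹)⁻¹ = v0 * (ρ⁻¹ * l * ρ) * v0⁻¹ := by
    intro l hl
    have h2 := hrc' _ (b.norm' hl)
    rw [← h2, hc]; group
  have hv01 : v0 = 1 := by
    by_contra hne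
    obtain ⟨y, hy, hyE⟩ := b.exists_not
    apply hyE
    refine b.fix hy (h.VE hv0) (b.notU hv0 hne) ?_
    -- the cube
    have hm : ∀ l ∈ L, v0 * (ρ⁻¹ * l * ρ) * v0⁻¹ ∈ L := fun l hl =>
      L.mul_mem (L.mul_mem hv0L (b.norm' hl)) (L.inv_mem hv0L)
    have h2 := h1 y hy
    have h3 := h1 _ (hm y hy)
    have h4 := h1 _ (hm _ (hm y hy))
    have h5 := b.rho3 (hdL' _ hy)
    have h6 : (d * ρ * d⁻¹) * ((d * ρ * d⁻¹) * ((d * ρ * d⁻¹) * y * (d * ρ * d⁻¹)⁻¹) *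
        (d * ρ * d⁻¹)⁻¹) * (d * ρ * d⁻¹)⁻¹ = y := by
      have e1 : (d * ρ * d⁻¹) * ((d * ρ * d⁻¹) * ((d * ρ * d⁻¹) * y * (d * ρ * d⁻¹)⁻¹) *
        (d * ρ * d⁻¹)⁻¹) * (d * ρ * d⁻¹)⁻¹ = d * (ρ * (ρ * (ρ * (d⁻¹ * y * d) * ρ⁻¹) * ρ⁻¹) * ρ⁻¹) * d⁻¹ := by
        group
      rw [e1, h5]; group
    rw [h2, h3, h4] at h6
    have h7 := b.rho3 hy
    have h8 : ρ⁻¹ * (ρ⁻¹ * (ρ⁻¹ * y * ρ) * ρ) * ρ = y := by
      nth_rw 1 [← h7]; group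
    have e2 : v0 * (ρ⁻¹ * (v0 * (ρ⁻¹ * (v0 * (ρ⁻¹ * y * ρ) * v0⁻¹) * ρ) * v0⁻¹) * ρ) * v0⁻¹ =
        v0 * (ρ⁻¹ * v0 * ρ) * (ρ⁻¹ * (ρ⁻¹ * v0 * ρ) * ρ) * (ρ⁻¹ * (ρ⁻¹ * (ρ⁻¹ * y * ρ) * ρ) * ρ) *
          (ρ⁻¹ * (ρ⁻¹ * v0 * ρ) * ρ)⁻¹ * (ρ⁻¹ * v0 * ρ)⁻¹ * v0⁻¹ := by group
    rw [e2, hρv, hρv, h8, h.sq v0 (h.VE hv0), one_mul] at h6
    have h9 : v0⁻¹ = v0 := inv_eq_of_mul_eq_one_left (h.sq v0 (h.VE hv0))
    rw [h9, mul_assoc, h.sq v0 (h.VE hv0), mul_one] at h6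
    -- `v0 y v0 = y`
    calc y * v0 * y⁻¹ = (v0 * y * v0) * v0 * y⁻¹ := by rw [h6]
      _ = v0 * y * (v0 * v0) * y⁻¹ := by group
      _ = v0 := by rw [h.sq v0 (h.VE hv0)]; group
  have h2 := h1 _ (hdL _ hl)
  rw [hv01] at h2
  have e1 : (d * ρ * d⁻¹) * (d * l * d⁻¹) * (d * ρ * d⁻¹)⁻¹ = d * (ρ * l * ρ⁻¹) * d⁻¹ := by group
  rw [← e1, h2]; group

end Base

/-- a 2-subgroup `P` of `N(E)` containing `L`, with `P ∩ T0 = L` -/
structure BaseP (E V U L P : Subgroup G) (ρ : G) : Prop extends Base E V U L ρ where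
  LP : L ≤ P
  PN : P ≤ normalizer (E : Set G)
  P2 : IsPGroup 2 P
  PT : ∀ g ∈ P, g ∈ T0 E U → g ∈ L

namespace BaseP

variable {E V U L P : Subgroup G} {ρ : G} [Finite G] (b : BaseP E V U L P ρ)

include b

theorem twoP {p : G} (hp : p ∈ P) : ∃ n, p ^ (2 ^ n) = 1 := by
  obtain ⟨n, hn⟩ := b.P2 ⟨p, hp⟩
  exact ⟨n, congrArg Subtype.val hn⟩

theorem PU {p x : G} (hp : p ∈ P) (hx : x ∈ U) : p * x * p⁻¹ ∈ U :=
  conj_mem_of_cj (b.t4.normU p (b.PN hp)) hx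

theorem PL {p l : G} (hp : p ∈ P) (hl : l ∈ L) : p * l * p⁻¹ ∈ L :=
  b.PT _ (P.mul_mem (P.mul_mem hp (b.LP hl)) (P.inv_mem hp))
    (conj_T0 (b.PN hp) (b.t4.normU p (b.PN hp)) (b.mem_T0 hl))

theorem PL' {p l : G} (hp : p ∈ P) (hl : l ∈ L) : p⁻¹ * l * p ∈ L := by
  have h1 := b.PL (P.inv_mem hp) hl
  rwa [inv_inv] at h1

omit [Finite G] in
theorem claimA [Finite G] {g v : G} (hg : g ∈ normalizer (E : Set G)) (hgU : ∀ x ∈ U, g * x * g⁻¹ = x)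
    (hv : v ∈ V) (hv1 : v ≠ 1) (hgv : g * v * g⁻¹ * v⁻¹ ∈ U) : g ∈ T0 E U := by
  have h := b.tri
  obtain ⟨l, hl, hlv⟩ := b.surj hv hv1 hgv
  have h1 : l * v * l⁻¹ = g * v * g⁻¹ := mul_right_cancel hlv
  have hlT := b.mem_T0 hl
  have hN : l⁻¹ * g ∈ normalizer (E : Set G) := mul_mem (inv_mem hlT.1) hg
  have h2 : ∀ x ∈ U, (l⁻¹ * g) * x * (l⁻¹ * g)⁻¹ = x := by
    intro x hx
    have e1 : (l⁻¹ * g) * x * (l⁻¹ * g)⁻¹ = l⁻¹ * (g * x * g⁻¹) * l⁻¹⁻¹ := by group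
    rw [e1, hgU x hx, b.cenU (L.inv_mem hl) hx]
  have h3 : (l⁻¹ * g) * v * (l⁻¹ * g)⁻¹ = v := by
    have e1 : (l⁻¹ * g) * v * (l⁻¹ * g)⁻¹ = l⁻¹ * (g * v * g⁻¹) * l := by group
    rw [e1, ← h1]; group
  have h4 := b.t4.cen_V h hN h2 hv hv1 h3
  have h5 : l⁻¹ * g ∈ T0 E U := by
    refine ⟨hN, h2, fun e he => ?_⟩
    obtain ⟨v', hv', u', hu', rfl⟩ := decomp h.cardE h.VE h.UE h.cardV h.cardU h.disj he
    have e1 : (l⁻¹ * g) * (v' * u') * (l⁻¹ * g)⁻¹ * (v' * u')⁻¹ =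
      ((l⁻¹ * g) * v' * (l⁻¹ * g)⁻¹) * ((l⁻¹ * g) * u' * (l⁻¹ * g)⁻¹) * (v' * u')⁻¹ := by group
    rw [e1, h4 v' hv', h2 u' hu', mul_inv_cancel]; exact U.one_mem
  have e1 : g = l * (l⁻¹ * g) := by group
  rw [e1]
  exact mul_mem hlT h5

theorem claimB : ∀ (n : ℕ) (g : G), g ^ (2 ^ n) = 1 → g ∈ normalizer (E : Set G) →
    (∀ x ∈ U, g * x * g⁻¹ = x) → g ∈ T0 E U := by
  have h := b.tri
  intro n
  induction n with
  | zero =>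
    intro g hg _ _
    rw [pow_zero, pow_one] at hg
    rw [hg]; exact one_mem _
  | succ n ih =>
    intro g hg hgN hgU
    have h1 : g * g ∈ T0 E U := by
      refine ih (g * g) (by rw [← pow_two, ← pow_mul, ← pow_succ']; exact hg) (mul_mem hgN hgN) ?_
      intro x hx
      have e1 : g * g * x * (g * g)⁻¹ = g * (g * x * g⁻¹) * g⁻¹ := by group
      rw [e1, hgU x hx, hgU x hx]
    obtain ⟨v, hv, hv1⟩ := h.fourV.exists_ne
    have hvE := h.VE hv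
    by_cases h2 : g * v * g⁻¹ * v⁻¹ ∈ U
    · exact b.claimA hgN hgU hv hv1 h2
    have hgvE := conj_mem_of_norm hgN hvE
    obtain ⟨v', hv', u', hu', hvu⟩ := decomp h.cardE h.VE h.UE h.cardV h.cardU h.disj
      (E.mul_mem hgvE (E.inv_mem hvE))
    have hv'1 : v' ≠ 1 := by
      intro h3
      rw [h3, one_mul] at hvu
      exact h2 (by rw [hvu]; exact hu')
    refine b.claimA hgN hgU hv' hv'1 ?_
    -- `[g, e] ∈ U` for `e = g v g⁻¹ v⁻¹ = v' u'`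
    obtain ⟨e, he⟩ : ∃ e, e = g * v * g⁻¹ * v⁻¹ := ⟨_, rfl⟩
    have heE : e ∈ E := he ▸ E.mul_mem hgvE (E.inv_mem hvE)
    have hsym : ∀ x ∈ E, x⁻¹ = x := fun x hx => inv_eq_of_mul_eq_one_left (h.sq x hx)
    have h3 : g * e * g⁻¹ * e⁻¹ = (g * g) * v * (g * g)⁻¹ * v⁻¹ := by
      have e1 : g * e * g⁻¹ = ((g * g) * v * (g * g)⁻¹) * (g * v * g⁻¹)⁻¹ := by rw [he]; group
      have e2 : e⁻¹ = v * (g * v * g⁻¹)⁻¹ := by rw [he]; group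
      have h4 := conj_mem_of_norm h1.1 hvE
      have hgv2 := hsym _ hgvE
      rw [e1, e2, hgv2, hsym v hvE]
      calc (g * g) * v * (g * g)⁻¹ * (g * v * g⁻¹) * (v * (g * v * g⁻¹))
          = (g * g) * v * (g * g)⁻¹ * ((g * v * g⁻¹) * v) * (g * v * g⁻¹) := by group
        _ = (g * g) * v * (g * g)⁻¹ * (v * (g * v * g⁻¹)) * (g * v * g⁻¹) := by
            rw [h.comm _ hgvE v hvE]
        _ = (g * g) * v * (g * g)⁻¹ * v * ((g * v * g⁻¹) * (g * v * g⁻¹)) := by group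
        _ = (g * g) * v * (g * g)⁻¹ * v := by rw [h.sq _ hgvE, mul_one]
    have h4 : g * e * g⁻¹ * e⁻¹ ∈ U := by rw [h3]; exact h1.2.2 v hvE
    have h5 : g * e * g⁻¹ * e⁻¹ = g * v' * g⁻¹ * v'⁻¹ := by
      rw [he, hvu]
      have e1 : g * (v' * u') * g⁻¹ * (v' * u')⁻¹ = (g * v' * g⁻¹) * (g * u' * g⁻¹) * u'⁻¹ * v'⁻¹ := by
        group
      rw [e1, hgU u' hu', mul_inv_cancel_right]
    rw [← h5]; exact h4

/-- **(P1)** an element of `P` centralizing `U` is in `L` -/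
theorem mem_L_of {p : G} (hp : p ∈ P) (hpU : ∀ x ∈ U, p * x * p⁻¹ = x) : p ∈ L := by
  obtain ⟨n, hn⟩ := b.twoP hp
  exact b.PT p hp (b.claimB n p hn (b.PN hp) hpU)

/-- the action of `p ∈ P - L` on `U` -/
theorem actU {p : G} (hp : p ∈ P) (hpL : p ∉ L) :
    ∃ z ∈ U, z ≠ 1 ∧ p * z * p⁻¹ = z ∧ ∀ x ∈ U, x ≠ 1 → x ≠ z → p * x * p⁻¹ = z * x := by
  have hU := b.tri.fourU
  obtain ⟨n, hn⟩ := b.twoP hp
  obtain ⟨z, hz, hz1, hpz⟩ := exists_fix_of_two hU n p hn (fun x hx => b.PU hp hx)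
  refine ⟨z, hz, hz1, hpz, fun x hx hx1 hxz => ?_⟩
  rcases hU.cases hz hx hz1 hx1 (Ne.symm hxz) (b.PU hp hx) with h1 | h1 | h1 | h1
  · exfalso
    apply hx1
    have e1 : x = p⁻¹ * (p * x * p⁻¹) * p := by group
    rw [e1, h1]; group
  · exfalso
    apply hxz
    rw [← hpz] at h1
    exact mul_left_cancel (mul_right_cancel h1)
  · exfalso
    apply hpL
    refine b.mem_L_of hp fun y hy => ?_
    rcases hU.cases hz hx hz1 hx1 (Ne.symm hxz) hy with h2 | h2 | h2 | h2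
    · rw [h2]; group
    · rw [h2]; exact hpz
    · rw [h2]; exact h1
    · rw [h2]
      have e1 : p * (z * x) * p⁻¹ = (p * z * p⁻¹) * (p * x * p⁻¹) := by group
      rw [e1, hpz, h1]
  · exact h1

theorem rhoU {p z : G} (hz : z ∈ U) (hz1 : z ≠ 1) (hpz : p * z * p⁻¹ = z)
    (hpx : ∀ x ∈ U, x ≠ 1 → x ≠ z → p * x * p⁻¹ = z * x) :
    ∀ x ∈ U, p * (ρ * x * ρ⁻¹) * p⁻¹ = ρ⁻¹ * (p * x * p⁻¹) * ρ := by
  have h := b.tri
  have hU := h.fourU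
  obtain ⟨z2, hz2⟩ : ∃ z2, z2 = ρ * z * ρ⁻¹ := ⟨_, rfl⟩
  obtain ⟨z3, hz3⟩ : ∃ z3, z3 = ρ * z2 * ρ⁻¹ := ⟨_, rfl⟩
  have hz2U : z2 ∈ U := hz2 ▸ h.map z hz
  have hz3U : z3 ∈ U := hz3 ▸ h.map z2 hz2U
  have hz3' : z3 = z * z2 := by rw [hz3, hz2]; exact hU.rho_sq h.map h.fpf hz
  have hρz3 : ρ * z3 * ρ⁻¹ = z := by rw [hz3, hz2]; exact b.tri.rho_cube (h.UE hz)
  have hz21 : z2 ≠ 1 := by rw [hz2]; exact Tri.rho_ne_one hz1
  have hz31 : z3 ≠ 1 := by rw [hz3]; exact Tri.rho_ne_one hz21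
  have hzz2 : z2 ≠ z := by rw [hz2]; exact h.fpf z hz hz1
  have hzz3 : z3 ≠ z := by
    intro h1
    rw [hz3'] at h1
    exact hz21 (mul_eq_left.mp h1)
  have hp2 : p * z2 * p⁻¹ = z3 := by rw [hpx z2 hz2U hz21 hzz2, hz3']
  have hp3 : p * z3 * p⁻¹ = z2 := by
    rw [hpx z3 hz3U hz31 hzz3, hz3', ← mul_assoc, h.sq z (h.UE hz), one_mul]
  have hi1 : ρ⁻¹ * z * ρ = z3 := by rw [← hρz3]; group
  have hi2 : ρ⁻¹ * z2 * ρ = z := by rw [hz2]; group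
  have hi3 : ρ⁻¹ * z3 * ρ = z2 := by rw [hz3]; group
  intro x hx
  rcases hU.cases hz hz2U hz1 hz21 (Ne.symm hzz2) hx with h1 | h1 | h1 | h1
  · rw [h1]; group
  · rw [h1, ← hz2, hp2, hpz, hi1]
  · rw [h1, ← hz3, hp3, hp2, hi3]
  · rw [h1, ← hz3', hρz3, hpz, hp3, hi2]

/-- **(P2)** `|P : L| ≤ 2` -/
theorem mul_mem_L {p p' : G} (hp : p ∈ P) (hpL : p ∉ L) (hp' : p' ∈ P) (hp'L : p' ∉ L) :
    p * p' ∈ L := by
  have h := b.tri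
  have hU := h.fourU
  obtain ⟨z, hz, hz1, hpz, hpx⟩ := b.actU hp hpL
  obtain ⟨z', hz', hz'1, hpz', hpx'⟩ := b.actU hp' hp'L
  have e0 : ∀ x, p * p' * x * (p * p')⁻¹ = p * (p' * x * p'⁻¹) * p⁻¹ := fun x => by group
  by_cases hzz : z = z'
  · subst hzz
    refine b.mem_L_of (P.mul_mem hp hp') fun x hx => ?_
    rw [e0]
    by_cases hx1 : x = 1
    · rw [hx1]; group
    by_cases hxz : x = z
    · rw [hxz, hpz', hpz]
    rw [hpx' x hx hx1 hxz]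
    have e1 : p * (z * x) * p⁻¹ = (p * z * p⁻¹) * (p * x * p⁻¹) := by group
    rw [e1, hpz, hpx x hx hx1 hxz, ← mul_assoc, h.sq z (h.UE hz), one_mul]
  · exfalso
    obtain ⟨n, hn⟩ := b.twoP (P.mul_mem hp hp')
    obtain ⟨y, hy, hy1, hpy⟩ := exists_fix_of_two hU n (p * p') hn
      (fun x hx => b.PU (P.mul_mem hp hp') hx)
    rw [e0] at hpy
    -- `z ↦ z' z ↦ z'`
    have h1 : p' * z * p'⁻¹ = z' * z := hpx' z hz hz1 hzz
    have h2 : p * z' * p⁻¹ = z * z' := hpx z' hz' hz'1 (Ne.symm hzz)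
    have h3 : p * (z' * z) * p⁻¹ = z' := by
      have e1 : p * (z' * z) * p⁻¹ = (p * z' * p⁻¹) * (p * z * p⁻¹) := by group
      rw [e1, h2, hpz, h.comm z (h.UE hz) z' (h.UE hz'), mul_assoc, h.sq z (h.UE hz), mul_one]
    rcases hU.cases hz hz' hz1 hz'1 hzz hy with h4 | h4 | h4 | h4
    · exact hy1 h4
    · rw [h4, h1, h3] at hpy
      exact hzz hpy.symm
    · rw [h4, hpz', h2] at hpy
      exact hz1 (mul_eq_right.mp hpy)
    · have e1 : p' * (z * z') * p'⁻¹ = (p' * z * p'⁻¹) * (p' * z' * p'⁻¹) := by group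
      have e2 : z' * z * z' = z := by
        rw [h.comm z' (h.UE hz') z (h.UE hz), mul_assoc, h.sq z' (h.UE hz'), mul_one]
      rw [h4, e1, h1, hpz', e2, hpz] at hpy
      exact hz'1 (mul_eq_left.mp hpy.symm)

/-- For `p ∈ P - L` some `d ∈ L p` normalizes `V`. -/
theorem exists_d {p : G} (hp : p ∈ P) (hpL : p ∉ L) : ∃ d ∈ P, d ∉ L ∧ cj d V = V := by
  have h := b.tri
  obtain ⟨v, hv, hv1⟩ := h.fourV.exists_ne
  have h1 := conj_mem_of_norm (b.PN hp) (h.VE hv)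
  obtain ⟨v', hv', u', hu', hvu⟩ := decomp h.cardE h.VE h.UE h.cardV h.cardU h.disj h1
  have hv'1 : v' ≠ 1 := by
    intro h2
    rw [h2, one_mul] at hvu
    have h3 : v ∈ U := by
      have h4 := b.PU (P.inv_mem hp) hu'
      rw [← hvu] at h4
      have e1 : p⁻¹ * (p * v * p⁻¹) * p⁻¹⁻¹ = v := by group
      rwa [e1] at h4
    exact b.notU hv hv1 h3
  obtain ⟨l, hl, hlv⟩ := b.surj hv' hv'1 hu'
  have hlP := b.LP hl
  refine ⟨l⁻¹ * p, P.mul_mem (P.inv_mem hlP) hp, fun h2 => hpL ?_, ?_⟩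
  · have h3 := L.mul_mem hl h2
    rwa [mul_inv_cancel_left] at h3
  · refine (h.stab _ (mul_mem (inv_mem (b.PN hlP)) (b.PN hp)) v hv hv1 ?_).1
    have h2 : l * v' * l⁻¹ = p * v * p⁻¹ := by
      rw [hvu, h.comm v' (h.VE hv') u' (h.UE hu'), ← hlv]; group
    have e1 : l⁻¹ * p * v * (l⁻¹ * p)⁻¹ = l⁻¹ * (p * v * p⁻¹) * l := by group
    rw [e1, ← h2]
    have e2 : l⁻¹ * (l * v' * l⁻¹) * l = v' := by group
    rw [e2]; exact hv'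

/-- Lemma C for the elements of `P - L` normalizing `V` -/
theorem lemC' {d : G} (hd : d ∈ P) (hdL : d ∉ L) (hdV : cj d V = V) {l : G} (hl : l ∈ L) :
    d * (ρ * l * ρ⁻¹) * d⁻¹ = ρ⁻¹ * (d * l * d⁻¹) * ρ := by
  obtain ⟨z, hz, hz1, hdz, hdx⟩ := b.actU hd hdL
  refine b.lemC (b.PN hd) ?_ (fun l hl => b.PL hd hl) (fun l hl => b.PL' hd hl)
    (b.rhoU hz hz1 hdz hdx) hl
  intro v hv
  rw [← hdV] at hv
  exact mem_cj.mp hv

end BaseP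

end Cfsg.Agent.GH.T4Base
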