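import Mathlib
import Cfsg.Agent.GH.T4Norm

/-!
# GH-L2, case (T4), `F` elementary: coordinates of `N_S(E)`
-/

set_option autoImplicit false

open Subgroup
open Cfsg.Agent.SignalizersComponents.IntrinsicBasic (cj mem_cj conj_mem_cj cj_one cj_mul
  cj_inv_cj cj_cj_inv cj_injective cj_mono mem_normalizer_iff_cj)
open Cfsg.Agent.GH.L2Tri
open Cfsg.Agent.J2Sylow.Model Cfsg.Agent.J2Sylow.Model.F4
open Cfsg.Agent.GH.T4Defs

namespace Cfsg.Agent.GH.T4Base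

variable {G : Type*} [Group G]

theorem f4_wu : ∀ c : F4, w * (u * c) = c := by decide
theorem f4_three : ∀ a : F4, a + a + a = a := by decide
theorem f4_b : ∀ a b c : F4, c + 0 + a * 0 = 0 + c + 1 * b → b = 0 := by decide
theorem f4_a : ∀ a b c : F4, c + 0 + a * 1 = 0 + c + 0 * b → a = 0 := by decide

namespace Coord

variable {E V U L : Subgroup G} {ρ : G} {X Y Z : F4 → G} (h : Coord E V U L ρ X Y Z)

include h

theorem hV (a : F4) : X a ∈ V := (h.memV _).mpr ⟨a, rfl⟩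
theorem hU (a : F4) : Z a ∈ U := (h.memU _).mpr ⟨a, rfl⟩
theorem hYL (a : F4) : Y a ∈ L := (h.memL _).mpr ⟨0, a, 0, by
  rw [h.ut.X0, h.ut.Z0, mul_one, mul_one]⟩
theorem hXL (a : F4) : X a ∈ L := (h.memL _).mpr ⟨a, 0, 0, by
  rw [h.ut.Y0, h.ut.Z0, mul_one, one_mul]⟩
theorem hZL (a : F4) : Z a ∈ L := (h.memL _).mpr ⟨0, 0, a, by
  rw [h.ut.Y0, h.ut.X0, one_mul, one_mul]⟩

theorem rY' (c : F4) : ρ⁻¹ * Y c * ρ = Y (u * c) := by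
  have h1 := h.rY (u * c)
  rw [f4_wu] at h1
  rw [← h1]; group

theorem rZ' (c : F4) : ρ⁻¹ * Z c * ρ = Z (u * c) := by
  have h1 := h.rZ (u * c)
  rw [f4_wu] at h1
  rw [← h1]; group

theorem rX' (c : F4) : ρ⁻¹ * X c * ρ = X c := by
  have h1 := h.rX c
  nth_rw 1 [← h1]; group

end Coord

/-- the additional involution -/
structure DD (L P : Subgroup G) (X Y Z : F4 → G) (d : G) : Prop where
  mem : d ∈ P
  nmem : d ∉ L
  dd : d * d = 1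
  dX : ∀ a, d * X a = X (fr a) * d
  dY : ∀ b, d * Y b = Y (fr b) * d
  dZ : ∀ c, d * Z c = Z (fr c) * d
  memP : ∀ g, g ∈ P ↔ g ∈ L ∨ g * d ∈ L

namespace BaseP

variable {E V U L P : Subgroup G} {ρ : G} [Finite G] (b : BaseP E V U L P ρ)

include b

theorem mem_P_iff {d : G} (hd : d ∈ P) (hdL : d ∉ L) (g : G) : g ∈ P ↔ g ∈ L ∨ g * d ∈ L := by
  constructor
  · intro hg
    by_cases hgL : g ∈ L
    · exact Or.inl hgL
    · exact Or.inr (b.mul_mem_L hg hgL hd hdL)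
  · rintro (hg | hg)
    · exact b.LP hg
    · have h1 := P.mul_mem (b.LP hg) (P.inv_mem hd)
      rwa [mul_inv_cancel_right] at h1

theorem caseA (hA : ∀ y ∈ L, y * (ρ * y * ρ⁻¹) * (ρ * (ρ * y * ρ⁻¹) * ρ⁻¹) = 1 → y * y = 1) :
    ∃ X Y Z, Coord E V U L ρ X Y Z ∧ (P = L ∨ ∃ d, DD L P X Y Z d) := by
  have h := b.tri
  by_cases hPL : P ≤ L
  · obtain ⟨v, hv, hv1⟩ := h.fourV.exists_ne
    obtain ⟨z, hz, hz1⟩ := h.fourU.exists_ne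
    obtain ⟨y, hy, hyE, -, hy3⟩ := b.exists_y hv hv1 hz hz1
    obtain ⟨X, Y, Z, hc, -, -⟩ := b.coord_of hy hyE (hA y hy hy3) hy3 hv hv1
    exact ⟨X, Y, Z, hc, Or.inl (le_antisymm hPL b.LP)⟩
  obtain ⟨p, hp, hpL⟩ := SetLike.not_le_iff_exists.mp hPL
  obtain ⟨d, hd, hdL, hdV⟩ := b.exists_d hp hpL
  obtain ⟨z, hz, hz1, hdz, -⟩ := b.actU hd hdL
  obtain ⟨n, hn⟩ := b.twoP hd
  obtain ⟨x, hx, hx1, hdx⟩ := exists_fix_of_two h.fourV n d hn (fun v hv => by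
    have := conj_mem_cj (g := d) hv
    rwa [hdV] at this)
  obtain ⟨y, hy, hyE, hxy, hy3⟩ := b.exists_y hx hx1 hz hz1
  obtain ⟨X, Y, Z, hc, hX1, hY1⟩ := b.coord_of hy hyE (hA y hy hy3) hy3 hx hx1
  have ut := hc.ut
  have hYX : ∀ a c, X a * Y c * (X a)⁻¹ = Y c * Z (a * c) := by
    intro a c
    rw [ut.XY, ← ut.ZX, ← mul_assoc, mul_inv_cancel_right]
  have hZ1 : Z 1 = z := by
    have h1 := hYX 1 1
    rw [hX1, hY1, one_mul] at h1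
    rw [← hxy, h1, ← hY1, ← ut.ZY, mul_inv_cancel_right]
  refine ⟨X, Y, Z, hc, Or.inr ?_⟩
  -- the image of `Y 1`
  obtain ⟨a, b', c, hy'⟩ := (hc.memL _).mp (b.PL hd hy)
  have ha : a = 0 := by
    have h1 : (Y b' * X a * Z c) * (ρ⁻¹ * (Y b' * X a * Z c) * ρ) *
        (ρ⁻¹ * (ρ⁻¹ * (Y b' * X a * Z c) * ρ) * ρ) = 1 := by
      rw [← hy', ← b.lemC' hd hdL hdV hy, ← b.lemC' hd hdL hdV (b.norm _ hy)]
      have e1 : d * y * d⁻¹ * (d * (ρ * y * ρ⁻¹) * d⁻¹) * (d * (ρ * (ρ * y * ρ⁻¹) * ρ⁻¹) * d⁻¹) =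
          d * (y * (ρ * y * ρ⁻¹) * (ρ * (ρ * y * ρ⁻¹) * ρ⁻¹)) * d⁻¹ := by group
      rw [e1, hy3]; group
    have h2 : ∀ b' c : F4, ρ⁻¹ * (Y b' * X a * Z c) * ρ = Y (u * b') * X a * Z (u * c) := by
      intro b' c
      have e1 : ρ⁻¹ * (Y b' * X a * Z c) * ρ = (ρ⁻¹ * Y b' * ρ) * (ρ⁻¹ * X a * ρ) * (ρ⁻¹ * Z c * ρ) := by
        group
      rw [e1, hc.rY', hc.rX', hc.rZ']
    rw [h2, h2, ut.mul_nf, ut.mul_nf] at h1
    have h3 := (ut.nf_one h1).1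
    rwa [f4_three] at h3
  rw [ha, ut.X0, mul_one] at hy'
  have hb' : b' = 1 := by
    have h1 : X 1 * (Y b' * Z c) * (X 1)⁻¹ * (Y b' * Z c)⁻¹ = Z b' := by
      have e1 : X 1 * (Y b' * Z c) * (X 1)⁻¹ * (Y b' * Z c)⁻¹ =
          (X 1 * Y b' * (X 1)⁻¹) * (X 1 * Z c * (X 1)⁻¹) * (Z c)⁻¹ * (Y b')⁻¹ := by group
      have e2 : X 1 * Z c * (X 1)⁻¹ = Z c := by rw [← ut.ZX, mul_inv_cancel_right]
      rw [e1, e2, hYX, mul_inv_cancel_right, one_mul, ← ut.ZY, mul_inv_cancel_right]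
    have h2 : X 1 * (Y b' * Z c) * (X 1)⁻¹ * (Y b' * Z c)⁻¹ = Z 1 := by
      rw [← hy', hX1, hZ1]
      have e1 : x * (d * y * d⁻¹) * x⁻¹ * (d * y * d⁻¹)⁻¹ =
          d * ((d⁻¹ * x * d) * y * (d⁻¹ * x * d)⁻¹ * y⁻¹) * d⁻¹ := by group
      have e2 : d⁻¹ * x * d = x := by
        nth_rw 1 [← hdx]; group
      rw [e1, e2, hxy, hdz]
    exact ut.Z_inj (h1.symm.trans h2)
  rw [hb', ← hY1] at hy'
  -- adjust `d` by `V`
  obtain ⟨d1, hd1⟩ : ∃ d1, d1 = X c * d := ⟨_, rfl⟩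
  have hd1P : d1 ∈ P := hd1 ▸ P.mul_mem (b.LP (hc.hXL c)) hd
  have hd1L : d1 ∉ L := by
    intro h1
    apply hdL
    have h2 := L.mul_mem (L.inv_mem (hc.hXL c)) h1
    rw [hd1, inv_mul_cancel_left] at h2
    exact h2
  have hd1V : cj d1 V = V := by
    rw [hd1, cj_mul, hdV]
    exact mem_normalizer_iff_cj.mp (le_normalizer (hc.hV c))
  have hd1Y1 : d1 * Y 1 * d1⁻¹ = Y 1 := by
    have e1 : d1 * Y 1 * d1⁻¹ = X c * (d * Y 1 * d⁻¹) * (X c)⁻¹ := by rw [hd1]; group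
    have e2 : X c * (Y 1 * Z c) * (X c)⁻¹ = (X c * Y 1 * (X c)⁻¹) * (X c * Z c * (X c)⁻¹) := by group
    have e3 : X c * Z c * (X c)⁻¹ = Z c := by rw [← ut.ZX, mul_inv_cancel_right]
    rw [e1, hy', e2, e3, hYX, mul_one, mul_assoc, ut.Zsq, mul_one]
  have hd1Z1 : d1 * Z 1 * d1⁻¹ = Z 1 := by
    have e1 : d1 * Z 1 * d1⁻¹ = X c * (d * Z 1 * d⁻¹) * (X c)⁻¹ := by rw [hd1]; group
    rw [e1, hZ1, hdz, ← hZ1, ← ut.ZX, mul_inv_cancel_right]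
  have hC := fun {l : G} (hl : l ∈ L) => b.lemC' hd1P hd1L hd1V hl
  have hd1Y : ∀ a, d1 * Y a * d1⁻¹ = Y (fr a) := by
    have hw : d1 * Y w * d1⁻¹ = Y u := by
      have e1 : Y w = ρ * Y 1 * ρ⁻¹ := (hc.rY 1).symm
      rw [e1, hC (hc.hYL 1), hd1Y1, hc.rY']; rfl
    have hu : d1 * Y u * d1⁻¹ = Y w := by
      have e1 : Y u = ρ * Y w * ρ⁻¹ := (hc.rY w).symm
      rw [e1, hC (hc.hYL w), hw, hc.rY']; rfl
    intro a
    cases a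
    · change d1 * Y 0 * d1⁻¹ = Y 0
      rw [ut.Y0]; group
    · exact hd1Y1
    · exact hw
    · exact hu
  have hd1Z : ∀ a, d1 * Z a * d1⁻¹ = Z (fr a) := by
    have hw : d1 * Z w * d1⁻¹ = Z u := by
      have e1 : Z w = ρ * Z 1 * ρ⁻¹ := (hc.rZ 1).symm
      rw [e1, hC (hc.hZL 1), hd1Z1, hc.rZ']; rfl
    have hu : d1 * Z u * d1⁻¹ = Z w := by
      have e1 : Z u = ρ * Z w * ρ⁻¹ := (hc.rZ w).symm
      rw [e1, hC (hc.hZL w), hw, hc.rZ']; rfl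
    intro a
    cases a
    · change d1 * Z 0 * d1⁻¹ = Z 0
      rw [ut.Z0]; group
    · exact hd1Z1
    · exact hw
    · exact hu
  have hd1X : ∀ a, d1 * X a * d1⁻¹ = X (fr a) := by
    intro a
    have h1 : d1 * X a * d1⁻¹ ∈ V := by
      have := conj_mem_cj (g := d1) (hc.hV a)
      rwa [hd1V] at this
    obtain ⟨a', ha'⟩ := (hc.memV _).mp h1
    have h2 : X a' * Y 1 * (X a')⁻¹ = d1 * (X a * Y 1 * (X a)⁻¹) * d1⁻¹ := by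
      rw [← ha']
      nth_rw 1 [← hd1Y1]
      group
    rw [hYX, hYX, mul_one, mul_one] at h2
    have h3 : d1 * (Y 1 * Z a) * d1⁻¹ = (d1 * Y 1 * d1⁻¹) * (d1 * Z a * d1⁻¹) := by group
    rw [h3, hd1Y1, hd1Z] at h2
    have h4 := ut.Z_inj (mul_left_cancel h2)
    rw [ha', h4]
  -- the square of `d1`
  obtain ⟨a0, b0, c0, hsq⟩ := (hc.memL _).mp (b.mul_mem_L hd1P hd1L hd1P hd1L)
  have hsqX : (d1 * d1) * X 1 = X 1 * (d1 * d1) := by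
    have h1 : (d1 * d1) * X 1 = (d1 * (d1 * X 1 * d1⁻¹) * d1⁻¹) * (d1 * d1) := by group
    rw [h1, hd1X, hd1X]; rfl
  have hsqY : (d1 * d1) * Y 1 = Y 1 * (d1 * d1) := by
    have h1 : (d1 * d1) * Y 1 = (d1 * (d1 * Y 1 * d1⁻¹) * d1⁻¹) * (d1 * d1) := by group
    rw [h1, hd1Y, hd1Y]; rfl
  have hb0 : b0 = 0 := by
    have h1 : (Y b0 * X a0 * Z c0) * (Y 0 * X 1 * Z 0) = (Y 0 * X 1 * Z 0) * (Y b0 * X a0 * Z c0) := by
      rw [← hsq, ut.Y0, ut.Z0, one_mul, mul_one]; exact hsqX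
    rw [ut.mul_nf, ut.mul_nf] at h1
    exact f4_b _ _ _ (ut.nf_inj h1).2.2
  have ha0 : a0 = 0 := by
    have h1 : (Y b0 * X a0 * Z c0) * (Y 1 * X 0 * Z 0) = (Y 1 * X 0 * Z 0) * (Y b0 * X a0 * Z c0) := by
      rw [← hsq, ut.X0, ut.Z0, mul_one, mul_one]; exact hsqY
    rw [ut.mul_nf, ut.mul_nf] at h1
    exact f4_a _ _ _ (ut.nf_inj h1).2.2
  have hsq' : d1 * d1 = Z c0 := by rw [hsq, hb0, ha0, ut.Y0, ut.X0, one_mul, one_mul]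
  have hc0 : fr c0 = c0 := by
    have h1 := hd1Z c0
    rw [← hsq'] at h1
    have e1 : d1 * (d1 * d1) * d1⁻¹ = d1 * d1 := by group
    rw [e1, hsq'] at h1
    exact (ut.Z_inj h1).symm
  obtain ⟨c', hc'⟩ : ∃ c', c' + fr c' + c0 = 0 := by
    have : ∀ c0 : F4, fr c0 = c0 → ∃ c', c' + fr c' + c0 = 0 := by decide
    exact this c0 hc0
  obtain ⟨d2, hd2⟩ : ∃ d2, d2 = Z c' * d1 := ⟨_, rfl⟩
  have hd2P : d2 ∈ P := hd2 ▸ P.mul_mem (b.LP (hc.hZL c')) hd1P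
  have hd2L : d2 ∉ L := by
    intro h1
    apply hd1L
    have h2 := L.mul_mem (L.inv_mem (hc.hZL c')) h1
    rw [hd2, inv_mul_cancel_left] at h2
    exact h2
  refine ⟨d2, hd2P, hd2L, ?_, ?_, ?_, ?_, b.mem_P_iff hd2P hd2L⟩
  · have e1 : d2 * d2 = Z c' * (d1 * Z c' * d1⁻¹) * (d1 * d1) := by rw [hd2]; group
    rw [e1, hd1Z, hsq', ut.ZZ, ut.ZZ, hc', ut.Z0]
  · intro a
    have e1 : d2 * X a = Z c' * (d1 * X a * d1⁻¹) * d1 := by rw [hd2]; group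
    rw [e1, hd1X, ut.ZX, hd2, mul_assoc]
  · intro a
    have e1 : d2 * Y a = Z c' * (d1 * Y a * d1⁻¹) * d1 := by rw [hd2]; group
    rw [e1, hd1Y, ut.ZY, hd2, mul_assoc]
  · intro a
    have e1 : d2 * Z a = Z c' * (d1 * Z a * d1⁻¹) * d1 := by rw [hd2]; group
    rw [e1, hd1Z, ut.ZZ, add_comm, ← ut.ZZ, hd2, mul_assoc]

end BaseP

end Cfsg.Agent.GH.T4Base
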