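import Mathlib
import Cfsg.Agent.GH.Pc
import Cfsg.Agent.SylowSp4.ExtTransfer
import Cfsg.Agent.ONType.FusionB2

/-!
# GH-L2, case (T4), `F = Z₄ × Z₄`

`E = V × U` elementary of order 16, `L = F V`, `F = ⟨f1, f2⟩ ≅ Z₄ × Z₄`, `U = Ω₁(F)`, `v1` inverts `F`.
If `N_S(E) = L` or `L ⟨d⟩` and `G` has no homomorphism onto `± 1` which is nontrivial on `v2`, contradiction.
-/

set_option autoImplicit false

open Subgroup

namespace Cfsg.Agent.GH.T4Gal

variable {G : Type*} [Group G]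

/-- The configuration `L = F V`. -/
structure Gal (E L : Subgroup G) (f1 f2 u1 u2 v1 v2 : G) : Prop where
  ff : f1 * f2 = f2 * f1
  f1f1 : f1 * f1 = u1
  f2f2 : f2 * f2 = u2
  u1u1 : u1 * u1 = 1
  u2u2 : u2 * u2 = 1
  v1v1 : v1 * v1 = 1
  v2v2 : v2 * v2 = 1
  vv : v1 * v2 = v2 * v1
  v1f1 : v1 * f1 = f1 * u1 * v1
  v1f2 : v1 * f2 = f2 * u2 * v1
  v2f1 : v2 * f1 = f1 * u2 * v2
  v2f2 : v2 * f2 = f2 * (u1 * u2) * v2
  hE : E = closure {u1, u2, v1, v2}
  hL : L = closure {f1, f2, v1, v2}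
  cardE : Nat.card E = 16

/-- The additional involution. -/
structure GalD (f1 f2 u1 u2 v1 v2 d : G) : Prop where
  dd : d * d = 1
  du1 : d * u1 = u1 * d
  du2 : d * u2 = u1 * u2 * d
  dv1 : d * v1 = v1 * d
  dv2 : d * v2 = v1 * v2 * d
  df1 : d * f1 = f1 * d
  df2 : d * f2 = (f1 * f2)⁻¹ * d

/-- A subgroup described by adjoining an element. -/
theorem closure_le_adj {K : Subgroup G} {a : G} (hK : ∀ k ∈ K, a * k * a⁻¹ ∈ K) (ha : a * a ∈ K) {s : Set G}
    (hs : ∀ x ∈ s, x ∈ K ∨ x = a) : closure s ≤ Pc.adj K a hK ha := by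
  rw [closure_le]
  intro x hx
  rcases hs x hx with h | rfl
  · exact Pc.le_adj K a hK ha h
  · exact Pc.mem_adj K x hK ha

theorem mem_adj_iff {K : Subgroup G} {a : G} (hK : ∀ k ∈ K, a * k * a⁻¹ ∈ K) (ha : a * a ∈ K) {g : G} :
    g ∈ Pc.adj K a hK ha ↔ g ∈ K ∨ a * g ∈ K := Iff.rfl

namespace Gal

variable {E L : Subgroup G} {f1 f2 u1 u2 v1 v2 : G} (h : Gal E L f1 f2 u1 u2 v1 v2)

/-- `U` -/
abbrev U (u1 u2 : G) : Subgroup G := closure {u1, u2}

/-- `F` -/
abbrev F (f1 f2 : G) : Subgroup G := closure {f1, f2}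

include h

theorem comm_F {a b : G} (ha : a ∈ F f1 f2) (hb : b ∈ F f1 f2) : a * b = b * a := by
  have h1 : ∀ x ∈ ({f1, f2} : Set G), ∀ y ∈ ({f1, f2} : Set G), x * y = y * x := by
    rintro x (rfl | rfl) y (rfl | rfl)
    · rfl
    · exact h.ff
    · exact h.ff.symm
    · rfl
  have h2 := Subgroup.isMulCommutative_closure h1
  have h3 := h2.is_comm.comm (⟨a, ha⟩ : closure ({f1, f2} : Set G)) ⟨b, hb⟩
  exact congrArg Subtype.val h3

omit h in
theorem f1F : f1 ∈ F f1 f2 := subset_closure (by simp)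
omit h in
theorem f2F : f2 ∈ F f1 f2 := subset_closure (by simp)

theorem u1F : u1 ∈ F f1 f2 := by rw [← h.f1f1]; exact mul_mem f1F f1F
theorem u2F : u2 ∈ F f1 f2 := by rw [← h.f2f2]; exact mul_mem f2F f2F

theorem U_le : U u1 u2 ≤ F f1 f2 := by
  rw [closure_le]
  rintro x (rfl | rfl)
  · exact h.u1F
  · exact h.u2F

theorem sq_U {u : G} (hu : u ∈ U u1 u2) : u * u = 1 := by
  have hc : ∀ a ∈ U u1 u2, ∀ b ∈ U u1 u2, a * b = b * a := fun a ha b hb => h.comm_F (h.U_le ha) (h.U_le hb)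
  induction hu using closure_induction with
  | mem x hx =>
    rcases hx with rfl | rfl
    · exact h.u1u1
    · exact h.u2u2
  | one => rw [mul_one]
  | mul x y hx hy ix iy =>
    calc x * y * (x * y) = x * (y * x) * y := by group
      _ = x * (x * y) * y := by rw [hc y hy x hx]
      _ = (x * x) * (y * y) := by group
      _ = 1 := by rw [ix, iy, mul_one]
  | inv x hx ix => rw [← mul_inv_rev, ix, inv_one]

theorem inv_U {u : G} (hu : u ∈ U u1 u2) : u⁻¹ = u := inv_eq_of_mul_eq_one_right (h.sq_U hu)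

/-- `v1` inverts `F` -/
theorem v1_F {f : G} (hf : f ∈ F f1 f2) : v1 * f = f⁻¹ * v1 := by
  induction hf using closure_induction with
  | mem x hx =>
    have e1 : f1⁻¹ = f1 * u1 := by
      apply inv_eq_of_mul_eq_one_right
      rw [← mul_assoc, h.f1f1, h.u1u1]
    have e2 : f2⁻¹ = f2 * u2 := by
      apply inv_eq_of_mul_eq_one_right
      rw [← mul_assoc, h.f2f2, h.u2u2]
    rcases hx with rfl | rfl
    · rw [e1, h.v1f1]
    · rw [e2, h.v1f2]
  | one => rw [inv_one, mul_one, one_mul]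
  | mul x y hx hy ix iy =>
    rw [← mul_assoc, ix, mul_assoc, iy, ← mul_assoc, ← mul_inv_rev, h.comm_F hy hx]
  | inv x hx ix =>
    rw [inv_inv]
    have : x * v1 * x = v1 := by rw [mul_assoc, ix, mul_inv_cancel_left]
    calc v1 * x⁻¹ = x * v1 * x * x⁻¹ := by rw [this]
      _ = x * v1 := by group

theorem v1_U {u : G} (hu : u ∈ U u1 u2) : v1 * u = u * v1 := by
  rw [h.v1_F (h.U_le hu), h.inv_U hu]

theorem v2_u1 : v2 * u1 = u1 * v2 := by
  rw [← h.f1f1, ← mul_assoc, h.v2f1, mul_assoc, mul_assoc, h.v2f1]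
  have e : u2 * f1 = f1 * u2 := h.comm_F h.u2F f1F
  calc f1 * (u2 * (f1 * u2 * v2)) = f1 * (u2 * f1) * u2 * v2 := by group
    _ = f1 * f1 * (u2 * u2) * v2 := by rw [e]; group
    _ = f1 * f1 * v2 := by rw [h.u2u2, mul_one]

theorem v2_u2 : v2 * u2 = u2 * v2 := by
  rw [← h.f2f2, ← mul_assoc, h.v2f2, mul_assoc, mul_assoc, h.v2f2]
  have e : u1 * u2 * f2 = f2 * (u1 * u2) := h.comm_F (mul_mem h.u1F h.u2F) f2F
  have e2 : u1 * u2 * (u1 * u2) = 1 := h.sq_U (mul_mem (subset_closure (by simp)) (subset_closure (by simp)))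
  calc f2 * (u1 * u2 * (f2 * (u1 * u2) * v2)) = f2 * (u1 * u2 * f2) * (u1 * u2) * v2 := by group
    _ = f2 * (f2 * (u1 * u2)) * (u1 * u2) * v2 := by rw [e]
    _ = f2 * f2 * (u1 * u2 * (u1 * u2)) * v2 := by group
    _ = f2 * f2 * v2 := by rw [e2, mul_one]

theorem v2_U {u : G} (hu : u ∈ U u1 u2) : v2 * u = u * v2 := by
  have : u ∈ centralizer {v2} := by
    have hle : U u1 u2 ≤ centralizer {v2} := by
      rw [closure_le]
      rintro x (rfl | rfl)
      · exact mem_centralizer_singleton_iff.2 h.v2_u1.symm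
      · exact mem_centralizer_singleton_iff.2 h.v2_u2.symm
    exact hle hu
  exact (mem_centralizer_singleton_iff.1 this).symm

/-- representatives of `F / U` -/
theorem rep {f : G} (hf : f ∈ F f1 f2) : ∃ u ∈ U u1 u2, f = u ∨ f = f1 * u ∨ f = f2 * u ∨ f = f1 * f2 * u := by
  have hK1 : ∀ k ∈ U u1 u2, f1 * k * f1⁻¹ ∈ U u1 u2 := by
    intro k hk
    rw [h.comm_F f1F (h.U_le hk), mul_inv_cancel_right]; exact hk
  have ha1 : f1 * f1 ∈ U u1 u2 := by rw [h.f1f1]; exact subset_closure (by simp)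
  have hK2 : ∀ k ∈ Pc.adj (U u1 u2) f1 hK1 ha1, f2 * k * f2⁻¹ ∈ Pc.adj (U u1 u2) f1 hK1 ha1 := by
    intro k hk
    have hkF : k ∈ F f1 f2 := by
      rcases hk with hk | hk
      · exact h.U_le hk
      · exact (mul_mem_cancel_left f1F).1 (h.U_le hk)
    rw [h.comm_F f2F hkF, mul_inv_cancel_right]; exact hk
  have ha2 : f2 * f2 ∈ Pc.adj (U u1 u2) f1 hK1 ha1 := Or.inl (by rw [h.f2f2]; exact subset_closure (by simp))
  have hle : F f1 f2 ≤ Pc.adj (Pc.adj (U u1 u2) f1 hK1 ha1) f2 hK2 ha2 := by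
    apply closure_le_adj
    rintro x (rfl | rfl)
    · exact Or.inl (Pc.mem_adj _ _ _ _)
    · exact Or.inr rfl
  have key : ∀ {g a : G}, g ∈ F f1 f2 → a ∈ F f1 f2 → a * a ∈ U u1 u2 → a * g ∈ U u1 u2 →
      ∃ u ∈ U u1 u2, g = a * u := by
    intro g a hg ha haa hag
    refine ⟨(a * a)⁻¹ * (a * g), mul_mem (inv_mem haa) hag, by group⟩
  rcases hle hf with (h1 | h1) | (h1 | h1)
  · exact ⟨f, h1, Or.inl rfl⟩
  · obtain ⟨u, hu, e⟩ := key hf f1F ha1 h1
    exact ⟨u, hu, Or.inr (Or.inl e)⟩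
  · obtain ⟨u, hu, e⟩ := key hf f2F (by rw [h.f2f2]; exact subset_closure (by simp)) h1
    exact ⟨u, hu, Or.inr (Or.inr (Or.inl e))⟩
  · have h2 : f1 * f2 * (f1 * f2) ∈ U u1 u2 := by
      have : f1 * f2 * (f1 * f2) = (f1 * f1) * (f2 * f2) := by
        calc f1 * f2 * (f1 * f2) = f1 * (f2 * f1) * f2 := by group
          _ = f1 * (f1 * f2) * f2 := by rw [h.ff]
          _ = _ := by group
      rw [this, h.f1f1, h.f2f2]
      exact mul_mem (subset_closure (by simp)) (subset_closure (by simp))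
    obtain ⟨u, hu, e⟩ := key hf (mul_mem f1F f2F) h2 (by rwa [mul_assoc])
    exact ⟨u, hu, Or.inr (Or.inr (Or.inr e))⟩

omit h in
theorem uU1 : u1 ∈ U u1 u2 := subset_closure (by simp)
omit h in
theorem uU2 : u2 ∈ U u1 u2 := subset_closure (by simp)

omit h in
/-- a closure of two commuting involutions -/
theorem card_pair {a b : G} (ha : a * a = 1) (hb : b * b = 1) (hab : a * b = b * a) :
    (closure {a, b} : Set G).Finite ∧ (closure {a, b} : Set G).ncard ≤ 4 ∧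
    ((a = 1 ∨ b = 1 ∨ a = b) → (closure {a, b} : Set G).ncard ≤ 2) := by
  have hsub : (closure {a, b} : Set G) ⊆ {1, a, b, a * b} := by
    intro x hx
    have hx' : x ∈ closure {a, b} := hx
    clear hx
    induction hx' using closure_induction with
    | mem x hx => rcases hx with rfl | rfl <;> simp
    | one => simp
    | mul x y hx hy ix iy =>
      have e1 : a * (a * b) = b := by rw [← mul_assoc, ha, one_mul]
      have e2 : b * (a * b) = a := by rw [hab, ← mul_assoc, hb, one_mul]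
      have e3 : a * b * a = b := by rw [hab, mul_assoc, ha, mul_one]
      have e4 : a * b * b = a := by rw [mul_assoc, hb, mul_one]
      have e5 : a * b * (a * b) = 1 := by rw [← mul_assoc, e3, hb]
      simp only [Set.mem_insert_iff, Set.mem_singleton_iff] at ix iy ⊢
      rcases ix with rfl | rfl | rfl | rfl <;> rcases iy with rfl | rfl | rfl | rfl <;>
        simp [ha, hb, hab.symm, e1, e2, e3, e4, e5]
    | inv x hx ix =>
      have i1 : a⁻¹ = a := inv_eq_of_mul_eq_one_right ha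
      have i2 : b⁻¹ = b := inv_eq_of_mul_eq_one_right hb
      simp only [Set.mem_insert_iff, Set.mem_singleton_iff] at ix ⊢
      rcases ix with rfl | rfl | rfl | rfl <;> simp [i1, i2, hab.symm]
  have hfin : ({1, a, b, a * b} : Set G).Finite := by simp
  refine ⟨hfin.subset hsub, ?_, ?_⟩
  · refine (Set.ncard_le_ncard hsub hfin).trans ?_
    refine (Set.ncard_insert_le _ _).trans ?_
    have := Set.ncard_insert_le a {b, a * b}
    have := Set.ncard_insert_le b {a * b}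
    have := Set.ncard_singleton (a * b)
    omega
  · intro hc
    have : ∃ c, ({1, a, b, a * b} : Set G) ⊆ {1, c} := by
      rcases hc with rfl | rfl | rfl
      · exact ⟨b, by intro x hx; simp at hx ⊢; tauto⟩
      · exact ⟨a, by intro x hx; simp at hx ⊢; tauto⟩
      · exact ⟨a, by intro x hx; simp [ha] at hx ⊢; tauto⟩
    obtain ⟨c, hc⟩ := this
    have h1 := Set.ncard_le_ncard (hsub.trans hc) (by simp)
    have := Set.ncard_insert_le (1 : G) {c}
    have := Set.ncard_singleton c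
    omega

omit h in
theorem conj_mem_of_comm {K : Subgroup G} {a : G} (hc : ∀ k ∈ K, a * k = k * a) : ∀ k ∈ K, a * k * a⁻¹ ∈ K := by
  intro k hk
  rw [hc k hk, mul_inv_cancel_right]; exact hk

theorem hK1 : ∀ k ∈ U u1 u2, v1 * k * v1⁻¹ ∈ U u1 u2 := conj_mem_of_comm fun _ hk => h.v1_U hk

theorem ha1 : v1 * v1 ∈ U u1 u2 := by rw [h.v1v1]; exact one_mem _

theorem comm_UV {k : G} (hk : k ∈ Pc.adj (U u1 u2) v1 h.hK1 h.ha1) : v2 * k = k * v2 := by
  rcases hk with hk | hk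
  · exact h.v2_U hk
  · have e : v2 * (v1 * k) = v1 * k * v2 := h.v2_U hk
    have e2 : v1 * (v2 * k) = v1 * (k * v2) := by
      calc v1 * (v2 * k) = (v1 * v2) * k := by group
        _ = v2 * (v1 * k) := by rw [h.vv]; group
        _ = v1 * (k * v2) := by rw [e]; group
    exact mul_left_cancel e2

/-- `E` as an adjunction -/
theorem E_eq : E = Pc.adj (Pc.adj (U u1 u2) v1 h.hK1 h.ha1) v2 (conj_mem_of_comm fun _ hk => h.comm_UV hk)
    (by rw [h.v2v2]; exact one_mem _) := by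
  apply le_antisymm
  · refine le_trans (le_of_eq h.hE) ?_
    apply closure_le_adj
    rintro x (rfl | rfl | rfl | rfl)
    · exact Or.inl (Or.inl uU1)
    · exact Or.inl (Or.inl uU2)
    · exact Or.inl (Pc.mem_adj _ _ _ _)
    · exact Or.inr rfl
  · have hv1 : v1 ∈ E := by rw [h.hE]; exact subset_closure (by simp)
    have hv2 : v2 ∈ E := by rw [h.hE]; exact subset_closure (by simp)
    have hU : U u1 u2 ≤ E := by
      rw [h.hE]
      apply Subgroup.closure_mono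
      intro x hx
      simp only [Set.mem_insert_iff, Set.mem_singleton_iff] at hx ⊢
      tauto
    rintro x ((hx | hx) | (hx | hx))
    · exact hU hx
    · exact (mul_mem_cancel_left hv1).1 (hU hx)
    · exact (mul_mem_cancel_left hv2).1 (hU hx)
    · exact (mul_mem_cancel_left hv2).1 ((mul_mem_cancel_left hv1).1 (hU hx))

theorem mem_E {e : G} : e ∈ E ↔ ∃ u ∈ U u1 u2, e = u ∨ e = u * v1 ∨ e = u * v2 ∨ e = u * (v1 * v2) := by
  rw [h.E_eq]
  constructor
  · rintro ((hx | hx) | (hx | hx))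
    · exact ⟨e, hx, Or.inl rfl⟩
    · refine ⟨v1 * e, hx, Or.inr (Or.inl ?_)⟩
      rw [← h.v1_U hx, ← mul_assoc, h.v1v1, one_mul]
    · refine ⟨v2 * e, hx, Or.inr (Or.inr (Or.inl ?_))⟩
      rw [← h.v2_U hx, ← mul_assoc, h.v2v2, one_mul]
    · refine ⟨v1 * (v2 * e), hx, Or.inr (Or.inr (Or.inr ?_))⟩
      have e1 : v1 * (v2 * e) * (v1 * v2) = v1 * v2 * (v1 * (v2 * e)) := by
        rw [← mul_assoc, ← h.v1_U hx, mul_assoc, ← h.v2_U hx, ← mul_assoc]
      rw [e1]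
      calc e = e := rfl
        _ = (v1 * v1) * (v2 * v2) * e := by rw [h.v1v1, h.v2v2]; group
        _ = v1 * (v1 * v2) * v2 * e := by group
        _ = v1 * (v2 * v1) * v2 * e := by rw [h.vv]
        _ = v1 * v2 * (v1 * (v2 * e)) := by group
  · rintro ⟨u, hu, rfl | rfl | rfl | rfl⟩
    · exact Or.inl (Or.inl hu)
    · exact Or.inl (mul_mem (Pc.le_adj _ _ _ _ hu) (Pc.mem_adj _ _ _ _))
    · exact mul_mem (Pc.le_adj _ _ _ _ (Pc.le_adj _ _ _ _ hu)) (Pc.mem_adj _ _ _ _)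
    · exact mul_mem (Pc.le_adj _ _ _ _ (Pc.le_adj _ _ _ _ hu))
        (mul_mem (Pc.le_adj _ _ _ _ (Pc.mem_adj _ _ _ _)) (Pc.mem_adj _ _ _ _))

theorem card_U : (U u1 u2 : Set G).Finite ∧ (U u1 u2 : Set G).ncard = 4 := by
  obtain ⟨hf, h4, -⟩ := card_pair h.u1u1 h.u2u2 (h.comm_F h.u1F h.u2F)
  refine ⟨hf, ?_⟩
  obtain ⟨g1, g2⟩ := Pc.ncard_adj (U u1 u2) v1 h.hK1 h.ha1 hf
  obtain ⟨g3, g4⟩ := Pc.ncard_adj (Pc.adj (U u1 u2) v1 h.hK1 h.ha1) v2
    (conj_mem_of_comm fun _ hk => h.comm_UV hk) (by rw [h.v2v2]; exact one_mem _) g1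
  have h16 : (E : Set G).ncard = 16 := h.cardE
  rw [← h.E_eq] at g4
  change (U u1 u2 : Set G).ncard ≤ 4 at h4
  omega

theorem u1_ne : u1 ≠ 1 := by
  intro e
  have := (card_pair h.u1u1 h.u2u2 (h.comm_F h.u1F h.u2F)).2.2 (Or.inl e)
  have h2 := h.card_U.2
  change (U u1 u2 : Set G).ncard ≤ 2 at this
  omega

theorem u2_ne : u2 ≠ 1 := by
  intro e
  have := (card_pair h.u1u1 h.u2u2 (h.comm_F h.u1F h.u2F)).2.2 (Or.inr (Or.inl e))
  have h2 := h.card_U.2
  change (U u1 u2 : Set G).ncard ≤ 2 at this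
  omega

theorem u12_ne : u1 ≠ u2 := by
  intro e
  have := (card_pair h.u1u1 h.u2u2 (h.comm_F h.u1F h.u2F)).2.2 (Or.inr (Or.inr e))
  have h2 := h.card_U.2
  change (U u1 u2 : Set G).ncard ≤ 2 at this
  omega

/-- squares and commutators of the elements of `F - U` -/
theorem nonU {f : G} (hf : f ∈ F f1 f2) (hU : f ∉ U u1 u2) :
    ∃ s ∈ U u1 u2, ∃ p ∈ U u1 u2, f * f = s ∧ v1 * f = s * f * v1 ∧ v2 * f = p * f * v2 ∧
      s ≠ 1 ∧ p ≠ 1 ∧ s ≠ p := by
  have n1 := h.u1_ne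
  have n2 := h.u2_ne
  have n3 := h.u12_ne
  have n4 : u1 * u2 ≠ 1 := by
    intro e
    apply n3
    have := h.inv_U (uU2 (u1 := u1) (u2 := u2))
    rw [← this]
    exact eq_inv_of_mul_eq_one_left e
  have hsF : ∀ {s : G}, s ∈ U u1 u2 → f * f = s → v1 * f = s * f * v1 := by
    intro s hs e
    rw [h.v1_F hf]
    congr 1
    have : s * s = 1 := h.sq_U hs
    apply inv_eq_of_mul_eq_one_right
    rw [← mul_assoc, h.comm_F hf (h.U_le hs), mul_assoc, e, this]
  obtain ⟨u, hu, hr⟩ := h.rep hf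
  have huF := h.U_le hu
  have hv2u := h.v2_U hu
  have huu := h.sq_U hu
  have sqm : ∀ a ∈ F f1 f2, a * u * (a * u) = a * a := by
    intro a ha
    calc a * u * (a * u) = a * (u * a) * u := by group
      _ = a * a * (u * u) := by rw [h.comm_F huF ha]; group
      _ = a * a := by rw [huu, mul_one]
  have cm : ∀ a ∈ F f1 f2, ∀ p ∈ U u1 u2, v2 * a = a * p * v2 → v2 * (a * u) = p * (a * u) * v2 := by
    intro a ha p hp e
    calc v2 * (a * u) = a * p * (v2 * u) := by rw [← mul_assoc, e]; group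
      _ = (a * p) * u * v2 := by rw [hv2u]; group
      _ = p * (a * u) * v2 := by rw [h.comm_F ha (h.U_le hp)]; group
  rcases hr with rfl | rfl | rfl | rfl
  · exact absurd hu hU
  · have e1 : f1 * u * (f1 * u) = u1 := by rw [sqm f1 f1F, h.f1f1]
    exact ⟨u1, uU1, u2, uU2, e1, hsF uU1 e1, cm f1 f1F u2 uU2 h.v2f1, n1, n2, n3⟩
  · have e1 : f2 * u * (f2 * u) = u2 := by rw [sqm f2 f2F, h.f2f2]
    exact ⟨u2, uU2, u1 * u2, mul_mem uU1 uU2, e1, hsF uU2 e1, cm f2 f2F _ (mul_mem uU1 uU2) h.v2f2, n2, n4,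
      fun e => n1 (by simpa using e.symm)⟩
  · have e0 : f1 * f2 * (f1 * f2) = u1 * u2 := by
      calc f1 * f2 * (f1 * f2) = f1 * (f2 * f1) * f2 := by group
        _ = (f1 * f1) * (f2 * f2) := by rw [← h.ff]; group
        _ = u1 * u2 := by rw [h.f1f1, h.f2f2]
    have e1 : f1 * f2 * u * (f1 * f2 * u) = u1 * u2 := by rw [sqm _ (mul_mem f1F f2F), e0]
    have e2 : v2 * (f1 * f2) = f1 * f2 * u1 * v2 := by
      have c1 : u2 * f2 = f2 * u2 := h.comm_F h.u2F f2F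
      have c2 : u2 * u1 = u1 * u2 := h.comm_F h.u2F h.u1F
      calc v2 * (f1 * f2) = f1 * u2 * (v2 * f2) := by rw [← mul_assoc, h.v2f1]; group
        _ = f1 * (u2 * f2) * (u1 * u2) * v2 := by rw [h.v2f2]; group
        _ = f1 * f2 * (u2 * u1) * u2 * v2 := by rw [c1]; group
        _ = f1 * f2 * u1 * (u2 * u2) * v2 := by rw [c2]; group
        _ = f1 * f2 * u1 * v2 := by rw [h.u2u2, mul_one]
    exact ⟨u1 * u2, mul_mem uU1 uU2, u1, uU1, e1, hsF (mul_mem uU1 uU2) e1, cm _ (mul_mem f1F f2F) _ uU1 e2, n4,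
      n1, fun e => n2 (by simpa using e)⟩

theorem f1_not_U : f1 ∉ U u1 u2 := fun hc => h.u1_ne (by rw [← h.f1f1]; exact h.sq_U hc)
theorem f2_not_U : f2 ∉ U u1 u2 := fun hc => h.u2_ne (by rw [← h.f2f2]; exact h.sq_U hc)
theorem f12_not_U : f1 * f2⁻¹ ∉ U u1 u2 := by
  intro hc
  have e := h.sq_U hc
  apply h.u12_ne
  have e3 : f1 * f2⁻¹ * (f1 * f2⁻¹) = (f1 * f1) * (f2 * f2)⁻¹ := by
    have c : f1 * f2⁻¹ = f2⁻¹ * f1 := h.comm_F f1F (inv_mem f2F)
    calc f1 * f2⁻¹ * (f1 * f2⁻¹) = f1 * f2⁻¹ * (f2⁻¹ * f1) := by rw [← c]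
      _ = f1 * ((f2⁻¹ * f2⁻¹) * f1) := by group
      _ = f1 * (f1 * (f2⁻¹ * f2⁻¹)) := by rw [h.comm_F (mul_mem (inv_mem f2F) (inv_mem f2F)) f1F]
      _ = _ := by group
  rw [e3, h.f1f1, h.f2f2] at e
  exact mul_inv_eq_one.1 e

theorem v1_not_F : v1 ∉ F f1 f2 := by
  intro hc
  obtain ⟨s, hs, p, hp, e1, e2, e3, e4, e5, e6⟩ := h.nonU f1F h.f1_not_U
  have := h.comm_F hc f1F
  rw [e2] at this
  exact e4 (by simpa using this)

theorem v2_not_F : v2 ∉ F f1 f2 := by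
  intro hc
  obtain ⟨s, hs, p, hp, e1, e2, e3, e4, e5, e6⟩ := h.nonU f1F h.f1_not_U
  have := h.comm_F hc f1F
  rw [e3] at this
  exact e5 (by simpa using this)

/-- action of `v1 v2` -/
theorem v12_comm {f s p : G} (hs : s ∈ U u1 u2) (hp : p ∈ U u1 u2)
    (e1 : v1 * f = s * f * v1) (e2 : v2 * f = p * f * v2) : v1 * v2 * f = s * p * f * (v1 * v2) := by
  have c2 : p * s = s * p := h.comm_F (h.U_le hp) (h.U_le hs)
  calc v1 * v2 * f = v1 * (v2 * f) := by group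
    _ = (v1 * p) * f * v2 := by rw [e2]; group
    _ = p * (v1 * f) * v2 := by rw [h.v1_U hp]; group
    _ = (p * s) * f * (v1 * v2) := by rw [e1]; group
    _ = _ := by rw [c2]

theorem v12_not_F : v1 * v2 ∉ F f1 f2 := by
  intro hc
  obtain ⟨s, hs, p, hp, e1, e2, e3, e4, e5, e6⟩ := h.nonU f1F h.f1_not_U
  have := h.comm_F hc f1F
  rw [h.v12_comm hs hp e2 e3] at this
  apply e6
  have e7 : s * p = 1 := by
    have : s * p * f1 * (v1 * v2) = 1 * f1 * (v1 * v2) := by rw [this, one_mul]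
    exact mul_right_cancel (mul_right_cancel this)
  rw [← h.inv_U hp]
  exact eq_inv_of_mul_eq_one_left e7

/-- `E ∩ F = U` -/
theorem E_inf_F {e : G} (he : e ∈ E) (hf : e ∈ F f1 f2) : e ∈ U u1 u2 := by
  obtain ⟨u, hu, hr⟩ := h.mem_E.1 he
  rcases hr with rfl | rfl | rfl | rfl
  · exact hu
  · exact absurd ((mul_mem_cancel_left (h.U_le hu)).1 hf) h.v1_not_F
  · exact absurd ((mul_mem_cancel_left (h.U_le hu)).1 hf) h.v2_not_F
  · exact absurd ((mul_mem_cancel_left (h.U_le hu)).1 hf) h.v12_not_F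

theorem v1_E : v1 ∈ E := by rw [h.hE]; exact subset_closure (by simp)
theorem v2_E : v2 ∈ E := by rw [h.hE]; exact subset_closure (by simp)
theorem U_le_E : U u1 u2 ≤ E := by
  rw [h.hE]
  apply Subgroup.closure_mono
  intro x hx
  simp only [Set.mem_insert_iff, Set.mem_singleton_iff] at hx ⊢
  tauto
theorem v1_L : v1 ∈ L := by rw [h.hL]; exact subset_closure (by simp)
theorem v2_L : v2 ∈ L := by rw [h.hL]; exact subset_closure (by simp)
theorem F_le_L : F f1 f2 ≤ L := by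
  rw [h.hL]
  apply Subgroup.closure_mono
  intro x hx
  simp only [Set.mem_insert_iff, Set.mem_singleton_iff] at hx ⊢
  tauto

theorem E_le_L : E ≤ L := by
  intro e he
  obtain ⟨u, hu, hr⟩ := h.mem_E.1 he
  have hu' := h.F_le_L (h.U_le hu)
  rcases hr with rfl | rfl | rfl | rfl
  · exact hu'
  · exact mul_mem hu' h.v1_L
  · exact mul_mem hu' h.v2_L
  · exact mul_mem hu' (mul_mem h.v1_L h.v2_L)

/-- `F ∪ v1 F` -/
theorem hF1 : ∀ k ∈ F f1 f2, v1 * k * v1⁻¹ ∈ F f1 f2 := by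
  intro k hk
  rw [h.v1_F hk, mul_inv_cancel_right]; exact inv_mem hk

theorem v1v1_F : v1 * v1 ∈ F f1 f2 := by rw [h.v1v1]; exact one_mem _

abbrev F1 : Subgroup G := Pc.adj (F f1 f2) v1 h.hF1 h.v1v1_F

theorem v2_F {f : G} (hf : f ∈ F f1 f2) : ∃ p ∈ U u1 u2, v2 * f = p * f * v2 := by
  by_cases hU : f ∈ U u1 u2
  · exact ⟨1, one_mem _, by rw [h.v2_U hU, one_mul]⟩
  · obtain ⟨s, hs, p, hp, e1, e2, e3, -⟩ := h.nonU hf hU
    exact ⟨p, hp, e3⟩

theorem hF2 : ∀ k ∈ h.F1, v2 * k * v2⁻¹ ∈ h.F1 := by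
  have h0 : ∀ k ∈ F f1 f2, v2 * k * v2⁻¹ ∈ F f1 f2 := by
    intro k hk
    obtain ⟨p, hp, e⟩ := h.v2_F hk
    rw [e, mul_inv_cancel_right]
    exact mul_mem (h.U_le hp) hk
  rintro k (hk | hk)
  · exact Or.inl (h0 k hk)
  · right
    have : v1 * (v2 * k * v2⁻¹) = v2 * (v1 * k) * v2⁻¹ := by
      calc v1 * (v2 * k * v2⁻¹) = (v1 * v2) * k * v2⁻¹ := by group
        _ = _ := by rw [h.vv]; group
    rw [this]
    exact h0 _ hk

theorem v2v2_F1 : v2 * v2 ∈ h.F1 := by rw [h.v2v2]; exact one_mem _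

theorem L_eq : L = Pc.adj h.F1 v2 h.hF2 h.v2v2_F1 := by
  apply le_antisymm
  · refine le_trans (le_of_eq h.hL) ?_
    apply closure_le_adj
    rintro x (rfl | rfl | rfl | rfl)
    · exact Or.inl (Or.inl f1F)
    · exact Or.inl (Or.inl f2F)
    · exact Or.inl (Pc.mem_adj _ _ _ _)
    · exact Or.inr rfl
  · have hF1 : h.F1 ≤ L := by
      rintro x (hx | hx)
      · exact h.F_le_L hx
      · exact (mul_mem_cancel_left h.v1_L).1 (h.F_le_L hx)
    rintro x (hx | hx)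
    · exact hF1 hx
    · exact (mul_mem_cancel_left h.v2_L).1 (hF1 hx)

/-- `L = F ∪ F v1 ∪ F v2 ∪ F v1 v2` -/
theorem mem_L {l : G} (hl : l ∈ L) : ∃ f ∈ F f1 f2, l = f ∨ l = f * v1 ∨ l = f * v2 ∨ l = f * (v1 * v2) := by
  rw [h.L_eq] at hl
  have cv1 : ∀ f ∈ F f1 f2, v1 * f ∈ F f1 f2 → False := fun f hf hc =>
    h.v1_not_F ((mul_mem_cancel_right hf).1 hc)
  have key : ∀ v : G, v * v = 1 → (∀ f ∈ F f1 f2, v * f * v⁻¹ ∈ F f1 f2) → ∀ l, v * l ∈ F f1 f2 →
      ∃ f ∈ F f1 f2, l = f * v := by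
    intro v hv hn l hl
    have hi : v⁻¹ = v := inv_eq_of_mul_eq_one_right hv
    refine ⟨v * (v * l) * v⁻¹, hn _ hl, ?_⟩
    rw [inv_mul_cancel_right, ← mul_assoc, hv, one_mul]
  have h2 : ∀ k ∈ F f1 f2, v2 * k * v2⁻¹ ∈ F f1 f2 := by
    intro k hk
    obtain ⟨p, hp, e⟩ := h.v2_F hk
    rw [e, mul_inv_cancel_right]
    exact mul_mem (h.U_le hp) hk
  rcases hl with (hl | hl) | (hl | hl)
  · exact ⟨l, hl, Or.inl rfl⟩
  · obtain ⟨f, hf, e⟩ := key v1 h.v1v1 h.hF1 l hl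
    exact ⟨f, hf, Or.inr (Or.inl e)⟩
  · obtain ⟨f, hf, e⟩ := key v2 h.v2v2 h2 l hl
    exact ⟨f, hf, Or.inr (Or.inr (Or.inl e))⟩
  · have h3 : v1 * v2 * (v1 * v2) = 1 := by
      calc v1 * v2 * (v1 * v2) = v1 * (v2 * v1) * v2 := by group
        _ = (v1 * v1) * (v2 * v2) := by rw [← h.vv]; group
        _ = 1 := by rw [h.v1v1, h.v2v2, one_mul]
    obtain ⟨f, hf, e⟩ := key (v1 * v2) h3 (fun k hk => by
      have : v1 * v2 * k * (v1 * v2)⁻¹ = v1 * (v2 * k * v2⁻¹) * v1⁻¹ := by group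
      rw [this]; exact h.hF1 _ (h2 _ hk)) l (by rw [mul_assoc]; exact hl)
    exact ⟨f, hf, Or.inr (Or.inr (Or.inr e))⟩

theorem E_comm {a b : G} (ha : a ∈ E) (hb : b ∈ E) : a * b = b * a := by
  have h1 : ∀ x ∈ ({u1, u2, v1, v2} : Set G), ∀ y ∈ ({u1, u2, v1, v2} : Set G), x * y = y * x := by
    have c0 := h.comm_F h.u1F h.u2F
    have c1 := h.v1_U (uU1 (u1 := u1) (u2 := u2))
    have c2 := h.v1_U (uU2 (u1 := u1) (u2 := u2))
    have c3 := h.v2_U (uU1 (u1 := u1) (u2 := u2))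
    have c4 := h.v2_U (uU2 (u1 := u1) (u2 := u2))
    have c5 := h.vv
    rintro x (rfl | rfl | rfl | rfl) y (rfl | rfl | rfl | rfl) <;> first | rfl | assumption | (symm; assumption)
  have h2 := Subgroup.isMulCommutative_closure h1
  have ha' : a ∈ closure ({u1, u2, v1, v2} : Set G) := h.hE ▸ ha
  have hb' : b ∈ closure ({u1, u2, v1, v2} : Set G) := h.hE ▸ hb
  exact congrArg Subtype.val (h2.is_comm.comm (⟨a, ha'⟩ : closure ({u1, u2, v1, v2} : Set G)) ⟨b, hb'⟩)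

theorem sq_E {a : G} (ha : a ∈ E) : a * a = 1 := by
  obtain ⟨u, hu, hr⟩ := h.mem_E.1 ha
  have hue := h.U_le_E hu
  have sq2 : ∀ x ∈ E, ∀ y ∈ E, x * x = 1 → y * y = 1 → x * y * (x * y) = 1 := by
    intro x hx y hy ex ey
    calc x * y * (x * y) = x * (y * x) * y := by group
      _ = (x * x) * (y * y) := by rw [h.E_comm hy hx]; group
      _ = 1 := by rw [ex, ey, one_mul]
  rcases hr with rfl | rfl | rfl | rfl
  · exact h.sq_U hu
  · exact sq2 _ hue _ h.v1_E (h.sq_U hu) h.v1v1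
  · exact sq2 _ hue _ h.v2_E (h.sq_U hu) h.v2v2
  · exact sq2 _ hue _ (mul_mem h.v1_E h.v2_E) (h.sq_U hu) (sq2 _ h.v1_E _ h.v2_E h.v1v1 h.v2v2)

theorem comm_f {f e : G} (hf : f ∈ F f1 f2) (hU : f ∉ U u1 u2) (he : e ∈ E) (hc : f * e = e * f) :
    e ∈ U u1 u2 := by
  obtain ⟨s, hs, p, hp, e1, e2, e3, e4, e5, e6⟩ := h.nonU hf hU
  obtain ⟨u, hu, hr⟩ := h.mem_E.1 he
  have key : ∀ v, f * (u * v) = u * v * f → f * v = v * f := by
    intro v hv
    have : u * (f * v) = u * (v * f) := by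
      calc u * (f * v) = (u * f) * v := by group
        _ = f * (u * v) := by rw [h.comm_F (h.U_le hu) hf]; group
        _ = u * (v * f) := by rw [hv]; group
    exact mul_left_cancel this
  rcases hr with rfl | rfl | rfl | rfl
  · exact hu
  · have := key _ hc
    rw [e2] at this
    exact absurd (by simpa using this) e4
  · have := key _ hc
    rw [e3] at this
    exact absurd (by simpa using this) e5
  · have := key _ hc
    rw [h.v12_comm hs hp e2 e3] at this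
    exfalso
    apply e6
    have e7 : s * p = 1 := by
      have : s * p * f * (v1 * v2) = 1 * f * (v1 * v2) := by rw [← this, one_mul]
      exact mul_right_cancel (mul_right_cancel this)
    rw [← h.inv_U hp]
    exact eq_inv_of_mul_eq_one_left e7

theorem dec_L {l : G} (hl : l ∈ L) : ∃ f ∈ F f1 f2, ∃ v ∈ E, l = f * v := by
  obtain ⟨f, hf, hr⟩ := h.mem_L hl
  rcases hr with rfl | rfl | rfl | rfl
  · exact ⟨l, hf, 1, one_mem _, (mul_one _).symm⟩
  · exact ⟨f, hf, _, h.v1_E, rfl⟩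
  · exact ⟨f, hf, _, h.v2_E, rfl⟩
  · exact ⟨f, hf, _, mul_mem h.v1_E h.v2_E, rfl⟩

/-- (2) -/
theorem comm_E_L {l e : G} (hl : l ∈ L) (hlE : l ∉ E) (he : e ∈ E) (hc : l * e = e * l) : e ∈ U u1 u2 := by
  obtain ⟨f, hf, v, hv, rfl⟩ := h.dec_L hl
  have hU : f ∉ U u1 u2 := fun hU => hlE (mul_mem (h.U_le_E hU) hv)
  apply h.comm_f hf hU he
  have : f * e * v = e * f * v := by
    calc f * e * v = f * (v * e) := by rw [mul_assoc, h.E_comm he hv]
      _ = f * v * e := by group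
      _ = e * f * v := by rw [hc]; group
  exact mul_right_cancel this

/-- (4) -/
theorem inv_L {y : G} (hy : y ∈ L) (hyE : y ∉ E) (hyy : y * y = 1) : ∃ f ∈ F f1 f2, f ∉ U u1 u2 ∧ y = f * v1 := by
  obtain ⟨f, hf, hr⟩ := h.mem_L hy
  have hU : f ∉ U u1 u2 := by
    intro hU
    apply hyE
    have hfE := h.U_le_E hU
    rcases hr with rfl | rfl | rfl | rfl
    · exact hfE
    · exact mul_mem hfE h.v1_E
    · exact mul_mem hfE h.v2_E
    · exact mul_mem hfE (mul_mem h.v1_E h.v2_E)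
  obtain ⟨s, hs, p, hp, e1, e2, e3, e4, e5, e6⟩ := h.nonU hf hU
  have hpF := h.U_le hp
  have hsF := h.U_le hs
  rcases hr with rfl | rfl | rfl | rfl
  · exact absurd (e1.symm.trans hyy) e4
  · exact ⟨f, hf, hU, rfl⟩
  · exfalso
    have : f * v2 * (f * v2) = s * p := by
      calc f * v2 * (f * v2) = f * (v2 * f) * v2 := by group
        _ = (f * p) * f * (v2 * v2) := by rw [e3]; group
        _ = p * (f * f) := by rw [h.comm_F hf hpF, h.v2v2]; group
        _ = s * p := by rw [e1, h.comm_F hpF hsF]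
    rw [this] at hyy
    apply e6
    rw [← h.inv_U hp]
    exact eq_inv_of_mul_eq_one_left hyy
  · exfalso
    have e12 := h.v12_comm hs hp e2 e3
    have : f * (v1 * v2) * (f * (v1 * v2)) = p := by
      calc f * (v1 * v2) * (f * (v1 * v2)) = f * (v1 * v2 * f) * (v1 * v2) := by group
        _ = (f * (s * p)) * f * ((v1 * v2) * (v1 * v2)) := by rw [e12]; group
        _ = (s * p) * (f * f) := by
          rw [h.comm_F hf (mul_mem hsF hpF), h.sq_E (mul_mem h.v1_E h.v2_E)]; group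
        _ = (p * s) * s := by rw [e1, h.comm_F hsF hpF]
        _ = p := by rw [mul_assoc, h.sq_U hs, mul_one]
    rw [this] at hyy
    exact e5 hyy

/-- (5) -/
theorem inv_L_comm {y y' : G} (hy : y ∈ L) (hyE : y ∉ E) (hyy : y * y = 1) (hy' : y' ∈ L) (hyy' : y' * y' = 1)
    (hc : y * y' = y' * y) : y' ∈ U u1 u2 ∨ y' * y ∈ U u1 u2 := by
  by_cases hE' : y' ∈ E
  · exact Or.inl (h.comm_E_L hy hyE hE' hc)
  · right
    obtain ⟨f, hf, hfU, rfl⟩ := h.inv_L hy hyE hyy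
    obtain ⟨f', hf', hfU', rfl⟩ := h.inv_L hy' hE' hyy'
    have e1 : f' * v1 * (f * v1) = f' * f⁻¹ := by
      calc f' * v1 * (f * v1) = f' * (v1 * f) * v1 := by group
        _ = f' * f⁻¹ * (v1 * v1) := by rw [h.v1_F hf]; group
        _ = _ := by rw [h.v1v1, mul_one]
    have e2 : f * v1 * (f' * v1) = f * f'⁻¹ := by
      calc f * v1 * (f' * v1) = f * (v1 * f') * v1 := by group
        _ = f * f'⁻¹ * (v1 * v1) := by rw [h.v1_F hf']; group
        _ = _ := by rw [h.v1v1, mul_one]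
    rw [e1]
    rw [e1, e2] at hc
    by_contra hcon
    have hF : f' * f⁻¹ ∈ F f1 f2 := mul_mem hf' (inv_mem hf)
    obtain ⟨s, hs, p, hp, g1, g2, g3, g4, -⟩ := h.nonU hF hcon
    apply g4
    rw [← g1]
    nth_rw 1 [← hc]
    group

end Gal

/-- the two possibilities for `N_S(E)`, uniformly -/
structure Ext (L S1 E : Subgroup G) (u1 u2 v1 v2 : G) : Prop where
  le : L ≤ S1
  mul : ∀ s ∈ S1, ∀ t ∈ S1, s ∉ L → t ∉ L → s * t ∈ L
  u2n : ∀ s ∈ S1, s ∉ L → s * u2 ≠ u2 * s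
  cE : ∀ s ∈ S1, s ∉ L → ∀ e ∈ E, s * e = e * s → e ∈ Gal.U u1 u2 ∨ v1 * e ∈ Gal.U u1 u2
  M : ∃ M ≤ S1, M.relIndex S1 = 2 ∧ ∀ e ∈ E, e ∈ M → e ∈ Gal.U u1 u2 ∨ v1 * e ∈ Gal.U u1 u2

namespace Gal

variable {E L : Subgroup G} {f1 f2 u1 u2 v1 v2 : G} (h : Gal E L f1 f2 u1 u2 v1 v2)

include h

theorem L_U {l u : G} (hl : l ∈ L) (hu : u ∈ U u1 u2) : l * u = u * l := by
  obtain ⟨f, hf, v, hv, rfl⟩ := h.dec_L hl
  calc f * v * u = f * (v * u) := by group
    _ = f * u * v := by rw [h.E_comm hv (h.U_le_E hu)]; group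
    _ = u * (f * v) := by rw [h.comm_F hf (h.U_le hu)]; group

/-- **Uniqueness of `E` in `N_S(E)`** -/
theorem uniq {S1 : Subgroup G} (hx : Ext L S1 E u1 u2 v1 v2) {A : Subgroup G} (hA : A ≤ S1)
    (hAc : Nat.card A = 16) (hAs : ∀ a ∈ A, a * a = 1) : A = E := by
  have hfA : (A : Set G).Finite := by
    have : Finite A := Nat.finite_of_card_ne_zero (by rw [hAc]; norm_num)
    exact Set.toFinite _
  have hfE : (E : Set G).Finite := by
    have : Finite E := Nat.finite_of_card_ne_zero (by rw [h.cardE]; norm_num)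
    exact Set.toFinite _
  have hA16 : (A : Set G).ncard = 16 := hAc
  have hE16 : (E : Set G).ncard = 16 := h.cardE
  have hAcomm : ∀ a ∈ A, ∀ b ∈ A, a * b = b * a := by
    intro a ha b hb
    have h1 := hAs _ (mul_mem ha hb)
    have ia : a⁻¹ = a := inv_eq_of_mul_eq_one_right (hAs a ha)
    have ib : b⁻¹ = b := inv_eq_of_mul_eq_one_right (hAs b hb)
    have h2 := eq_inv_of_mul_eq_one_left h1
    rw [mul_inv_rev, ia, ib] at h2
    exact h2
  -- the small subgroups `adj U y`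
  have small : ∀ y, y * y = 1 → (∀ k ∈ U u1 u2, y * k = k * y) → ∀ B : Subgroup G,
      (∀ b ∈ B, b ∈ U u1 u2 ∨ y * b ∈ U u1 u2) → (B : Set G).ncard ≤ 8 ∧
      (8 ≤ (B : Set G).ncard → U u1 u2 ≤ B) := by
    intro y hy hyU B hB
    have hK := conj_mem_of_comm hyU
    have ha : y * y ∈ U u1 u2 := by rw [hy]; exact one_mem _
    obtain ⟨g1, g2⟩ := Pc.ncard_adj (U u1 u2) y hK ha h.card_U.1
    rw [h.card_U.2] at g2
    have hle : B ≤ Pc.adj (U u1 u2) y hK ha := fun b hb => hB b hb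
    have hle' : (B : Set G) ⊆ (Pc.adj (U u1 u2) y hK ha : Set G) := hle
    have g3 := Set.ncard_le_ncard hle' g1
    refine ⟨by omega, fun h8 => ?_⟩
    have heq : (B : Set G) = (Pc.adj (U u1 u2) y hK ha : Set G) :=
      Set.eq_of_subset_of_ncard_le hle' (by omega) g1
    intro k hk
    have : k ∈ (Pc.adj (U u1 u2) y hK ha : Set G) := Or.inl hk
    rw [← heq] at this
    exact this
  have U_case : ∀ y ∈ A, y ∈ L → y ∉ E → ∀ B : Subgroup G, B ≤ A ⊓ L →
      (B : Set G).ncard ≤ 8 ∧ (8 ≤ (B : Set G).ncard → U u1 u2 ≤ B) := by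
    intro y hyA hyL hyE B hB
    apply small y (hAs y hyA) (fun k hk => h.L_U hyL hk)
    intro b hb
    have hb' := hB hb
    rcases h.inv_L_comm hyL hyE (hAs y hyA) hb'.2 (hAs b hb'.1) (hAcomm y hyA b hb'.1) with h1 | h1
    · exact Or.inl h1
    · right
      rw [hAcomm y hyA b hb'.1]; exact h1
  by_cases hAL : A ≤ L
  · by_cases hAE : A ≤ E
    · apply SetLike.coe_injective
      exact Set.eq_of_subset_of_ncard_le hAE (by omega) hfE
    · exfalso
      obtain ⟨y, hyA, hyE⟩ := SetLike.not_le_iff_exists.1 hAE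
      have := (U_case y hyA (hAL hyA) hyE A (le_inf le_rfl hAL)).1
      omega
  · exfalso
    obtain ⟨t, htA, htL⟩ := SetLike.not_le_iff_exists.1 hAL
    have hB8 : 8 ≤ ((A ⊓ L : Subgroup G) : Set G).ncard := by
      have hK : ∀ k ∈ A ⊓ L, t * k * t⁻¹ ∈ A ⊓ L := conj_mem_of_comm fun k hk => hAcomm t htA k hk.1
      have ha : t * t ∈ A ⊓ L := by rw [hAs t htA]; exact one_mem _
      obtain ⟨g1, g2⟩ := Pc.ncard_adj (A ⊓ L) t hK ha (hfA.subset inf_le_left)
      have hle : (A : Set G) ⊆ (Pc.adj (A ⊓ L) t hK ha : Set G) := by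
        intro x hx'
        by_cases hxL : x ∈ L
        · exact Or.inl ⟨hx', hxL⟩
        · exact Or.inr ⟨mul_mem htA hx', hx.mul t (hA htA) x (hA hx') htL hxL⟩
      have g3 := Set.ncard_le_ncard hle g1
      omega
    have hU : U u1 u2 ≤ A ⊓ L := by
      by_cases hBE : A ⊓ L ≤ E
      · refine (small v1 h.v1v1 (fun k hk => h.v1_U hk) (A ⊓ L) ?_).2 hB8
        intro b hb
        exact hx.cE t (hA htA) htL b (hBE hb) (hAcomm t htA b hb.1)
      · obtain ⟨y, hy, hyE⟩ := SetLike.not_le_iff_exists.1 hBE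
        exact (U_case y hy.1 hy.2 hyE (A ⊓ L) le_rfl).2 hB8
    exact hx.u2n t (hA htA) htL (hAcomm t htA u2 (hU uU2).1)

/-- `S = N_S(E)` -/
theorem le_norm [Finite G] {S1 S : Subgroup G} (hS : IsPGroup 2 S) (hx : Ext L S1 E u1 u2 v1 v2)
    (hS1 : S ⊓ normalizer (E : Set G) = S1) : S = S1 := by
  by_contra hne
  have hle : S1 ≤ S := hS1 ▸ inf_le_left
  obtain ⟨y, hyS, hy1, hyn⟩ := ONType.FusionB2.exists_normalizing hS hle (Ne.symm hne)
  apply hy1
  rw [← hS1]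
  refine ⟨hyS, ?_⟩
  change y ∈ normalizer (E : Set G)
  have hES1 : E ≤ S1 := h.E_le_L.trans hx.le
  have key : (E.map (MulAut.conj y).toMonoidHom) = E := by
    apply h.uniq hx
    · rintro x ⟨e, he, rfl⟩
      have := (hyn (y * e * y⁻¹)).2 (by
        have e1 : y⁻¹ * (y * e * y⁻¹) * y = e := by group
        rw [e1]; exact hES1 he)
      exact this
    · rw [← h.cardE]
      exact Nat.card_congr ((E.equivMapOfInjective _ (MulAut.conj y).injective).toEquiv.symm)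
    · rintro x ⟨e, he, rfl⟩
      have := h.sq_E he
      rw [← map_mul, this, map_one]
  rw [mem_normalizer_iff]
  intro e
  constructor
  · intro he
    have : (MulAut.conj y).toMonoidHom e ∈ E.map (MulAut.conj y).toMonoidHom := mem_map_of_mem _ he
    rw [key] at this
    exact this
  · intro he
    rw [← key] at he
    obtain ⟨e', he', e1⟩ := he
    have : e' = e := by
      have e2 : y * e' * y⁻¹ = y * e * y⁻¹ := e1
      exact mul_left_cancel (mul_right_cancel e2)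
    rw [← this]; exact he'

omit h in
theorem conj_map_eq {E : Subgroup G} {y : G} (key : (E.map (MulAut.conj y).toMonoidHom) = E) :
    y ∈ normalizer (E : Set G) := by
  rw [mem_normalizer_iff]
  intro e
  constructor
  · intro he
    have : (MulAut.conj y).toMonoidHom e ∈ E.map (MulAut.conj y).toMonoidHom := mem_map_of_mem _ he
    rw [key] at this
    exact this
  · intro he
    rw [← key] at he
    obtain ⟨e', he', e1⟩ := he
    have : e' = e := by
      have e2 : y * e' * y⁻¹ = y * e * y⁻¹ := e1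
      exact mul_left_cancel (mul_right_cancel e2)
    rw [← this]; exact he'

theorem inv_v1U {u y1 y2 : G} (hu : v1 * u ∈ U u1 u2) (h1 : y1 ∈ L) (h1E : y1 ∉ E) (h11 : y1 * y1 = 1)
    (h2 : y2 ∈ L) (h2E : y2 ∉ E) (h22 : y2 * y2 = 1) : u * (y1 * y2) = (y1 * y2)⁻¹ * u := by
  obtain ⟨a, ha, haU, rfl⟩ := h.inv_L h1 h1E h11
  obtain ⟨b, hb, hbU, rfl⟩ := h.inv_L h2 h2E h22
  have e1 : a * v1 * (b * v1) = a * b⁻¹ := by
    calc a * v1 * (b * v1) = a * (v1 * b) * v1 := by group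
      _ = a * b⁻¹ * (v1 * v1) := by rw [h.v1_F hb]; group
      _ = _ := by rw [h.v1v1, mul_one]
  rw [e1]
  have hF : a * b⁻¹ ∈ F f1 f2 := mul_mem ha (inv_mem hb)
  have e2 : u = v1 * (v1 * u) := by rw [← mul_assoc, h.v1v1, one_mul]
  calc u * (a * b⁻¹) = v1 * ((v1 * u) * (a * b⁻¹)) := by nth_rw 1 [e2]; group
    _ = v1 * (a * b⁻¹) * (v1 * u) := by rw [h.comm_F (h.U_le hu) hF]; group
    _ = (a * b⁻¹)⁻¹ * (v1 * (v1 * u)) := by rw [h.v1_F hF]; group
    _ = (a * b⁻¹)⁻¹ * u := by rw [← e2]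

theorem false_core [Finite G] (S : Sylow 2 G) {S1 : Subgroup G} (hx : Ext L S1 E u1 u2 v1 v2)
    (hS : (S : Subgroup G) ⊓ normalizer (E : Set G) = S1)
    (hfix : ∀ g ∈ normalizer (E : Set G), ∃ c ∈ centralizer (E : Set G), c * g ∈ normalizer (L : Set G))
    (hG : ∀ f : G →* ℤˣ, f v2 = 1) : False := by
  have hSS : (S : Subgroup G) = S1 := h.le_norm S.isPGroup' hx hS
  obtain ⟨M, hM, hidx, hME⟩ := hx.M
  have hE2 : IsPGroup 2 E := by
    intro x
    refine ⟨1, ?_⟩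
    apply Subtype.ext
    have := h.sq_E x.2
    rw [pow_one, pow_two]
    exact this
  obtain ⟨g, hg1, hg2⟩ := SylowSp4.ExtTransfer.exists_extremal S M (hSS ▸ hM) (hSS ▸ hidx) v2 h.v2v2 hG E hE2
    (fun r hr => h.E_comm hr h.v2_E)
  have key : (E.map (MulAut.conj g).toMonoidHom) = E := by
    apply h.uniq hx
    · rintro x ⟨e, he, rfl⟩
      rw [← hSS]
      exact hg2 e he
    · rw [← h.cardE]
      exact Nat.card_congr ((E.equivMapOfInjective _ (MulAut.conj g).injective).toEquiv.symm)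
    · rintro x ⟨e, he, rfl⟩
      have := h.sq_E he
      rw [← map_mul, this, map_one]
  have hgE := conj_map_eq key
  obtain ⟨c, hc, hcg⟩ := hfix g hgE
  have hcE : c ∈ normalizer (E : Set G) := by
    rw [mem_normalizer_iff]
    intro e
    constructor
    · intro he
      rw [← mem_centralizer_iff.1 hc e he, mul_inv_cancel_right]; exact he
    · intro he
      have := mem_centralizer_iff.1 hc _ he
      have e1 : c * e * c⁻¹ * c = c * (c * e * c⁻¹) := this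
      have e2 : e = c * e * c⁻¹ := by
        have : c * e = c * (c * e * c⁻¹) := by rw [← e1]; group
        exact mul_left_cancel this
      rw [e2]; exact he
  have hE' : c * g ∈ normalizer (E : Set G) := mul_mem hcE hgE
  have hv2E : g * v2 * g⁻¹ ∈ E := (mem_normalizer_iff.1 hgE v2).1 h.v2_E
  set k := c * g with hk
  have hv : k * v2 * k⁻¹ = g * v2 * g⁻¹ := by
    have := mem_centralizer_iff.1 hc _ hv2E
    calc k * v2 * k⁻¹ = c * (g * v2 * g⁻¹) * c⁻¹ := by rw [hk]; group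
      _ = g * v2 * g⁻¹ := by rw [← this]; group
  have hkv : k * v2 = g * v2 * g⁻¹ * k := by rw [← hv]; group
  rcases hME _ hv2E hg1 with hU | hU
  · -- central in `L`
    have h1 : k * f1 * k⁻¹ ∈ L := (mem_normalizer_iff.1 hcg f1).1 (h.F_le_L f1F)
    have h2 := h.L_U h1 hU
    rw [← hv] at h2
    have h3 : f1 * v2 = v2 * f1 := by
      have : k * (f1 * v2) * k⁻¹ = k * (v2 * f1) * k⁻¹ := by
        calc k * (f1 * v2) * k⁻¹ = k * f1 * k⁻¹ * (k * v2 * k⁻¹) := by group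
          _ = _ := by rw [h2]; group
      exact mul_left_cancel (mul_right_cancel this)
    exact h.v2_not_F (h.U_le (h.comm_f f1F h.f1_not_U h.v2_E h3))
  · -- `v1 U`
    have tr : ∀ f ∈ F f1 f2, f ∉ U u1 u2 → k * (f * v1) * k⁻¹ ∈ L ∧ k * (f * v1) * k⁻¹ ∉ E ∧
        k * (f * v1) * k⁻¹ * (k * (f * v1) * k⁻¹) = 1 := by
      intro f hf hfU
      refine ⟨(mem_normalizer_iff.1 hcg _).1 (mul_mem (h.F_le_L hf) h.v1_L), ?_, ?_⟩
      · intro hcon
        have h1 := (mem_normalizer_iff.1 hE' _).2 hcon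
        have h2 := (mul_mem_cancel_right h.v1_E).1 h1
        exact hfU (h.E_inf_F h2 hf)
      · calc k * (f * v1) * k⁻¹ * (k * (f * v1) * k⁻¹) = k * (f * (v1 * f) * v1) * k⁻¹ := by group
          _ = k * (v1 * v1) * k⁻¹ := by rw [h.v1_F hf]; group
          _ = 1 := by rw [h.v1v1]; group
    obtain ⟨a1, a2, a3⟩ := tr f1 f1F h.f1_not_U
    obtain ⟨b1, b2, b3⟩ := tr f2 f2F h.f2_not_U
    have h1 := h.inv_v1U hU a1 a2 a3 b1 b2 b3
    have e1 : k * (f1 * v1) * k⁻¹ * (k * (f2 * v1) * k⁻¹) = k * (f1 * f2⁻¹) * k⁻¹ := by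
      calc k * (f1 * v1) * k⁻¹ * (k * (f2 * v1) * k⁻¹) = k * (f1 * (v1 * f2) * v1) * k⁻¹ := by group
        _ = k * (f1 * f2⁻¹ * (v1 * v1)) * k⁻¹ := by rw [h.v1_F f2F]; group
        _ = _ := by rw [h.v1v1, mul_one]
    rw [e1, ← hv] at h1
    have h2 : v2 * (f1 * f2⁻¹) = (f1 * f2⁻¹)⁻¹ * v2 := by
      have : k * (v2 * (f1 * f2⁻¹)) * k⁻¹ = k * ((f1 * f2⁻¹)⁻¹ * v2) * k⁻¹ := by
        calc k * (v2 * (f1 * f2⁻¹)) * k⁻¹ = k * v2 * k⁻¹ * (k * (f1 * f2⁻¹) * k⁻¹) := by group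
          _ = (k * (f1 * f2⁻¹) * k⁻¹)⁻¹ * (k * v2 * k⁻¹) := h1
          _ = _ := by group
      exact mul_left_cancel (mul_right_cancel this)
    have hF : f1 * f2⁻¹ ∈ F f1 f2 := mul_mem f1F (inv_mem f2F)
    obtain ⟨s, hs, p, hp, g1, g2, g3, g4, g5, g6⟩ := h.nonU hF h.f12_not_U
    rw [g3] at h2
    rw [h.v1_F hF] at g2
    have h3 := mul_right_cancel h2
    have h4 := mul_right_cancel g2
    exact g6 (mul_right_cancel (h4.symm.trans h3.symm))

theorem v2_not_F1 : v2 ∉ h.F1 := by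
  rintro (hc | hc)
  · exact h.v2_not_F hc
  · exact h.v12_not_F hc

theorem F1_le_L : h.F1 ≤ L := by
  rintro x (hx | hx)
  · exact h.F_le_L hx
  · exact (mul_mem_cancel_left h.v1_L).1 (h.F_le_L hx)

theorem v1_F1 : v1 ∈ h.F1 := Pc.mem_adj _ _ _ _

theorem xor_L {b : G} (hb : b ∈ L) : Xor (v2 * b ∈ h.F1) (b ∈ h.F1) := by
  rw [h.L_eq] at hb
  rcases hb with hb | hb
  · exact Or.inr ⟨hb, fun hc => h.v2_not_F1 ((mul_mem_cancel_right hb).1 hc)⟩
  · exact Or.inl ⟨hb, fun hc => h.v2_not_F1 ((mul_mem_cancel_right hc).1 hb)⟩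

theorem E_inf_F1 {e : G} (he : e ∈ E) (hf : e ∈ h.F1) : e ∈ U u1 u2 ∨ v1 * e ∈ U u1 u2 := by
  rcases hf with hf | hf
  · exact Or.inl (h.E_inf_F he hf)
  · exact Or.inr (h.E_inf_F (mul_mem h.v1_E he) hf)

theorem ext_L : Ext L L E u1 u2 v1 v2 where
  le := le_rfl
  mul := fun s hs t ht h1 => absurd hs h1
  u2n := fun s hs h1 => absurd hs h1
  cE := fun s hs h1 => absurd hs h1
  M := by
    refine ⟨h.F1, h.F1_le_L, ?_, fun e he hf => h.E_inf_F1 he hf⟩
    exact relIindex_eq_two_iff'.2 ⟨v2, h.v2_L, fun b hb => h.xor_L hb⟩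

omit h in
theorem conj_closure {s : Set G} {K : Subgroup G} {d : G} (hs : ∀ x ∈ s, d * x * d⁻¹ ∈ K) :
    ∀ x ∈ closure s, d * x * d⁻¹ ∈ K := by
  have : closure s ≤ K.comap (MulAut.conj d).toMonoidHom := by
    rw [closure_le]
    exact hs
  exact this

/-- commutators of `L` with `E` -/
theorem comm_LE {l e : G} (hl : l ∈ L) (he : e ∈ E) : ∃ u ∈ U u1 u2, l * e = u * e * l := by
  obtain ⟨f, hf, v, hv, rfl⟩ := h.dec_L hl
  have key : ∃ u ∈ U u1 u2, f * e = u * e * f := by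
    by_cases hU : f ∈ U u1 u2
    · exact ⟨1, one_mem _, by rw [one_mul, h.E_comm (h.U_le_E hU) he]⟩
    obtain ⟨s, hs, p, hp, e1, e2, e3, e4, e5, e6⟩ := h.nonU hf hU
    obtain ⟨u, hu, hr⟩ := h.mem_E.1 he
    -- `v f = w f v` gives `f v = w v f`
    have aux : ∀ v w, w ∈ U u1 u2 → v * f = w * f * v → f * (u * v) = w * (u * v) * f := by
      intro v w hw hvw
      have e : f * v = w * (v * f) := by
        rw [hvw, mul_assoc, ← mul_assoc w w, h.sq_U hw, one_mul]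
      calc f * (u * v) = u * (f * v) := by rw [← mul_assoc, h.comm_F hf (h.U_le hu), mul_assoc]
        _ = (u * w) * (v * f) := by rw [e]; group
        _ = w * (u * v) * f := by rw [h.comm_F (h.U_le hu) (h.U_le hw)]; group
    rcases hr with rfl | rfl | rfl | rfl
    · exact ⟨1, one_mem _, by rw [one_mul, h.comm_F hf (h.U_le hu)]⟩
    · exact ⟨s, hs, aux _ _ hs e2⟩
    · exact ⟨p, hp, aux _ _ hp e3⟩
    · exact ⟨s * p, mul_mem hs hp, aux _ _ (mul_mem hs hp) (h.v12_comm hs hp e2 e3)⟩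
  obtain ⟨u, hu, e1⟩ := key
  refine ⟨u, hu, ?_⟩
  calc f * v * e = f * (v * e) := by group
    _ = f * e * v := by rw [h.E_comm hv he]; group
    _ = u * e * (f * v) := by rw [e1]; group

theorem v1_not_U : v1 ∉ U u1 u2 := fun hc => h.v1_not_F (h.U_le hc)

section D

variable {d : G} (D : GalD f1 f2 u1 u2 v1 v2 d)

include D

theorem d_not_L : d ∉ L := by
  intro hc
  have h1 := h.L_U hc (uU2 (u1 := u1) (u2 := u2))
  rw [D.du2] at h1
  have h2 := mul_right_cancel h1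
  exact h.u1_ne (by simpa using h2)

omit D in
omit h in
theorem inv_d {d : G} (D : GalD f1 f2 u1 u2 v1 v2 d) : d⁻¹ = d := inv_eq_of_mul_eq_one_right D.dd

theorem d_F : ∀ k ∈ F f1 f2, d * k * d⁻¹ ∈ F f1 f2 := by
  apply conj_closure
  rintro x (rfl | rfl)
  · rw [D.df1, mul_inv_cancel_right]; exact f1F
  · rw [D.df2, mul_inv_cancel_right]; exact inv_mem (mul_mem f1F f2F)

theorem d_F1 : ∀ k ∈ h.F1, d * k * d⁻¹ ∈ h.F1 := by
  rintro k (hk | hk)
  · exact Or.inl (h.d_F D k hk)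
  · right
    have : v1 * (d * k * d⁻¹) = d * (v1 * k) * d⁻¹ := by
      calc v1 * (d * k * d⁻¹) = (v1 * d) * k * d⁻¹ := by group
        _ = d * (v1 * k) * d⁻¹ := by rw [← D.dv1]; group
    rw [this]
    exact h.d_F D _ hk

theorem d_L : ∀ k ∈ L, d * k * d⁻¹ ∈ L := by
  have hL : ∀ k ∈ closure {f1, f2, v1, v2}, d * k * d⁻¹ ∈ L := by
    apply conj_closure
    rintro x (rfl | rfl | rfl | rfl)
    · exact h.F_le_L (h.d_F D _ f1F)
    · exact h.F_le_L (h.d_F D _ f2F)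
    · rw [D.dv1, mul_inv_cancel_right]; exact h.v1_L
    · rw [D.dv2, mul_inv_cancel_right]; exact mul_mem h.v1_L h.v2_L
  intro k hk
  exact hL k (h.hL ▸ hk)

theorem d_U : ∀ k ∈ U u1 u2, d * k * d⁻¹ ∈ U u1 u2 := by
  apply conj_closure
  rintro x (rfl | rfl)
  · rw [D.du1, mul_inv_cancel_right]; exact uU1
  · rw [D.du2, mul_inv_cancel_right]; exact mul_mem uU1 uU2

theorem dd_L : d * d ∈ L := by rw [D.dd]; exact one_mem _
theorem dd_F1 : d * d ∈ h.F1 := by rw [D.dd]; exact one_mem _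

theorem sup_eq : L ⊔ zpowers d = Pc.adj L d (h.d_L D) (h.dd_L D) := by
  apply le_antisymm
  · exact sup_le (Pc.le_adj _ _ _ _) ((zpowers_le (g := d)).2 (Pc.mem_adj _ _ _ _))
  · rintro x (hx | hx)
    · exact (le_sup_left : L ≤ L ⊔ zpowers d) hx
    · have hd : d ∈ L ⊔ zpowers d := (le_sup_right : zpowers d ≤ _) (mem_zpowers d)
      exact (mul_mem_cancel_left hd).1 ((le_sup_left : L ≤ L ⊔ zpowers d) hx)

theorem not_L {b : G} (hb : d * b ∈ L) : b ∉ L := fun hc => h.d_not_L D ((mul_mem_cancel_right hc).1 hb)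

theorem ext_D : Ext L (L ⊔ zpowers d) E u1 u2 v1 v2 := by
  rw [h.sup_eq D]
  have hdi : d⁻¹ = d := inv_eq_of_mul_eq_one_right D.dd
  refine ⟨Pc.le_adj _ _ _ _, ?_, ?_, ?_, ?_⟩
  · rintro s hs t ht hsL htL
    have hs' := hs.resolve_left hsL
    have ht' := ht.resolve_left htL
    have e : s * t = (d * (d * s) * d⁻¹) * (d * t) := by
      calc s * t = (d * d) * s * (d⁻¹ * d) * t := by rw [D.dd]; group
        _ = _ := by group
    rw [e]
    exact mul_mem (h.d_L D _ hs') ht'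
  · rintro s hs hsL hc
    have hs' := hs.resolve_left hsL
    have h1 := h.L_U hs' (uU2 (u1 := u1) (u2 := u2))
    have e1 : d * (u2 * s) = u2 * (d * s) := by
      rw [← hc, ← mul_assoc, h1]
    rw [← mul_assoc, D.du2] at e1
    have e2 : u1 * u2 * (d * s) = u2 * (d * s) := by rw [← e1]; group
    have e3 := mul_right_cancel e2
    exact h.u1_ne (by simpa using e3)
  · rintro s hs hsL e he hc
    have hs' := hs.resolve_left hsL
    obtain ⟨u, hu, e1⟩ := h.comm_LE hs' he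
    -- `d e = u e d`
    have e2 : d * e = u * e * d := by
      have : d * e * s = u * e * d * s := by
        calc d * e * s = d * s * e := by rw [mul_assoc, ← hc, ← mul_assoc]
          _ = u * e * d * s := by rw [e1]; group
      exact mul_right_cancel this
    obtain ⟨w, hw, hr⟩ := h.mem_E.1 he
    have hdw := h.d_U D w hw
    have hwE := h.U_le_E hw
    rcases hr with rfl | rfl | rfl | rfl
    · exact Or.inl hw
    · right
      rw [h.v1_U hw |>.symm, ← mul_assoc, h.v1v1, one_mul]; exact hw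
    · exfalso
      apply h.v1_not_U
      have e3 : d * w * d⁻¹ * v1 * (v2 * d) = u * w * (v2 * d) := by
        calc d * w * d⁻¹ * v1 * (v2 * d) = d * w * d⁻¹ * (v1 * v2 * d) := by group
          _ = d * (w * v2) := by rw [← D.dv2]; group
          _ = _ := by rw [e2]; group
      have e4 := mul_right_cancel e3
      exact (mul_mem_cancel_left hdw).1 (e4 ▸ mul_mem hu hw)
    · exfalso
      apply h.v1_not_U
      have d12 : d * (v1 * v2) = v2 * d := by
        rw [← mul_assoc, D.dv1, mul_assoc, D.dv2, ← mul_assoc, ← mul_assoc, h.v1v1, one_mul]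
      have e3 : d * w * d⁻¹ * (v2 * d) = u * w * v1 * (v2 * d) := by
        calc d * w * d⁻¹ * (v2 * d) = d * (w * (v1 * v2)) := by rw [← d12]; group
          _ = _ := by rw [e2]; group
      have e4 := mul_right_cancel e3
      exact (mul_mem_cancel_left (mul_mem hu hw)).1 (e4 ▸ hdw)
  · have hMle : Pc.adj h.F1 d (h.d_F1 D) (h.dd_F1 D) ≤ Pc.adj L d (h.d_L D) (h.dd_L D) := by
      rintro x (hx | hx)
      · exact Or.inl (h.F1_le_L hx)
      · exact Or.inr (h.F1_le_L hx)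
    have mL : ∀ {x}, x ∈ L → x ∈ Pc.adj h.F1 d (h.d_F1 D) (h.dd_F1 D) → x ∈ h.F1 := by
      rintro x hx (hx' | hx')
      · exact hx'
      · exact absurd hx (h.not_L D (h.F1_le_L hx'))
    have mL' : ∀ {x}, d * x ∈ L → x ∈ Pc.adj h.F1 d (h.d_F1 D) (h.dd_F1 D) → d * x ∈ h.F1 := by
      rintro x hx (hx' | hx')
      · exact absurd (h.F1_le_L hx') (h.not_L D hx)
      · exact hx'
    refine ⟨Pc.adj h.F1 d (h.d_F1 D) (h.dd_F1 D), hMle, ?_, fun e he hf =>
      h.E_inf_F1 he (mL (h.E_le_L he) hf)⟩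
    refine relIindex_eq_two_iff'.2 ⟨v2, Pc.le_adj _ _ _ _ h.v2_L, ?_⟩
    rintro b (hb | hb)
    · have hvb := mul_mem h.v2_L hb
      rcases h.xor_L hb with ⟨x1, x2⟩ | ⟨x1, x2⟩
      · exact Or.inl ⟨Or.inl x1, fun hc => x2 (mL hb hc)⟩
      · exact Or.inr ⟨Or.inl x1, fun hc => x2 (mL hvb hc)⟩
    · have d2 : d * (v2 * b) = v1 * (v2 * (d * b)) := by
        rw [← mul_assoc, D.dv2]; group
      have hvb : d * (v2 * b) ∈ L := by
        rw [d2]; exact mul_mem h.v1_L (mul_mem h.v2_L hb)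
      rcases h.xor_L hb with ⟨x1, x2⟩ | ⟨x1, x2⟩
      · refine Or.inl ⟨Or.inr ?_, fun hc => x2 (mL' hb hc)⟩
        rw [d2]; exact mul_mem h.v1_F1 x1
      · refine Or.inr ⟨Or.inr x1, fun hc => x2 ?_⟩
        have := mL' hvb hc
        rw [d2] at this
        exact (mul_mem_cancel_left h.v1_F1).1 this

end D

end Gal

/-- **GH-L2, case (T4), `F = Z₄ × Z₄`.** -/
theorem Gal.false [Finite G] {E L : Subgroup G} {f1 f2 u1 u2 v1 v2 : G} (S : Sylow 2 G)
    (h : Gal E L f1 f2 u1 u2 v1 v2)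
    (hS : (S : Subgroup G) ⊓ normalizer (E : Set G) = L ∨
      ∃ d, GalD f1 f2 u1 u2 v1 v2 d ∧ (S : Subgroup G) ⊓ normalizer (E : Set G) = L ⊔ zpowers d)
    (hfix : ∀ g ∈ normalizer (E : Set G), ∃ c ∈ centralizer (E : Set G), c * g ∈ normalizer (L : Set G))
    (hG : ∀ f : G →* ℤˣ, f v2 = 1) : False := by
  rcases hS with hS | ⟨d, D, hS⟩
  · exact h.false_core S h.ext_L hS hfix hG
  · exact h.false_core S (h.ext_D D) hS hfix hG

/-- **Frattini argument**: `E` is the Sylow `2`-subgroup of `C(E)`, and `N(E)` normalises `L C(E)`. -/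
theorem exists_fix [Finite G] {E L : Subgroup G} (hEL : E ≤ L) (hL : IsPGroup 2 L)
    (hLN : L ≤ normalizer (E : Set G))
    (hcE : ∀ x ∈ centralizer (E : Set G), (∃ n : ℕ, x ^ 2 ^ n = 1) → x ∈ E)
    (hq : ∀ g ∈ normalizer (E : Set G), ∀ l ∈ L, ∃ l' ∈ L, l'⁻¹ * (g * l * g⁻¹) ∈ centralizer (E : Set G)) :
    ∀ g ∈ normalizer (E : Set G), ∃ c ∈ centralizer (E : Set G), c * g ∈ normalizer (L : Set G) := by
  have hCN : ∀ l ∈ normalizer (E : Set G), ∀ c ∈ centralizer (E : Set G),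
      l⁻¹ * c * l ∈ centralizer (E : Set G) := by
    intro l hl c hc
    rw [mem_centralizer_iff]
    intro e he
    have he' : l * e * l⁻¹ ∈ E := (mem_normalizer_iff.1 hl e).1 he
    have h1 := mem_centralizer_iff.1 hc _ he'
    calc e * (l⁻¹ * c * l) = l⁻¹ * (l * e * l⁻¹ * c) * l := by group
      _ = l⁻¹ * c * l * e := by rw [h1]; group
  let K : Subgroup G :=
    { carrier := {x | ∃ l ∈ L, ∃ c ∈ centralizer (E : Set G), x = l * c}
      one_mem' := ⟨1, one_mem _, 1, one_mem _, (one_mul 1).symm⟩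
      mul_mem' := by
        rintro x y ⟨l, hl, c, hc, rfl⟩ ⟨l', hl', c', hc', rfl⟩
        exact ⟨l * l', mul_mem hl hl', (l'⁻¹ * c * l') * c', mul_mem (hCN l' (hLN hl') c hc) hc', by group⟩
      inv_mem' := by
        rintro x ⟨l, hl, c, hc, rfl⟩
        refine ⟨l⁻¹, inv_mem hl, l⁻¹⁻¹ * c⁻¹ * l⁻¹, hCN _ (inv_mem (hLN hl)) _ (inv_mem hc), by group⟩ }
  have hLK : L ≤ K := fun l hl => ⟨l, hl, 1, one_mem _, (mul_one l).symm⟩
  have hLp : IsPGroup 2 (L.subgroupOf K) := hL.of_injective (Subgroup.subgroupOfEquivOfLe hLK).toMonoidHom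
    (Subgroup.subgroupOfEquivOfLe hLK).injective
  let P : Sylow 2 K :=
    { toSubgroup := L.subgroupOf K
      isPGroup' := hLp
      is_maximal' := by
        intro Q hQ hle
        apply le_antisymm _ hle
        rintro ⟨x, hx⟩ hxQ
        obtain ⟨l, hl, c, hc, rfl⟩ := hx
        rw [mem_subgroupOf]
        have h1 : (⟨l, hLK hl⟩ : K) ∈ Q := hle (mem_subgroupOf.2 hl)
        have h2 := mul_mem (inv_mem h1) hxQ
        obtain ⟨n, hn⟩ := hQ ⟨_, h2⟩
        have h3 : c ^ 2 ^ n = 1 := by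
          have := congrArg (fun z : Q => ((z : K) : G)) hn
          simpa using this
        exact mul_mem hl (hEL (hcE c hc ⟨n, h3⟩)) }
  intro g hg
  have hQK : ∀ x ∈ L.map (MulAut.conj g).toMonoidHom, x ∈ K := by
    rintro x ⟨l, hl, rfl⟩
    obtain ⟨l', hl', h1⟩ := hq g hg l hl
    refine ⟨l', hl', _, h1, ?_⟩
    change g * l * g⁻¹ = _
    group
  have hQp : IsPGroup 2 ((L.map (MulAut.conj g).toMonoidHom).subgroupOf K) :=
    (hL.map _).of_injective (Subgroup.subgroupOfEquivOfLe hQK).toMonoidHom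
    (Subgroup.subgroupOfEquivOfLe hQK).injective
  obtain ⟨Q, hQ⟩ := hQp.exists_le_sylow
  have : Fact (Nat.Prime 2) := ⟨Nat.prime_two⟩
  obtain ⟨⟨k, hk⟩, hkQ⟩ := MulAction.exists_smul_eq K Q P
  obtain ⟨l, hl, c, hc, rfl⟩ := hk
  have key : ∀ x ∈ L, (c * g) * x * (c * g)⁻¹ ∈ L := by
    intro x hx
    have hx1 : g * x * g⁻¹ ∈ L.map (MulAut.conj g).toMonoidHom := ⟨x, hx, rfl⟩
    have h2 : (⟨g * x * g⁻¹, hQK _ hx1⟩ : K) ∈ Q := hQ (mem_subgroupOf.2 hx1)
    have h3 : (⟨l * c, ⟨l, hl, c, hc, rfl⟩⟩ : K) * ⟨g * x * g⁻¹, hQK _ hx1⟩ *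
        (⟨l * c, ⟨l, hl, c, hc, rfl⟩⟩ : K)⁻¹ ∈ P := by
      rw [← hkQ]
      exact ⟨_, h2, rfl⟩
    have h4 : l * c * (g * x * g⁻¹) * (l * c)⁻¹ ∈ L := h3
    have h5 := mul_mem (mul_mem (inv_mem hl) h4) hl
    have e : l⁻¹ * (l * c * (g * x * g⁻¹) * (l * c)⁻¹) * l = (c * g) * x * (c * g)⁻¹ := by group
    rwa [e] at h5
  refine ⟨c, hc, ?_⟩
  have hle : L.map (MulAut.conj (c * g)).toMonoidHom ≤ L := by
    rintro x ⟨l, hl, rfl⟩
    exact key l hl
  have heq : L.map (MulAut.conj (c * g)).toMonoidHom = L := by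
    apply SetLike.coe_injective
    apply Set.eq_of_subset_of_ncard_le hle _ (Set.toFinite _)
    apply le_of_eq
    exact Nat.card_congr ((L.equivMapOfInjective _ (MulAut.conj (c * g)).injective).toEquiv)
  exact Gal.conj_map_eq heq

end Cfsg.Agent.GH.T4Gal
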