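import Mathlib
import Cfsg.Agent.GH.T4D
import Cfsg.Agent.GH.T4Gal

/-!
# GH-L2, case (T4): the case `F = Z₄ × Z₄`
-/

set_option autoImplicit false

open Subgroup
open Cfsg.Agent.SignalizersComponents.IntrinsicBasic (cj mem_cj conj_mem_cj cj_one cj_mul
  cj_inv_cj cj_cj_inv cj_injective cj_mono mem_normalizer_iff_cj)
open Cfsg.Agent.GH.L2Tri
open Cfsg.Agent.GH.T4Gal

namespace Cfsg.Agent.GH.T4Base

variable {G : Type*} [Group G]

namespace Base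

variable {E V U L : Subgroup G} {ρ : G} [Finite G] (b : Base E V U L ρ)

include b

theorem injV {y v v' : G} (hy : y ∈ L) (hyE : y ∉ E) (hv : v ∈ V) (hv' : v' ∈ V)
    (heq : v * y * v⁻¹ * y⁻¹ = v' * y * v'⁻¹ * y⁻¹) : v = v' := by
  have h := b.tri
  have h2 : v * y * v⁻¹ = v' * y * v'⁻¹ := mul_right_cancel heq
  by_contra hne
  have h3 : v'⁻¹ * v ≠ 1 := fun h4 => hne (inv_mul_eq_one.mp h4).symm
  have h4 : v'⁻¹ * v ∈ V := V.mul_mem (V.inv_mem hv') hv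
  refine hyE (b.fix hy (h.VE h4) (b.notU h4 h3) ?_)
  calc y * (v'⁻¹ * v) * y⁻¹ = y * v'⁻¹ * (v * y * v⁻¹)⁻¹ * v := by group
    _ = y * v'⁻¹ * (v' * y * v'⁻¹)⁻¹ * v := by rw [h2]
    _ = v'⁻¹ * v := by group

theorem swapU {l l' : G} (hl : l ∈ L) (hl' : l' ∈ L) : ∃ c ∈ U, l * l' = l' * l * c := by
  refine ⟨l * l' * l⁻¹ * l'⁻¹, b.comm hl hl', ?_⟩
  rw [b.commU (L.mul_mem hl' hl) (b.comm hl hl')]; group

/-- the relations for `y` with `y² ≠ 1` -/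
theorem gal_of {y : G} (hy : y ∈ L) (hy3 : y * (ρ * y * ρ⁻¹) * (ρ * (ρ * y * ρ⁻¹) * ρ⁻¹) = 1)
    (hyy : y * y ≠ 1) : ∃ v1 ∈ V, ∃ v2 ∈ V, v1 ≠ 1 ∧ v2 ≠ 1 ∧ v1 ≠ v2 ∧
      v1 * y * v1⁻¹ * y⁻¹ = y * y ∧ v2 * y * v2⁻¹ * y⁻¹ = ρ * (y * y) * ρ⁻¹ ∧
      Gal E L y (ρ * y * ρ⁻¹) (y * y) (ρ * (y * y) * ρ⁻¹) v1 v2 := by
  have h := b.tri
  have hU := h.fourU
  have hyE : y ∉ E := fun h1 => hyy (h.sq y h1)
  have hyc := b.y_comm hy hy3
  obtain ⟨y1, hy1⟩ : ∃ y1, y1 = ρ * y * ρ⁻¹ := ⟨_, rfl⟩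
  obtain ⟨z, hz⟩ : ∃ z, z = y * y := ⟨_, rfl⟩
  obtain ⟨z1, hz1'⟩ : ∃ z1, z1 = ρ * z * ρ⁻¹ := ⟨_, rfl⟩
  obtain ⟨z2, hz2'⟩ : ∃ z2, z2 = ρ * z1 * ρ⁻¹ := ⟨_, rfl⟩
  have hy1L : y1 ∈ L := hy1 ▸ b.norm _ hy
  have hzU : z ∈ U := hz ▸ b.sq hy
  have hz1U : z1 ∈ U := hz1' ▸ h.map z hzU
  have hz1 : z ≠ 1 := hz ▸ hyy
  have hzs : z2 = z * z1 := by rw [hz2', hz1']; exact h.fourU.rho_sq h.map h.fpf hzU
  have hz11 : z1 ≠ 1 := by rw [hz1']; exact Tri.rho_ne_one hz1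
  have hzz1 : z ≠ z1 := by
    intro h1
    apply h.fpf z hzU hz1
    rw [← hz1']; exact h1.symm
  have hy1sq : y1 * y1 = z1 := by rw [hy1, hz1', hz]; group
  obtain ⟨v1, hv1, hv1y⟩ := b.surjV hy hyE hzU
  obtain ⟨v2, hv2, hv2y⟩ := b.surjV hy hyE hz1U
  have hv11 : v1 ≠ 1 := by
    intro h1
    apply hz1
    rw [← hv1y, h1]; group
  have hv21 : v2 ≠ 1 := by
    intro h1
    apply hz11
    rw [← hv2y, h1]; group
  have hv12 : v1 ≠ v2 := by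
    intro h1
    apply hzz1
    rw [← hv1y, ← hv2y, h1]
  have hv1E := h.VE hv1
  have hv2E := h.VE hv2
  have hv1L := b.E_le hv1E
  have hv2L := b.E_le hv2E
  have hv1ρ : v1 * y1 * v1⁻¹ * y1⁻¹ = z1 := by
    rw [hz1', ← hv1y, hy1]
    have h1 := h.cen v1 hv1
    nth_rw 1 [← h1]; nth_rw 2 [← h1]; group
  have hv2ρ : v2 * y1 * v2⁻¹ * y1⁻¹ = z2 := by
    rw [hz2', ← hv2y, hy1]
    have h1 := h.cen v2 hv2
    nth_rw 1 [← h1]; nth_rw 2 [← h1]; group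
  have key : ∀ {v f c : G}, v * f * v⁻¹ * f⁻¹ = c → f ∈ L → c ∈ U → v * f = f * c * v := by
    intro v f c h1 hf hc
    have h2 : v * f = c * f * v := by rw [← h1]; group
    rw [h2, b.commU hf hc]
  rw [← hy1] at hy3 hyc ⊢
  rw [← hz, ← hz1']
  refine ⟨v1, hv1, v2, hv2, hv11, hv21, hv12, hv1y, hv2y, hyc, hz.symm, hy1sq, h.sq z (h.UE hzU),
    h.sq z1 (h.UE hz1U), h.sq v1 hv1E, h.sq v2 hv2E, h.comm v1 hv1E v2 hv2E, key hv1y hy hzU,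
    key hv1ρ hy1L hz1U, key hv2y hy hz1U, ?_, ?_, ?_, h.cardE⟩
  · rw [← hzs]; exact key hv2ρ hy1L (hzs ▸ U.mul_mem hzU hz1U)
  · apply le_antisymm
    · intro x hx
      obtain ⟨v, hv, c, hc, rfl⟩ := decomp h.cardE h.VE h.UE h.cardV h.cardU h.disj hx
      have m1 : v1 ∈ closure ({z, z1, v1, v2} : Set G) := subset_closure (by simp)
      have m2 : v2 ∈ closure ({z, z1, v1, v2} : Set G) := subset_closure (by simp)
      have m3 : z ∈ closure ({z, z1, v1, v2} : Set G) := subset_closure (by simp)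
      have m4 : z1 ∈ closure ({z, z1, v1, v2} : Set G) := subset_closure (by simp)
      refine mul_mem ?_ ?_
      · rcases h.fourV.cases hv1 hv2 hv11 hv21 hv12 hv with h1 | h1 | h1 | h1 <;> rw [h1]
        · exact one_mem _
        · exact m1
        · exact m2
        · exact mul_mem m1 m2
      · rcases hU.cases hzU hz1U hz1 hz11 hzz1 hc with h1 | h1 | h1 | h1 <;> rw [h1]
        · exact one_mem _
        · exact m3
        · exact m4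
        · exact mul_mem m3 m4
    · rw [closure_le]
      intro x hx
      simp only [Set.mem_insert_iff, Set.mem_singleton_iff] at hx
      rcases hx with h1 | h1 | h1 | h1 <;> rw [h1]
      · exact h.UE hzU
      · exact h.UE hz1U
      · exact hv1E
      · exact hv2E
  · apply le_antisymm
    · intro x hx
      have m1 : v1 ∈ closure ({y, y1, v1, v2} : Set G) := subset_closure (by simp)
      have m2 : v2 ∈ closure ({y, y1, v1, v2} : Set G) := subset_closure (by simp)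
      have m3 : y ∈ closure ({y, y1, v1, v2} : Set G) := subset_closure (by simp)
      have m4 : y1 ∈ closure ({y, y1, v1, v2} : Set G) := subset_closure (by simp)
      have mE : E ≤ closure ({y, y1, v1, v2} : Set G) := by
        intro e he
        obtain ⟨v, hv, c, hc, rfl⟩ := decomp h.cardE h.VE h.UE h.cardV h.cardU h.disj he
        refine mul_mem ?_ ?_
        · rcases h.fourV.cases hv1 hv2 hv11 hv21 hv12 hv with h1 | h1 | h1 | h1 <;> rw [h1]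
          · exact one_mem _
          · exact m1
          · exact m2
          · exact mul_mem m1 m2
        · have m5 : z ∈ closure ({y, y1, v1, v2} : Set G) := by rw [hz]; exact mul_mem m3 m3
          have m6 : z1 ∈ closure ({y, y1, v1, v2} : Set G) := by rw [← hy1sq]; exact mul_mem m4 m4
          rcases hU.cases hzU hz1U hz1 hz11 hzz1 hc with h1 | h1 | h1 | h1 <;> rw [h1]
          · exact one_mem _
          · exact m5
          · exact m6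
          · exact mul_mem m5 m6
      -- some `f ∈ {1, y, y1, y y1}` with `[v1, f] = [v1, x]`
      obtain ⟨f, hfL, hfc, hf⟩ : ∃ f ∈ L, f ∈ closure ({y, y1, v1, v2} : Set G) ∧
          v1 * f * v1⁻¹ * f⁻¹ = v1 * x * v1⁻¹ * x⁻¹ := by
        rcases hU.cases hzU hz1U hz1 hz11 hzz1 (b.comm hv1L hx) with h1 | h1 | h1 | h1 <;> rw [h1]
        · exact ⟨1, L.one_mem, one_mem _, by group⟩
        · exact ⟨y, hy, m3, hv1y⟩
        · exact ⟨y1, hy1L, m4, hv1ρ⟩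
        · refine ⟨y * y1, L.mul_mem hy hy1L, mul_mem m3 m4, ?_⟩
          rw [b.comm_mul_right hy hy1L hv1L, hv1y, hv1ρ]
      have h5 : f⁻¹ * x ∈ E := by
        refine b.fix (L.mul_mem (L.inv_mem hfL) hx) hv1E (b.notU hv1 hv11) ?_
        have h6 : v1 * (f⁻¹ * x) * v1⁻¹ * (f⁻¹ * x)⁻¹ = 1 := by
          rw [b.comm_mul_right (L.inv_mem hfL) hx hv1L, ← hf,
            ← b.comm_mul_right (L.inv_mem hfL) hfL hv1L]; group
        have h7 : v1 * (f⁻¹ * x) * v1⁻¹ = f⁻¹ * x := mul_inv_eq_one.mp h6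
        calc f⁻¹ * x * v1 * (f⁻¹ * x)⁻¹ = (v1 * (f⁻¹ * x) * v1⁻¹) * v1 * (f⁻¹ * x)⁻¹ := by rw [h7]
          _ = v1 := by group
      have h6 := mul_mem hfc (mE h5)
      rwa [mul_inv_cancel_left] at h6
    · rw [closure_le]
      intro x hx
      simp only [Set.mem_insert_iff, Set.mem_singleton_iff] at hx
      rcases hx with h1 | h1 | h1 | h1 <;> rw [h1]
      · exact hy
      · exact hy1L
      · exact hv1L
      · exact hv2L

/-- rotating `y` -/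
theorem rot {y : G} (hy : y ∈ L) (hy3 : y * (ρ * y * ρ⁻¹) * (ρ * (ρ * y * ρ⁻¹) * ρ⁻¹) = 1) :
    (ρ * y * ρ⁻¹) * (ρ * (ρ * y * ρ⁻¹) * ρ⁻¹) * (ρ * (ρ * (ρ * y * ρ⁻¹) * ρ⁻¹) * ρ⁻¹) = 1 := by
  rw [b.rho3 hy]
  calc (ρ * y * ρ⁻¹) * (ρ * (ρ * y * ρ⁻¹) * ρ⁻¹) * y
      = y⁻¹ * (y * (ρ * y * ρ⁻¹) * (ρ * (ρ * y * ρ⁻¹) * ρ⁻¹)) * y := by group
    _ = 1 := by rw [hy3]; group

end Base

namespace BaseP

variable {E V U L P : Subgroup G} {ρ : G} [Finite G] (b : BaseP E V U L P ρ)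

include b

/-- the image of `y` under `d` -/
theorem img {d y : G} (hd : d ∈ P) (hdL : d ∉ L) (hdV : cj d V = V) (hy : y ∈ L)
    (hy3 : y * (ρ * y * ρ⁻¹) * (ρ * (ρ * y * ρ⁻¹) * ρ⁻¹) = 1) (hyy : y * y ≠ 1)
    (hdy : d * (y * y) * d⁻¹ = y * y) : ∃ c ∈ U, d * y * d⁻¹ = y * c := by
  have h := b.tri
  have hU := h.fourU
  have hyE : y ∉ E := fun h1 => hyy (h.sq y h1)
  have hyc := b.y_comm hy hy3
  obtain ⟨y1, hy1⟩ : ∃ y1, y1 = ρ * y * ρ⁻¹ := ⟨_, rfl⟩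
  obtain ⟨y2, hy2⟩ : ∃ y2, y2 = ρ * y1 * ρ⁻¹ := ⟨_, rfl⟩
  have hρy2 : ρ * y2 * ρ⁻¹ = y := by rw [hy2, hy1]; exact b.rho3 hy
  have hy1L : y1 ∈ L := hy1 ▸ b.norm _ hy
  have hy2L : y2 ∈ L := hy2 ▸ b.norm _ hy1L
  rw [← hy1, ← hy2] at hy3
  rw [← hy1] at hyc
  have hy2' : y2 = (y * y1)⁻¹ := (inv_eq_of_mul_eq_one_right hy3).symm
  have hyc' : Commute y y1 := hyc
  have hc02 : y * y2 = y2 * y := by
    rw [hy2']; exact ((Commute.refl y).mul_right hyc').inv_right.eq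
  have hc12 : y1 * y2 = y2 * y1 := by
    rw [hy2']; exact (hyc'.symm.mul_right (Commute.refl y1)).inv_right.eq
  obtain ⟨z, hz⟩ : ∃ z, z = y * y := ⟨_, rfl⟩
  obtain ⟨z1, hz1'⟩ : ∃ z1, z1 = ρ * z * ρ⁻¹ := ⟨_, rfl⟩
  have hzU : z ∈ U := hz ▸ b.sq hy
  have hz1U : z1 ∈ U := hz1' ▸ h.map z hzU
  have hz1 : z ≠ 1 := hz ▸ hyy
  have hz11 : z1 ≠ 1 := by rw [hz1']; exact Tri.rho_ne_one hz1
  have hzz1 : z ≠ z1 := by
    intro h1
    apply h.fpf z hzU hz1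
    rw [← hz1']; exact h1.symm
  have hy1sq : y1 * y1 = z1 := by rw [hy1, hz1', hz]; group
  have hy2sq : y2 * y2 = z * z1 := by
    have h1 := h.fourU.rho_sq h.map h.fpf hzU
    rw [← hz1'] at h1
    rw [← h1, ← hy1sq, hy2]; group
  -- `d y d⁻¹ = f e`
  obtain ⟨y', hy'⟩ : ∃ y', y' = d * y * d⁻¹ := ⟨_, rfl⟩
  have hy'L : y' ∈ L := hy' ▸ b.PL hd hy
  obtain ⟨v, hv, hv1⟩ := h.fourV.exists_ne
  have hvE := h.VE hv
  have hvL := b.E_le hvE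
  -- the list of representatives
  have hrep : ∃ f ∈ L, (f = 1 ∨ f = y ∨ f = y1 ∨ f = y2) ∧
      v * f * v⁻¹ * f⁻¹ = v * y' * v⁻¹ * y'⁻¹ := by
    obtain ⟨c, hc⟩ : ∃ c, c = v * y * v⁻¹ * y⁻¹ := ⟨_, rfl⟩
    have hcU : c ∈ U := hc ▸ b.comm hvL hy
    have hc1 : c ≠ 1 := by
      intro h1
      rw [hc] at h1
      have h2 : v * y * v⁻¹ = y := mul_inv_eq_one.mp h1
      refine hyE (b.fix hy hvE (b.notU hv hv1) ?_)
      calc y * v * y⁻¹ = (v * y * v⁻¹) * v * y⁻¹ := by rw [h2]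
        _ = v := by group
    have hρc : v * y1 * v⁻¹ * y1⁻¹ = ρ * c * ρ⁻¹ := by
      rw [hc, hy1]
      have h1 := h.cen v hv
      nth_rw 1 [← h1]; nth_rw 2 [← h1]; group
    have hρc2 : v * y2 * v⁻¹ * y2⁻¹ = c * (ρ * c * ρ⁻¹) := by
      rw [← h.fourU.rho_sq h.map h.fpf hcU, ← hρc, hy2]
      have h1 := h.cen v hv
      nth_rw 1 [← h1]; nth_rw 2 [← h1]; group
    have hc1' : ρ * c * ρ⁻¹ ≠ 1 := Tri.rho_ne_one hc1
    rcases hU.cases hcU (h.map c hcU) hc1 hc1' (Ne.symm (h.fpf c hcU hc1)) (b.comm hvL hy'L)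
      with h1 | h1 | h1 | h1 <;> rw [h1]
    · exact ⟨1, L.one_mem, Or.inl rfl, by group⟩
    · exact ⟨y, hy, Or.inr (Or.inl rfl), hc.symm⟩
    · exact ⟨y1, hy1L, Or.inr (Or.inr (Or.inl rfl)), hρc⟩
    · exact ⟨y2, hy2L, Or.inr (Or.inr (Or.inr rfl)), hρc2⟩
  obtain ⟨f, hfL, hf4, hf⟩ := hrep
  have hfE : f⁻¹ * y' ∈ E := by
    refine b.fix (L.mul_mem (L.inv_mem hfL) hy'L) hvE (b.notU hv hv1) ?_
    have h6 : v * (f⁻¹ * y') * v⁻¹ * (f⁻¹ * y')⁻¹ = 1 := by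
      rw [b.comm_mul_right (L.inv_mem hfL) hy'L hvL, ← hf,
        ← b.comm_mul_right (L.inv_mem hfL) hfL hvL]; group
    have h7 : v * (f⁻¹ * y') * v⁻¹ = f⁻¹ * y' := mul_inv_eq_one.mp h6
    calc f⁻¹ * y' * v * (f⁻¹ * y')⁻¹ = (v * (f⁻¹ * y') * v⁻¹) * v * (f⁻¹ * y')⁻¹ := by rw [h7]
      _ = v := by group
  obtain ⟨v', hv', c, hc, hvc⟩ := decomp h.cardE h.VE h.UE h.cardV h.cardU h.disj hfE
  have hy'f : y' = f * (v' * c) := by rw [← hvc]; group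
  -- the relation
  have hrel : y' * (ρ⁻¹ * y' * ρ) * (ρ⁻¹ * (ρ⁻¹ * y' * ρ) * ρ) = 1 := by
    have hC := fun {l : G} (hl : l ∈ L) => b.lemC' hd hdL hdV hl
    have h1 : ρ⁻¹ * y' * ρ = d * y1 * d⁻¹ := by rw [hy', hy1, hC hy]
    have h2 : ρ⁻¹ * (ρ⁻¹ * y' * ρ) * ρ = d * y2 * d⁻¹ := by rw [h1, hy2, hC hy1L]
    rw [h2, h1, hy']
    have e1 : d * y * d⁻¹ * (d * y1 * d⁻¹) * (d * y2 * d⁻¹) = d * (y * y1 * y2) * d⁻¹ := by group
    rw [e1, hy3]; group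
  have hi0 : ρ⁻¹ * y * ρ = y2 := by rw [← hρy2]; group
  have hi1 : ρ⁻¹ * y1 * ρ = y := by rw [hy1]; group
  have hi2 : ρ⁻¹ * y2 * ρ = y1 := by rw [hy2]; group
  have hf3 : f * (ρ⁻¹ * f * ρ) * (ρ⁻¹ * (ρ⁻¹ * f * ρ) * ρ) = 1 := by
    rcases hf4 with h1 | h1 | h1 | h1 <;> rw [h1]
    · group
    · rw [hi0, hi2, mul_assoc, ← hc12, ← mul_assoc, hy3]
    · rw [hi1, hi0, ← hyc, hy3]
    · rw [hi2, hi1, mul_assoc, ← hyc, hy2', inv_mul_cancel]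
  have hv'1 : v' = 1 := by
    have hρ' : ∀ {l : G}, l ∈ L → ρ⁻¹ * l * ρ ∈ L := fun hl => b.norm' hl
    have hv'L := b.E_le (h.VE hv')
    have hρv : ρ⁻¹ * v' * ρ = v' := by
      have h1 := h.cen v' hv'
      nth_rw 1 [← h1]; group
    have hρU : ∀ x ∈ U, ρ⁻¹ * x * ρ ∈ U := by
      intro x hx
      have h1 := conj_mem_of_cj (b.t4.normU _ (inv_mem h.norm)) hx
      rwa [inv_inv] at h1
    obtain ⟨f', hf'⟩ : ∃ f', f' = ρ⁻¹ * f * ρ := ⟨_, rfl⟩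
    obtain ⟨f'', hf''⟩ : ∃ f'', f'' = ρ⁻¹ * f' * ρ := ⟨_, rfl⟩
    have hf'L : f' ∈ L := hf' ▸ hρ' hfL
    have hf''L : f'' ∈ L := hf'' ▸ hρ' hf'L
    obtain ⟨c', hc'⟩ : ∃ c', c' = ρ⁻¹ * c * ρ := ⟨_, rfl⟩
    obtain ⟨c'', hc''⟩ : ∃ c'', c'' = ρ⁻¹ * c' * ρ := ⟨_, rfl⟩
    have hc'U : c' ∈ U := hc' ▸ hρU c hc
    have hc''U : c'' ∈ U := hc'' ▸ hρU c' hc'U
    have e1 : ρ⁻¹ * y' * ρ = f' * (v' * c') := by
      rw [hy'f]
      have e2 : ρ⁻¹ * (f * (v' * c)) * ρ = (ρ⁻¹ * f * ρ) * ((ρ⁻¹ * v' * ρ) * (ρ⁻¹ * c * ρ)) := by group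
      rw [e2, hρv, ← hf', ← hc']
    have e2 : ρ⁻¹ * (ρ⁻¹ * y' * ρ) * ρ = f'' * (v' * c'') := by
      rw [e1]
      have e3 : ρ⁻¹ * (f' * (v' * c')) * ρ = (ρ⁻¹ * f' * ρ) * ((ρ⁻¹ * v' * ρ) * (ρ⁻¹ * c' * ρ)) := by group
      rw [e3, hρv, ← hf'', ← hc'']
    rw [e2, e1, hy'f] at hrel
    rw [← hf', ← hf''] at hf3
    -- swap
    obtain ⟨s1, hs1, hs1'⟩ := b.swapU hv'L hf'L
    obtain ⟨s2, hs2, hs2'⟩ := b.swapU (L.mul_mem hv'L hv'L) hf''L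
    have hcen : ∀ {x l : G}, x ∈ U → l ∈ L → x * l = l * x := fun hx hl => (b.commU hl hx).symm
    have hc'L := b.E_le (h.UE hc'U)
    have hcL := b.E_le (h.UE hc)
    have e4 : f * (v' * c) * (f' * (v' * c')) * (f'' * (v' * c'')) =
        f * f' * f'' * v' * (s1 * s2 * c * c' * c'') := by
      have hs1L := b.E_le (h.UE hs1)
      have hs2L := b.E_le (h.UE hs2)
      calc f * (v' * c) * (f' * (v' * c')) * (f'' * (v' * c''))
          = f * v' * (c * (f' * v' * c' * f'' * v' * c'')) := by group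
        _ = f * v' * ((f' * v' * c' * f'' * v' * c'') * c) := by
            rw [hcen hc (L.mul_mem (L.mul_mem (L.mul_mem (L.mul_mem (L.mul_mem hf'L hv'L) hc'L)
              hf''L) hv'L) (b.E_le (h.UE hc''U)))]
        _ = f * (v' * f') * v' * (c' * (f'' * v' * c'')) * c := by group
        _ = f * (f' * v' * s1) * v' * ((f'' * v' * c'') * c') * c := by
            rw [hs1', hcen hc'U (L.mul_mem (L.mul_mem hf''L hv'L) (b.E_le (h.UE hc''U)))]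
        _ = f * f' * v' * (s1 * (v' * f'' * v' * c'' * c' * c)) := by group
        _ = f * f' * v' * ((v' * f'' * v' * c'' * c' * c) * s1) := by
            rw [hcen hs1 (L.mul_mem (L.mul_mem (L.mul_mem (L.mul_mem (L.mul_mem hv'L hf''L) hv'L)
              (b.E_le (h.UE hc''U))) hc'L) hcL)]
        _ = f * f' * ((v' * v') * f'') * v' * c'' * c' * c * s1 := by group
        _ = f * f' * (f'' * (v' * v') * s2) * v' * c'' * c' * c * s1 := by rw [hs2']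
        _ = f * f' * f'' * (s2 * v') * c'' * c' * c * s1 := by
            rw [h.sq v' (h.VE hv')]; group
        _ = f * f' * f'' * (v' * s2) * c'' * c' * c * s1 := by rw [hcen hs2 hv'L]
        _ = f * f' * f'' * v' * (s2 * c'' * c' * c * s1) := by group
        _ = f * f' * f'' * v' * (s1 * s2 * c * c' * c'') := by
            congr 1
            have hh : ∀ {x y : G}, x ∈ U → y ∈ U → x * y = y * x := fun hx hy =>
              h.comm _ (h.UE hx) _ (h.UE hy)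
            calc s2 * c'' * c' * c * s1 = s1 * (s2 * c'' * c' * c) :=
                  hh (U.mul_mem (U.mul_mem (U.mul_mem hs2 hc''U) hc'U) hc) hs1
              _ = s1 * (s2 * (c'' * (c' * c))) := by group
              _ = s1 * (s2 * ((c' * c) * c'')) := by rw [hh hc''U (U.mul_mem hc'U hc)]
              _ = s1 * (s2 * ((c * c') * c'')) := by rw [hh hc'U hc]
              _ = s1 * s2 * c * c' * c'' := by group
    rw [e4, hf3, one_mul] at hrel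
    have h5 : v' = (s1 * s2 * c * c' * c'')⁻¹ := eq_inv_of_mul_eq_one_left hrel
    exact h.disj v' hv' (by
      rw [h5]
      exact U.inv_mem (U.mul_mem (U.mul_mem (U.mul_mem (U.mul_mem hs1 hs2) hc) hc'U) hc''U))
  rw [hv'1, one_mul] at hy'f
  -- squares
  have hsq : f * f = z := by
    have h1 : y' * y' = z := by
      rw [hz, ← hdy, hy']; group
    have h2 : y' * y' = f * f := by
      rw [hy'f]
      calc f * c * (f * c) = f * (c * f) * c := by group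
        _ = f * (f * c) * c := by rw [← b.commU hfL hc]
        _ = f * f * (c * c) := by group
        _ = f * f := by rw [h.sq c (h.UE hc), mul_one]
    rw [← h2, h1]
  refine ⟨c, hc, ?_⟩
  rw [← hy', hy'f]
  rcases hf4 with h1 | h1 | h1 | h1
  · exfalso
    rw [h1, one_mul] at hsq
    exact hz1 hsq.symm
  · rw [h1]
  · exfalso
    rw [h1, hy1sq] at hsq
    exact hzz1 hsq.symm
  · exfalso
    rw [h1, hy2sq] at hsq
    exact hz11 (mul_eq_left.mp hsq)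

/-- **Case B**: the relations of `P`. -/
theorem caseB {y : G} (hy : y ∈ L) (hy3 : y * (ρ * y * ρ⁻¹) * (ρ * (ρ * y * ρ⁻¹) * ρ⁻¹) = 1)
    (hyy : y * y ≠ 1) : ∃ f1 f2 u1 u2 v1 v2, Gal E L f1 f2 u1 u2 v1 v2 ∧
      (P = L ∨ ∃ d, GalD f1 f2 u1 u2 v1 v2 d ∧ P = L ⊔ zpowers d) := by
  have h := b.tri
  have hU := h.fourU
  by_cases hPL : P ≤ L
  · obtain ⟨v1, -, v2, -, -, -, -, -, -, hg⟩ := b.gal_of hy hy3 hyy
    exact ⟨_, _, _, _, _, _, hg, Or.inl (le_antisymm hPL b.LP)⟩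
  obtain ⟨p, hp, hpL⟩ := SetLike.not_le_iff_exists.mp hPL
  obtain ⟨d, hd, hdL, hdV⟩ := b.exists_d hp hpL
  obtain ⟨z, hz, hz1, hdz, -⟩ := b.actU hd hdL
  -- choose `y` with `y² = z`
  obtain ⟨y, hy, hy3, hyz⟩ : ∃ y ∈ L, y * (ρ * y * ρ⁻¹) * (ρ * (ρ * y * ρ⁻¹) * ρ⁻¹) = 1 ∧ y * y = z := by
    have h1 := b.sq hy
    rcases hU.cases h1 (h.map _ h1) hyy (Tri.rho_ne_one hyy) (Ne.symm (h.fpf _ h1 hyy)) hz
      with h2 | h2 | h2 | h2
    · exact absurd h2 hz1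
    · exact ⟨y, hy, hy3, h2.symm⟩
    · exact ⟨ρ * y * ρ⁻¹, b.norm _ hy, b.rot hy hy3, by rw [h2]; group⟩
    · refine ⟨ρ * (ρ * y * ρ⁻¹) * ρ⁻¹, b.norm _ (b.norm _ hy), b.rot (b.norm _ hy) (b.rot hy hy3), ?_⟩
      rw [h2, ← h.fourU.rho_sq h.map h.fpf h1]; group
  have hyy : y * y ≠ 1 := by rw [hyz]; exact hz1
  have hyE : y ∉ E := fun h1 => hyy (h.sq y h1)
  obtain ⟨v1, hv1, v2, hv2, hv11, hv21, hv12, hv1y, hv2y, hg⟩ := b.gal_of hy hy3 hyy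
  obtain ⟨c, hc, hdy⟩ := b.img hd hdL hdV hy hy3 hyy (by rw [hyz]; exact hdz)
  obtain ⟨v, hv, hvy⟩ := b.surjV hy hyE hc
  have hvL := b.E_le (h.VE hv)
  -- adjust `d`
  obtain ⟨d1, hd1⟩ : ∃ d1, d1 = v * d := ⟨_, rfl⟩
  have hd1P : d1 ∈ P := hd1 ▸ P.mul_mem (b.LP hvL) hd
  have hd1L : d1 ∉ L := by
    intro h1
    apply hdL
    have h2 := L.mul_mem (L.inv_mem hvL) h1
    rw [hd1, inv_mul_cancel_left] at h2
    exact h2
  have hd1V : cj d1 V = V := by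
    rw [hd1, cj_mul, hdV]
    exact mem_normalizer_iff_cj.mp (le_normalizer hv)
  have hd1y : d1 * y * d1⁻¹ = y := by
    have e1 : d1 * y * d1⁻¹ = v * (d * y * d⁻¹) * v⁻¹ := by rw [hd1]; group
    have e2 : v * (y * c) * v⁻¹ = (v * y * v⁻¹ * y⁻¹) * y * (v * c * v⁻¹) := by group
    rw [e1, hdy, e2, hvy, b.cenU hvL hc, mul_assoc, b.commU hy hc, ← mul_assoc,
      h.sq c (h.UE hc), one_mul]
  have hd1z : d1 * z * d1⁻¹ = z := by
    rw [← hyz]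
    have e1 : d1 * (y * y) * d1⁻¹ = (d1 * y * d1⁻¹) * (d1 * y * d1⁻¹) := by group
    rw [e1, hd1y]
  have hC := fun {l : G} (hl : l ∈ L) => b.lemC' hd1P hd1L hd1V hl
  have hzL := b.E_le (h.UE hz)
  obtain ⟨z1, hz1'⟩ : ∃ z1, z1 = ρ * z * ρ⁻¹ := ⟨_, rfl⟩
  have hz1U : z1 ∈ U := hz1' ▸ h.map z hz
  obtain ⟨z2, hz2'⟩ : ∃ z2, z2 = ρ * z1 * ρ⁻¹ := ⟨_, rfl⟩
  have hzs : z2 = z * z1 := by rw [hz2', hz1']; exact h.fourU.rho_sq h.map h.fpf hz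
  have hρz2 : ρ * z2 * ρ⁻¹ = z := by rw [hz2', hz1']; exact b.tri.rho_cube (h.UE hz)
  have hd1z1 : d1 * z1 * d1⁻¹ = z2 := by
    rw [hz1', hC hzL, hd1z, ← hρz2]; group
  have hz11 : z1 ≠ 1 := by rw [hz1']; exact Tri.rho_ne_one hz1
  have hzz1 : z ≠ z1 := by
    intro h1
    apply h.fpf z hz hz1
    rw [← hz1']; exact h1.symm
  obtain ⟨y1, hy1⟩ : ∃ y1, y1 = ρ * y * ρ⁻¹ := ⟨_, rfl⟩
  obtain ⟨y2, hy2⟩ : ∃ y2, y2 = ρ * y1 * ρ⁻¹ := ⟨_, rfl⟩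
  have hρy2 : ρ * y2 * ρ⁻¹ = y := by rw [hy2, hy1]; exact b.rho3 hy
  have hy3' := hy3
  rw [← hy1, ← hy2] at hy3'
  have hy2' : y2 = (y * y1)⁻¹ := (inv_eq_of_mul_eq_one_right hy3').symm
  have hd1y1 : d1 * y1 * d1⁻¹ = y2 := by
    rw [hy1, hC hy, hd1y, ← hρy2]; group
  have hVd : ∀ x ∈ V, d1 * x * d1⁻¹ ∈ V := by
    intro x hx
    have := conj_mem_cj (g := d1) hx
    rwa [hd1V] at this
  have hbr : ∀ x, (d1 * x * d1⁻¹) * y * (d1 * x * d1⁻¹)⁻¹ * y⁻¹ = d1 * (x * y * x⁻¹ * y⁻¹) * d1⁻¹ := by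
    intro x
    have e1 : d1 * (x * y * x⁻¹ * y⁻¹) * d1⁻¹ =
      (d1 * x * d1⁻¹) * (d1 * y * d1⁻¹) * (d1 * x * d1⁻¹)⁻¹ * (d1 * y * d1⁻¹)⁻¹ := by group
    rw [e1, hd1y]
  have hd1v1 : d1 * v1 * d1⁻¹ = v1 := by
    refine b.injV hy hyE (hVd _ hv1) hv1 ?_
    rw [hbr, hv1y, hyz, hd1z]
  have hd1v2 : d1 * v2 * d1⁻¹ = v1 * v2 := by
    refine b.injV hy hyE (hVd _ hv2) (V.mul_mem hv1 hv2) ?_
    rw [hbr, hv2y, b.comm_mul (b.E_le (h.VE hv1)) (b.E_le (h.VE hv2)) hy, hv1y, hv2y, hyz, ← hz1',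
      hd1z1, hzs]
  -- the square
  have hsqL := b.mul_mem_L hd1P hd1L hd1P hd1L
  have hsqE : d1 * d1 ∈ E := by
    refine b.fix hsqL (h.VE hv1) (b.notU hv1 hv11) ?_
    have e1 : d1 * d1 * v1 * (d1 * d1)⁻¹ = d1 * (d1 * v1 * d1⁻¹) * d1⁻¹ := by group
    rw [e1, hd1v1, hd1v1]
  have hsqU : d1 * d1 ∈ U := by
    by_contra hcon
    apply hyE
    refine b.fix hy hsqE hcon ?_
    have e1 : d1 * d1 * y * (d1 * d1)⁻¹ = y := by
      have e2 : d1 * d1 * y * (d1 * d1)⁻¹ = d1 * (d1 * y * d1⁻¹) * d1⁻¹ := by group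
      rw [e2, hd1y, hd1y]
    calc y * (d1 * d1) * y⁻¹ = (d1 * d1 * y * (d1 * d1)⁻¹) * (d1 * d1) * y⁻¹ := by rw [e1]
      _ = d1 * d1 := by group
  have hsq2 : d1 * d1 = 1 ∨ d1 * d1 = z := by
    have h1 : d1 * (d1 * d1) * d1⁻¹ = d1 * d1 := by group
    rcases hU.cases hz hz1U hz1 hz11 hzz1 hsqU with h2 | h2 | h2 | h2
    · exact Or.inl h2
    · exact Or.inr h2
    · exfalso
      rw [h2, hd1z1, hzs] at h1
      exact hz1 (mul_eq_right.mp h1)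
    · exfalso
      rw [h2] at h1
      have e1 : d1 * (z * z1) * d1⁻¹ = (d1 * z * d1⁻¹) * (d1 * z1 * d1⁻¹) := by group
      rw [e1, hd1z, hd1z1, hzs, ← mul_assoc, h.sq z (h.UE hz), one_mul] at h1
      exact hz1 (mul_eq_right.mp h1.symm)
  -- adjust by `U`
  obtain ⟨d2, k, hk, hd2, hd2sq⟩ : ∃ d2, ∃ k ∈ U, d2 = k * d1 ∧ d2 * d2 = 1 := by
    rcases hsq2 with h1 | h1
    · exact ⟨d1, 1, U.one_mem, (one_mul _).symm, h1⟩
    · refine ⟨z1 * d1, z1, hz1U, rfl, ?_⟩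
      have e1 : z1 * d1 * (z1 * d1) = z1 * (d1 * z1 * d1⁻¹) * (d1 * d1) := by group
      rw [e1, hd1z1, h1, hzs]
      have hzc := h.comm z (h.UE hz) z1 (h.UE hz1U)
      calc z1 * (z * z1) * z = z1 * (z1 * z) * z := by rw [hzc]
        _ = (z1 * z1) * (z * z) := by group
        _ = 1 := by rw [h.sq z (h.UE hz), h.sq z1 (h.UE hz1U), mul_one]
  have hact : ∀ {x x' : G}, x' ∈ L → d1 * x * d1⁻¹ = x' → d2 * x = x' * d2 := by
    intro x x' hx' h1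
    have e1 : d2 * x = k * (d1 * x * d1⁻¹) * d1 := by rw [hd2]; group
    rw [e1, h1, ← b.commU hx' hk, hd2, mul_assoc]
  have hv1L := b.E_le (h.VE hv1)
  have hv2L := b.E_le (h.VE hv2)
  have hy1L : y1 ∈ L := hy1 ▸ b.norm _ hy
  have hy2L : y2 ∈ L := hy2 ▸ b.norm _ hy1L
  have hz1L := b.E_le (h.UE hz1U)
  have hz2L : z2 ∈ L := hzs ▸ L.mul_mem hzL hz1L
  rw [hyz, ← hy1, ← hz1'] at hg
  refine ⟨y, y1, z, z1, v1, v2, hg, Or.inr ⟨d2, ⟨hd2sq, hact hzL hd1z, ?_, hact hv1L hd1v1,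
    hact (L.mul_mem hv1L hv2L) hd1v2, hact hy hd1y, ?_⟩, ?_⟩⟩
  · rw [← hzs]; exact hact hz2L hd1z1
  · rw [← hy2']; exact hact hy2L hd1y1
  · have hd2P : d2 ∈ P := hd2 ▸ P.mul_mem (b.LP (b.E_le (h.UE hk))) hd1P
    have hd2L : d2 ∉ L := by
      intro h1
      apply hd1L
      have h2 := L.mul_mem (L.inv_mem (b.E_le (h.UE hk))) h1
      rw [hd2, inv_mul_cancel_left] at h2
      exact h2
    apply le_antisymm
    · intro g hg
      rcases (b.mem_P_iff hd2P hd2L g).mp hg with h1 | h1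
      · exact mem_sup_left h1
      · have h2 : g = (g * d2) * d2⁻¹ := by group
        rw [h2]
        exact mul_mem (mem_sup_left h1) (mem_sup_right (inv_mem (mem_zpowers d2)))
    · exact sup_le b.LP (zpowers_le.mpr hd2P)

/-- **Case B is impossible.** -/
theorem caseB_false (S : Sylow 2 G) (hS : (S : Subgroup G) ⊓ normalizer (E : Set G) = P)
    (hG : ∀ f : G →* ℤˣ, ∀ g, f g = 1) {y : G} (hy : y ∈ L)
    (hy3 : y * (ρ * y * ρ⁻¹) * (ρ * (ρ * y * ρ⁻¹) * ρ⁻¹) = 1) : y * y = 1 := by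
  by_contra hyy
  obtain ⟨f1, f2, u1, u2, v1, v2, hg, hP⟩ := b.caseB hy hy3 hyy
  refine Gal.false S hg ?_ ?_ (fun f => hG f v2)
  · rcases hP with h1 | ⟨d, hd, h1⟩
    · exact Or.inl (hS.trans h1)
    · exact Or.inr ⟨d, hd, hS.trans h1⟩
  · refine exists_fix b.E_le b.syl.pgrp (fun l hl => (b.mem_T0 hl).1) ?_ ?_
    · rintro x hx ⟨n, hn⟩
      exact b.hC x hx n hn
    · intro g hg l hl
      exact b.exists_l (conj_T0 hg (b.t4.normU g hg) (b.mem_T0 hl))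

end BaseP

end Cfsg.Agent.GH.T4Base
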