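import Cfsg.Agent.GH.L2Pair
import Cfsg.Agent.GH.T4Base

/-!
# GH-L2, case (T4): the centralizers of the involutions of `V`
-/

set_option autoImplicit false

open Cfsg Subgroup
open Cfsg.Agent.GH.L2Tri Cfsg.Agent.GH.XSet Cfsg.Agent.GH.L2Pair

namespace Cfsg.Agent.GH.T4Base

theorem card_le_two_mul {G : Type*} [Group G] [Finite G] {P E : Subgroup G}
    (h : ∀ a ∈ P, ∀ b ∈ P, a ∉ E → b ∉ E → a * b ∈ E) : Nat.card P ≤ 2 * Nat.card E := by
  by_cases hPE : P ≤ E
  · have h1 := Nat.card_le_card_of_injective _ (inclusion_injective hPE)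
    omega
  obtain ⟨a, ha, haE⟩ := SetLike.not_le_iff_exists.mp hPE
  have h1 : (P : Set G) ⊆ (E : Set G) ∪ (fun e => a⁻¹ * e) '' (E : Set G) := by
    intro b hb
    by_cases hbE : b ∈ E
    · exact Or.inl hbE
    · exact Or.inr ⟨a * b, h a ha b hb haE hbE, by simp⟩
  have h2 : Nat.card P = Set.ncard (P : Set G) := rfl
  have h3 : Nat.card E = Set.ncard (E : Set G) := rfl
  rw [h2, h3]
  have h4 := Set.ncard_le_ncard h1 (Set.toFinite _)
  have h5 := Set.ncard_union_le (E : Set G) ((fun e => a⁻¹ * e) '' (E : Set G))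
  have h6 := Set.ncard_image_le (f := fun e => a⁻¹ * e) (Set.toFinite (E : Set G))
  omega

variable {G : Type*} [Group G] [Finite G] {X : Set G} {N : ℕ} {V L U : Subgroup G} {ρ : G}

/-- In case (T4) the 2-subgroups of `C(v)` have order at most 32. -/
theorem card_le_of_quad (h : XSet X N) (q : Quad X V L U ρ) (hr : PRankLE 2 4 G)
    (t4 : T4 (V ⊔ U) V U ρ) {v : G} (hv : v ∈ V) (hv1 : v ≠ 1) (T : Subgroup G)
    (hT : IsPGroup 2 T) (hTv : ∀ t ∈ T, t * v = v * t) : Nat.card T ≤ 32 := by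
  have tt := q.tri h
  have hE : V ⊔ U ≤ centralizer ({v} : Set G) := by
    intro e he
    rw [mem_centralizer_singleton_iff]
    exact tt.comm e he v (tt.VE hv)
  obtain ⟨P, hP, hEP⟩ := exists_sylIn hE (isPGroup_of_sq tt.sq)
  have hTC : T ≤ centralizer ({v} : Set G) := by
    intro t ht
    rw [mem_centralizer_singleton_iff]
    exact hTv t ht
  have h1 := hP.card_le hTC hT
  have h2 := (q.t4_T h hr t4 hv hv1 hP.pgrp hEP (fun t ht => by
    exact mem_centralizer_singleton_iff.mp (hP.le ht))).2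
  have h3 := card_le_two_mul h2
  rw [tt.cardE] at h3
  omega

end Cfsg.Agent.GH.T4Base
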