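import Cfsg.Agent.GH.T4Main
import Cfsg.Agent.GH.T4Quad
import Cfsg.Agent.GH.L2.TFourGrow
import Cfsg.Agent.GHTypes.TFour

/-!
# GH-L2, case (T4): the final theorem
-/

set_option autoImplicit false

open Cfsg Subgroup
open Cfsg.Agent.SignalizersComponents.IntrinsicBasic (cj mem_cj conj_mem_cj)
open Cfsg.Agent.GH.L2Tri Cfsg.Agent.GH.XSet Cfsg.Agent.GH.L2Pair
open Cfsg.Agent.GH.Defs

namespace Cfsg.Agent.GH.T4Base

variable {G : Type*} [Group G] [Finite G]

theorem sylow_equiv (S S' : Sylow 2 G) :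
    Nonempty ((S : Subgroup G) ≃* (S' : Subgroup G)) := ⟨S.equiv S'⟩

/-- **(T4)**: the Sylow 2-subgroups of `G` are of type `PSL₃(4)`, `PSL₄(5)` or `J₂`. -/
theorem main {E V U : Subgroup G} {ρ : G} (h : Tri E V U ρ) (t : T4 E V U ρ)
    (hC : ∀ p ∈ centralizer (E : Set G), ∀ n, p ^ (2 ^ n) = 1 → p ∈ E)
    (hK : ∀ v ∈ V, v ≠ 1 → ∀ T : Subgroup G, IsPGroup 2 T → (∀ x ∈ T, x * v = v * x) →
      Nat.card T ≤ 32)
    (hG : ∀ f : G →* ℤˣ, ∀ g, f g = 1) (S : Sylow 2 G) :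
    SylOf (S : Subgroup G) Spor.J2 ∨ TypeL34 (S : Subgroup G) ∨ TypeL4 (S : Subgroup G) := by
  obtain ⟨S₁, X, Y, Z, r, R⟩ := exists_ready h t hC hG
  have K : ∀ T' : Subgroup G, IsPGroup 2 T' → T' ≤ centralizer ({X 1} : Set G) →
      Nat.card T' ≤ 32 := by
    intro T' hT' hTc
    obtain ⟨k, hk⟩ := R.X1
    have h1 : k * X 1 * k⁻¹ ≠ 1 := by
      intro h2
      have h3 : X 1 = 1 := by
        have e1 : X 1 = k⁻¹ * (k * X 1 * k⁻¹) * k := by group
        rw [e1, h2]; group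
      exact absurd (R.ut.X_inj (h3.trans R.ut.X0.symm)) (by decide)
    have h2 := hK _ hk h1 (cj k T') (hT'.map _) (by
      rintro _ ⟨x, hx, rfl⟩
      have h3 := mem_centralizer_singleton_iff.mp (hTc hx)
      change k * x * k⁻¹ * (k * X 1 * k⁻¹) = k * X 1 * k⁻¹ * (k * x * k⁻¹)
      calc k * x * k⁻¹ * (k * X 1 * k⁻¹) = k * (x * X 1) * k⁻¹ := by group
        _ = k * (X 1 * x) * k⁻¹ := by rw [h3]
        _ = k * X 1 * k⁻¹ * (k * x * k⁻¹) := by group)
    rwa [show Nat.card (cj k T') = Nat.card T' from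
      card_map_of_injective (MulAut.conj k).injective] at h2
  rcases L2.TFour.growth_main S₁ R.ut R.memE R.three R.rX R.rY R.rZ R.cases K hG with
    hN | ⟨X', Y', Z', t', S', ut', tt, tX, tZ, mem⟩
  · obtain ⟨e⟩ := sylow_equiv S₁ S
    rcases R.cases with h1 | ⟨d, dd, dX, dY, dZ, h1⟩
    · refine Or.inr (Or.inl ((Cfsg.Agent.GHTypes.TFour.typeL34 (S := (S₁ : Subgroup G)) R.ut
        fun g => ?_).congr e))
      rw [← h1]
      exact ⟨fun hg => ⟨hg, hN hg⟩, fun hg => hg.1⟩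
    · refine Or.inr (Or.inr ((Cfsg.Agent.GHTypes.TFour.typeL4 (S := (S₁ : Subgroup G)) R.ut dd dX
        dY dZ fun g => ?_).congr e))
      rw [← h1]
      exact ⟨fun hg => ⟨hg, hN hg⟩, fun hg => hg.1⟩
  · obtain ⟨e⟩ := sylow_equiv S' S
    exact Or.inl ((Cfsg.Agent.GHTypes.TFour.sylOf_J2 (S := (S' : Subgroup G)) ut' tt tX tZ
      mem).congr e)

/-- **(T4)** on the configurations of `L2Pair`. -/
theorem main_quad {X : Set G} {N : ℕ} {V L U : Subgroup G} {ρ : G} (h : XSet X N)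
    (q : Quad X V L U ρ) (hr : PRankLE 2 4 G) (t4 : T4 (V ⊔ U) V U ρ)
    (hG : ∀ f : G →* ℤˣ, ∀ g, f g = 1) (S : Sylow 2 G) :
    SylOf (S : Subgroup G) Spor.J2 ∨ TypeL34 (S : Subgroup G) ∨ TypeL4 (S : Subgroup G) := by
  refine main (q.tri h) t4 ?_ (fun v hv hv1 T hT hTv => card_le_of_quad h q hr t4 hv hv1 T hT hTv)
    hG S
  intro p hp n hn
  exact q.cen_E h hr t4.move p (fun e he => (mem_centralizer_iff.mp hp e he).symm) n hn

/-- a simple nonabelian group has no homomorphism onto `± 1` -/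
theorem hom_trivial (hyp : Hyp G) (f : G →* ℤˣ) (g : G) : f g = 1 := by
  have := hyp.simple
  rcases f.normal_ker.eq_bot_or_eq_top with h1 | h1
  · exfalso
    obtain ⟨a, b, hab⟩ := hyp.exists_not_comm
    apply hab
    have h2 : Function.Injective f := (MonoidHom.ker_eq_bot_iff f).mp h1
    apply h2
    rw [map_mul, map_mul, mul_comm]
  · have h2 : g ∈ f.ker := by rw [h1]; exact mem_top g
    exact h2

/-- **(T4)**: the type of `S`. -/
theorem sType (hyp : Hyp G) {X : Set G} {N : ℕ} {V L U : Subgroup G} {ρ : G} (h : XSet X N)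
    (q : Quad X V L U ρ) (hr : PRankLE 2 4 G) (t4 : T4 (V ⊔ U) V U ρ) (S : Sylow 2 G) :
    SType (S : Subgroup G) := by
  rcases main_quad h q hr t4 (hom_trivial hyp) S with h1 | h1 | h1
  · exact Or.inr (Or.inr (Or.inl h1))
  · exact Or.inr (Or.inr (Or.inr (Or.inr (Or.inl h1))))
  · exact Or.inr (Or.inr (Or.inr (Or.inr (Or.inr (Or.inr (Or.inl h1))))))

end Cfsg.Agent.GH.T4Base
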