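import Mathlib
import Cfsg.Agent.GH.T4Defs
import Cfsg.Agent.ONType.FusionB2

/-!
# GH-L2, case (T4): growth

`L = {Y b X a Z c}` of type `UT₃(4)`, `E = {X a Z c}`, `F = {Y b Z c}`; `P = N_S(E)` is `L` or `L ⟨d⟩` (`d` = field
automorphism).  If `P < S` then `S = P ⟨t⟩` with `t` swapping `E` and `F`.
-/

set_option autoImplicit false

open Subgroup

namespace Cfsg.Agent.GH.T4Grow

open Cfsg.Agent.J2Sylow.Model Cfsg.Agent.J2Sylow.Model.F4
open Cfsg.Agent.GH.T4Defs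

variable {G : Type*} [Group G]

/-- a subgroup of index at most two -/
theorem card_le_two_mul [Finite G] {A B : Subgroup G} {s : G} (h : ∀ x ∈ A, x ∈ B ∨ s * x ∈ B) :
    Nat.card A ≤ 2 * Nat.card B := by
  have h1 : (A : Set G) ⊆ (B : Set G) ∪ (fun g => s⁻¹ * g) '' (B : Set G) := by
    intro x hx
    rcases h x hx with h | h
    · exact Or.inl h
    · exact Or.inr ⟨s * x, h, by simp⟩
  have h2 := Set.ncard_le_ncard h1 (Set.toFinite _)
  have h3 := Set.ncard_union_le (B : Set G) ((fun g => s⁻¹ * g) '' (B : Set G))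
  have h4 := Set.ncard_image_le (Set.toFinite (B : Set G)) (f := fun g => s⁻¹ * g)
  change (A : Set G).ncard ≤ 2 * (B : Set G).ncard
  omega

section

variable {X Y Z : F4 → G} (h : UT X Y Z)

include h

/-- `E` -/
def EE : Subgroup G where
  carrier := {g | ∃ a c, g = X a * Z c}
  one_mem' := ⟨0, 0, by rw [h.X0, h.Z0, one_mul]⟩
  mul_mem' := by
    rintro _ _ ⟨a, c, rfl⟩ ⟨a', c', rfl⟩
    refine ⟨a + a', c + c', ?_⟩
    calc X a * Z c * (X a' * Z c') = X a * (Z c * X a') * Z c' := by group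
      _ = (X a * X a') * (Z c * Z c') := by rw [h.ZX]; group
      _ = _ := by rw [h.XX, h.ZZ]
  inv_mem' := by
    rintro _ ⟨a, c, rfl⟩
    exact ⟨a, c, by rw [mul_inv_rev, h.Zinv, h.Xinv, h.ZX]⟩

/-- `F` -/
def FF : Subgroup G where
  carrier := {g | ∃ b c, g = Y b * Z c}
  one_mem' := ⟨0, 0, by rw [h.Y0, h.Z0, one_mul]⟩
  mul_mem' := by
    rintro _ _ ⟨a, c, rfl⟩ ⟨a', c', rfl⟩
    refine ⟨a + a', c + c', ?_⟩
    calc Y a * Z c * (Y a' * Z c') = Y a * (Z c * Y a') * Z c' := by group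
      _ = (Y a * Y a') * (Z c * Z c') := by rw [h.ZY]; group
      _ = _ := by rw [h.YY, h.ZZ]
  inv_mem' := by
    rintro _ ⟨a, c, rfl⟩
    exact ⟨a, c, by rw [mul_inv_rev, h.Zinv, h.Yinv, h.ZY]⟩

theorem mem_EE {g : G} : g ∈ EE h ↔ ∃ a c, g = X a * Z c := Iff.rfl
theorem mem_FF {g : G} : g ∈ FF h ↔ ∃ b c, g = Y b * Z c := Iff.rfl

theorem EE_le_L : EE h ≤ h.L := by
  rintro _ ⟨a, c, rfl⟩
  exact ⟨a, 0, c, by rw [h.Y0, one_mul]⟩

theorem FF_le_L : FF h ≤ h.L := by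
  rintro _ ⟨a, c, rfl⟩
  exact ⟨0, a, c, by rw [h.X0, mul_one]⟩

theorem X_mem (a : F4) : X a ∈ EE h := ⟨a, 0, by rw [h.Z0, mul_one]⟩
theorem Y_mem (a : F4) : Y a ∈ FF h := ⟨a, 0, by rw [h.Z0, mul_one]⟩
theorem Z_mem_E (a : F4) : Z a ∈ EE h := ⟨0, a, by rw [h.X0, one_mul]⟩
theorem Z_mem_F (a : F4) : Z a ∈ FF h := ⟨0, a, by rw [h.Y0, one_mul]⟩

theorem card_EE : Nat.card (EE h) = 16 := by
  let f : F4 × F4 → EE h := fun p => ⟨X p.1 * Z p.2, p.1, p.2, rfl⟩
  have hf : Function.Bijective f := by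
    constructor
    · rintro ⟨a, c⟩ ⟨a', c'⟩ he
      have h0 : X a * Z c = X a' * Z c' := congrArg Subtype.val he
      have h1 : Y 0 * X a * Z c = Y 0 * X a' * Z c' := by rw [h.Y0, one_mul, one_mul]; exact h0
      obtain ⟨h2, -, h3⟩ := h.nf_inj h1
      rw [h2, h3]
    · rintro ⟨_, a, c, rfl⟩
      exact ⟨(a, c), rfl⟩
  rw [← Nat.card_congr (Equiv.ofBijective f hf), Nat.card_prod, Nat.card_eq_fintype_card]
  decide

theorem card_FF : Nat.card (FF h) = 16 := by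
  let f : F4 × F4 → FF h := fun p => ⟨Y p.1 * Z p.2, p.1, p.2, rfl⟩
  have hf : Function.Bijective f := by
    constructor
    · rintro ⟨a, c⟩ ⟨a', c'⟩ he
      have h0 : Y a * Z c = Y a' * Z c' := congrArg Subtype.val he
      have h1 : Y a * X 0 * Z c = Y a' * X 0 * Z c' := by rw [h.X0, mul_one, mul_one]; exact h0
      obtain ⟨-, h2, h3⟩ := h.nf_inj h1
      rw [h2, h3]
    · rintro ⟨_, a, c, rfl⟩
      exact ⟨(a, c), rfl⟩
  rw [← Nat.card_congr (Equiv.ofBijective f hf), Nat.card_prod, Nat.card_eq_fintype_card]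
  decide

theorem sq_EE {g : G} (hg : g ∈ EE h) : g * g = 1 := by
  obtain ⟨a, c, rfl⟩ := hg
  calc X a * Z c * (X a * Z c) = X a * (Z c * X a) * Z c := by group
    _ = (X a * X a) * (Z c * Z c) := by rw [h.ZX]; group
    _ = 1 := by rw [h.Xsq, h.Zsq, one_mul]

theorem sq_FF {g : G} (hg : g ∈ FF h) : g * g = 1 := by
  obtain ⟨a, c, rfl⟩ := hg
  calc Y a * Z c * (Y a * Z c) = Y a * (Z c * Y a) * Z c := by group
    _ = (Y a * Y a) * (Z c * Z c) := by rw [h.ZY]; group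
    _ = 1 := by rw [h.Ysq, h.Zsq, one_mul]

/-- involutions of `L` -/
theorem invol_L {g : G} (hg : g ∈ h.L) (hgg : g * g = 1) : g ∈ EE h ∨ g ∈ FF h := by
  obtain ⟨a, b, c, rfl⟩ := hg
  rw [h.mul_nf, F4.add_self, F4.add_self, F4.add_self, h.X0, h.Y0, zero_add, one_mul, one_mul] at hgg
  have hab : a * b = 0 := by
    by_contra hne
    exact h.Z1 _ hne hgg
  have key : ∀ a b : F4, a * b = 0 → a = 0 ∨ b = 0 := by decide
  rcases key a b hab with rfl | rfl
  · right; exact ⟨b, c, by rw [h.X0, mul_one]⟩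
  · left; exact ⟨a, c, by rw [h.Y0, one_mul]⟩

/-- `E ∩ F = U` -/
theorem E_inf_F {g : G} (hE : g ∈ EE h) (hF : g ∈ FF h) : ∃ c, g = Z c := by
  obtain ⟨a, c, rfl⟩ := hE
  obtain ⟨b, c', e⟩ := hF
  have h1 : Y 0 * X a * Z c = Y b * X 0 * Z c' := by rw [h.Y0, h.X0, one_mul, mul_one]; exact e
  obtain ⟨h2, -, -⟩ := h.nf_inj h1
  exact ⟨c, by rw [h2, h.X0, one_mul]⟩

/-- elements of `E - U` and `F - U` do not commute -/
theorem comm_EF {x y : G} (hx : x ∈ EE h) (hy : y ∈ FF h) (hc : x * y = y * x) : x ∈ FF h ∨ y ∈ EE h := by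
  obtain ⟨a, c, rfl⟩ := hx
  obtain ⟨b, c', rfl⟩ := hy
  have e1 : X a * Z c = Y 0 * X a * Z c := by rw [h.Y0, one_mul]
  have e2 : Y b * Z c' = Y b * X 0 * Z c' := by rw [h.X0, mul_one]
  rw [e1, e2, h.mul_nf, h.mul_nf] at hc
  obtain ⟨-, -, h3⟩ := h.nf_inj hc
  have key : ∀ a b c c' : F4, c + c' + a * b = c' + c + 0 * 0 → a = 0 ∨ b = 0 := by decide
  rcases key a b c c' h3 with rfl | rfl
  · left; exact ⟨0, c, by rw [h.X0, h.Y0]⟩
  · right; exact ⟨0, c', by rw [h.X0, h.Y0]⟩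

/-- a commuting set of involutions of `L` lies in `E` or in `F` -/
theorem le_or {B : Subgroup G} (hB : B ≤ h.L) (hBs : ∀ x ∈ B, x * x = 1) (hBc : ∀ x ∈ B, ∀ y ∈ B, x * y = y * x) :
    B ≤ EE h ∨ B ≤ FF h := by
  by_contra hcon
  rw [not_or] at hcon
  obtain ⟨x, hx, hxE⟩ := SetLike.not_le_iff_exists.1 hcon.1
  obtain ⟨y, hy, hyF⟩ := SetLike.not_le_iff_exists.1 hcon.2
  have hxF := (invol_L h (hB hx) (hBs x hx)).resolve_left hxE
  have hyE := (invol_L h (hB hy) (hBs y hy)).resolve_right hyF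
  rcases comm_EF h hyE hxF (hBc y hy x hx) with h1 | h1
  · exact hyF h1
  · exact hxE h1

theorem L_X {l : G} (hl : l ∈ h.L) : ∃ a b : F4, (∀ a' c', l * (X a' * Z c') = X a' * Z (c' + a' * b) * l) ∧
    (∀ b' c', l * (Y b' * Z c') = Y b' * Z (c' + a * b') * l) := by
  obtain ⟨a, b, c, rfl⟩ := hl
  refine ⟨a, b, fun a' c' => ?_, fun b' c' => ?_⟩
  · have e1 : ∀ c, X a' * Z c = Y 0 * X a' * Z c := fun c => by rw [h.Y0, one_mul]
    rw [e1, e1, h.mul_nf, h.mul_nf]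
    have k1 : b + 0 = 0 + b := by ring
    have k2 : a + a' = a' + a := by ring
    have k3 : c + c' + a * 0 = c' + a' * b + c + a' * b := by
      linear_combination (-(a' * b)) * F4.two_eq
    rw [k1, k2, k3]
  · have e1 : ∀ c, Y b' * Z c = Y b' * X 0 * Z c := fun c => by rw [h.X0, mul_one]
    rw [e1, e1, h.mul_nf, h.mul_nf]
    have k1 : b + b' = b' + b := by ring
    have k2 : a + 0 = 0 + a := by ring
    have k3 : c + c' + a * b' = c' + a * b' + c + 0 * b := by ring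
    rw [k1, k2, k3]

theorem L_norm_E {l : G} (hl : l ∈ h.L) {x : G} (hx : x ∈ EE h) : l * x * l⁻¹ ∈ EE h := by
  obtain ⟨a, b, h1, -⟩ := L_X h hl
  obtain ⟨a', c', rfl⟩ := hx
  rw [h1, mul_inv_cancel_right]
  exact ⟨_, _, rfl⟩

theorem L_norm_F {l : G} (hl : l ∈ h.L) {x : G} (hx : x ∈ FF h) : l * x * l⁻¹ ∈ FF h := by
  obtain ⟨a, b, -, h1⟩ := L_X h hl
  obtain ⟨a', c', rfl⟩ := hx
  rw [h1, mul_inv_cancel_right]
  exact ⟨_, _, rfl⟩

theorem L_Z {l : G} (hl : l ∈ h.L) (c : F4) : l * Z c = Z c * l := by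
  obtain ⟨a, b, h1, -⟩ := L_X h hl
  have := h1 0 c
  rw [h.X0, one_mul, one_mul, zero_mul, add_zero] at this
  exact this

/-- the data of the field automorphism `d` -/
structure D (X Y Z : F4 → G) (d : G) : Prop where
  dd : d * d = 1
  dX : ∀ a, d * X a = X (fr a) * d
  dY : ∀ b, d * Y b = Y (fr b) * d
  dZ : ∀ c, d * Z c = Z (fr c) * d

section

variable {d : G} (dd : D X Y Z d)

include dd

theorem D.norm_E {x : G} (hx : x ∈ EE h) : d * x * d⁻¹ ∈ EE h := by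
  obtain ⟨a, c, rfl⟩ := hx
  refine ⟨fr a, fr c, ?_⟩
  calc d * (X a * Z c) * d⁻¹ = (d * X a) * Z c * d⁻¹ := by group
    _ = X (fr a) * (d * Z c) * d⁻¹ := by rw [dd.dX]; group
    _ = _ := by rw [dd.dZ]; group

theorem D.norm_F {x : G} (hx : x ∈ FF h) : d * x * d⁻¹ ∈ FF h := by
  obtain ⟨a, c, rfl⟩ := hx
  refine ⟨fr a, fr c, ?_⟩
  calc d * (Y a * Z c) * d⁻¹ = (d * Y a) * Z c * d⁻¹ := by group
    _ = Y (fr a) * (d * Z c) * d⁻¹ := by rw [dd.dY]; group
    _ = _ := by rw [dd.dZ]; group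

/-- elements of `L d` do not centralise `U` -/
theorem D.not_cent {p : G} (hp : p * d ∈ h.L) : p * Z w ≠ Z w * p := by
  intro hc
  have h1 := L_Z h hp (fr w)
  have e1 : p * d * Z (fr w) = p * Z w * d := by
    have : d * Z (fr w) = Z w * d := by
      rw [dd.dZ, F4.fr_fr]
    rw [mul_assoc, this, mul_assoc]
  rw [e1, hc, mul_assoc] at h1
  have h2 := mul_right_cancel h1
  have h3 := h.Z_inj h2
  exact absurd h3 (by decide)

/-- the centraliser in `E` of an element of `L d` has order at most four -/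
theorem D.card_E [Finite G] {p : G} (hp : p * d ∈ h.L) {B : Subgroup G} (hB : B ≤ EE h)
    (hc : ∀ x ∈ B, p * x = x * p) : Nat.card B ≤ 4 := by
  obtain ⟨a, b, h1, -⟩ := L_X h hp
  have key : ∀ a' c', p * (X a' * Z c') = (X a' * Z c') * p → fr a' = a' ∧ c' = fr c' + fr a' * b := by
    intro a' c' he
    have e1 : p * d * (X (fr a') * Z (fr c')) = p * (X a' * Z c') * d := by
      have e2 : d * X (fr a') = X a' * d := by rw [dd.dX, F4.fr_fr]
      have e3 : d * Z (fr c') = Z c' * d := by rw [dd.dZ, F4.fr_fr]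
      calc p * d * (X (fr a') * Z (fr c')) = p * (d * X (fr a')) * Z (fr c') := by group
        _ = p * X a' * (d * Z (fr c')) := by rw [e2]; group
        _ = _ := by rw [e3]; group
    have e4 := h1 (fr a') (fr c')
    rw [e1, he] at e4
    have e5 : X a' * Z c' = X (fr a') * Z (fr c' + fr a' * b) := by
      have : X a' * Z c' * (p * d) = X (fr a') * Z (fr c' + fr a' * b) * (p * d) := by
        rw [← e4]; group
      exact mul_right_cancel this
    have e6 : Y 0 * X a' * Z c' = Y 0 * X (fr a') * Z (fr c' + fr a' * b) := by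
      rw [h.Y0, one_mul, one_mul]; exact e5
    obtain ⟨e7, -, e8⟩ := h.nf_inj e6
    exact ⟨e7.symm, e8⟩
  let S : Finset (F4 × F4) := Finset.univ.filter fun q => fr q.1 = q.1 ∧ q.2 = fr q.2 + fr q.1 * b
  have hS : S.card ≤ 4 := by
    have : ∀ b : F4, (Finset.univ.filter fun q : F4 × F4 => fr q.1 = q.1 ∧ q.2 = fr q.2 + fr q.1 * b).card ≤ 4 := by
      decide
    exact this b
  have h2 : (B : Set G) ⊆ (fun q : F4 × F4 => X q.1 * Z q.2) '' (S : Set (F4 × F4)) := by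
    intro x hx
    obtain ⟨a', c', rfl⟩ := hB hx
    refine ⟨(a', c'), ?_, rfl⟩
    simp only [S, Finset.coe_filter, Finset.mem_univ, true_and, Set.mem_ofPred_eq]
    exact key a' c' (hc _ hx)
  have h3 := Set.ncard_le_ncard h2 (Set.toFinite _)
  have h4 := Set.ncard_image_le (Set.toFinite (S : Set (F4 × F4))) (f := fun q : F4 × F4 => X q.1 * Z q.2)
  rw [Set.ncard_coe_finset] at h4
  change (B : Set G).ncard ≤ 4
  omega

theorem D.card_F [Finite G] {p : G} (hp : p * d ∈ h.L) {B : Subgroup G} (hB : B ≤ FF h)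
    (hc : ∀ x ∈ B, p * x = x * p) : Nat.card B ≤ 4 := by
  obtain ⟨a, b, -, h1⟩ := L_X h hp
  have key : ∀ a' c', p * (Y a' * Z c') = (Y a' * Z c') * p → fr a' = a' ∧ c' = fr c' + a * fr a' := by
    intro a' c' he
    have e1 : p * d * (Y (fr a') * Z (fr c')) = p * (Y a' * Z c') * d := by
      have e2 : d * Y (fr a') = Y a' * d := by rw [dd.dY, F4.fr_fr]
      have e3 : d * Z (fr c') = Z c' * d := by rw [dd.dZ, F4.fr_fr]
      calc p * d * (Y (fr a') * Z (fr c')) = p * (d * Y (fr a')) * Z (fr c') := by group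
        _ = p * Y a' * (d * Z (fr c')) := by rw [e2]; group
        _ = _ := by rw [e3]; group
    have e4 := h1 (fr a') (fr c')
    rw [e1, he] at e4
    have e5 : Y a' * Z c' = Y (fr a') * Z (fr c' + a * fr a') := by
      have : Y a' * Z c' * (p * d) = Y (fr a') * Z (fr c' + a * fr a') * (p * d) := by
        rw [← e4]; group
      exact mul_right_cancel this
    have e6 : Y a' * X 0 * Z c' = Y (fr a') * X 0 * Z (fr c' + a * fr a') := by
      rw [h.X0, mul_one, mul_one]; exact e5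
    obtain ⟨-, e7, e8⟩ := h.nf_inj e6
    exact ⟨e7.symm, e8⟩
  let S : Finset (F4 × F4) := Finset.univ.filter fun q => fr q.1 = q.1 ∧ q.2 = fr q.2 + a * fr q.1
  have hS : S.card ≤ 4 := by
    have : ∀ a : F4, (Finset.univ.filter fun q : F4 × F4 => fr q.1 = q.1 ∧ q.2 = fr q.2 + a * fr q.1).card ≤ 4 := by
      decide
    exact this a
  have h2 : (B : Set G) ⊆ (fun q : F4 × F4 => Y q.1 * Z q.2) '' (S : Set (F4 × F4)) := by
    intro x hx
    obtain ⟨a', c', rfl⟩ := hB hx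
    refine ⟨(a', c'), ?_, rfl⟩
    simp only [S, Finset.coe_filter, Finset.mem_univ, true_and, Set.mem_ofPred_eq]
    exact key a' c' (hc _ hx)
  have h3 := Set.ncard_le_ncard h2 (Set.toFinite _)
  have h4 := Set.ncard_image_le (Set.toFinite (S : Set (F4 × F4))) (f := fun q : F4 × F4 => Y q.1 * Z q.2)
  rw [Set.ncard_coe_finset] at h4
  change (B : Set G).ncard ≤ 4
  omega

end

end

/-- uniform form of the hypothesis on `P` -/
structure PP {X Y Z : F4 → G} (h : UT X Y Z) (P : Subgroup G) : Prop where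
  le : h.L ≤ P
  nE : ∀ p ∈ P, ∀ x ∈ EE h, p * x * p⁻¹ ∈ EE h
  nF : ∀ p ∈ P, ∀ x ∈ FF h, p * x * p⁻¹ ∈ FF h
  nc : ∀ p ∈ P, p ∉ h.L → p * Z w ≠ Z w * p
  cE : ∀ p ∈ P, p ∉ h.L → ∀ B : Subgroup G, B ≤ EE h → (∀ x ∈ B, p * x = x * p) → Nat.card B ≤ 4
  cF : ∀ p ∈ P, p ∉ h.L → ∀ B : Subgroup G, B ≤ FF h → (∀ x ∈ B, p * x = x * p) → Nat.card B ≤ 4
  mul : ∀ p ∈ P, ∀ q ∈ P, p ∉ h.L → q ∉ h.L → p * q ∈ h.L

theorem PP.of_L {X Y Z : F4 → G} (h : UT X Y Z) {P : Subgroup G} (hP : ∀ g, g ∈ P ↔ g ∈ h.L) : PP h P where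
  le := fun g hg => (hP g).2 hg
  nE := fun p hp x hx => L_norm_E h ((hP p).1 hp) hx
  nF := fun p hp x hx => L_norm_F h ((hP p).1 hp) hx
  nc := fun p hp hL => absurd ((hP p).1 hp) hL
  cE := fun p hp hL => absurd ((hP p).1 hp) hL
  cF := fun p hp hL => absurd ((hP p).1 hp) hL
  mul := fun p hp q hq hL => absurd ((hP p).1 hp) hL

theorem D.norm_L {X Y Z : F4 → G} (h : UT X Y Z) {d : G} (dd : D X Y Z d) {x : G} (hx : x ∈ h.L) :
    d * x * d⁻¹ ∈ h.L := by
  obtain ⟨a, b, c, rfl⟩ := hx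
  refine ⟨fr a, fr b, fr c, ?_⟩
  calc d * (Y b * X a * Z c) * d⁻¹ = (d * Y b) * X a * Z c * d⁻¹ := by group
    _ = Y (fr b) * (d * X a) * Z c * d⁻¹ := by rw [dd.dY]; group
    _ = Y (fr b) * X (fr a) * (d * Z c) * d⁻¹ := by rw [dd.dX]; group
    _ = _ := by rw [dd.dZ]; group

theorem PP.of_D [Finite G] {X Y Z : F4 → G} (h : UT X Y Z) {P : Subgroup G} {d : G} (dd : D X Y Z d)
    (hP : ∀ g, g ∈ P ↔ (g ∈ h.L ∨ g * d ∈ h.L)) : PP h P := by
  have di : d⁻¹ = d := inv_eq_of_mul_eq_one_right dd.dd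
  refine ⟨fun g hg => (hP g).2 (Or.inl hg), ?_, ?_, ?_, ?_, ?_, ?_⟩
  · intro p hp x hx
    rcases (hP p).1 hp with h1 | h1
    · exact L_norm_E h h1 hx
    · have h2 := L_norm_E h h1 (D.norm_E h dd hx)
      have e : p * d * (d * x * d⁻¹) * (p * d)⁻¹ = p * x * p⁻¹ := by
        calc p * d * (d * x * d⁻¹) * (p * d)⁻¹ = p * (d * d) * x * (d⁻¹ * d⁻¹) * p⁻¹ := by group
          _ = p * x * p⁻¹ := by rw [di, dd.dd]; group
      rwa [e] at h2
  · intro p hp x hx
    rcases (hP p).1 hp with h1 | h1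
    · exact L_norm_F h h1 hx
    · have h2 := L_norm_F h h1 (D.norm_F h dd hx)
      have e : p * d * (d * x * d⁻¹) * (p * d)⁻¹ = p * x * p⁻¹ := by
        calc p * d * (d * x * d⁻¹) * (p * d)⁻¹ = p * (d * d) * x * (d⁻¹ * d⁻¹) * p⁻¹ := by group
          _ = p * x * p⁻¹ := by rw [di, dd.dd]; group
      rwa [e] at h2
  · intro p hp hL
    exact D.not_cent h dd (((hP p).1 hp).resolve_left hL)
  · intro p hp hL B hB hc
    exact D.card_E h dd (((hP p).1 hp).resolve_left hL) hB hc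
  · intro p hp hL B hB hc
    exact D.card_F h dd (((hP p).1 hp).resolve_left hL) hB hc
  · intro p hp q hq hpL hqL
    have h1 := ((hP p).1 hp).resolve_left hpL
    have h2 := D.norm_L h dd (((hP q).1 hq).resolve_left hqL)
    have e : p * d * (d * (q * d) * d⁻¹) = p * q := by
      calc p * d * (d * (q * d) * d⁻¹) = p * (d * d) * q := by group
        _ = p * q := by rw [dd.dd, mul_one]
    rw [← e]
    exact mul_mem h1 h2

/-- conjugates of subgroups -/
abbrev cj (g : G) (A : Subgroup G) : Subgroup G := A.map (MulAut.conj g).toMonoidHom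

theorem conj_mem_cj {g x : G} {A : Subgroup G} (hx : x ∈ A) : g * x * g⁻¹ ∈ cj g A := ⟨x, hx, rfl⟩

theorem mem_cj {g x : G} {A : Subgroup G} : x ∈ cj g A ↔ g⁻¹ * x * g ∈ A := by
  constructor
  · rintro ⟨y, hy, rfl⟩
    have : g⁻¹ * ((MulAut.conj g).toMonoidHom y) * g = y := by
      simp [MulAut.conj_apply, mul_assoc]
    rw [this]; exact hy
  · intro h
    exact ⟨g⁻¹ * x * g, h, by simp [MulAut.conj_apply, mul_assoc]⟩

theorem cj_cj (a b : G) (C : Subgroup G) : cj a (cj b C) = cj (a * b) C := by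
  ext y
  rw [mem_cj, mem_cj, mem_cj]
  have : b⁻¹ * (a⁻¹ * y * a) * b = (a * b)⁻¹ * y * (a * b) := by group
  rw [this]

theorem cj_one (C : Subgroup G) : cj 1 C = C := by
  ext y
  rw [mem_cj]; simp

theorem cj_inv {a : G} {C E : Subgroup G} (h : cj a C = E) : cj a⁻¹ E = C := by
  rw [← h, cj_cj, inv_mul_cancel, cj_one]

theorem mem_normalizer_iff_cj {a : G} {E : Subgroup G} : a ∈ normalizer (E : Set G) ↔ cj a E = E := by
  constructor
  · intro h
    ext x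
    rw [mem_cj]
    have h2 := (mem_normalizer_iff.1 (inv_mem h)) x
    rw [inv_inv] at h2
    exact h2.symm
  · intro h
    rw [mem_normalizer_iff]
    intro x
    constructor
    · intro hx
      have := conj_mem_cj (g := a) hx
      rwa [h] at this
    · intro hx
      rw [← h, mem_cj] at hx
      have : a⁻¹ * (a * x * a⁻¹) * a = x := by group
      rwa [this] at hx

theorem card_cj [Finite G] (a : G) (E : Subgroup G) : Nat.card (cj a E) = Nat.card E :=
  Nat.card_congr ((E.equivMapOfInjective _ (MulAut.conj a).injective).toEquiv).symm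

theorem eq_of_le [Finite G] {A B : Subgroup G} (h : A ≤ B) (hc : Nat.card B ≤ Nat.card A) : A = B := by
  apply SetLike.coe_injective
  exact Set.eq_of_subset_of_ncard_le h hc (Set.toFinite _)

/-- the permutations of `{E, F}` induced by `S` -/
def W (S E F : Subgroup G) : Subgroup G where
  carrier := {s | s ∈ S ∧ ((cj s E = E ∧ cj s F = F) ∨ (cj s E = F ∧ cj s F = E))}
  one_mem' := ⟨one_mem _, Or.inl ⟨cj_one _, cj_one _⟩⟩
  mul_mem' := by
    rintro a b ⟨ha, h1⟩ ⟨hb, h2⟩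
    refine ⟨mul_mem ha hb, ?_⟩
    rcases h1 with ⟨h1, h1'⟩ | ⟨h1, h1'⟩ <;> rcases h2 with ⟨h2, h2'⟩ | ⟨h2, h2'⟩
    · left; rw [← cj_cj, ← cj_cj, h2, h2', h1, h1']; exact ⟨rfl, rfl⟩
    · right; rw [← cj_cj, ← cj_cj, h2, h2', h1, h1']; exact ⟨rfl, rfl⟩
    · right; rw [← cj_cj, ← cj_cj, h2, h2', h1, h1']; exact ⟨rfl, rfl⟩
    · left; rw [← cj_cj, ← cj_cj, h2, h2', h1, h1']; exact ⟨rfl, rfl⟩
  inv_mem' := by
    rintro a ⟨ha, h1⟩
    refine ⟨inv_mem ha, ?_⟩
    rcases h1 with ⟨h1, h1'⟩ | ⟨h1, h1'⟩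
    · left; exact ⟨cj_inv h1, cj_inv h1'⟩
    · right; exact ⟨cj_inv h1', cj_inv h1⟩

theorem mem_W {S E F : Subgroup G} {s : G} : s ∈ W S E F ↔ s ∈ S ∧ ((cj s E = E ∧ cj s F = F) ∨ (cj s E = F ∧ cj s F = E)) :=
  Iff.rfl

section

variable [Finite G] {X Y Z : F4 → G} {h : UT X Y Z} {S P : Subgroup G} (pp : PP h P)
  (hPS : ∀ g, g ∈ P ↔ g ∈ S ∧ g ∈ normalizer (EE h : Set G))

include pp hPS

theorem P_le_W : P ≤ W S (EE h) (FF h) := by
  intro p hp
  have h1 : cj p (EE h) = EE h := mem_normalizer_iff_cj.1 ((hPS p).1 hp).2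
  have h2 : cj p (FF h) = FF h := by
    apply eq_of_le
    · rintro _ ⟨x, hx, rfl⟩
      exact pp.nF p hp x hx
    · rw [card_cj]
  exact ⟨((hPS p).1 hp).1, Or.inl ⟨h1, h2⟩⟩

omit pp in
theorem mem_P_of {s : G} (hs : s ∈ W S (EE h) (FF h)) (h1 : cj s (EE h) = EE h) : s ∈ P :=
  (hPS s).2 ⟨hs.1, mem_normalizer_iff_cj.2 h1⟩

omit pp in
theorem swap_of {s : G} (hs : s ∈ W S (EE h) (FF h)) (hsP : s ∉ P) : cj s (EE h) = FF h ∧ cj s (FF h) = EE h := by
  rcases hs.2 with h1 | h1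
  · exact absurd (mem_P_of hPS hs h1.1) hsP
  · exact h1

/-- the elementary abelian subgroups of order `16` -/
theorem claim {A : Subgroup G} (hA : A ≤ W S (EE h) (FF h)) (hAc : Nat.card A = 16) (hAs : ∀ a ∈ A, a * a = 1) :
    A = EE h ∨ A = FF h := by
  have hAcomm : ∀ a ∈ A, ∀ b ∈ A, a * b = b * a := by
    intro a ha b hb
    have h1 := hAs _ (mul_mem ha hb)
    have ia : a⁻¹ = a := inv_eq_of_mul_eq_one_right (hAs a ha)
    have ib : b⁻¹ = b := inv_eq_of_mul_eq_one_right (hAs b hb)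
    have h2 := eq_inv_of_mul_eq_one_left h1
    rw [mul_inv_rev, ia, ib] at h2
    exact h2
  have hB := le_or h (B := A ⊓ h.L) inf_le_right (fun x hx => hAs x hx.1) (fun x hx y hy => hAcomm x hx.1 y hy.1)
  by_cases hAL : A ≤ h.L
  · rw [inf_eq_left.2 hAL] at hB
    rcases hB with hB | hB
    · exact Or.inl (eq_of_le hB (by rw [hAc, card_EE h]))
    · exact Or.inr (eq_of_le hB (by rw [hAc, card_FF h]))
  · exfalso
    by_cases hAP : A ≤ P
    · obtain ⟨p, hpA, hpL⟩ := SetLike.not_le_iff_exists.1 hAL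
      have h4 : Nat.card (A ⊓ h.L : Subgroup G) ≤ 4 := by
        rcases hB with hB | hB
        · exact pp.cE p (hAP hpA) hpL _ hB (fun x hx => hAcomm p hpA x hx.1)
        · exact pp.cF p (hAP hpA) hpL _ hB (fun x hx => hAcomm p hpA x hx.1)
      have h5 : Nat.card A ≤ 2 * Nat.card (A ⊓ h.L : Subgroup G) := by
        apply card_le_two_mul (s := p)
        intro x hx
        by_cases hxL : x ∈ h.L
        · exact Or.inl ⟨hx, hxL⟩
        · exact Or.inr ⟨mul_mem hpA hx, pp.mul p (hAP hpA) x (hAP hx) hpL hxL⟩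
      omega
    · obtain ⟨s, hsA, hsP⟩ := SetLike.not_le_iff_exists.1 hAP
      obtain ⟨s1, s2⟩ := swap_of hPS (hA hsA) hsP
      -- `A ∩ L ≤ U`
      have hU : ∀ x ∈ A ⊓ h.L, ∃ c, x = Z c := by
        intro x hx
        have e : s * x * s⁻¹ = x := by
          rw [hAcomm s hsA x hx.1, mul_inv_cancel_right]
        rcases hB with hB | hB
        · apply E_inf_F h (hB hx)
          rw [← s1, ← e]
          exact conj_mem_cj (hB hx)
        · apply E_inf_F h _ (hB hx)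
          rw [← s2, ← e]
          exact conj_mem_cj (hB hx)
      have h4 : ((A ⊓ h.L : Subgroup G) : Set G) ⊆ Set.range Z := by
        intro x hx
        obtain ⟨c, rfl⟩ := hU x hx
        exact ⟨c, rfl⟩
      have h5 : (Set.range Z).ncard ≤ 4 := by
        rw [← Set.image_univ]
        have h6 := Set.ncard_image_le (Set.toFinite (Set.univ : Set F4)) (f := Z)
        have h7 : (Set.univ : Set F4).ncard = 4 := by
          rw [Set.ncard_univ, Nat.card_eq_fintype_card]; decide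
        omega
      have h6 : Nat.card (A ⊓ h.L : Subgroup G) ≤ 4 := (Set.ncard_le_ncard h4 (Set.toFinite _)).trans h5
      have h7 : Nat.card A ≤ 2 * Nat.card (A ⊓ P : Subgroup G) := by
        apply card_le_two_mul (s := s)
        intro x hx
        by_cases hxP : x ∈ P
        · exact Or.inl ⟨hx, hxP⟩
        · refine Or.inr ⟨mul_mem hsA hx, ?_⟩
          obtain ⟨x1, x2⟩ := swap_of hPS (hA hx) hxP
          apply mem_P_of hPS (mul_mem (hA hsA) (hA hx))
          rw [← cj_cj, x1, s2]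
      obtain ⟨p, hpA, hpL⟩ : ∃ p ∈ A ⊓ P, p ∉ h.L := by
        by_contra hcon
        push Not at hcon
        have : (A ⊓ P : Subgroup G) ≤ A ⊓ h.L := fun x hx => ⟨hx.1, hcon x hx⟩
        have h8 : Nat.card (A ⊓ P : Subgroup G) ≤ Nat.card (A ⊓ h.L : Subgroup G) :=
          Set.ncard_le_ncard this (Set.toFinite _)
        omega
      have h8 : Nat.card (A ⊓ P : Subgroup G) ≤ 2 * Nat.card (A ⊓ h.L : Subgroup G) := by
        apply card_le_two_mul (s := p)
        intro x hx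
        by_cases hxL : x ∈ h.L
        · exact Or.inl ⟨hx.1, hxL⟩
        · exact Or.inr ⟨mul_mem hpA.1 hx.1, pp.mul p hpA.2 x hx.2 hpL hxL⟩
      have h9 : ((A ⊓ h.L : Subgroup G) : Set G) = Set.range Z := by
        apply Set.eq_of_subset_of_ncard_le h4 _ (Set.toFinite _)
        have : Nat.card (A ⊓ h.L : Subgroup G) = ((A ⊓ h.L : Subgroup G) : Set G).ncard := rfl
        omega
      have h10 : Z w ∈ ((A ⊓ h.L : Subgroup G) : Set G) := by rw [h9]; exact ⟨w, rfl⟩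
      exact pp.nc p hpA.2 hpL (hAcomm p hpA.1 _ h10.1)

theorem eq_W (hS : IsPGroup 2 S) : W S (EE h) (FF h) = S := by
  by_contra hne
  have hle : W S (EE h) (FF h) ≤ S := fun s hs => hs.1
  obtain ⟨y, hyS, hyW, hyn⟩ := ONType.FusionB2.exists_normalizing hS hle hne
  apply hyW
  have key : ∀ A : Subgroup G, A ≤ W S (EE h) (FF h) → Nat.card A = 16 → (∀ a ∈ A, a * a = 1) →
      cj y A = EE h ∨ cj y A = FF h := by
    intro A hA hAc hAs
    apply claim pp hPS
    · rintro _ ⟨x, hx, rfl⟩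
      apply (hyn _).2
      have e : y⁻¹ * ((MulAut.conj y).toMonoidHom x) * y = x := by
        simp [MulAut.conj_apply, mul_assoc]
      rw [e]; exact hA hx
    · rw [card_cj, hAc]
    · rintro _ ⟨x, hx, rfl⟩
      rw [← map_mul, hAs x hx, map_one]
  have hEW : EE h ≤ W S (EE h) (FF h) := (EE_le_L h).trans (pp.le.trans (P_le_W pp hPS))
  have hFW : FF h ≤ W S (EE h) (FF h) := (FF_le_L h).trans (pp.le.trans (P_le_W pp hPS))
  have h1 := key (EE h) hEW (card_EE h) (fun x hx => sq_EE h hx)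
  have h2 := key (FF h) hFW (card_FF h) (fun x hx => sq_FF h hx)
  have hne : EE h ≠ FF h := by
    intro he
    have h3 : X 1 ∈ FF h := by rw [← he]; exact X_mem h 1
    obtain ⟨c, hc⟩ := E_inf_F h (X_mem h 1) h3
    have h4 : Y 0 * X 1 * Z 0 = Y 0 * X 0 * Z c := by
      rw [h.Y0, h.X0, h.Z0, one_mul, mul_one, one_mul, one_mul]; exact hc
    obtain ⟨h5, -⟩ := h.nf_inj h4
    exact absurd h5 (by decide)
  have hinj : cj y (EE h) ≠ cj y (FF h) := by
    intro he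
    apply hne
    have := cj_inv he
    rw [cj_cj, inv_mul_cancel, cj_one] at this
    exact this.symm
  refine ⟨hyS, ?_⟩
  rcases h1 with h1 | h1 <;> rcases h2 with h2 | h2
  · exact absurd (h1.trans h2.symm) hinj
  · exact Or.inl ⟨h1, h2⟩
  · exact Or.inr ⟨h1, h2⟩
  · exact absurd (h1.trans h2.symm) hinj

end

/-- **growth** -/
theorem growth [Finite G] {X Y Z : F4 → G} (h : UT X Y Z) {E S P : Subgroup G}
    (hE : ∀ g, g ∈ E ↔ ∃ a c, g = X a * Z c) (hS : IsPGroup 2 S)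
    (hPS : ∀ g, g ∈ P ↔ g ∈ S ∧ g ∈ normalizer (E : Set G))
    (hP : (∀ g, g ∈ P ↔ g ∈ h.L) ∨ ∃ d, d * d = 1 ∧ (∀ a, d * X a = X (fr a) * d) ∧
      (∀ b, d * Y b = Y (fr b) * d) ∧ (∀ c, d * Z c = Z (fr c) * d) ∧
      ∀ g, g ∈ P ↔ (g ∈ h.L ∨ g * d ∈ h.L)) :
    S = P ∨ ∃ t ∈ S, t ∉ P ∧ (∀ a c, ∃ b c', t * (X a * Z c) * t⁻¹ = Y b * Z c') ∧
      (∀ b c, ∃ a c', t * (Y b * Z c) * t⁻¹ = X a * Z c') ∧ ∀ s ∈ S, s ∈ P ∨ s * t⁻¹ ∈ P := by
  have hEE : E = EE h := by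
    ext g
    rw [hE, mem_EE]
  subst hEE
  have pp : PP h P := by
    rcases hP with hP | ⟨d, h1, h2, h3, h4, h5⟩
    · exact PP.of_L h hP
    · exact PP.of_D h ⟨h1, h2, h3, h4⟩ h5
  have hW := eq_W pp hPS hS
  by_cases hSP : S ≤ P
  · left
    exact le_antisymm hSP fun g hg => ((hPS g).1 hg).1
  · right
    obtain ⟨t, htS, htP⟩ := SetLike.not_le_iff_exists.1 hSP
    have htW : t ∈ W S (EE h) (FF h) := by rw [hW]; exact htS
    obtain ⟨t1, t2⟩ := swap_of hPS htW htP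
    refine ⟨t, htS, htP, ?_, ?_, ?_⟩
    · intro a c
      have h1 : t * (X a * Z c) * t⁻¹ ∈ cj t (EE h) := conj_mem_cj ⟨a, c, rfl⟩
      rw [t1] at h1
      exact h1
    · intro b c
      have h1 : t * (Y b * Z c) * t⁻¹ ∈ cj t (FF h) := conj_mem_cj ⟨b, c, rfl⟩
      rw [t2] at h1
      exact h1
    · intro s hs
      by_cases hsP : s ∈ P
      · exact Or.inl hsP
      · right
        have hsW : s ∈ W S (EE h) (FF h) := by rw [hW]; exact hs
        obtain ⟨s1, s2⟩ := swap_of hPS hsW hsP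
        apply mem_P_of hPS (mul_mem hsW (inv_mem htW))
        rw [← cj_cj, cj_inv t2, s2]

end Cfsg.Agent.GH.T4Grow
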