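import Mathlib
import Cfsg.Agent.GH.T4B

/-!
# GH-L2, case (T4): assembly
-/

set_option autoImplicit false

open Subgroup
open Cfsg.Agent.SignalizersComponents.IntrinsicBasic (cj mem_cj conj_mem_cj cj_one cj_mul
  cj_inv_cj cj_cj_inv cj_injective cj_mono mem_normalizer_iff_cj)
open Cfsg.Agent.GH.L2Tri
open Cfsg.Agent.J2Sylow.Model Cfsg.Agent.J2Sylow.Model.F4
open Cfsg.Agent.GH.T4Defs

namespace Cfsg.Agent.GH.T4Base

variable {G : Type*} [Group G]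

/-- a power of `ρ` which is a 3-element acts as `ρ` -/
theorem Coord.exists_three {E V U L : Subgroup G} {ρ : G} {X Y Z : F4 → G} [Finite G]
    (h : Coord E V U L ρ X Y Z) : ∃ r : G, (∃ k, r ^ (3 ^ k) = 1) ∧ (∀ a, r * X a = X a * r) ∧
      (∀ c, r * Y c * r⁻¹ = Y (w * c)) ∧ ∀ c, r * Z c * r⁻¹ = Z (w * c) := by
  obtain ⟨k, m, hm, hkm⟩ := Nat.exists_eq_pow_mul_and_not_dvd (orderOf_pos ρ).ne' 3 (by norm_num)
  have hX : ∀ (n : ℕ) a, ρ ^ n * X a * (ρ ^ n)⁻¹ = X a := by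
    intro n a
    induction n with
    | zero => simp
    | succ n ih =>
      have e1 : ρ ^ (n + 1) * X a * (ρ ^ (n + 1))⁻¹ = ρ ^ n * (ρ * X a * ρ⁻¹) * (ρ ^ n)⁻¹ := by
        rw [pow_succ]; group
      rw [e1, h.rX, ih]
  have hY : ∀ (n : ℕ) c, ρ ^ n * Y c * (ρ ^ n)⁻¹ = Y (w ^ n * c) := by
    intro n
    induction n with
    | zero => intro c; simp
    | succ n ih =>
      intro c
      have e1 : ρ ^ (n + 1) * Y c * (ρ ^ (n + 1))⁻¹ = ρ ^ n * (ρ * Y c * ρ⁻¹) * (ρ ^ n)⁻¹ := by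
        rw [pow_succ]; group
      rw [e1, h.rY, ih, pow_succ, mul_assoc]
  have hZ : ∀ (n : ℕ) c, ρ ^ n * Z c * (ρ ^ n)⁻¹ = Z (w ^ n * c) := by
    intro n
    induction n with
    | zero => intro c; simp
    | succ n ih =>
      intro c
      have e1 : ρ ^ (n + 1) * Z c * (ρ ^ (n + 1))⁻¹ = ρ ^ n * (ρ * Z c * ρ⁻¹) * (ρ ^ n)⁻¹ := by
        rw [pow_succ]; group
      rw [e1, h.rZ, ih, pow_succ, mul_assoc]
  have hw : w ^ (m * m) = w := by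
    have h3 : w ^ 3 = 1 := by decide
    have h1 : m * m % 3 = 1 := by
      have : m % 3 = 1 ∨ m % 3 = 2 := by omega
      rcases this with h2 | h2 <;> simp [Nat.mul_mod, h2]
    rw [← Nat.div_add_mod (m * m) 3, h1, pow_add, pow_mul, h3, one_pow, one_mul, pow_one]
  refine ⟨ρ ^ (m * m), ⟨k, ?_⟩, ?_, ?_, ?_⟩
  · rw [← pow_mul, ← orderOf_dvd_iff_pow_eq_one, hkm]
    exact ⟨m, by ring⟩
  · intro a
    have h1 := hX (m * m) a
    calc ρ ^ (m * m) * X a = ρ ^ (m * m) * X a * (ρ ^ (m * m))⁻¹ * ρ ^ (m * m) := by group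
      _ = X a * ρ ^ (m * m) := by rw [h1]
  · intro c
    rw [hY, hw]
  · intro c
    rw [hZ, hw]

/-- The situation: `S ∩ N(E)` is `L` or `L⟨d⟩`, in coordinates. -/
structure Ready (S E V : Subgroup G) (ρ : G) (X Y Z : F4 → G) : Prop where
  ut : UT X Y Z
  memE : ∀ g, g ∈ E ↔ ∃ a c, g = X a * Z c
  three : ∃ k, ρ ^ (3 ^ k) = 1
  rX : ∀ a, ρ * X a = X a * ρ
  rY : ∀ c, ρ * Y c * ρ⁻¹ = Y (w * c)
  rZ : ∀ c, ρ * Z c * ρ⁻¹ = Z (w * c)
  hC : ∀ p ∈ centralizer (E : Set G), ∀ n, p ^ (2 ^ n) = 1 → p ∈ E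
  X1 : ∃ k : G, k * X 1 * k⁻¹ ∈ V
  cases : (∀ g, (g ∈ S ∧ g ∈ normalizer (E : Set G)) ↔ ∃ a b c, g = Y b * X a * Z c) ∨
    ∃ d, d * d = 1 ∧ (∀ a, d * X a = X (fr a) * d) ∧ (∀ b, d * Y b = Y (fr b) * d) ∧
      (∀ c, d * Z c = Z (fr c) * d) ∧
      ∀ g, (g ∈ S ∧ g ∈ normalizer (E : Set G)) ↔
        ∃ a b c, g = Y b * X a * Z c ∨ g = Y b * X a * Z c * d

theorem exists_ready [Finite G] {E V U : Subgroup G} {ρ : G} (h : Tri E V U ρ) (t : T4 E V U ρ)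
    (hC : ∀ p ∈ centralizer (E : Set G), ∀ n, p ^ (2 ^ n) = 1 → p ∈ E)
    (hG : ∀ f : G →* ℤˣ, ∀ g, f g = 1) :
    ∃ (S : Sylow 2 G) (X Y Z : F4 → G) (r : G), Ready (S : Subgroup G) E V r X Y Z := by
  obtain ⟨L, hL, -⟩ := exists_sylIn (H := T0 E U) (Q := ⊥) bot_le
    (isPGroup_of_sq (by intro a ha; rw [mem_bot.mp ha, one_mul]))
  obtain ⟨V', r, b, k, hk, hV'⟩ := exists_base h t hC hL
  obtain ⟨P, hP, hLP⟩ := exists_sylIn (H := normalizer (E : Set G)) (Q := L)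
    (hL.le.trans (T0_le E U)) hL.pgrp
  have bP : BaseP E V' U L P r := by
    refine ⟨b, hLP, hP.le, hP.pgrp, ?_⟩
    have h1 : L = P ⊓ T0 E U :=
      hL.eq_of_le inf_le_right (hP.pgrp.to_inf_left) (le_inf hLP hL.le)
    intro g hg hgT
    rw [h1]
    exact ⟨hg, hgT⟩
  obtain ⟨S, hS⟩ := hP.pgrp.exists_le_sylow
  have hSP : (S : Subgroup G) ⊓ normalizer (E : Set G) = P :=
    (hP.eq_of_le inf_le_right (S.isPGroup'.to_inf_left) (le_inf hS hP.le)).symm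
  obtain ⟨X, Y, Z, hc, hd⟩ := bP.caseA fun y hy hy3 => bP.caseB_false S hSP hG hy hy3
  obtain ⟨r', hr3, hrX, hrY, hrZ⟩ := hc.exists_three
  have hmem : ∀ g, (g ∈ S ∧ g ∈ normalizer (E : Set G)) ↔ g ∈ P := by
    intro g
    rw [← hSP]; exact Iff.rfl
  refine ⟨S, X, Y, Z, r', hc.ut, hc.memE, hr3, hrX, hrY, hrZ, hC, ⟨k⁻¹, ?_⟩, ?_⟩
  · have h1 : X 1 ∈ cj k V := hV' ▸ hc.hV 1
    have h2 := mem_cj.mp h1
    rwa [inv_inv]
  · rcases hd with h1 | ⟨d, hd⟩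
    · left
      intro g
      rw [← hc.memL, ← h1]
      exact hmem g
    · right
      refine ⟨d, hd.dd, hd.dX, hd.dY, hd.dZ, fun g => ?_⟩
      rw [← SetLike.mem_coe, SetLike.mem_coe]
      refine (hmem g).trans ((hd.memP g).trans ?_)
      constructor
      · rintro (h1 | h1)
        · obtain ⟨a, b', c, h2⟩ := (hc.memL g).mp h1
          exact ⟨a, b', c, Or.inl h2⟩
        · obtain ⟨a, b', c, h2⟩ := (hc.memL _).mp h1
          refine ⟨a, b', c, Or.inr ?_⟩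
          rw [← h2, mul_assoc, hd.dd, mul_one]
      · rintro ⟨a, b', c, h1 | h1⟩
        · exact Or.inl ((hc.memL g).mpr ⟨a, b', c, h1⟩)
        · refine Or.inr ((hc.memL _).mpr ⟨a, b', c, ?_⟩)
          rw [h1, mul_assoc, hd.dd, mul_one]

end Cfsg.Agent.GH.T4Base
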