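import Mathlib
import Cfsg.Prelude.Def_CaseTheorems
import Cfsg.Agent.TwoFusion.SectionalRank

/-!
# Project GH, branch GH-L3 (W): the homocyclic step

`W` is a 2-group, `V ≤ A0 ≤ Ap ≤ W`, `A0 = 4 × 4`, `V = Ω₁(A0)` central in `W`, `Ap = A0⟨τ⟩`, `x ∈ ⟨τ⟩` an
involution, `W / Ap ≅ V` via `w ↦ [x, w]`, and `r` is an element normalising everything, commuting with `τ` and
acting on `V` without fixed points.  Then (no section of order `32`) `τ = x` and there is `s ∈ W` such that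
`U = A0⟨s, s^r⟩` is homocyclic of exponent `8`.
-/

set_option autoImplicit false

namespace Cfsg.Agent.GH.WAct

open Subgroup Cfsg.Agent.TwoFusion.SectionalRank

variable {G : Type*} [Group G]

/-- The configuration in `W`. -/
structure Cfg (V A0 Ap W : Subgroup G) (x τ r z : G) : Prop where
  V_le : V ≤ A0
  A0_le : A0 ≤ Ap
  Ap_le : Ap ≤ W
  V_sq : ∀ v ∈ V, v * v = 1
  V_comm : ∀ v ∈ V, ∀ w ∈ W, w * v = v * w
  A0_comm : ∀ g ∈ A0, ∀ h ∈ A0, g * h = h * g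
  A0_sq : ∀ g ∈ A0, g * g ∈ V
  A0_inv : ∀ g ∈ A0, g * g = 1 → g ∈ V
  A0_surj : ∀ v ∈ V, ∃ g ∈ A0, g * g = v
  Ap_mem : ∀ g ∈ Ap, ∃ a ∈ A0, ∃ i : ℕ, g = a * τ ^ i
  τ_mem : τ ∈ Ap
  τ_A0 : (∀ g ∈ A0, τ * g * τ⁻¹ = g) ∨ (∀ g ∈ A0, τ * g * τ⁻¹ = g⁻¹)
  x_pow : ∃ m : ℕ, x = τ ^ m
  x_sq : x * x = 1
  x_not : x ∉ A0
  x_comm : ∀ g ∈ A0, x * g = g * x
  τ_sq : ∀ i : ℕ, τ ^ i * τ ^ i ∈ A0 → τ ^ i = 1 ∨ τ ^ i = x
  W_Ap : ∀ w ∈ W, ∀ g ∈ Ap, w * g * w⁻¹ ∈ Ap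
  W_x : ∀ w ∈ W, ∃ v ∈ V, w * x * w⁻¹ = x * v
  W_cent : ∀ w ∈ W, w * x = x * w → w ∈ Ap
  W_surj : ∀ v ∈ V, ∃ w ∈ W, w * x * w⁻¹ = x * v
  r_W : ∀ w ∈ W, r * w * r⁻¹ ∈ W
  r_A0 : ∀ g ∈ A0, r * g * r⁻¹ ∈ A0
  r_τ : r * τ = τ * r
  z_mem : z ∈ V
  z_ne : z ≠ 1
  V_eq : ∀ v ∈ V, v = 1 ∨ v = z ∨ v = r * z * r⁻¹ ∨ v = r * (r * z * r⁻¹) * r⁻¹
  r_prod : z * (r * z * r⁻¹) * (r * (r * z * r⁻¹) * r⁻¹) = 1
  r_fix : ∀ v ∈ V, r * v * r⁻¹ = v → v = 1

namespace Cfg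

variable {V A0 Ap W : Subgroup G} {x τ r z : G} (C : Cfg V A0 Ap W x τ r z)

include C

theorem V_inv {v : G} (hv : v ∈ V) : v⁻¹ = v := inv_eq_iff_mul_eq_one.mpr (C.V_sq v hv)

theorem x_inv : x⁻¹ = x := inv_eq_iff_mul_eq_one.mpr C.x_sq

theorem x_mem : x ∈ Ap := by
  obtain ⟨m, hm⟩ := C.x_pow
  rw [hm]
  exact Ap.pow_mem C.τ_mem m

theorem x_ne : x ≠ 1 := fun h => C.x_not (h ▸ A0.one_mem)

theorem r_x : r * x = x * r := by
  obtain ⟨m, hm⟩ := C.x_pow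
  rw [hm]
  exact (Commute.pow_right (show Commute r τ from C.r_τ) m)

theorem r_V {v : G} (hv : v ∈ V) : r * v * r⁻¹ ∈ V := by
  refine C.A0_inv _ (C.r_A0 v (C.V_le hv)) ?_
  have : r * v * r⁻¹ * (r * v * r⁻¹) = r * (v * v) * r⁻¹ := by group
  rw [this, C.V_sq v hv]
  group

/-- Powers of `τ` act on `A0` trivially or by inversion. -/
theorem τ_pow_A0 (i : ℕ) : (∀ g ∈ A0, τ ^ i * g * (τ ^ i)⁻¹ = g) ∨ (∀ g ∈ A0, τ ^ i * g * (τ ^ i)⁻¹ = g⁻¹) := by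
  induction i with
  | zero => left; intro g _; simp
  | succ i ih =>
    have e : ∀ g : G, τ ^ (i + 1) * g * (τ ^ (i + 1))⁻¹ = τ * (τ ^ i * g * (τ ^ i)⁻¹) * τ⁻¹ := by
      intro g
      rw [pow_succ']
      group
    rcases ih with ih | ih <;> rcases C.τ_A0 with h | h
    · left; intro g hg; rw [e, ih g hg, h g hg]
    · right; intro g hg; rw [e, ih g hg, h g hg]
    · right; intro g hg; rw [e, ih g hg, h _ (A0.inv_mem hg)]
    · left; intro g hg; rw [e, ih g hg, h _ (A0.inv_mem hg), inv_inv]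

theorem τ_pow_mem (i : ℕ) {g : G} (hg : g ∈ A0) : τ ^ i * g * (τ ^ i)⁻¹ ∈ A0 := by
  rcases C.τ_pow_A0 i with h | h
  · rw [h g hg]; exact hg
  · rw [h g hg]; exact A0.inv_mem hg

/-- `Ap` acts on `A0` trivially or by inversion. -/
theorem Ap_A0 {w : G} (hw : w ∈ Ap) :
    (∀ g ∈ A0, w * g * w⁻¹ = g) ∨ (∀ g ∈ A0, w * g * w⁻¹ = g⁻¹) := by
  obtain ⟨a, ha, i, rfl⟩ := C.Ap_mem w hw
  have e : ∀ g ∈ A0, a * τ ^ i * g * (a * τ ^ i)⁻¹ = τ ^ i * g * (τ ^ i)⁻¹ := by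
    intro g hg
    have h1 := C.A0_comm a ha _ (C.τ_pow_mem i hg)
    calc a * τ ^ i * g * (a * τ ^ i)⁻¹ = a * (τ ^ i * g * (τ ^ i)⁻¹) * a⁻¹ := by group
      _ = τ ^ i * g * (τ ^ i)⁻¹ := by rw [h1, mul_inv_cancel_right]
  rcases C.τ_pow_A0 i with h | h
  · left; intro g hg; rw [e g hg, h g hg]
  · right; intro g hg; rw [e g hg, h g hg]

theorem Ap_A0_mem {w g : G} (hw : w ∈ Ap) (hg : g ∈ A0) : w * g * w⁻¹ ∈ A0 := by
  rcases C.Ap_A0 hw with h | h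
  · rw [h g hg]; exact hg
  · rw [h g hg]; exact A0.inv_mem hg

/-- Elements of `Ap` with square in `V` are in `A0 ∪ A0 x`. -/
theorem mem_of_sq {h : G} (hh : h ∈ Ap) (h2 : h * h ∈ V) : h ∈ A0 ∨ ∃ a ∈ A0, h = a * x := by
  obtain ⟨a, ha, i, rfl⟩ := C.Ap_mem h hh
  have h3 : τ ^ i * τ ^ i ∈ A0 := by
    have h4 := C.τ_pow_mem i ha
    have e : τ ^ i * τ ^ i = (τ ^ i * a * (τ ^ i)⁻¹)⁻¹ * a⁻¹ * (a * τ ^ i * (a * τ ^ i)) := by
      rcases C.τ_pow_A0 i with h | h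
      · rw [h a ha]
        have h5 := h a ha
        have h6 : τ ^ i * a = a * τ ^ i := by
          rw [mul_inv_eq_iff_eq_mul] at h5
          exact h5
        calc τ ^ i * τ ^ i = a⁻¹ * a⁻¹ * (a * (a * τ ^ i) * τ ^ i) := by group
          _ = a⁻¹ * a⁻¹ * (a * (τ ^ i * a) * τ ^ i) := by rw [h6]
          _ = _ := by group
      · rw [h a ha]
        have h5 := h a ha
        have h6 : τ ^ i * a = a⁻¹ * τ ^ i := by
          rw [mul_inv_eq_iff_eq_mul] at h5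
          exact h5
        calc τ ^ i * τ ^ i = a⁻¹⁻¹ * a⁻¹ * (a * (a⁻¹ * τ ^ i) * τ ^ i) := by group
          _ = a⁻¹⁻¹ * a⁻¹ * (a * (τ ^ i * a) * τ ^ i) := by rw [h6]
          _ = _ := by group
    rw [e]
    exact A0.mul_mem (A0.mul_mem (A0.inv_mem h4) (A0.inv_mem ha)) (C.V_le h2)
  rcases C.τ_sq i h3 with h | h
  · left; rw [h, mul_one]; exact ha
  · right; exact ⟨a, ha, by rw [h]⟩

/-- Step 3: conjugates of elements of `A0` under `W`, weak form. -/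
theorem conj_form {w g : G} (hw : w ∈ W) (hg : g ∈ A0) :
    ∃ v ∈ V, w * g * w⁻¹ = g * v ∨ w * g * w⁻¹ = g * v * x := by
  have h1 : w * g * w⁻¹ ∈ Ap := C.W_Ap w hw g (C.A0_le hg)
  have h2 : w * g * w⁻¹ * (w * g * w⁻¹) = g * g := by
    have : w * g * w⁻¹ * (w * g * w⁻¹) = w * (g * g) * w⁻¹ := by group
    rw [this, C.V_comm _ (C.A0_sq g hg) w hw, mul_inv_cancel_right]
  have key : ∀ a ∈ A0, a * a = g * g → ∃ v ∈ V, a = g * v := by
    intro a ha haa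
    refine ⟨g⁻¹ * a, ?_, by group⟩
    refine C.A0_inv _ (A0.mul_mem (A0.inv_mem hg) ha) ?_
    have hc := C.A0_comm a ha _ (A0.inv_mem hg)
    calc g⁻¹ * a * (g⁻¹ * a) = g⁻¹ * (a * g⁻¹) * a := by group
      _ = g⁻¹ * g⁻¹ * (a * a) := by rw [hc]; group
      _ = 1 := by rw [haa]; group
  rcases C.mem_of_sq h1 (by rw [h2]; exact C.A0_sq g hg) with h | ⟨a, ha, h⟩
  · obtain ⟨v, hv, hav⟩ := key _ h h2
    exact ⟨v, hv, Or.inl hav⟩
  · have h3 : a * a = g * g := by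
      rw [← h2, h]
      have := C.x_comm a ha
      calc a * a = a * (a * (x * x)) := by rw [C.x_sq, mul_one]
        _ = a * (a * x) * x := by group
        _ = a * (x * a) * x := by rw [this]
        _ = _ := by group
    obtain ⟨v, hv, hav⟩ := key a ha h3
    exact ⟨v, hv, Or.inr (by rw [h, hav])⟩

/-- `w²` commutes with `x`. -/
theorem sq_mem_Ap {w : G} (hw : w ∈ W) : w * w ∈ Ap := by
  refine C.W_cent _ (W.mul_mem hw hw) ?_
  obtain ⟨v, hv, h⟩ := C.W_x w hw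
  have h1 : w * w * x * (w * w)⁻¹ = x := by
    have : w * w * x * (w * w)⁻¹ = w * (w * x * w⁻¹) * w⁻¹ := by group
    rw [this, h]
    have : w * (x * v) * w⁻¹ = (w * x * w⁻¹) * (w * v * w⁻¹) := by group
    rw [this, h, C.V_comm v hv w hw, mul_inv_cancel_right, mul_assoc, C.V_sq v hv, mul_one]
  rw [mul_inv_eq_iff_eq_mul] at h1
  exact h1

/-- Step 3: `[A0, W] ≤ V`. -/
theorem conj_A0 {w g : G} (hw : w ∈ W) (hg : g ∈ A0) : ∃ v ∈ V, w * g * w⁻¹ = g * v := by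
  -- the form of the action of `w ^ 2`
  obtain ⟨u, hu, hwx⟩ := C.W_x w hw
  have hsq : ∀ g ∈ A0, ∀ v ∈ V, w * g * w⁻¹ = g * v → w * w * g * (w * w)⁻¹ = g := by
    intro g hg v hv h
    have : w * w * g * (w * w)⁻¹ = w * (w * g * w⁻¹) * w⁻¹ := by group
    rw [this, h]
    have : w * (g * v) * w⁻¹ = (w * g * w⁻¹) * (w * v * w⁻¹) := by group
    rw [this, h, C.V_comm v hv w hw, mul_inv_cancel_right, mul_assoc, C.V_sq v hv, mul_one]
  have hsq' : ∀ g ∈ A0, ∀ v ∈ V, w * g * w⁻¹ = g * v * x → w * w * g * (w * w)⁻¹ = g * u := by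
    intro g hg v hv h
    have : w * w * g * (w * w)⁻¹ = w * (w * g * w⁻¹) * w⁻¹ := by group
    rw [this, h]
    have : w * (g * v * x) * w⁻¹ = (w * g * w⁻¹) * (w * v * w⁻¹) * (w * x * w⁻¹) := by group
    rw [this, h, C.V_comm v hv w hw, mul_inv_cancel_right, hwx]
    have hxv := C.x_comm v (C.V_le hv)
    calc g * v * x * v * (x * u) = g * v * (x * v) * (x * u) := by group
      _ = g * (v * v) * (x * x) * u := by rw [hxv]; group
      _ = g * u := by rw [C.V_sq v hv, C.x_sq, mul_one, mul_one]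
  obtain ⟨v, hv, h | h⟩ := C.conj_form hw hg
  · exact ⟨v, hv, h⟩
  · exfalso
    have hww := C.sq_mem_Ap hw
    have h1 := hsq' g hg v hv h
    have hwAp : w ∉ Ap := by
      intro hwA
      have h2 := C.Ap_A0_mem hwA hg
      rw [h] at h2
      have h3 : x = (g * v)⁻¹ * (g * v * x) := by group
      exact C.x_not (h3 ▸ A0.mul_mem (A0.inv_mem (A0.mul_mem hg (C.V_le hv))) h2)
    have hu1 : u ≠ 1 := by
      rintro rfl
      apply hwAp
      refine C.W_cent w hw ?_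
      rw [mul_one, mul_inv_eq_iff_eq_mul] at hwx
      exact hwx
    rcases C.Ap_A0 hww with h2 | h2
    · rw [h2 g hg] at h1
      exact hu1 (mul_left_cancel (h1.symm.trans (mul_one g).symm))
    · -- squares of `A0` lie in `⟨u⟩`
      have h3 : ∀ y ∈ V, y = 1 ∨ y = u := by
        intro y hy
        obtain ⟨a, ha, rfl⟩ := C.A0_surj y hy
        obtain ⟨v', hv', h' | h'⟩ := C.conj_form hw ha
        · left
          have h4 := hsq a ha v' hv' h'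
          rw [h2 a ha] at h4
          rw [← h4]
          nth_rw 1 [h4]
          rw [mul_inv_cancel]
        · right
          have h4 := hsq' a ha v' hv' h'
          rw [h2 a ha] at h4
          have h5 : (a * a)⁻¹ = u := by
            rw [mul_inv_rev]
            nth_rw 1 [h4]
            rw [C.A0_comm a ha u (C.V_le hu)]
            group
          rw [← h5, C.V_inv (C.A0_sq a ha)]
      have h4 := h3 z C.z_mem
      have h5 := h3 _ (C.r_V C.z_mem)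
      have hz : z = u := h4.resolve_left C.z_ne
      have hrz : r * z * r⁻¹ = u := by
        refine h5.resolve_left ?_
        intro h6
        apply C.z_ne
        have : z = r⁻¹ * (r * z * r⁻¹) * r := by group
        rw [this, h6]
        group
      exact C.z_ne (C.r_fix z C.z_mem (by rw [hrz, hz]))

theorem W_A0 {w g : G} (hw : w ∈ W) (hg : g ∈ A0) : w * g * w⁻¹ ∈ A0 := by
  obtain ⟨v, hv, h⟩ := C.conj_A0 hw hg
  rw [h]
  exact A0.mul_mem hg (C.V_le hv)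

end Cfg

namespace Cfg

variable {V A0 Ap W : Subgroup G} {x τ r z : G} (C : Cfg V A0 Ap W x τ r z)

include C

theorem r_prod' {v : G} (hv : v ∈ V) : v * (r * v * r⁻¹) * (r * (r * v * r⁻¹) * r⁻¹) = 1 := by
  have h0 := C.r_prod
  have h1 : r * z * r⁻¹ * (r * (r * z * r⁻¹) * r⁻¹) * (r * (r * (r * z * r⁻¹) * r⁻¹) * r⁻¹) = 1 := by
    calc _ = r * (z * (r * z * r⁻¹) * (r * (r * z * r⁻¹) * r⁻¹)) * r⁻¹ := by group
      _ = 1 := by rw [h0]; group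
  have h2 : r * (r * z * r⁻¹) * r⁻¹ * (r * (r * (r * z * r⁻¹) * r⁻¹) * r⁻¹) *
      (r * (r * (r * (r * z * r⁻¹) * r⁻¹) * r⁻¹) * r⁻¹) = 1 := by
    calc _ = r * (r * z * r⁻¹ * (r * (r * z * r⁻¹) * r⁻¹) *
          (r * (r * (r * z * r⁻¹) * r⁻¹) * r⁻¹)) * r⁻¹ := by group
      _ = 1 := by rw [h1]; group
  rcases C.V_eq v hv with rfl | rfl | rfl | rfl
  · group
  · exact h0
  · exact h1
  · exact h2

/-- `Ap` acts trivially on `Ap / A0`. -/
theorem Ap_τ {g : G} (hg : g ∈ Ap) : ∃ b ∈ A0, g * τ * g⁻¹ = b * τ := by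
  obtain ⟨a, ha, i, rfl⟩ := C.Ap_mem g hg
  refine ⟨a * (τ * a⁻¹ * τ⁻¹), A0.mul_mem ha (C.Ap_A0_mem C.τ_mem (A0.inv_mem ha)), ?_⟩
  have h1 : τ ^ i * τ = τ * τ ^ i := (Commute.refl τ).pow_left i
  calc a * τ ^ i * τ * (a * τ ^ i)⁻¹ = a * (τ ^ i * τ) * (τ ^ i)⁻¹ * a⁻¹ := by group
    _ = a * τ * a⁻¹ := by rw [h1]; group
    _ = _ := by group

/-- Step 3: `W` centralises `Ap / A0`. -/
theorem W_τ {w : G} (hw : w ∈ W) : ∃ b ∈ A0, w * τ * w⁻¹ = b * τ := by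
  have hu : ∀ w ∈ W, ∃ b ∈ A0, (w⁻¹ * (r * w * r⁻¹)) * τ * (w⁻¹ * (r * w * r⁻¹))⁻¹ = b * τ := by
    intro w hw
    obtain ⟨a, ha, i, hai⟩ := C.Ap_mem _ (C.W_Ap w hw τ C.τ_mem)
    have hrτ : r * τ ^ i * r⁻¹ = τ ^ i := by
      rw [(Commute.pow_right (show Commute r τ from C.r_τ) i).eq, mul_inv_cancel_right]
    have hrτ' : r⁻¹ * τ * r = τ := by
      rw [mul_assoc, ← C.r_τ, inv_mul_cancel_left]
    refine ⟨w⁻¹ * (r * a * r⁻¹ * a⁻¹) * w, ?_, ?_⟩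
    · have := C.W_A0 (W.inv_mem hw) (A0.mul_mem (C.r_A0 a ha) (A0.inv_mem ha))
      rwa [inv_inv] at this
    · have h1 : w⁻¹ * (a * τ ^ i) * w = τ := by rw [← hai]; group
      calc w⁻¹ * (r * w * r⁻¹) * τ * (w⁻¹ * (r * w * r⁻¹))⁻¹
          = w⁻¹ * (r * (w * (r⁻¹ * τ * r) * w⁻¹) * r⁻¹) * w := by group
        _ = w⁻¹ * (r * (a * τ ^ i) * r⁻¹) * w := by rw [hrτ', hai]
        _ = w⁻¹ * (r * a * r⁻¹ * (r * τ ^ i * r⁻¹)) * w := by group
        _ = w⁻¹ * (r * a * r⁻¹ * τ ^ i) * w := by rw [hrτ]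
        _ = w⁻¹ * (r * a * r⁻¹ * a⁻¹) * w * (w⁻¹ * (a * τ ^ i) * w) := by group
        _ = _ := by rw [h1]
  obtain ⟨v, hv, hwx⟩ := C.W_x w hw
  obtain ⟨w', hw', hwx'⟩ := C.W_surj _ (C.r_V hv)
  set u := w'⁻¹ * (r * w' * r⁻¹) with hudef
  have huW : u ∈ W := W.mul_mem (W.inv_mem hw') (C.r_W w' hw')
  have hux : u * x * u⁻¹ = x * v := by
    have hrx' : r⁻¹ * x * r = x := by
      rw [mul_assoc, ← C.r_x, inv_mul_cancel_left]
    have hrx : r * x * r⁻¹ = x := by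
      rw [C.r_x, mul_inv_cancel_right]
    have hv1 := C.r_V hv
    have h1 : w'⁻¹ * x * w' = x * (r * v * r⁻¹) := by
      have h2 : x = w'⁻¹ * x * w' * (r * v * r⁻¹) := by
        calc x = w'⁻¹ * (w' * x * w'⁻¹) * w' := by group
          _ = w'⁻¹ * (x * (r * v * r⁻¹)) * w' := by rw [hwx']
          _ = w'⁻¹ * x * (r * v * r⁻¹ * w') := by group
          _ = w'⁻¹ * x * (w' * (r * v * r⁻¹)) := by rw [C.V_comm _ hv1 w' hw']
          _ = _ := by group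
      calc w'⁻¹ * x * w' = w'⁻¹ * x * w' * (r * v * r⁻¹) * (r * v * r⁻¹)⁻¹ := by group
        _ = x * (r * v * r⁻¹) := by rw [← h2, C.V_inv hv1]
    have h3 := C.r_V hv1
    calc u * x * u⁻¹ = w'⁻¹ * (r * (w' * (r⁻¹ * x * r) * w'⁻¹) * r⁻¹) * w' := by rw [hudef]; group
      _ = w'⁻¹ * (r * (x * (r * v * r⁻¹)) * r⁻¹) * w' := by rw [hrx', hwx']
      _ = w'⁻¹ * (r * x * r⁻¹ * (r * (r * v * r⁻¹) * r⁻¹)) * w' := by group
      _ = w'⁻¹ * x * ((r * (r * v * r⁻¹) * r⁻¹) * w') := by rw [hrx]; group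
      _ = w'⁻¹ * x * (w' * (r * (r * v * r⁻¹) * r⁻¹)) := by rw [C.V_comm _ h3 w' hw']
      _ = w'⁻¹ * x * w' * (r * (r * v * r⁻¹) * r⁻¹) := by group
      _ = x * (v⁻¹ * (v * (r * v * r⁻¹) * (r * (r * v * r⁻¹) * r⁻¹))) := by rw [h1]; group
      _ = x * v := by rw [C.r_prod' hv, mul_one, C.V_inv hv]
  have hα : u⁻¹ * w ∈ Ap := by
    refine C.W_cent _ (W.mul_mem (W.inv_mem huW) hw) ?_
    have h1 : u⁻¹ * w * x * (u⁻¹ * w)⁻¹ = x := by
      calc u⁻¹ * w * x * (u⁻¹ * w)⁻¹ = u⁻¹ * (w * x * w⁻¹) * u := by group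
        _ = u⁻¹ * (u * x * u⁻¹) * u := by rw [hwx, hux]
        _ = x := by group
    rw [mul_inv_eq_iff_eq_mul] at h1
    exact h1
  obtain ⟨b, hb, hbτ⟩ := C.Ap_τ hα
  obtain ⟨b', hb', hbτ'⟩ := hu w' hw'
  refine ⟨u * b * u⁻¹ * b', A0.mul_mem (C.W_A0 huW hb) hb', ?_⟩
  calc w * τ * w⁻¹ = u * (u⁻¹ * w * τ * (u⁻¹ * w)⁻¹) * u⁻¹ := by group
    _ = u * b * u⁻¹ * (u * τ * u⁻¹) := by rw [hbτ]; group
    _ = u * b * u⁻¹ * b' * τ := by rw [hudef, hbτ']; group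

theorem r_norm [Finite G] : r ∈ normalizer (A0 : Set G) :=
  mem_normalizer_fintype (S := (A0 : Set G)) C.r_A0

theorem W_norm : W ≤ normalizer (A0 : Set G) := by
  intro w hw
  rw [mem_normalizer_iff]
  intro g
  refine ⟨fun hg => C.W_A0 hw hg, fun hg => ?_⟩
  have := C.W_A0 (W.inv_mem hw) hg
  have e : w⁻¹ * (w * g * w⁻¹) * w⁻¹⁻¹ = g := by group
  rwa [e] at this

end Cfg

/-! ### computations in the quotient by `A0` -/

theorem step4 {Q : Type*} [Group Q] {s τ r t : Q} {e : ℕ} (ht : t * t = 1) (htτ : t * τ = τ * t)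
    (hts : t * s = s * t) (hrτ : r * τ = τ * r) (hτs : τ * s = s * τ)
    (h : t * (r * s * r⁻¹) * t = s * (r * s * r⁻¹) * τ ^ e) :
    s * τ ^ e * (s * τ ^ e) = 1 ∧
      s * τ ^ e * (r * (s * τ ^ e) * r⁻¹) = r * (s * τ ^ e) * r⁻¹ * (s * τ ^ e) := by
  set ε := τ ^ e with hε
  have htε : t * ε = ε * t := (Commute.pow_right (show Commute t τ from htτ) e)
  have hrε : r * ε = ε * r := (Commute.pow_right (show Commute r τ from hrτ) e)
  have hεs : ε * s = s * ε := (Commute.pow_left (show Commute τ s from hτs) e)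
  set w := r * s * r⁻¹ with hw
  have hεw : ε * w = w * ε := by
    rw [hw]
    calc ε * (r * s * r⁻¹) = (ε * r) * s * r⁻¹ := by group
      _ = r * (ε * s) * r⁻¹ := by rw [← hrε]; group
      _ = r * s * (ε * r⁻¹) := by rw [hεs]; group
      _ = r * s * (r⁻¹ * (r * ε) * r⁻¹) := by group
      _ = r * s * r⁻¹ * ε := by rw [hrε]; group
  have hw' : r * (s * ε) * r⁻¹ = w * ε := by
    calc r * (s * ε) * r⁻¹ = r * s * (r⁻¹ * (r * ε)) * r⁻¹ := by group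
      _ = w * ε := by rw [hrε, hw]; group
  have hs2 : s * ε * (s * ε) = 1 := by
    have h1 : t * (t * w * t) * t = w := by
      calc t * (t * w * t) * t = (t * t) * w * (t * t) := by group
        _ = w := by rw [ht]; group
    rw [h] at h1
    have h2 : t * (s * w * ε) * t = (s * ε) * (s * ε) * w := by
      calc t * (s * w * ε) * t = (t * s) * w * (ε * t) := by group
        _ = s * (t * w * t) * ε := by rw [hts, ← htε]; group
        _ = s * (s * w * ε) * ε := by rw [h]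
        _ = s * s * (w * ε) * ε := by group
        _ = s * s * (ε * w) * ε := by rw [hεw]
        _ = s * (s * ε) * (w * ε) := by group
        _ = s * (s * ε) * (ε * w) := by rw [hεw]
        _ = s * (s * ε) * ε * w := by group
        _ = (s * ε) * (s * ε) * w := by
          congr 1
          calc s * (s * ε) * ε = s * (ε * s) * ε := by rw [hεs]
            _ = s * ε * (s * ε) := by group
    rw [h2] at h1
    exact mul_eq_right.1 h1
  refine ⟨hs2, ?_⟩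
  rw [hw']
  -- `(t w' t)² = 1` and `t w' t = s' w'`
  have hw2 : w * ε * (w * ε) = 1 := by
    rw [← hw']
    calc r * (s * ε) * r⁻¹ * (r * (s * ε) * r⁻¹) = r * (s * ε * (s * ε)) * r⁻¹ := by group
      _ = 1 := by rw [hs2]; group
  have h3 : t * (w * ε) * t = s * ε * (w * ε) := by
    calc t * (w * ε) * t = t * w * (ε * t) := by group
      _ = t * w * t * ε := by rw [← htε]; group
      _ = s * (w * ε) * ε := by rw [h]; group
      _ = s * (ε * w) * ε := by rw [hεw]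
      _ = s * ε * (w * ε) := by group
  have h4 : (s * ε * (w * ε)) * (s * ε * (w * ε)) = 1 := by
    rw [← h3]
    calc t * (w * ε) * t * (t * (w * ε) * t) = t * (w * ε) * (t * t) * (w * ε) * t := by group
      _ = t * (w * ε * (w * ε)) * t := by rw [ht]; group
      _ = 1 := by rw [hw2, mul_one, ht]
  have hs3 : (s * ε)⁻¹ = s * ε := inv_eq_iff_mul_eq_one.mpr hs2
  have hw3 : (w * ε)⁻¹ = w * ε := inv_eq_iff_mul_eq_one.mpr hw2
  have h5 : (s * ε * (w * ε))⁻¹ = s * ε * (w * ε) := inv_eq_iff_mul_eq_one.mpr h4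
  rw [mul_inv_rev, hs3, hw3] at h5
  exact h5.symm

theorem step4c {Q : Type*} [Group Q] {s r n : Q} (hs : s * s = 1)
    (hc : s * (r * s * r⁻¹) = r * s * r⁻¹ * s)
    (hn : s * (r * s * r⁻¹) * (r * (r * s * r⁻¹) * r⁻¹) = n)
    (hns : n * s = s * n) (hnw : n * (r * s * r⁻¹) = r * s * r⁻¹ * n) : n * n = 1 := by
  set w := r * s * r⁻¹ with hw
  set w2 := r * w * r⁻¹ with hw2
  have hww : w * w = 1 := by
    calc w * w = r * (s * s) * r⁻¹ := by rw [hw]; group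
      _ = 1 := by rw [hs]; group
  have hww2 : w2 * w2 = 1 := by
    calc w2 * w2 = r * (w * w) * r⁻¹ := by rw [hw2]; group
      _ = 1 := by rw [hww]; group
  have h1 : w * w2 = w2 * w := by
    calc w * w2 = r * (s * w) * r⁻¹ := by rw [hw2, hw]; group
      _ = r * (w * s) * r⁻¹ := by rw [hc]
      _ = w2 * w := by rw [hw2, hw]; group
  have hw2' : w2 = w⁻¹ * s⁻¹ * n := by rw [← hn]; group
  have C1 : Commute n s := hns
  have C2 : Commute n w := hnw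
  have C3 : Commute s w := hc
  have C4 : Commute s w2 := by
    rw [hw2']
    exact (C3.inv_right.mul_right (Commute.refl s).inv_right).mul_right C1.symm
  calc n * n = s * w * w2 * (s * w * w2) := by rw [hn]
    _ = s * w * (w2 * s) * w * w2 := by group
    _ = s * w * s * (w2 * w) * w2 := by rw [← C4.eq]; group
    _ = s * (w * s) * w * (w2 * w2) := by rw [← h1]; group
    _ = s * s * (w * w) * (w2 * w2) := by rw [← hc]; group
    _ = 1 := by rw [hs, hww, hww2]; group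

theorem step4b {Q : Type*} [Group Q] {s x r : Q} (hs : s * s = 1) (hx : x * x = 1)
    (hrx : r * x = x * r) (hxs : x * s = s * x) (hc : s * (r * s * r⁻¹) = r * s * r⁻¹ * s)
    (hn : s * (r * s * r⁻¹) * (r * (r * s * r⁻¹) * r⁻¹) = x) :
    s * x * (s * x) = 1 ∧ s * x * (r * (s * x) * r⁻¹) = r * (s * x) * r⁻¹ * (s * x) ∧
      s * x * (r * (s * x) * r⁻¹) * (r * (r * (s * x) * r⁻¹) * r⁻¹) = 1 := by
  have Crx : Commute r x := hrx
  have Cxs : Commute x s := hxs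
  set w := r * s * r⁻¹ with hw
  set w2 := r * w * r⁻¹ with hw2
  have Cxw : Commute x w := (Crx.symm.mul_right Cxs).mul_right Crx.symm.inv_right
  have Cxw2 : Commute x w2 := (Crx.symm.mul_right Cxw).mul_right Crx.symm.inv_right
  have e1 : r * (s * x) * r⁻¹ = w * x := by
    calc r * (s * x) * r⁻¹ = r * s * (x * r⁻¹) := by group
      _ = r * s * (r⁻¹ * x) := by rw [Crx.symm.inv_right.eq]
      _ = w * x := by rw [hw]; group
  have e2 : r * (w * x) * r⁻¹ = w2 * x := by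
    calc r * (w * x) * r⁻¹ = r * w * (x * r⁻¹) := by group
      _ = r * w * (r⁻¹ * x) := by rw [Crx.symm.inv_right.eq]
      _ = w2 * x := by rw [hw2]; group
  rw [e1, e2]
  refine ⟨?_, ?_, ?_⟩
  · calc s * x * (s * x) = s * (x * s) * x := by group
      _ = (s * s) * (x * x) := by rw [hxs]; group
      _ = 1 := by rw [hs, hx, one_mul]
  · calc s * x * (w * x) = s * (x * w) * x := by group
      _ = (s * w) * (x * x) := by rw [Cxw.eq]; group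
      _ = w * s * (x * x) := by rw [hc]
      _ = w * (s * x) * x := by group
      _ = w * (x * s) * x := by rw [hxs]
      _ = w * x * (s * x) := by group
  · calc s * x * (w * x) * (w2 * x) = s * (x * w) * (x * w2) * x := by group
      _ = s * (w * x) * (w2 * x) * x := by rw [Cxw.eq, Cxw2.eq]
      _ = s * w * (x * w2) * (x * x) := by group
      _ = s * w * w2 * x * (x * x) := by rw [Cxw2.eq]; group
      _ = 1 := by rw [hn, hx, one_mul]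

/-- The configuration together with `t` and `s`. -/
structure TCfg (V A0 Ap W : Subgroup G) (x τ r z t s : G) : Prop extends Cfg V A0 Ap W x τ r z where
  t_sq : t * t = 1
  t_τ : t * τ = τ * t
  t_A0 : ∀ g ∈ A0, t * g * t⁻¹ ∈ A0
  t_W : ∀ w ∈ W, t * w * t⁻¹ ∈ W
  t_rz : t * (r * z * r⁻¹) * t⁻¹ = r * (r * z * r⁻¹) * r⁻¹
  s_mem : s ∈ W
  s_x : s * x * s⁻¹ = x * z
  t_s : s⁻¹ * (t * s * t) ∈ A0

namespace TCfg

variable {V A0 Ap W : Subgroup G} {x τ r z t s : G} (C : TCfg V A0 Ap W x τ r z t s)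

include C

theorem t_inv : t⁻¹ = t := inv_eq_iff_mul_eq_one.mpr C.t_sq

theorem t_x : t * x = x * t := by
  obtain ⟨m, hm⟩ := C.x_pow
  rw [hm]
  exact (Commute.pow_right (show Commute t τ from C.t_τ) m)

/-- The relation between `t`, `s` and `s^r`. -/
theorem rel_t : ∃ a ∈ A0, ∃ e : ℕ, t * (r * s * r⁻¹) * t = s * (r * s * r⁻¹) * a * τ ^ e := by
  set w := r * s * r⁻¹ with hw
  have hwW : w ∈ W := C.r_W s C.s_mem
  have hrx : r * x * r⁻¹ = x := by rw [C.r_x, mul_inv_cancel_right]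
  have hrx' : r⁻¹ * x * r = x := by rw [mul_assoc, ← C.r_x, inv_mul_cancel_left]
  have hwx : w * x * w⁻¹ = x * (r * z * r⁻¹) := by
    calc w * x * w⁻¹ = r * (s * (r⁻¹ * x * r) * s⁻¹) * r⁻¹ := by rw [hw]; group
      _ = r * x * r⁻¹ * (r * z * r⁻¹) := by rw [hrx', C.s_x]; group
      _ = x * (r * z * r⁻¹) := by rw [hrx]
  have htx : t * x * t⁻¹ = x := by rw [C.t_x, mul_inv_cancel_right]
  have htx' : t⁻¹ * x * t = x := by rw [mul_assoc, ← C.t_x, inv_mul_cancel_left]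
  set y := t * w * t⁻¹ with hy
  have hyW : y ∈ W := C.t_W w hwW
  have hyx : y * x * y⁻¹ = x * (r * (r * z * r⁻¹) * r⁻¹) := by
    calc y * x * y⁻¹ = t * (w * (t⁻¹ * x * t) * w⁻¹) * t⁻¹ := by rw [hy]; group
      _ = t * x * t⁻¹ * (t * (r * z * r⁻¹) * t⁻¹) := by rw [htx', hwx]; group
      _ = _ := by rw [htx, C.t_rz]
  have hrzV := C.r_V C.z_mem
  have hr2zV := C.r_V hrzV
  have hswx : s * w * x * (s * w)⁻¹ = x * (r * (r * z * r⁻¹) * r⁻¹) := by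
    have hp := C.r_prod
    have hzz : z * (r * z * r⁻¹) = r * (r * z * r⁻¹) * r⁻¹ := by
      have h1 := eq_inv_of_mul_eq_one_left hp
      rw [C.V_inv hr2zV] at h1
      exact h1
    calc s * w * x * (s * w)⁻¹ = s * (w * x * w⁻¹) * s⁻¹ := by group
      _ = s * x * (r * z * r⁻¹ * s⁻¹) := by rw [hwx]; group
      _ = s * x * (s⁻¹ * (r * z * r⁻¹)) := by
        rw [C.V_comm _ hrzV s⁻¹ (W.inv_mem C.s_mem)]
      _ = s * x * s⁻¹ * (r * z * r⁻¹) := by group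
      _ = x * (z * (r * z * r⁻¹)) := by rw [C.s_x]; group
      _ = _ := by rw [hzz]
  have hmem : (s * w)⁻¹ * y ∈ Ap := by
    refine C.W_cent _ (W.mul_mem (W.inv_mem (W.mul_mem C.s_mem hwW)) hyW) ?_
    have h1 : (s * w)⁻¹ * y * x * ((s * w)⁻¹ * y)⁻¹ = x := by
      calc (s * w)⁻¹ * y * x * ((s * w)⁻¹ * y)⁻¹ = (s * w)⁻¹ * (y * x * y⁻¹) * (s * w) := by group
        _ = (s * w)⁻¹ * (s * w * x * (s * w)⁻¹) * (s * w) := by rw [hyx, hswx]
        _ = x := by group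
    rw [mul_inv_eq_iff_eq_mul] at h1
    exact h1
  obtain ⟨a, ha, e, hae⟩ := C.Ap_mem _ hmem
  refine ⟨a, ha, e, ?_⟩
  have h1 : t * w * t = y := by rw [hy, C.t_inv]
  rw [h1]
  calc y = s * w * ((s * w)⁻¹ * y) := by group
    _ = s * w * a * τ ^ e := by rw [hae]; group

/-- Step 4: the element `s` may be chosen such that `A0⟨s, s^r⟩ / A0` is elementary abelian and `r`-invariant. -/
theorem exists_s [Finite G] : ∃ s ∈ W, s * x * s⁻¹ = x * z ∧ s * s ∈ A0 ∧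
    s * (r * s * r⁻¹) * s⁻¹ * (r * s * r⁻¹)⁻¹ ∈ A0 ∧
    s * (r * s * r⁻¹) * (r * (r * s * r⁻¹) * r⁻¹) ∈ A0 := by
  obtain ⟨a, ha, e, hrel⟩ := C.rel_t
  let H : Subgroup G := normalizer (A0 : Set G)
  have hA0H : A0 ≤ H := le_normalizer
  let N : Subgroup H := A0.subgroupOf H
  have hN : N.Normal := normal_in_normalizer
  let φ : H →* H ⧸ N := QuotientGroup.mk' N
  have hφ : ∀ (g : G) (hg : g ∈ H), φ ⟨g, hg⟩ = 1 ↔ g ∈ A0 := by
    intro g hg
    exact QuotientGroup.eq_one_iff _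
  have hWH : W ≤ H := C.W_norm
  have hrH : r ∈ H := C.r_norm
  have htH : t ∈ H := mem_normalizer_fintype (S := (A0 : Set G)) C.t_A0
  have hτW : τ ∈ W := C.Ap_le C.τ_mem
  have hxW : x ∈ W := C.Ap_le C.x_mem
  let r' : H := ⟨r, hrH⟩
  let t' : H := ⟨t, htH⟩
  let τ' : H := ⟨τ, hWH hτW⟩
  let x' : H := ⟨x, hWH hxW⟩
  let s' : H := ⟨s, hWH C.s_mem⟩
  let a' : H := ⟨a, hA0H ha⟩
  have ha' : φ a' = 1 := (hφ a _).2 ha
  have q1 : φ t' * φ t' = 1 := by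
    rw [← map_mul, show t' * t' = 1 from Subtype.ext C.t_sq, map_one]
  have q2 : φ t' * φ τ' = φ τ' * φ t' := by
    rw [← map_mul, ← map_mul, show t' * τ' = τ' * t' from Subtype.ext C.t_τ]
  have q3 : φ t' * φ s' = φ s' * φ t' := by
    have h1 : φ (s'⁻¹ * (t' * s' * t')) = 1 := (hφ _ _).2 C.t_s
    rw [map_mul, map_mul, map_mul, map_inv] at h1
    have h2 : φ s' = φ t' * φ s' * φ t' := inv_mul_eq_one.1 h1
    calc φ t' * φ s' = φ t' * φ s' * (φ t' * φ t') := by rw [q1, mul_one]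
      _ = (φ t' * φ s' * φ t') * φ t' := by group
      _ = φ s' * φ t' := by rw [← h2]
  have q4 : φ r' * φ τ' = φ τ' * φ r' := by
    rw [← map_mul, ← map_mul, show r' * τ' = τ' * r' from Subtype.ext C.r_τ]
  have hcen : ∀ (w : G) (hw : w ∈ W), φ τ' * φ ⟨w, hWH hw⟩ = φ ⟨w, hWH hw⟩ * φ τ' := by
    intro w hw
    obtain ⟨b, hb, hbτ⟩ := C.W_τ hw
    have h1 : (⟨w, hWH hw⟩ : H) * τ' = ⟨b, hA0H hb⟩ * τ' * ⟨w, hWH hw⟩ := by
      apply Subtype.ext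
      show w * τ = b * τ * w
      rw [← hbτ]
      group
    rw [← map_mul _ (⟨w, hWH hw⟩ : H) τ', h1, map_mul, map_mul, (hφ b _).2 hb, one_mul]
  have q5 : φ τ' * φ s' = φ s' * φ τ' := hcen s C.s_mem
  have q6 : φ t' * (φ r' * φ s' * (φ r')⁻¹) * φ t' = φ s' * (φ r' * φ s' * (φ r')⁻¹) * φ τ' ^ e := by
    have h1 : t' * (r' * s' * r'⁻¹) * t' = s' * (r' * s' * r'⁻¹) * a' * τ' ^ e := Subtype.ext hrel
    have h2 := congrArg φ h1
    simp only [map_mul, map_inv, map_pow] at h2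
    rw [ha', mul_one] at h2
    exact h2
  obtain ⟨p1, p2⟩ := step4 q1 q2 q3 q4 q5 q6
  -- the new `s`
  set s1 : G := s * τ ^ e with hs1
  have hs1W : s1 ∈ W := W.mul_mem C.s_mem (W.pow_mem hτW e)
  let s1' : H := ⟨s1, hWH hs1W⟩
  have hs1' : φ s1' = φ s' * φ τ' ^ e := by
    rw [← map_pow, ← map_mul]
    rfl
  rw [← hs1'] at p1 p2
  have hxτ : x * τ ^ e = τ ^ e * x := by
    obtain ⟨m, hm⟩ := C.x_pow
    rw [hm]
    exact ((Commute.refl τ).pow_pow m e)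
  have hs1x : s1 * x * s1⁻¹ = x * z := by
    rw [hs1, ← C.s_x]
    calc s * τ ^ e * x * (s * τ ^ e)⁻¹ = s * (τ ^ e * x) * (τ ^ e)⁻¹ * s⁻¹ := by group
      _ = s * x * s⁻¹ := by rw [← hxτ]; group
  -- `n`
  have key : ∀ s2 ∈ W, s2 * x * s2⁻¹ = x * z → s2 * (r * s2 * r⁻¹) * (r * (r * s2 * r⁻¹) * r⁻¹) ∈ Ap := by
    intro s2 hs2 hs2x
    have hrx : r * x * r⁻¹ = x := by rw [C.r_x, mul_inv_cancel_right]
    have hrx' : r⁻¹ * x * r = x := by rw [mul_assoc, ← C.r_x, inv_mul_cancel_left]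
    set w := r * s2 * r⁻¹ with hw
    set w2 := r * w * r⁻¹ with hw2
    have hwW : w ∈ W := C.r_W s2 hs2
    have hw2W : w2 ∈ W := C.r_W w hwW
    have hwx : w * x * w⁻¹ = x * (r * z * r⁻¹) := by
      calc w * x * w⁻¹ = r * (s2 * (r⁻¹ * x * r) * s2⁻¹) * r⁻¹ := by rw [hw]; group
        _ = r * x * r⁻¹ * (r * z * r⁻¹) := by rw [hrx', hs2x]; group
        _ = x * (r * z * r⁻¹) := by rw [hrx]
    have hw2x : w2 * x * w2⁻¹ = x * (r * (r * z * r⁻¹) * r⁻¹) := by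
      calc w2 * x * w2⁻¹ = r * (w * (r⁻¹ * x * r) * w⁻¹) * r⁻¹ := by rw [hw2]; group
        _ = r * x * r⁻¹ * (r * (r * z * r⁻¹) * r⁻¹) := by rw [hrx', hwx]; group
        _ = _ := by rw [hrx]
    refine C.W_cent _ (W.mul_mem (W.mul_mem hs2 hwW) hw2W) ?_
    have hrzV := C.r_V C.z_mem
    have hr2zV := C.r_V hrzV
    have h1 : s2 * w * w2 * x * (s2 * w * w2)⁻¹ = x := by
      calc s2 * w * w2 * x * (s2 * w * w2)⁻¹ = s2 * (w * (w2 * x * w2⁻¹) * w⁻¹) * s2⁻¹ := by group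
        _ = s2 * (w * x * ((r * (r * z * r⁻¹) * r⁻¹) * w⁻¹)) * s2⁻¹ := by rw [hw2x]; group
        _ = s2 * (w * x * (w⁻¹ * (r * (r * z * r⁻¹) * r⁻¹))) * s2⁻¹ := by
          rw [C.V_comm _ hr2zV w⁻¹ (W.inv_mem hwW)]
        _ = s2 * (w * x * w⁻¹ * (r * (r * z * r⁻¹) * r⁻¹)) * s2⁻¹ := by group
        _ = s2 * x * (((r * z * r⁻¹) * (r * (r * z * r⁻¹) * r⁻¹)) * s2⁻¹) := by rw [hwx]; group
        _ = s2 * x * (s2⁻¹ * ((r * z * r⁻¹) * (r * (r * z * r⁻¹) * r⁻¹))) := by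
          rw [C.V_comm _ (V.mul_mem hrzV hr2zV) s2⁻¹ (W.inv_mem hs2)]
        _ = s2 * x * s2⁻¹ * ((r * z * r⁻¹) * (r * (r * z * r⁻¹) * r⁻¹)) := by group
        _ = x * (z * (r * z * r⁻¹) * (r * (r * z * r⁻¹) * r⁻¹)) := by rw [hs2x]; group
        _ = x := by rw [C.r_prod, mul_one]
    rw [mul_inv_eq_iff_eq_mul] at h1
    exact h1
  obtain ⟨b, hb, i, hbi⟩ := C.Ap_mem _ (key s1 hs1W hs1x)
  have hn : φ s1' * (φ r' * φ s1' * (φ r')⁻¹) * (φ r' * (φ r' * φ s1' * (φ r')⁻¹) * (φ r')⁻¹) =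
      φ τ' ^ i := by
    have h1 : s1' * (r' * s1' * r'⁻¹) * (r' * (r' * s1' * r'⁻¹) * r'⁻¹) = ⟨b, hA0H hb⟩ * τ' ^ i :=
      Subtype.ext hbi
    have h2 := congrArg φ h1
    simp only [map_mul, map_inv, map_pow] at h2
    rw [(hφ b _).2 hb, one_mul] at h2
    exact h2
  have hwW : r * s1 * r⁻¹ ∈ W := C.r_W s1 hs1W
  have hns : φ τ' ^ i * φ s1' = φ s1' * φ τ' ^ i :=
    (Commute.pow_left (show Commute (φ τ') (φ s1') from hcen s1 hs1W) i)
  have hnw : φ τ' ^ i * (φ r' * φ s1' * (φ r')⁻¹) = φ r' * φ s1' * (φ r')⁻¹ * φ τ' ^ i := by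
    have h1 := hcen _ hwW
    have h2 : φ ⟨r * s1 * r⁻¹, hWH hwW⟩ = φ r' * φ s1' * (φ r')⁻¹ := by
      rw [← map_inv, ← map_mul, ← map_mul]
      rfl
    rw [h2] at h1
    exact (Commute.pow_left (show Commute _ _ from h1) i)
  have hnn := step4c p1 p2 hn hns hnw
  have hττ : τ ^ i * τ ^ i ∈ A0 := by
    rw [← hφ _ (H.mul_mem (H.pow_mem (hWH hτW) i) (H.pow_mem (hWH hτW) i))]
    rw [← map_pow, ← map_mul] at hnn
    exact hnn
  have back : ∀ s2 (hs2 : s2 ∈ W), s2 * x * s2⁻¹ = x * z → φ ⟨s2, hWH hs2⟩ * φ ⟨s2, hWH hs2⟩ = 1 →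
      φ ⟨s2, hWH hs2⟩ * (φ r' * φ ⟨s2, hWH hs2⟩ * (φ r')⁻¹) =
        φ r' * φ ⟨s2, hWH hs2⟩ * (φ r')⁻¹ * φ ⟨s2, hWH hs2⟩ →
      φ ⟨s2, hWH hs2⟩ * (φ r' * φ ⟨s2, hWH hs2⟩ * (φ r')⁻¹) *
        (φ r' * (φ r' * φ ⟨s2, hWH hs2⟩ * (φ r')⁻¹) * (φ r')⁻¹) = 1 →
      ∃ s ∈ W, s * x * s⁻¹ = x * z ∧ s * s ∈ A0 ∧
        s * (r * s * r⁻¹) * s⁻¹ * (r * s * r⁻¹)⁻¹ ∈ A0 ∧
        s * (r * s * r⁻¹) * (r * (r * s * r⁻¹) * r⁻¹) ∈ A0 := by
    intro s2 hs2 hs2x k1 k2 k3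
    have hs2H := hWH hs2
    refine ⟨s2, hs2, hs2x, ?_, ?_, ?_⟩
    · rw [← hφ _ (H.mul_mem hs2H hs2H)]
      rw [← map_mul] at k1
      exact k1
    · rw [← hφ _ (H.mul_mem (H.mul_mem (H.mul_mem hs2H (H.mul_mem (H.mul_mem hrH hs2H)
        (H.inv_mem hrH))) (H.inv_mem hs2H)) (H.inv_mem (H.mul_mem (H.mul_mem hrH hs2H)
        (H.inv_mem hrH))))]
      have h1 : φ ⟨s2, hs2H⟩ * (φ r' * φ ⟨s2, hs2H⟩ * (φ r')⁻¹) * (φ ⟨s2, hs2H⟩)⁻¹ *
          (φ r' * φ ⟨s2, hs2H⟩ * (φ r')⁻¹)⁻¹ = 1 := by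
        rw [k2]
        group
      simp only [← map_mul, ← map_inv] at h1
      exact h1
    · rw [← hφ _ (H.mul_mem (H.mul_mem hs2H (H.mul_mem (H.mul_mem hrH hs2H)
        (H.inv_mem hrH))) (H.mul_mem (H.mul_mem hrH (H.mul_mem (H.mul_mem hrH hs2H)
        (H.inv_mem hrH))) (H.inv_mem hrH)))]
      simp only [← map_mul, ← map_inv] at k3
      exact k3
  rcases C.τ_sq i hττ with h | h
  · refine back s1 hs1W hs1x p1 p2 ?_
    have : φ τ' ^ i = 1 := by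
      rw [← map_pow, show τ' ^ i = 1 from Subtype.ext h, map_one]
    rw [this] at hn
    exact hn
  · have hx' : φ τ' ^ i = φ x' := by
      rw [← map_pow, show τ' ^ i = x' from Subtype.ext h]
    rw [hx'] at hn hns
    have hxx : φ x' * φ x' = 1 := by
      rw [← map_mul, show x' * x' = 1 from Subtype.ext C.x_sq, map_one]
    have hrx : φ r' * φ x' = φ x' * φ r' := by
      rw [← map_mul, ← map_mul, show r' * x' = x' * r' from Subtype.ext C.r_x]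
    obtain ⟨k1, k2, k3⟩ := step4b p1 hxx hrx hns p2 hn
    have hs2W : s1 * x ∈ W := W.mul_mem hs1W hxW
    have hs2 : φ ⟨s1 * x, hWH hs2W⟩ = φ s1' * φ x' := by
      rw [← map_mul]
      rfl
    rw [← hs2] at k1 k2 k3
    refine back (s1 * x) hs2W ?_ k1 k2 k3
    calc s1 * x * x * (s1 * x)⁻¹ = s1 * (x * x) * x⁻¹ * s1⁻¹ := by group
      _ = s1 * x * s1⁻¹ := by rw [C.x_sq, C.x_inv, mul_one]
      _ = x * z := hs1x

end TCfg

end Cfsg.Agent.GH.WAct
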