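import Cfsg.Agent.GH.WFin

/-!
# Project GH, branch GH-L3 (W): the Sylow 2-subgroup `T` of `C_G(x)`

`T = P0 ⋊ ⟨τ⟩`, `P0 = A0⟨t⟩ = 4 wr 2`, `x` the involution of `⟨τ⟩`.
-/

set_option autoImplicit false

namespace Cfsg.Agent.GH.WAct

open Subgroup Cfsg.Agent.TwoFusion.SectionalRank

variable {G : Type*} [Group G]

/-- The basic configuration. -/
structure Base (V A0 T : Subgroup G) (x τ t ρ z : G) : Prop where
  V_le : V ≤ A0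
  V_sq : ∀ v ∈ V, v * v = 1
  A0_comm : ∀ g ∈ A0, ∀ h ∈ A0, g * h = h * g
  A0_sq : ∀ g ∈ A0, g * g ∈ V
  A0_inv : ∀ g ∈ A0, g * g = 1 → g ∈ V
  A0_surj : ∀ v ∈ V, ∃ g ∈ A0, g * g = v
  τ_A0 : (∀ g ∈ A0, τ * g * τ⁻¹ = g) ∨ (∀ g ∈ A0, τ * g * τ⁻¹ = g⁻¹)
  τ_two : ∃ k : ℕ, τ ^ 2 ^ k = 1
  τ_not : ∀ i : ℕ, τ ^ i ∈ A0 → τ ^ i = 1
  τ_inv : ∀ i : ℕ, τ ^ i * τ ^ i = 1 → τ ^ i = 1 ∨ τ ^ i = x
  τ_or : τ = x ∨ ∃ m : ℕ, x = (τ * τ) ^ m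
  x_sq : x * x = 1
  x_ne : x ≠ 1
  x_comm : ∀ g ∈ A0, x * g = g * x
  t_sq : t * t = 1
  t_τ : t * τ = τ * t
  t_A0 : ∀ g ∈ A0, t * g * t⁻¹ ∈ A0
  T_mem : ∀ g : G, g ∈ T ↔ ∃ α ∈ A0, ∃ j i : ℕ, g = α * t ^ j * τ ^ i
  ρ_A0 : ∀ g ∈ A0, ρ * g * ρ⁻¹ ∈ A0
  ρ_τ : ρ * τ = τ * ρ
  z_mem : z ∈ V
  z_ne : z ≠ 1
  V_eq : ∀ v ∈ V, v = 1 ∨ v = z ∨ v = ρ * z * ρ⁻¹ ∨ v = ρ * (ρ * z * ρ⁻¹) * ρ⁻¹
  ρ_prod : z * (ρ * z * ρ⁻¹) * (ρ * (ρ * z * ρ⁻¹) * ρ⁻¹) = 1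
  ρ_fix : ∀ v ∈ V, ρ * v * ρ⁻¹ = v → v = 1
  t_z : t * z * t⁻¹ = z
  t_rz : t * (ρ * z * ρ⁻¹) * t⁻¹ = ρ * (ρ * z * ρ⁻¹) * ρ⁻¹
  star : ∀ α ∈ A0, α * t * (α * t) = 1 → ∃ k : G, k * x = x * k ∧ k * (α * t) * k⁻¹ = z
  T_p : IsPGroup 2 T
  cent_card : ∀ Q : Subgroup G, IsPGroup 2 Q → (∀ q ∈ Q, q * x = x * q) → Nat.card Q ≤ Nat.card T

namespace Base

variable {V A0 T : Subgroup G} {x τ t ρ z : G} (B : Base V A0 T x τ t ρ z)

include B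

theorem V_inv {v : G} (hv : v ∈ V) : v⁻¹ = v := inv_eq_iff_mul_eq_one.mpr (B.V_sq v hv)

theorem x_inv : x⁻¹ = x := inv_eq_iff_mul_eq_one.mpr B.x_sq

theorem t_inv : t⁻¹ = t := inv_eq_iff_mul_eq_one.mpr B.t_sq

theorem x_pow : ∃ m : ℕ, x = τ ^ m := by
  rcases B.τ_or with h | ⟨m, h⟩
  · exact ⟨1, by rw [pow_one, h]⟩
  · exact ⟨2 * m, by rw [h, pow_mul, pow_two]⟩

theorem x_not : x ∉ A0 := by
  intro h
  obtain ⟨m, hm⟩ := B.x_pow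
  rw [hm] at h
  exact B.x_ne (by rw [hm]; exact B.τ_not m h)

theorem t_x : t * x = x * t := by
  obtain ⟨m, hm⟩ := B.x_pow
  rw [hm]
  exact (Commute.pow_right (show Commute t τ from B.t_τ) m)

theorem ρ_x : ρ * x = x * ρ := by
  obtain ⟨m, hm⟩ := B.x_pow
  rw [hm]
  exact (Commute.pow_right (show Commute ρ τ from B.ρ_τ) m)

theorem τ_x : τ * x = x * τ := by
  obtain ⟨m, hm⟩ := B.x_pow
  rw [hm]
  exact (Commute.pow_right (Commute.refl τ) m)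

theorem A0_le : A0 ≤ T := fun g hg => (B.T_mem g).2 ⟨g, hg, 0, 0, by simp⟩

theorem t_mem : t ∈ T := (B.T_mem t).2 ⟨1, A0.one_mem, 1, 0, by simp⟩

theorem τ_mem : τ ∈ T := (B.T_mem τ).2 ⟨1, A0.one_mem, 0, 1, by simp⟩

theorem x_mem : x ∈ T := by
  obtain ⟨m, hm⟩ := B.x_pow
  rw [hm]
  exact T.pow_mem B.τ_mem m

theorem T_x {g : G} (hg : g ∈ T) : g * x = x * g := by
  obtain ⟨α, hα, j, i, rfl⟩ := (B.T_mem g).1 hg
  have c1 : Commute α x := (B.x_comm α hα).symm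
  have c2 : Commute t x := B.t_x
  have c3 : Commute τ x := B.τ_x
  exact (c1.mul_left (c2.pow_left j)).mul_left (c3.pow_left i)

theorem ρ_V {v : G} (hv : v ∈ V) : ρ * v * ρ⁻¹ ∈ V := by
  refine B.A0_inv _ (B.ρ_A0 v (B.V_le hv)) ?_
  have : ρ * v * ρ⁻¹ * (ρ * v * ρ⁻¹) = ρ * (v * v) * ρ⁻¹ := by group
  rw [this, B.V_sq v hv]
  group

theorem t_V {v : G} (hv : v ∈ V) : t * v * t⁻¹ ∈ V := by
  refine B.A0_inv _ (B.t_A0 v (B.V_le hv)) ?_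
  have : t * v * t⁻¹ * (t * v * t⁻¹) = t * (v * v) * t⁻¹ := by group
  rw [this, B.V_sq v hv]
  group

theorem z1_ne_one : ρ * z * ρ⁻¹ ≠ 1 := by
  intro h
  apply B.z_ne
  have : z = ρ⁻¹ * (ρ * z * ρ⁻¹) * ρ := by group
  rw [this, h]
  group

theorem z1_ne_z2 : ρ * z * ρ⁻¹ ≠ ρ * (ρ * z * ρ⁻¹) * ρ⁻¹ := fun h =>
  B.z1_ne_one (B.ρ_fix _ (B.ρ_V B.z_mem) h.symm)

theorem z1_ne_z : ρ * z * ρ⁻¹ ≠ z := fun h => B.z_ne (B.ρ_fix z B.z_mem h)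

theorem z_z1 : z * (ρ * z * ρ⁻¹) = ρ * (ρ * z * ρ⁻¹) * ρ⁻¹ := by
  have h1 := eq_inv_of_mul_eq_one_left B.ρ_prod
  rwa [B.V_inv (B.ρ_V (B.ρ_V B.z_mem))] at h1

theorem z1_z2 : ρ * z * ρ⁻¹ * (ρ * (ρ * z * ρ⁻¹) * ρ⁻¹) = z := by
  have h1 := B.ρ_prod
  rw [mul_assoc] at h1
  have h2 := eq_inv_of_mul_eq_one_right h1
  rwa [B.V_inv B.z_mem] at h2

theorem t_z2 : t * (ρ * (ρ * z * ρ⁻¹) * ρ⁻¹) * t⁻¹ = ρ * z * ρ⁻¹ := by
  rw [← B.t_rz]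
  calc t * (t * (ρ * z * ρ⁻¹) * t⁻¹) * t⁻¹ = (t * t) * (ρ * z * ρ⁻¹) * (t * t)⁻¹ := by group
    _ = _ := by rw [B.t_sq]; group

/-- `v · v^t ∈ {1, z}`. -/
theorem v_vt {v : G} (hv : v ∈ V) : v * (t * v * t⁻¹) = 1 ∨ v * (t * v * t⁻¹) = z := by
  rcases B.V_eq v hv with rfl | rfl | rfl | rfl
  · left; group
  · left; rw [B.t_z]; exact B.V_sq _ hv
  · right; rw [B.t_rz]; exact B.z1_z2
  · right
    rw [B.t_z2]
    have h1 := B.A0_comm _ (B.V_le hv) _ (B.V_le (B.ρ_V B.z_mem))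
    rw [h1]
    exact B.z1_z2

/-- Powers of `τ` act on `A0` trivially or by inversion. -/
theorem τ_pow_A0 (i : ℕ) : (∀ g ∈ A0, τ ^ i * g * (τ ^ i)⁻¹ = g) ∨
    (∀ g ∈ A0, τ ^ i * g * (τ ^ i)⁻¹ = g⁻¹) := by
  induction i with
  | zero => left; intro g _; simp
  | succ i ih =>
    have e : ∀ g : G, τ ^ (i + 1) * g * (τ ^ (i + 1))⁻¹ = τ * (τ ^ i * g * (τ ^ i)⁻¹) * τ⁻¹ := by
      intro g
      rw [pow_succ']
      group
    rcases ih with ih | ih <;> rcases B.τ_A0 with h | h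
    · left; intro g hg; rw [e, ih g hg, h g hg]
    · right; intro g hg; rw [e, ih g hg, h g hg]
    · right; intro g hg; rw [e, ih g hg, h _ (A0.inv_mem hg)]
    · left; intro g hg; rw [e, ih g hg, h _ (A0.inv_mem hg), inv_inv]

theorem τ_pow_mem (i : ℕ) {g : G} (hg : g ∈ A0) : τ ^ i * g * (τ ^ i)⁻¹ ∈ A0 := by
  rcases B.τ_pow_A0 i with h | h
  · rw [h g hg]; exact hg
  · rw [h g hg]; exact A0.inv_mem hg

theorem τ_pow_V (i : ℕ) {v : G} (hv : v ∈ V) : τ ^ i * v * (τ ^ i)⁻¹ = v := by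
  rcases B.τ_pow_A0 i with h | h
  · exact h v (B.V_le hv)
  · rw [h v (B.V_le hv), B.V_inv hv]

theorem t_pow (j : ℕ) : t ^ j = 1 ∨ t ^ j = t := by
  have htt : t ^ 2 = 1 := by rw [pow_two]; exact B.t_sq
  rcases Nat.even_or_odd j with ⟨m, rfl⟩ | ⟨m, rfl⟩
  · left; rw [← two_mul, pow_mul, htt, one_pow]
  · right; rw [pow_add, pow_mul, htt, one_pow, one_mul, pow_one]

theorem t_pow_mem (j : ℕ) {g : G} (hg : g ∈ A0) : t ^ j * g * (t ^ j)⁻¹ ∈ A0 := by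
  rcases B.t_pow j with h | h
  · rw [h]; simpa using hg
  · rw [h]; exact B.t_A0 g hg

/-- action of `t^j τ^i` on `A0`. -/
theorem tτ_mem (j i : ℕ) {g : G} (hg : g ∈ A0) : t ^ j * τ ^ i * g * (t ^ j * τ ^ i)⁻¹ ∈ A0 := by
  have : t ^ j * τ ^ i * g * (t ^ j * τ ^ i)⁻¹ = t ^ j * (τ ^ i * g * (τ ^ i)⁻¹) * (t ^ j)⁻¹ := by group
  rw [this]
  exact B.t_pow_mem j (B.τ_pow_mem i hg)

/-- `T` normalises `A0`. -/
theorem T_A0 {g y : G} (hy : y ∈ T) (hg : g ∈ A0) : y * g * y⁻¹ ∈ A0 := by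
  obtain ⟨α, hα, j, i, rfl⟩ := (B.T_mem y).1 hy
  have : α * t ^ j * τ ^ i * g * (α * t ^ j * τ ^ i)⁻¹ =
      α * (t ^ j * τ ^ i * g * (t ^ j * τ ^ i)⁻¹) * α⁻¹ := by group
  rw [this]
  exact A0.mul_mem (A0.mul_mem hα (B.tτ_mem j i hg)) (A0.inv_mem hα)

theorem T_V {v y : G} (hy : y ∈ T) (hv : v ∈ V) : y * v * y⁻¹ ∈ V := by
  refine B.A0_inv _ (B.T_A0 hy (B.V_le hv)) ?_
  have : y * v * y⁻¹ * (y * v * y⁻¹) = y * (v * v) * y⁻¹ := by group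
  rw [this, B.V_sq v hv]
  group

/-- action of `T` on `V`: through `t`. -/
theorem T_V' {y : G} {α : G} (hα : α ∈ A0) (j i : ℕ) (hy : y = α * t ^ j * τ ^ i) {v : G} (hv : v ∈ V) :
    y * v * y⁻¹ = t ^ j * v * (t ^ j)⁻¹ := by
  have h1 : t ^ j * v * (t ^ j)⁻¹ ∈ A0 := B.t_pow_mem j (B.V_le hv)
  have h2 := B.A0_comm α hα _ h1
  calc y * v * y⁻¹ = α * (t ^ j * (τ ^ i * v * (τ ^ i)⁻¹) * (t ^ j)⁻¹) * α⁻¹ := by rw [hy]; group
    _ = α * (t ^ j * v * (t ^ j)⁻¹) * α⁻¹ := by rw [B.τ_pow_V i hv]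
    _ = _ := by rw [h2, mul_inv_cancel_right]

theorem T_z {y : G} (hy : y ∈ T) : y * z * y⁻¹ = z := by
  obtain ⟨α, hα, j, i, hy'⟩ := (B.T_mem y).1 hy
  rw [B.T_V' hα j i hy' B.z_mem]
  rcases B.t_pow j with h | h
  · rw [h]; group
  · rw [h, B.t_z]

/-- Involutions of `T` lie in `P0 ∪ P0 x`. -/
theorem T_inv {y : G} (hy : y ∈ T) (hyy : y * y = 1) : ∃ p : G, (p ∈ A0 ∨ ∃ α ∈ A0, p = α * t) ∧
    p * p = 1 ∧ (y = p ∨ y = p * x) := by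
  obtain ⟨α, hα, j, i, rfl⟩ := (B.T_mem y).1 hy
  have ct : t ^ j * τ ^ i = τ ^ i * t ^ j :=
    ((show Commute t τ from B.t_τ).pow_pow j i)
  have hτ2 : τ ^ i * τ ^ i ∈ A0 := by
    have h1 : α * t ^ j * τ ^ i * (α * t ^ j * τ ^ i) =
        α * (t ^ j * (τ ^ i * α * (τ ^ i)⁻¹) * (t ^ j)⁻¹) * (t ^ j * t ^ j) * (τ ^ i * τ ^ i) := by
      calc α * t ^ j * τ ^ i * (α * t ^ j * τ ^ i)
          = α * (t ^ j * (τ ^ i * α * (τ ^ i)⁻¹) * (t ^ j)⁻¹) * (t ^ j * (τ ^ i * t ^ j) * τ ^ i) := by group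
        _ = α * (t ^ j * (τ ^ i * α * (τ ^ i)⁻¹) * (t ^ j)⁻¹) * (t ^ j * (t ^ j * τ ^ i) * τ ^ i) := by
          rw [ct]
        _ = _ := by group
    have htt : t ^ j * t ^ j = 1 := by
      rcases B.t_pow j with h | h <;> rw [h]
      · group
      · exact B.t_sq
    rw [hyy, htt, mul_one] at h1
    rw [← inv_eq_of_mul_eq_one_right h1.symm]
    exact A0.inv_mem (A0.mul_mem hα (B.t_pow_mem j (B.τ_pow_mem i hα)))
  have hτ1 : τ ^ i * τ ^ i = 1 := by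
    have := B.τ_not (i + i) (by rw [pow_add]; exact hτ2)
    rwa [pow_add] at this
  have hp : ∀ p : G, p = α * t ^ j → (p ∈ A0 ∨ ∃ α ∈ A0, p = α * t) := by
    rintro p rfl
    rcases B.t_pow j with h | h
    · left; rw [h, mul_one]; exact hα
    · right; exact ⟨α, hα, by rw [h]⟩
  rcases B.τ_inv i hτ1 with h | h
  · refine ⟨α * t ^ j, hp _ rfl, ?_, Or.inl (by rw [h, mul_one])⟩
    rw [h, mul_one] at hyy
    exact hyy
  · refine ⟨α * t ^ j, hp _ rfl, ?_, Or.inr (by rw [h])⟩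
    rw [h] at hyy
    have hpT : α * t ^ j ∈ T := (B.T_mem _).2 ⟨α, hα, j, 0, by simp⟩
    have h2 := B.T_x hpT
    calc α * t ^ j * (α * t ^ j) = α * t ^ j * (α * t ^ j) * (x * x) := by rw [B.x_sq, mul_one]
      _ = α * t ^ j * (α * t ^ j * x) * x := by group
      _ = α * t ^ j * (x * (α * t ^ j)) * x := by rw [h2]
      _ = α * t ^ j * x * (α * t ^ j * x) := by group
      _ = 1 := hyy

theorem starV {v : G} (hv : v ∈ V) (hv1 : v ≠ 1) : ∃ k : G, k * x = x * k ∧ k * v * k⁻¹ = z := by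
  have c : Commute ρ x := B.ρ_x
  rcases B.V_eq v hv with rfl | rfl | rfl | rfl
  · exact absurd rfl hv1
  · exact ⟨1, by simp, by simp⟩
  · exact ⟨ρ⁻¹, c.inv_left, by group⟩
  · exact ⟨ρ⁻¹ * ρ⁻¹, c.inv_left.mul_left c.inv_left, by group⟩

/-- Involutions of `P0` are conjugate to `z` in `C(x)`. -/
theorem star' {p : G} (hp : p ∈ A0 ∨ ∃ α ∈ A0, p = α * t) (hpp : p * p = 1) (hp1 : p ≠ 1) :
    ∃ k : G, k * x = x * k ∧ k * p * k⁻¹ = z := by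
  rcases hp with hp | ⟨α, hα, rfl⟩
  · exact B.starV (B.A0_inv p hp hpp) hp1
  · exact B.star α hα hpp

/-- commutators of elements of `T` have square `1` or `z`. -/
theorem comm_sq {p q : G} (hp : p ∈ T) (hq : q ∈ T) :
    (p * q * p⁻¹ * q⁻¹) * (p * q * p⁻¹ * q⁻¹) = 1 ∨ (p * q * p⁻¹ * q⁻¹) * (p * q * p⁻¹ * q⁻¹) = z := by
  obtain ⟨α, hα, j, i, rfl⟩ := (B.T_mem p).1 hp
  obtain ⟨β, hβ, k, l, rfl⟩ := (B.T_mem q).1 hq
  set g := t ^ j * τ ^ i with hg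
  set h := t ^ k * τ ^ l with hh
  have c0 : Commute t τ := B.t_τ
  have cgh : Commute g h := by
    rw [hg, hh]
    exact ((Commute.refl t).pow_pow j k |>.mul_right (c0.pow_pow j l)).mul_left
      ((c0.symm.pow_pow i k).mul_right ((Commute.refl τ).pow_pow i l))
  have e1 : α * t ^ j * τ ^ i * (β * t ^ k * τ ^ l) * (α * t ^ j * τ ^ i)⁻¹ * (β * t ^ k * τ ^ l)⁻¹ =
      α * (g * β * g⁻¹) * (h * α⁻¹ * h⁻¹) * β⁻¹ := by
    calc _ = α * (g * β * g⁻¹) * (g * h) * g⁻¹ * α⁻¹ * h⁻¹ * β⁻¹ := by rw [hg, hh]; group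
      _ = α * (g * β * g⁻¹) * (h * g) * g⁻¹ * α⁻¹ * h⁻¹ * β⁻¹ := by rw [cgh.eq]
      _ = _ := by group
  rw [e1]
  have m1 : g * β * g⁻¹ ∈ A0 := B.tτ_mem j i hβ
  have m2 : h * α⁻¹ * h⁻¹ ∈ A0 := B.tτ_mem k l (A0.inv_mem hα)
  have hact : ∀ (y : G) (a b : ℕ), y = t ^ a * τ ^ b → ∀ v ∈ V, v * (y * v * y⁻¹) = 1 ∨
      v * (y * v * y⁻¹) = z := by
    intro y a b hy v hv
    have h1 : y * v * y⁻¹ = t ^ a * v * (t ^ a)⁻¹ := by
      calc y * v * y⁻¹ = t ^ a * (τ ^ b * v * (τ ^ b)⁻¹) * (t ^ a)⁻¹ := by rw [hy]; group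
        _ = _ := by rw [B.τ_pow_V b hv]
    rw [h1]
    rcases B.t_pow a with h | h
    · rw [h]
      left
      simpa using B.V_sq v hv
    · rw [h]
      exact B.v_vt hv
  -- the square
  have c1 := B.A0_comm _ hα _ m1
  have e2 : (α * (g * β * g⁻¹) * (h * α⁻¹ * h⁻¹) * β⁻¹) * (α * (g * β * g⁻¹) * (h * α⁻¹ * h⁻¹) * β⁻¹) =
      (α * α * (h * (α * α) * h⁻¹)⁻¹) * ((g * (β * β) * g⁻¹) * (β * β)⁻¹) := by
    have C1 : Commute α (g * β * g⁻¹) := B.A0_comm _ hα _ m1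
    have C2 : Commute α (h * α⁻¹ * h⁻¹) := B.A0_comm _ hα _ m2
    have C3 : Commute α β⁻¹ := B.A0_comm _ hα _ (A0.inv_mem hβ)
    have C4 : Commute (g * β * g⁻¹) (h * α⁻¹ * h⁻¹) := B.A0_comm _ m1 _ m2
    have C5 : Commute (g * β * g⁻¹) β⁻¹ := B.A0_comm _ m1 _ (A0.inv_mem hβ)
    have C6 : Commute (h * α⁻¹ * h⁻¹) β⁻¹ := B.A0_comm _ m2 _ (A0.inv_mem hβ)
    set b := g * β * g⁻¹ with hb
    set c := h * α⁻¹ * h⁻¹ with hc
    set d := β⁻¹ with hd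
    have r1 : (h * (α * α) * h⁻¹)⁻¹ = c * c := by rw [hc]; group
    have r2 : g * (β * β) * g⁻¹ = b * b := by rw [hb]; group
    have r3 : (β * β)⁻¹ = d * d := by rw [hd]; group
    rw [r1, r2, r3]
    calc α * b * c * d * (α * b * c * d) = α * b * c * (d * α) * b * c * d := by group
      _ = α * b * (c * α) * (d * b) * c * d := by rw [← C3.eq]; group
      _ = α * (b * α) * (c * b) * (d * c) * d := by rw [← C2.eq, ← C5.eq]; group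
      _ = α * (α * b) * (b * c) * (c * d) * d := by rw [← C1.eq, ← C4.eq, ← C6.eq]
      _ = α * α * (b * b * (c * c)) * (d * d) := by group
      _ = α * α * (c * c * (b * b)) * (d * d) := by
        rw [((C4.mul_right C4).mul_left (C4.mul_right C4)).eq]
      _ = _ := by group
  rw [e2]
  have hα2 := B.A0_sq α hα
  have hβ2 := B.A0_sq β hβ
  have hhV : h * (α * α) * h⁻¹ ∈ V := by
    have hmT : h ∈ T := (B.T_mem h).2 ⟨1, A0.one_mem, k, l, by rw [hh]; group⟩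
    exact B.T_V hmT hα2
  have hgV : g * (β * β) * g⁻¹ ∈ V := by
    have hmT : g ∈ T := (B.T_mem g).2 ⟨1, A0.one_mem, j, i, by rw [hg]; group⟩
    exact B.T_V hmT hβ2
  rw [B.V_inv hhV, B.V_inv hβ2]
  have k1 := hact h k l hh _ hα2
  have k2 := hact g j i hg _ hβ2
  rw [B.A0_comm _ (B.V_le hβ2) _ (B.V_le hgV)] at k2
  rcases k1 with k1 | k1 <;> rcases k2 with k2 | k2 <;> rw [k1, k2]
  · left; group
  · right; group
  · right; group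
  · left; exact B.V_sq z B.z_mem

/-- An element of `A0` with square `z₁`. -/
theorem exists_a : ∃ a ∈ A0, a * a = ρ * z * ρ⁻¹ ∧
    (a * t * a⁻¹ * t⁻¹) * (a * t * a⁻¹ * t⁻¹) = z := by
  obtain ⟨a, ha, haa⟩ := B.A0_surj _ (B.ρ_V B.z_mem)
  refine ⟨a, ha, haa, ?_⟩
  have h1 : t * a⁻¹ * t⁻¹ ∈ A0 := B.t_A0 _ (A0.inv_mem ha)
  have h2 := B.A0_comm a ha _ h1
  calc (a * t * a⁻¹ * t⁻¹) * (a * t * a⁻¹ * t⁻¹) = a * ((t * a⁻¹ * t⁻¹) * a) * (t * a⁻¹ * t⁻¹) := by group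
    _ = a * (a * (t * a⁻¹ * t⁻¹)) * (t * a⁻¹ * t⁻¹) := by rw [h2]
    _ = (a * a) * (t * (a * a)⁻¹ * t⁻¹) := by group
    _ = z := by rw [haa, B.V_inv (B.ρ_V B.z_mem), B.t_rz, B.z1_z2]

/-- `N(T)` centralises `z`. -/
theorem norm_z {n : G} (hn : ∀ g ∈ T, n * g * n⁻¹ ∈ T) : n * z * n⁻¹ = z := by
  obtain ⟨a, ha, -, hz⟩ := B.exists_a
  have h1 := B.comm_sq (hn a (B.A0_le ha)) (hn t B.t_mem)
  have e : (n * a * n⁻¹) * (n * t * n⁻¹) * (n * a * n⁻¹)⁻¹ * (n * t * n⁻¹)⁻¹ =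
      n * (a * t * a⁻¹ * t⁻¹) * n⁻¹ := by group
  have e2 : n * (a * t * a⁻¹ * t⁻¹) * n⁻¹ * (n * (a * t * a⁻¹ * t⁻¹) * n⁻¹) = n * z * n⁻¹ := by
    rw [← hz]; group
  rw [e, e2] at h1
  rcases h1 with h | h
  · exfalso
    apply B.z_ne
    have : z = n⁻¹ * (n * z * n⁻¹) * n := by group
    rw [this, h]
    group
  · exact h

/-- elements `α t` do not commute with `a`. -/
theorem αt_comm {α a : G} (hα : α ∈ A0) (ha : a ∈ A0) (haa : a * a = ρ * z * ρ⁻¹)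
    (h : α * t * a = a * (α * t)) : False := by
  have h1 : t * a * t⁻¹ = a := by
    have h2 := B.A0_comm α hα _ (B.t_A0 a ha)
    have h3 : α * (t * a * t⁻¹) = α * a := by
      calc α * (t * a * t⁻¹) = α * t * a * t⁻¹ := by group
        _ = a * α := by rw [h]; group
        _ = α * a := B.A0_comm a ha α hα
    exact mul_left_cancel h3
  have h2 : t * (a * a) * t⁻¹ = a * a := by
    calc t * (a * a) * t⁻¹ = (t * a * t⁻¹) * (t * a * t⁻¹) := by group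
      _ = a * a := by rw [h1]
  rw [haa, B.t_rz] at h2
  exact B.z1_ne_z2 h2.symm

/-- `x^{N(T)} ⊆ {x, xz}`. -/
theorem norm_x {n : G} (hn : ∀ g ∈ T, n * g * n⁻¹ ∈ T) (hn' : ∀ g ∈ T, n⁻¹ * g * n ∈ T) :
    n * x * n⁻¹ = x ∨ n * x * n⁻¹ = x * z := by
  have hy := hn x B.x_mem
  have hyy : n * x * n⁻¹ * (n * x * n⁻¹) = 1 := by
    calc n * x * n⁻¹ * (n * x * n⁻¹) = n * (x * x) * n⁻¹ := by group
      _ = 1 := by rw [B.x_sq]; group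
  have hc : ∀ g ∈ T, (n * x * n⁻¹) * g = g * (n * x * n⁻¹) := by
    intro g hg
    have h1 := B.T_x (hn' g hg)
    calc (n * x * n⁻¹) * g = n * (x * (n⁻¹ * g * n)) * n⁻¹ := by group
      _ = _ := by rw [← h1]; group
  obtain ⟨p, hp, hpp, hyp⟩ := B.T_inv hy hyy
  have hpc : ∀ g ∈ T, p * g = g * p := by
    intro g hg
    rcases hyp with h | h
    · rw [← h]; exact hc g hg
    · have h1 := hc g hg
      rw [h] at h1
      have h2 := B.T_x hg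
      have h3 : p * g * x = g * p * x := by
        calc p * g * x = p * (g * x) := by group
          _ = p * x * g := by rw [h2]; group
          _ = _ := by rw [h1]; group
      exact mul_right_cancel h3
  have hpA : p ∈ A0 := by
    rcases hp with hp | ⟨α, hα, rfl⟩
    · exact hp
    · exfalso
      obtain ⟨a, ha, haa, -⟩ := B.exists_a
      exact B.αt_comm hα ha haa (hpc a (B.A0_le ha))
  have hpV := B.A0_inv p hpA hpp
  have htp : t * p * t⁻¹ = p := by rw [← hpc t B.t_mem, mul_inv_cancel_right]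
  have hp1 : p = 1 ∨ p = z := by
    rcases B.V_eq p hpV with h | h | h | h
    · exact Or.inl h
    · exact Or.inr h
    · exfalso
      rw [h, B.t_rz] at htp
      exact B.z1_ne_z2 htp.symm
    · exfalso
      rw [h, B.t_z2] at htp
      exact B.z1_ne_z2 htp
  have hback : ∀ y : G, n * x * n⁻¹ = y → x = n⁻¹ * y * n := by
    intro y h
    rw [← h]; group
  rcases hyp with h | h
  · exfalso
    rcases hp1 with rfl | rfl
    · apply B.x_ne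
      rw [hback _ h]; group
    · have h1 := hback _ h
      have h2 := B.norm_z hn
      have h3 : n⁻¹ * p * n = p := by
        calc n⁻¹ * p * n = n⁻¹ * (n * p * n⁻¹) * n := by rw [h2]
          _ = p := by group
      rw [h3] at h1
      exact B.x_not (h1 ▸ hpA)
  · rcases hp1 with rfl | rfl
    · left; rw [h, one_mul]
    · right; rw [h, B.x_comm p hpA]

end Base

end Cfsg.Agent.GH.WAct
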