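import Cfsg.Agent.GH.WMain

/-!
# Project GH, branch GH-L3 (W): the theorem

`Base.isolated`: if `T = P0 ⋊ ⟨τ⟩`, `P0 = 4 wr 2`, is a Sylow 2-subgroup of `C_G(x)` (structure `Base`), `G` has
no elementary abelian section of order `32` and `x` lies in the kernel of every homomorphism `G → {±1}`, then
`x` is isolated.
-/

set_option autoImplicit false

namespace Cfsg.Agent.GH.WAct

open Subgroup Cfsg.Agent.TwoFusion.SectionalRank

variable {G : Type*} [Group G]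

namespace Base2

variable {V A0 T : Subgroup G} {x τ t ρ z s : G} (B : Base2 V A0 T x τ t ρ z s)

include B

/-- elements normalising `Ap` normalise `V`. -/
theorem NAp_V {n : G} (hn : ∀ g ∈ T ⊓ centralizer (V : Set G), n * g * n⁻¹ ∈ T ⊓ centralizer (V : Set G))
    {v : G} (hv : v ∈ V) : n * v * n⁻¹ ∈ V := by
  by_cases hv1 : v = 1
  · rw [hv1, mul_one, mul_inv_cancel]
    exact V.one_mem
  have h1 := hn v (B.A0_le_Ap (B.V_le hv))
  have h2 : n * v * n⁻¹ * (n * v * n⁻¹) = 1 := by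
    calc n * v * n⁻¹ * (n * v * n⁻¹) = n * (v * v) * n⁻¹ := by group
      _ = 1 := by rw [B.V_sq v hv]; group
  obtain ⟨k, -, hk⟩ := B.starV hv hv1
  rcases B.mem_P0 B.zx ⟨s, B.s_x⟩ h1.1 h2 ⟨k * n⁻¹, by rw [← hk]; group⟩ with h | ⟨α, hα, h⟩
  · exact B.A0_inv _ h h2
  · rcases B.Ap_inv h1 h2 with h3 | ⟨v', hv', h3⟩
    · exact h3
    · exfalso
      obtain ⟨m, hm⟩ := B.x_pow
      -- `x v' = α t`, but `x v'` centralises `A0`
      obtain ⟨a, ha, haa, -⟩ := B.exists_a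
      refine B.αt_comm hα ha haa ?_
      rw [← h, h3]
      have c1 := B.x_comm a ha
      have c2 := B.A0_comm v' (B.V_le hv') a ha
      calc x * v' * a = x * (v' * a) := by group
        _ = x * a * v' := by rw [c2]; group
        _ = _ := by rw [c1]; group

/-- elements normalising `Ap` move `x` inside `xV`. -/
theorem NAp_x {n : G} (hn : ∀ g ∈ T ⊓ centralizer (V : Set G), n * g * n⁻¹ ∈ T ⊓ centralizer (V : Set G)) :
    ∃ v ∈ V, n * x * n⁻¹ = x * v := by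
  have h1 := hn x B.x_mem_Ap
  have h2 : n * x * n⁻¹ * (n * x * n⁻¹) = 1 := by
    calc n * x * n⁻¹ * (n * x * n⁻¹) = n * (x * x) * n⁻¹ := by group
      _ = 1 := by rw [B.x_sq]; group
  rcases B.Ap_inv h1 h2 with h | h
  · exfalso
    have h3 : n * x * n⁻¹ ≠ 1 := by
      intro h3
      apply B.x_ne
      have : x = n⁻¹ * (n * x * n⁻¹) * n := by group
      rw [this, h3]
      group
    obtain ⟨k, -, hk⟩ := B.starV h h3
    apply B.zx (k * n)
    rw [← hk]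
    group
  · exact h

theorem T_NAp {n : G} (hn : n ∈ T) : ∀ g ∈ T ⊓ centralizer (V : Set G),
    n * g * n⁻¹ ∈ T ⊓ centralizer (V : Set G) := by
  intro g hg
  refine ⟨T.mul_mem (T.mul_mem hn hg.1) (T.inv_mem hn), mem_centralizer_iff.2 fun v hv => ?_⟩
  have h1 := B.T_V (T.inv_mem hn) hv
  rw [inv_inv] at h1
  have h2 := mem_centralizer_iff.1 hg.2 _ h1
  calc v * (n * g * n⁻¹) = n * ((n⁻¹ * v * n) * g) * n⁻¹ := by group
    _ = _ := by rw [h2]; group

theorem s_NAp : ∀ g ∈ T ⊓ centralizer (V : Set G), s * g * s⁻¹ ∈ T ⊓ centralizer (V : Set G) := by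
  intro g hg
  refine ⟨B.s_T g hg.1, mem_centralizer_iff.2 fun v hv => ?_⟩
  have h2 : Commute g v := (mem_centralizer_iff.1 hg.2 v hv).symm
  have h3 : Commute s v := B.s_V v hv
  exact ((h3.mul_left h2).mul_left h3.inv_left).symm

theorem ρ_NAp : ∀ g ∈ T ⊓ centralizer (V : Set G), ρ * g * ρ⁻¹ ∈ T ⊓ centralizer (V : Set G) := by
  intro g hg
  obtain ⟨a, ha, i, rfl⟩ := B.Ap_form hg
  have h1 : ρ * (a * τ ^ i) * ρ⁻¹ = (ρ * a * ρ⁻¹) * τ ^ i := by
    have c := (show Commute ρ τ from B.ρ_τ).pow_right i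
    calc ρ * (a * τ ^ i) * ρ⁻¹ = (ρ * a * ρ⁻¹) * (ρ * τ ^ i) * ρ⁻¹ := by group
      _ = _ := by rw [c.eq]; group
  rw [h1]
  exact mul_mem (B.A0_le_Ap (B.ρ_A0 a ha)) (pow_mem B.τ_mem_Ap i)

omit B in
/-- the action on `x` composes. -/
theorem mulx {a b c d : G} (ha : ∀ v ∈ V, a * v = v * a) (hd : d ∈ V) (h1 : a * x * a⁻¹ = x * c)
    (h2 : b * x * b⁻¹ = x * d) : a * b * x * (a * b)⁻¹ = x * (c * d) := by
  calc a * b * x * (a * b)⁻¹ = a * (b * x * b⁻¹) * a⁻¹ := by group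
    _ = a * x * (d * a⁻¹) := by rw [h2]; group
    _ = a * x * (a⁻¹ * d) := by rw [((show Commute a d from ha d hd).inv_left).eq]
    _ = a * x * a⁻¹ * d := by group
    _ = _ := by rw [h1]; group

/-- elements centralising `x` and `V` and normalising `Ap` are in `Ap C(Ap)`. -/
theorem C1_form [Finite G] {c : G} (hcx : c * x = x * c) (hcV : ∀ v ∈ V, c * v = v * c)
    (hcA : ∀ g ∈ T ⊓ centralizer (V : Set G), c * g * c⁻¹ ∈ T ⊓ centralizer (V : Set G)) :
    ∃ α ∈ T ⊓ centralizer (V : Set G), ∃ c' : G, c = α * c' ∧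
      ∀ g ∈ T ⊓ centralizer (V : Set G), c' * g = g * c' := by
  set Ap : Subgroup G := T ⊓ centralizer (V : Set G) with hAp
  obtain ⟨u, o, k, m, huo, hu, ho, huk, hom, hm⟩ := exists_parts c
  let C1 : Subgroup G := centralizer ({x} : Set G) ⊓ centralizer (V : Set G) ⊓ normalizer (Ap : Set G)
  have hcC1 : c ∈ C1 := ⟨⟨mem_centralizer_singleton_iff.2 hcx,
    mem_centralizer_iff.2 fun v hv => (hcV v hv).symm⟩, mem_normalizer_fintype (S := (Ap : Set G)) hcA⟩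
  have huC1 : u ∈ C1 := (zpowers_le.2 hcC1) hu
  have hoC1 : o ∈ C1 := (zpowers_le.2 hcC1) ho
  have unC1 : ∀ y ∈ C1, y * x = x * y ∧ (∀ v ∈ V, y * v = v * y) ∧ ∀ g ∈ Ap, y * g * y⁻¹ ∈ Ap := by
    intro y hy
    exact ⟨mem_centralizer_singleton_iff.1 hy.1.1, fun v hv => (mem_centralizer_iff.1 hy.1.2 v hv).symm,
      fun g hg => (mem_normalizer_iff.1 hy.2 g).1 hg⟩
  refine ⟨u, ?_, o, huo.symm, ?_⟩
  · -- the 2-part
    let N2 : Subgroup G := centralizer ({x} : Set G) ⊓ normalizer (V : Set G)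
    let Q : Subgroup G := Ap ⊔ zpowers u
    have hQ2 : IsPGroup 2 Q := by
      refine IsPGroup.to_sup_of_normal_left' (B.T_p.to_le inf_le_left) (isPGroup_zpowers huk) ?_
      rw [zpowers_le]
      exact huC1.2
    have hQx : Q ≤ centralizer ({x} : Set G) :=
      sup_le (inf_le_left.trans B.T_le_cent) (zpowers_le.2 huC1.1.1)
    have hQV : Q ≤ centralizer (V : Set G) := sup_le inf_le_right (zpowers_le.2 huC1.1.2)
    have hQN : Q ≤ N2 := le_inf hQx (hQV.trans (centralizer_le_normalizer _))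
    have hTN : T ≤ N2 := by
      refine le_inf B.T_le_cent ?_
      intro y hy
      exact mem_normalizer_fintype (S := (V : Set G)) fun v hv => B.T_V hy hv
    obtain ⟨c1, hc1, hc1Q⟩ := conj_into B.T_p hTN
      (fun Q hQ hQN hTQ => B.max hQ (fun q hq => mem_centralizer_singleton_iff.1 (hQN hq).1) hTQ) hQ2 hQN
    have hle : Q.map (MulAut.conj c1).toMonoidHom ≤ Ap := by
      rintro _ ⟨q, hq, rfl⟩
      refine ⟨hc1Q q hq, mem_centralizer_iff.2 fun v hv => ?_⟩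
      show v * (c1 * q * c1⁻¹) = c1 * q * c1⁻¹ * v
      have h1 : c1⁻¹ * v * c1 ∈ V := (mem_normalizer_iff''.1 hc1.2 v).1 hv
      have h2 := mem_centralizer_iff.1 (hQV hq) _ h1
      calc v * (c1 * q * c1⁻¹) = c1 * ((c1⁻¹ * v * c1) * q) * c1⁻¹ := by group
        _ = _ := by rw [h2]; group
    have hcard : Nat.card Q ≤ Nat.card Ap := by
      have h1 : Nat.card (Q.map (MulAut.conj c1).toMonoidHom) = Nat.card Q :=
        (Nat.card_congr (Q.equivMapOfInjective _ (MulAut.conj c1).injective).toEquiv).symm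
      rw [← h1]
      exact Subgroup.card_le_of_le hle
    have heq : Ap = Q := Subgroup.eq_of_le_of_card_ge le_sup_left hcard
    rw [heq]
    exact mem_sup_right (mem_zpowers u)
  · obtain ⟨h1, h2, h3⟩ := unC1 o hoC1
    exact B.odd_cent hom hm h1 h2 h3

/-- The configuration is impossible. -/
theorem false [Finite G]
    (hrank : ∀ X Y : Subgroup G, ElemSection 2 X Y → Nat.card X ≤ 2 ^ 4 * Nat.card Y)
    (hf : ∀ f : G →* ℤˣ, f x = 1) : False := by
  set Ap : Subgroup G := T ⊓ centralizer (V : Set G) with hAp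
  let N1 : Subgroup G := normalizer (Ap : Set G) ⊓ centralizer ({z} : Set G)
  have unN1 : ∀ y ∈ N1, (∀ g ∈ Ap, y * g * y⁻¹ ∈ Ap) ∧ y * z = z * y := by
    intro y hy
    exact ⟨fun g hg => (mem_normalizer_iff.1 hy.1 g).1 hg, mem_centralizer_singleton_iff.1 hy.2⟩
  have toN1 : ∀ y : G, (∀ g ∈ Ap, y * g * y⁻¹ ∈ Ap) → y * z = z * y → y ∈ N1 := by
    intro y h1 h2
    exact ⟨mem_normalizer_fintype (S := (Ap : Set G)) h1, mem_centralizer_singleton_iff.2 h2⟩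
  have hTN1 : T ≤ N1 := by
    intro y hy
    refine toN1 y (B.T_NAp hy) ?_
    have := B.T_z hy
    rwa [mul_inv_eq_iff_eq_mul] at this
  have hRN1 : T ⊔ zpowers s ≤ N1 := by
    refine sup_le hTN1 ?_
    rw [zpowers_le]
    exact toN1 s B.s_NAp (B.s_V z B.z_mem)
  obtain ⟨R1, hRR1, hR1N1, hR1p, hR1max⟩ := exists_max B.R_p hRN1
  have hTR1 : T ≤ R1 := le_sup_left.trans hRR1
  have hsR1 : s ∈ R1 := hRR1 (mem_sup_right (mem_zpowers s))
  let W : Subgroup G := R1 ⊓ centralizer (V : Set G)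
  have hWV : ∀ w ∈ W, ∀ v ∈ V, w * v = v * w := fun w hw v hv => (mem_centralizer_iff.1 hw.2 v hv).symm
  have hWR1 : W ≤ R1 := inf_le_left
  have hsW : s ∈ W := ⟨hsR1, mem_centralizer_iff.2 fun v hv => (B.s_V v hv).symm⟩
  have hApW : Ap ≤ W := le_inf (inf_le_left.trans hTR1) inf_le_right
  have hWAp : ∀ w ∈ W, ∀ g ∈ Ap, w * g * w⁻¹ ∈ Ap := fun w hw => (unN1 w (hR1N1 hw.1)).1
  have hWx : ∀ w ∈ W, ∃ v ∈ V, w * x * w⁻¹ = x * v := fun w hw => B.NAp_x (hWAp w hw)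
  have hR1x : ∀ w ∈ R1, w * x = x * w → w ∈ T := by
    intro w hw hwx
    have h1 : R1 ⊓ centralizer ({x} : Set G) ≤ T := by
      refine B.max (hR1p.to_le inf_le_left) ?_ (le_inf hTR1 B.T_le_cent)
      intro q hq
      exact mem_centralizer_singleton_iff.1 hq.2
    exact h1 ⟨hw, mem_centralizer_singleton_iff.2 hwx⟩
  have hWcent : ∀ w ∈ W, w * x = x * w → w ∈ Ap := fun w hw hwx => ⟨hR1x w hw.1 hwx, hw.2⟩
  have hz1V := B.ρ_V B.z_mem
  have hz2V := B.ρ_V hz1V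
  -- an element of `N1` fixes `z₁` or moves it to `z₂`
  have act1 : ∀ c ∈ N1, c * (ρ * z * ρ⁻¹) * c⁻¹ = ρ * z * ρ⁻¹ ∨
      c * (ρ * z * ρ⁻¹) * c⁻¹ = ρ * (ρ * z * ρ⁻¹) * ρ⁻¹ := by
    intro c hc
    obtain ⟨h1, h2⟩ := unN1 c hc
    have h3 := B.NAp_V h1 hz1V
    have back : ∀ w : G, c * (ρ * z * ρ⁻¹) * c⁻¹ = w → ρ * z * ρ⁻¹ = c⁻¹ * w * c := by
      intro w h4; rw [← h4]; group
    rcases B.V_eq _ h3 with h | h | h | h
    · exfalso
      apply B.z1_ne_one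
      rw [back _ h]; group
    · exfalso
      apply B.z1_ne_z
      rw [back _ h, mul_assoc, ← h2, inv_mul_cancel_left]
    · exact Or.inl h
    · exact Or.inr h
  have cent_of : ∀ c : G, c * z = z * c → c * (ρ * z * ρ⁻¹) * c⁻¹ = ρ * z * ρ⁻¹ →
      ∀ v ∈ V, c * v = v * c := by
    intro c h1 h2 v hv
    rw [mul_inv_eq_iff_eq_mul] at h2
    rcases B.V_eq v hv with rfl | rfl | rfl | rfl
    · simp
    · exact h1
    · exact h2
    · rw [← B.z_z1]
      exact ((show Commute c z from h1).mul_right (show Commute c _ from h2))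
  have htN1 : t ∈ N1 := hTN1 B.t_mem
  have htR1 : t ∈ R1 := hTR1 B.t_mem
  -- correction by `t`
  have fix_t : ∀ c ∈ N1, (∀ v ∈ V, c * v = v * c) ∨ (∀ v ∈ V, (c * t) * v = v * (c * t)) := by
    intro c hc
    have hcz := (unN1 c hc).2
    rcases act1 c hc with h | h
    · exact Or.inl (cent_of c hcz h)
    · right
      have hctz : c * t * z = z * (c * t) := (unN1 _ (N1.mul_mem hc htN1)).2
      refine cent_of _ hctz ?_
      have h2 : c * t * (ρ * z * ρ⁻¹) * (c * t)⁻¹ = c * (t * (ρ * z * ρ⁻¹) * t⁻¹) * c⁻¹ := by group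
      rw [h2, B.t_rz, ← B.z_z1]
      have h3 : c * (z * (ρ * z * ρ⁻¹)) * c⁻¹ = (c * z * c⁻¹) * (c * (ρ * z * ρ⁻¹) * c⁻¹) := by group
      rw [h3, h, hcz, mul_inv_cancel_right, ← B.z_z1, ← mul_assoc, B.V_sq z B.z_mem, one_mul]
  have htW : ∀ w ∈ W, t * w * t⁻¹ ∈ W := by
    intro w hw
    refine ⟨R1.mul_mem (R1.mul_mem htR1 hw.1) (R1.inv_mem htR1), mem_centralizer_iff.2 fun v hv => ?_⟩
    have h1 := B.t_V hv
    rw [B.t_inv] at h1 ⊢
    have h2 := hWV w hw _ h1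
    have h3 : t * (t * v * t) * t = v := by
      calc t * (t * v * t) * t = (t * t) * v * (t * t) := by group
        _ = v := by rw [B.t_sq]; group
    calc v * (t * w * t) = t * (t * v * t) * t * (t * w * t) := by rw [h3]
      _ = t * (t * v * t) * (t * t) * w * t := by group
      _ = t * ((t * v * t) * w) * t := by rw [B.t_sq]; group
      _ = t * (w * (t * v * t)) * t := by rw [h2]
      _ = t * w * t * (v * (t * t)) := by group
      _ = t * w * t * v := by rw [B.t_sq, mul_one]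
  have hR1W : ∀ g ∈ R1, g ∈ W ∨ g * t ∈ W := by
    intro g hg
    rcases fix_t g (hR1N1 hg) with h | h
    · exact Or.inl ⟨hg, mem_centralizer_iff.2 fun v hv => (h v hv).symm⟩
    · exact Or.inr ⟨R1.mul_mem hg htR1, mem_centralizer_iff.2 fun v hv => (h v hv).symm⟩
  -- surjectivity of `w ↦ [x, w]`
  have hsp : IsPGroup 2 (zpowers s) := B.R_p.to_le le_sup_right
  have hρV' : ∀ v ∈ V, ρ⁻¹ * v * ρ ∈ V := by
    have h1 : ρ ∈ normalizer (V : Set G) := mem_normalizer_fintype (S := (V : Set G)) fun v hv => B.ρ_V hv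
    intro v hv
    exact (mem_normalizer_iff''.1 h1 v).1 hv
  have hρx' : ρ⁻¹ * x * ρ = x := by rw [mul_assoc, ← B.ρ_x, inv_mul_cancel_left]
  have hρx : ρ * x * ρ⁻¹ = x := by rw [B.ρ_x, mul_inv_cancel_right]
  have hρAp' : ∀ g ∈ Ap, ρ⁻¹ * g * ρ ∈ Ap := by
    have h1 : ρ ∈ normalizer (Ap : Set G) := mem_normalizer_fintype (S := (Ap : Set G)) B.ρ_NAp
    intro g hg
    exact (mem_normalizer_iff''.1 h1 g).1 hg
  -- conjugates by `ρ` of elements centralising `V` and normalising `Ap`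
  have ρconj : ∀ y : G, (∀ v ∈ V, y * v = v * y) → (∀ g ∈ Ap, y * g * y⁻¹ ∈ Ap) →
      (∀ v ∈ V, (ρ * y * ρ⁻¹) * v = v * (ρ * y * ρ⁻¹)) ∧
        (∀ g ∈ Ap, (ρ * y * ρ⁻¹) * g * (ρ * y * ρ⁻¹)⁻¹ ∈ Ap) := by
    intro y h1 h2
    constructor
    · intro v hv
      have h3 := h1 _ (hρV' v hv)
      calc (ρ * y * ρ⁻¹) * v = ρ * (y * (ρ⁻¹ * v * ρ)) * ρ⁻¹ := by group
        _ = _ := by rw [h3]; group
    · intro g hg
      have h3 := B.ρ_NAp _ (h2 _ (hρAp' g hg))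
      have e : ρ * (y * (ρ⁻¹ * g * ρ) * y⁻¹) * ρ⁻¹ = (ρ * y * ρ⁻¹) * g * (ρ * y * ρ⁻¹)⁻¹ := by group
      rwa [e] at h3
  have conjN1 : ∀ Y : Subgroup G, IsPGroup 2 Y → Y ≤ N1 → ∃ c ∈ N1, ∀ y ∈ Y, c * y * c⁻¹ ∈ R1 :=
    fun Y hY hYN => conj_into hR1p hR1N1 hR1max hY hYN
  have hWsurj : ∀ v ∈ V, ∃ w ∈ W, w * x * w⁻¹ = x * v := by
    -- an element moving `x` to `x z₁` or `x z₂`
    have h1 : ∃ w ∈ W, w * x * w⁻¹ = x * (ρ * z * ρ⁻¹) ∨ w * x * w⁻¹ = x * (ρ * (ρ * z * ρ⁻¹) * ρ⁻¹) := by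
      set y := ρ * s * ρ⁻¹ with hy
      obtain ⟨hyV, hyAp⟩ := ρconj s B.s_V B.s_NAp
      rw [← hy] at hyV hyAp
      have hyx : y * x * y⁻¹ = x * (ρ * z * ρ⁻¹) := by
        calc y * x * y⁻¹ = ρ * (s * (ρ⁻¹ * x * ρ) * s⁻¹) * ρ⁻¹ := by rw [hy]; group
          _ = ρ * x * ρ⁻¹ * (ρ * z * ρ⁻¹) := by rw [hρx', B.s_x]; group
          _ = x * (ρ * z * ρ⁻¹) := by rw [hρx]
      have hyp : IsPGroup 2 (zpowers y) := by
        have h2 := hsp.map (MulAut.conj ρ).toMonoidHom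
        rw [MonoidHom.map_zpowers] at h2
        exact h2
      obtain ⟨c, hc, hcy⟩ := conjN1 (zpowers y) hyp (by
        rw [zpowers_le]
        exact toN1 y hyAp (hyV z B.z_mem))
      have hcyR := hcy y (mem_zpowers y)
      obtain ⟨hcAp, hcz⟩ := unN1 c hc
      have hcV' : ∀ v ∈ V, c⁻¹ * v * c ∈ V := by
        have h1 : c ∈ normalizer (V : Set G) :=
          mem_normalizer_fintype (S := (V : Set G)) fun v hv => B.NAp_V hcAp hv
        intro v hv
        exact (mem_normalizer_iff''.1 h1 v).1 hv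
      have hcyW : c * y * c⁻¹ ∈ W := by
        refine ⟨hcyR, mem_centralizer_iff.2 fun v hv => ?_⟩
        have h3 := hyV _ (hcV' v hv)
        calc v * (c * y * c⁻¹) = c * ((c⁻¹ * v * c) * y) * c⁻¹ := by group
          _ = _ := by rw [← h3]; group
      obtain ⟨vc, hvc, hcx⟩ := B.NAp_x hcAp
      obtain ⟨v', hv', hyx'⟩ := hWx _ hcyW
      have h4 : v' = c * (ρ * z * ρ⁻¹) * c⁻¹ := by
        have h5 : (c * y * c⁻¹) * (x * vc) * (c * y * c⁻¹)⁻¹ = x * (vc * (c * (ρ * z * ρ⁻¹) * c⁻¹)) := by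
          calc (c * y * c⁻¹) * (x * vc) * (c * y * c⁻¹)⁻¹ = c * (y * x * y⁻¹) * c⁻¹ := by
                rw [← hcx]; group
            _ = (c * x * c⁻¹) * (c * (ρ * z * ρ⁻¹) * c⁻¹) := by rw [hyx]; group
            _ = _ := by rw [hcx]; group
        have h6 : (c * y * c⁻¹) * (x * vc) * (c * y * c⁻¹)⁻¹ = x * (v' * vc) := by
          calc (c * y * c⁻¹) * (x * vc) * (c * y * c⁻¹)⁻¹
              = ((c * y * c⁻¹) * x * (c * y * c⁻¹)⁻¹) * ((c * y * c⁻¹) * vc * (c * y * c⁻¹)⁻¹) := by group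
            _ = x * v' * (vc * (c * y * c⁻¹) * (c * y * c⁻¹)⁻¹) := by rw [hyx', hWV _ hcyW vc hvc]
            _ = _ := by group
        rw [h5] at h6
        have h7 := mul_left_cancel h6
        have h8 := B.NAp_V hcAp hz1V
        rw [B.A0_comm vc (B.V_le hvc) _ (B.V_le h8)] at h7
        exact (mul_right_cancel h7).symm
      refine ⟨_, hcyW, ?_⟩
      rw [hyx', h4]
      rcases act1 c hc with h | h
      · left; rw [h]
      · right; rw [h]
    obtain ⟨w, hwW, hw⟩ := h1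
    intro v hv
    have hswW := W.mul_mem hsW hwW
    rcases hw with hw | hw
    · have h2 := mulx (B.s_V) hz1V B.s_x hw
      rw [B.z_z1] at h2
      rcases B.V_eq v hv with rfl | rfl | rfl | rfl
      · exact ⟨1, W.one_mem, by group⟩
      · exact ⟨s, hsW, B.s_x⟩
      · exact ⟨w, hwW, hw⟩
      · exact ⟨s * w, hswW, h2⟩
    · have h2 := mulx (B.s_V) hz2V B.s_x hw
      have h3 : z * (ρ * (ρ * z * ρ⁻¹) * ρ⁻¹) = ρ * z * ρ⁻¹ := by
        rw [← B.z_z1, ← mul_assoc, B.V_sq z B.z_mem, one_mul]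
      rw [h3] at h2
      rcases B.V_eq v hv with rfl | rfl | rfl | rfl
      · exact ⟨1, W.one_mem, by group⟩
      · exact ⟨s, hsW, B.s_x⟩
      · exact ⟨s * w, hswW, h2⟩
      · exact ⟨w, hwW, hw⟩
  -- the element `r`
  have hr : ∃ c' : G, (∀ g ∈ Ap, c' * g = g * c') ∧ ∀ w ∈ W, (c' * ρ) * w * (c' * ρ)⁻¹ ∈ W := by
    have hYN : W.map (MulAut.conj ρ).toMonoidHom ≤ N1 := by
      rintro _ ⟨w, hw, rfl⟩
      obtain ⟨h1, h2⟩ := ρconj w (hWV w hw) (hWAp w hw)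
      exact toN1 _ h2 (h1 z B.z_mem)
    obtain ⟨c0, hc0, hc0R⟩ := conjN1 _ ((hR1p.to_le inf_le_left : IsPGroup 2 W).map _) hYN
    -- we may assume that `c` centralises `V`
    obtain ⟨c, hcN, hcR, hcV⟩ : ∃ c ∈ N1, (∀ w ∈ W, c * (ρ * w * ρ⁻¹) * c⁻¹ ∈ R1) ∧
        ∀ v ∈ V, c * v = v * c := by
      have h1 : ∀ w ∈ W, c0 * (ρ * w * ρ⁻¹) * c0⁻¹ ∈ R1 := fun w hw => hc0R _ ⟨w, hw, rfl⟩
      rcases fix_t c0⁻¹ (N1.inv_mem hc0) with h | h
      · refine ⟨c0, hc0, h1, fun v hv => ?_⟩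
        have := (show Commute c0⁻¹ v from h v hv).inv_left
        rwa [inv_inv] at this
      · refine ⟨t * c0, N1.mul_mem htN1 hc0, ?_, fun v hv => ?_⟩
        · intro w hw
          have h2 := R1.mul_mem (R1.mul_mem htR1 (h1 w hw)) (R1.inv_mem htR1)
          have e : t * (c0 * (ρ * w * ρ⁻¹) * c0⁻¹) * t⁻¹ = t * c0 * (ρ * w * ρ⁻¹) * (t * c0)⁻¹ := by group
          rwa [e] at h2
        · have h2 := (show Commute (c0⁻¹ * t) v from h v hv).inv_left
          rw [mul_inv_rev, inv_inv, B.t_inv] at h2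
          exact h2
    obtain ⟨hcAp, -⟩ := unN1 c hcN
    obtain ⟨v, hv, hcx⟩ := B.NAp_x hcAp
    obtain ⟨w0, hw0, hw0x⟩ := hWsurj v hv
    -- `w0⁻¹ c` centralises `x`
    have h1 : w0⁻¹ * c * x = x * (w0⁻¹ * c) := by
      have h2 : w0⁻¹ * c * x * (w0⁻¹ * c)⁻¹ = x := by
        calc w0⁻¹ * c * x * (w0⁻¹ * c)⁻¹ = w0⁻¹ * (c * x * c⁻¹) * w0 := by group
          _ = w0⁻¹ * (w0 * x * w0⁻¹) * w0 := by rw [hcx, hw0x]
          _ = x := by group
      rw [mul_inv_eq_iff_eq_mul] at h2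
      exact h2
    have h2 : ∀ v ∈ V, w0⁻¹ * c * v = v * (w0⁻¹ * c) := by
      intro v hv
      exact (show Commute w0 v from hWV w0 hw0 v hv).inv_left.mul_left (show Commute c v from hcV v hv)
    have h3 : ∀ g ∈ Ap, w0⁻¹ * c * g * (w0⁻¹ * c)⁻¹ ∈ Ap := by
      intro g hg
      have h4 := hWAp w0⁻¹ (W.inv_mem hw0) _ (hcAp g hg)
      have e : w0⁻¹ * (c * g * c⁻¹) * w0⁻¹⁻¹ = w0⁻¹ * c * g * (w0⁻¹ * c)⁻¹ := by group
      rwa [e] at h4
    obtain ⟨α, hα, c', hc', hc'A⟩ := B.C1_form h1 h2 h3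
    refine ⟨c', hc'A, fun w hw => ?_⟩
    have h5 : c * (ρ * w * ρ⁻¹) * c⁻¹ ∈ W := by
      refine ⟨hcR w hw, mem_centralizer_iff.2 fun v hv => ?_⟩
      obtain ⟨h6, -⟩ := ρconj w (hWV w hw) (hWAp w hw)
      have C1 : Commute c v := hcV v hv
      have C2 : Commute (ρ * w * ρ⁻¹) v := h6 v hv
      exact ((C1.mul_left C2).mul_left C1.inv_left).symm
    have hw0α : w0 * α ∈ W := W.mul_mem hw0 (hApW hα)
    have hc'' : c' = (w0 * α)⁻¹ * c := by
      rw [mul_inv_rev, mul_assoc, hc']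
      group
    have h6 := W.mul_mem (W.mul_mem (W.inv_mem hw0α) h5) hw0α
    have e : (w0 * α)⁻¹ * (c * (ρ * w * ρ⁻¹) * c⁻¹) * (w0 * α) = (c' * ρ) * w * (c' * ρ)⁻¹ := by
      rw [hc'']; group
    rwa [e] at h6
  obtain ⟨c', hc'A, hc'W⟩ := hr
  set r := c' * ρ with hrdef
  -- `r` acts on `Ap` as `ρ`
  have hrAp : ∀ g ∈ Ap, r * g * r⁻¹ = ρ * g * ρ⁻¹ := by
    intro g hg
    have h1 := hc'A _ (B.ρ_NAp g hg)
    calc r * g * r⁻¹ = c' * (ρ * g * ρ⁻¹) * c'⁻¹ := by rw [hrdef]; group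
      _ = _ := by rw [h1, mul_inv_cancel_right]
  have hVAp : ∀ v ∈ V, v ∈ Ap := fun v hv => B.A0_le_Ap (B.V_le hv)
  have hrz : r * z * r⁻¹ = ρ * z * ρ⁻¹ := hrAp z (hVAp z B.z_mem)
  have hrz1 : r * (r * z * r⁻¹) * r⁻¹ = ρ * (ρ * z * ρ⁻¹) * ρ⁻¹ := by
    rw [hrz]; exact hrAp _ (hVAp _ hz1V)
  have hrτ : r * τ = τ * r := by
    have h1 := hrAp τ B.τ_mem_Ap
    rw [B.ρ_τ, mul_inv_cancel_right, mul_inv_eq_iff_eq_mul] at h1
    exact h1
  have hts : s⁻¹ * (t * s * t) ∈ A0 := by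
    -- `y = s⁻¹ t s` lies in `P0`
    have hyT := B.s_T' t B.t_mem
    have hyy : s⁻¹ * t * s * (s⁻¹ * t * s) = 1 := by
      calc s⁻¹ * t * s * (s⁻¹ * t * s) = s⁻¹ * (t * t) * s := by group
        _ = 1 := by rw [B.t_sq]; group
    obtain ⟨k, -, hk⟩ := B.star 1 A0.one_mem (by rw [one_mul, B.t_sq])
    rw [one_mul] at hk
    have e : s⁻¹ * (t * s * t) = s⁻¹ * t * s * t := by group
    rw [e]
    rcases B.mem_P0 B.zx ⟨s, B.s_x⟩ hyT hyy ⟨k * s, by rw [← hk]; group⟩ with h | ⟨α, hα, h⟩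
    · exfalso
      -- then `t = s y s⁻¹` centralises `V`
      have hyV := B.A0_inv _ h hyy
      have h1 : t = s * (s⁻¹ * t * s) * s⁻¹ := by group
      have h2 := B.s_V _ hyV
      rw [h2, mul_inv_cancel_right] at h1
      have h3 : t ∈ V := by rw [h1]; exact hyV
      have h4 := B.t_rz
      rw [B.A0_comm t (B.V_le h3) _ (B.V_le hz1V), mul_inv_cancel_right] at h4
      exact B.z1_ne_z2 h4
    · rw [h, mul_assoc, B.t_sq, mul_one]
      exact hα
  have hC : TCfg V A0 Ap W x τ r z t s :=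
    { V_le := B.V_le
      A0_le := B.A0_le_Ap
      Ap_le := hApW
      V_sq := B.V_sq
      V_comm := fun v hv w hw => hWV w hw v hv
      A0_comm := B.A0_comm
      A0_sq := B.A0_sq
      A0_inv := B.A0_inv
      A0_surj := B.A0_surj
      Ap_mem := fun g hg => B.Ap_form hg
      τ_mem := B.τ_mem_Ap
      τ_A0 := B.τ_A0
      x_pow := B.x_pow
      x_sq := B.x_sq
      x_not := B.x_not
      x_comm := B.x_comm
      τ_sq := fun i hi => B.τ_inv i (by
        have := B.τ_not (i + i) (by rw [pow_add]; exact hi)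
        rwa [pow_add] at this)
      W_Ap := hWAp
      W_x := hWx
      W_cent := hWcent
      W_surj := hWsurj
      r_W := hc'W
      r_A0 := fun g hg => by rw [hrAp g (B.A0_le_Ap hg)]; exact B.ρ_A0 g hg
      r_τ := hrτ
      z_mem := B.z_mem
      z_ne := B.z_ne
      V_eq := fun v hv => by rw [hrz1, hrz]; exact B.V_eq v hv
      r_prod := by rw [hrz1, hrz]; exact B.ρ_prod
      r_fix := fun v hv h => B.ρ_fix v hv (by rw [← hrAp v (hVAp v hv)]; exact h)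
      t_sq := B.t_sq
      t_τ := B.t_τ
      t_A0 := B.t_A0
      t_W := htW
      t_rz := by rw [hrz1, hrz]; exact B.t_rz
      s_mem := hsW
      s_x := B.s_x
      t_s := hts }
  obtain ⟨s', hs'W, hs'x, hs'sq, hs'c, hs'p⟩ := hC.exists_s
  have hS : SCfg V A0 Ap W x τ r z s' :=
    { hC.toCfg with
      s_mem := hs'W
      s_x := hs'x
      s_sq := hs'sq
      s_comm := hs'c
      s_prod := hs'p }
  have hnV := hS.sq_not_mem hrank
  rcases B.τ_or with h | h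
  · subst h
    have hF : FCfg V A0 Ap W R1 T τ r z s' t :=
      { hS with
        s_nV := hnV
        t_sq := B.t_sq
        t_x := B.t_x
        t_A0 := B.t_A0
        t_W := htW
        t_z := B.t_z
        t_rz := by rw [hrz1, hrz]; exact B.t_rz
        W_le := hWR1
        t_mem := htR1
        R1_mem := hR1W
        R1_p := hR1p
        T_le := hTR1
        T_x := fun g hg => B.T_x hg
        T_syl := fun P hP hPx hTP => B.max hP hPx hTP
        zx := B.zx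
        star := fun α hα h => by
          obtain ⟨k, -, hk⟩ := B.star α hα h
          exact ⟨k, hk⟩
        starV := fun v hv h => by
          obtain ⟨k, -, hk⟩ := B.starV hv h
          exact ⟨k, hk⟩ }
    exact hF.false hf
  · exact hS.false_of_pow hnV h

end Base2

/-- **Main theorem of branch (W).** -/
theorem Base.isolated [Finite G] {V A0 T : Subgroup G} {x τ t ρ z : G} (B : Base V A0 T x τ t ρ z)
    (hrank : ∀ X Y : Subgroup G, ElemSection 2 X Y → Nat.card X ≤ 2 ^ 4 * Nat.card Y)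
    (hf : ∀ f : G →* ℤˣ, f x = 1) : E.Isolated x := by
  by_contra h
  obtain ⟨s, hs⟩ := B.exists_base2 h
  exact hs.false hrank hf

end Cfsg.Agent.GH.WAct
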