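import Cfsg.Agent.GH.WDefs
import Cfsg.Agent.GH.WThm
import Cfsg.Agent.GH.QAZStar
import Cfsg.Agent.GH.Defs

/-!
# Project GH, branch GH-L3 (W): from the frame to a contradiction

`false_of_frame`: the frame `Frame x T a b t τ ρ` is impossible in a simple nonabelian group of sectional
2-rank at most 4.
-/

set_option autoImplicit false

namespace Cfsg.Agent.GH.WConv

open Subgroup Cfsg.Agent.GH.WDefs Cfsg.Agent.TwoFusion.SectionalRank

variable {G : Type*} [Group G]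

section wr

variable {a b t : G}

theorem comm_A0 (ab : a * b = b * a) : ∀ g ∈ A0 a b, ∀ h ∈ A0 a b, g * h = h * g := by
  intro g hg h hh
  have hc : ∀ u ∈ ({a, b} : Set G), ∀ v ∈ ({a, b} : Set G), u * v = v * u := by
    rintro u (rfl | rfl) v (rfl | rfl)
    · rfl
    · exact ab
    · exact ab.symm
    · rfl
  have := Subgroup.isMulCommutative_closure (k := ({a, b} : Set G)) hc
  exact congrArg Subtype.val (this.is_comm.comm ⟨g, hg⟩ ⟨h, hh⟩)

theorem inv_pow_three {a : G} (a4 : a ^ 4 = 1) : a⁻¹ = a ^ 3 :=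
  inv_eq_of_mul_eq_one_right (by rw [← pow_succ']; exact a4)

/-- Elements of `A₀`. -/
theorem mem_A0_iff (a4 : a ^ 4 = 1) (b4 : b ^ 4 = 1) (ab : a * b = b * a) {g : G} :
    g ∈ A0 a b ↔ ∃ i j : ℕ, g = a ^ i * b ^ j := by
  have hcp : ∀ i j : ℕ, b ^ i * a ^ j = a ^ j * b ^ i := fun i j =>
    (Commute.pow_pow (show Commute b a from ab.symm) i j)
  constructor
  · intro hg
    refine Subgroup.closure_induction (p := fun x _ => ∃ i j : ℕ, x = a ^ i * b ^ j) ?_ ?_ ?_ ?_ hg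
    · rintro x (rfl | rfl)
      · exact ⟨1, 0, by rw [pow_one, pow_zero, mul_one]⟩
      · exact ⟨0, 1, by rw [pow_one, pow_zero, one_mul]⟩
    · exact ⟨0, 0, by rw [pow_zero, pow_zero, one_mul]⟩
    · rintro x y _ _ ⟨i, j, rfl⟩ ⟨k, l, rfl⟩
      refine ⟨i + k, j + l, ?_⟩
      calc a ^ i * b ^ j * (a ^ k * b ^ l) = a ^ i * (b ^ j * a ^ k) * b ^ l := by group
        _ = a ^ i * (a ^ k * b ^ j) * b ^ l := by rw [hcp]
        _ = a ^ i * a ^ k * (b ^ j * b ^ l) := by simp only [mul_assoc]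
        _ = a ^ (i + k) * b ^ (j + l) := by rw [← pow_add, ← pow_add]
    · rintro x _ ⟨i, j, rfl⟩
      refine ⟨3 * i, 3 * j, ?_⟩
      have h1 : (a ^ i * b ^ j) * (a ^ (3 * i) * b ^ (3 * j)) = 1 := by
        calc a ^ i * b ^ j * (a ^ (3 * i) * b ^ (3 * j))
            = a ^ i * (b ^ j * a ^ (3 * i)) * b ^ (3 * j) := by group
          _ = a ^ i * (a ^ (3 * i) * b ^ j) * b ^ (3 * j) := by rw [hcp]
          _ = a ^ i * a ^ (3 * i) * (b ^ j * b ^ (3 * j)) := by simp only [mul_assoc]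
          _ = a ^ (4 * i) * b ^ (4 * j) := by
            rw [← pow_add, ← pow_add]
            congr 2 <;> ring
          _ = 1 := by rw [pow_mul, pow_mul, a4, b4, one_pow, one_pow, one_mul]
      exact inv_eq_of_mul_eq_one_right h1
  · rintro ⟨i, j, rfl⟩
    exact mul_mem (pow_mem (subset_closure (by simp)) i) (pow_mem (subset_closure (by simp)) j)

/-- `V = Ω₁(A₀)`. -/
def V (a b : G) (ab : a * b = b * a) : Subgroup G where
  carrier := {g | g ∈ A0 a b ∧ g * g = 1}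
  one_mem' := ⟨one_mem _, one_mul 1⟩
  mul_mem' := by
    rintro g h ⟨hg, hg2⟩ ⟨hh, hh2⟩
    refine ⟨mul_mem hg hh, ?_⟩
    have hc := comm_A0 ab g hg h hh
    calc g * h * (g * h) = g * (h * g) * h := by group
      _ = g * (g * h) * h := by rw [hc]
      _ = (g * g) * (h * h) := by group
      _ = 1 := by rw [hg2, hh2, one_mul]
  inv_mem' := by
    rintro g ⟨hg, hg2⟩
    refine ⟨inv_mem hg, ?_⟩
    rw [← mul_inv_rev, hg2, inv_one]

theorem mem_V {ab : a * b = b * a} {g : G} : g ∈ V a b ab ↔ g ∈ A0 a b ∧ g * g = 1 := Iff.rfl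

end wr

section cyc

/-- In a cyclic 2-group. -/
theorem cyc_facts {τ x : G} {k n : ℕ} (hk : τ ^ 2 ^ k = 1) (hx : x = τ ^ n) (hx1 : x ≠ 1) (hxx : x * x = 1) :
    (∀ i : ℕ, τ ^ i * τ ^ i = 1 → τ ^ i = 1 ∨ τ ^ i = x) ∧ (τ = x ∨ ∃ m : ℕ, x = (τ * τ) ^ m) := by
  obtain ⟨r, hr, hor⟩ := (Nat.dvd_prime_pow Nat.prime_two).1 (orderOf_dvd_of_pow_eq_one hk)
  have hr0 : r ≠ 0 := by
    rintro rfl
    rw [pow_zero, orderOf_eq_one_iff] at hor
    apply hx1
    rw [hx, hor, one_pow]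
  obtain ⟨s, rfl⟩ := Nat.exists_eq_succ_of_ne_zero hr0
  -- the involution
  have key : ∀ i : ℕ, τ ^ i * τ ^ i = 1 → τ ^ i = 1 ∨ (τ ^ i = τ ^ 2 ^ s ∧ 2 ^ s ∣ i) := by
    intro i hi
    rw [← pow_add] at hi
    have h1 := orderOf_dvd_of_pow_eq_one hi
    rw [hor, pow_succ, ← two_mul, mul_comm] at h1
    have h2 : 2 ^ s ∣ i := Nat.dvd_of_mul_dvd_mul_left (by norm_num) h1
    obtain ⟨c, rfl⟩ := h2
    have h3 : τ ^ (2 * 2 ^ s) = 1 := by
      rw [mul_comm, ← pow_succ, ← hor, pow_orderOf_eq_one]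
    rcases Nat.even_or_odd c with ⟨d, rfl⟩ | ⟨d, rfl⟩
    · left
      have e : 2 ^ s * (d + d) = 2 * 2 ^ s * d := by ring
      rw [e, pow_mul, h3, one_pow]
    · right
      refine ⟨?_, dvd_mul_right _ _⟩
      have e : 2 ^ s * (2 * d + 1) = 2 * 2 ^ s * d + 2 ^ s := by ring
      rw [e, pow_add, pow_mul, h3, one_pow, one_mul]
  have hxk := key n (by rw [← hx]; exact hxx)
  rw [← hx] at hxk
  rcases hxk with h | ⟨hxs, hdvd⟩
  · exact absurd h hx1
  · constructor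
    · intro i hi
      rcases key i hi with h | ⟨h, -⟩
      · exact Or.inl h
      · right
        rw [h, hxs]
    · rcases Nat.eq_zero_or_pos s with rfl | hs
      · left
        rw [hxs, pow_zero, pow_one]
      · right
        obtain ⟨s', rfl⟩ := Nat.exists_eq_succ_of_ne_zero hs.ne'
        refine ⟨2 ^ s', ?_⟩
        rw [hxs, ← pow_two, ← pow_mul, Nat.succ_eq_add_one, pow_succ, mul_comm]

end cyc

section conv

variable {x a b t τ ρ : G} {T : Subgroup G}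

theorem t_inv (F : Frame x T a b t τ ρ) : t⁻¹ = t := inv_eq_of_mul_eq_one_left F.tt

theorem tb (F : Frame x T a b t τ ρ) : t * b * t⁻¹ = a := by
  rw [← F.ta, t_inv F]
  calc t * (t * a * t) * t = (t * t) * a * (t * t) := by group
    _ = a := by rw [F.tt]; group

theorem b4 (F : Frame x T a b t τ ρ) : b ^ 4 = 1 := by
  rw [← F.ta, conj_pow, F.a4, mul_one, mul_inv_cancel]

theorem mem_A0 (F : Frame x T a b t τ ρ) {g : G} : g ∈ A0 a b ↔ ∃ i j : ℕ, g = a ^ i * b ^ j :=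
  mem_A0_iff F.a4 (b4 F) F.ab

theorem conj_A0 (F : Frame x T a b t τ ρ) (w a' b' : G) (ha : w * a * w⁻¹ = a') (hb : w * b * w⁻¹ = b')
    (ha' : a' ∈ A0 a b) (hb' : b' ∈ A0 a b) : ∀ g ∈ A0 a b, w * g * w⁻¹ ∈ A0 a b := by
  intro g hg
  obtain ⟨i, j, rfl⟩ := (mem_A0 F).1 hg
  have : w * (a ^ i * b ^ j) * w⁻¹ = (w * a * w⁻¹) ^ i * (w * b * w⁻¹) ^ j := by
    rw [conj_pow, conj_pow]; group
  rw [this, ha, hb]
  exact mul_mem (pow_mem ha' i) (pow_mem hb' j)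

theorem a_mem : a ∈ A0 a b := subset_closure (by simp)
theorem b_mem : b ∈ A0 a b := subset_closure (by simp)

theorem t_A0 (F : Frame x T a b t τ ρ) : ∀ g ∈ A0 a b, t * g * t⁻¹ ∈ A0 a b :=
  conj_A0 F t b a F.ta (tb F) b_mem a_mem

theorem ρ_A0 (F : Frame x T a b t τ ρ) : ∀ g ∈ A0 a b, ρ * g * ρ⁻¹ ∈ A0 a b :=
  conj_A0 F ρ b _ F.ρa F.ρb b_mem (inv_mem (mul_mem a_mem b_mem))

theorem mem_P0 (F : Frame x T a b t τ ρ) {p : G} : p ∈ P0 a b t ↔ ∃ α ∈ A0 a b, ∃ j : ℕ, p = α * t ^ j := by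
  have htj : ∀ (j : ℕ), ∀ g ∈ A0 a b, t ^ j * g * (t ^ j)⁻¹ ∈ A0 a b := by
    intro j
    induction j with
    | zero => intro g hg; simpa using hg
    | succ j ih =>
      intro g hg
      have h1 := ih _ (t_A0 F g hg)
      have e : t ^ (j + 1) * g * (t ^ (j + 1))⁻¹ = t ^ j * (t * g * t⁻¹) * (t ^ j)⁻¹ := by
        rw [pow_succ, mul_inv_rev]; group
      rw [e]; exact h1
  constructor
  · intro hp
    refine Subgroup.closure_induction (p := fun x _ => ∃ α ∈ A0 a b, ∃ j : ℕ, x = α * t ^ j) ?_ ?_ ?_ ?_ hp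
    · rintro y (rfl | rfl | rfl)
      · exact ⟨_, a_mem, 0, by rw [pow_zero, mul_one]⟩
      · exact ⟨_, b_mem, 0, by rw [pow_zero, mul_one]⟩
      · exact ⟨1, one_mem _, 1, by rw [pow_one, one_mul]⟩
    · exact ⟨1, one_mem _, 0, by rw [pow_zero, mul_one]⟩
    · rintro u v _ _ ⟨α, hα, i, rfl⟩ ⟨β, hβ, j, rfl⟩
      refine ⟨α * (t ^ i * β * (t ^ i)⁻¹), mul_mem hα (htj i β hβ), i + j, ?_⟩
      rw [pow_add]
      group
    · rintro u _ ⟨α, hα, i, rfl⟩
      refine ⟨t ^ i * α⁻¹ * (t ^ i)⁻¹, htj i _ (inv_mem hα), i, ?_⟩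
      have h2 : t ^ i * t ^ i = 1 := by
        rw [← Commute.mul_pow rfl, F.tt, one_pow]
      have h3 : (t ^ i)⁻¹ = t ^ i := inv_eq_of_mul_eq_one_left h2
      rw [mul_inv_rev, h3]
      calc t ^ i * α⁻¹ = t ^ i * α⁻¹ * 1 := by rw [mul_one]
        _ = t ^ i * α⁻¹ * (t ^ i * t ^ i) := by rw [h2]
        _ = _ := by group
  · rintro ⟨α, hα, j, rfl⟩
    have h1 : A0 a b ≤ P0 a b t := closure_mono (by
      rintro y (rfl | rfl)
      · simp
      · simp)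
    exact mul_mem (h1 hα) (pow_mem (subset_closure (by simp)) j)

theorem sq_eq (F : Frame x T a b t τ ρ) (i j : ℕ) :
    a ^ i * b ^ j * (a ^ i * b ^ j) = a ^ (2 * i) * b ^ (2 * j) := by
  have hcp : b ^ j * a ^ i = a ^ i * b ^ j := (Commute.pow_pow (show Commute b a from F.ab.symm) j i)
  calc a ^ i * b ^ j * (a ^ i * b ^ j) = a ^ i * (b ^ j * a ^ i) * b ^ j := by group
    _ = a ^ i * (a ^ i * b ^ j) * b ^ j := by rw [hcp]
    _ = (a ^ i * a ^ i) * (b ^ j * b ^ j) := by simp only [mul_assoc]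
    _ = _ := by rw [← pow_add, ← pow_add, two_mul, two_mul]

/-- The elements of `V`. -/
theorem V_cases (F : Frame x T a b t τ ρ) {v : G} (hv : v ∈ V a b F.ab) :
    v = 1 ∨ v = a ^ 2 * b ^ 2 ∨ v = a ^ 2 ∨ v = b ^ 2 := by
  obtain ⟨h1, h2⟩ := hv
  obtain ⟨i, j, rfl⟩ := (mem_A0 F).1 h1
  rw [sq_eq F] at h2
  obtain ⟨hi, hj⟩ := F.indep _ _ h2
  obtain ⟨i', rfl⟩ : 2 ∣ i := by omega
  obtain ⟨j', rfl⟩ : 2 ∣ j := by omega
  have hpow : ∀ {c : G}, c ^ 4 = 1 → ∀ n : ℕ, c ^ (2 * n) = 1 ∨ c ^ (2 * n) = c ^ 2 := by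
    intro c hc n
    rcases Nat.even_or_odd n with ⟨d, rfl⟩ | ⟨d, rfl⟩
    · left
      have e : 2 * (d + d) = 4 * d := by ring
      rw [e, pow_mul, hc, one_pow]
    · right
      have e : 2 * (2 * d + 1) = 4 * d + 2 := by ring
      rw [e, pow_add, pow_mul, hc, one_pow, one_mul]
  rcases hpow F.a4 i' with h | h <;> rcases hpow (b4 F) j' with h' | h' <;> rw [h, h']
  · left; rw [one_mul]
  · right; right; right; rw [one_mul]
  · right; right; left; rw [mul_one]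
  · right; left; rfl

theorem a2_ne (F : Frame x T a b t τ ρ) : a ^ 2 ≠ 1 := by
  intro h
  have := F.indep 2 0 (by rw [h, pow_zero, one_mul])
  omega

theorem b2_ne (F : Frame x T a b t τ ρ) : b ^ 2 ≠ 1 := by
  intro h
  have := F.indep 0 2 (by rw [h, pow_zero, one_mul])
  omega

theorem z_ne (F : Frame x T a b t τ ρ) : a ^ 2 * b ^ 2 ≠ 1 := by
  intro h
  have := F.indep 2 2 h
  omega

theorem ρz (F : Frame x T a b t τ ρ) : ρ * (a ^ 2 * b ^ 2) * ρ⁻¹ = a ^ 2 := by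
  have h1 : ρ * (a ^ 2 * b ^ 2) * ρ⁻¹ = (ρ * a * ρ⁻¹) ^ 2 * (ρ * b * ρ⁻¹) ^ 2 := by
    rw [conj_pow, conj_pow]; group
  rw [h1, F.ρa, F.ρb]
  have h2 : (a * b) ^ 2 = a ^ 2 * b ^ 2 := Commute.mul_pow (show Commute a b from F.ab) 2
  have h3 : (a ^ 2)⁻¹ = a ^ 2 := inv_eq_of_mul_eq_one_left (by rw [← pow_add]; exact F.a4)
  rw [inv_pow, h2, mul_inv_rev, h3]
  group

theorem ρa2 (F : Frame x T a b t τ ρ) : ρ * a ^ 2 * ρ⁻¹ = b ^ 2 := by
  rw [← conj_pow, F.ρa]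

theorem ρb2 (F : Frame x T a b t τ ρ) : ρ * b ^ 2 * ρ⁻¹ = a ^ 2 * b ^ 2 := by
  rw [← conj_pow, F.ρb]
  have h2 : (a * b) ^ 2 = a ^ 2 * b ^ 2 := Commute.mul_pow (show Commute a b from F.ab) 2
  have h3 : (a ^ 2)⁻¹ = a ^ 2 := inv_eq_of_mul_eq_one_left (by rw [← pow_add]; exact F.a4)
  have h4 : (b ^ 2)⁻¹ = b ^ 2 := inv_eq_of_mul_eq_one_left (by rw [← pow_add]; exact b4 F)
  have h5 : b ^ 2 * a ^ 2 = a ^ 2 * b ^ 2 := Commute.pow_pow (show Commute b a from F.ab.symm) 2 2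
  rw [inv_pow, h2, mul_inv_rev, h3, h4, h5]

/-- **The frame gives the basic configuration.** -/
theorem base (F : Frame x T a b t τ ρ) :
    WAct.Base (V a b F.ab) (A0 a b) T x τ t ρ (a ^ 2 * b ^ 2) := by
  obtain ⟨n, hn⟩ := F.xτ
  have hτT : τ ∈ T := (F.memT τ).2 ⟨1, one_mem _, 1, by rw [pow_one, one_mul]⟩
  obtain ⟨k, hk⟩ := F.pT ⟨τ, hτT⟩
  have hk' : τ ^ 2 ^ k = 1 := congrArg Subtype.val hk
  have hcyc := cyc_facts hk' hn F.x1 F.xx
  have hA0P0 : A0 a b ≤ P0 a b t := closure_mono (by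
    rintro y (rfl | rfl)
    · simp
    · simp)
  have hcp : b ^ 2 * a ^ 2 = a ^ 2 * b ^ 2 := Commute.pow_pow (show Commute b a from F.ab.symm) 2 2
  have ha22 : a ^ 2 * a ^ 2 = 1 := by rw [← pow_add]; exact F.a4
  have hb22 : b ^ 2 * b ^ 2 = 1 := by rw [← pow_add]; exact b4 F
  have hconj : ∀ g ∈ A0 a b, ∃ i j : ℕ, g = a ^ i * b ^ j := fun g hg => (mem_A0 F).1 hg
  refine
    { V_le := fun v hv => hv.1
      V_sq := fun v hv => hv.2
      A0_comm := comm_A0 F.ab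
      A0_sq := ?_
      A0_inv := fun g hg h => ⟨hg, h⟩
      A0_surj := ?_
      τ_A0 := ?_
      τ_two := ⟨k, hk'⟩
      τ_not := fun i hi => F.triv i (hA0P0 hi)
      τ_inv := hcyc.1
      τ_or := hcyc.2
      x_sq := F.xx
      x_ne := F.x1
      x_comm := ?_
      t_sq := F.tt
      t_τ := F.τt.symm
      t_A0 := t_A0 F
      T_mem := ?_
      ρ_A0 := ρ_A0 F
      ρ_τ := F.ρτ
      z_mem := ?_
      z_ne := z_ne F
      V_eq := ?_
      ρ_prod := ?_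
      ρ_fix := ?_
      t_z := ?_
      t_rz := ?_
      star := ?_
      T_p := F.pT
      cent_card := F.syl }
  · intro g hg
    refine ⟨mul_mem hg hg, ?_⟩
    obtain ⟨i, j, rfl⟩ := hconj g hg
    rw [sq_eq F, sq_eq F]
    have e1 : 2 * (2 * i) = 4 * i := by ring
    have e2 : 2 * (2 * j) = 4 * j := by ring
    rw [e1, e2, pow_mul, pow_mul, F.a4, b4 F, one_pow, one_pow, one_mul]
  · rintro v ⟨h1, h2⟩
    obtain ⟨i, j, rfl⟩ := hconj v h1
    rw [sq_eq F] at h2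
    obtain ⟨hi, hj⟩ := F.indep _ _ h2
    obtain ⟨i', rfl⟩ : 2 ∣ i := by omega
    obtain ⟨j', rfl⟩ : 2 ∣ j := by omega
    exact ⟨a ^ i' * b ^ j', (mem_A0 F).2 ⟨i', j', rfl⟩, sq_eq F i' j'⟩
  · rcases F.τa with ⟨h1, h2⟩ | ⟨h1, h2⟩
    · left
      intro g hg
      obtain ⟨i, j, rfl⟩ := hconj g hg
      have : τ * (a ^ i * b ^ j) * τ⁻¹ = (τ * a * τ⁻¹) ^ i * (τ * b * τ⁻¹) ^ j := by
        rw [conj_pow, conj_pow]; group
      rw [this, h1, h2]
    · right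
      intro g hg
      obtain ⟨i, j, rfl⟩ := hconj g hg
      have : τ * (a ^ i * b ^ j) * τ⁻¹ = (τ * a * τ⁻¹) ^ i * (τ * b * τ⁻¹) ^ j := by
        rw [conj_pow, conj_pow]; group
      rw [this, h1, h2, mul_inv_rev, inv_pow, inv_pow]
      have := (Commute.pow_pow (show Commute a b from F.ab) i j).inv_inv
      exact this
  · intro g hg
    have : g ∈ T := (F.memT g).2 ⟨g, hA0P0 hg, 0, by rw [pow_zero, mul_one]⟩
    exact (F.Tx g this).symm
  · intro g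
    rw [F.memT g]
    constructor
    · rintro ⟨p, hp, i, rfl⟩
      obtain ⟨α, hα, j, rfl⟩ := (mem_P0 F).1 hp
      exact ⟨α, hα, j, i, rfl⟩
    · rintro ⟨α, hα, j, i, rfl⟩
      exact ⟨α * t ^ j, (mem_P0 F).2 ⟨α, hα, j, rfl⟩, i, rfl⟩
  · refine ⟨mul_mem (pow_mem a_mem 2) (pow_mem b_mem 2), ?_⟩
    rw [sq_eq F]
    have e1 : 2 * 2 = 4 := rfl
    rw [e1, F.a4, b4 F, one_mul]
  · intro v hv
    rw [ρz F, ρa2 F]
    exact V_cases F hv
  · rw [ρz F, ρa2 F]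
    calc a ^ 2 * b ^ 2 * a ^ 2 * b ^ 2 = a ^ 2 * (b ^ 2 * a ^ 2) * b ^ 2 := by group
      _ = a ^ 2 * (a ^ 2 * b ^ 2) * b ^ 2 := by rw [hcp]
      _ = (a ^ 2 * a ^ 2) * (b ^ 2 * b ^ 2) := by group
      _ = 1 := by rw [ha22, hb22, one_mul]
  · intro v hv hfix
    rcases V_cases F hv with rfl | rfl | rfl | rfl
    · rfl
    · exfalso
      rw [ρz F] at hfix
      exact b2_ne F (mul_left_cancel (a := a ^ 2) (by rw [mul_one]; exact hfix.symm))
    · exfalso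
      rw [ρa2 F] at hfix
      apply z_ne F
      rw [hfix, ha22]
    · exfalso
      rw [ρb2 F] at hfix
      exact a2_ne F (mul_right_cancel (b := b ^ 2) (by rw [one_mul]; exact hfix))
  · have : t * (a ^ 2 * b ^ 2) * t⁻¹ = (t * a * t⁻¹) ^ 2 * (t * b * t⁻¹) ^ 2 := by
      rw [conj_pow, conj_pow]; group
    rw [this, F.ta, tb F, hcp]
  · rw [ρz F, ρa2 F, ← conj_pow, F.ta]
  · intro α hα h
    refine F.fus _ ((mem_P0 F).2 ⟨α, hα, 1, by rw [pow_one]⟩) h ?_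
    intro h1
    apply F.tA
    have : t = α⁻¹ := by
      calc t = α⁻¹ * (α * t) := by group
        _ = α⁻¹ := by rw [h1, mul_one]
    rw [this]
    exact inv_mem hα

end conv

/-- A homomorphism of a simple nonabelian group to `ℤˣ` is trivial. -/
theorem hom_units_trivial [IsSimpleGroup G] (hG : ¬ IsMulCommutative G) (f : G →* ℤˣ) (g : G) : f g = 1 := by
  rcases (inferInstance : f.ker.Normal).eq_bot_or_eq_top with h | h
  · exfalso
    apply hG
    refine ⟨⟨fun a b => ?_⟩⟩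
    have hinj : Function.Injective f := (MonoidHom.ker_eq_bot_iff f).1 h
    apply hinj
    rw [map_mul, map_mul, mul_comm]
  · have : g ∈ f.ker := by rw [h]; exact mem_top g
    exact this

/-- **GH-L3 (W), steps 1-7**: the frame is impossible. -/
theorem false_of_frame [Finite G] (hs : IsSimpleGroup G) (hG : ¬ IsMulCommutative G)
    (hr : Cfsg.SectionalPRankLE 2 4 G) {x a b t τ ρ : G} {T : Subgroup G} (F : Frame x T a b t τ ρ) : False := by
  have hiso := (base F).isolated (fun X Y h => (sectionalPRankLE_iff.1 hr) X Y h)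
    (fun f => hom_units_trivial hG f x)
  obtain ⟨g, h1, h2⟩ := QA.not_isolated hs hG F.xx F.x1
  exact h2 (hiso g h1)

/-- The same from `Hyp G`. -/
theorem false_of_hyp [Finite G] (H : Defs.Hyp G) {x a b t τ ρ : G} {T : Subgroup G}
    (F : Frame x T a b t τ ρ) : False :=
  false_of_frame H.simple H.nonComm H.rank4 F

end Cfsg.Agent.GH.WConv
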