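import Cfsg.Agent.GH.WHom
import Cfsg.Agent.Transfer.ThompsonTransfer

/-!
# Project GH, branch GH-L3 (W): the final transfer

`τ = x`: then `R1 = U⟨x, t⟩` is a Sylow 2-subgroup of `G` and no conjugate of `x` lies in the maximal
subgroup `U⟨t⟩`.
-/

set_option autoImplicit false

namespace Cfsg.Agent.GH.WAct

open Subgroup Cfsg.Agent.TwoFusion.SectionalRank

variable {G : Type*} [Group G]

theorem exists_mem_normalizer [Finite G] {T P : Subgroup G} (hP : IsPGroup 2 P) (hle : T ≤ P)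
    (hne : T ≠ P) : ∃ y ∈ P, y ∉ T ∧ ∀ g ∈ T, y * g * y⁻¹ ∈ T := by
  have : Fact (Nat.Prime 2) := ⟨Nat.prime_two⟩
  have hnil : Group.IsNilpotent P := hP.isNilpotent
  have hlt : T.subgroupOf P < ⊤ := by
    rw [lt_top_iff_ne_top]
    intro h
    exact hne (le_antisymm hle (Subgroup.subgroupOf_eq_top.1 h))
  have h1 := Group.normalizerCondition_of_isNilpotent (T.subgroupOf P) hlt
  obtain ⟨y, hy, hyT⟩ := Set.exists_of_ssubset h1
  refine ⟨y, y.2, fun h => hyT h, fun g hg => ?_⟩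
  exact (Subgroup.mem_normalizer_iff.1 hy ⟨g, hle hg⟩).1 hg

/-- The final configuration. -/
structure FCfg (V A0 Ap W R1 T : Subgroup G) (x r z s t : G) : Prop extends
    SCfg V A0 Ap W x x r z s where
  s_nV : s * s ∉ V
  t_sq : t * t = 1
  t_x : t * x = x * t
  t_A0 : ∀ g ∈ A0, t * g * t⁻¹ ∈ A0
  t_W : ∀ w ∈ W, t * w * t⁻¹ ∈ W
  t_z : t * z * t⁻¹ = z
  t_rz : t * (r * z * r⁻¹) * t⁻¹ = r * (r * z * r⁻¹) * r⁻¹
  W_le : W ≤ R1
  t_mem : t ∈ R1
  R1_mem : ∀ g ∈ R1, g ∈ W ∨ g * t ∈ W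
  R1_p : IsPGroup 2 R1
  T_le : T ≤ R1
  T_x : ∀ g ∈ T, g * x = x * g
  T_syl : ∀ P : Subgroup G, IsPGroup 2 P → (∀ g ∈ P, g * x = x * g) → T ≤ P → P ≤ T
  zx : ∀ g : G, g * x * g⁻¹ ≠ z
  star : ∀ α ∈ A0, α * t * (α * t) = 1 → ∃ k : G, k * (α * t) * k⁻¹ = z
  starV : ∀ v ∈ V, v ≠ 1 → ∃ k : G, k * v * k⁻¹ = z

namespace FCfg

variable {V A0 Ap W R1 T : Subgroup G} {x r z s t : G} (C : FCfg V A0 Ap W R1 T x r z s t)

include C

theorem A0_W : A0 ≤ W := C.A0_le.trans C.Ap_le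

theorem x_W : x ∈ W := C.Ap_le C.x_mem

/-- no conjugate of `x` is conjugate to `z`. -/
theorem not_conj {y g k : G} (h : g * x * g⁻¹ = y) (hk : k * y * k⁻¹ = z) : False := by
  apply C.zx (k * g)
  rw [← hk, ← h]
  group

theorem z1_ne_one : r * z * r⁻¹ ≠ 1 := by
  intro h
  apply C.z_ne
  have : z = r⁻¹ * (r * z * r⁻¹) * r := by group
  rw [this, h]
  group

/-- `z₁ ≠ z₂` -/
theorem z1_ne_z2 : r * z * r⁻¹ ≠ r * (r * z * r⁻¹) * r⁻¹ := fun h =>
  C.z1_ne_one (C.r_fix _ (C.r_V C.z_mem) h.symm)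

/-- elements of `Ap`. -/
theorem mem_Ap {g : G} (hg : g ∈ Ap) : g ∈ A0 ∨ ∃ a ∈ A0, g = a * x := by
  obtain ⟨a, ha, i, rfl⟩ := C.Ap_mem g hg
  have hxx : x ^ 2 = 1 := by rw [pow_two]; exact C.x_sq
  rcases Nat.even_or_odd i with ⟨m, rfl⟩ | ⟨m, rfl⟩
  · left
    rw [← two_mul, pow_mul, hxx, one_pow, mul_one]
    exact ha
  · right
    refine ⟨a, ha, ?_⟩
    rw [pow_add, pow_mul, hxx, one_pow, one_mul, pow_one]

section U

/-- The homocyclic group `U`. -/
def U (A0 : Subgroup G) (r s : G) : Subgroup G := closure ((A0 : Set G) ∪ {s, r * s * r⁻¹})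

omit C in
theorem A0_le_U : A0 ≤ U A0 r s := fun _ hg => subset_closure (Or.inl hg)

omit C in
theorem s_mem_U : s ∈ U A0 r s := subset_closure (Or.inr (by simp))

omit C in
theorem w_mem_U : r * s * r⁻¹ ∈ U A0 r s := subset_closure (Or.inr (by simp))

theorem U_le_W : U A0 r s ≤ W := by
  unfold U
  rw [closure_le]
  rintro g (hg | hg)
  · exact C.A0_W hg
  · rcases hg with rfl | rfl
    · exact C.s_mem
    · exact C.w_mem

theorem U_comm [Finite G] : ∀ g ∈ U A0 r s, ∀ h ∈ U A0 r s, g * h = h * g := by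
  have hgen : ∀ g ∈ (A0 : Set G) ∪ {s, r * s * r⁻¹}, ∀ h ∈ (A0 : Set G) ∪ {s, r * s * r⁻¹},
      g * h = h * g := by
    have hs := fun (g : G) (hg : g ∈ A0) => C.s_A0 C.s_nV hg
    have hw := fun (g : G) (hg : g ∈ A0) => C.w_A0 C.s_nV hg
    have hsw := C.s_w C.s_nV
    rintro g (hg | hg) h (hh | hh)
    · exact C.A0_comm g hg h hh
    · rcases hh with rfl | rfl
      · exact (hs g hg).symm
      · exact (hw g hg).symm
    · rcases hg with rfl | rfl
      · exact hs h hh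
      · exact hw h hh
    · rcases hg with rfl | rfl <;> rcases hh with rfl | rfl
      · rfl
      · exact hsw
      · exact hsw.symm
      · rfl
  intro g hg h hh
  induction hg, hh using closure_induction₂ with
  | mem g h hg hh => exact hgen g hg h hh
  | one_left => simp
  | one_right => simp
  | mul_left a b c _ _ _ h1 h2 =>
    exact (Commute.mul_left (show Commute a c from h1) (show Commute b c from h2))
  | mul_right a b c _ _ _ h1 h2 =>
    exact (Commute.mul_right (show Commute c a from h1) (show Commute c b from h2))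
  | inv_left a b _ _ h1 => exact (show Commute a b from h1).inv_left
  | inv_right a b _ _ h1 => exact (show Commute a b from h1).inv_right

theorem x_notin_U [Finite G] : x ∉ U A0 r s := by
  intro h
  have h1 := C.U_comm x h s s_mem_U
  have h2 := C.s_x
  rw [← h1, mul_inv_cancel_right] at h2
  exact C.z_ne (mul_left_cancel ((mul_one x).trans h2)).symm

/-- elements of `U` commuting with `x` are in `A0`. -/
theorem U_cent [Finite G] {u : G} (hu : u ∈ U A0 r s) (h : u * x = x * u) : u ∈ A0 := by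
  have h1 := C.W_cent u (C.U_le_W hu) h
  rcases C.mem_Ap h1 with h2 | ⟨a, ha, h2⟩
  · exact h2
  · exfalso
    apply C.x_notin_U
    have : x = a⁻¹ * u := by rw [h2]; group
    rw [this]
    exact mul_mem (inv_mem (A0_le_U ha)) hu

theorem sw_x : s * (r * s * r⁻¹) * x * (s * (r * s * r⁻¹))⁻¹ = x * (r * (r * z * r⁻¹) * r⁻¹) := by
  have hrzV := C.r_V C.z_mem
  calc s * (r * s * r⁻¹) * x * (s * (r * s * r⁻¹))⁻¹
      = s * ((r * s * r⁻¹) * x * (r * s * r⁻¹)⁻¹) * s⁻¹ := by group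
    _ = s * (x * (r * z * r⁻¹)) * s⁻¹ := by rw [C.w_x]
    _ = s * x * ((r * z * r⁻¹) * s⁻¹) := by group
    _ = s * x * (s⁻¹ * (r * z * r⁻¹)) := by rw [C.V_comm _ hrzV s⁻¹ (W.inv_mem C.s_mem)]
    _ = s * x * s⁻¹ * (r * z * r⁻¹) := by group
    _ = x * (z * (r * z * r⁻¹)) := by rw [C.s_x]; group
    _ = _ := by rw [C.r_prodV C.z_mem]

/-- representatives: an element of `U` moving `x` in a given way. -/
theorem exists_rep {v : G} (hv : v ∈ V) : ∃ u ∈ U A0 r s, u * x * u⁻¹ = x * v ∧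
    (v ≠ 1 → u * u ∉ V) := by
  rcases C.V_eq v hv with rfl | rfl | rfl | rfl
  · exact ⟨1, one_mem _, by group, fun h => absurd rfl h⟩
  · exact ⟨s, s_mem_U, C.s_x, fun _ => C.s_nV⟩
  · refine ⟨_, w_mem_U, C.w_x, fun _ h => C.s_nV ?_⟩
    refine C.A0_inv _ C.s_sq ?_
    have h1 := C.V_sq _ h
    have h2 : r * (s * s * (s * s)) * r⁻¹ = 1 := by rw [← h1]; group
    have : s * s * (s * s) = r⁻¹ * (r * (s * s * (s * s)) * r⁻¹) * r := by group
    rw [this, h2]
    group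
  · refine ⟨_, mul_mem s_mem_U w_mem_U, C.sw_x, fun _ h => C.s_nV ?_⟩
    -- `w2² = (sw)⁻² a² …`
    set w := r * s * r⁻¹ with hw
    set w2 := r * w * r⁻¹ with hw2
    have ha : s * w * w2 ∈ A0 := C.s_prod
    set a := s * w * w2 with hadef
    have hswW : s * w ∈ W := W.mul_mem C.s_mem C.w_mem
    have hsw2 : s * w * (s * w) ∈ V := h
    have haa : a * a ∈ V := C.A0_sq a ha
    have hkV := C.K_mem hswW ha
    have e6 : w2 * w2 = (s * w * (s * w))⁻¹ * (SCfg.K (s * w) a * (a * a)) := by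
      have h1 : a * (s * w)⁻¹ = (s * w)⁻¹ * (a * SCfg.K (s * w) a) := by
        rw [← SCfg.K_eq]; group
      calc w2 * w2 = (s * w)⁻¹ * (a * (s * w)⁻¹) * a := by rw [hadef]; group
        _ = (s * w)⁻¹ * (s * w)⁻¹ * (a * (SCfg.K (s * w) a * a)) := by rw [h1]; group
        _ = (s * w)⁻¹ * (s * w)⁻¹ * (a * (a * SCfg.K (s * w) a)) := by
          rw [C.A0_comm _ (C.V_le hkV) a ha]
        _ = (s * w)⁻¹ * (s * w)⁻¹ * (a * a * SCfg.K (s * w) a) := by group
        _ = (s * w)⁻¹ * (s * w)⁻¹ * (SCfg.K (s * w) a * (a * a)) := by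
          rw [C.A0_comm _ (C.V_le hkV) _ (A0.mul_mem ha ha)]
        _ = _ := by group
    have hw2V : w2 * w2 ∈ V := by
      rw [e6]
      exact V.mul_mem (V.inv_mem hsw2) (V.mul_mem hkV haa)
    refine C.A0_inv _ C.s_sq ?_
    have h1 := C.V_sq _ hw2V
    have h2 : r * (r * (s * s * (s * s)) * r⁻¹) * r⁻¹ = 1 := by
      rw [← h1, hw2, hw]; group
    have : s * s * (s * s) = r⁻¹ * (r⁻¹ * (r * (r * (s * s * (s * s)) * r⁻¹) * r⁻¹) * r) * r := by group
    rw [this, h2]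
    group

/-- `u² ∈ V` forces `u ∈ A0`. -/
theorem U_sq [Finite G] {u : G} (hu : u ∈ U A0 r s) (h : u * u ∈ V) : u ∈ A0 := by
  obtain ⟨v, hv, hux⟩ := C.W_x u (C.U_le_W hu)
  by_cases hv1 : v = 1
  · refine C.U_cent hu ?_
    rw [hv1, mul_one, mul_inv_eq_iff_eq_mul] at hux
    exact hux
  · exfalso
    obtain ⟨u0, hu0, hu0x, hu0V⟩ := C.exists_rep hv
    apply hu0V hv1
    have h1 : u0⁻¹ * u ∈ A0 := by
      refine C.U_cent (mul_mem (inv_mem hu0) hu) ?_
      have h2 : u0⁻¹ * u * x * (u0⁻¹ * u)⁻¹ = x := by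
        calc u0⁻¹ * u * x * (u0⁻¹ * u)⁻¹ = u0⁻¹ * (u * x * u⁻¹) * u0 := by group
          _ = u0⁻¹ * (u0 * x * u0⁻¹) * u0 := by rw [hux, hu0x]
          _ = x := by group
      rw [mul_inv_eq_iff_eq_mul] at h2
      exact h2
    have h2 := C.A0_sq _ h1
    have h3 : u0⁻¹ * u * (u0⁻¹ * u) = (u0 * u0)⁻¹ * (u * u) := by
      have := C.U_comm u hu _ (inv_mem hu0)
      calc u0⁻¹ * u * (u0⁻¹ * u) = u0⁻¹ * (u * u0⁻¹) * u := by group
        _ = _ := by rw [this]; group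
    rw [h3] at h2
    have h4 : u0 * u0 = u * u * ((u0 * u0)⁻¹ * (u * u))⁻¹ := by
      rw [mul_inv_rev, inv_inv, mul_inv_cancel_left]
    rw [h4]
    exact V.mul_mem h (V.inv_mem h2)

theorem U_inv [Finite G] {u : G} (hu : u ∈ U A0 r s) (h : u * u = 1) : u ∈ V :=
  C.A0_inv u (C.U_sq hu (by rw [h]; exact V.one_mem)) h

/-- `x` normalises `U`. -/
theorem x_U {u : G} (hu : u ∈ U A0 r s) : ∃ v ∈ V, x * u * x⁻¹ = u * v := by
  obtain ⟨v, hv, h⟩ := C.W_x u (C.U_le_W hu)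
  refine ⟨v, hv, ?_⟩
  have h1 : u * x = x * v * u := by rw [← h]; group
  have h2 : x * u = u * (x * v) := by
    have h3 : x * (v * u) = u * x := by rw [h1]; group
    calc x * u = x * (v * u) * v * (v⁻¹ * (u⁻¹ * (v⁻¹ * u))) := by group
      _ = x * (v * u) * v * (v⁻¹ * (u⁻¹ * (u * v⁻¹))) := by
        rw [C.V_comm _ (V.inv_mem hv) u (C.U_le_W hu)]
      _ = u * x * (v * (v⁻¹ * v⁻¹)) := by rw [h3]; group
      _ = u * x * v := by rw [C.V_inv hv, C.V_sq v hv, mul_one]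
      _ = _ := by group
  rw [h2, C.x_comm v (C.V_le hv)]
  group

/-- `W = U ∪ Ux`. -/
theorem W_eq [Finite G] {g : G} (hg : g ∈ W) : g ∈ U A0 r s ∨ g * x ∈ U A0 r s := by
  obtain ⟨v, hv, hgx⟩ := C.W_x g hg
  obtain ⟨u0, hu0, hu0x, -⟩ := C.exists_rep hv
  have h1 : u0⁻¹ * g ∈ Ap := by
    refine C.W_cent _ (W.mul_mem (W.inv_mem (C.U_le_W hu0)) hg) ?_
    have h2 : u0⁻¹ * g * x * (u0⁻¹ * g)⁻¹ = x := by
      calc u0⁻¹ * g * x * (u0⁻¹ * g)⁻¹ = u0⁻¹ * (g * x * g⁻¹) * u0 := by group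
        _ = u0⁻¹ * (u0 * x * u0⁻¹) * u0 := by rw [hgx, hu0x]
        _ = x := by group
    rw [mul_inv_eq_iff_eq_mul] at h2
    exact h2
  rcases C.mem_Ap h1 with h2 | ⟨a, ha, h2⟩
  · left
    have : g = u0 * (u0⁻¹ * g) := by group
    rw [this]
    exact mul_mem hu0 (A0_le_U h2)
  · right
    have : g * x = u0 * a := by
      calc g * x = u0 * (u0⁻¹ * g) * x := by group
        _ = u0 * a * (x * x) := by rw [h2]; group
        _ = u0 * a := by rw [C.x_sq, mul_one]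
    rw [this]
    exact mul_mem hu0 (A0_le_U ha)

/-- `t` normalises `U`. -/
theorem t_U [Finite G] : ∀ u ∈ U A0 r s, t * u * t⁻¹ ∈ U A0 r s := by
  -- two elements, one of them moved out of `U`
  have key : ∀ u0 ∈ U A0 r s, ∀ u1 ∈ U A0 r s, t * u0 * t⁻¹ ∉ U A0 r s → t * u1 * t⁻¹ ∈ U A0 r s →
      u1 ∈ A0 := by
    intro u0 hu0 u1 hu1 h0 h1
    have h0W := C.t_W u0 (C.U_le_W hu0)
    have h2 := (C.W_eq h0W).resolve_left h0
    have h3 : (t * u1 * t⁻¹) * (t * u0 * t⁻¹) = (t * u0 * t⁻¹) * (t * u1 * t⁻¹) := by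
      calc (t * u1 * t⁻¹) * (t * u0 * t⁻¹) = t * (u1 * u0) * t⁻¹ := by group
        _ = t * (u0 * u1) * t⁻¹ := by rw [C.U_comm u1 hu1 u0 hu0]
        _ = _ := by group
    have h4 := C.U_comm _ h1 _ h2
    have c1 : Commute (t * u1 * t⁻¹) (t * u0 * t⁻¹) := h3
    have c2 : Commute (t * u1 * t⁻¹) (t * u0 * t⁻¹ * x) := h4
    have c3 : Commute (t * u1 * t⁻¹) x := by
      have := c1.inv_right.mul_right c2
      rwa [inv_mul_cancel_left] at this
    have h5 := C.U_cent h1 c3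
    have h6 := C.t_A0 _ h5
    have h7 : t * (t * u1 * t⁻¹) * t⁻¹ = u1 := by
      calc t * (t * u1 * t⁻¹) * t⁻¹ = (t * t) * u1 * (t * t)⁻¹ := by group
        _ = u1 := by rw [C.t_sq]; group
    rwa [h7] at h6
  have hsA0 : s ∉ A0 := fun h => C.s_nV (C.A0_sq s h)
  have hwA0 : r * s * r⁻¹ ∉ A0 := by
    intro h
    have h1 := C.w_x
    rw [← C.x_comm _ h, mul_inv_cancel_right] at h1
    exact C.z1_ne_one (mul_left_cancel ((mul_one x).trans h1)).symm
  have hswA0 : s * (r * s * r⁻¹) ∉ A0 := by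
    intro h
    have h1 := C.sw_x
    rw [← C.x_comm _ h, mul_inv_cancel_right] at h1
    have h2 : r * (r * z * r⁻¹) * r⁻¹ = 1 := (mul_left_cancel ((mul_one x).trans h1)).symm
    apply C.z1_ne_one
    have : r * z * r⁻¹ = r⁻¹ * (r * (r * z * r⁻¹) * r⁻¹) * r := by group
    rw [this, h2]
    group
  intro u0 hu0
  by_contra h0
  have k1 : t * s * t⁻¹ ∉ U A0 r s := fun h => hsA0 (key u0 hu0 s s_mem_U h0 h)
  have k2 : t * (r * s * r⁻¹) * t⁻¹ ∉ U A0 r s := fun h => hwA0 (key u0 hu0 _ w_mem_U h0 h)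
  apply hswA0
  refine key u0 hu0 _ (mul_mem s_mem_U w_mem_U) h0 ?_
  have h1 := (C.W_eq (C.t_W s C.s_mem)).resolve_left k1
  have h2 := (C.W_eq (C.t_W _ C.w_mem)).resolve_left k2
  obtain ⟨v, hv, hxv⟩ := C.x_U h2
  have h3 : t * (s * (r * s * r⁻¹)) * t⁻¹ =
      (t * s * t⁻¹ * x) * (x * (t * (r * s * r⁻¹) * t⁻¹ * x) * x⁻¹) := by
    calc t * (s * (r * s * r⁻¹)) * t⁻¹ = t * s * t⁻¹ * 1 * (t * (r * s * r⁻¹) * t⁻¹) := by group
      _ = t * s * t⁻¹ * (x * x) * (t * (r * s * r⁻¹) * t⁻¹) := by rw [C.x_sq]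
      _ = _ := by group
  rw [h3, hxv]
  exact mul_mem h1 (mul_mem h2 (A0_le_U (C.V_le hv)))

/-- The squares of elements of `R1` lie in `U`. -/
theorem R1_sq [Finite G] {g : G} (hg : g ∈ R1) : g * g ∈ U A0 r s := by
  have hW : ∀ g ∈ W, g * g ∈ U A0 r s := by
    intro g hg
    rcases C.W_eq hg with h | h
    · exact mul_mem h h
    · obtain ⟨v, hv, hxv⟩ := C.x_U h
      have : g * g = (g * x) * (x * (g * x) * x⁻¹) := by
        calc g * g = g * 1 * g := by group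
          _ = g * (x * x) * g := by rw [C.x_sq]
          _ = _ := by group
      rw [this, hxv]
      exact mul_mem h (mul_mem h (A0_le_U (C.V_le hv)))
  rcases C.R1_mem g hg with h | h
  · exact hW g h
  · -- `g = w t`
    have e1 : g * g = (g * t) * (t * (g * t) * t⁻¹) := by
      calc g * g = g * 1 * g := by group
        _ = g * (t * t) * g := by rw [C.t_sq]
        _ = _ := by group
    rcases C.W_eq h with h1 | h1
    · rw [e1]
      exact mul_mem h1 (C.t_U _ h1)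
    · -- `g t = u x`
      have h2 := C.t_U _ h1
      obtain ⟨v, hv, hxv⟩ := C.x_U h2
      have htx : t * x * t⁻¹ = x := by rw [C.t_x, mul_inv_cancel_right]
      have e2 : t * (g * t) * t⁻¹ = (t * (g * t * x) * t⁻¹) * x := by
        calc t * (g * t) * t⁻¹ = t * (g * t) * 1 * t⁻¹ := by group
          _ = t * (g * t) * (x * x) * t⁻¹ := by rw [C.x_sq]
          _ = (t * (g * t * x) * t⁻¹) * (t * x * t⁻¹) := by group
          _ = _ := by rw [htx]
      have e3 : (g * t) * (t * (g * t) * t⁻¹) = (g * t * x) * (x * (t * (g * t * x) * t⁻¹) * x⁻¹) := by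
        calc (g * t) * (t * (g * t) * t⁻¹) = (g * t) * 1 * (t * (g * t) * t⁻¹) := by group
          _ = (g * t) * (x * x) * ((t * (g * t * x) * t⁻¹) * x) := by rw [← e2, C.x_sq]
          _ = (g * t * x) * (x * (t * (g * t * x) * t⁻¹) * x) := by group
          _ = _ := by rw [C.x_inv]
      rw [e1, e3, hxv]
      exact mul_mem h1 (mul_mem h2 (A0_le_U (C.V_le hv)))

/-- elements of `R1` centralising `V` are in `W`. -/
theorem mem_W_of_cent {g : G} (hg : g ∈ R1) (h : g * (r * z * r⁻¹) * g⁻¹ = r * z * r⁻¹) : g ∈ W := by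
  refine (C.R1_mem g hg).resolve_right ?_
  intro h1
  have hz1 := C.r_V C.z_mem
  have h2 := C.V_comm _ hz1 _ h1
  have h3 : g * (t * (r * z * r⁻¹) * t⁻¹) * g⁻¹ = r * z * r⁻¹ := by
    calc g * (t * (r * z * r⁻¹) * t⁻¹) * g⁻¹ = (g * t) * (r * z * r⁻¹) * (g * t)⁻¹ := by group
      _ = _ := by rw [h2, mul_inv_cancel_right]
  rw [C.t_rz] at h3
  exact C.z1_ne_z2 (mul_left_cancel (mul_right_cancel (h.trans h3.symm)))

/-- an involution of `W` outside `U` is `x v`. -/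
theorem W_inv [Finite G] {y : G} (hy : y ∈ W) (hyy : y * y = 1) : y ∈ V ∨ ∃ v ∈ V, y = x * v := by
  rcases C.W_eq hy with h | h
  · exact Or.inl (C.U_inv h hyy)
  · right
    obtain ⟨v, hv, hxv⟩ := C.x_U h
    have h1 : (y * x) * (x * (y * x) * x⁻¹) = 1 := by
      calc (y * x) * (x * (y * x) * x⁻¹) = y * (x * x) * y * (x * x⁻¹) := by group
        _ = 1 := by rw [C.x_sq, mul_one, mul_inv_cancel, mul_one, hyy]
    rw [hxv, ← mul_assoc] at h1
    have h2 : y * x * (y * x) ∈ V := by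
      rw [eq_inv_of_mul_eq_one_left h1]
      exact V.inv_mem hv
    have h3 := C.U_sq h h2
    have h4 : y = (y * x) * x := by rw [mul_assoc, C.x_sq, mul_one]
    have h5 : (y * x) * (y * x) = 1 := by
      have h6 := C.x_comm _ h3
      calc (y * x) * (y * x) = (y * x) * ((y * x) * (x * x)) := by rw [C.x_sq, mul_one]
        _ = (y * x) * ((y * x) * x) * x := by group
        _ = (y * x) * (x * (y * x)) * x := by rw [h6]
        _ = ((y * x) * x) * ((y * x) * x) := by group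
        _ = 1 := by rw [← h4, hyy]
    exact ⟨y * x, C.A0_inv _ h3 h5, by rw [C.x_comm _ h3, ← h4]⟩

/-- `x^{N(R1)} = xV`. -/
theorem norm_x [Finite G] {y : G} (hy : ∀ g ∈ R1, y * g * y⁻¹ ∈ R1) : ∃ v ∈ V, y * x * y⁻¹ = x * v := by
  have hyN : y ∈ normalizer (R1 : Set G) := mem_normalizer_fintype (S := (R1 : Set G)) hy
  have hV : ∀ y : G, (∀ g ∈ R1, y * g * y⁻¹ ∈ R1) → ∀ v ∈ V, y * v * y⁻¹ ∈ V := by
    intro y hy v hv
    obtain ⟨g, hg, rfl⟩ := C.A0_surj v hv
    have h1 := C.R1_sq (hy g (C.W_le (C.A0_W hg)))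
    have h2 : y * g * y⁻¹ * (y * g * y⁻¹) = y * (g * g) * y⁻¹ := by group
    rw [h2] at h1
    refine C.U_inv h1 ?_
    calc y * (g * g) * y⁻¹ * (y * (g * g) * y⁻¹) = y * (g * g * (g * g)) * y⁻¹ := by group
      _ = 1 := by rw [C.V_sq _ (C.A0_sq g hg)]; group
  have hy' : ∀ g ∈ R1, y⁻¹ * g * y⁻¹⁻¹ ∈ R1 := by
    intro g hg
    rw [inv_inv]
    exact ((mem_normalizer_iff'' (g := y)).1 hyN g).1 hg
  have hxR : x ∈ R1 := C.W_le C.x_W
  have hW : y * x * y⁻¹ ∈ W := by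
    refine C.mem_W_of_cent (hy x hxR) ?_
    have h1 := hV y⁻¹ hy' _ (C.r_V C.z_mem)
    rw [inv_inv] at h1
    have h2 := C.x_comm _ (C.V_le h1)
    calc y * x * y⁻¹ * (r * z * r⁻¹) * (y * x * y⁻¹)⁻¹
        = y * (x * (y⁻¹ * (r * z * r⁻¹) * y)) * x⁻¹ * y⁻¹ := by group
      _ = r * z * r⁻¹ := by rw [h2]; group
  have hinv : y * x * y⁻¹ * (y * x * y⁻¹) = 1 := by
    calc y * x * y⁻¹ * (y * x * y⁻¹) = y * (x * x) * y⁻¹ := by group
      _ = 1 := by rw [C.x_sq]; group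
  rcases C.W_inv hW hinv with h | h
  · exfalso
    obtain ⟨k, hk⟩ := C.starV _ h (by
      intro h1
      apply C.x_ne
      have : x = y⁻¹ * (y * x * y⁻¹) * y := by group
      rw [this, h1]
      group)
    exact C.not_conj rfl hk
  · exact h

/-- `R1` is a Sylow 2-subgroup. -/
theorem R1_syl [Finite G] {P : Subgroup G} (hP : IsPGroup 2 P) (hle : R1 ≤ P) : R1 = P := by
  by_contra hne
  obtain ⟨y, hyP, hyR, hy⟩ := exists_mem_normalizer hP hle hne
  obtain ⟨v, hv, h1⟩ := C.norm_x hy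
  obtain ⟨w0, hw0, h2⟩ := C.W_surj v hv
  apply hyR
  have h3 : w0⁻¹ * y * x = x * (w0⁻¹ * y) := by
    have h4 : w0⁻¹ * y * x * (w0⁻¹ * y)⁻¹ = x := by
      calc w0⁻¹ * y * x * (w0⁻¹ * y)⁻¹ = w0⁻¹ * (y * x * y⁻¹) * w0 := by group
        _ = w0⁻¹ * (w0 * x * w0⁻¹) * w0 := by rw [h1, h2]
        _ = x := by group
    rw [mul_inv_eq_iff_eq_mul] at h4
    exact h4
  let Q : Subgroup G := P ⊓ centralizer ({x} : Set G)
  have hQT : Q ≤ T := by
    refine C.T_syl Q (hP.to_le inf_le_left) ?_ ?_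
    · intro g hg
      exact mem_centralizer_singleton_iff.1 hg.2
    · intro g hg
      exact ⟨hle (C.T_le hg), mem_centralizer_singleton_iff.2 (C.T_x g hg)⟩
  have h5 : w0⁻¹ * y ∈ T :=
    hQT ⟨P.mul_mem (P.inv_mem (hle (C.W_le hw0))) hyP, mem_centralizer_singleton_iff.2 h3⟩
  have h6 : y = w0 * (w0⁻¹ * y) := by group
  rw [h6]
  exact R1.mul_mem (C.W_le hw0) (C.T_le h5)

/-- The subgroup `U⟨t⟩`. -/
def S0 [Finite G] : Subgroup G where
  carrier := {g | g ∈ U A0 r s ∨ g * t ∈ U A0 r s}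
  one_mem' := Or.inl (one_mem _)
  mul_mem' := by
    have hti : t⁻¹ = t := inv_eq_iff_mul_eq_one.mpr C.t_sq
    rintro a b (ha | ha) (hb | hb)
    · exact Or.inl (mul_mem ha hb)
    · right
      rw [mul_assoc]
      exact mul_mem ha hb
    · right
      have h1 : a * b * t = (a * t) * (t * b * t⁻¹) := by
        calc a * b * t = a * 1 * b * t := by group
          _ = a * (t * t) * b * t := by rw [C.t_sq]
          _ = (a * t) * (t * b * t) := by group
          _ = _ := by rw [hti]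
      show a * b * t ∈ U A0 r s
      rw [h1]
      exact mul_mem ha (C.t_U b hb)
    · left
      have h1 : a * b = (a * t) * (t * (b * t) * t⁻¹) := by
        calc a * b = a * 1 * b := by group
          _ = a * (t * t) * b := by rw [C.t_sq]
          _ = _ := by group
      rw [h1]
      exact mul_mem ha (C.t_U _ hb)
  inv_mem' := by
    have hti : t⁻¹ = t := inv_eq_iff_mul_eq_one.mpr C.t_sq
    rintro a (ha | ha)
    · exact Or.inl (inv_mem ha)
    · right
      have h1 : a⁻¹ * t = t * (a * t)⁻¹ * t⁻¹ := by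
        rw [mul_inv_rev, mul_inv_cancel_left, hti]
      show a⁻¹ * t ∈ U A0 r s
      rw [h1]
      exact C.t_U _ (inv_mem ha)

theorem mem_S0 [Finite G] {g : G} : g ∈ C.S0 ↔ g ∈ U A0 r s ∨ g * t ∈ U A0 r s := Iff.rfl

/-- no conjugate of `x` lies in `U⟨t⟩`. -/
theorem conj_notin_S0 [Finite G] (g : G) : g * x * g⁻¹ ∉ C.S0 := by
  intro hmem
  have hne : g * x * g⁻¹ ≠ 1 := by
    intro h1
    apply C.x_ne
    have : x = g⁻¹ * (g * x * g⁻¹) * g := by group
    rw [this, h1]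
    group
  have hinv : g * x * g⁻¹ * (g * x * g⁻¹) = 1 := by
    calc g * x * g⁻¹ * (g * x * g⁻¹) = g * (x * x) * g⁻¹ := by group
      _ = 1 := by rw [C.x_sq]; group
  set y := g * x * g⁻¹ with hy
  have hti : t⁻¹ = t := inv_eq_iff_mul_eq_one.mpr C.t_sq
  rcases C.mem_S0.1 hmem with h | h
  · obtain ⟨k, hk⟩ := C.starV y (C.U_inv h hinv) hne
    exact C.not_conj hy.symm hk
  · -- `y = u t`
    set u := y * t with hu
    have hyu : y = u * t := by rw [hu, mul_assoc, C.t_sq, mul_one]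
    have h1 : t * u * t⁻¹ = u⁻¹ := by
      have h2 : u * t * (u * t) = 1 := by rw [← hyu]; exact hinv
      have h3 : u * (t * u * t) = 1 := by
        rw [← h2]; group
      rw [hti]
      exact eq_inv_of_mul_eq_one_right h3
    -- the action of `u` on `x`
    obtain ⟨v, hv, hux⟩ := C.W_x u (C.U_le_W h)
    have htx : t * x * t⁻¹ = x := by rw [C.t_x, mul_inv_cancel_right]
    have hux' : u⁻¹ * x * u⁻¹⁻¹ = x * v := by
      have h4 : u⁻¹ * (x * v) * u = x := by rw [← hux]; group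
      have h5 : u⁻¹ * x * u * v = x := by
        calc u⁻¹ * x * u * v = u⁻¹ * x * (u * v) := by group
          _ = u⁻¹ * x * (v * u) := by rw [C.V_comm v hv u (C.U_le_W h)]
          _ = u⁻¹ * (x * v) * u := by group
          _ = x := h4
      calc u⁻¹ * x * u⁻¹⁻¹ = u⁻¹ * x * u * v * v⁻¹ := by group
        _ = x * v := by rw [h5, C.V_inv hv]
    have htv : t * v * t⁻¹ = v := by
      have h4 : (t * u * t⁻¹) * x * (t * u * t⁻¹)⁻¹ = x * (t * v * t⁻¹) := by
        have htx' : t⁻¹ * x * t = x := by rw [mul_assoc, ← C.t_x, inv_mul_cancel_left]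
        calc (t * u * t⁻¹) * x * (t * u * t⁻¹)⁻¹ = t * (u * (t⁻¹ * x * t) * u⁻¹) * t⁻¹ := by group
          _ = t * x * t⁻¹ * (t * v * t⁻¹) := by rw [htx', hux]; group
          _ = _ := by rw [htx]
      rw [h1, hux'] at h4
      exact (mul_left_cancel h4).symm
    have htz2 : t * (r * (r * z * r⁻¹) * r⁻¹) * t⁻¹ = r * z * r⁻¹ := by
      rw [← C.t_rz]
      calc t * (t * (r * z * r⁻¹) * t⁻¹) * t⁻¹ = (t * t) * (r * z * r⁻¹) * (t * t)⁻¹ := by group
        _ = _ := by rw [C.t_sq]; group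
    have fin : ∀ u' : G, u' ∈ U A0 r s → u' * x = x * u' → ∀ k : G, k * y * k⁻¹ = u' * t → False := by
      intro u' hu' hc k hk
      have hA := C.U_cent hu' hc
      have hsq : u' * t * (u' * t) = 1 := by
        rw [← hk]
        calc k * y * k⁻¹ * (k * y * k⁻¹) = k * (y * y) * k⁻¹ := by group
          _ = 1 := by rw [hinv]; group
      obtain ⟨k', hk'⟩ := C.star u' hA hsq
      refine C.not_conj (y := y) (k := k' * k) hy.symm ?_
      rw [← hk', ← hk]
      group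
    rcases C.V_eq v hv with rfl | rfl | rfl | rfl
    · refine fin u h ?_ 1 (by rw [← hyu]; group)
      rw [mul_one, mul_inv_eq_iff_eq_mul] at hux
      exact hux
    · -- conjugate by `w`
      set w := r * s * r⁻¹ with hw
      have hwU : w ∈ U A0 r s := w_mem_U
      have htw : t * w⁻¹ * t⁻¹ ∈ U A0 r s := C.t_U _ (inv_mem hwU)
      refine fin (u * (w * (t * w⁻¹ * t⁻¹))) (mul_mem h (mul_mem hwU htw)) ?_ w ?_
      · have hz1 := C.r_V C.z_mem
        have hz2 := C.r_V hz1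
        have hwx := C.w_x
        rw [← hw] at hwx
        have hwx' : w⁻¹ * x * w⁻¹⁻¹ = x * (r * v * r⁻¹) := by
          have h4 : w⁻¹ * (x * (r * v * r⁻¹)) * w = x := by rw [← hwx]; group
          have h5 : w⁻¹ * x * w * (r * v * r⁻¹) = x := by
            calc w⁻¹ * x * w * (r * v * r⁻¹) = w⁻¹ * x * (w * (r * v * r⁻¹)) := by group
              _ = w⁻¹ * x * ((r * v * r⁻¹) * w) := by rw [C.V_comm _ hz1 w C.w_mem]
              _ = w⁻¹ * (x * (r * v * r⁻¹)) * w := by group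
              _ = x := h4
          calc w⁻¹ * x * w⁻¹⁻¹ = w⁻¹ * x * w * (r * v * r⁻¹) * (r * v * r⁻¹)⁻¹ := by group
            _ = x * (r * v * r⁻¹) := by rw [h5, C.V_inv hz1]
        have htwx : (t * w⁻¹ * t⁻¹) * x * (t * w⁻¹ * t⁻¹)⁻¹ = x * (r * (r * v * r⁻¹) * r⁻¹) := by
          have htx' : t⁻¹ * x * t = x := by rw [mul_assoc, ← C.t_x, inv_mul_cancel_left]
          calc (t * w⁻¹ * t⁻¹) * x * (t * w⁻¹ * t⁻¹)⁻¹
              = t * (w⁻¹ * (t⁻¹ * x * t) * w⁻¹⁻¹) * t⁻¹ := by group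
            _ = t * x * t⁻¹ * (t * (r * v * r⁻¹) * t⁻¹) := by rw [htx', hwx']; group
            _ = _ := by rw [htx, C.t_rz]
        have mulx : ∀ a b c d : G, a ∈ W → b ∈ W → c ∈ V → d ∈ V → a * x * a⁻¹ = x * c →
            b * x * b⁻¹ = x * d → a * b * x * (a * b)⁻¹ = x * (c * d) := by
          intro a b c d ha _ _ hd h1 h2
          calc a * b * x * (a * b)⁻¹ = a * (b * x * b⁻¹) * a⁻¹ := by group
            _ = a * x * (d * a⁻¹) := by rw [h2]; group
            _ = a * x * (a⁻¹ * d) := by rw [C.V_comm d hd a⁻¹ (W.inv_mem ha)]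
            _ = a * x * a⁻¹ * d := by group
            _ = _ := by rw [h1]; group
        have h6 := mulx w (t * w⁻¹ * t⁻¹) _ _ C.w_mem (C.U_le_W htw) hz1 hz2 hwx htwx
        have h7 := mulx u (w * (t * w⁻¹ * t⁻¹)) _ _ (C.U_le_W h)
          (W.mul_mem C.w_mem (C.U_le_W htw)) hv (V.mul_mem hz1 hz2) hux h6
        have h8 : v * (r * v * r⁻¹ * (r * (r * v * r⁻¹) * r⁻¹)) = 1 := by
          rw [← mul_assoc]; exact C.r_prod
        rw [h8, mul_one, mul_inv_eq_iff_eq_mul] at h7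
        exact h7
      · have h4 := C.U_comm u h w hwU
        calc w * y * w⁻¹ = w * u * (t * w⁻¹) := by rw [hyu]; group
          _ = u * w * (t * w⁻¹) * 1 := by rw [h4]; group
          _ = u * w * (t * w⁻¹) * (t * t) := by rw [C.t_sq]
          _ = u * (w * (t * w⁻¹ * t)) * t := by group
          _ = _ := by rw [hti]
    · exact C.z1_ne_z2 (by rw [← C.t_rz, htv])
    · rw [htz2] at htv
      exact C.z1_ne_z2 htv

theorem false [Finite G] (hf : ∀ f : G →* ℤˣ, f x = 1) : False := by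
  obtain ⟨P, hP⟩ := C.R1_p.exists_le_sylow
  have hR : R1 = (P : Subgroup G) := C.R1_syl P.2 hP
  have hS0 : C.S0 ≤ R1 := by
    intro g hg
    rcases C.mem_S0.1 hg with h | h
    · exact C.W_le (C.U_le_W h)
    · have h1 : g = g * t * t⁻¹ := by group
      rw [h1]
      exact R1.mul_mem (C.W_le (C.U_le_W h)) (R1.inv_mem C.t_mem)
  have hidx : C.S0.relIndex (P : Subgroup G) = 2 := by
    rw [← hR]
    unfold Subgroup.relIndex
    rw [Subgroup.index_eq_two_iff]
    refine ⟨⟨x, C.W_le C.x_W⟩, fun b => ?_⟩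
    obtain ⟨b, hb⟩ := b
    simp only [Subgroup.mem_subgroupOf]
    show Xor (b * x ∈ C.S0) (b ∈ C.S0)
    have hxS : x ∉ C.S0 := by
      have := C.conj_notin_S0 1
      simpa using this
    have hor : b * x ∈ C.S0 ∨ b ∈ C.S0 := by
      rcases C.R1_mem b hb with h | h
      · rcases C.W_eq h with h1 | h1
        · exact Or.inr (C.mem_S0.2 (Or.inl h1))
        · exact Or.inl (C.mem_S0.2 (Or.inl h1))
      · rcases C.W_eq h with h1 | h1
        · exact Or.inr (C.mem_S0.2 (Or.inr h1))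
        · refine Or.inl (C.mem_S0.2 (Or.inr ?_))
          have : b * x * t = b * t * x := by rw [mul_assoc, ← C.t_x, mul_assoc]
          rw [this]
          exact h1
    rcases hor with h | h
    · left
      refine ⟨h, fun h2 => hxS ?_⟩
      have := mul_mem (inv_mem h2) h
      rwa [inv_mul_cancel_left] at this
    · right
      refine ⟨h, fun h2 => hxS ?_⟩
      have := mul_mem (inv_mem h) h2
      rwa [inv_mul_cancel_left] at this
  obtain ⟨m, hm, hm'⟩ := Transfer.ThompsonTransfer.exists_index_eq P C.S0 (hR ▸ hS0) hidx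
  obtain ⟨f, hfx⟩ := Transfer.ThompsonTransfer.exists_hom_eq_neg_one C.S0 hm hm' x
    (by rw [pow_two]; exact C.x_sq) C.conj_notin_S0
  rw [hf f] at hfx
  exact absurd hfx (by decide)

end U

end FCfg

end Cfsg.Agent.GH.WAct
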