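import Cfsg.Agent.GH.WAct

/-!
# Project GH, branch GH-L3 (W): the homocyclic subgroup `U`
-/

set_option autoImplicit false

namespace Cfsg.Agent.GH.WAct

open Subgroup Cfsg.Agent.TwoFusion.SectionalRank

variable {G : Type*} [Group G]

/-- commutator relation in class two -/
theorem comm_inv_eq {Q : Type*} [Group Q] {s w w2 a c : Q} (hc : s * w * s⁻¹ * w⁻¹ = c)
    (hcs : c * s = s * c) (hcw : c * w = w * c) (ha : s * w * w2 = a) (haw : a * w = w * a) :
    w * w2 * w⁻¹ * w2⁻¹ = c := by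
  have h1 : w2 = w⁻¹ * s⁻¹ * a := by rw [← ha]; group
  have h2 : w * w2 * w⁻¹ * w2⁻¹ = s⁻¹ * w⁻¹ * s * w := by
    rw [h1]
    calc w * (w⁻¹ * s⁻¹ * a) * w⁻¹ * (w⁻¹ * s⁻¹ * a)⁻¹ = s⁻¹ * (a * w⁻¹) * a⁻¹ * s * w := by group
      _ = s⁻¹ * (w⁻¹ * a) * a⁻¹ * s * w := by rw [(show Commute a w from haw).inv_right.eq]
      _ = _ := by group
  rw [h2]
  have h3 : s * w = c * w * s := by rw [← hc]; group
  calc s⁻¹ * w⁻¹ * s * w = s⁻¹ * w⁻¹ * (s * w) := by group
    _ = s⁻¹ * (w⁻¹ * c) * w * s := by rw [h3]; group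
    _ = s⁻¹ * (c * w⁻¹) * w * s := by rw [(show Commute c w from hcw).symm.inv_left.eq]
    _ = s⁻¹ * c * s := by group
    _ = c := by rw [mul_assoc, hcs, inv_mul_cancel_left]

theorem two_mul_card_le [Finite G] {H K : Subgroup G} (h : H ≤ K) {g : G} (hg : g ∈ K) (hg' : g ∉ H) :
    2 * Nat.card H ≤ Nat.card K := by
  have h1 : H.relIndex K ≠ 1 := by
    intro h2
    rw [relIndex_eq_one] at h2
    exact hg' (h2 hg)
  have h0 : H.relIndex K ≠ 0 := by
    intro h0
    have h2 := card_eq_relIndex_mul K H h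
    rw [h0, zero_mul] at h2
    exact Nat.card_pos.ne' h2
  rw [card_eq_relIndex_mul K H h]
  apply Nat.mul_le_mul_right
  omega

/-- Generators commuting mod the central subgroup `V`, with squares in `V`. -/
theorem elemSection_closure {V W : Subgroup G} (hVc : ∀ v ∈ V, ∀ w ∈ W, w * v = v * w) (S : Set G)
    (hS : S ⊆ W) (hVS : V ≤ closure S) (h1 : ∀ a ∈ S, ∀ b ∈ S, a * b * a⁻¹ * b⁻¹ ∈ V)
    (h2 : ∀ a ∈ S, a * a ∈ V) : ElemSection 2 (closure S) V := by
  have hSW : closure S ≤ W := (closure_le W).2 hS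
  have mulL : ∀ a ∈ W, ∀ a' ∈ W, ∀ b ∈ W, a * b * a⁻¹ * b⁻¹ ∈ V → a' * b * a'⁻¹ * b⁻¹ ∈ V →
      a * a' * b * (a * a')⁻¹ * b⁻¹ ∈ V := by
    intro a ha a' _ b hb k1 k2
    have : a * a' * b * (a * a')⁻¹ * b⁻¹ = (a * (a' * b * a'⁻¹ * b⁻¹) * a⁻¹) * (a * b * a⁻¹ * b⁻¹) := by
      group
    rw [this, hVc _ k2 a ha, mul_inv_cancel_right]
    exact V.mul_mem k2 k1
  have invL : ∀ a ∈ W, ∀ b ∈ W, a * b * a⁻¹ * b⁻¹ ∈ V → a⁻¹ * b * a⁻¹⁻¹ * b⁻¹ ∈ V := by
    intro a ha b hb k1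
    have : a⁻¹ * b * a⁻¹⁻¹ * b⁻¹ = a⁻¹ * (a * b * a⁻¹ * b⁻¹)⁻¹ * a := by group
    rw [this, hVc _ (V.inv_mem k1) a⁻¹ (W.inv_mem ha), inv_mul_cancel_right]
    exact V.inv_mem k1
  have symm : ∀ a b : G, a * b * a⁻¹ * b⁻¹ ∈ V → b * a * b⁻¹ * a⁻¹ ∈ V := by
    intro a b k1
    have : b * a * b⁻¹ * a⁻¹ = (a * b * a⁻¹ * b⁻¹)⁻¹ := by group
    rw [this]
    exact V.inv_mem k1
  have s1 : ∀ b ∈ S, ∀ a ∈ closure S, a * b * a⁻¹ * b⁻¹ ∈ V := by
    intro b hb a ha
    induction ha using closure_induction with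
    | mem a ha => exact h1 a ha b hb
    | one => simp
    | mul a a' ha ha' k1 k2 => exact mulL a (hSW ha) a' (hSW ha') b (hS hb) k1 k2
    | inv a ha k => exact invL a (hSW ha) b (hS hb) k
  have s2 : ∀ a ∈ closure S, ∀ b ∈ closure S, a * b * a⁻¹ * b⁻¹ ∈ V := by
    intro a ha b hb
    apply symm
    induction hb using closure_induction with
    | mem b hb => exact symm _ _ (s1 b hb a ha)
    | one => simp
    | mul b b' hb hb' k1 k2 => exact mulL b (hSW hb) b' (hSW hb') a (hSW ha) k1 k2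
    | inv b hb k => exact invL b (hSW hb) a (hSW ha) k
  refine ⟨hVS, s2, ?_⟩
  intro a ha
  rw [pow_two]
  induction ha using closure_induction with
  | mem a ha => exact h2 a ha
  | one => simp
  | mul a b ha hb k1 k2 =>
    have h3 := s2 b hb a ha
    have : a * b * (a * b) = a * (b * a * b⁻¹ * a⁻¹) * a * (b * b) := by group
    rw [this, hVc _ h3 a (hSW ha)]
    have : b * a * b⁻¹ * a⁻¹ * a * a * (b * b) = (b * a * b⁻¹ * a⁻¹) * (a * a) * (b * b) := by group
    rw [this]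
    exact V.mul_mem (V.mul_mem h3 k1) k2
  | inv a ha k =>
    have : a⁻¹ * a⁻¹ = (a * a)⁻¹ := by group
    rw [this]
    exact V.inv_mem k

/-- `s ∈ W` as produced by `TCfg.exists_s`. -/
structure SCfg (V A0 Ap W : Subgroup G) (x τ r z s : G) : Prop extends Cfg V A0 Ap W x τ r z where
  s_mem : s ∈ W
  s_x : s * x * s⁻¹ = x * z
  s_sq : s * s ∈ A0
  s_comm : s * (r * s * r⁻¹) * s⁻¹ * (r * s * r⁻¹)⁻¹ ∈ A0
  s_prod : s * (r * s * r⁻¹) * (r * (r * s * r⁻¹) * r⁻¹) ∈ A0

namespace SCfg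

variable {V A0 Ap W : Subgroup G} {x τ r z s : G} (C : SCfg V A0 Ap W x τ r z s)

include C

theorem w_mem : r * s * r⁻¹ ∈ W := C.r_W s C.s_mem

theorem w2_mem : r * (r * s * r⁻¹) * r⁻¹ ∈ W := C.r_W _ C.w_mem

theorem r_prodV {v : G} (hv : v ∈ V) : v * (r * v * r⁻¹) = r * (r * v * r⁻¹) * r⁻¹ := by
  have h1 := eq_inv_of_mul_eq_one_left (C.r_prod' hv)
  rwa [C.V_inv (C.r_V (C.r_V hv))] at h1

/-- an element of `A0` that is fixed mod `V` by `r` lies in `V`. -/
theorem mem_V_of_fixed {g v : G} (hg : g ∈ A0) (hv : v ∈ V) (h : r * g * r⁻¹ = g * v) : g ∈ V := by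
  refine C.A0_inv g hg ?_
  refine C.r_fix _ (C.A0_sq g hg) ?_
  calc r * (g * g) * r⁻¹ = (r * g * r⁻¹) * (r * g * r⁻¹) := by group
    _ = g * (v * g) * v := by rw [h]; group
    _ = g * g * (v * v) := by rw [C.A0_comm v (C.V_le hv) g hg]; group
    _ = g * g := by rw [C.V_sq v hv, mul_one]

/-- `[g, w] ∈ V` for `g ∈ A0`, `w ∈ W`, in the form `w g = g w v`. -/
theorem swap {w g : G} (hw : w ∈ W) (hg : g ∈ A0) : ∃ v ∈ V, w * g = g * w * v := by
  obtain ⟨v, hv, h⟩ := C.conj_A0 hw hg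
  refine ⟨v, hv, ?_⟩
  calc w * g = (w * g * w⁻¹) * w := by group
    _ = g * (v * w) := by rw [h]; group
    _ = g * (w * v) := by rw [C.V_comm v hv w hw]
    _ = _ := by group

/-- the commutator `c = [s, s^r]` lies in `V`. -/
theorem comm_mem_V [Finite G] : s * (r * s * r⁻¹) * s⁻¹ * (r * s * r⁻¹)⁻¹ ∈ V := by
  let H : Subgroup G := normalizer (V : Set G)
  let N : Subgroup H := V.subgroupOf H
  have hN : N.Normal := normal_in_normalizer
  let φ : H →* H ⧸ N := QuotientGroup.mk' N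
  have hφ : ∀ (g : G) (hg : g ∈ H), φ ⟨g, hg⟩ = 1 ↔ g ∈ V := by
    intro g hg
    exact QuotientGroup.eq_one_iff _
  have hWH : W ≤ H := by
    intro w hw
    refine mem_normalizer_fintype (S := (V : Set G)) ?_
    intro v hv
    rw [C.V_comm v hv w hw, mul_inv_cancel_right]
    exact hv
  have hrH : r ∈ H := mem_normalizer_fintype (S := (V : Set G)) fun v hv => C.r_V hv
  have hA0W : A0 ≤ W := C.A0_le.trans C.Ap_le
  set w := r * s * r⁻¹ with hw
  set w2 := r * w * r⁻¹ with hw2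
  set c := s * w * s⁻¹ * w⁻¹ with hc
  let s' : H := ⟨s, hWH C.s_mem⟩
  let w' : H := ⟨w, hWH C.w_mem⟩
  let w2' : H := ⟨w2, hWH C.w2_mem⟩
  let c' : H := ⟨c, hWH (hA0W C.s_comm)⟩
  let a' : H := ⟨s * w * w2, hWH (hA0W C.s_prod)⟩
  let r' : H := ⟨r, hrH⟩
  have hcen : ∀ (g : G) (hg : g ∈ A0) (y : G) (hy : y ∈ W),
      φ ⟨g, hWH (hA0W hg)⟩ * φ ⟨y, hWH hy⟩ = φ ⟨y, hWH hy⟩ * φ ⟨g, hWH (hA0W hg)⟩ := by
    intro g hg y hy
    obtain ⟨v, hv, h⟩ := C.swap hy hg
    have h1 : (⟨y, hWH hy⟩ : H) * ⟨g, hWH (hA0W hg)⟩ =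
        ⟨g, hWH (hA0W hg)⟩ * ⟨y, hWH hy⟩ * ⟨v, hWH (hA0W (C.V_le hv))⟩ := Subtype.ext h
    rw [← map_mul _ (⟨y, hWH hy⟩ : H), h1, map_mul, map_mul, (hφ v _).2 hv, mul_one]
  have h1 : φ s' * φ w' * (φ s')⁻¹ * (φ w')⁻¹ = φ c' := by
    rw [← map_inv, ← map_inv, ← map_mul, ← map_mul, ← map_mul]
    rfl
  have h2 : φ s' * φ w' * φ w2' = φ a' := by
    rw [← map_mul, ← map_mul]
    rfl
  have h3 := comm_inv_eq h1 (hcen c C.s_comm s C.s_mem) (hcen c C.s_comm w C.w_mem) h2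
    (hcen _ C.s_prod w C.w_mem)
  have h4 : φ w' * φ w2' * (φ w')⁻¹ * (φ w2')⁻¹ = φ r' * φ c' * (φ r')⁻¹ := by
    rw [← map_inv, ← map_inv, ← map_inv, ← map_mul, ← map_mul, ← map_mul, ← map_mul, ← map_mul]
    congr 1
    apply Subtype.ext
    show w * w2 * w⁻¹ * w2⁻¹ = r * c * r⁻¹
    rw [hc, hw2, hw]
    group
  rw [h4] at h3
  have h5 : c⁻¹ * (r * c * r⁻¹) ∈ V := by
    have h6 : φ (c'⁻¹ * (r' * c' * r'⁻¹)) = 1 := by
      rw [map_mul, map_mul, map_mul, map_inv, map_inv, h3, inv_mul_cancel]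
    exact (hφ _ _).1 h6
  exact C.mem_V_of_fixed C.s_comm h5 (by group)

theorem z_ne_rz : r * z * r⁻¹ ≠ z := fun h => C.z_ne (C.r_fix z C.z_mem h)

theorem card_V [Finite G] : 4 ≤ Nat.card V := by
  have h1 : 2 * Nat.card (zpowers z) ≤ Nat.card V := by
    refine two_mul_card_le (zpowers_le.2 C.z_mem) (C.r_V C.z_mem) ?_
    intro h
    have h2 : ∀ y ∈ zpowers z, y = 1 ∨ y = z := by
      intro y hy
      rw [mem_zpowers_iff] at hy
      obtain ⟨k, rfl⟩ := hy
      have hzz : z ^ 2 = 1 := by rw [pow_two]; exact C.V_sq z C.z_mem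
      rcases Int.even_or_odd k with ⟨m, rfl⟩ | ⟨m, rfl⟩
      · left
        rw [← two_mul, zpow_mul, zpow_ofNat, hzz, one_zpow]
      · right
        rw [zpow_add, zpow_mul, zpow_ofNat, hzz, one_zpow, zpow_one, one_mul]
    rcases h2 _ h with h3 | h3
    · apply C.z_ne
      have : z = r⁻¹ * (r * z * r⁻¹) * r := by group
      rw [this, h3]
      group
    · exact C.z_ne_rz h3
  have h2 : Nat.card (zpowers z) = 2 := by
    rw [Nat.card_zpowers, orderOf_eq_prime (by rw [pow_two]; exact C.V_sq z C.z_mem) C.z_ne]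
  omega

theorem card_A0 [Finite G] : Nat.card A0 = Nat.card V * Nat.card V := by
  let f : A0 →* V :=
    { toFun := fun g => ⟨g.1 * g.1, C.A0_sq g.1 g.2⟩
      map_one' := by simp
      map_mul' := by
        intro g h
        apply Subtype.ext
        show (g : G) * h * (g * h) = g * g * (h * h)
        calc (g : G) * h * (g * h) = g * (h * g) * h := by group
          _ = g * g * (h * h) := by rw [C.A0_comm h.1 h.2 g.1 g.2]; group }
  have hf : Function.Surjective f := by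
    rintro ⟨v, hv⟩
    obtain ⟨g, hg, hgv⟩ := C.A0_surj v hv
    exact ⟨⟨g, hg⟩, Subtype.ext hgv⟩
  have hk : Nat.card f.ker = Nat.card V := by
    have e : f.ker = V.subgroupOf A0 := by
      ext g
      rw [MonoidHom.mem_ker, mem_subgroupOf]
      constructor
      · intro h
        exact C.A0_inv g.1 g.2 (congrArg Subtype.val h)
      · intro h
        exact Subtype.ext (C.V_sq _ h)
    rw [e, Nat.card_congr (subgroupOfEquivOfLe C.V_le).toEquiv]
  have h1 := Subgroup.card_eq_card_quotient_mul_card_subgroup f.ker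
  rw [Nat.card_congr (QuotientGroup.quotientKerEquivOfSurjective f hf).toEquiv, hk] at h1
  exact h1

theorem w_x : (r * s * r⁻¹) * x * (r * s * r⁻¹)⁻¹ = x * (r * z * r⁻¹) := by
  have hrx : r * x * r⁻¹ = x := by rw [C.r_x, mul_inv_cancel_right]
  have hrx' : r⁻¹ * x * r = x := by rw [mul_assoc, ← C.r_x, inv_mul_cancel_left]
  calc (r * s * r⁻¹) * x * (r * s * r⁻¹)⁻¹ = r * (s * (r⁻¹ * x * r) * s⁻¹) * r⁻¹ := by group
    _ = r * x * r⁻¹ * (r * z * r⁻¹) := by rw [hrx', C.s_x]; group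
    _ = x * (r * z * r⁻¹) := by rw [hrx]

/-- Step 5, first half: the squares do not lie in `V` (otherwise there is a section of order `32`). -/
theorem sq_not_mem [Finite G] (hrank : ∀ X Y : Subgroup G, ElemSection 2 X Y → Nat.card X ≤ 2 ^ 4 * Nat.card Y) :
    s * s ∉ V := by
  intro hsV
  set w := r * s * r⁻¹ with hw
  have hwW : w ∈ W := C.w_mem
  have hxW : x ∈ W := C.Ap_le C.x_mem
  have hA0W : A0 ≤ W := C.A0_le.trans C.Ap_le
  have hwV : w * w ∈ V := by
    have : w * w = r * (s * s) * r⁻¹ := by rw [hw]; group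
    rw [this]
    exact C.r_V hsV
  -- the chain
  let X1 : Subgroup G := A0 ⊔ zpowers x
  let X2 : Subgroup G := X1 ⊔ zpowers s
  let X3 : Subgroup G := X2 ⊔ zpowers w
  -- the elements of `X1` commute with `x`; of `X2` move `x` by `1` or `z`
  have hX1 : ∀ g ∈ X1, g * x * g⁻¹ = x := by
    have : X1 ≤ centralizer ({x} : Set G) := by
      refine sup_le ?_ ?_
      · intro g hg
        rw [mem_centralizer_singleton_iff]
        exact (C.x_comm g hg).symm
      · rw [zpowers_le, mem_centralizer_singleton_iff]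
    intro g hg
    have h1 := mem_centralizer_singleton_iff.1 (this hg)
    rw [h1, mul_inv_cancel_right]
  let Z1 : Subgroup G :=
    { carrier := {g | g ∈ W ∧ (g * x * g⁻¹ = x ∨ g * x * g⁻¹ = x * z)}
      one_mem' := ⟨W.one_mem, Or.inl (by group)⟩
      mul_mem' := by
        rintro a b ⟨ha, ha'⟩ ⟨hb, hb'⟩
        refine ⟨W.mul_mem ha hb, ?_⟩
        have e : a * b * x * (a * b)⁻¹ = a * (b * x * b⁻¹) * a⁻¹ := by group
        rw [e]
        have e2 : a * (x * z) * a⁻¹ = a * x * a⁻¹ * z := by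
          calc a * (x * z) * a⁻¹ = a * x * (z * a⁻¹) := by group
            _ = a * x * (a⁻¹ * z) := by rw [C.V_comm z C.z_mem a⁻¹ (W.inv_mem ha)]
            _ = a * x * a⁻¹ * z := by group
        rcases hb' with h | h <;> rcases ha' with h' | h'
        · left; rw [h, h']
        · right; rw [h, h']
        · right; rw [h, e2, h']
        · left; rw [h, e2, h', mul_assoc, C.V_sq z C.z_mem, mul_one]
      inv_mem' := by
        rintro a ⟨ha, ha'⟩
        refine ⟨W.inv_mem ha, ?_⟩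
        rcases ha' with h | h
        · left
          calc a⁻¹ * x * a⁻¹⁻¹ = a⁻¹ * (a * x * a⁻¹) * a := by rw [h]; group
            _ = x := by group
        · right
          have h2 : a⁻¹ * (x * z) * a = x := by rw [← h]; group
          have h3 : a⁻¹ * x * a * z = x := by
            calc a⁻¹ * x * a * z = a⁻¹ * x * (a * z) := by group
              _ = a⁻¹ * x * (z * a) := by rw [C.V_comm z C.z_mem a ha]
              _ = a⁻¹ * (x * z) * a := by group
              _ = x := h2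
          calc a⁻¹ * x * a⁻¹⁻¹ = a⁻¹ * x * a * z * z⁻¹ := by group
            _ = x * z := by rw [h3, C.V_inv C.z_mem] }
  have hX2 : X2 ≤ Z1 := by
    refine sup_le (fun g hg => ⟨?_, Or.inl (hX1 g hg)⟩) ?_
    · have : X1 ≤ W := sup_le hA0W (zpowers_le.2 hxW)
      exact this hg
    · rw [zpowers_le]
      exact ⟨C.s_mem, Or.inr C.s_x⟩
  have c1 : 2 * Nat.card A0 ≤ Nat.card X1 :=
    two_mul_card_le le_sup_left (mem_sup_right (mem_zpowers x)) C.x_not
  have c2 : 2 * Nat.card X1 ≤ Nat.card X2 := by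
    refine two_mul_card_le le_sup_left (mem_sup_right (mem_zpowers s)) ?_
    intro h
    have h1 := hX1 s h
    rw [C.s_x] at h1
    exact C.z_ne (mul_left_cancel (h1.trans (mul_one x).symm))
  have c3 : 2 * Nat.card X2 ≤ Nat.card X3 := by
    refine two_mul_card_le le_sup_left (mem_sup_right (mem_zpowers w)) ?_
    intro h
    have hwx := C.w_x
    rcases (hX2 h).2 with h1 | h1
    · rw [← hw, h1] at hwx
      have h2 : r * z * r⁻¹ = 1 := mul_left_cancel (hwx.symm.trans (mul_one x).symm)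
      apply C.z_ne
      have : z = r⁻¹ * (r * z * r⁻¹) * r := by group
      rw [this, h2]
      group
    · rw [← hw, h1] at hwx
      exact C.z_ne_rz (mul_left_cancel hwx).symm
  -- the section
  have e3 : X3 = closure ((A0 : Set G) ∪ {x, s, w}) := by
    apply le_antisymm
    · refine sup_le (sup_le (sup_le ?_ ?_) ?_) ?_
      · intro g hg
        exact subset_closure (Or.inl hg)
      · rw [zpowers_le]; exact subset_closure (Or.inr (by simp))
      · rw [zpowers_le]; exact subset_closure (Or.inr (by simp))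
      · rw [zpowers_le]; exact subset_closure (Or.inr (by simp))
    · rw [closure_le]
      rintro g (hg | hg)
      · exact mem_sup_left (mem_sup_left (mem_sup_left hg))
      · rcases hg with rfl | rfl | rfl
        · exact mem_sup_left (mem_sup_left (mem_sup_right (mem_zpowers _)))
        · exact mem_sup_left (mem_sup_right (mem_zpowers _))
        · exact mem_sup_right (mem_zpowers _)
  have symm : ∀ a b : G, a * b * a⁻¹ * b⁻¹ ∈ V → b * a * b⁻¹ * a⁻¹ ∈ V := by
    intro a b k1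
    have : b * a * b⁻¹ * a⁻¹ = (a * b * a⁻¹ * b⁻¹)⁻¹ := by group
    rw [this]
    exact V.inv_mem k1
  have hA0W' : ∀ g ∈ A0, ∀ y ∈ W, y * g * y⁻¹ * g⁻¹ ∈ V := by
    intro g hg y hy
    obtain ⟨v, hv, h⟩ := C.conj_A0 hy hg
    rw [h, C.A0_comm g hg v (C.V_le hv), mul_inv_cancel_right]
    exact hv
  have hxy : ∀ y ∈ W, y * x * y⁻¹ * x⁻¹ ∈ V := by
    intro y hy
    obtain ⟨v, hv, h⟩ := C.W_x y hy
    rw [h, C.x_comm v (C.V_le hv), mul_inv_cancel_right]
    exact hv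
  have hsw : s * w * s⁻¹ * w⁻¹ ∈ V := C.comm_mem_V
  have self4 : ∀ y : G, y * y * y⁻¹ * y⁻¹ = 1 := fun y => by group
  have sec : ElemSection 2 X3 V := by
    rw [e3]
    refine elemSection_closure (W := W) C.V_comm _ ?_ ?_ ?_ ?_
    · rintro g (hg | hg)
      · exact hA0W hg
      · rcases hg with rfl | rfl | rfl
        · exact hxW
        · exact C.s_mem
        · exact hwW
    · intro v hv
      exact subset_closure (Or.inl (C.V_le hv))
    · have hSW : ∀ g ∈ (A0 : Set G) ∪ {x, s, w}, g ∈ W := by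
        rintro g (hg | hg)
        · exact hA0W hg
        · rcases hg with rfl | rfl | rfl
          · exact hxW
          · exact C.s_mem
          · exact hwW
      intro a ha b hb
      rcases ha with ha' | ha'
      · exact symm _ _ (hA0W' a ha' b (hSW b hb))
      rcases hb with hb' | hb'
      · exact hA0W' b hb' a (hSW a (Or.inr ha'))
      rcases ha' with rfl | rfl | rfl
      · exact symm _ _ (hxy b (hSW b (Or.inr hb')))
      · rcases hb' with rfl | rfl | rfl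
        · exact hxy _ C.s_mem
        · rw [self4]; exact V.one_mem
        · exact hsw
      · rcases hb' with rfl | rfl | rfl
        · exact hxy _ hwW
        · exact symm _ _ hsw
        · rw [self4]; exact V.one_mem
    · rintro g (hg | hg)
      · exact C.A0_sq g hg
      · rcases hg with rfl | rfl | rfl
        · rw [C.x_sq]; exact V.one_mem
        · exact hsV
        · exact hwV
  have h1 := hrank X3 V sec
  have h2 := C.card_V
  have h3 := C.card_A0
  have h4 : 4 * Nat.card V ≤ Nat.card V * Nat.card V := Nat.mul_le_mul_right _ h2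
  omega

theorem V_eq' {y : G} (hy : y ∈ V) (hy1 : y ≠ 1) {v : G} (hv : v ∈ V) :
    v = 1 ∨ v = y ∨ v = r * y * r⁻¹ ∨ v = r * (r * y * r⁻¹) * r⁻¹ := by
  have h3 : ∀ u ∈ V, r * (r * (r * u * r⁻¹) * r⁻¹) * r⁻¹ = u := by
    intro u hu
    have h1 := C.r_prod' hu
    have h2 := C.r_prod' (C.r_V hu)
    have h4 := eq_inv_of_mul_eq_one_right h2
    have h5 := eq_inv_of_mul_eq_one_left ((mul_assoc _ _ _).symm.trans h1)
    rw [h4, ← h5]
  have hz := C.z_mem
  rcases C.V_eq y hy with rfl | rfl | rfl | rfl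
  · exact absurd rfl hy1
  · exact C.V_eq v hv
  · rw [h3 z hz]
    rcases C.V_eq v hv with h | h | h | h
    · exact Or.inl h
    · exact Or.inr (Or.inr (Or.inr h))
    · exact Or.inr (Or.inl h)
    · exact Or.inr (Or.inr (Or.inl h))
  · rw [h3 z hz]
    rcases C.V_eq v hv with h | h | h | h
    · exact Or.inl h
    · exact Or.inr (Or.inr (Or.inl h))
    · exact Or.inr (Or.inr (Or.inr h))
    · exact Or.inr (Or.inl h)

/-- The commutator map. -/
def K (y g : G) : G := g⁻¹ * (y * g * y⁻¹)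

theorem K_mem {y g : G} (hy : y ∈ W) (hg : g ∈ A0) : K y g ∈ V := by
  obtain ⟨v, hv, h⟩ := C.conj_A0 hy hg
  unfold K
  rw [h, inv_mul_cancel_left]
  exact hv

omit C in
theorem K_eq {y g : G} : y * g * y⁻¹ = g * K y g := by
  unfold K
  rw [mul_inv_cancel_left]

theorem K_mul_left {y y' g : G} (hy : y ∈ W) (hy' : y' ∈ W) (hg : g ∈ A0) :
    K (y * y') g = K y g * K y' g := by
  have h1 : y * y' * g * (y * y')⁻¹ = g * (K y g * K y' g) := by
    calc y * y' * g * (y * y')⁻¹ = y * (y' * g * y'⁻¹) * y⁻¹ := by group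
      _ = y * g * (K y' g * y⁻¹) := by rw [K_eq (y := y') (g := g)]; group
      _ = y * g * (y⁻¹ * K y' g) := by rw [C.V_comm _ (C.K_mem hy' hg) y⁻¹ (W.inv_mem hy)]
      _ = y * g * y⁻¹ * K y' g := by group
      _ = _ := by rw [K_eq (y := y) (g := g)]; group
  unfold K at h1 ⊢
  rw [h1]
  group

theorem K_mul_right {y g h : G} (hy : y ∈ W) (hg : g ∈ A0) (hh : h ∈ A0) :
    K y (g * h) = K y g * K y h := by
  have h1 : y * (g * h) * y⁻¹ = g * h * (K y g * K y h) := by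
    calc y * (g * h) * y⁻¹ = (y * g * y⁻¹) * (y * h * y⁻¹) := by group
      _ = g * (K y g * h) * K y h := by rw [K_eq, K_eq]; group
      _ = _ := by rw [C.A0_comm _ (C.V_le (C.K_mem hy hg)) h hh]; group
  unfold K at h1 ⊢
  rw [h1]
  group

theorem K_V {y v : G} (hy : y ∈ W) (hv : v ∈ V) : K y v = 1 := by
  unfold K
  rw [C.V_comm v hv y hy, mul_inv_cancel_right, inv_mul_cancel]

theorem K_inv_right {y g : G} (hy : y ∈ W) (hg : g ∈ A0) : K y g⁻¹ = K y g := by
  have h1 := C.K_mul_right hy hg (A0.inv_mem hg)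
  rw [mul_inv_cancel, C.K_V hy V.one_mem] at h1
  rw [← C.V_inv (C.K_mem hy hg)]
  exact eq_inv_of_mul_eq_one_right h1.symm

omit C in
theorem K_comm {y g : G} : K y g = 1 ↔ y * g = g * y := by
  unfold K
  rw [inv_mul_eq_one, eq_comm, mul_inv_eq_iff_eq_mul]

omit C in
theorem K_conj {y g : G} : r * K y g * r⁻¹ = K (r * y * r⁻¹) (r * g * r⁻¹) := by
  unfold K
  group

/-- `s` commutes with the square of `s^r`. -/
theorem K_p [Finite G] : K s (r * s * r⁻¹ * (r * s * r⁻¹)) = 1 := by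
  set w := r * s * r⁻¹ with hw
  set w2 := r * w * r⁻¹ with hw2
  have hsW := C.s_mem
  have hwW : w ∈ W := C.w_mem
  have hw2W : w2 ∈ W := C.w2_mem
  have hq : s * s ∈ A0 := C.s_sq
  have hp : w * w ∈ A0 := by
    have : w * w = r * (s * s) * r⁻¹ := by rw [hw]; group
    rw [this]
    exact C.r_A0 _ hq
  set c := s * w * s⁻¹ * w⁻¹ with hc
  have hcV : c ∈ V := C.comm_mem_V
  have hsw : s * w * (s * w) = c * (s * s) * (w * w) := by
    have h1 : w * s = c * (s * w) := by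
      have h2 : s * w = c * (w * s) := by rw [hc]; group
      rw [h2, ← mul_assoc, C.V_sq c hcV, one_mul]
    calc s * w * (s * w) = s * (w * s) * w := by group
      _ = s * c * (s * w) * w := by rw [h1]; group
      _ = c * s * (s * w) * w := by rw [C.V_comm c hcV s hsW]
      _ = _ := by group
  have hA : s * w * (s * w) ∈ A0 := by
    rw [hsw]
    exact A0.mul_mem (A0.mul_mem (C.V_le hcV) hq) hp
  have hswW : s * w ∈ W := W.mul_mem hsW hwW
  have e1 : K s (s * s) = 1 := K_comm.2 (by group)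
  have e2 : K w (w * w) = 1 := K_comm.2 (by group)
  have e3 : K (s * w) (s * w * (s * w)) = 1 := K_comm.2 (by group)
  have e4 : K w (s * s) * K s (w * w) = 1 := by
    rw [hsw, C.K_mul_right hswW (A0.mul_mem (C.V_le hcV) hq) hp, C.K_mul_right hswW (C.V_le hcV) hq,
      C.K_V hswW hcV, one_mul, C.K_mul_left hsW hwW hq, C.K_mul_left hsW hwW hp, e1, e2, one_mul,
      mul_one] at e3
    exact e3
  have e5 : K w (s * s) = K s (w * w) := by
    have h1 := eq_inv_of_mul_eq_one_left e4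
    rwa [C.V_inv (C.K_mem hsW hp)] at h1
  -- apply `r`
  have ha : s * w * w2 ∈ A0 := C.s_prod
  set a := s * w * w2 with hadef
  have hw2' : w2 = (s * w)⁻¹ * a := by rw [hadef]; group
  have haa : a * a ∈ V := C.A0_sq a ha
  have hswi : (s * w)⁻¹ ∈ W := W.inv_mem hswW
  have e6 : w2 * w2 = (s * w * (s * w))⁻¹ * (K (s * w) a * (a * a)) := by
    have h1 : a * (s * w)⁻¹ = (s * w)⁻¹ * (a * K (s * w) a) := by
      rw [← K_eq]; group
    calc w2 * w2 = (s * w)⁻¹ * (a * (s * w)⁻¹) * a := by rw [hw2']; group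
      _ = (s * w)⁻¹ * (s * w)⁻¹ * (a * (K (s * w) a * a)) := by rw [h1]; group
      _ = (s * w)⁻¹ * (s * w)⁻¹ * (a * (a * K (s * w) a)) := by
        rw [C.A0_comm _ (C.V_le (C.K_mem hswW ha)) a ha]
      _ = (s * w)⁻¹ * (s * w)⁻¹ * (a * a * K (s * w) a) := by group
      _ = (s * w)⁻¹ * (s * w)⁻¹ * (K (s * w) a * (a * a)) := by
        rw [C.A0_comm _ (C.V_le (C.K_mem hswW ha)) _ (A0.mul_mem ha ha)]
      _ = _ := by group
  have e7 : K w (w2 * w2) = K w (s * s) := by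
    have hKa : K (s * w) a * (a * a) ∈ V := V.mul_mem (C.K_mem hswW ha) haa
    rw [e6, C.K_mul_right hwW (A0.inv_mem hA) (C.V_le hKa), C.K_V hwW hKa, mul_one,
      C.K_inv_right hwW hA, hsw, C.K_mul_right hwW (A0.mul_mem (C.V_le hcV) hq) hp,
      C.K_mul_right hwW (C.V_le hcV) hq, C.K_V hwW hcV, one_mul, e2, mul_one]
  have e8 : r * K s (w * w) * r⁻¹ = K s (w * w) := by
    rw [K_conj]
    have : r * (w * w) * r⁻¹ = w2 * w2 := by rw [hw2]; group
    rw [this, ← hw, e7, e5]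
  exact C.r_fix _ (C.K_mem hsW hp) e8

/-- Step 5: `s` centralises `A0`. -/
theorem s_A0 [Finite G] (hs : s * s ∉ V) {g : G} (hg : g ∈ A0) : s * g = g * s := by
  rw [← K_comm]
  set w := r * s * r⁻¹ with hw
  have hsW := C.s_mem
  have hq : s * s ∈ A0 := C.s_sq
  have hp : w * w ∈ A0 := by
    have : w * w = r * (s * s) * r⁻¹ := by rw [hw]; group
    rw [this]
    exact C.r_A0 _ hq
  have e1 : K s (s * s) = 1 := K_comm.2 (by group)
  have e2 : K s (w * w) = 1 := C.K_p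
  have hy : s * s * (s * s) ∈ V := C.A0_sq _ hq
  have hy1 : s * s * (s * s) ≠ 1 := fun h => hs (C.A0_inv _ hq h)
  have key : ∀ g0 ∈ A0, K s g0 = 1 → g * g = g0 * g0 → K s g = 1 := by
    intro g0 hg0 h1 h2
    have h3 : g0⁻¹ * g ∈ V := by
      refine C.A0_inv _ (A0.mul_mem (A0.inv_mem hg0) hg) ?_
      calc g0⁻¹ * g * (g0⁻¹ * g) = g0⁻¹ * (g * g0⁻¹) * g := by group
        _ = g0⁻¹ * g0⁻¹ * (g * g) := by rw [C.A0_comm g hg _ (A0.inv_mem hg0)]; group
        _ = 1 := by rw [h2]; group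
    have h4 : g = g0 * (g0⁻¹ * g) := by group
    rw [h4, C.K_mul_right hsW hg0 (C.V_le h3), h1, C.K_V hsW h3, mul_one]
  have hr1 : r * (s * s * (s * s)) * r⁻¹ = w * w * (w * w) := by rw [hw]; group
  have hr2 : r * (r * (s * s * (s * s)) * r⁻¹) * r⁻¹ = s * s * (w * w) * (s * s * (w * w)) := by
    rw [← C.r_prodV hy, hr1]
    calc s * s * (s * s) * (w * w * (w * w)) = s * s * ((s * s) * (w * w)) * (w * w) := by group
      _ = s * s * ((w * w) * (s * s)) * (w * w) := by rw [C.A0_comm _ hq _ hp]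
      _ = _ := by group
  rcases C.V_eq' hy hy1 (C.A0_sq g hg) with h | h | h | h
  · refine key 1 A0.one_mem (C.K_V hsW V.one_mem) (by rw [h]; group)
  · exact key _ hq e1 h
  · rw [hr1] at h
    exact key _ hp e2 h
  · rw [hr2] at h
    refine key _ (A0.mul_mem hq hp) ?_ h
    rw [C.K_mul_right hsW hq hp, e1, e2, mul_one]

/-- Step 5: `s^r` centralises `A0`. -/
theorem w_A0 [Finite G] (hs : s * s ∉ V) {g : G} (hg : g ∈ A0) :
    r * s * r⁻¹ * g = g * (r * s * r⁻¹) := by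
  have h1 : r⁻¹ * g * r ∈ A0 := by
    have := (mem_normalizer_iff'' (g := r)).1 C.r_norm g
    exact this.1 hg
  have h2 := C.s_A0 hs h1
  calc r * s * r⁻¹ * g = r * (s * (r⁻¹ * g * r)) * r⁻¹ := by group
    _ = _ := by rw [h2]; group

/-- Step 5: `s` and `s^r` commute. -/
theorem s_w [Finite G] (hs : s * s ∉ V) : s * (r * s * r⁻¹) = r * s * r⁻¹ * s := by
  set w := r * s * r⁻¹ with hw
  set w2 := r * w * r⁻¹ with hw2
  have hcV : s * w * s⁻¹ * w⁻¹ ∈ V := C.comm_mem_V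
  have h1 := comm_inv_eq (s := s) (w := w) (w2 := w2) rfl (C.V_comm _ hcV s C.s_mem).symm
    (C.V_comm _ hcV w C.w_mem).symm rfl (C.w_A0 hs C.s_prod).symm
  have h2 : r * (s * w * s⁻¹ * w⁻¹) * r⁻¹ = w * w2 * w⁻¹ * w2⁻¹ := by
    rw [hw2, hw]; group
  rw [h1] at h2
  have h3 := C.r_fix _ hcV h2
  rw [mul_inv_eq_one, mul_inv_eq_iff_eq_mul] at h3
  exact h3

/-- Step 6: `τ²` centralises `s`. -/
theorem τ_sq_s [Finite G] (hs : s * s ∉ V) : τ * τ * s = s * (τ * τ) := by
  obtain ⟨b, hb, hbτ⟩ := C.W_τ C.s_mem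
  have hbs := C.s_A0 hs hb
  have h1 : τ * s * τ⁻¹ = b⁻¹ * s := by
    have h2 : s * τ = b * τ * s := by rw [← hbτ]; group
    calc τ * s * τ⁻¹ = b⁻¹ * (b * τ * s) * τ⁻¹ := by group
      _ = b⁻¹ * (s * τ) * τ⁻¹ := by rw [h2]
      _ = _ := by group
  have h3 : τ * τ * s * (τ * τ)⁻¹ = (τ * b⁻¹ * τ⁻¹) * (b⁻¹ * s) := by
    calc τ * τ * s * (τ * τ)⁻¹ = τ * (τ * s * τ⁻¹) * τ⁻¹ := by group
      _ = τ * (b⁻¹ * s) * τ⁻¹ := by rw [h1]
      _ = (τ * b⁻¹ * τ⁻¹) * (τ * s * τ⁻¹) := by group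
      _ = _ := by rw [h1]
  have h4 : τ * τ * s * (τ * τ)⁻¹ = s := by
    rw [h3]
    rcases C.τ_A0 with h | h
    · rw [h _ (A0.inv_mem hb)]
      have h5 := h _ C.s_sq
      have h6 : τ * (s * s) * τ⁻¹ = b⁻¹ * b⁻¹ * (s * s) := by
        calc τ * (s * s) * τ⁻¹ = (τ * s * τ⁻¹) * (τ * s * τ⁻¹) := by group
          _ = b⁻¹ * (s * b⁻¹) * s := by rw [h1]; group
          _ = _ := by rw [(show Commute s b from hbs).inv_right.eq]; group
      rw [h6] at h5
      have h7 := mul_eq_right.1 h5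
      rw [← mul_assoc, h7, one_mul]
    · rw [h _ (A0.inv_mem hb), inv_inv, mul_inv_cancel_left]
  rw [mul_inv_eq_iff_eq_mul] at h4
  exact h4

theorem false_of_pow [Finite G] (hs : s * s ∉ V) (hx : ∃ m : ℕ, x = (τ * τ) ^ m) : False := by
  obtain ⟨m, hm⟩ := hx
  have h1 : Commute (τ * τ) s := C.τ_sq_s hs
  have h2 : x * s = s * x := by rw [hm]; exact (h1.pow_left m)
  have h3 := C.s_x
  rw [← h2, mul_inv_cancel_right] at h3
  exact C.z_ne (mul_left_cancel ((mul_one x).trans h3)).symm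

end SCfg

end Cfsg.Agent.GH.WAct
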