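import Cfsg.Agent.GH.WStep

/-!
# Project GH, branch GH-L3 (W): main theorem

`Base.isolated`: `T = P0 ⋊ ⟨τ⟩` a Sylow 2-subgroup of `C_G(x)`, `P0 = 4 wr 2`, no elementary abelian section of
order `32`, `x` in the kernel of every homomorphism `G → {±1}`: then `x` is isolated.
-/

set_option autoImplicit false

namespace Cfsg.Agent.GH.WAct

open Subgroup Cfsg.Agent.TwoFusion.SectionalRank

variable {G : Type*} [Group G]

theorem exists_max [Finite G] {N R : Subgroup G} (hR : IsPGroup 2 R) (hRN : R ≤ N) :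
    ∃ R1 : Subgroup G, R ≤ R1 ∧ R1 ≤ N ∧ IsPGroup 2 R1 ∧
      ∀ Q : Subgroup G, IsPGroup 2 Q → Q ≤ N → R1 ≤ Q → Q ≤ R1 := by
  have hRp : IsPGroup 2 (R.subgroupOf N) := hR.comap_of_injective N.subtype N.subtype_injective
  obtain ⟨P, hP⟩ := hRp.exists_le_sylow
  refine ⟨(P : Subgroup N).map N.subtype, ?_, ?_, P.2.map _, ?_⟩
  · intro g hg
    exact ⟨⟨g, hRN hg⟩, hP hg, rfl⟩
  · rintro _ ⟨q, -, rfl⟩
    exact q.2
  · intro Q hQ hQN hPQ g hg
    have hQp : IsPGroup 2 (Q.subgroupOf N) := hQ.comap_of_injective N.subtype N.subtype_injective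
    have h1 : (P : Subgroup N) ≤ Q.subgroupOf N := by
      intro p hp
      exact hPQ ⟨p, hp, rfl⟩
    have h2 := P.3 hQp h1
    have h3 : (⟨g, hQN hg⟩ : N) ∈ Q.subgroupOf N := hg
    rw [h2] at h3
    exact ⟨_, h3, rfl⟩

/-- splitting of an element into its 2-part and its odd part. -/
theorem exists_parts [Finite G] (c : G) : ∃ (u o : G) (k m : ℕ), u * o = c ∧ u ∈ zpowers c ∧
    o ∈ zpowers c ∧ u ^ 2 ^ k = 1 ∧ o ^ m = 1 ∧ Odd m := by
  obtain ⟨k, m, hm, hkm⟩ := Nat.exists_eq_two_pow_mul_odd (n := orderOf c) (orderOf_pos c).ne'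
  have hcop : Nat.Coprime (2 ^ k) m := Nat.Coprime.pow_left k (Nat.coprime_two_left.2 hm)
  have hb := Nat.gcd_eq_gcd_ab (2 ^ k) m
  rw [hcop.gcd_eq_one] at hb
  set a := Nat.gcdA (2 ^ k) m
  set b := Nat.gcdB (2 ^ k) m
  refine ⟨(c ^ m) ^ b, (c ^ 2 ^ k) ^ a, k, m, ?_, ?_, ?_, ?_, ?_, hm⟩
  · rw [← zpow_natCast, ← zpow_natCast, ← zpow_mul, ← zpow_mul, ← zpow_add, add_comm]
    rw [← hb]
    simp
  · exact zpow_mem (pow_mem (mem_zpowers c) _) _
  · exact zpow_mem (pow_mem (mem_zpowers c) _) _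
  · rw [← zpow_natCast, ← zpow_mul, mul_comm, zpow_mul, zpow_natCast, ← pow_mul, mul_comm m, ← hkm,
      pow_orderOf_eq_one, one_zpow]
  · rw [← zpow_natCast, ← zpow_mul, mul_comm, zpow_mul, zpow_natCast, ← pow_mul, ← hkm,
      pow_orderOf_eq_one, one_zpow]

theorem pow4 (a : G) : a ^ 2 ^ 2 = a * a * (a * a) := by
  rw [pow_mul a 2 2 |> fun h => (show a ^ 2 ^ 2 = a ^ (2 * 2) by norm_num).trans h, pow_two, pow_two]

theorem eq_one_of_pow {e : G} {k m : ℕ} (h1 : e ^ 2 ^ k = 1) (h2 : e ^ m = 1) (hm : Odd m) : e = 1 := by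
  have h3 := orderOf_dvd_of_pow_eq_one h1
  have h4 := orderOf_dvd_of_pow_eq_one h2
  have hcop : Nat.Coprime (2 ^ k) m := Nat.Coprime.pow_left k (Nat.coprime_two_left.2 hm)
  exact orderOf_eq_one_iff.1 (Nat.eq_one_of_dvd_coprimes hcop h3 h4)

namespace Base

variable {V A0 T : Subgroup G} {x τ t ρ z : G} (B : Base V A0 T x τ t ρ z)

include B

/-- The form of the elements of `Ap = C_T(V)`. -/
theorem Ap_form {g : G} (hg : g ∈ T ⊓ centralizer (V : Set G)) : ∃ a ∈ A0, ∃ i : ℕ, g = a * τ ^ i := by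
  obtain ⟨α, hα, j, i, hgf⟩ := (B.T_mem g).1 hg.1
  rcases B.t_pow j with h | h
  · exact ⟨α, hα, i, by rw [hgf, h, mul_one]⟩
  · exfalso
    have h1 := B.T_V' hα j i hgf (B.ρ_V B.z_mem)
    rw [h, B.t_rz] at h1
    have h2 := mem_centralizer_iff.1 hg.2 _ (B.ρ_V B.z_mem)
    rw [← h2, mul_inv_cancel_right] at h1
    exact B.z1_ne_z2 h1

theorem A0_le_Ap : A0 ≤ T ⊓ centralizer (V : Set G) := by
  intro g hg
  refine ⟨B.A0_le hg, mem_centralizer_iff.2 fun v hv => ?_⟩
  exact B.A0_comm v (B.V_le hv) g hg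

theorem τ_mem_Ap : τ ∈ T ⊓ centralizer (V : Set G) := by
  refine ⟨B.τ_mem, mem_centralizer_iff.2 fun v hv => ?_⟩
  have := B.τ_pow_V 1 hv
  rw [pow_one, mul_inv_eq_iff_eq_mul] at this
  exact this.symm

theorem x_mem_Ap : x ∈ T ⊓ centralizer (V : Set G) := by
  obtain ⟨m, hm⟩ := B.x_pow
  rw [hm]
  exact pow_mem B.τ_mem_Ap m

/-- Elements of `Ap` with square in `V` are in `A0 ∪ A0 x`. -/
theorem mem_of_sq {a : G} {i : ℕ} (ha : a ∈ A0) (h2 : a * τ ^ i * (a * τ ^ i) ∈ A0) :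
    τ ^ i = 1 ∨ τ ^ i = x := by
  have h4 := B.τ_pow_mem i ha
  have e : τ ^ i * τ ^ i = (a * (τ ^ i * a * (τ ^ i)⁻¹))⁻¹ * (a * τ ^ i * (a * τ ^ i)) := by group
  have h5 : τ ^ i * τ ^ i ∈ A0 := by
    rw [e]
    exact A0.mul_mem (A0.inv_mem (A0.mul_mem ha h4)) h2
  refine B.τ_inv i ?_
  have := B.τ_not (i + i) (by rw [pow_add]; exact h5)
  rwa [pow_add] at this

/-- involutions of `Ap`. -/
theorem Ap_inv {y : G} (hy : y ∈ T ⊓ centralizer (V : Set G)) (hyy : y * y = 1) :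
    y ∈ V ∨ ∃ v ∈ V, y = x * v := by
  obtain ⟨a, ha, i, rfl⟩ := B.Ap_form hy
  rcases B.mem_of_sq ha (by rw [hyy]; exact A0.one_mem) with h | h
  · left
    rw [h, mul_one] at hyy ⊢
    exact B.A0_inv a ha hyy
  · right
    rw [h] at hyy ⊢
    have h1 := B.x_comm a ha
    refine ⟨a, B.A0_inv a ha ?_, h1.symm⟩
    calc a * a = a * a * (x * x) := by rw [B.x_sq, mul_one]
      _ = a * (a * x) * x := by group
      _ = a * (x * a) * x := by rw [h1]
      _ = a * x * (a * x) := by group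
      _ = 1 := hyy

/-- an element of odd order centralising `x` and `V` and normalising `Ap` centralises `Ap`. -/
theorem odd_cent {o : G} {m : ℕ} (hom : o ^ m = 1) (hm : Odd m) (hox : o * x = x * o)
    (hoV : ∀ v ∈ V, o * v = v * o)
    (hoA : ∀ g ∈ T ⊓ centralizer (V : Set G), o * g * o⁻¹ ∈ T ⊓ centralizer (V : Set G)) :
    ∀ g ∈ T ⊓ centralizer (V : Set G), o * g = g * o := by
  -- iteration
  have iter : ∀ (g y : G), o * g * o⁻¹ = y * g → o * y = y * o → ∀ n : ℕ,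
      o ^ n * g * (o ^ n)⁻¹ = y ^ n * g := by
    intro g y h1 h2 n
    induction n with
    | zero => simp
    | succ n ih =>
      have h3 : o * y ^ n = y ^ n * o := (show Commute o y from h2).pow_right n
      calc o ^ (n + 1) * g * (o ^ (n + 1))⁻¹ = o * (o ^ n * g * (o ^ n)⁻¹) * o⁻¹ := by
            rw [pow_succ']; group
        _ = (o * y ^ n) * g * o⁻¹ := by rw [ih]; group
        _ = y ^ n * (o * g * o⁻¹) := by rw [h3]; group
        _ = y ^ (n + 1) * g := by rw [h1, pow_succ]; group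
  have conc : ∀ (g y : G) (k : ℕ), o * g * o⁻¹ = y * g → o * y = y * o → y ^ 2 ^ k = 1 →
      o * g = g * o := by
    intro g y k h1 h2 h3
    have h4 := iter g y h1 h2 m
    rw [hom] at h4
    have h5 : y ^ m = 1 := by
      have : 1 * g * 1⁻¹ = g := by group
      rw [this] at h4
      exact (mul_eq_right.1 h4.symm)
    rw [eq_one_of_pow h3 h5 hm, one_mul, mul_inv_eq_iff_eq_mul] at h1
    exact h1
  -- `A0`
  have hA0 : ∀ g ∈ A0, o * g = g * o := by
    intro g hg
    have h1 := hoA g (B.A0_le_Ap hg)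
    obtain ⟨a, ha, i, hai⟩ := B.Ap_form h1
    have h2 : o * g * o⁻¹ * (o * g * o⁻¹) = g * g := by
      calc o * g * o⁻¹ * (o * g * o⁻¹) = o * (g * g) * o⁻¹ := by group
        _ = g * g := by rw [hoV _ (B.A0_sq g hg), mul_inv_cancel_right]
    have h3 : a * τ ^ i * (a * τ ^ i) = g * g := by rw [← hai]; exact h2
    rcases B.mem_of_sq ha (by rw [h3]; exact A0.mul_mem hg hg) with h | h
    · rw [h, mul_one] at h3 hai
      have hV : a * g⁻¹ ∈ V := by
        refine B.A0_inv _ (A0.mul_mem ha (A0.inv_mem hg)) ?_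
        have c := B.A0_comm _ (A0.inv_mem hg) _ ha
        calc a * g⁻¹ * (a * g⁻¹) = a * (g⁻¹ * a) * g⁻¹ := by group
          _ = (a * a) * (g * g)⁻¹ := by rw [c]; group
          _ = 1 := by rw [h3, mul_inv_cancel]
      refine conc g (a * g⁻¹) 1 (by rw [hai]; group) (hoV _ hV) ?_
      rw [pow_one, pow_two]
      exact B.V_sq _ hV
    · rw [h] at h3 hai
      have hV : a * g⁻¹ ∈ V := by
        refine B.A0_inv _ (A0.mul_mem ha (A0.inv_mem hg)) ?_
        have c := B.A0_comm _ (A0.inv_mem hg) _ ha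
        have h4 : a * a = g * g := by
          have h5 := B.x_comm a ha
          calc a * a = a * a * (x * x) := by rw [B.x_sq, mul_one]
            _ = a * (a * x) * x := by group
            _ = a * (x * a) * x := by rw [h5]
            _ = a * x * (a * x) := by group
            _ = g * g := h3
        calc a * g⁻¹ * (a * g⁻¹) = a * (g⁻¹ * a) * g⁻¹ := by group
          _ = (a * a) * (g * g)⁻¹ := by rw [c]; group
          _ = 1 := by rw [h4, mul_inv_cancel]
      have hx1 := B.x_comm _ (A0.inv_mem hg)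
      have hx2 := B.x_comm _ (B.V_le hV)
      refine conc g (x * (a * g⁻¹)) 1 ?_ ?_ ?_
      · rw [hai, hx2]
        calc a * x = a * x * g⁻¹ * g := by group
          _ = a * (x * g⁻¹) * g := by group
          _ = a * (g⁻¹ * x) * g := by rw [hx1]
          _ = _ := by group
      · exact (show Commute o x from hox).mul_right (show Commute o _ from hoV _ hV)
      · rw [pow_one, pow_two]
        calc x * (a * g⁻¹) * (x * (a * g⁻¹)) = x * ((a * g⁻¹) * x) * (a * g⁻¹) := by group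
          _ = (x * x) * ((a * g⁻¹) * (a * g⁻¹)) := by rw [← hx2]; group
          _ = 1 := by rw [B.x_sq, B.V_sq _ hV, one_mul]
  -- powers of `τ`
  obtain ⟨k, hk⟩ := B.τ_two
  have hτ : ∀ i : ℕ, o * (τ ^ i * τ ^ i) = (τ ^ i * τ ^ i) * o → o * τ ^ i = τ ^ i * o := by
    intro i hi
    have h1 := hoA _ (pow_mem B.τ_mem_Ap i)
    obtain ⟨a, ha, j, hai⟩ := B.Ap_form h1
    have h2 : a * τ ^ j * (a * τ ^ j) = τ ^ i * τ ^ i := by
      rw [← hai]
      calc o * τ ^ i * o⁻¹ * (o * τ ^ i * o⁻¹) = o * (τ ^ i * τ ^ i) * o⁻¹ := by group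
        _ = _ := by rw [hi, mul_inv_cancel_right]
    -- `τ ^ l = τ ^ i τ ^ (-j)`
    set l := i + j * (2 ^ k - 1) with hl
    have hkpos : 0 < 2 ^ k := by positivity
    have hτl : τ ^ l * τ ^ j = τ ^ i := by
      rw [← pow_add, hl]
      have : i + j * (2 ^ k - 1) + j = i + 2 ^ k * j := by
        have h3 : 2 ^ k - 1 + 1 = 2 ^ k := Nat.sub_add_cancel hkpos
        calc i + j * (2 ^ k - 1) + j = i + j * (2 ^ k - 1 + 1) := by ring
          _ = i + 2 ^ k * j := by rw [h3]; ring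
      rw [this, pow_add, pow_mul, hk, one_pow, mul_one]
    have hcomm : τ ^ l * τ ^ j = τ ^ j * τ ^ l := (Commute.refl τ).pow_pow l j
    have h4 := B.τ_pow_mem j ha
    have h5 : τ ^ l * τ ^ l = a * (τ ^ j * a * (τ ^ j)⁻¹) := by
      have h6 : a * (τ ^ j * a * (τ ^ j)⁻¹) * (τ ^ j * τ ^ j) = τ ^ i * τ ^ i := by
        rw [← h2]; group
      have h7 : τ ^ i * τ ^ i = τ ^ l * τ ^ l * (τ ^ j * τ ^ j) := by
        rw [← hτl]
        calc τ ^ l * τ ^ j * (τ ^ l * τ ^ j) = τ ^ l * (τ ^ j * τ ^ l) * τ ^ j := by group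
          _ = τ ^ l * (τ ^ l * τ ^ j) * τ ^ j := by rw [hcomm]
          _ = _ := by group
      rw [h7] at h6
      exact (mul_right_cancel h6).symm
    have h6 : τ ^ l * τ ^ l = 1 := by
      have := B.τ_not (l + l) (by rw [pow_add, h5]; exact A0.mul_mem ha h4)
      rwa [pow_add] at this
    have h7 : τ ^ l = 1 ∨ τ ^ l = x := B.τ_inv l h6
    have ha4 : a ^ 2 ^ 2 = 1 := by
      rw [pow4, B.V_sq _ (B.A0_sq a ha)]
    rcases h7 with h7 | h7
    · rw [h7, one_mul] at hτl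
      refine conc (τ ^ i) a 2 ?_ (hA0 a ha) ha4
      rw [hai, hτl]
    · rw [h7] at hτl
      have hxa := B.x_comm a ha
      have h8 : τ ^ j = x * τ ^ i := by rw [← hτl, ← mul_assoc, B.x_sq, one_mul]
      refine conc (τ ^ i) (a * x) 2 ?_ ?_ ?_
      · rw [hai, h8]; group
      · exact (show Commute o a from hA0 a ha).mul_right (show Commute o x from hox)
      · have hx4 : x ^ 2 ^ 2 = 1 := by rw [pow4, B.x_sq, one_mul]
        rw [((show Commute a x from hxa.symm).mul_pow), ha4, hx4, one_mul]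
  have hτ2 : ∀ n : ℕ, n ≤ k → o * τ ^ 2 ^ (k - n) = τ ^ 2 ^ (k - n) * o := by
    intro n
    induction n with
    | zero => intro _; rw [Nat.sub_zero, hk]; simp
    | succ n ih =>
      intro hn
      apply hτ
      rw [← pow_add, ← two_mul, ← pow_succ']
      have : k - (n + 1) + 1 = k - n := by omega
      rw [this]
      exact ih (by omega)
  have hτ1 : o * τ = τ * o := by
    have := hτ2 k le_rfl
    rwa [Nat.sub_self, pow_zero, pow_one] at this
  intro g hg
  obtain ⟨a, ha, i, rfl⟩ := B.Ap_form hg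
  exact (show Commute o a from hA0 a ha).mul_right ((show Commute o τ from hτ1).pow_right i)

end Base

end Cfsg.Agent.GH.WAct
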