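import Cfsg.Agent.GH.WBase
import Cfsg.Agent.GH.EDefs

/-!
# Project GH, branch GH-L3 (W): `x` is isolated, or `N_G(T)` moves `x` to `xz`
-/

set_option autoImplicit false

namespace Cfsg.Agent.GH.WAct

open Subgroup Cfsg.Agent.TwoFusion.SectionalRank

variable {G : Type*} [Group G]

/-- Sylow's theorem in a subgroup `N`. -/
theorem conj_into [Finite G] {N T Y : Subgroup G} (hT : IsPGroup 2 T) (hTN : T ≤ N)
    (hmax : ∀ Q : Subgroup G, IsPGroup 2 Q → Q ≤ N → T ≤ Q → Q ≤ T) (hY : IsPGroup 2 Y)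
    (hYN : Y ≤ N) : ∃ c ∈ N, ∀ y ∈ Y, c * y * c⁻¹ ∈ T := by
  have : Fact (Nat.Prime 2) := ⟨Nat.prime_two⟩
  have hTp : IsPGroup 2 (T.subgroupOf N) := hT.comap_of_injective N.subtype N.subtype_injective
  have hYp : IsPGroup 2 (Y.subgroupOf N) := hY.comap_of_injective N.subtype N.subtype_injective
  obtain ⟨P, hP⟩ := hTp.exists_le_sylow
  obtain ⟨Q, hQ⟩ := hYp.exists_le_sylow
  have hP2 : (P : Subgroup N).map N.subtype ≤ T := by
    refine hmax _ (P.2.map _) ?_ ?_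
    · rintro _ ⟨q, -, rfl⟩
      exact q.2
    · intro g hg
      exact ⟨⟨g, hTN hg⟩, hP hg, rfl⟩
  obtain ⟨c, hc⟩ := MulAction.exists_smul_eq N Q P
  refine ⟨c, c.2, fun y hy => ?_⟩
  apply hP2
  refine ⟨c * ⟨y, hYN hy⟩ * c⁻¹, ?_, rfl⟩
  have h1 : (⟨y, hYN hy⟩ : N) ∈ Q := hQ hy
  rw [← hc]
  have h2 : c * ⟨y, hYN hy⟩ * c⁻¹ ∈ ((c • Q : Sylow 2 N) : Subgroup N) := by
    rw [Sylow.coe_subgroup_smul]
    exact Subgroup.smul_mem_pointwise_smul _ (MulAut.conj c) _ h1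
  exact h2

theorem isPGroup_zpowers {y : G} {n : ℕ} (hn : y ^ 2 ^ n = 1) : IsPGroup 2 (zpowers y) := by
  rintro ⟨_, k, rfl⟩
  refine ⟨n, Subtype.ext ?_⟩
  show (y ^ k) ^ 2 ^ n = 1
  rw [← zpow_natCast, ← zpow_mul, mul_comm, zpow_mul, zpow_natCast, hn, one_zpow]

namespace Base

variable {V A0 T : Subgroup G} {x τ t ρ z : G} (B : Base V A0 T x τ t ρ z)

include B

theorem max [Finite G] {Q : Subgroup G} (hQ : IsPGroup 2 Q) (hQx : ∀ q ∈ Q, q * x = x * q)
    (hTQ : T ≤ Q) : Q ≤ T := by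
  have h1 := B.cent_card Q hQ hQx
  exact (Subgroup.eq_of_le_of_card_ge hTQ h1).ge

theorem T_le_cent : T ≤ centralizer ({x} : Set G) := fun _ hg =>
  mem_centralizer_singleton_iff.2 (B.T_x hg)

/-- The case `N_G(T) ≤ C_G(x)`. -/
theorem isolated_of_norm [Finite G] (hfix : ∀ n : G, (∀ g ∈ T, n * g * n⁻¹ ∈ T) → n * x * n⁻¹ = x) :
    E.Isolated x := by
  have : Fact (Nat.Prime 2) := ⟨Nat.prime_two⟩
  -- `T` is a Sylow subgroup
  obtain ⟨P, hP⟩ := B.T_p.exists_le_sylow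
  have hPT : T = (P : Subgroup G) := by
    by_contra hne
    obtain ⟨y, hyP, hyT, hy⟩ := exists_mem_normalizer P.2 hP hne
    have h1 : y * x = x * y := by
      have h2 := hfix y hy
      rwa [mul_inv_eq_iff_eq_mul] at h2
    have h3 : (P : Subgroup G) ⊓ centralizer ({x} : Set G) ≤ T := by
      refine B.max (P.2.to_le inf_le_left) ?_ ?_
      · intro q hq
        exact mem_centralizer_singleton_iff.1 hq.2
      · intro g hg
        exact ⟨hP hg, B.T_le_cent hg⟩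
    exact hyT (h3 ⟨hyP, mem_centralizer_singleton_iff.2 h1⟩)
  intro g hg
  set y := g * x * g⁻¹ with hy
  have hyy : y * y = 1 := by
    rw [hy, show g * x * g⁻¹ * (g * x * g⁻¹) = g * (x * x) * g⁻¹ by group, B.x_sq, mul_one,
      mul_inv_cancel]
  have hy1 : y ≠ 1 := by
    intro h
    apply B.x_ne
    have : x = g⁻¹ * (g * x * g⁻¹) * g := by group
    rw [this, ← hy, h]
    group
  obtain ⟨c, hc, hcy⟩ := conj_into (N := centralizer ({x} : Set G)) (Y := zpowers y) B.T_p B.T_le_cent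
    (fun Q hQ hQN hTQ => B.max hQ (fun q hq => mem_centralizer_singleton_iff.1 (hQN hq)) hTQ)
    (isPGroup_zpowers (n := 1) (by rw [pow_one, pow_two, hyy]))
    (by rw [zpowers_le, mem_centralizer_singleton_iff]; exact hg.symm)
  have hcx := mem_centralizer_singleton_iff.1 hc
  have hcT := hcy y (mem_zpowers y)
  have h1 : c * y * c⁻¹ * (c * y * c⁻¹) = 1 := by
    rw [show c * y * c⁻¹ * (c * y * c⁻¹) = c * (y * y) * c⁻¹ by group, hyy, mul_one, mul_inv_cancel]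
  obtain ⟨p, hp, hpp, hyp⟩ := B.T_inv hcT h1
  have hz : z ∈ T := B.A0_le (B.V_le B.z_mem)
  have hcz : ∀ g ∈ T, g * z = z * g := by
    intro g hg
    have := B.T_z hg
    rwa [mul_inv_eq_iff_eq_mul] at this
  have cx : x ∈ centralizer (P : Set G) := by
    rw [mem_centralizer_iff]
    intro k hk
    exact B.T_x (hPT ▸ hk)
  have cz : z ∈ centralizer (P : Set G) := by
    rw [mem_centralizer_iff]
    intro k hk
    exact hcz k (hPT ▸ hk)
  -- central involutions other than `x` are not conjugate to `x`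
  have key : ∀ (u k : G), u ∈ centralizer (P : Set G) → k * x * k⁻¹ = u → u = x := by
    intro u k hu hk
    obtain ⟨n, hn, hnx⟩ := P.conj_eq_normalizer_conj_of_mem_centralizer x k⁻¹ cx
      (by rw [inv_inv, hk]; exact hu)
    rw [inv_inv, hk] at hnx
    have hn' : n⁻¹ ∈ normalizer (P : Set G) := inv_mem hn
    have h3 := hfix n⁻¹ (fun g hg => by
      rw [hPT] at hg ⊢
      exact (mem_normalizer_iff.1 hn' g).1 hg)
    rw [inv_inv] at h3
    rw [hnx, h3]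
  by_cases hp1 : p = 1
  · have h2 : c * y * c⁻¹ = x := by
      rcases hyp with h | h
      · exfalso
        apply hy1
        have : y = c⁻¹ * (c * y * c⁻¹) * c := by group
        rw [this, h, hp1]
        group
      · rw [h, hp1, one_mul]
    have h4 : y = c⁻¹ * x * c := by rw [← h2]; group
    rw [h4, mul_assoc, ← hcx, inv_mul_cancel_left]
  · exfalso
    obtain ⟨k, hkx, hkp⟩ := B.star' hp hpp hp1
    rcases hyp with h | h
    · -- `x ~ z`
      have h2 := key z (k * c * g) cz (by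
        rw [← hkp, ← h, hy]; group)
      exact B.x_not (h2 ▸ B.V_le B.z_mem)
    · have h3 : k * (c * y * c⁻¹) * k⁻¹ = z * x := by
        rw [h, ← hkp]
        have h4 : k * (p * x) * k⁻¹ = k * p * (x * k⁻¹) := by group
        have h5 : x * k⁻¹ = k⁻¹ * x := ((show Commute k x from hkx).inv_left).eq.symm
        rw [h4, h5]
        group
      have h2 := key (z * x) (k * c * g) (mul_mem cz cx) (by
        rw [← h3, hy]; group)
      exact B.z_ne (mul_eq_right.1 h2)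

/-- fusion of involutions of `T`, when `x` is conjugate to `xz` and not to `z`. -/
theorem mem_P0 (hzx : ∀ g : G, g * x * g⁻¹ ≠ z) (hxz : ∃ g : G, g * x * g⁻¹ = x * z) {y : G}
    (hy : y ∈ T) (hyy : y * y = 1) (hyz : ∃ k : G, k * y * k⁻¹ = z) : y ∈ A0 ∨ ∃ α ∈ A0, y = α * t := by
  obtain ⟨p, hp, hpp, hyp⟩ := B.T_inv hy hyy
  rcases hyp with h | h
  · rw [h]; exact hp
  · exfalso
    obtain ⟨k0, hk0⟩ := hyz
    by_cases hp1 : p = 1
    · rw [hp1, one_mul] at h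
      exact hzx k0 (h ▸ hk0)
    · obtain ⟨k, hkx, hkp⟩ := B.star' hp hpp hp1
      obtain ⟨g, hg⟩ := hxz
      have h3 : k * y * k⁻¹ = x * z := by
        have h4 : k * (p * x) * k⁻¹ = k * p * (x * k⁻¹) := by group
        have h5 : x * k⁻¹ = k⁻¹ * x := ((show Commute k x from hkx).inv_left).eq.symm
        rw [h, h4, h5, B.x_comm z (B.V_le B.z_mem), ← hkp]
        group
      have h6 : y = (k⁻¹ * g) * x * (k⁻¹ * g)⁻¹ := by
        have : y = k⁻¹ * (k * y * k⁻¹) * k := by group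
        rw [this, h3, ← hg]
        group
      apply hzx (k0 * (k⁻¹ * g))
      rw [← hk0, h6]
      group

/-- `N_G(T)` normalises `V`. -/
theorem norm_V (hzx : ∀ g : G, g * x * g⁻¹ ≠ z) (hxz : ∃ g : G, g * x * g⁻¹ = x * z) {n : G}
    (hn : ∀ g ∈ T, n * g * n⁻¹ ∈ T) (hn' : ∀ g ∈ T, n⁻¹ * g * n ∈ T) {v : G} (hv : v ∈ V) :
    n * v * n⁻¹ ∈ V := by
  by_cases hv1 : v = 1
  · rw [hv1, mul_one, mul_inv_cancel]
    exact V.one_mem
  set y := n * v * n⁻¹ with hy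
  have hyT : y ∈ T := hn v (B.A0_le (B.V_le hv))
  have hyy : y * y = 1 := by
    calc y * y = n * (v * v) * n⁻¹ := by rw [hy]; group
      _ = 1 := by rw [B.V_sq v hv]; group
  obtain ⟨k, -, hk⟩ := B.starV hv hv1
  rcases B.mem_P0 hzx hxz hyT hyy ⟨k * n⁻¹, by rw [← hk, hy]; group⟩ with h | ⟨α, hα, h⟩
  · exact B.A0_inv _ h hyy
  · exfalso
    obtain ⟨a, ha, haa, hz⟩ := B.exists_a
    have haT := B.A0_le ha
    -- `[a, y]` has order `4`, but lies in `n V n⁻¹`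
    have h1 : n⁻¹ * a * n ∈ T := hn' a haT
    have h2 := B.T_V h1 hv
    have h3 : (n⁻¹ * a * n) * v * (n⁻¹ * a * n)⁻¹ * v⁻¹ ∈ V := V.mul_mem h2 (V.inv_mem hv)
    have h4 : a * y * a⁻¹ * y⁻¹ = n * ((n⁻¹ * a * n) * v * (n⁻¹ * a * n)⁻¹ * v⁻¹) * n⁻¹ := by
      rw [hy]; group
    have h5 : (a * y * a⁻¹ * y⁻¹) * (a * y * a⁻¹ * y⁻¹) = 1 := by
      rw [h4]
      calc _ = n * (((n⁻¹ * a * n) * v * (n⁻¹ * a * n)⁻¹ * v⁻¹) *
            ((n⁻¹ * a * n) * v * (n⁻¹ * a * n)⁻¹ * v⁻¹)) * n⁻¹ := by group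
        _ = 1 := by rw [B.V_sq _ h3]; group
    have h6 : a * y * a⁻¹ * y⁻¹ = a * t * a⁻¹ * t⁻¹ := by
      have h7 := B.A0_comm α hα _ (B.t_A0 _ (A0.inv_mem ha))
      calc a * y * a⁻¹ * y⁻¹ = a * (α * (t * a⁻¹ * t⁻¹)) * α⁻¹ := by rw [h]; group
        _ = a * (t * a⁻¹ * t⁻¹) := by rw [h7]; group
        _ = _ := by group
    rw [h6, hz] at h5
    exact B.z_ne h5

end Base

/-- The situation after Step 1. -/
structure Base2 (V A0 T : Subgroup G) (x τ t ρ z s : G) : Prop extends Base V A0 T x τ t ρ z where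
  s_T : ∀ g ∈ T, s * g * s⁻¹ ∈ T
  s_T' : ∀ g ∈ T, s⁻¹ * g * s ∈ T
  R_p : IsPGroup 2 (T ⊔ zpowers s : Subgroup G)
  s_x : s * x * s⁻¹ = x * z
  s_V : ∀ v ∈ V, s * v = v * s
  zx : ∀ g : G, g * x * g⁻¹ ≠ z

theorem Base.exists_base2 [Finite G] {V A0 T : Subgroup G} {x τ t ρ z : G}
    (B : Base V A0 T x τ t ρ z) (h : ¬ E.Isolated x) : ∃ s : G, Base2 V A0 T x τ t ρ z s := by
  have h1 : ∃ n : G, (∀ g ∈ T, n * g * n⁻¹ ∈ T) ∧ n * x * n⁻¹ ≠ x := by
    by_contra hcon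
    push Not at hcon
    exact h (B.isolated_of_norm hcon)
  obtain ⟨n, hn, hnx⟩ := h1
  have hnN : n ∈ normalizer (T : Set G) := mem_normalizer_fintype (S := (T : Set G)) hn
  have inN : ∀ n ∈ normalizer (T : Set G), (∀ g ∈ T, n * g * n⁻¹ ∈ T) ∧ (∀ g ∈ T, n⁻¹ * g * n ∈ T) := by
    intro n hn
    exact ⟨fun g hg => (mem_normalizer_iff.1 hn g).1 hg, fun g hg => (mem_normalizer_iff''.1 hn g).1 hg⟩
  have hxz := (B.norm_x (inN n hnN).1 (inN n hnN).2).resolve_left hnx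
  -- the 2-part of `n`
  obtain ⟨k, m, hm, hkm⟩ := Nat.exists_eq_two_pow_mul_odd (n := orderOf n) (orderOf_pos n).ne'
  obtain ⟨l, rfl⟩ := hm
  set s0 := n ^ (2 * l + 1) with hs0
  have hs0N : s0 ∈ normalizer (T : Set G) := pow_mem hnN _
  have hnz := B.norm_z hn
  have hn2 : Commute (n * n) x := by
    have h2 : n * n * x * (n * n)⁻¹ = x := by
      calc n * n * x * (n * n)⁻¹ = n * (n * x * n⁻¹) * n⁻¹ := by group
        _ = n * (x * z) * n⁻¹ := by rw [hxz]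
        _ = (n * x * n⁻¹) * (n * z * n⁻¹) := by group
        _ = x * (z * z) := by rw [hxz, hnz]; group
        _ = x := by rw [B.V_sq z B.z_mem, mul_one]
    rw [mul_inv_eq_iff_eq_mul] at h2
    exact h2
  have hs0x : s0 * x * s0⁻¹ = x * z := by
    have e : s0 = n * (n * n) ^ l := by rw [hs0, pow_succ', pow_mul, pow_two]
    have c := (hn2.pow_left l).eq
    calc s0 * x * s0⁻¹ = n * ((n * n) ^ l * x) * ((n * n) ^ l)⁻¹ * n⁻¹ := by rw [e]; group
      _ = n * (x * (n * n) ^ l) * ((n * n) ^ l)⁻¹ * n⁻¹ := by rw [c]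
      _ = n * x * n⁻¹ := by group
      _ = x * z := hxz
  have hs0p : IsPGroup 2 (zpowers s0) := by
    refine isPGroup_zpowers (n := k) ?_
    rw [hs0, ← pow_mul, mul_comm, ← hkm, pow_orderOf_eq_one]
  have hs0z := B.norm_z (inN s0 hs0N).1
  have hR : IsPGroup 2 (T ⊔ zpowers s0 : Subgroup G) := by
    refine IsPGroup.to_sup_of_normal_left' B.T_p hs0p ?_
    rw [zpowers_le]
    exact hs0N
  have hs0T : s0 ∉ T := by
    intro h2
    have h3 := B.T_x h2
    rw [h3, mul_inv_cancel_right] at hs0x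
    exact B.z_ne (mul_left_cancel ((mul_one x).trans hs0x)).symm
  have hzx : ∀ g : G, g * x * g⁻¹ ≠ z := by
    intro g hg
    let Q : Subgroup G := (T ⊔ zpowers s0 : Subgroup G).map (MulAut.conj g⁻¹).toMonoidHom
    have hRz : T ⊔ zpowers s0 ≤ centralizer ({z} : Set G) := by
      refine sup_le ?_ ?_
      · intro y hy
        rw [mem_centralizer_singleton_iff]
        have := B.T_z hy
        rwa [mul_inv_eq_iff_eq_mul] at this
      · rw [zpowers_le, mem_centralizer_singleton_iff]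
        rwa [mul_inv_eq_iff_eq_mul] at hs0z
    have hc : Nat.card Q = Nat.card (T ⊔ zpowers s0 : Subgroup G) :=
      (Nat.card_congr ((T ⊔ zpowers s0 : Subgroup G).equivMapOfInjective _
        (MulAut.conj g⁻¹).injective).toEquiv).symm
    have h2 := B.cent_card Q (hR.map _) (by
      rintro _ ⟨y, hy, rfl⟩
      have h3 := mem_centralizer_singleton_iff.1 (hRz hy)
      show g⁻¹ * y * g⁻¹⁻¹ * x = x * (g⁻¹ * y * g⁻¹⁻¹)
      have hx : x = g⁻¹ * z * g := by rw [← hg]; group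
      rw [hx]
      calc g⁻¹ * y * g⁻¹⁻¹ * (g⁻¹ * z * g) = g⁻¹ * (y * z) * g := by group
        _ = g⁻¹ * (z * y) * g := by rw [h3]
        _ = _ := by group)
    have h4 := two_mul_card_le (H := T) (K := T ⊔ zpowers s0) le_sup_left
      (mem_sup_right (mem_zpowers s0)) hs0T
    have h5 : 0 < Nat.card T := Nat.card_pos
    omega
  have hV := fun (v : G) (hv : v ∈ V) => B.norm_V hzx ⟨n, hxz⟩ (inN s0 hs0N).1 (inN s0 hs0N).2 hv
  -- action on `z₁`
  have hcent : ∀ s1 : G, (∀ v ∈ V, s1 * v * s1⁻¹ ∈ V) → s1 * z * s1⁻¹ = z →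
      s1 * (ρ * z * ρ⁻¹) * s1⁻¹ = ρ * z * ρ⁻¹ → ∀ v ∈ V, s1 * v = v * s1 := by
    intro s1 _ h2 h3 v hv
    rw [mul_inv_eq_iff_eq_mul] at h2 h3
    rcases B.V_eq v hv with rfl | rfl | rfl | rfl
    · simp
    · exact h2
    · exact h3
    · rw [← B.z_z1]
      exact ((show Commute s1 z from h2).mul_right (show Commute s1 _ from h3))
  have hz1 := hV _ (B.ρ_V B.z_mem)
  have back : ∀ y w : G, s0 * y * s0⁻¹ = w → y = s0⁻¹ * w * s0 := by
    intro y w h2; rw [← h2]; group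
  rcases B.V_eq _ hz1 with h2 | h2 | h2 | h2
  · exfalso
    apply B.z1_ne_one
    rw [back _ _ h2]; group
  · exfalso
    have h3 : s0⁻¹ * z * s0 = z := by rw [← back z z hs0z]
    exact B.z1_ne_z ((back _ _ h2).trans h3)
  · exact ⟨s0, B, (inN s0 hs0N).1, (inN s0 hs0N).2, hR, hs0x, hcent s0 hV hs0z h2, hzx⟩
  · have htN : t ∈ normalizer (T : Set G) := le_normalizer B.t_mem
    have hs1N : s0 * t ∈ normalizer (T : Set G) := mul_mem hs0N htN
    refine ⟨s0 * t, B, (inN _ hs1N).1, (inN _ hs1N).2, ?_, ?_, ?_, hzx⟩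
    · refine hR.to_le (sup_le le_sup_left ?_)
      rw [zpowers_le]
      exact mul_mem (mem_sup_right (mem_zpowers s0)) (mem_sup_left B.t_mem)
    · calc s0 * t * x * (s0 * t)⁻¹ = s0 * (t * x) * t⁻¹ * s0⁻¹ := by group
        _ = s0 * x * s0⁻¹ := by rw [B.t_x]; group
        _ = x * z := hs0x
    · refine hcent _ ?_ ?_ ?_
      · intro v hv
        have := hV _ (B.t_V hv)
        have e : s0 * t * v * (s0 * t)⁻¹ = s0 * (t * v * t⁻¹) * s0⁻¹ := by group
        rw [e]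
        exact this
      · have e : s0 * t * z * (s0 * t)⁻¹ = s0 * (t * z * t⁻¹) * s0⁻¹ := by group
        rw [e, B.t_z, hs0z]
      · have e : s0 * t * (ρ * z * ρ⁻¹) * (s0 * t)⁻¹ = s0 * (t * (ρ * z * ρ⁻¹) * t⁻¹) * s0⁻¹ := by group
        rw [e, B.t_rz, ← B.z_z1]
        calc s0 * (z * (ρ * z * ρ⁻¹)) * s0⁻¹ = (s0 * z * s0⁻¹) * (s0 * (ρ * z * ρ⁻¹) * s0⁻¹) := by group
          _ = z * (z * (ρ * z * ρ⁻¹)) := by rw [hs0z, h2, B.z_z1]
          _ = ρ * z * ρ⁻¹ := by rw [← mul_assoc, B.V_sq z B.z_mem, one_mul]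

end Cfsg.Agent.GH.WAct
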